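import Mathlib
import Groth.Agent.Lib.Helper3.AssPoints

/-! Left exactness of sections of O_X-modules; associated points and short exact sequences
(helper27). -/

set_option autoImplicit false
universe u
open CategoryTheory CategoryTheory.Limits AlgebraicGeometry TopologicalSpace Opposite

namespace Groth.Agent.Lib.Helper27.ModSections

variable {X : Scheme.{u}}

/-- The map on sections over `U` of a morphism of `O_X`-modules as a `Γ(X,U)`-linear map. -/
noncomputable def appₗ {M N : X.Modules} (φ : M ⟶ N) (U : X.Opens) : Γ(M, U) →ₗ[Γ(X, U)] Γ(N, U) where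
  toFun := φ.app U
  map_add' := map_add _
  map_smul' := fun r m => Scheme.Modules.Hom.app_smul φ r m

theorem appₗ_apply {M N : X.Modules} (φ : M ⟶ N) (U : X.Opens) (m : Γ(M, U)) :
    appₗ φ U m = φ.app U m := rfl

theorem sections_left_exact (S : ShortComplex X.Modules) (hS : S.ShortExact) (U : X.Opens) :
    Function.Injective (appₗ S.f U) ∧ Function.Exact (appₗ S.f U) (appₗ S.g U) := by
  let F : X.Modules ⥤ Ab := Scheme.Modules.toPresheaf X ⋙ (evaluation _ _).obj (op U)
  have i1 : PreservesFiniteLimits (Scheme.Modules.toPresheaf X) :=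
    PreservesLimits.preservesFiniteLimits _
  have i2 : PreservesFiniteLimits ((evaluation (Opens ↥X)ᵒᵖ Ab).obj (op U)) :=
    PreservesLimits.preservesFiniteLimits _
  have : PreservesFiniteLimits F := comp_preservesFiniteLimits _ _
  have : F.PreservesZeroMorphisms := by
    refine ⟨fun M N => ?_⟩
    rfl
  have := hS.mono_f
  have hex : (S.map F).Exact :=
    hS.exact.map_of_mono_of_preservesKernel F hS.mono_f inferInstance
  have hmono : Mono (F.map S.f) := inferInstance
  constructor
  · have := (AddCommGrpCat.mono_iff_injective (F.map S.f)).mp hmono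
    exact this
  · have := (ShortComplex.ab_exact_iff_function_exact (S.map F)).mp hex
    exact this

end Groth.Agent.Lib.Helper27.ModSections

namespace Groth.Agent.Lib.Helper27.ModSections

open Groth.Agent.Lib.Helper3

variable {X : Scheme.{u}}

theorem exists_affine_nbhd (x : X) : ∃ (U : X.Opens) (_ : IsAffineOpen U), x ∈ U := by
  obtain ⟨_, ⟨U, hU, rfl⟩, hxU, -⟩ :=
    X.isBasis_affineOpens.exists_subset_of_mem_open (Set.mem_univ x) isOpen_univ
  exact ⟨U, hU, hxU⟩

/-- On a locally Noetherian scheme, for a quasi-coherent module: `x` is an associated point iff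
its prime in an affine chart is an associated prime of the module of sections. -/
theorem isAssPoint_iff [IsLocallyNoetherian X] (F : X.Modules) [F.IsQuasicoherent]
    {U : X.Opens} (hU : IsAffineOpen U) (x : X) (hx : x ∈ U) :
    Curv2.IsAssPoint F x ↔
      (hU.primeIdealOf ⟨x, hx⟩).asIdeal ∈ associatedPrimes Γ(X, U) Γ(F, U) := by
  have : IsNoetherianRing Γ(X, U) := IsLocallyNoetherian.component_noetherian ⟨U, hU⟩
  have hfg : (hU.primeIdealOf ⟨x, hx⟩).asIdeal.FG :=
    (isNoetherianRing_iff_ideal_fg _).mp this _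
  exact ⟨QS.mem_associatedPrimes_of_isAssPoint hU F x hx hfg,
    QS.isAssPoint_of_mem_associatedPrimes hU F x hx⟩

theorem ass_of_shortExact [IsLocallyNoetherian X] (S : ShortComplex X.Modules)
    (hS : S.ShortExact) (h₁ : S.X₁.IsQuasicoherent) (h₂ : S.X₂.IsQuasicoherent)
    (h₃ : S.X₃.IsQuasicoherent) :
    {x | Curv2.IsAssPoint S.X₁ x} ⊆ {x | Curv2.IsAssPoint S.X₂ x} ∧
      {x | Curv2.IsAssPoint S.X₂ x} ⊆ {x | Curv2.IsAssPoint S.X₁ x} ∪ {x | Curv2.IsAssPoint S.X₃ x} := by
  constructor
  · intro x hx
    obtain ⟨U, hU, hxU⟩ := exists_affine_nbhd x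
    simp only [Set.mem_ofPred_eq] at hx ⊢
    rw [isAssPoint_iff _ hU x hxU] at hx ⊢
    exact associatedPrimes.subset_of_injective (f := appₗ S.f U) (sections_left_exact S hS U).1 hx
  · intro x hx
    obtain ⟨U, hU, hxU⟩ := exists_affine_nbhd x
    simp only [Set.mem_ofPred_eq, Set.mem_union] at hx ⊢
    rw [isAssPoint_iff _ hU x hxU] at hx
    rw [isAssPoint_iff _ hU x hxU, isAssPoint_iff _ hU x hxU]
    exact associatedPrimes.subset_union_of_exact (f := appₗ S.f U) (g := appₗ S.g U)
      (sections_left_exact S hS U).1 (sections_left_exact S hS U).2 hx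

end Groth.Agent.Lib.Helper27.ModSections
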