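import Groth.Agent.Lib.Helper27.NagTate3
import Groth.Agent.Lib.Helper26.RegularNormal
import Groth.Agent.Lib.Helper26.RegularCompletion
import Groth.Agent.Lib.Helper15.ComplSurj
import Groth.Agent.Lib.Helper5.RegQuot
import Groth.Agent.Lib.Helper7.PowSerCRing
import Groth.Agent.S0581

/-!
# Complete Noetherian local rings are Nagata

* `isAdicComplete_of_le`: a Noetherian `I`-adically complete ring is `J`-adically complete for
  every `J ≤ I`.
* `isN2_of_complete_regular`: complete regular local rings are N-2 (induction on the dimension,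
  using Tate's lemma).
* `isN2_of_complete_domain`: complete Noetherian local domains are N-2 (Cohen structure theorem).
* `isNagata_of_complete`.
-/

set_option autoImplicit false
set_option linter.style.haveILetI false

universe u

namespace Groth.Agent.Lib.Helper27.NagCompl

open IsLocalRing Groth.Agent.Lib.Helper12

theorem isAdicComplete_of_le {R : Type*} [CommRing R] [IsNoetherianRing R] (I J : Ideal R)
    [IsAdicComplete I R] (hJI : J ≤ I) : IsAdicComplete J R := by
  have hjac : I ≤ Ideal.jacobson ⊥ := IsAdicComplete.le_jacobson_bot I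
  haveI : IsHausdorff J R := IsHausdorff.of_le_jacobson J R (hJI.trans hjac)
  refine { toIsHausdorff := inferInstance, toIsPrecomplete := ⟨?_⟩ }
  intro f hf
  have hf' : ∀ {m n}, m ≤ n → f m ≡ f n [SMOD (I ^ m • ⊤ : Submodule R R)] := by
    intro m n hmn
    have := hf hmn
    rw [SModEq.sub_mem, smul_eq_mul, Ideal.mul_top] at this ⊢
    exact Ideal.pow_right_mono hJI m this
  obtain ⟨L, hL⟩ := IsPrecomplete.prec' (I := I) f hf'
  refine ⟨L, fun n => ?_⟩
  rw [SModEq.sub_mem, smul_eq_mul, Ideal.mul_top]
  haveI : IsHausdorff I (R ⧸ J ^ n) := IsHausdorff.of_le_jacobson I _ hjac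
  rw [← Ideal.Quotient.eq_zero_iff_mem]
  apply IsHausdorff.haus' (I := I)
  intro k
  rw [SModEq.zero]
  -- `f n - L = (f n - f (max n k)) + (f (max n k) - L)`
  have h1 : f n - f (max n k) ∈ J ^ n := by
    have := hf (le_max_left n k)
    rwa [SModEq.sub_mem, smul_eq_mul, Ideal.mul_top] at this
  have h2 : f (max n k) - L ∈ I ^ k := by
    have := hL (max n k)
    rw [SModEq.sub_mem, smul_eq_mul, Ideal.mul_top] at this
    exact Ideal.pow_le_pow_right (le_max_right n k) this
  have h3 : Ideal.Quotient.mk (J ^ n) (f n - L) = Ideal.Quotient.mk (J ^ n) (f (max n k) - L) := by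
    rw [Ideal.Quotient.eq]
    have : f n - L - (f (max n k) - L) = f n - f (max n k) := by ring
    rw [this]
    exact h1
  rw [h3]
  have h4 : (I ^ k • ⊤ : Submodule R (R ⧸ J ^ n)) =
      ((I ^ k).map (Ideal.Quotient.mk (J ^ n))).restrictScalars R := by
    rw [Ideal.smul_top_eq_map]
    rfl
  rw [h4, Submodule.restrictScalars_mem]
  exact Ideal.mem_map_of_mem _ h2

open Groth.Agent.Lib.Helper9 Groth.Agent.Lib.Helper5 Groth.Agent.Lib.Helper26 in
/-- Complete regular local rings are N-2. -/
theorem isN2_of_complete_regular : ∀ (d : ℕ) (P : Type u) [CommRing P] [IsDomain P]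
    [IsRegularLocalRing P] [IsAdicComplete (maximalIdeal P) P],
    (maximalIdeal P).spanFinrank = d → CAlg.IsN2 P := by
  intro d
  induction d with
  | zero =>
    intro P _ _ _ _ hd
    have hbot : maximalIdeal P = ⊥ :=
      (Submodule.spanFinrank_eq_zero_iff_eq_bot (IsNoetherian.noetherian _)).mp hd
    have hF : IsField P := IsLocalRing.isField_iff_maximalIdeal_eq.mpr hbot
    rw [NagataLoc.isN2_iff_N2']
    letI := hF.toField
    exact N2.N2'_field P
  | succ d ih =>
    intro P _ _ _ _ hd
    have hex : ∃ x ∈ maximalIdeal P, x ∉ maximalIdeal P ^ 2 := by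
      by_contra hcon
      push Not at hcon
      have hle : maximalIdeal P ≤ maximalIdeal P ^ 2 := hcon
      have hbot : maximalIdeal P = ⊥ := by
        apply Submodule.eq_bot_of_le_smul_of_le_jacobson_bot (maximalIdeal P)
          (maximalIdeal P) (IsNoetherian.noetherian _)
        · rw [smul_eq_mul, ← pow_two]; exact hle
        · exact IsLocalRing.maximalIdeal_le_jacobson ⊥
      rw [hbot] at hd
      simp at hd
    obtain ⟨x, hxm, hx2⟩ := hex
    obtain ⟨hreg, hμ⟩ := RegQuot.quotient_singleton P x hxm hx2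
    haveI := hreg
    haveI : IsDomain (P ⧸ Ideal.span {x}) := RegLocal.isDomain_of_isRegularLocalRing _
    haveI : (Ideal.span ({x} : Set P)).IsPrime := (Ideal.Quotient.isDomain_iff_prime _).mp ‹_›
    haveI : IsAdicComplete (maximalIdeal (P ⧸ Ideal.span {x})) (P ⧸ Ideal.span {x}) := by
      have h := Groth.Agent.Lib.Helper15.CS.isAdicComplete_quotient (maximalIdeal P)
        (Ideal.span {x})
      have e : (maximalIdeal P).map (algebraMap P (P ⧸ Ideal.span {x})) =
          maximalIdeal (P ⧸ Ideal.span {x}) :=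
        map_maximalIdeal_of_surjective (Ideal.Quotient.mk _) Ideal.Quotient.mk_surjective
      rwa [e] at h
    have hN := ih (P ⧸ Ideal.span {x}) (by omega)
    haveI : IsIntegrallyClosed P := RegularNormal.isIntegrallyClosed_of_isRegularLocalRing P
    haveI : IsAdicComplete (Ideal.span ({x} : Set P)) P :=
      isAdicComplete_of_le (maximalIdeal P) _ ((Ideal.span_singleton_le_iff_mem _).mpr hxm)
    exact NagTate.isN2_of_complete P x hN

/-- Power series rings over a complete regular local ring are N-2. -/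
theorem isN2_mvPowerSeries (Λ : Type u) [CommRing Λ] [IsRegularLocalRing Λ]
    [IsAdicComplete (maximalIdeal Λ) Λ] (n : ℕ) [IsDomain (MvPowerSeries (Fin n) Λ)] :
    CAlg.IsN2 (MvPowerSeries (Fin n) Λ) := by
  haveI : IsRegularRing Λ :=
    Groth.Agent.Lib.Helper26.RegularRing.isRegularRing_of_isRegularLocalRing Λ
  haveI : IsRegularRing (MvPowerSeries (Fin n) Λ) :=
    Groth.Agent.Lib.Helper26.RegularCompletion.isRegularRing_mvPowerSeries Λ n
  haveI : IsRegularLocalRing (MvPowerSeries (Fin n) Λ) :=
    IsRegularLocalRing.of_isRegularRing_of_isLocalRing _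
  haveI : IsAdicComplete (maximalIdeal (MvPowerSeries (Fin n) Λ)) (MvPowerSeries (Fin n) Λ) :=
    Groth.Agent.Lib.Helper7.PowSerCRing.isAdicComplete
  exact isN2_of_complete_regular _ (MvPowerSeries (Fin n) Λ) rfl

/-- Complete Noetherian local domains are N-2. -/
theorem isN2_of_complete_domain (A : Type u) [CommRing A] [IsDomain A] [IsLocalRing A]
    [IsNoetherianRing A] [IsAdicComplete (maximalIdeal A) A] : CAlg.IsN2 A := by
  obtain ⟨Λ, hring, n, f, hΛ, hinj, hfin, -⟩ := Groth.Agent.S0581.result A
  letI := hring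
  have key : ∃ _ : IsDomain (MvPowerSeries (Fin n) Λ), CAlg.IsN2 (MvPowerSeries (Fin n) Λ) := by
    rcases hΛ with hF | hC
    · letI := hF.toField
      haveI : IsDomain (MvPowerSeries (Fin n) Λ) := NoZeroDivisors.to_isDomain _
      exact ⟨inferInstance, isN2_mvPowerSeries Λ n⟩
    · obtain ⟨hdom, hdvr, hcompl, -⟩ := hC
      haveI := hdom
      haveI := hdvr
      haveI := hcompl
      haveI : IsDomain (MvPowerSeries (Fin n) Λ) := NoZeroDivisors.to_isDomain _
      exact ⟨inferInstance, isN2_mvPowerSeries Λ n⟩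
  obtain ⟨hdomP, hP⟩ := key
  haveI := hdomP
  letI := f.toAlgebra
  haveI : Module.Finite (MvPowerSeries (Fin n) Λ) A := hfin
  rw [NagataLoc.isN2_iff_N2'] at hP ⊢
  exact N2.N2'_of_finite_injective (MvPowerSeries (Fin n) Λ) A hinj hP

/-- **Complete Noetherian local rings are Nagata.** -/
theorem isNagata_of_complete (R : Type u) [CommRing R] [IsLocalRing R] [IsNoetherianRing R]
    [IsAdicComplete (maximalIdeal R) R] : CAlg.IsNagata R := by
  refine ⟨inferInstance, fun p hp => ?_⟩
  haveI : IsLocalRing (R ⧸ p) :=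
    IsLocalRing.of_surjective' (Ideal.Quotient.mk p) Ideal.Quotient.mk_surjective
  haveI : IsAdicComplete (maximalIdeal (R ⧸ p)) (R ⧸ p) := by
    have h := Groth.Agent.Lib.Helper15.CS.isAdicComplete_quotient (maximalIdeal R) p
    have e : (maximalIdeal R).map (algebraMap R (R ⧸ p)) = maximalIdeal (R ⧸ p) :=
      map_maximalIdeal_of_surjective (Ideal.Quotient.mk _) Ideal.Quotient.mk_surjective
    rwa [e] at h
  exact isN2_of_complete_domain (R ⧸ p)

end Groth.Agent.Lib.Helper27.NagCompl
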