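import Groth.Agent.Lib.Helper27.NagAU1
import Groth.Agent.S0542
import Groth.Agent.Lib.Helper12.NagataLoc
import Groth.Agent.Lib.Helper12.N2Field

/-!
# Nagata rings: completions of finite domains are reduced

Main result `NagAU.core`: for a Noetherian ring `R` all of whose quotients `R ⧸ p` by primes are
N-2, an ideal `I` and a finite `R`-algebra `C` which is a domain, the ring
`AdicCompletion I R ⊗[R] C` (the `I`-adic completion of `C`) is reduced.
-/

set_option autoImplicit false
set_option linter.style.haveILetI false
set_option linter.unusedSectionVars false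
universe u
open TensorProduct

namespace Groth.Agent.Lib.Helper27.NagAU

variable {R : Type u} [CommRing R] [IsNoetherianRing R] (I : Ideal R)

theorem instNoeth : IsNoetherianRing (AdicCompletion I R) :=
  Groth.Agent.S0542.result R I (IsNoetherian.noetherian _)

attribute [local instance] instNoeth

theorem map_le_jac : I.map (algebraMap R (AdicCompletion I R)) ≤ Ideal.jacobson ⊥ := by
  haveI := AdicCompletion.isAdicComplete_self I (IsNoetherian.noetherian _)
  exact IsAdicComplete.le_jacobson_bot _

variable (C : Type u) [CommRing C] [Algebra R C] [Module.Finite R C]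


theorem instNoethB : IsNoetherianRing (AdicCompletion I R ⊗[R] C) :=
  IsNoetherianRing.of_finite (AdicCompletion I R) _

attribute [local instance] instNoethB
attribute [local instance] Algebra.TensorProduct.rightAlgebra

theorem instFlatB : Module.Flat C (AdicCompletion I R ⊗[R] C) := by
  have h : Algebra.IsPushout R C (AdicCompletion I R) (AdicCompletion I R ⊗[R] C) := inferInstance
  exact Module.Flat.isBaseChange (R := R) (S := C) (M := AdicCompletion I R) _ h.out

attribute [local instance] instFlatB

theorem map_mem_jacobson_of_isIntegral {A B : Type*} [CommRing A] [CommRing B] [Algebra A B]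
    [Algebra.IsIntegral A B] {z : A} (hz : z ∈ (⊥ : Ideal A).jacobson) :
    algebraMap A B z ∈ (⊥ : Ideal B).jacobson := by
  rw [Ideal.jacobson, Ideal.mem_sInf]
  rintro 𝔫 ⟨-, h𝔫⟩
  haveI := h𝔫
  haveI : (𝔫.comap (algebraMap A B)).IsMaximal :=
    Ideal.isMaximal_comap_of_isIntegral_of_isMaximal 𝔫
  have : z ∈ 𝔫.comap (algebraMap A B) := by
    rw [Ideal.jacobson, Ideal.mem_sInf] at hz
    exact hz ⟨bot_le, inferInstance⟩
  exact this

theorem algebraMap_mem_jacobson (x₀ : R) (hx₀ : x₀ ∈ I) :
    algebraMap C (AdicCompletion I R ⊗[R] C) (algebraMap R C x₀) ∈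
      (⊥ : Ideal (AdicCompletion I R ⊗[R] C)).jacobson := by
  have h1 : algebraMap C (AdicCompletion I R ⊗[R] C) (algebraMap R C x₀) =
      algebraMap (AdicCompletion I R) (AdicCompletion I R ⊗[R] C)
        (algebraMap R (AdicCompletion I R) x₀) := by
    rw [← IsScalarTower.algebraMap_apply, ← IsScalarTower.algebraMap_apply]
  rw [h1]
  haveI : Algebra.IsIntegral (AdicCompletion I R) (AdicCompletion I R ⊗[R] C) :=
    Algebra.IsIntegral.of_finite _ _
  exact map_mem_jacobson_of_isIntegral (map_le_jac I (Ideal.mem_map_of_mem _ hx₀))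

theorem isReduced_quot_of_tensor_quot (P : Ideal C)
    (h : IsReduced (AdicCompletion I R ⊗[R] (C ⧸ P))) :
    IsReduced ((AdicCompletion I R ⊗[R] C) ⧸ P.map (algebraMap C (AdicCompletion I R ⊗[R] C))) := by
  let g : C →ₐ[R] C ⧸ P := Ideal.Quotient.mkₐ R P
  have hg : Function.Surjective g := Ideal.Quotient.mkₐ_surjective R P
  let f : AdicCompletion I R ⊗[R] C →ₐ[R] AdicCompletion I R ⊗[R] (C ⧸ P) :=
    Algebra.TensorProduct.map (AlgHom.id R (AdicCompletion I R)) g
  have hker : RingHom.ker f = P.map (algebraMap C (AdicCompletion I R ⊗[R] C)) := by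
    have h1 := Algebra.TensorProduct.lTensor_ker (A := AdicCompletion I R) g hg
    rw [h1]
    have h2 : RingHom.ker g = P := Ideal.Quotient.mkₐ_ker R P
    rw [h2]
    rfl
  have hf : Function.Surjective f := LinearMap.lTensor_surjective _ hg
  let e := RingHom.quotientKerEquivOfSurjective hf
  let e2 : ((AdicCompletion I R ⊗[R] C) ⧸ P.map (algebraMap C (AdicCompletion I R ⊗[R] C))) ≃+*
      ((AdicCompletion I R ⊗[R] C) ⧸ RingHom.ker f) :=
    Ideal.quotEquivOfEq hker.symm
  exact isReduced_of_injective (e2.trans e).toRingHom (e2.trans e).injective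

theorem isAdicComplete_of_smul_eq_zero (M : Type*) [AddCommGroup M] [Module R M]
    (h : ∀ a ∈ I, ∀ m : M, a • m = 0) : IsAdicComplete I M := by
  have hbot : (I • ⊤ : Submodule R M) = ⊥ := by
    rw [eq_bot_iff]
    intro x hx
    refine Submodule.smul_induction_on hx (fun a ha m _ => ?_) (fun x y hx hy => ?_)
    · rw [h a ha m]; exact Submodule.zero_mem _
    · exact Submodule.add_mem _ hx hy
  refine { toIsHausdorff := ⟨fun x hx => ?_⟩, toIsPrecomplete := ⟨fun f hf => ⟨f 1, fun n => ?_⟩⟩ }
  · have := hx 1
    rw [pow_one, hbot, SModEq.zero, Submodule.mem_bot] at this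
    exact this
  · rcases Nat.eq_zero_or_pos n with rfl | hn
    · rw [pow_zero, Ideal.one_eq_top, Submodule.top_smul]
      exact SModEq.top
    · have h1 := hf hn
      rw [pow_one, hbot, SModEq.bot] at h1
      rw [h1]

theorem isReduced_tensor_of_smul_eq_zero [IsReduced C]
    (h : ∀ a ∈ I, algebraMap R C a = 0) : IsReduced (AdicCompletion I R ⊗[R] C) := by
  haveI : IsAdicComplete I C := isAdicComplete_of_smul_eq_zero I C (fun a ha m => by
    rw [Algebra.smul_def, h a ha, zero_mul])
  have h1 : Function.Bijective (AdicCompletion.ofTensorProduct I C) :=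
    AdicCompletion.ofTensorProduct_bijective_of_finite_of_isNoetherian I C
  have h2 : Function.Bijective (AdicCompletion.of I C) :=
    AdicCompletion.of_bijective_iff.mpr inferInstance
  let ι : C →ₐ[R] AdicCompletion I R ⊗[R] C := Algebra.TensorProduct.includeRight
  have h3 : ∀ c : C, AdicCompletion.ofTensorProduct I C (ι c) = AdicCompletion.of I C c := by
    intro c
    rw [Algebra.TensorProduct.includeRight_apply, AdicCompletion.ofTensorProduct_tmul, one_smul]
  have h4 : Function.Bijective ι := by
    constructor
    · intro a b hab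
      apply h2.1
      rw [← h3, ← h3, hab]
    · intro z
      obtain ⟨c, hc⟩ := h2.2 (AdicCompletion.ofTensorProduct I C z)
      refine ⟨c, h1.1 ?_⟩
      rw [h3, hc]
  let e : C ≃+* AdicCompletion I R ⊗[R] C := RingEquiv.ofBijective ι.toRingHom h4
  exact isReduced_of_injective e.symm.toRingHom e.symm.injective

theorem isReduced_tensor_of_injective (C' : Type u) [CommRing C'] [Algebra R C']
    (φ : C →ₐ[R] C') (hφ : Function.Injective φ)
    (h : IsReduced (AdicCompletion I R ⊗[R] C')) : IsReduced (AdicCompletion I R ⊗[R] C) := by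
  let f : AdicCompletion I R ⊗[R] C →ₐ[R] AdicCompletion I R ⊗[R] C' :=
    Algebra.TensorProduct.map (AlgHom.id R (AdicCompletion I R)) φ
  have hf : Function.Injective f :=
    Module.Flat.lTensor_preserves_injective_linearMap (M := AdicCompletion I R) φ.toLinearMap hφ
  exact isReduced_of_injective f.toRingHom hf

theorem step_normal [IsDomain C] [IsIntegrallyClosed C]
    (IH : ∀ (P : Ideal C) [P.IsPrime], (∃ x₀ ∈ I, algebraMap R C x₀ ∈ P ∧ algebraMap R C x₀ ≠ 0) →
      IsReduced (AdicCompletion I R ⊗[R] (C ⧸ P))) :
    IsReduced (AdicCompletion I R ⊗[R] C) := by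
  by_cases h : ∀ a ∈ I, algebraMap R C a = 0
  · exact isReduced_tensor_of_smul_eq_zero I C h
  · push Not at h
    obtain ⟨x₀, hx₀, hx⟩ := h
    haveI : IsNoetherianRing C := IsNoetherianRing.of_finite R C
    refine isReduced_of_ass_jacobson (R := C) (AdicCompletion I R ⊗[R] C) (algebraMap R C x₀)
      (mem_nonZeroDivisors_of_ne_zero hx) (algebraMap_mem_jacobson I C x₀ hx₀) ?_
    intro P hP hPp
    have hxP : algebraMap R C x₀ ∈ P := by
      have h1 := IsAssociatedPrime.annihilator_le hP
      rw [Submodule.annihilator_top, Ideal.annihilator_quotient] at h1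
      exact h1 (Ideal.mem_span_singleton_self _)
    refine ⟨⟨inferInstance, isDiscreteValuationRing_atPrime_of_ass C _ hx P hP⟩, ?_⟩
    exact isReduced_quot_of_tensor_quot I C P (IH P ⟨x₀, hx₀, hxP, hx⟩)

open Groth.Agent.Lib.Helper12.N2 Groth.Agent.Lib.Helper12.NagataLoc in
theorem core (hN : ∀ (p : Ideal R) [p.IsPrime], CAlg.IsN2 (R ⧸ p)) :
    ∀ (p : Ideal R) (C : Type u) [CommRing C] [IsDomain C] [Algebra R C] [Module.Finite R C],
      RingHom.ker (algebraMap R C) = p → IsReduced (AdicCompletion I R ⊗[R] C) := by
  intro p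
  induction p using WellFoundedGT.induction with
  | ind p ih =>
    intro C _ _ _ _ hker
    haveI hp : p.IsPrime := by rw [← hker]; exact RingHom.ker_isPrime _
    -- `C` is N-2
    have hN2C : CAlg.IsN2 C := by
      letI : Algebra (R ⧸ p) C := (Ideal.Quotient.lift p (algebraMap R C) (fun a ha => by
        rw [← RingHom.mem_ker, hker]; exact ha)).toAlgebra
      haveI : IsScalarTower R (R ⧸ p) C := IsScalarTower.of_algebraMap_eq (fun x => rfl)
      haveI : Module.Finite (R ⧸ p) C := Module.Finite.of_restrictScalars_finite R (R ⧸ p) C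
      have hinj : Function.Injective (algebraMap (R ⧸ p) C) := by
        apply RingHom.lift_injective_of_ker_le_ideal
        rw [hker]
      exact (isN2_iff_N2' C).2 (N2'_of_finite_injective (R ⧸ p) C hinj ((isN2_iff_N2' _).1 (hN p)))
    -- normalization
    let C' := integralClosure C (FractionRing C)
    haveI hfinC' : Module.Finite C C' := hN2C (FractionRing C) inferInstance
    letI : Algebra R C' := ((algebraMap C C').comp (algebraMap R C)).toAlgebra
    haveI : IsScalarTower R C C' := IsScalarTower.of_algebraMap_eq (fun _ => rfl)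
    haveI : Module.Finite R C' := Module.Finite.trans C C'
    haveI : IsIntegrallyClosed C' :=
      integralClosure.isIntegrallyClosedOfFiniteExtension (FractionRing C)
    have hinjCC' : Function.Injective (algebraMap C C') := by
      intro a b hab
      apply IsFractionRing.injective C (FractionRing C)
      exact congrArg Subtype.val hab
    refine isReduced_tensor_of_injective I C C' (IsScalarTower.toAlgHom R C C') hinjCC' ?_
    apply step_normal I C'
    intro P _ ⟨x₀, hx₀, hxP, hx⟩
    -- `C' ⧸ P` is a finite domain over `R` with bigger kernel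
    have hlt : p < RingHom.ker (algebraMap R (C' ⧸ P)) := by
      have hle : p ≤ RingHom.ker (algebraMap R (C' ⧸ P)) := by
        intro a ha
        rw [← hker, RingHom.mem_ker] at ha
        rw [RingHom.mem_ker, IsScalarTower.algebraMap_apply R C' (C' ⧸ P),
          IsScalarTower.algebraMap_apply R C C', ha, map_zero, map_zero]
      refine lt_of_le_of_ne hle (fun heq => ?_)
      have h1 : x₀ ∈ RingHom.ker (algebraMap R (C' ⧸ P)) := by
        rw [RingHom.mem_ker, IsScalarTower.algebraMap_apply R C' (C' ⧸ P),
          Ideal.Quotient.algebraMap_eq, Ideal.Quotient.eq_zero_iff_mem]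
        exact hxP
      rw [← heq, ← hker, RingHom.mem_ker] at h1
      apply hx
      rw [IsScalarTower.algebraMap_apply R C C', h1, map_zero]
    exact ih _ hlt (C' ⧸ P) rfl

end Groth.Agent.Lib.Helper27.NagAU
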