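import Groth.Agent.Lib.Helper27.DeltaInv2
import Groth.Agent.Lib.Helper14.NormalHomComp
import Groth.Agent.Lib.Helper8.Hzl.FibreSeparable
import Groth.Agent.Lib.Helper14.FormalEquidim
import Groth.Agent.Lib.Helper14.GeomReduced

/-!
# The δ-invariant under ind-étale-like maps and completion

* `deltaInv_eq_of_fibres`: δ is invariant under a faithfully flat local map `A → B` with
  `𝔪_A B = 𝔪_B` when the fibres of `A' → A' ⊗[A] B` are reduced of dimension zero
  (`A'` finite normal).
* `deltaInv_eq_of_indEtaleLike`.
* `cpl_incomparable`, `incomparable_cpl_tensor`, `krullDimLE_zero_fiber_cpl`, `isReduced_fiber_cpl`: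
  the fibre conditions for the completion of a one-dimensional local ring.
-/

open TensorProduct Polynomial
universe u v
open IsLocalRing
set_option linter.style.haveILetI false
set_option linter.unusedSectionVars false
set_option autoImplicit false

namespace Groth.Agent.Lib.Helper27.DeltaBC
open Groth.Agent.Lib.Helper27.DeltaInv1 Groth.Agent.Lib.Helper14
  Groth.Agent.Lib.Helper14.NormalHomComp

section gen
variable (A B : Type u) [CommRing A] [CommRing B] [Algebra A B]

theorem deltaInv_eq_of_fibres [IsNoetherianRing A] [IsNoetherianRing B] [IsLocalRing A]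
    [IsLocalRing B] [IsLocalHom (algebraMap A B)] [Module.FaithfullyFlat A B]
    (hmax : (maximalIdeal A).map (algebraMap A B) = maximalIdeal B)
    [hfin : Module.Finite A (integralClosure A (FractionRing A))]
    (hA' : EGA4.IsNormalRing (integralClosure A (FractionRing A)))
    (hfib : ∀ (p' : Ideal (integralClosure A (FractionRing A))) [p'.IsPrime],
      IsReduced (p'.Fiber ((integralClosure A (FractionRing A)) ⊗[A] B)) ∧
        Ring.KrullDimLE 0 (p'.Fiber ((integralClosure A (FractionRing A)) ⊗[A] B))) :
    Curv2.deltaInv B = Curv2.deltaInv A := by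
  haveI : IsNoetherianRing (integralClosure A (FractionRing A)) := IsNoetherianRing.of_finite A _
  haveI : IsNoetherianRing (B ⊗[A] (integralClosure A (FractionRing A))) :=
    IsNoetherianRing.of_finite B _
  haveI : IsNoetherianRing ((integralClosure A (FractionRing A)) ⊗[A] B) :=
    isNoetherianRing_of_ringEquiv _ (Algebra.TensorProduct.comm A B _).toRingEquiv
  have hN : EGA4.IsNormalRing ((integralClosure A (FractionRing A)) ⊗[A] B) :=
    isNormalRing_of_flat_of_fibers (integralClosure A (FractionRing A)) _ (fun p' _ => by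
      obtain ⟨h1, h2⟩ := hfib p'
      exact isNormalRing_of_isReduced_of_krullDimLE_zero _) hA'
  have hC : EGA4.IsNormalRing (B ⊗[A] (integralClosure A (FractionRing A))) :=
    isNormalRing_of_ringEquiv (Algebra.TensorProduct.comm A _ B).toRingEquiv hN
  exact deltaInv_eq_of_isNormalRing_tensor A B hmax hC


open Groth.Agent.Lib.Helper8.Hzl in
theorem deltaInv_eq_of_indEtaleLike (h : IndEtaleLike A B) [IsNoetherianRing A] [IsNoetherianRing B]
    [IsLocalRing A] [IsLocalRing B] [IsLocalHom (algebraMap A B)] [Module.FaithfullyFlat A B]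
    (hmax : (maximalIdeal A).map (algebraMap A B) = maximalIdeal B)
    [hfin : Module.Finite A (integralClosure A (FractionRing A))]
    (hA' : EGA4.IsNormalRing (integralClosure A (FractionRing A))) :
    Curv2.deltaInv B = Curv2.deltaInv A := by
  apply deltaInv_eq_of_fibres A B hmax hA'
  intro p' _
  have h1 : IndEtaleLike (integralClosure A (FractionRing A))
      ((integralClosure A (FractionRing A)) ⊗[A] B) := h.baseChange _
  have h2 : IndEtaleLike p'.ResidueField
      (p'.ResidueField ⊗[integralClosure A (FractionRing A)]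
        ((integralClosure A (FractionRing A)) ⊗[A] B)) := h1.baseChange _
  exact ⟨h2.isReduced_of_field, h2.krullDimLE_zero_of_field⟩


end gen

section inc0
variable (A : Type u) [CommRing A] [IsLocalRing A] [IsNoetherianRing A]

/-- For a Noetherian local ring of dimension at most one, primes of the completion lying over the
same prime are incomparable. -/
theorem cpl_incomparable (hdim : ringKrullDim A ≤ 1)
    (Q1 Q2 : Ideal (AdicCompletion (maximalIdeal A) A)) [Q1.IsPrime] [Q2.IsPrime] (hle : Q1 ≤ Q2)
    (hu : Q1.under A = Q2.under A) : Q2 ≤ Q1 := by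
  haveI : Ring.KrullDimLE 1 (AdicCompletion (maximalIdeal A) A) := by
    rw [Ring.krullDimLE_iff, Groth.Agent.Lib.Helper14.FormalEquidim.ringKrullDim_cpl]
    exact hdim
  by_contra hnle
  have hlt : Q1 < Q2 := lt_of_le_not_ge hle hnle
  rcases (Ring.krullDimLE_one_iff.mp inferInstance) Q2 inferInstance with hmin | hmax
  · exact hnle (hmin.2 ⟨inferInstance, bot_le⟩ hle)
  · have h2 : Q2 = maximalIdeal _ := IsLocalRing.eq_maximalIdeal hmax
    have h3 : Q2.under A = maximalIdeal A := by
      rw [h2]
      exact IsLocalRing.maximalIdeal_comap (algebraMap A (AdicCompletion (maximalIdeal A) A))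
    have h4 : (maximalIdeal A).map (algebraMap A (AdicCompletion (maximalIdeal A) A)) ≤ Q1 := by
      rw [Ideal.map_le_iff_le_comap]
      exact (h3.symm.trans hu.symm).le
    rw [← AdicCompletion.maximalIdeal_eq_map (R := A), ← h2] at h4
    exact hnle h4

end inc0


section cplcase
variable (A : Type u) [CommRing A] [IsLocalRing A] [IsNoetherianRing A]
  (A' : Type u) [CommRing A'] [Algebra A A'] [Algebra.IsIntegral A A']

theorem incomparable_cpl_tensor (hdim : ringKrullDim A ≤ 1)
    (P1 P2 : Ideal (AdicCompletion (maximalIdeal A) A ⊗[A] A')) [P1.IsPrime] [P2.IsPrime]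
    (hle : P1 ≤ P2)
    (hu : P1.comap (Algebra.TensorProduct.includeRight :
        A' →ₐ[A] AdicCompletion (maximalIdeal A) A ⊗[A] A').toRingHom =
      P2.comap (Algebra.TensorProduct.includeRight :
        A' →ₐ[A] AdicCompletion (maximalIdeal A) A ⊗[A] A').toRingHom) : P2 ≤ P1 := by
  have hQ : (P1.under (AdicCompletion (maximalIdeal A) A)).under A =
      (P2.under (AdicCompletion (maximalIdeal A) A)).under A := by
    have key : ∀ P : Ideal (AdicCompletion (maximalIdeal A) A ⊗[A] A'),
        (P.under (AdicCompletion (maximalIdeal A) A)).under A =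
        (P.comap (Algebra.TensorProduct.includeRight :
          A' →ₐ[A] AdicCompletion (maximalIdeal A) A ⊗[A] A').toRingHom).comap
            (algebraMap A A') := by
      intro P
      ext a
      simp only [Ideal.under, Ideal.mem_comap, AlgHom.toRingHom_eq_coe, RingHom.coe_coe,
        Algebra.TensorProduct.includeRight_apply, Algebra.TensorProduct.algebraMap_apply,
        Algebra.algebraMap_self, RingHom.id_apply]
      rw [Algebra.algebraMap_eq_smul_one a, Algebra.algebraMap_eq_smul_one (A := A') a,
        TensorProduct.tmul_smul, TensorProduct.smul_tmul']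
    rw [key, key, hu]
  have h1 := cpl_incomparable A hdim _ _ (Ideal.comap_mono hle) hQ
  by_contra hnle
  have hlt : P1 < P2 := lt_of_le_not_ge hle hnle
  have := Ideal.IsIntegral.comap_lt_comap (R := AdicCompletion (maximalIdeal A) A) hlt
  exact (not_le_of_gt this) h1


theorem krullDimLE_zero_fiber_cpl (hdim : ringKrullDim A ≤ 1) (p' : Ideal A') [p'.IsPrime] :
    Ring.KrullDimLE 0 (p'.Fiber (A' ⊗[A] AdicCompletion (maximalIdeal A) A)) := by
  constructor
  rw [← Order.krullDim_eq_of_orderIso (PrimeSpectrum.primesOverOrderIsoFiber A'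
    (A' ⊗[A] AdicCompletion (maximalIdeal A) A) p'), Nat.cast_zero,
    Order.krullDim_nonpos_iff_forall_isMax]
  rintro ⟨P1, hP1, hP1o⟩ ⟨P2, hP2, hP2o⟩ hle
  have hle' : P1 ≤ P2 := hle
  show P2 ≤ P1
  let e := Algebra.TensorProduct.comm A (AdicCompletion (maximalIdeal A) A) A'
  haveI : (P1.comap e.toRingHom).IsPrime := Ideal.comap_isPrime _ _
  haveI : (P2.comap e.toRingHom).IsPrime := Ideal.comap_isPrime _ _
  have key : ∀ P : Ideal (A' ⊗[A] AdicCompletion (maximalIdeal A) A),
      (P.comap e.toRingHom).comap (Algebra.TensorProduct.includeRight :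
        A' →ₐ[A] AdicCompletion (maximalIdeal A) A ⊗[A] A').toRingHom = P.under A' := by
    intro P
    ext a
    simp [e, Ideal.under]
  have h := incomparable_cpl_tensor A A' hdim (P1.comap e.toRingHom) (P2.comap e.toRingHom)
    (Ideal.comap_mono hle') (by rw [key, key, ← hP1o.over, ← hP2o.over])
  intro x hx
  have hx' : e.symm x ∈ P2.comap e.toRingHom := by
    rw [Ideal.mem_comap]
    simpa using hx
  have := h hx'
  rw [Ideal.mem_comap] at this
  simpa using this

theorem isReduced_fiber_cpl (hA : EGA4.HasGeomReducedFormalFibres A) (p' : Ideal A')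
    [p'.IsPrime] :
    IsReduced (p'.Fiber (A' ⊗[A] AdicCompletion (maximalIdeal A) A)) := by
  haveI : IsReduced (p'.ResidueField ⊗[A] AdicCompletion (maximalIdeal A) A) :=
    Groth.Agent.Lib.Helper14.GeomReduced.isReduced_tensor_field_of_fibers A
      (AdicCompletion (maximalIdeal A) A) (fun p _ => hA p) _
  exact isReduced_of_injective
    (Algebra.TensorProduct.cancelBaseChange A A' A' p'.ResidueField
      (AdicCompletion (maximalIdeal A) A)).toRingEquiv.toRingHom (RingEquiv.injective _)

end cplcase


end Groth.Agent.Lib.Helper27.DeltaBC
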