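import Groth.Agent.Lib.Helper27.NagCompl
import Groth.Agent.Lib.Helper15.FiniteComplete
import Groth.Agent.Lib.Helper15.ComplSemilocal

/-!
# Integral closures of complete local domains

* `isAdicComplete_of_pow_le`: if `I ≤ J` and `J ^ N ≤ I` then `I`-adic completeness implies
  `J`-adic completeness.
* `integralClosure_complete`: the integral closure of a complete Noetherian local domain in a
  finite extension of its fraction field is finite, local and complete.
-/

set_option autoImplicit false
set_option linter.style.haveILetI false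

universe u

namespace Groth.Agent.Lib.Helper27.NagCompl

open IsLocalRing Groth.Agent.Lib.Helper15

theorem isAdicComplete_of_pow_le {R M : Type*} [CommRing R] [AddCommGroup M] [Module R M]
    (I J : Ideal R) [IsAdicComplete I M] (N : ℕ) (hN : 0 < N) (h1 : I ≤ J) (h2 : J ^ N ≤ I) :
    IsAdicComplete J M := by
  have hJI : ∀ n, ((J ^ (N * n)) • ⊤ : Submodule R M) ≤ I ^ n • ⊤ := by
    intro n
    apply Submodule.smul_mono_left
    rw [pow_mul]
    exact Ideal.pow_right_mono h2 n
  have hIJ : ∀ n, (I ^ n • ⊤ : Submodule R M) ≤ J ^ n • ⊤ := fun n =>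
    Submodule.smul_mono_left (Ideal.pow_right_mono h1 n)
  have hmono : ∀ {a b : ℕ}, a ≤ b → (J ^ b • ⊤ : Submodule R M) ≤ J ^ a • ⊤ := fun hab =>
    Submodule.smul_mono_left (Ideal.pow_le_pow_right hab)
  refine { haus' := ?_, prec' := ?_ }
  · intro x hx
    exact IsHausdorff.haus' (I := I) x fun n => (hx (N * n)).mono (hJI n)
  · intro f hf
    have hg : ∀ {m n}, m ≤ n → f (N * m) ≡ f (N * n) [SMOD (I ^ m • ⊤ : Submodule R M)] :=
      fun {m n} hmn => (hf (Nat.mul_le_mul_left N hmn)).mono (hJI m)
    obtain ⟨L, hL⟩ := IsPrecomplete.prec' (I := I) (fun k => f (N * k)) hg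
    refine ⟨L, fun n => ?_⟩
    have e1 : f n ≡ f (N * n) [SMOD (J ^ n • ⊤ : Submodule R M)] :=
      hf (Nat.le_mul_of_pos_left n hN)
    have e2 : f (N * n) ≡ L [SMOD (J ^ n • ⊤ : Submodule R M)] := (hL n).mono (hIJ n)
    exact e1.trans e2

/-- The integral closure of a complete Noetherian local domain in a finite extension of its
fraction field is a finite module, a local ring, and complete. -/
theorem integralClosure_complete {A K' : Type u} [CommRing A] [IsDomain A] [IsLocalRing A]
    [IsNoetherianRing A] [IsAdicComplete (maximalIdeal A) A] [Field K'] [Algebra A K']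
    [Algebra (FractionRing A) K'] [IsScalarTower A (FractionRing A) K']
    [FiniteDimensional (FractionRing A) K'] :
    Module.Finite A (integralClosure A K') ∧
    ∃ _ : IsLocalRing (integralClosure A K'),
      IsAdicComplete (maximalIdeal (integralClosure A K')) (integralClosure A K') := by
  haveI hfin : Module.Finite A (integralClosure A K') :=
    isN2_of_complete_domain A K' inferInstance
  refine ⟨hfin, ?_⟩
  haveI := FiniteComplete.isAdicComplete_mS A (integralClosure A K')
  haveI := FiniteComplete.isArtinianRing_quot A (integralClosure A K')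
  haveI hloc : IsLocalRing (integralClosure A K') :=
    ComplSemilocal.isLocalRing_of_isDomain (FiniteComplete.mS A (integralClosure A K'))
  refine ⟨hloc, ?_⟩
  have hle : FiniteComplete.mS A (integralClosure A K') ≤ maximalIdeal (integralClosure A K') :=
    FiniteComplete.mS_le_maximal A _ _ (maximalIdeal.isMaximal _)
  haveI : Nontrivial (integralClosure A K' ⧸ FiniteComplete.mS A (integralClosure A K')) :=
    Ideal.Quotient.nontrivial_iff.mpr
      (ne_top_of_le_ne_top (maximalIdeal.isMaximal (integralClosure A K')).ne_top hle)
  haveI : IsLocalRing (integralClosure A K' ⧸ FiniteComplete.mS A (integralClosure A K')) :=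
    IsLocalRing.of_surjective' (Ideal.Quotient.mk _) Ideal.Quotient.mk_surjective
  obtain ⟨N, hN⟩ := IsArtinianRing.isNilpotent_jacobson_bot
    (R := integralClosure A K' ⧸ FiniteComplete.mS A (integralClosure A K'))
  rw [IsLocalRing.jacobson_eq_maximalIdeal ⊥ bot_ne_top] at hN
  have hpow : maximalIdeal (integralClosure A K') ^ (N + 1) ≤
      FiniteComplete.mS A (integralClosure A K') := by
    intro b hb
    have hb' : b ∈ maximalIdeal (integralClosure A K') ^ N :=
      Ideal.pow_le_pow_right (Nat.le_succ N) hb
    have : Ideal.Quotient.mk (FiniteComplete.mS A (integralClosure A K')) b ∈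
        maximalIdeal (integralClosure A K' ⧸ FiniteComplete.mS A (integralClosure A K')) ^ N := by
      rw [← map_maximalIdeal_of_surjective (Ideal.Quotient.mk _) Ideal.Quotient.mk_surjective,
        ← Ideal.map_pow]
      exact Ideal.mem_map_of_mem _ hb'
    rw [hN, Ideal.zero_eq_bot, Ideal.mem_bot, Ideal.Quotient.eq_zero_iff_mem] at this
    exact this
  exact isAdicComplete_of_pow_le (FiniteComplete.mS A (integralClosure A K')) _ (N + 1)
    (Nat.succ_pos N) hle hpow

end Groth.Agent.Lib.Helper27.NagCompl
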