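import Groth.Agent.Lib.Helper27.NagAU2
import Groth.Agent.Lib.Helper27.NagCompl2
import Groth.Agent.Lib.Helper15.ComplSurj
import Groth.Agent.Lib.Helper15.FiniteComplete

/-!
# Reduced finite algebras over Nagata rings have reduced completions

* `isReduced_tensor_of_isReduced`: `Â ⊗ C` is reduced for every reduced finite algebra `C`.
* `isReduced_adicCompletion_jacobson`: over a Noetherian local ring `A`, the completion of a finite
  algebra `C` along its Jacobson radical embeds into `Â ⊗[A] C`.
-/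

set_option autoImplicit false
set_option linter.style.haveILetI false
set_option linter.unusedSectionVars false
universe u
open TensorProduct

namespace Groth.Agent.Lib.Helper27.NagAU

variable {R : Type u} [CommRing R] [IsNoetherianRing R] (I : Ideal R)

/-- For a Noetherian ring with N-2 quotients, the completion of a reduced finite algebra is
reduced. -/
theorem isReduced_tensor_of_isReduced (hN : ∀ (p : Ideal R) [p.IsPrime], CAlg.IsN2 (R ⧸ p))
    (C : Type u) [CommRing C] [Algebra R C] [Module.Finite R C] [IsReduced C] :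
    IsReduced (AdicCompletion I R ⊗[R] C) := by
  classical
  haveI : IsNoetherianRing C := IsNoetherianRing.of_finite R C
  have hfin : (minimalPrimes C).Finite := minimalPrimes.finite_of_isNoetherianRing C
  let ι := {P : Ideal C // P ∈ minimalPrimes C}
  haveI : Finite ι := hfin.to_subtype
  haveI : Fintype ι := Fintype.ofFinite ι
  haveI hprime : ∀ P : ι, P.1.IsPrime := fun P => Ideal.IsMinimalPrime.isPrime P.2
  let φ : C →ₐ[R] ((P : ι) → C ⧸ P.1) := AlgHom.pi (fun P => Ideal.Quotient.mkₐ R P.1)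
  have hφ : Function.Injective φ := by
    rw [injective_iff_map_eq_zero]
    intro c hc
    have h1 : ∀ P : ι, c ∈ P.1 := by
      intro P
      have := congrFun hc P
      rw [← Ideal.Quotient.eq_zero_iff_mem]
      exact this
    have h2 : c ∈ sInf (minimalPrimes C) := by
      rw [Ideal.mem_sInf]
      intro P hP
      exact h1 ⟨P, hP⟩
    have h3 : sInf (minimalPrimes C) = (⊥ : Ideal C).radical := Ideal.sInf_minimalPrimes
    rw [h3] at h2
    have h4 : (⊥ : Ideal C).radical = nilradical C := rfl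
    rw [h4, nilradical_eq_zero] at h2
    exact h2
  refine isReduced_tensor_of_injective I C _ φ hφ ?_
  haveI : ∀ P : ι, IsReduced (AdicCompletion I R ⊗[R] (C ⧸ P.1)) := fun P =>
    core I hN _ (C ⧸ P.1) rfl
  let e := Algebra.TensorProduct.piRight R R (AdicCompletion I R) (fun P : ι => C ⧸ P.1)
  exact isReduced_of_injective e.toRingEquiv.toRingHom e.injective


section jac
variable (A : Type u) [CommRing A] [IsNoetherianRing A] [IsLocalRing A] (C : Type u) [CommRing C]
  [Algebra A C] [Module.Finite A C]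

open IsLocalRing Groth.Agent.Lib.Helper15

theorem map_maximalIdeal_le_jacobson :
    (maximalIdeal A).map (algebraMap A C) ≤ (⊥ : Ideal C).jacobson := by
  rw [Ideal.jacobson]
  refine le_sInf ?_
  rintro 𝔫 ⟨-, h𝔫⟩
  haveI := h𝔫
  haveI : Algebra.IsIntegral A C := Algebra.IsIntegral.of_finite A C
  haveI : (𝔫.comap (algebraMap A C)).IsMaximal :=
    Ideal.isMaximal_comap_of_isIntegral_of_isMaximal 𝔫
  rw [Ideal.map_le_iff_le_comap, IsLocalRing.eq_maximalIdeal (I := 𝔫.comap (algebraMap A C))
    inferInstance]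

theorem exists_jacobson_pow_le :
    ∃ N : ℕ, 0 < N ∧ (⊥ : Ideal C).jacobson ^ N ≤ (maximalIdeal A).map (algebraMap A C) := by
  set 𝔞 : Ideal C := (maximalIdeal A).map (algebraMap A C) with h𝔞
  haveI : IsArtinianRing (C ⧸ 𝔞) := by
    letI : Field (A ⧸ maximalIdeal A) := Ideal.Quotient.field _
    haveI : Module.Finite A (C ⧸ 𝔞) :=
      Module.Finite.of_surjective (Ideal.Quotient.mkₐ A 𝔞).toLinearMap
        Ideal.Quotient.mk_surjective
    haveI : Module.Finite (A ⧸ maximalIdeal A) (C ⧸ 𝔞) :=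
      Module.Finite.of_restrictScalars_finite A _ _
    exact IsArtinianRing.of_finite (A ⧸ maximalIdeal A) _
  obtain ⟨N, hN⟩ := IsArtinianRing.isNilpotent_jacobson_bot (R := C ⧸ 𝔞)
  refine ⟨N + 1, Nat.succ_pos N, ?_⟩
  have h1 : ((⊥ : Ideal C).jacobson).map (Ideal.Quotient.mk 𝔞) ≤ (⊥ : Ideal (C ⧸ 𝔞)).jacobson := by
    rw [Ideal.map_le_iff_le_comap]
    intro x hx
    rw [Ideal.mem_comap, Ideal.jacobson, Ideal.mem_sInf]
    rintro 𝔫 ⟨-, h𝔫⟩
    haveI := h𝔫
    haveI : (𝔫.comap (Ideal.Quotient.mk 𝔞)).IsMaximal :=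
      Ideal.comap_isMaximal_of_surjective _ Ideal.Quotient.mk_surjective
    have : x ∈ 𝔫.comap (Ideal.Quotient.mk 𝔞) := by
      rw [Ideal.jacobson, Ideal.mem_sInf] at hx
      exact hx ⟨bot_le, inferInstance⟩
    exact this
  have h2 : ((⊥ : Ideal C).jacobson ^ (N + 1)).map (Ideal.Quotient.mk 𝔞) = ⊥ := by
    rw [Ideal.map_pow, eq_bot_iff]
    refine (Ideal.pow_right_mono h1 (N + 1)).trans ?_
    rw [pow_succ, hN, Ideal.zero_eq_bot, Ideal.bot_mul]
  intro x hx
  have h3 : Ideal.Quotient.mk 𝔞 x ∈ ((⊥ : Ideal C).jacobson ^ (N + 1)).map (Ideal.Quotient.mk 𝔞) :=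
    Ideal.mem_map_of_mem _ hx
  rw [h2, Ideal.mem_bot, Ideal.Quotient.eq_zero_iff_mem] at h3
  exact h3


attribute [local instance] Algebra.TensorProduct.rightAlgebra

theorem mem_of_algebraMap_mem_map (𝔞 : Ideal C) (c : C)
    (h : algebraMap C (AdicCompletion (maximalIdeal A) A ⊗[A] C) c ∈
      𝔞.map (algebraMap C (AdicCompletion (maximalIdeal A) A ⊗[A] C))) : c ∈ 𝔞 := by
  haveI : Module.FaithfullyFlat A (AdicCompletion (maximalIdeal A) A) :=
    Module.FaithfullyFlat.of_flat_of_isLocalHom
  let g : C →ₐ[A] C ⧸ 𝔞 := Ideal.Quotient.mkₐ A 𝔞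
  have hg : Function.Surjective g := Ideal.Quotient.mkₐ_surjective A 𝔞
  have hker := Algebra.TensorProduct.lTensor_ker (A := AdicCompletion (maximalIdeal A) A) g hg
  have h2 : RingHom.ker g = 𝔞 := Ideal.Quotient.mkₐ_ker A 𝔞
  rw [h2] at hker
  have h3 : algebraMap C (AdicCompletion (maximalIdeal A) A ⊗[A] C) c ∈
      RingHom.ker (Algebra.TensorProduct.map (AlgHom.id A (AdicCompletion (maximalIdeal A) A)) g) := by
    rw [hker]; exact h
  rw [RingHom.mem_ker] at h3
  have h4 : (1 : AdicCompletion (maximalIdeal A) A) ⊗ₜ[A] (g c) = 0 := by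
    have h3' : Algebra.TensorProduct.map (AlgHom.id A (AdicCompletion (maximalIdeal A) A)) g
        ((1 : AdicCompletion (maximalIdeal A) A) ⊗ₜ[A] c) = 0 := h3
    rw [Algebra.TensorProduct.map_tmul] at h3'
    simpa using h3'
  have h5 : g c = 0 :=
    Module.FaithfullyFlat.tensorProduct_mk_injective (A := A)
      (B := AdicCompletion (maximalIdeal A) A) (C ⧸ 𝔞) (by simpa using h4)
  exact Ideal.Quotient.eq_zero_iff_mem.mp h5

theorem isAdicComplete_jacobson_tensor :
    IsAdicComplete ((⊥ : Ideal C).jacobson.map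
      (algebraMap C (AdicCompletion (maximalIdeal A) A ⊗[A] C)))
      (AdicCompletion (maximalIdeal A) A ⊗[A] C) := by
  haveI hc := FiniteComplete.isAdicComplete_mS (AdicCompletion (maximalIdeal A) A)
    (AdicCompletion (maximalIdeal A) A ⊗[A] C)
  have hmS : FiniteComplete.mS (AdicCompletion (maximalIdeal A) A)
      (AdicCompletion (maximalIdeal A) A ⊗[A] C) =
      ((maximalIdeal A).map (algebraMap A C)).map
        (algebraMap C (AdicCompletion (maximalIdeal A) A ⊗[A] C)) := by
    rw [FiniteComplete.mS, AdicCompletion.maximalIdeal_eq_map, Ideal.map_map, Ideal.map_map]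
    congr 1
    ext a
    simp only [RingHom.comp_apply]
    rw [← IsScalarTower.algebraMap_apply, ← IsScalarTower.algebraMap_apply]
  obtain ⟨N, hN, hle⟩ := exists_jacobson_pow_le A C
  refine NagCompl.isAdicComplete_of_pow_le
    (FiniteComplete.mS (AdicCompletion (maximalIdeal A) A)
      (AdicCompletion (maximalIdeal A) A ⊗[A] C)) _ N hN ?_ ?_
  · rw [hmS]
    exact Ideal.map_mono (map_maximalIdeal_le_jacobson A C)
  · rw [hmS, ← Ideal.map_pow]
    exact Ideal.map_mono hle

theorem isReduced_adicCompletion_jacobson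
    (h : IsReduced (AdicCompletion (maximalIdeal A) A ⊗[A] C)) :
    IsReduced (AdicCompletion (⊥ : Ideal C).jacobson C) := by
  haveI := isAdicComplete_jacobson_tensor A C
  let lam : AdicCompletion (⊥ : Ideal C).jacobson C →ₐ[C]
      AdicCompletion (maximalIdeal A) A ⊗[A] C := CS.liftMap (⊥ : Ideal C).jacobson
  have hinj : Function.Injective lam := by
    rw [injective_iff_map_eq_zero]
    intro z hz
    obtain ⟨a, rfl⟩ := AdicCompletion.mk_surjective _ _ z
    apply AdicCompletion.ext_evalₐ
    intro n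
    rw [map_zero, AdicCompletion.evalₐ_mk, Ideal.Quotient.eq_zero_iff_mem]
    have h1 : Ideal.Quotient.mk (((⊥ : Ideal C).jacobson.map
        (algebraMap C (AdicCompletion (maximalIdeal A) A ⊗[A] C))) ^ n)
        (lam (AdicCompletion.mk _ _ a)) = CS.levelMap (⊥ : Ideal C).jacobson n
          (AdicCompletion.mk _ _ a) :=
      IsAdicComplete.mk_liftAlgHom _ _ _ n _
    rw [hz, map_zero, CS.levelMap_mk] at h1
    have h2 := Ideal.Quotient.eq_zero_iff_mem.mp h1.symm
    rw [← Ideal.map_pow] at h2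
    exact mem_of_algebraMap_mem_map A C _ _ h2
  exact isReduced_of_injective lam.toRingHom hinj

end jac

end Groth.Agent.Lib.Helper27.NagAU
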