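import Groth.Agent.Lib.Helper27.NagAU3
import Groth.Agent.Lib.Helper14.GeomReducedFin
import Groth.Prelude.Def_EGA4b

/-!
# Nagata local rings have geometrically reduced formal fibres

* `exists_finite_subalgebra_isFractionRing`
* `hasGeomReducedFormalFibres_of_tensor`
* `exists_bijective_algHom`: for a finite algebra `C` over a Noetherian local ring `A`, the completion
  of `C` along its Jacobson radical is `Â ⊗[A] C`.
-/

set_option autoImplicit false
set_option linter.style.haveILetI false
set_option linter.unusedSectionVars false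
universe u
open TensorProduct

namespace Groth.Agent.Lib.Helper27.NagAU

/-- A finite extension `K'` of the fraction field `κ` of a domain `B₀` is the fraction field of a
finite `B₀`-subalgebra. -/
theorem exists_finite_subalgebra_isFractionRing (B₀ κ K' : Type u) [CommRing B₀] [IsDomain B₀]
    [Field κ] [Algebra B₀ κ] [IsFractionRing B₀ κ] [Field K'] [Algebra κ K'] [Algebra B₀ K']
    [IsScalarTower B₀ κ K'] [Module.Finite κ K'] :
    ∃ C : Subalgebra B₀ K', Module.Finite B₀ C ∧ IsFractionRing C K' := by
  classical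
  let b := Module.finBasis κ K'
  have halg : ∀ z : K', IsAlgebraic B₀ z := fun z =>
    (IsFractionRing.isAlgebraic_iff B₀ κ K').mpr (Algebra.IsAlgebraic.isAlgebraic z)
  choose y hy0 hyint using fun i => (halg (b i)).exists_integral_multiple
  let S : Set K' := Set.range (fun i => y i • b i)
  let C : Subalgebra B₀ K' := Algebra.adjoin B₀ S
  have hfin : Module.Finite B₀ C := Module.Finite.iff_fg.mpr
    (fg_adjoin_of_finite (Set.finite_range _) (by rintro _ ⟨i, rfl⟩; exact hyint i))
  refine ⟨C, hfin, ?_⟩
  have hinjB : Function.Injective (algebraMap B₀ K') := by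
    rw [IsScalarTower.algebraMap_eq B₀ κ K']
    exact (algebraMap κ K').injective.comp (IsFractionRing.injective B₀ κ)
  haveI : FaithfulSMul C K' := (faithfulSMul_iff_algebraMap_injective C K').mpr Subtype.val_injective
  apply IsFractionRing.of_field
  -- the set of fractions
  let F : Submodule κ K' :=
    { carrier := {z | ∃ (x : C) (t : B₀), t ≠ 0 ∧ z * algebraMap B₀ K' t = x}
      zero_mem' := ⟨0, 1, one_ne_zero, by simp⟩
      add_mem' := by
        rintro z₁ z₂ ⟨x₁, t₁, ht₁, h₁⟩ ⟨x₂, t₂, ht₂, h₂⟩
        refine ⟨x₁ * algebraMap B₀ C t₂ + x₂ * algebraMap B₀ C t₁, t₁ * t₂, mul_ne_zero ht₁ ht₂, ?_⟩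
        have e1 : ((algebraMap B₀ C t₂ : C) : K') = algebraMap B₀ K' t₂ := rfl
        have e2 : ((algebraMap B₀ C t₁ : C) : K') = algebraMap B₀ K' t₁ := rfl
        rw [Subalgebra.coe_add, Subalgebra.coe_mul, Subalgebra.coe_mul, e1, e2, ← h₁, ← h₂, map_mul]
        ring
      smul_mem' := by
        rintro c z ⟨x, t, ht, h⟩
        obtain ⟨⟨a, s⟩, has⟩ := IsLocalization.surj (nonZeroDivisors B₀) c
        refine ⟨algebraMap B₀ C a * x, s * t, mul_ne_zero (nonZeroDivisors.coe_ne_zero s) ht, ?_⟩
        have e1 : ((algebraMap B₀ C a : C) : K') = algebraMap B₀ K' a := rfl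
        have has' : c * algebraMap B₀ κ s = algebraMap B₀ κ a := has
        rw [Subalgebra.coe_mul, e1, ← h, IsScalarTower.algebraMap_apply B₀ κ K' a, ← has', map_mul,
          map_mul, ← IsScalarTower.algebraMap_apply B₀ κ K', Algebra.smul_def]
        ring }
  have hF : F = ⊤ := by
    rw [eq_top_iff, ← b.span_eq, Submodule.span_le]
    rintro _ ⟨i, rfl⟩
    refine ⟨⟨y i • b i, Algebra.subset_adjoin ⟨i, rfl⟩⟩, y i, hy0 i, ?_⟩
    show b i * algebraMap B₀ K' (y i) = y i • b i
    rw [Algebra.smul_def, mul_comm]
  intro z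
  have hz : z ∈ F := by rw [hF]; trivial
  obtain ⟨x, t, ht, h⟩ := hz
  refine ⟨x, algebraMap B₀ C t, ?_⟩
  have ht' : algebraMap B₀ K' t ≠ 0 := fun h0 => ht (hinjB (by rw [h0, map_zero]))
  have e1 : algebraMap C K' (algebraMap B₀ C t) = algebraMap B₀ K' t := rfl
  have e2 : algebraMap C K' x = (x : K') := rfl
  rw [e1, e2, ← h, mul_div_cancel_right₀ _ ht']


open IsLocalRing in
/-- If the completions `Â ⊗ C` of all finite `A`-algebras `C` that are domains are reduced, then
the formal fibres of `A` are geometrically reduced. -/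
theorem hasGeomReducedFormalFibres_of_tensor (A : Type u) [CommRing A] [IsNoetherianRing A]
    [IsLocalRing A]
    (hyp : ∀ (C : Type u) [CommRing C] [IsDomain C] [Algebra A C] [Module.Finite A C],
      IsReduced (AdicCompletion (maximalIdeal A) A ⊗[A] C)) :
    EGA4.HasGeomReducedFormalFibres A := by
  intro p _
  apply Groth.Agent.Lib.Helper14.GeomReducedFin.isGeometricallyReduced_of_forall_finite
  intro K' _ _ hfin
  letI : Algebra A K' :=
    ((algebraMap p.ResidueField K').comp (algebraMap A p.ResidueField)).toAlgebra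
  haveI : IsScalarTower A p.ResidueField K' := IsScalarTower.of_algebraMap_eq (fun _ => rfl)
  letI : Algebra (A ⧸ p) K' :=
    ((algebraMap p.ResidueField K').comp (algebraMap (A ⧸ p) p.ResidueField)).toAlgebra
  haveI : IsScalarTower (A ⧸ p) p.ResidueField K' := IsScalarTower.of_algebraMap_eq (fun _ => rfl)
  haveI : IsScalarTower A (A ⧸ p) K' := IsScalarTower.of_algebraMap_eq (fun a => by
    rw [IsScalarTower.algebraMap_apply A p.ResidueField K',
      IsScalarTower.algebraMap_apply (A ⧸ p) p.ResidueField K',
      ← IsScalarTower.algebraMap_apply A (A ⧸ p) p.ResidueField])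
  obtain ⟨C, hfinC, hfrac⟩ := exists_finite_subalgebra_isFractionRing (A ⧸ p) p.ResidueField K'
  haveI := hfinC
  haveI := hfrac
  haveI : Module.Finite A C := Module.Finite.trans (A ⧸ p) C
  have hT : IsReduced (AdicCompletion (maximalIdeal A) A ⊗[A] C) := hyp C
  have h1 : IsReduced (C ⊗[A] AdicCompletion (maximalIdeal A) A) :=
    isReduced_of_injective
      (Algebra.TensorProduct.comm A C (AdicCompletion (maximalIdeal A) A)).toAlgHom.toRingHom
      (Algebra.TensorProduct.comm A C (AdicCompletion (maximalIdeal A) A)).injective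
  have h2 : IsReduced (K' ⊗[C] (C ⊗[A] AdicCompletion (maximalIdeal A) A)) := by
    letI : Algebra (C ⊗[A] AdicCompletion (maximalIdeal A) A)
        (K' ⊗[C] (C ⊗[A] AdicCompletion (maximalIdeal A) A)) :=
      Algebra.TensorProduct.rightAlgebra
    haveI : IsLocalization (Algebra.algebraMapSubmonoid
        (C ⊗[A] AdicCompletion (maximalIdeal A) A) (nonZeroDivisors C))
        (K' ⊗[C] (C ⊗[A] AdicCompletion (maximalIdeal A) A)) :=
      IsLocalization.tensorRight K' (nonZeroDivisors C)
    exact isReduced_localizationPreserves (R := C ⊗[A] AdicCompletion (maximalIdeal A) A)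
      (Algebra.algebraMapSubmonoid
        (C ⊗[A] AdicCompletion (maximalIdeal A) A) (nonZeroDivisors C))
      (K' ⊗[C] (C ⊗[A] AdicCompletion (maximalIdeal A) A)) h1
  have h3 : IsReduced (K' ⊗[A] AdicCompletion (maximalIdeal A) A) := by
    let e := Algebra.TensorProduct.cancelBaseChange A C C K' (AdicCompletion (maximalIdeal A) A)
    exact isReduced_of_injective e.symm.toAlgHom.toRingHom e.symm.injective
  let e' := Algebra.TensorProduct.cancelBaseChange A p.ResidueField p.ResidueField K'
    (AdicCompletion (maximalIdeal A) A)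
  exact isReduced_of_injective e'.toAlgHom.toRingHom e'.injective


section jac2
variable (A : Type u) [CommRing A] [IsNoetherianRing A] [IsLocalRing A] (C : Type u) [CommRing C]
  [Algebra A C] [Module.Finite A C]

open IsLocalRing Groth.Agent.Lib.Helper15

attribute [local instance] Algebra.TensorProduct.rightAlgebra

theorem exists_sub_mem_map_jacobson (y : AdicCompletion (maximalIdeal A) A ⊗[A] C) :
    ∃ c : C, algebraMap C (AdicCompletion (maximalIdeal A) A ⊗[A] C) c - y ∈
      ((⊥ : Ideal C).jacobson).map (algebraMap C (AdicCompletion (maximalIdeal A) A ⊗[A] C)) := by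
  induction y using TensorProduct.induction_on with
  | zero => exact ⟨0, by simp⟩
  | tmul α c₀ =>
    obtain ⟨a, ha⟩ := Groth.Agent.Lib.Helper14.ComplQuot.exists_sub_mem_maximalIdeal A α
    refine ⟨a • c₀, ?_⟩
    have h1 : algebraMap C (AdicCompletion (maximalIdeal A) A ⊗[A] C) (a • c₀) - α ⊗ₜ[A] c₀ =
        -(algebraMap (AdicCompletion (maximalIdeal A) A) (AdicCompletion (maximalIdeal A) A ⊗[A] C)
          (α - algebraMap A (AdicCompletion (maximalIdeal A) A) a) *
          algebraMap C (AdicCompletion (maximalIdeal A) A ⊗[A] C) c₀) := by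
      have e1 : algebraMap C (AdicCompletion (maximalIdeal A) A ⊗[A] C) (a • c₀) =
          (1 : AdicCompletion (maximalIdeal A) A) ⊗ₜ[A] (a • c₀) := rfl
      have e2 : algebraMap C (AdicCompletion (maximalIdeal A) A ⊗[A] C) c₀ =
          (1 : AdicCompletion (maximalIdeal A) A) ⊗ₜ[A] c₀ := rfl
      rw [e1, e2, Algebra.TensorProduct.algebraMap_apply, Algebra.algebraMap_self, RingHom.id_apply,
        Algebra.TensorProduct.tmul_mul_tmul, mul_one, one_mul, TensorProduct.sub_tmul,
        TensorProduct.tmul_smul, Algebra.algebraMap_eq_smul_one, ← TensorProduct.smul_tmul']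
      simp
    rw [h1]
    refine neg_mem (Ideal.mul_mem_right _ _ ?_)
    rw [AdicCompletion.maximalIdeal_eq_map (R := A)] at ha
    have h2 : ((maximalIdeal A).map (algebraMap A (AdicCompletion (maximalIdeal A) A))).map
        (algebraMap (AdicCompletion (maximalIdeal A) A) (AdicCompletion (maximalIdeal A) A ⊗[A] C)) ≤
        ((⊥ : Ideal C).jacobson).map
          (algebraMap C (AdicCompletion (maximalIdeal A) A ⊗[A] C)) := by
      have h3 : ((maximalIdeal A).map (algebraMap A (AdicCompletion (maximalIdeal A) A))).map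
          (algebraMap (AdicCompletion (maximalIdeal A) A)
            (AdicCompletion (maximalIdeal A) A ⊗[A] C)) =
          ((maximalIdeal A).map (algebraMap A C)).map
            (algebraMap C (AdicCompletion (maximalIdeal A) A ⊗[A] C)) := by
        rw [Ideal.map_map, Ideal.map_map]
        congr 1
        ext a
        simp only [RingHom.comp_apply]
        rw [← IsScalarTower.algebraMap_apply, ← IsScalarTower.algebraMap_apply]
      rw [h3]
      exact Ideal.map_mono (map_maximalIdeal_le_jacobson A C)
    exact h2 (Ideal.mem_map_of_mem _ ha)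
  | add x y hx hy =>
    obtain ⟨c1, h1⟩ := hx
    obtain ⟨c2, h2⟩ := hy
    refine ⟨c1 + c2, ?_⟩
    have : algebraMap C (AdicCompletion (maximalIdeal A) A ⊗[A] C) (c1 + c2) - (x + y) =
        (algebraMap C (AdicCompletion (maximalIdeal A) A ⊗[A] C) c1 - x) +
        (algebraMap C (AdicCompletion (maximalIdeal A) A ⊗[A] C) c2 - y) := by
      rw [map_add]; ring
    rw [this]
    exact add_mem h1 h2

theorem exists_bijective_algHom :
    ∃ lam : AdicCompletion (⊥ : Ideal C).jacobson C →ₐ[C]
      AdicCompletion (maximalIdeal A) A ⊗[A] C, Function.Bijective lam := by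
  haveI := isAdicComplete_jacobson_tensor A C
  haveI : IsNoetherianRing C := IsNoetherianRing.of_finite A C
  let lam : AdicCompletion (⊥ : Ideal C).jacobson C →ₐ[C]
      AdicCompletion (maximalIdeal A) A ⊗[A] C := CS.liftMap (⊥ : Ideal C).jacobson
  have hsurj : Function.Surjective lam :=
    CS.liftMap_surjective _ (IsNoetherian.noetherian _) (exists_sub_mem_map_jacobson A C)
  have hinj : Function.Injective lam := by
    rw [injective_iff_map_eq_zero]
    intro z hz
    obtain ⟨a, rfl⟩ := AdicCompletion.mk_surjective _ _ z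
    apply AdicCompletion.ext_evalₐ
    intro n
    rw [map_zero, AdicCompletion.evalₐ_mk, Ideal.Quotient.eq_zero_iff_mem]
    have h1 : Ideal.Quotient.mk (((⊥ : Ideal C).jacobson.map
        (algebraMap C (AdicCompletion (maximalIdeal A) A ⊗[A] C))) ^ n)
        (lam (AdicCompletion.mk _ _ a)) = CS.levelMap (⊥ : Ideal C).jacobson n
          (AdicCompletion.mk _ _ a) :=
      IsAdicComplete.mk_liftAlgHom _ _ _ n _
    rw [hz, map_zero, CS.levelMap_mk] at h1
    have h2 := Ideal.Quotient.eq_zero_iff_mem.mp h1.symm
    rw [← Ideal.map_pow] at h2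
    exact mem_of_algebraMap_mem_map A C _ _ h2
  exact ⟨lam, hinj, hsurj⟩

theorem isReduced_tensor_of_adicCompletion_jacobson
    (h : IsReduced (AdicCompletion (⊥ : Ideal C).jacobson C)) :
    IsReduced (AdicCompletion (maximalIdeal A) A ⊗[A] C) := by
  obtain ⟨lam, hlam⟩ := exists_bijective_algHom A C
  let e := RingEquiv.ofBijective lam.toRingHom hlam
  exact isReduced_of_injective e.symm.toRingHom e.symm.injective

end jac2

end Groth.Agent.Lib.Helper27.NagAU
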