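import Groth.Agent.Lib.Helper27.NagFin3
import Groth.Prelude.Def_EGA4b
import Groth.Agent.S4738

/-!
# Local rings with geometrically reduced formal fibres are Nagata (EGA IV 7.6.4-ish)
-/

set_option autoImplicit false
set_option linter.style.haveILetI false

universe u

namespace Groth.Agent.Lib.Helper27.NagFinG

open TensorProduct IsLocalRing Groth.Agent.Lib.Helper12

attribute [local instance] Algebra.TensorProduct.rightAlgebra in
/-- A Noetherian local domain whose generic formal fibre is geometrically reduced is N-2. -/
theorem isN2_of_generic_formalFibre (A : Type u) [CommRing A] [IsDomain A] [IsNoetherianRing A]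
    [IsLocalRing A]
    (h : Algebra.IsGeometricallyReduced (⊥ : Ideal A).ResidueField
      ((⊥ : Ideal A).Fiber (AdicCompletion (maximalIdeal A) A))) : CAlg.IsN2 A := by
  rw [NagataLoc.isN2_iff_N2']
  intro L _ _ hinj hfg
  haveI : IsLocalization (Algebra.algebraMapSubmonoid (AdicCompletion (maximalIdeal A) A)
      (nonZeroDivisors A))
      ((⊥ : Ideal A).ResidueField ⊗[A] AdicCompletion (maximalIdeal A) A) :=
    IsLocalization.tensorRight _ (nonZeroDivisors A)
  letI : Algebra (⊥ : Ideal A).ResidueField L :=
    (IsFractionRing.lift (K := (⊥ : Ideal A).ResidueField) hinj).toAlgebra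
  haveI : IsScalarTower A (⊥ : Ideal A).ResidueField L :=
    IsScalarTower.of_algebraMap_eq fun a => (IsFractionRing.lift_algebraMap hinj a).symm
  haveI : FiniteDimensional (⊥ : Ideal A).ResidueField L :=
    N2.finiteDimensional_of_finGen A (⊥ : Ideal A).ResidueField L hfg
  haveI : Algebra.IsAlgebraic (⊥ : Ideal A).ResidueField L := Algebra.IsAlgebraic.of_finite _ _
  have hred1 : IsReduced (L ⊗[(⊥ : Ideal A).ResidueField]
      ((⊥ : Ideal A).ResidueField ⊗[A] AdicCompletion (maximalIdeal A) A)) := inferInstance
  have hred : IsReduced (((⊥ : Ideal A).ResidueField ⊗[A] AdicCompletion (maximalIdeal A) A)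
      ⊗[A] L) := by
    let e1 := IsLocalization.algebraTensorEquiv (nonZeroDivisors A) (⊥ : Ideal A).ResidueField
      ((⊥ : Ideal A).ResidueField ⊗[A] AdicCompletion (maximalIdeal A) A) L
    let e2 := Algebra.TensorProduct.comm (⊥ : Ideal A).ResidueField L
      ((⊥ : Ideal A).ResidueField ⊗[A] AdicCompletion (maximalIdeal A) A)
    exact isReduced_of_injective (e2.trans e1).symm (e2.trans e1).symm.injective
  refine finite_integralClosure (⊥ : Ideal A).ResidueField
    (Algebra.algebraMapSubmonoid (AdicCompletion (maximalIdeal A) A) (nonZeroDivisors A))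
    ?_ ?_ hred inferInstance
  · rintro _ ⟨s, hs, rfl⟩
    have hreg : IsSMulRegular (AdicCompletion (maximalIdeal A) A) s :=
      Module.Flat.isSMulRegular_of_nonZeroDivisors hs
    rw [mem_nonZeroDivisors_iff_right]
    intro x hx
    apply hreg
    show s • x = s • (0 : AdicCompletion (maximalIdeal A) A)
    rw [smul_zero, Algebra.smul_def, mul_comm]
    exact hx
  · intro s hs
    have h1 : algebraMap A ((⊥ : Ideal A).ResidueField ⊗[A] AdicCompletion (maximalIdeal A) A) s =
        Algebra.TensorProduct.includeLeft (R := A) (S := A)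
          (algebraMap A (⊥ : Ideal A).ResidueField s) := rfl
    rw [h1]
    refine IsUnit.map _ (IsUnit.mk0 _ ?_)
    rw [Ne, map_eq_zero_iff _ (IsFractionRing.injective A (⊥ : Ideal A).ResidueField)]
    exact hs

end Groth.Agent.Lib.Helper27.NagFinG
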