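import Groth.Agent.Lib.Helper27.HensRed
import Groth.Agent.S0566
import Groth.Agent.S2657
import Groth.Agent.S2647
import Groth.Agent.S2648

/-!
# Nagata local rings, universally Japanese rings and formal fibres

* `isUniversallyJapanese_iff_isNagata`: for a Noetherian ring, universally Japanese ⟺ Nagata
  (uses Nagata's theorem, `Groth.Agent.S0566`).
* `isNagata_iff_hasGeomReducedFormalFibres`: for a Noetherian local ring, Nagata ⟺ geometrically
  reduced formal fibres (Zariski–Nagata).
* `isNagata_henselization_iff`.
-/

open TensorProduct
universe u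
open IsLocalRing
set_option linter.style.haveILetI false
set_option linter.unusedSectionVars false
set_option autoImplicit false

namespace Groth.Agent.Lib.Helper27.NagataFF

open Groth.Agent.Lib.Helper26 Groth.Agent.Lib.Helper12

theorem isUniversallyJapanese_iff_isNagata (A : Type u) [CommRing A] [IsNoetherianRing A] :
    CAlg.IsUniversallyJapanese A ↔ CAlg.IsNagata A := by
  constructor
  · intro h
    refine ⟨inferInstance, fun p hp => ?_⟩
    exact h (A ⧸ p) (inferInstance : Algebra.FiniteType A (A ⧸ p))
  · intro h S _ _ _ hft
    haveI := hft
    have hS := NagThmA.isNagata_of_finiteType A h S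
    exact (NagataLoc.isN2_iff_N2' _).2 (NagThmA.N2'_of_isNagata_domain S hS)

theorem isNagata_iff_hasGeomReducedFormalFibres (A : Type u) [CommRing A] [IsNoetherianRing A]
    [IsLocalRing A] : CAlg.IsNagata A ↔ EGA4.HasGeomReducedFormalFibres A := by
  constructor
  · intro h
    rw [← Groth.Agent.S2648.result A]
    intro C _ _ hfin hred
    exact Groth.Agent.S2647.result A h.2 C
  · exact Groth.Agent.S2657.result A

theorem isNagata_henselization_iff (A S : Type u) [CommRing A] [IsLocalRing A]
    [IsNoetherianRing A] [CommRing S] [IsLocalRing S] [Algebra A S] [IsLocalHom (algebraMap A S)]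
    [Hensel.IsHenselization A S] : CAlg.IsNagata S ↔ CAlg.IsNagata A := by
  haveI : IsNoetherianRing S := (Groth.Agent.S0511.result A S).mp inferInstance
  rw [isNagata_iff_hasGeomReducedFormalFibres, isNagata_iff_hasGeomReducedFormalFibres]
  exact ⟨HensRed.hasGeomReducedFormalFibres_of_henselization A S,
    HensRed.hasGeomReducedFormalFibres_henselization A S⟩

end Groth.Agent.Lib.Helper27.NagataFF
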