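import Mathlib

/-!
# First Koszul homology of a linear form, done by hand

For a linear form `l : F → A` we put `Bd l = span {l u • v - l v • u}` (the Koszul boundaries),
which lies in `ker l`, and `H l = ker l / Bd l`.  We prove invariance under isomorphisms, the
computation `H (0 ⊕ l) ≃ F'/JF' × H l` (`J = range l`) and the resulting Schanuel-type formula
`length (F'/JF') + length (H l) = length (F/JF) + length (H l')` when `range l = range l'` and
`F`, `F'` are projective.
-/

set_option autoImplicit false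

namespace Groth.Agent.Lib.Helper27.KosH1

universe u v w

section Basic

variable {A : Type u} [CommRing A]
variable {F : Type v} [AddCommGroup F] [Module A F]
variable {F' : Type w} [AddCommGroup F'] [Module A F']

/-- The Koszul boundaries of a linear form `l : F → A`. -/
def Bd (l : F →ₗ[A] A) : Submodule A F :=
  Submodule.span A {z | ∃ u v : F, z = l u • v - l v • u}

lemma gen_mem_Bd (l : F →ₗ[A] A) (u v : F) : l u • v - l v • u ∈ Bd l :=
  Submodule.subset_span ⟨u, v, rfl⟩

lemma Bd_le_ker (l : F →ₗ[A] A) : Bd l ≤ LinearMap.ker l := by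
  rw [Bd, Submodule.span_le]
  rintro z ⟨u, v, rfl⟩
  simp only [SetLike.mem_coe, LinearMap.mem_ker, map_sub, map_smul, smul_eq_mul]
  ring

lemma Bd_map_le (e : F →ₗ[A] F') (l' : F' →ₗ[A] A) :
    (Bd (l' ∘ₗ e)).map e ≤ Bd l' := by
  rw [Bd, Submodule.map_span, Submodule.span_le]
  rintro _ ⟨z, ⟨u, v, rfl⟩, rfl⟩
  simp only [LinearMap.comp_apply, map_sub, map_smul]
  exact gen_mem_Bd l' (e u) (e v)

/-- First Koszul homology of a linear form. -/
abbrev H (l : F →ₗ[A] A) : Type v :=
  ↥(LinearMap.ker l) ⧸ (Bd l).submoduleOf (LinearMap.ker l)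

theorem H_congr (e : F ≃ₗ[A] F') (l : F →ₗ[A] A) (l' : F' →ₗ[A] A)
    (h : l' ∘ₗ (e : F →ₗ[A] F') = l) : Nonempty (H l ≃ₗ[A] H l') := by
  have h' : l ∘ₗ (e.symm : F' →ₗ[A] F) = l' := by
    rw [← h]; ext z; simp
  have hk : ∀ z : F, z ∈ LinearMap.ker l → (e : F →ₗ[A] F') z ∈ LinearMap.ker l' := by
    intro z hz
    rw [LinearMap.mem_ker] at hz ⊢
    rw [← h] at hz; exact hz
  let g : ↥(LinearMap.ker l) →ₗ[A] ↥(LinearMap.ker l') := (e : F →ₗ[A] F').restrict hk
  let Ψ : ↥(LinearMap.ker l) →ₗ[A] H l' :=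
    (Submodule.mkQ ((Bd l').submoduleOf (LinearMap.ker l'))) ∘ₗ g
  have hsurj : Function.Surjective Ψ := by
    intro q
    obtain ⟨⟨z', hz'⟩, rfl⟩ := Submodule.Quotient.mk_surjective _ q
    have hz : e.symm z' ∈ LinearMap.ker l := by
      rw [LinearMap.mem_ker] at hz' ⊢
      rw [← h'] at hz'; exact hz'
    refine ⟨⟨e.symm z', hz⟩, ?_⟩
    show Submodule.Quotient.mk (g ⟨e.symm z', hz⟩) = _
    congr 1
    apply Subtype.ext
    show e (e.symm z') = z'
    simp
  have hker : LinearMap.ker Ψ = (Bd l).submoduleOf (LinearMap.ker l) := by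
    ext ⟨z, hz⟩
    rw [LinearMap.mem_ker]
    show Submodule.Quotient.mk (g ⟨z, hz⟩) = 0 ↔ _
    rw [Submodule.Quotient.mk_eq_zero]
    show e z ∈ Bd l' ↔ z ∈ Bd l
    constructor
    · intro hz'
      have := Bd_map_le (e.symm : F' →ₗ[A] F) l (Submodule.mem_map_of_mem (f := (e.symm : F' →ₗ[A] F))
        (by rw [h']; exact hz'))
      simpa using this
    · intro hz'
      exact Bd_map_le (e : F →ₗ[A] F') l' (Submodule.mem_map_of_mem (f := (e : F →ₗ[A] F'))
        (by rw [h]; exact hz'))
  exact ⟨(Submodule.quotEquivOfEq _ _ hker.symm).trans (LinearMap.quotKerEquivOfSurjective Ψ hsurj)⟩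

theorem Bd_zero_coprod (l : F →ₗ[A] A) :
    Bd ((0 : F' →ₗ[A] A).coprod l) =
      ((LinearMap.range l : Ideal A) • (⊤ : Submodule A F')).prod (Bd l) := by
  apply le_antisymm
  · rw [Bd, Submodule.span_le]
    rintro z ⟨a, b, rfl⟩
    simp only [LinearMap.coprod_apply, LinearMap.zero_apply, zero_add, SetLike.mem_coe,
      Submodule.mem_prod, Prod.fst_sub, Prod.snd_sub, Prod.smul_fst, Prod.smul_snd]
    refine ⟨Submodule.sub_mem _ ?_ ?_, gen_mem_Bd l a.2 b.2⟩
    · exact Submodule.smul_mem_smul ⟨a.2, rfl⟩ Submodule.mem_top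
    · exact Submodule.smul_mem_smul ⟨b.2, rfl⟩ Submodule.mem_top
  · rintro ⟨u', u⟩ ⟨h1, h2⟩
    simp only at h1 h2
    have e1 : ((u', u) : F' × F) = LinearMap.inl A F' F u' + LinearMap.inr A F' F u := by
      simp
    rw [e1]
    refine Submodule.add_mem _ ?_ ?_
    · refine Submodule.smul_induction_on h1 ?_ ?_
      · rintro r ⟨w, rfl⟩ n -
        have := gen_mem_Bd ((0 : F' →ₗ[A] A).coprod l) ((0, w) : F' × F) ((n, 0) : F' × F)
        simpa using this
      · intro x y hx hy
        rw [map_add]; exact Submodule.add_mem _ hx hy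
    · have hc : ((0 : F' →ₗ[A] A).coprod l) ∘ₗ LinearMap.inr A F' F = l := LinearMap.coprod_inr _ _
      exact Bd_map_le (LinearMap.inr A F' F) _ (Submodule.mem_map_of_mem (by rw [hc]; exact h2))

theorem H_zero_coprod (l : F →ₗ[A] A) :
    Nonempty (H ((0 : F' →ₗ[A] A).coprod l) ≃ₗ[A]
      ((F' ⧸ ((LinearMap.range l : Ideal A) • (⊤ : Submodule A F'))) × H l)) := by
  set L := (0 : F' →ₗ[A] A).coprod l with hL
  have hk : ∀ z : F' × F, z ∈ LinearMap.ker L → LinearMap.snd A F' F z ∈ LinearMap.ker l := by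
    intro z hz
    rw [LinearMap.mem_ker] at hz ⊢
    simpa [hL] using hz
  let g2 : ↥(LinearMap.ker L) →ₗ[A] ↥(LinearMap.ker l) := (LinearMap.snd A F' F).restrict hk
  let Φ : ↥(LinearMap.ker L) →ₗ[A]
      ((F' ⧸ ((LinearMap.range l : Ideal A) • (⊤ : Submodule A F'))) × H l) :=
    LinearMap.prod
      ((Submodule.mkQ _) ∘ₗ (LinearMap.fst A F' F) ∘ₗ (LinearMap.ker L).subtype)
      ((Submodule.mkQ ((Bd l).submoduleOf (LinearMap.ker l))) ∘ₗ g2)
  have hsurj : Function.Surjective Φ := by
    rintro ⟨q1, q2⟩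
    obtain ⟨u', rfl⟩ := Submodule.Quotient.mk_surjective _ q1
    obtain ⟨⟨u, hu⟩, rfl⟩ := Submodule.Quotient.mk_surjective _ q2
    have hz : ((u', u) : F' × F) ∈ LinearMap.ker L := by
      rw [LinearMap.mem_ker] at hu ⊢
      simp [hL, hu]
    refine ⟨⟨(u', u), hz⟩, ?_⟩
    rfl
  have hker : LinearMap.ker Φ = (Bd L).submoduleOf (LinearMap.ker L) := by
    ext ⟨⟨u', u⟩, hz⟩
    rw [LinearMap.mem_ker]
    show ((Submodule.Quotient.mk u' : F' ⧸ _), (Submodule.Quotient.mk (g2 ⟨(u', u), hz⟩) : H l)) = 0 ↔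
      ((u', u) : F' × F) ∈ Bd L
    have hB := Bd_zero_coprod (F' := F') l
    rw [← hL] at hB
    rw [Prod.mk_eq_zero, Submodule.Quotient.mk_eq_zero, Submodule.Quotient.mk_eq_zero,
      hB, Submodule.mem_prod]
    rfl
  exact ⟨(Submodule.quotEquivOfEq _ _ hker.symm).trans (LinearMap.quotKerEquivOfSurjective Φ hsurj)⟩

theorem length_H_zero_coprod (l : F →ₗ[A] A) :
    Module.length A (H ((0 : F' →ₗ[A] A).coprod l)) =
      Module.length A (F' ⧸ ((LinearMap.range l : Ideal A) • (⊤ : Submodule A F'))) +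
        Module.length A (H l) := by
  obtain ⟨e⟩ := H_zero_coprod (F' := F') l
  rw [e.length_eq, Module.length_prod]

end Basic

section Schanuel

variable {A : Type u} [CommRing A]
variable {F : Type v} [AddCommGroup F] [Module A F]
variable {F' : Type v} [AddCommGroup F'] [Module A F']

theorem length_H_sum (l : F →ₗ[A] A) (l' : F' →ₗ[A] A) [Module.Projective A F']
    (hJ : LinearMap.range l' ≤ LinearMap.range l) :
    Module.length A (H (l'.coprod l)) =
      Module.length A (F' ⧸ ((LinearMap.range l : Ideal A) • (⊤ : Submodule A F'))) +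
        Module.length A (H l) := by
  obtain ⟨φ, hφ⟩ := Module.projective_lifting_property l.rangeRestrict
    (l'.codRestrict (LinearMap.range l) (fun c => hJ (LinearMap.mem_range_self l' c)))
    l.surjective_rangeRestrict
  have hφ' : ∀ c, l (φ c) = l' c := by
    intro c
    have := congrArg (fun f => ((f c : LinearMap.range l) : A)) hφ
    simpa using this
  let e := LinearEquiv.skewProd (LinearEquiv.refl A F') (LinearEquiv.refl A F) φ
  have he : ((0 : F' →ₗ[A] A).coprod l) ∘ₗ (e : (F' × F) →ₗ[A] (F' × F)) = l'.coprod l := by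
    apply LinearMap.ext
    rintro ⟨u', u⟩
    simp [e, hφ', add_comm]
  obtain ⟨E⟩ := H_congr e (l'.coprod l) ((0 : F' →ₗ[A] A).coprod l) he
  rw [E.length_eq, length_H_zero_coprod]

theorem length_add_eq (l : F →ₗ[A] A) (l' : F' →ₗ[A] A) [Module.Projective A F]
    [Module.Projective A F'] (hJ : LinearMap.range l = LinearMap.range l') :
    Module.length A (F' ⧸ ((LinearMap.range l : Ideal A) • (⊤ : Submodule A F'))) +
        Module.length A (H l) =
      Module.length A (F ⧸ ((LinearMap.range l' : Ideal A) • (⊤ : Submodule A F))) +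
        Module.length A (H l') := by
  rw [← length_H_sum l l' hJ.ge, ← length_H_sum l' l hJ.le]
  obtain ⟨E⟩ := H_congr (LinearEquiv.prodComm A F' F) (l'.coprod l) (l.coprod l') (by
    apply LinearMap.ext
    rintro ⟨u', u⟩
    simp [add_comm])
  exact E.length_eq

end Schanuel

section Pi

variable {A : Type u} [CommRing A] [IsLocalRing A]

open IsLocalRing

omit [IsLocalRing A] in
theorem smul_top_pi (ι : Type v) [Fintype ι] (J : Ideal A) :
    (J • (⊤ : Submodule A (ι → A))) = Submodule.pi Set.univ (fun _ : ι => (J : Submodule A A)) := by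
  classical
  apply le_antisymm
  · rw [Submodule.smul_le]
    intro r hr n _
    rw [Submodule.mem_pi]
    intro i _
    show r * n i ∈ J
    exact J.mul_mem_right _ hr
  · intro v hv
    rw [Submodule.mem_pi] at hv
    have : v = ∑ i, v i • (Pi.single i (1 : A) : ι → A) := by
      ext j
      simp [Finset.sum_apply, Pi.single_apply]
    rw [this]
    exact Submodule.sum_mem _ (fun i _ => Submodule.smul_mem_smul (hv i (Set.mem_univ i))
      Submodule.mem_top)

theorem length_quot_maximalIdeal :
    Module.length A (A ⧸ (maximalIdeal A : Submodule A A)) = 1 := by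
  have : IsSimpleModule A (A ⧸ (maximalIdeal A : Submodule A A)) :=
    isSimpleModule_iff_quot_maximal.mpr ⟨maximalIdeal A, inferInstance, ⟨LinearEquiv.refl _ _⟩⟩
  exact Module.length_eq_one _ _

theorem length_pi_quot (ι : Type v) [Fintype ι] :
    Module.length A ((ι → A) ⧸ (maximalIdeal A • (⊤ : Submodule A (ι → A)))) = Fintype.card ι := by
  classical
  rw [(Submodule.quotEquivOfEq _ _ (smul_top_pi ι (maximalIdeal A))).length_eq,
    (Submodule.quotientPi (fun _ : ι => (maximalIdeal A : Submodule A A))).length_eq,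
    Module.length_pi_of_fintype]
  simp [length_quot_maximalIdeal]

theorem length_H_lc_add (ι ι' : Type v) [Fintype ι] [Fintype ι'] (y : ι → A) (y' : ι' → A)
    (hy : Ideal.span (Set.range y) = maximalIdeal A)
    (hy' : Ideal.span (Set.range y') = maximalIdeal A) :
    (Fintype.card ι' : ℕ∞) + Module.length A (H (Fintype.linearCombination A y)) =
      Fintype.card ι + Module.length A (H (Fintype.linearCombination A y')) := by
  have hr : LinearMap.range (Fintype.linearCombination A y) = maximalIdeal A := by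
    rw [Fintype.range_linearCombination]; exact hy
  have hr' : LinearMap.range (Fintype.linearCombination A y') = maximalIdeal A := by
    rw [Fintype.range_linearCombination]; exact hy'
  have h := length_add_eq (Fintype.linearCombination A y) (Fintype.linearCombination A y')
    (hr.trans hr'.symm)
  rw [hr, hr', length_pi_quot, length_pi_quot] at h
  exact h

end Pi

end Groth.Agent.Lib.Helper27.KosH1
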