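import Mathlib
import Groth.Agent.Lib.Helper27.KosH1

/-!
# Koszul relations of a regular sequence and `μ(I) = length H₁`

* `Good J n`: `J` is the image of a linear form on a free module of rank `n` whose first Koszul
  homology vanishes; regular sequences give such forms (`good_of_isWeaklyRegular`).
* `spanFinrank_ker_eq_length`: for a surjection `B → A` of a Noetherian local ring `B` with kernel
  `I ⊆ 𝔪`, and a family `x` generating `𝔪_B` with vanishing `H₁`, `μ(I) = length H₁(x̄; A)`.
-/

set_option autoImplicit false

namespace Groth.Agent.Lib.Helper27.KosH1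

universe u

section Good

variable {B : Type u} [CommRing B] [Nontrivial B]

/-- `Good J n`: `J` is the image of a linear form on a finite free module of rank `n` whose
first Koszul homology vanishes. -/
def Good (J : Ideal B) (n : ℕ) : Prop :=
  ∃ (F : Type u) (_ : AddCommGroup F) (_ : Module B F) (_ : Module.Free B F)
    (_ : Module.Finite B F) (l : F →ₗ[B] B),
    LinearMap.range l = J ∧ Module.finrank B F = n ∧ LinearMap.ker l ≤ Bd l

theorem good_bot : Good (⊥ : Ideal B) 0 :=
  ⟨PUnit, inferInstance, inferInstance, inferInstance, inferInstance, 0, LinearMap.range_zero,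
    Module.finrank_zero_of_subsingleton, by
    intro z _; rw [Subsingleton.elim z 0]; exact Submodule.zero_mem _⟩

theorem good_step {J : Ideal B} {n : ℕ} (h : Good J n) (x : B) (hx : ∀ b : B, b * x ∈ J → b ∈ J) :
    Good (J ⊔ Ideal.span {x}) (n + 1) := by
  obtain ⟨F, _, _, _, _, l, hr, hn, hk⟩ := h
  refine ⟨F × B, inferInstance, inferInstance, inferInstance, inferInstance,
    l.coprod (LinearMap.toSpanSingleton B B x), ?_, ?_, ?_⟩
  · rw [LinearMap.range_coprod, hr, ← LinearMap.span_singleton_eq_range]
  · rw [Module.finrank_prod, hn, Module.finrank_self]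
  · rintro ⟨u, b⟩ hz
    rw [LinearMap.mem_ker] at hz
    simp only [LinearMap.coprod_apply, LinearMap.toSpanSingleton_apply, smul_eq_mul] at hz
    have hb : b ∈ J := by
      apply hx
      rw [← hr]
      exact ⟨-u, by rw [map_neg]; linear_combination (-1 : B) * hz⟩
    rw [← hr] at hb
    obtain ⟨w, rfl⟩ := hb
    have hg := gen_mem_Bd (l.coprod (LinearMap.toSpanSingleton B B x)) ((w, 0) : F × B)
      ((0, 1) : F × B)
    have h1 : (l.coprod (LinearMap.toSpanSingleton B B x)) (w, 0) • ((0, 1) : F × B) -
        (l.coprod (LinearMap.toSpanSingleton B B x)) (0, 1) • ((w, 0) : F × B) =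
        (-(x • w), l w) := by
      simp
    rw [h1] at hg
    have h2 : ((u, l w) : F × B) = (-(x • w), l w) + LinearMap.inl B F B (u + x • w) := by
      simp
    rw [h2]
    refine Submodule.add_mem _ hg ?_
    have hc : (l.coprod (LinearMap.toSpanSingleton B B x)) ∘ₗ LinearMap.inl B F B = l :=
      LinearMap.coprod_inl _ _
    refine Bd_map_le (LinearMap.inl B F B) _ (Submodule.mem_map_of_mem ?_)
    rw [hc]
    apply hk
    rw [LinearMap.mem_ker, map_add, map_smul, smul_eq_mul]
    linear_combination hz

theorem good_of_isWeaklyRegular (rs : List B) (h : RingTheory.Sequence.IsWeaklyRegular B rs) :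
    Good (Ideal.ofList rs) rs.length := by
  induction rs using List.reverseRecOn with
  | nil => simpa using good_bot (B := B)
  | append_singleton rs x ih =>
    rw [RingTheory.Sequence.isWeaklyRegular_append_iff] at h
    obtain ⟨h1, h2⟩ := h
    rw [RingTheory.Sequence.isWeaklyRegular_singleton_iff] at h2
    have hsm : (Ideal.ofList rs • ⊤ : Submodule B B) = Ideal.ofList rs := by
      rw [smul_eq_mul, Ideal.mul_top]
    have := good_step (ih h1) x (by
      intro b hb
      rw [isSMulRegular_iff_right_eq_zero_of_smul] at h2
      have := h2 (Submodule.Quotient.mk b) (by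
        rw [← Submodule.Quotient.mk_smul, Submodule.Quotient.mk_eq_zero, hsm, smul_eq_mul,
          mul_comm]
        exact hb)
      rw [Submodule.Quotient.mk_eq_zero, hsm] at this
      exact this)
    rw [Ideal.ofList_append, Ideal.ofList_singleton, List.length_append, List.length_singleton]
    exact this

theorem exists_family_of_good {J : Ideal B} {n : ℕ} (h : Good J n) :
    ∃ (ι : Type u) (_ : Fintype ι) (x : ι → B), Fintype.card ι = n ∧
      Ideal.span (Set.range x) = J ∧
      LinearMap.ker (Fintype.linearCombination B x) ≤ Bd (Fintype.linearCombination B x) := by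
  obtain ⟨F, _, _, _, _, l, hr, hn, hk⟩ := h
  let b := Module.Free.chooseBasis B F
  let x : Module.Free.ChooseBasisIndex B F → B := fun i => l (b i)
  have hcomp : l ∘ₗ (b.equivFun.symm : (Module.Free.ChooseBasisIndex B F → B) →ₗ[B] F) =
      Fintype.linearCombination B x := by
    apply LinearMap.ext; intro c
    simp [Fintype.linearCombination_apply, Module.Basis.equivFun_symm_apply, x, map_sum]
  have hcomp' : (Fintype.linearCombination B x) ∘ₗ
      (b.equivFun : F →ₗ[B] (Module.Free.ChooseBasisIndex B F → B)) = l := by
    rw [← hcomp]; apply LinearMap.ext; intro c; simp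
  refine ⟨Module.Free.ChooseBasisIndex B F, inferInstance, x, ?_, ?_, ?_⟩
  · rw [← hn, Module.finrank_eq_card_chooseBasisIndex]
  · have : LinearMap.range (Fintype.linearCombination B x) = J := by
      rw [← hcomp, LinearMap.range_comp, LinearEquiv.range, Submodule.map_top, hr]
    rw [Fintype.range_linearCombination] at this
    exact this
  · intro c hc
    have h1 : b.equivFun.symm c ∈ LinearMap.ker l := by
      rw [LinearMap.mem_ker] at hc ⊢
      rw [← hcomp] at hc; exact hc
    have hmem : b.equivFun.symm c ∈ Bd ((Fintype.linearCombination B x) ∘ₗ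
        (b.equivFun : F →ₗ[B] (Module.Free.ChooseBasisIndex B F → B))) := by
      rw [hcomp']; exact hk h1
    have h3 : (b.equivFun : F →ₗ[B] (Module.Free.ChooseBasisIndex B F → B)) (b.equivFun.symm c) ∈
        Submodule.map (b.equivFun : F →ₗ[B] (Module.Free.ChooseBasisIndex B F → B))
          (Bd ((Fintype.linearCombination B x) ∘ₗ
            (b.equivFun : F →ₗ[B] (Module.Free.ChooseBasisIndex B F → B)))) :=
      Submodule.mem_map_of_mem hmem
    have h2 := Bd_map_le (b.equivFun : F →ₗ[B] (Module.Free.ChooseBasisIndex B F → B))
      (Fintype.linearCombination B x) h3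
    have h4 : (b.equivFun : F →ₗ[B] (Module.Free.ChooseBasisIndex B F → B)) (b.equivFun.symm c) = c :=
      b.equivFun.apply_symm_apply c
    rwa [h4] at h2

end Good

section F4

open IsLocalRing

variable {B A : Type u} [CommRing B] [CommRing A] [Algebra B A]

/-- the image of a Koszul boundary is a Koszul boundary -/
theorem compLeft_mem_Bd {ι : Type u} [Fintype ι] (x : ι → B) (z : ι → B)
    (hz : z ∈ Bd (Fintype.linearCombination B x)) :
    (fun i => algebraMap B A (z i)) ∈
      Bd (Fintype.linearCombination A (fun i => algebraMap B A (x i))) := by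
  have hcompat : ∀ c : ι → B, Fintype.linearCombination A (fun i => algebraMap B A (x i))
      (fun i => algebraMap B A (c i)) = algebraMap B A (Fintype.linearCombination B x c) := by
    intro c
    simp [Fintype.linearCombination_apply, map_sum]
  rw [Bd] at hz
  induction hz using Submodule.span_induction with
  | mem z hz =>
    obtain ⟨u, v, rfl⟩ := hz
    have := gen_mem_Bd (Fintype.linearCombination A (fun i => algebraMap B A (x i)))
      (fun i => algebraMap B A (u i)) (fun i => algebraMap B A (v i))
    rw [hcompat, hcompat] at this
    convert this using 1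
    funext i
    simp [Algebra.smul_def]
  | zero =>
    have : (fun i => algebraMap B A ((0 : ι → B) i)) = 0 := by funext i; simp
    rw [this]; exact Submodule.zero_mem _
  | add z w _ _ hz hw =>
    have : (fun i => algebraMap B A ((z + w) i)) =
        (fun i => algebraMap B A (z i)) + (fun i => algebraMap B A (w i)) := by
      funext i; simp
    rw [this]; exact Submodule.add_mem _ hz hw
  | smul r z _ hz =>
    have : (fun i => algebraMap B A ((r • z) i)) =
        algebraMap B A r • (fun i => algebraMap B A (z i)) := by
      funext i; simp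
    rw [this]; exact Submodule.smul_mem _ _ hz

/-- every Koszul boundary over `A` lifts to one over `B` when `B → A` is surjective -/
theorem exists_lift_of_mem_Bd (hsurj : Function.Surjective (algebraMap B A))
    {ι : Type u} [Fintype ι] (x : ι → B) (v : ι → A)
    (hv : v ∈ Bd (Fintype.linearCombination A (fun i => algebraMap B A (x i)))) :
    ∃ b ∈ Bd (Fintype.linearCombination B x), (fun i => algebraMap B A (b i)) = v := by
  have hcompat : ∀ c : ι → B, Fintype.linearCombination A (fun i => algebraMap B A (x i))
      (fun i => algebraMap B A (c i)) = algebraMap B A (Fintype.linearCombination B x c) := by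
    intro c
    simp [Fintype.linearCombination_apply, map_sum]
  rw [Bd] at hv
  induction hv using Submodule.span_induction with
  | mem z hz =>
    obtain ⟨u, w, rfl⟩ := hz
    choose u' hu' using fun i => hsurj (u i)
    choose w' hw' using fun i => hsurj (w i)
    have hu : u = fun i => algebraMap B A (u' i) := funext fun i => (hu' i).symm
    have hw : w = fun i => algebraMap B A (w' i) := funext fun i => (hw' i).symm
    refine ⟨_, gen_mem_Bd (Fintype.linearCombination B x) u' w', ?_⟩
    rw [hu, hw, hcompat, hcompat]
    funext i
    simp [Algebra.smul_def]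
  | zero => exact ⟨0, Submodule.zero_mem _, by funext i; simp⟩
  | add z w _ _ hz hw =>
    obtain ⟨b, hb, rfl⟩ := hz
    obtain ⟨c, hc, rfl⟩ := hw
    exact ⟨b + c, Submodule.add_mem _ hb hc, by funext i; simp⟩
  | smul a z _ hz =>
    obtain ⟨b, hb, rfl⟩ := hz
    obtain ⟨r, rfl⟩ := hsurj a
    exact ⟨r • b, Submodule.smul_mem _ _ hb, by funext i; simp⟩

/-- `μ(I) = length H₁(x̄; A)` for `A = B/I`, `I ⊆ 𝔪_B`, `x` generating `𝔪_B` with `H₁(x; B) = 0`. -/
theorem spanFinrank_ker_eq_length [IsLocalRing B] [IsNoetherianRing B]
    (hsurj : Function.Surjective (algebraMap B A))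
    {ι : Type u} [Fintype ι] (x : ι → B) (hx : Ideal.span (Set.range x) = maximalIdeal B)
    (hK : LinearMap.ker (Fintype.linearCombination B x) ≤ Bd (Fintype.linearCombination B x))
    (hI : RingHom.ker (algebraMap B A) ≤ maximalIdeal B) :
    ((RingHom.ker (algebraMap B A)).spanFinrank : ℕ∞) =
      Module.length A (H (Fintype.linearCombination A (fun i => algebraMap B A (x i)))) := by
  classical
  have hcompat : ∀ c : ι → B, Fintype.linearCombination A (fun i => algebraMap B A (x i))
      (fun i => algebraMap B A (c i)) = algebraMap B A (Fintype.linearCombination B x c) := by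
    intro c
    simp [Fintype.linearCombination_apply, map_sum]
  -- Step 1
  have step1 : ((RingHom.ker (algebraMap B A)).spanFinrank : ℕ∞) =
      Module.length B (↥(RingHom.ker (algebraMap B A)) ⧸
        (maximalIdeal B • (⊤ : Submodule B ↥(RingHom.ker (algebraMap B A))))) := by
    let _ := Ideal.Quotient.field (maximalIdeal B)
    have h1 := IsLocalRing.spanFinrank_eq_finrank_quotient
      (RingHom.ker (algebraMap B A) : Submodule B B)
      (IsNoetherian.noetherian (RingHom.ker (algebraMap B A)))
    have : Module.Finite (B ⧸ maximalIdeal B) (↥(RingHom.ker (algebraMap B A)) ⧸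
        (maximalIdeal B • (⊤ : Submodule B ↥(RingHom.ker (algebraMap B A))))) :=
      Module.Finite.of_restrictScalars_finite B _ _
    rw [h1, ← Module.length_eq_finrank (B ⧸ maximalIdeal B),
      Module.length_eq_of_surjective (S := B) (R := B ⧸ maximalIdeal B)
        Ideal.Quotient.mk_surjective]
  rw [step1, ← Module.length_eq_of_surjective (S := B) (R := A) hsurj]
  -- Step 2
  let P : Submodule B (ι → B) :=
    Submodule.comap (Fintype.linearCombination B x) (RingHom.ker (algebraMap B A) : Submodule B B)
  let α : ↥P →ₗ[B] ↥(RingHom.ker (algebraMap B A)) :=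
    (Fintype.linearCombination B x).restrict (fun c hc => hc)
  have hα : Function.Surjective α := by
    rintro ⟨a, ha⟩
    have : a ∈ LinearMap.range (Fintype.linearCombination B x) := by
      rw [Fintype.range_linearCombination]
      show a ∈ Ideal.span (Set.range x)
      rw [hx]; exact hI ha
    obtain ⟨c, rfl⟩ := this
    exact ⟨⟨c, ha⟩, rfl⟩
  let α' : ↥P →ₗ[B] (↥(RingHom.ker (algebraMap B A)) ⧸
      (maximalIdeal B • (⊤ : Submodule B ↥(RingHom.ker (algebraMap B A))))) :=
    (Submodule.mkQ _) ∘ₗ α
  have hα' : Function.Surjective α' := (Submodule.mkQ_surjective _).comp hα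
  let β : ↥P →ₗ[B]
      ↥(LinearMap.ker (Fintype.linearCombination A (fun i => algebraMap B A (x i)))) :=
    { toFun := fun c => ⟨fun i => algebraMap B A (c.1 i), by
        rw [LinearMap.mem_ker, hcompat]; exact c.2⟩
      map_add' := fun c d => by apply Subtype.ext; funext i; simp
      map_smul' := fun r c => by apply Subtype.ext; funext i; simp [Algebra.smul_def] }
  have hβ : Function.Surjective β := by
    rintro ⟨v, hv⟩
    choose c hc using fun i => hsurj (v i)
    have hvc : v = fun i => algebraMap B A (c i) := funext fun i => (hc i).symm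
    refine ⟨⟨c, ?_⟩, ?_⟩
    · show Fintype.linearCombination B x c ∈ RingHom.ker (algebraMap B A)
      rw [RingHom.mem_ker, ← hcompat, ← hvc]; exact hv
    · apply Subtype.ext; exact hvc.symm
  let β' : ↥P →ₗ[B] H (Fintype.linearCombination A (fun i => algebraMap B A (x i))) :=
    ((Submodule.mkQ ((Bd (Fintype.linearCombination A (fun i => algebraMap B A (x i)))).submoduleOf
      (LinearMap.ker (Fintype.linearCombination A (fun i => algebraMap B A (x i)))))).restrictScalars
        B) ∘ₗ β
  have hβ' : Function.Surjective β' := (Submodule.mkQ_surjective _).comp hβ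
  have hker : LinearMap.ker α' = LinearMap.ker β' := by
    ext ⟨c, hc⟩
    rw [LinearMap.mem_ker, LinearMap.mem_ker]
    show Submodule.Quotient.mk (α ⟨c, hc⟩) = 0 ↔ Submodule.Quotient.mk (β ⟨c, hc⟩) = 0
    rw [Submodule.Quotient.mk_eq_zero, Submodule.Quotient.mk_eq_zero, Submodule.mem_smul_top_iff]
    show Fintype.linearCombination B x c ∈
        maximalIdeal B • (RingHom.ker (algebraMap B A) : Submodule B B) ↔
      (fun i => algebraMap B A (c i)) ∈
        Bd (Fintype.linearCombination A (fun i => algebraMap B A (x i)))
    constructor
    · intro h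
      have h' : Fintype.linearCombination B x c ∈
          RingHom.ker (algebraMap B A) • Submodule.span B (Set.range x) := by
        have : (RingHom.ker (algebraMap B A) • Submodule.span B (Set.range x) : Submodule B B) =
            maximalIdeal B • (RingHom.ker (algebraMap B A) : Submodule B B) := by
          show RingHom.ker (algebraMap B A) • Ideal.span (Set.range x) = _
          rw [hx, smul_eq_mul, smul_eq_mul, mul_comm]
        rw [this]; exact h
      rw [Submodule.mem_ideal_smul_span_iff_exists_sum] at h'
      obtain ⟨a, ha, hsum⟩ := h'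
      rw [Finsupp.sum_fintype a (fun i c => c • x i) (fun i => zero_smul _ _)] at hsum
      have hw : Fintype.linearCombination B x (fun i => a i) = Fintype.linearCombination B x c := by
        rw [Fintype.linearCombination_apply]; exact hsum
      have hd : c - (fun i => a i) ∈ Bd (Fintype.linearCombination B x) := by
        apply hK
        rw [LinearMap.mem_ker, map_sub, hw, sub_self]
      have := compLeft_mem_Bd (A := A) x _ hd
      convert this using 1
      funext i
      have hai : algebraMap B A (a i) = 0 := RingHom.mem_ker.mp (ha i)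
      simp [hai]
    · intro h
      obtain ⟨b, hb, hbc⟩ := exists_lift_of_mem_Bd hsurj x _ h
      have hb0 : Fintype.linearCombination B x b = 0 := LinearMap.mem_ker.mp (Bd_le_ker _ hb)
      have hdiff : ∀ i, c i - b i ∈ RingHom.ker (algebraMap B A) := by
        intro i
        rw [RingHom.mem_ker, map_sub, sub_eq_zero]
        exact (congrFun hbc i).symm
      have hcb : Fintype.linearCombination B x c = Fintype.linearCombination B x (c - b) := by
        rw [map_sub, hb0, sub_zero]
      rw [hcb, Fintype.linearCombination_apply]
      refine Submodule.sum_mem _ (fun i _ => ?_)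
      have : (c - b) i • x i = x i • (c i - b i) := by
        simp [mul_comm]
      rw [this]
      exact Submodule.smul_mem_smul (hx ▸ Ideal.subset_span ⟨i, rfl⟩) (hdiff i)
  exact ((LinearMap.quotKerEquivOfSurjective α' hα').symm.trans
    ((Submodule.quotEquivOfEq _ _ hker).trans (LinearMap.quotKerEquivOfSurjective β' hβ'))).length_eq

end F4

end Groth.Agent.Lib.Helper27.KosH1
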