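import Mathlib
import Groth.Agent.Lib.Helper27.KosH1Reg
import Groth.Agent.Lib.Helper4.RegCM

/-!
# `dim B - μ(ker (B → A))` does not depend on the regular presentation `B → A`
-/

set_option autoImplicit false

namespace Groth.Agent.Lib.Helper27.KosH1

universe u

open IsLocalRing

/-- A regular local ring has a family of `dim` generators of `𝔪` with vanishing first Koszul
homology. -/
theorem exists_koszul_family (B : Type u) [CommRing B] [IsRegularLocalRing B] {d : ℕ}
    (hd : ringKrullDim B = d) :
    ∃ (ι : Type u) (_ : Fintype ι) (x : ι → B), Fintype.card ι = d ∧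
      Ideal.span (Set.range x) = maximalIdeal B ∧
      LinearMap.ker (Fintype.linearCombination B x) ≤ Bd (Fintype.linearCombination B x) := by
  obtain ⟨x, hx, hreg⟩ := Groth.Agent.Lib.Helper4.RegCM.exists_regular_system B d hd
  have hg := good_of_isWeaklyRegular (List.ofFn x) hreg.toIsWeaklyRegular
  have h1 : Ideal.ofList (List.ofFn x) = maximalIdeal B := by
    rw [← hx, Ideal.ofList]
    congr 1
    ext r
    simp [List.mem_ofFn]
  rw [h1, List.length_ofFn] at hg
  exact exists_family_of_good hg

theorem map_maximalIdeal_of_surjective {B A : Type u} [CommRing B] [CommRing A] [IsLocalRing B]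
    [IsLocalRing A] (f : B →+* A) (hf : Function.Surjective f) :
    Ideal.map f (maximalIdeal B) = maximalIdeal A := by
  have hk : RingHom.ker f ≤ maximalIdeal B := le_maximalIdeal (RingHom.ker_ne_top f)
  have hmax := (Ideal.map_eq_top_or_isMaximal_of_surjective f hf
    (maximalIdeal.isMaximal B)).resolve_left (by
      intro htop
      have h2 := Ideal.comap_map_of_surjective f hf (maximalIdeal B)
      rw [htop, Ideal.comap_top] at h2
      have h3 : maximalIdeal B ⊔ Ideal.comap f ⊥ = maximalIdeal B := sup_eq_left.mpr hk
      rw [h3] at h2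
      exact (maximalIdeal.isMaximal B).ne_top h2.symm)
  exact eq_maximalIdeal hmax

/-- `dim B - μ(ker (B → A))` is independent of the surjection `B → A` from a regular local
ring. -/
theorem spanFinrank_ker_add (A : Type u) [CommRing A] [IsLocalRing A] (B B' : Type u)
    [CommRing B] [CommRing B'] [IsRegularLocalRing B] [IsRegularLocalRing B']
    (f : B →+* A) (hf : Function.Surjective f) (f' : B' →+* A) (hf' : Function.Surjective f')
    (d d' : ℕ) (hd : ringKrullDim B = d) (hd' : ringKrullDim B' = d') :
    d' + (RingHom.ker f).spanFinrank = d + (RingHom.ker f').spanFinrank := by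
  obtain ⟨ι, _, x, hcard, hx, hK⟩ := exists_koszul_family B hd
  obtain ⟨ι', _, x', hcard', hx', hK'⟩ := exists_koszul_family B' hd'
  have hy : Ideal.span (Set.range (fun i => f (x i))) = maximalIdeal A := by
    rw [← map_maximalIdeal_of_surjective f hf, ← hx, Ideal.map_span]
    congr 1
    ext a
    simp
  have hy' : Ideal.span (Set.range (fun i => f' (x' i))) = maximalIdeal A := by
    rw [← map_maximalIdeal_of_surjective f' hf', ← hx', Ideal.map_span]
    congr 1
    ext a
    simp
  have e1 : ((RingHom.ker f).spanFinrank : ℕ∞) =
      Module.length A (H (Fintype.linearCombination A (fun i => f (x i)))) := by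
    letI := f.toAlgebra
    exact spanFinrank_ker_eq_length (A := A) hf x hx hK (le_maximalIdeal (RingHom.ker_ne_top f))
  have e2 : ((RingHom.ker f').spanFinrank : ℕ∞) =
      Module.length A (H (Fintype.linearCombination A (fun i => f' (x' i)))) := by
    letI := f'.toAlgebra
    exact spanFinrank_ker_eq_length (A := A) hf' x' hx' hK'
      (le_maximalIdeal (RingHom.ker_ne_top f'))
  have key := length_H_lc_add ι ι' (fun i => f (x i)) (fun i => f' (x' i)) hy hy'
  rw [← e1, ← e2, hcard, hcard'] at key
  exact_mod_cast key

end Groth.Agent.Lib.Helper27.KosH1
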