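import Mathlib

/-! Constructible subsets of cofiltered limits of schemes with affine transition maps (helper27). -/

set_option autoImplicit false
universe u
open CategoryTheory CategoryTheory.Limits AlgebraicGeometry

namespace Groth.Agent.Lib.Helper27.LimConstr

variable {I : Type u} [SmallCategory I] [IsCofiltered I]
  (D : I ⥤ Scheme.{u}) (c : Cone D) (hc : IsLimit c)
  [∀ (i j : I) (f : i ⟶ j), IsAffineHom (D.map f)]

theorem preimage_π_map {k i : I} (a : k ⟶ i) (V : Set (D.obj i)) :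
    (c.π.app k) ⁻¹' ((D.map a) ⁻¹' V) = (c.π.app i) ⁻¹' V := by
  ext x
  rw [← c.w a]
  rfl

include hc in
theorem compactSpace_pt (i₀ : I) [CompactSpace (D.obj i₀)] : CompactSpace c.pt := by
  have hS : IsAffineHom (c.π.app i₀) := isAffineHom_π_app D c hc i₀
  exact QuasiCompact.compactSpace_of_compactSpace (c.π.app i₀)

include hc in
theorem quasiSeparatedSpace_pt (i₀ : I) [QuasiSeparatedSpace (D.obj i₀)] :
    QuasiSeparatedSpace c.pt := by
  have hS : IsAffineHom (c.π.app i₀) := isAffineHom_π_app D c hc i₀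
  exact quasiSeparatedSpace_of_quasiSeparated (c.π.app i₀)

theorem compactSpace_stage {i₀ k : I} (b : k ⟶ i₀) [CompactSpace (D.obj i₀)] :
    CompactSpace (D.obj k) :=
  QuasiCompact.compactSpace_of_compactSpace (D.map b)

theorem quasiSeparatedSpace_stage {i₀ k : I} (b : k ⟶ i₀) [QuasiSeparatedSpace (D.obj i₀)] :
    QuasiSeparatedSpace (D.obj k) :=
  quasiSeparatedSpace_of_quasiSeparated (D.map b)

include hc in
/-- Every compact open of the limit is the preimage of a compact open from a stage over `i₀`. -/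
theorem exists_compact_open_preimage_eq (i₀ : I) (U : Set c.pt) (hUo : IsOpen U)
    (hUc : IsCompact U) :
    ∃ (k : I) (_ : k ⟶ i₀) (V : Set (D.obj k)), IsOpen V ∧ IsCompact V ∧
      (c.π.app k) ⁻¹' V = U := by
  obtain ⟨i, V, hV, hVU⟩ := exists_preimage_eq D c hc ⟨U, hUo⟩ hUc
  let k := IsCofiltered.min i i₀
  let a : k ⟶ i := IsCofiltered.minToLeft i i₀
  let b : k ⟶ i₀ := IsCofiltered.minToRight i i₀
  refine ⟨k, b, (D.map a) ⁻¹' (V : Set (D.obj i)), ?_, ?_, ?_⟩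
  · exact (D.map a).continuous.isOpen_preimage _ V.isOpen
  · exact QuasiCompact.isCompact_preimage (f := D.map a) _ V.isOpen hV
  · rw [preimage_π_map]
    exact congrArg (fun W : c.pt.Opens => (W : Set c.pt)) hVU

include hc in
theorem exists_isConstructible_preimage_eq (i₀ : I) [CompactSpace (D.obj i₀)]
    [QuasiSeparatedSpace (D.obj i₀)] (Z : Set c.pt) (hZ : Topology.IsConstructible Z) :
    ∃ (i : I) (_ : i ⟶ i₀) (Zi : Set (D.obj i)),
      Topology.IsConstructible Zi ∧ (⇑(c.π.app i) ⁻¹' Zi : Set c.pt) = Z := by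
  have : CompactSpace c.pt := compactSpace_pt D c hc i₀
  induction hZ using Topology.IsConstructible.empty_union_induction with
  | open_retrocompact U hUo hUc =>
    obtain ⟨k, b, V, hVo, hVc, hVU⟩ :=
      exists_compact_open_preimage_eq D c hc i₀ U hUo hUc.isCompact
    have : QuasiSeparatedSpace (D.obj k) := quasiSeparatedSpace_stage D b
    exact ⟨k, b, V, hVc.isConstructible hVo, hVU⟩
  | union s hs t ht ihs iht =>
    obtain ⟨i, φ, Zi, hZi, rfl⟩ := ihs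
    obtain ⟨i', φ', Zi', hZi', rfl⟩ := iht
    refine ⟨IsCofiltered.min i i', IsCofiltered.minToLeft i i' ≫ φ,
      (D.map (IsCofiltered.minToLeft i i')) ⁻¹' Zi ∪ (D.map (IsCofiltered.minToRight i i')) ⁻¹' Zi',
      ?_, ?_⟩
    · exact ((D.map _).isConstructible_preimage hZi).union
        ((D.map _).isConstructible_preimage hZi')
    · rw [Set.preimage_union, preimage_π_map, preimage_π_map]
  | compl s hs ih =>
    obtain ⟨i, φ, Zi, hZi, rfl⟩ := ih
    exact ⟨i, φ, Ziᶜ, hZi.compl, rfl⟩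

end Groth.Agent.Lib.Helper27.LimConstr

namespace Groth.Agent.Lib.Helper27.LimConstr

variable {I : Type u} [SmallCategory I] [IsCofiltered I]
  (D : I ⥤ Scheme.{u}) (c : Cone D) (hc : IsLimit c)
  [∀ (i j : I) (f : i ⟶ j), IsAffineHom (D.map f)]

omit [IsCofiltered I] [∀ (i j : I) (f : i ⟶ j), IsAffineHom (D.map f)] in
theorem preimage_map_comp {l j i : I} (g : l ⟶ j) (f : j ⟶ i) (V : Set (D.obj i)) :
    (D.map (g ≫ f)) ⁻¹' V = (D.map g) ⁻¹' ((D.map f) ⁻¹' V) := by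
  rw [D.map_comp]
  rfl

include hc in
/-- Set version of `exists_map_preimage_le_map_preimage`. -/
theorem exists_map_preimage_subset {i : I} {U V : Set (D.obj i)} (hUo : IsOpen U)
    (hVo : IsOpen V) (hU : IsCompact U)
    (H : (c.π.app i) ⁻¹' U ⊆ (c.π.app i) ⁻¹' V) :
    ∃ (j : I) (f : j ⟶ i), (D.map f) ⁻¹' U ⊆ (D.map f) ⁻¹' V := by
  obtain ⟨j, f, hf⟩ := exists_map_preimage_le_map_preimage D c hc
    (U := ⟨U, hUo⟩) (V := ⟨V, hVo⟩) hU (fun x hx => H hx)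
  exact ⟨j, f, fun x hx => hf hx⟩

include hc in
/-- The projections of the limit are dominant if the transition maps are. -/
theorem isDominant_π (i : I) (h : ∀ (j : I) (φ : j ⟶ i), IsDominant (D.map φ)) :
    IsDominant (c.π.app i) := by
  refine ⟨?_⟩
  rw [DenseRange, dense_iff_inter_open]
  intro U hU hne
  obtain ⟨x, hx⟩ := hne
  obtain ⟨_, ⟨V, hV, rfl⟩, hxV, hVU⟩ :=
    (D.obj i).isBasis_affineOpens.exists_subset_of_mem_open hx hU
  have hne : ∀ j : Over i, Nonempty ((opensDiagram D i V).obj j) := by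
    intro j
    have hd : DenseRange (D.map j.hom) := (h j.left j.hom).denseRange
    obtain ⟨y, hyV, z, rfl⟩ := hd.inter_open_nonempty V V.isOpen ⟨x, hxV⟩
    exact ⟨⟨z, hyV⟩⟩
  have hcpt : ∀ j : Over i, CompactSpace ((opensDiagram D i V).obj j) := fun j => by
    have : IsAffine ((opensDiagram D i V).obj j) := hV.preimage _
    infer_instance
  have hnon := Scheme.nonempty_of_isLimit (opensDiagram D i V) (opensCone D c i V)
    (isLimitOpensCone D c hc i V)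
  obtain ⟨⟨s, hs⟩⟩ := hnon
  exact ⟨c.π.app i s, hVU hs, s, rfl⟩

include hc in
theorem not_preconnected_eventually (i₀ : I) [CompactSpace (D.obj i₀)]
    [QuasiSeparatedSpace (D.obj i₀)] (h : ¬ PreconnectedSpace c.pt) :
    ∃ (i : I) (_ : i ⟶ i₀), ∀ (j : I) (_ : j ⟶ i), ¬ PreconnectedSpace (D.obj j) := by
  have hcS : CompactSpace c.pt := compactSpace_pt D c hc i₀
  rw [preconnectedSpace_iff_clopen] at h
  push Not at h
  obtain ⟨s, hs, hs0', hs1⟩ := h
  have hs0 : s ≠ ∅ := Set.nonempty_iff_ne_empty.mp hs0'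
  obtain ⟨k₁, b₁, V₁, hV₁o, hV₁c, e₁⟩ :=
    exists_compact_open_preimage_eq D c hc i₀ s hs.isOpen hs.isClosed.isCompact
  obtain ⟨k₂, b₂, V₂, hV₂o, hV₂c, e₂⟩ :=
    exists_compact_open_preimage_eq D c hc i₀ sᶜ hs.isClosed.isOpen_compl
      hs.isOpen.isClosed_compl.isCompact
  obtain ⟨k, f₁, f₂, hf⟩ := IsCofiltered.cospan b₁ b₂
  have hqs : QuasiSeparatedSpace (D.obj k) := quasiSeparatedSpace_stage D (f₁ ≫ b₁)
  have hcs : CompactSpace (D.obj k) := compactSpace_stage D (f₁ ≫ b₁)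
  have hW₁o : IsOpen ((D.map f₁) ⁻¹' V₁) := (D.map f₁).continuous.isOpen_preimage _ hV₁o
  have hW₂o : IsOpen ((D.map f₂) ⁻¹' V₂) := (D.map f₂).continuous.isOpen_preimage _ hV₂o
  have hW₁c : IsCompact ((D.map f₁) ⁻¹' V₁) :=
    QuasiCompact.isCompact_preimage (f := D.map f₁) _ hV₁o hV₁c
  have hW₂c : IsCompact ((D.map f₂) ⁻¹' V₂) :=
    QuasiCompact.isCompact_preimage (f := D.map f₂) _ hV₂o hV₂c
  have eW₁ : (c.π.app k) ⁻¹' ((D.map f₁) ⁻¹' V₁) = s := by rw [preimage_π_map, e₁]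
  have eW₂ : (c.π.app k) ⁻¹' ((D.map f₂) ⁻¹' V₂) = sᶜ := by rw [preimage_π_map, e₂]
  obtain ⟨j₁, g₁, hg₁⟩ := exists_map_preimage_subset D c hc (hW₁o.inter hW₂o) isOpen_empty
    (hW₁c.inter_of_isOpen hW₂c hW₁o hW₂o) (by rw [Set.preimage_inter, eW₁, eW₂]; simp)
  obtain ⟨j₂, g₂, hg₂⟩ := exists_map_preimage_subset D c hc isOpen_univ (hW₁o.union hW₂o)
    isCompact_univ (by rw [Set.preimage_union, eW₁, eW₂]; simp)
  obtain ⟨i, u₁, u₂, hu⟩ := IsCofiltered.cospan g₁ g₂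
  refine ⟨i, u₁ ≫ g₁ ≫ f₁ ≫ b₁, fun j v hpre => ?_⟩
  have hdisj : (D.map (v ≫ u₁ ≫ g₁)) ⁻¹' ((D.map f₁) ⁻¹' V₁) ∩
      (D.map (v ≫ u₁ ≫ g₁)) ⁻¹' ((D.map f₂) ⁻¹' V₂) = ∅ := by
    rw [← Set.preimage_inter, ← Category.assoc, preimage_map_comp]
    apply Set.eq_empty_of_subset_empty
    intro x hx
    exact hg₁ hx
  have hcov : (D.map (v ≫ u₁ ≫ g₁)) ⁻¹' ((D.map f₁) ⁻¹' V₁) ∪
      (D.map (v ≫ u₁ ≫ g₁)) ⁻¹' ((D.map f₂) ⁻¹' V₂) = Set.univ := by
    rw [← Set.preimage_union, hu, ← Category.assoc, preimage_map_comp]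
    apply Set.eq_univ_of_univ_subset
    intro x _
    exact hg₂ (Set.mem_univ _)
  have hcompl : ((D.map (v ≫ u₁ ≫ g₁)) ⁻¹' ((D.map f₁) ⁻¹' V₁))ᶜ =
      (D.map (v ≫ u₁ ≫ g₁)) ⁻¹' ((D.map f₂) ⁻¹' V₂) := by
    exact (IsCompl.compl_eq ⟨Set.disjoint_iff_inter_eq_empty.mpr hdisj,
      codisjoint_iff.mpr hcov⟩)
  have hclopen : IsClopen ((D.map (v ≫ u₁ ≫ g₁)) ⁻¹' ((D.map f₁) ⁻¹' V₁)) := by
    refine ⟨?_, (D.map _).continuous.isOpen_preimage _ hW₁o⟩
    rw [← isOpen_compl_iff, hcompl]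
    exact (D.map _).continuous.isOpen_preimage _ hW₂o
  rcases (preconnectedSpace_iff_clopen.mp hpre) _ hclopen with h0 | h1
  · apply hs0
    rw [← eW₁, ← preimage_π_map D c (v ≫ u₁ ≫ g₁), h0, Set.preimage_empty]
  · apply hs1
    have h2 : (D.map (v ≫ u₁ ≫ g₁)) ⁻¹' ((D.map f₂) ⁻¹' V₂) = ∅ := by
      rw [← hcompl, h1, Set.compl_univ]
    have h3 : sᶜ = ∅ := by
      rw [← eW₂, ← preimage_π_map D c (v ≫ u₁ ≫ g₁), h2, Set.preimage_empty]
    exact Set.compl_empty_iff.mp h3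

end Groth.Agent.Lib.Helper27.LimConstr

namespace Groth.Agent.Lib.Helper27.LimConstr

variable {I : Type u} [SmallCategory I] [IsCofiltered I]
  (D : I ⥤ Scheme.{u}) (c : Cone D) (hc : IsLimit c)
  [∀ (i j : I) (f : i ⟶ j), IsAffineHom (D.map f)]

theorem π_mem_preimage_map {j a : I} (fa : j ⟶ a) (V : Set (D.obj a)) (x : c.pt) :
    c.π.app j x ∈ (D.map fa) ⁻¹' V ↔ c.π.app a x ∈ V := by
  have := congrArg (fun S : Set c.pt => x ∈ S) (preimage_π_map D c fa V)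
  exact Iff.of_eq this

include hc in
theorem not_irreducible_eventually (i₀ : I) [CompactSpace (D.obj i₀)]
    [QuasiSeparatedSpace (D.obj i₀)] [TopologicalSpace.NoetherianSpace c.pt]
    (h : ¬ IrreducibleSpace c.pt) :
    ∃ (i : I) (_ : i ⟶ i₀), ∀ (j : I) (_ : j ⟶ i), ¬ IrreducibleSpace (D.obj j) := by
  by_cases hne : Nonempty c.pt
  · have hnp : ¬ IsPreirreducible (Set.univ : Set c.pt) := fun hu =>
      h { toPreirreducibleSpace := ⟨hu⟩, toNonempty := hne }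
    simp only [IsPreirreducible, Set.univ_inter] at hnp
    push Not at hnp
    obtain ⟨u, v, hu, hv, hune, hvne, huv⟩ := hnp
    obtain ⟨k₁, b₁, V₁, hV₁o, hV₁c, e₁⟩ := exists_compact_open_preimage_eq D c hc i₀ u hu
      (TopologicalSpace.NoetherianSpace.isCompact u)
    obtain ⟨k₂, b₂, V₂, hV₂o, hV₂c, e₂⟩ := exists_compact_open_preimage_eq D c hc i₀ v hv
      (TopologicalSpace.NoetherianSpace.isCompact v)
    obtain ⟨k, f₁, f₂, hf⟩ := IsCofiltered.cospan b₁ b₂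
    have hqs : QuasiSeparatedSpace (D.obj k) := quasiSeparatedSpace_stage D (f₁ ≫ b₁)
    have hW₁o : IsOpen ((D.map f₁) ⁻¹' V₁) := (D.map f₁).continuous.isOpen_preimage _ hV₁o
    have hW₂o : IsOpen ((D.map f₂) ⁻¹' V₂) := (D.map f₂).continuous.isOpen_preimage _ hV₂o
    have hW₁c : IsCompact ((D.map f₁) ⁻¹' V₁) :=
      QuasiCompact.isCompact_preimage (f := D.map f₁) _ hV₁o hV₁c
    have hW₂c : IsCompact ((D.map f₂) ⁻¹' V₂) :=
      QuasiCompact.isCompact_preimage (f := D.map f₂) _ hV₂o hV₂c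
    have eW₁ : (c.π.app k) ⁻¹' ((D.map f₁) ⁻¹' V₁) = u := by rw [preimage_π_map, e₁]
    have eW₂ : (c.π.app k) ⁻¹' ((D.map f₂) ⁻¹' V₂) = v := by rw [preimage_π_map, e₂]
    have huv' : u ∩ v = ∅ := huv
    obtain ⟨j₁, g₁, hg₁⟩ := exists_map_preimage_subset D c hc (hW₁o.inter hW₂o) isOpen_empty
      (hW₁c.inter_of_isOpen hW₂c hW₁o hW₂o) (by rw [Set.preimage_inter, eW₁, eW₂, huv']; simp)
    refine ⟨j₁, g₁ ≫ f₁ ≫ b₁, fun j w hirr => ?_⟩
    obtain ⟨x, hx⟩ := hune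
    obtain ⟨y, hy⟩ := hvne
    have hA : (c.π.app j x) ∈ (D.map (w ≫ g₁)) ⁻¹' ((D.map f₁) ⁻¹' V₁) := by
      rw [π_mem_preimage_map]
      have : x ∈ (c.π.app k) ⁻¹' ((D.map f₁) ⁻¹' V₁) := by rw [eW₁]; exact hx
      exact this
    have hB : (c.π.app j y) ∈ (D.map (w ≫ g₁)) ⁻¹' ((D.map f₂) ⁻¹' V₂) := by
      rw [π_mem_preimage_map]
      have : y ∈ (c.π.app k) ⁻¹' ((D.map f₂) ⁻¹' V₂) := by rw [eW₂]; exact hy
      exact this
    obtain ⟨z, hzA, hzB⟩ := nonempty_preirreducible_inter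
      ((D.map (w ≫ g₁)).continuous.isOpen_preimage _ hW₁o)
      ((D.map (w ≫ g₁)).continuous.isOpen_preimage _ hW₂o) ⟨_, hA⟩ ⟨_, hB⟩
    have hz : z ∈ (D.map (w ≫ g₁)) ⁻¹' ((D.map f₁) ⁻¹' V₁ ∩ (D.map f₂) ⁻¹' V₂) := ⟨hzA, hzB⟩
    rw [preimage_map_comp] at hz
    exact hg₁ hz
  · have hemp : IsEmpty c.pt := not_nonempty_iff.mp hne
    obtain ⟨j, f, hf⟩ := exists_map_preimage_subset D c hc (i := i₀) isOpen_univ isOpen_empty
      isCompact_univ (fun x _ => (hemp.false x).elim)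
    refine ⟨j, f, fun l w hirr => ?_⟩
    obtain ⟨z⟩ := hirr.toNonempty
    exact hf (Set.mem_univ ((D.map w) z))

include hc in
theorem nonempty_of_dominant (i : I) (hdom : IsDominant (c.π.app i)) [Nonempty (D.obj i)] :
    Nonempty c.pt := by
  obtain ⟨y⟩ := (inferInstance : Nonempty (D.obj i))
  obtain ⟨z, -, s, rfl⟩ := hdom.denseRange.inter_open_nonempty Set.univ isOpen_univ ⟨y, trivial⟩
  exact ⟨s⟩

include hc in
theorem irreducible_iff_eventually (i₀ : I)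
    (hd : ∀ (i j : I) (φ : i ⟶ j), IsDominant (D.map φ)) :
    IrreducibleSpace c.pt ↔
      ∃ (i : I) (_ : i ⟶ i₀), ∀ (j : I) (_ : j ⟶ i), IrreducibleSpace (D.obj j) := by
  have hdom : ∀ j, IsDominant (c.π.app j) := fun j => isDominant_π D c hc j (fun l φ => hd l j φ)
  constructor
  · intro h
    refine ⟨i₀, 𝟙 _, fun j _ => ?_⟩
    have hdr : DenseRange (c.π.app j) := (hdom j).denseRange
    have hirr : IsIrreducible (Set.range (c.π.app j)) := by
      rw [← Set.image_univ]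
      exact (IrreducibleSpace.isIrreducible_univ c.pt).image _ (c.π.app j).continuous.continuousOn
    have h2 := hirr.closure
    rw [hdr.closure_range] at h2
    exact (irreducibleSpace_def _).mpr h2
  · rintro ⟨i, φ, hi⟩
    have hne : Nonempty c.pt := by
      have := (hi i (𝟙 i)).toNonempty
      exact nonempty_of_dominant D c hc i (hdom i)
    refine { toNonempty := hne, toPreirreducibleSpace := ⟨?_⟩ }
    intro u v hu hv hune hvne
    obtain ⟨x, -, hxu⟩ := hune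
    obtain ⟨y, -, hyv⟩ := hvne
    obtain ⟨_, ⟨_, ⟨a, Va, hVa, rfl⟩, rfl⟩, hxa, hau⟩ :=
      (isBasis_preimage_isAffineOpen D c hc).exists_subset_of_mem_open hxu hu
    obtain ⟨_, ⟨_, ⟨b, Vb, hVb, rfl⟩, rfl⟩, hyb, hbv⟩ :=
      (isBasis_preimage_isAffineOpen D c hc).exists_subset_of_mem_open hyv hv
    let j₁ := IsCofiltered.min a b
    let j := IsCofiltered.min j₁ i
    let fa : j ⟶ a := IsCofiltered.minToLeft j₁ i ≫ IsCofiltered.minToLeft a b
    let fb : j ⟶ b := IsCofiltered.minToLeft j₁ i ≫ IsCofiltered.minToRight a b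
    let fi : j ⟶ i := IsCofiltered.minToRight j₁ i
    have hj : IrreducibleSpace (D.obj j) := hi j fi
    have hA : (c.π.app j x) ∈ (D.map fa) ⁻¹' (Va : Set (D.obj a)) := by
      rw [π_mem_preimage_map]; exact hxa
    have hB : (c.π.app j y) ∈ (D.map fb) ⁻¹' (Vb : Set (D.obj b)) := by
      rw [π_mem_preimage_map]; exact hyb
    have hAo : IsOpen ((D.map fa) ⁻¹' (Va : Set (D.obj a))) :=
      (D.map fa).continuous.isOpen_preimage _ Va.isOpen
    have hBo : IsOpen ((D.map fb) ⁻¹' (Vb : Set (D.obj b))) :=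
      (D.map fb).continuous.isOpen_preimage _ Vb.isOpen
    obtain ⟨z, hzA, hzB⟩ := nonempty_preirreducible_inter hAo hBo ⟨_, hA⟩ ⟨_, hB⟩
    obtain ⟨w, ⟨hwA, hwB⟩, s, rfl⟩ := (hdom j).denseRange.inter_open_nonempty _
      (hAo.inter hBo) ⟨z, hzA, hzB⟩
    refine ⟨s, Set.mem_univ _, hau ?_, hbv ?_⟩
    · exact (π_mem_preimage_map D c fa _ s).mp hwA
    · exact (π_mem_preimage_map D c fb _ s).mp hwB

include hc in
theorem connected_iff_eventually (i₀ : I) [CompactSpace (D.obj i₀)]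
    (hd : ∀ (i j : I) (φ : i ⟶ j), IsDominant (D.map φ)) :
    ConnectedSpace c.pt ↔
      ∃ (i : I) (_ : i ⟶ i₀), ∀ (j : I) (_ : j ⟶ i), ConnectedSpace (D.obj j) := by
  have hdom : ∀ j, IsDominant (c.π.app j) := fun j => isDominant_π D c hc j (fun l φ => hd l j φ)
  constructor
  · intro h
    refine ⟨i₀, 𝟙 _, fun j _ => ?_⟩
    have hdr : DenseRange (c.π.app j) := (hdom j).denseRange
    have hconn : _root_.IsConnected (Set.range (c.π.app j)) := by
      rw [← Set.image_univ]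
      exact (isConnected_univ (α := c.pt)).image _ (c.π.app j).continuous.continuousOn
    have h2 := hconn.closure
    rw [hdr.closure_range] at h2
    exact connectedSpace_iff_univ.mpr h2
  · rintro ⟨i, φ, hi⟩
    have hne : Nonempty c.pt := by
      have := (hi i (𝟙 i)).toNonempty
      exact nonempty_of_dominant D c hc i (hdom i)
    have hcS : CompactSpace c.pt := compactSpace_pt D c hc i₀
    refine { toNonempty := hne, toPreconnectedSpace := ?_ }
    rw [preconnectedSpace_iff_clopen]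
    intro s hs
    by_contra hcon
    push Not at hcon
    obtain ⟨hs0', hs1⟩ := hcon
    have hs0 : s ≠ ∅ := Set.nonempty_iff_ne_empty.mp hs0'
    obtain ⟨k₁, b₁, V₁, hV₁o, hV₁c, e₁⟩ :=
      exists_compact_open_preimage_eq D c hc i₀ s hs.isOpen hs.isClosed.isCompact
    obtain ⟨k₂, b₂, V₂, hV₂o, hV₂c, e₂⟩ :=
      exists_compact_open_preimage_eq D c hc i₀ sᶜ hs.isClosed.isOpen_compl
        hs.isOpen.isClosed_compl.isCompact
    obtain ⟨k, f₁, f₂, hf⟩ := IsCofiltered.cospan b₁ b₂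
    have hcs : CompactSpace (D.obj k) := compactSpace_stage D (f₁ ≫ b₁)
    have hW₁o : IsOpen ((D.map f₁) ⁻¹' V₁) := (D.map f₁).continuous.isOpen_preimage _ hV₁o
    have hW₂o : IsOpen ((D.map f₂) ⁻¹' V₂) := (D.map f₂).continuous.isOpen_preimage _ hV₂o
    have eW₁ : (c.π.app k) ⁻¹' ((D.map f₁) ⁻¹' V₁) = s := by rw [preimage_π_map, e₁]
    have eW₂ : (c.π.app k) ⁻¹' ((D.map f₂) ⁻¹' V₂) = sᶜ := by rw [preimage_π_map, e₂]
    obtain ⟨j₂, g₂, hg₂⟩ := exists_map_preimage_subset D c hc isOpen_univ (hW₁o.union hW₂o)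
      isCompact_univ (by rw [Set.preimage_union, eW₁, eW₂]; simp)
    let j := IsCofiltered.min j₂ i
    let ψ : j ⟶ k := IsCofiltered.minToLeft j₂ i ≫ g₂
    have hj : ConnectedSpace (D.obj j) := hi j (IsCofiltered.minToRight j₂ i)
    have hAo : IsOpen ((D.map ψ) ⁻¹' ((D.map f₁) ⁻¹' V₁)) :=
      (D.map ψ).continuous.isOpen_preimage _ hW₁o
    have hBo : IsOpen ((D.map ψ) ⁻¹' ((D.map f₂) ⁻¹' V₂)) :=
      (D.map ψ).continuous.isOpen_preimage _ hW₂o
    have hcov : (D.map ψ) ⁻¹' ((D.map f₁) ⁻¹' V₁) ∪ (D.map ψ) ⁻¹' ((D.map f₂) ⁻¹' V₂) =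
        Set.univ := by
      rw [← Set.preimage_union, preimage_map_comp]
      apply Set.eq_univ_of_univ_subset
      intro x _
      exact hg₂ (Set.mem_univ _)
    have hdisj : (D.map ψ) ⁻¹' ((D.map f₁) ⁻¹' V₁) ∩ (D.map ψ) ⁻¹' ((D.map f₂) ⁻¹' V₂) = ∅ := by
      by_contra hne'
      obtain ⟨z, hz⟩ := Set.nonempty_iff_ne_empty.mpr hne'
      obtain ⟨w, ⟨hwA, hwB⟩, t, rfl⟩ := (hdom j).denseRange.inter_open_nonempty _
        (hAo.inter hBo) ⟨z, hz⟩
      have h1 : t ∈ s := by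
        rw [← eW₁]; exact (π_mem_preimage_map D c ψ _ t).mp hwA
      have h2 : t ∈ sᶜ := by
        rw [← eW₂]; exact (π_mem_preimage_map D c ψ _ t).mp hwB
      exact h2 h1
    have hcompl : ((D.map ψ) ⁻¹' ((D.map f₁) ⁻¹' V₁))ᶜ = (D.map ψ) ⁻¹' ((D.map f₂) ⁻¹' V₂) :=
      (IsCompl.compl_eq ⟨Set.disjoint_iff_inter_eq_empty.mpr hdisj, codisjoint_iff.mpr hcov⟩)
    have hclopen : IsClopen ((D.map ψ) ⁻¹' ((D.map f₁) ⁻¹' V₁)) := by
      refine ⟨?_, hAo⟩
      rw [← isOpen_compl_iff, hcompl]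
      exact hBo
    rcases isClopen_iff.mp hclopen with h0 | h1
    · apply hs0
      rw [← eW₁, ← preimage_π_map D c ψ, h0, Set.preimage_empty]
    · apply hs1
      have h2 : (D.map ψ) ⁻¹' ((D.map f₂) ⁻¹' V₂) = ∅ := by
        rw [← hcompl, h1, Set.compl_univ]
      have h3 : sᶜ = ∅ := by
        rw [← eW₂, ← preimage_π_map D c ψ, h2, Set.preimage_empty]
      exact Set.compl_empty_iff.mp h3

end Groth.Agent.Lib.Helper27.LimConstr

namespace Groth.Agent.Lib.Helper27.LimConstr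

theorem isCompact_of_isConstructible {X : Scheme.{u}} [CompactSpace X] [QuasiSeparatedSpace X]
    {s : Set X} (hs : Topology.IsConstructible s) : IsCompact s := by
  have hne : Nonempty X.affineOpens := ⟨⟨⊥, isAffineOpen_bot X⟩⟩
  refine Topology.IsConstructible.induction_of_isTopologicalBasis (P := fun s _ => IsCompact s)
    (fun U : X.affineOpens => ((U : X.Opens) : Set X)) ?_ (fun U => U.2.isCompact) ?_ ?_ s hs
  · have h := X.isBasis_affineOpens
    unfold TopologicalSpace.Opens.IsBasis at h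
    convert h using 1
    ext t
    simp
  · intro U t ht
    exact (U.2.isCompact).diff (isOpen_biUnion fun j _ => j.1.isOpen)
  · intro s _ t _ hs ht
    exact hs.union ht

variable {I : Type u} [SmallCategory I] [IsCofiltered I]
  (D : I ⥤ Scheme.{u}) (c : Cone D) (hc : IsLimit c)
  [∀ (i j : I) (f : i ⟶ j), IsAffineHom (D.map f)]

include hc in
theorem exists_isLocallyClosed_isConstructible_preimage_eq (i₀ : I) [CompactSpace (D.obj i₀)]
    [QuasiSeparatedSpace (D.obj i₀)] (Z : Set c.pt) (hZ : Topology.IsConstructible Z)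
    (hZ' : IsLocallyClosed Z) :
    ∃ (i : I) (_ : i ⟶ i₀) (Zi : Set (D.obj i)),
      Topology.IsConstructible Zi ∧ IsLocallyClosed Zi ∧ (⇑(c.π.app i) ⁻¹' Zi : Set c.pt) = Z := by
  have hcS : CompactSpace c.pt := compactSpace_pt D c hc i₀
  have hqS : QuasiSeparatedSpace c.pt := quasiSeparatedSpace_pt D c hc i₀
  obtain ⟨U, F, hU, hF, rfl⟩ := hZ'
  have hZc : IsCompact (U ∩ F) := isCompact_of_isConstructible hZ
  obtain ⟨W, hWo, hWc, hZW, hWU⟩ :
      ∃ W : Set c.pt, IsOpen W ∧ IsCompact W ∧ U ∩ F ⊆ W ∧ W ⊆ U := by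
    have hcover : ∀ x ∈ U ∩ F, ∃ V : c.pt.Opens, IsAffineOpen V ∧ x ∈ V ∧ (V : Set c.pt) ⊆ U := by
      intro x hx
      obtain ⟨_, ⟨V, hV, rfl⟩, hxV, hVU⟩ :=
        c.pt.isBasis_affineOpens.exists_subset_of_mem_open hx.1 hU
      exact ⟨V, hV, hxV, hVU⟩
    choose! V hVaff hxV hVU using hcover
    obtain ⟨t, htsub, htfin, ht⟩ := hZc.elim_finite_subcover_image (b := U ∩ F)
      (c := fun x => (V x : Set c.pt)) (fun x _ => (V x).isOpen)
      (fun x hx => Set.mem_biUnion hx (hxV x hx))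
    exact ⟨⋃ x ∈ t, (V x : Set c.pt), isOpen_biUnion (fun x _ => (V x).isOpen),
      htfin.isCompact_biUnion (fun x hx => (hVaff x (htsub hx)).isCompact), ht,
      Set.iUnion₂_subset (fun x hx => hVU x (htsub hx))⟩
  have hW'o : IsOpen (W ∩ Fᶜ) := hWo.inter hF.isOpen_compl
  have hW'c : IsCompact (W ∩ Fᶜ) := by
    apply isCompact_of_isConstructible
    have : W ∩ Fᶜ = W \ (U ∩ F) := by
      ext x
      constructor
      · rintro ⟨hw, hf⟩
        exact ⟨hw, fun h => hf h.2⟩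
      · rintro ⟨hw, hn⟩
        exact ⟨hw, fun hf => hn ⟨hWU hw, hf⟩⟩
    rw [this]
    exact (hWc.isConstructible hWo).sdiff hZ
  have hZeq : U ∩ F = W \ (W ∩ Fᶜ) := by
    ext x
    constructor
    · rintro hx
      exact ⟨hZW hx, fun h => h.2 hx.2⟩
    · rintro ⟨hw, hn⟩
      refine ⟨hWU hw, ?_⟩
      by_contra hf
      exact hn ⟨hw, hf⟩
  obtain ⟨k₁, b₁, V₁, hV₁o, hV₁c, e₁⟩ := exists_compact_open_preimage_eq D c hc i₀ W hWo hWc
  obtain ⟨k₂, b₂, V₂, hV₂o, hV₂c, e₂⟩ :=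
    exists_compact_open_preimage_eq D c hc i₀ (W ∩ Fᶜ) hW'o hW'c
  obtain ⟨k, f₁, f₂, hf⟩ := IsCofiltered.cospan b₁ b₂
  have hqs : QuasiSeparatedSpace (D.obj k) := quasiSeparatedSpace_stage D (f₁ ≫ b₁)
  have hW₁o : IsOpen ((D.map f₁) ⁻¹' V₁) := (D.map f₁).continuous.isOpen_preimage _ hV₁o
  have hW₂o : IsOpen ((D.map f₂) ⁻¹' V₂) := (D.map f₂).continuous.isOpen_preimage _ hV₂o
  have hW₁c : IsCompact ((D.map f₁) ⁻¹' V₁) :=
    QuasiCompact.isCompact_preimage (f := D.map f₁) _ hV₁o hV₁c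
  have hW₂c : IsCompact ((D.map f₂) ⁻¹' V₂) :=
    QuasiCompact.isCompact_preimage (f := D.map f₂) _ hV₂o hV₂c
  refine ⟨k, f₁ ≫ b₁, (D.map f₁) ⁻¹' V₁ \ (D.map f₂) ⁻¹' V₂,
    (hW₁c.isConstructible hW₁o).sdiff (hW₂c.isConstructible hW₂o), ?_, ?_⟩
  · exact ⟨_, _, hW₁o, hW₂o.isClosed_compl, Set.sdiff_eq _ _⟩
  · rw [Set.preimage_sdiff, preimage_π_map, preimage_π_map, e₁, e₂, hZeq]

end Groth.Agent.Lib.Helper27.LimConstr
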