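import Mathlib

/-! Base change of a cofiltered system of schemes along a morphism into one stage (helper27). -/

set_option autoImplicit false
universe u
open CategoryTheory CategoryTheory.Limits AlgebraicGeometry

namespace Groth.Agent.Lib.Helper27.LimBC

variable {I : Type u} [SmallCategory I] (D : I ⥤ Scheme.{u}) (c : Cone D) (hc : IsLimit c)
  (i : I) {T : Scheme.{u}} (g : T ⟶ D.obj i)

set_option backward.isDefEq.respectTransparency false in
/-- The diagram `j ↦ D_j ×_{D_i} T` indexed by `Over i`. -/
noncomputable def bcDiagram : Over i ⥤ Scheme.{u} where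
  obj j := pullback (D.map j.hom) g
  map {j k} u := pullback.map (D.map j.hom) g (D.map k.hom) g (D.map u.left) (𝟙 T) (𝟙 _)
    (by rw [Category.comp_id, ← D.map_comp, Over.w u]) (by simp)
  map_id j := by apply pullback.hom_ext <;> simp [pullback.map]
  map_comp u v := by apply pullback.hom_ext <;> simp [pullback.map]

set_option backward.isDefEq.respectTransparency false in
/-- The projection from the base-changed diagram to the original one. -/
noncomputable def bcι : bcDiagram D i g ⟶ Over.forget i ⋙ D where
  app j := pullback.fst _ _
  naturality j k u := by simp [bcDiagram, pullback.map]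

set_option backward.isDefEq.respectTransparency false in
/-- The base-changed cone, with point `c.pt ×_{D_i} T`. -/
noncomputable def bcCone : Cone (bcDiagram D i g) where
  pt := pullback (c.π.app i) g
  π :=
    { app := fun j => pullback.map (c.π.app i) g (D.map j.hom) g (c.π.app j.left) (𝟙 T) (𝟙 _)
        (by rw [Category.comp_id, c.w]) (by simp)
      naturality := fun j k u => by
        apply pullback.hom_ext <;> simp [bcDiagram, pullback.map] }

attribute [local instance] CategoryTheory.isConnected_of_hasTerminal

set_option backward.isDefEq.respectTransparency false in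
theorem isPullback_bc (j : Over i) :
    IsPullback ((bcCone D c i g).π.app j) (pullback.fst (c.π.app i) g)
      (pullback.fst (D.map j.hom) g) (c.π.app j.left) := by
  have hbig : IsPullback ((bcCone D c i g).π.app j ≫ pullback.snd (D.map j.hom) g)
      (pullback.fst (c.π.app i) g) g (c.π.app j.left ≫ D.map j.hom) := by
    have h1 : (bcCone D c i g).π.app j ≫ pullback.snd (D.map j.hom) g =
        pullback.snd (c.π.app i) g := by simp [bcCone, pullback.map]
    have h2 : c.π.app j.left ≫ D.map j.hom = c.π.app i := c.w j.hom
    rw [h1, h2]
    exact (IsPullback.of_hasPullback (c.π.app i) g).flip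
  exact IsPullback.of_right hbig (by simp [bcCone, pullback.map])
    (IsPullback.of_hasPullback (D.map j.hom) g).flip

set_option backward.isDefEq.respectTransparency false in
/-- The base-changed cone is a limit cone. -/
noncomputable def isLimitBcCone [IsCofiltered I] : IsLimit (bcCone D c i g) :=
  isLimitOfIsPullbackOfIsConnected (bcι D i g) (bcCone D c i g) (c.whisker (Over.forget i))
    { hom := pullback.fst (c.π.app i) g
      w := fun j => by simp [bcι, bcCone, pullback.map] }
    (fun j => isPullback_bc D c i g j)
    ((Functor.Initial.isLimitWhiskerEquiv (Over.forget i) c).symm hc)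

set_option backward.isDefEq.respectTransparency false in
theorem bcDiagram_map_snd {j k : Over i} (u : j ⟶ k) :
    (bcDiagram D i g).map u ≫ pullback.snd (D.map k.hom) g = pullback.snd (D.map j.hom) g := by
  simp [bcDiagram, pullback.map]

set_option backward.isDefEq.respectTransparency false in
theorem bcCone_π_snd (j : Over i) :
    (bcCone D c i g).π.app j ≫ pullback.snd (D.map j.hom) g = pullback.snd (c.π.app i) g := by
  simp [bcCone, pullback.map]

theorem isAffineHom_bcDiagram_map [∀ (i j : I) (f : i ⟶ j), IsAffineHom (D.map f)]
    {j k : Over i} (u : j ⟶ k) : IsAffineHom ((bcDiagram D i g).map u) := by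
  have h0 : ∀ j : Over i, IsAffineHom (pullback.snd (D.map j.hom) g) := fun j =>
    MorphismProperty.pullback_snd (P := @IsAffineHom) _ _ inferInstance
  have h1 : IsAffineHom ((bcDiagram D i g).map u ≫ pullback.snd (D.map k.hom) g) := by
    rw [bcDiagram_map_snd]; exact h0 j
  have h2 : IsSeparated (pullback.snd (D.map k.hom) g) :=
    @IsSeparated.of_isAffineHom _ _ _ (h0 k)
  exact @IsAffineHom.of_comp _ _ _ _ _ h1 h2

/-- `D_i ×_{D_i} T ≅ T`. -/
theorem isIso_snd_id : IsIso (pullback.snd (D.map (𝟙 i)) g) := by
  have : IsIso (D.map (𝟙 i)) := by rw [D.map_id]; infer_instance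
  infer_instance

end Groth.Agent.Lib.Helper27.LimBC
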