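import Mathlib

/-! Freeness via nilpotent ideals and jointly injective base changes (helper27). -/

namespace Groth.Agent.Lib.Helper27.NilpFree

open TensorProduct

theorem nakayama_nilpotent {R : Type*} [CommRing R] {J : Ideal R} (hJ : IsNilpotent J)
    {N : Type*} [AddCommGroup N] [Module R N] (P : Submodule R N)
    (h : P ⊔ J • (⊤ : Submodule R N) = ⊤) : P = ⊤ := by
  obtain ⟨k, hk⟩ := hJ
  have key : ∀ n : ℕ, P ⊔ (J ^ n) • (⊤ : Submodule R N) = ⊤ := by
    intro n
    induction n with
    | zero => simp
    | succ n ih =>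
      rw [eq_top_iff]
      calc ⊤ = P ⊔ J • (⊤ : Submodule R N) := h.symm
        _ = P ⊔ J • (P ⊔ (J ^ n) • (⊤ : Submodule R N)) := by rw [ih]
        _ = P ⊔ (J • P ⊔ J • ((J ^ n) • (⊤ : Submodule R N))) := by rw [Submodule.smul_sup]
        _ ≤ P ⊔ (J ^ (n+1)) • (⊤ : Submodule R N) := by
            rw [← Submodule.mul_smul, ← pow_succ']
            exact sup_le le_sup_left (sup_le (le_sup_of_le_left Submodule.smul_le_right) le_sup_right)
  have := key k
  rw [hk] at this
  simpa using this

/-- Lemma B. -/
theorem injective_of_section {C : Type*} [CommRing C] {J' : Ideal C} (hJ' : IsNilpotent J')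
    {N : Type*} [AddCommGroup N] [Module C N] [Module.Projective C N]
    {I : Type*} (n : I → N)
    (hsurj : Function.Surjective (Finsupp.linearCombination C n))
    (Pr : N →ₗ[C] (I →₀ C ⧸ J')) (hPr : ∀ j, Pr (n j) = Finsupp.single j 1) :
    Function.Injective (Finsupp.linearCombination C n) := by
  classical
  set θ := Finsupp.linearCombination C n with hθ
  obtain ⟨s, hs⟩ := Module.projective_lifting_property θ LinearMap.id hsurj
  have hs' : ∀ y, θ (s y) = y := fun y => by
    have := congrArg (fun g => g y) hs; simpa using this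
  -- kernel of θ lies in J' • ⊤
  have hker : ∀ z : I →₀ C, θ z = 0 → z ∈ J' • (⊤ : Submodule C (I →₀ C)) := by
    intro z hz
    have h1 : Pr (θ z) = 0 := by rw [hz, map_zero]
    have h2 : Pr (θ z) = z.mapRange (Ideal.Quotient.mk J') (map_zero _) := by
      rw [hθ, Finsupp.linearCombination_apply, map_finsuppSum]
      ext j
      simp only [map_smul, hPr, Finsupp.mapRange_apply]
      rw [Finsupp.sum_apply]
      rw [Finsupp.sum_eq_single j]
      · simp [Finsupp.smul_single, Algebra.smul_def]
      · intro a _ haj; simp [Finsupp.single_apply, haj]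
      · intro _; simp
    have h3 : ∀ j, z j ∈ J' := by
      intro j
      have := congrArg (fun g => g j) (h2.symm.trans h1)
      simpa [Ideal.Quotient.eq_zero_iff_mem] using this
    have h4 : z = z.sum (fun j c => c • Finsupp.single j (1 : C)) := by
      conv_lhs => rw [← Finsupp.sum_single z]
      congr 1; ext j c; simp
    rw [h4]
    refine Submodule.sum_mem _ (fun j _ => ?_)
    exact Submodule.smul_mem_smul (h3 j) Submodule.mem_top
  have hrange : LinearMap.range s = ⊤ := by
    apply nakayama_nilpotent hJ'
    rw [eq_top_iff]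
    intro y _
    have hz : θ (y - s (θ y)) = 0 := by rw [map_sub, hs', sub_self]
    have : y = s (θ y) + (y - s (θ y)) := by abel
    rw [this]
    exact Submodule.add_mem_sup (LinearMap.mem_range_self _ _) (hker _ hz)
  rw [← LinearMap.ker_eq_bot, LinearMap.ker_eq_bot']
  intro y hy
  have : y ∈ LinearMap.range s := by rw [hrange]; trivial
  obtain ⟨m, rfl⟩ := this
  rw [hs'] at hy
  rw [hy, map_zero]

end Groth.Agent.Lib.Helper27.NilpFree

namespace Groth.Agent.Lib.Helper27.NilpFree

open TensorProduct

universe u

theorem isNilpotent_map {A C : Type*} [CommRing A] [CommRing C] (f : A →+* C) {J : Ideal A}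
    (hJ : IsNilpotent J) : IsNilpotent (J.map f) := by
  obtain ⟨k, hk⟩ := hJ
  refine ⟨k, ?_⟩
  rw [← Ideal.map_pow, hk, Ideal.zero_eq_bot, Ideal.map_bot]
  rfl

theorem free_of_nilpotent_family {A : Type u} [CommRing A] (J : Ideal A) (hJ : IsNilpotent J)
    {ι : Type u} (B : ι → Type u) [∀ i, CommRing (B i)] [∀ i, Algebra A (B i)]
    (hB : ∀ a : A, (∀ i, algebraMap A (B i) a = 0) → a = 0)
    (M : Type u) [AddCommGroup M] [Module A M]
    (hfree : ∀ i, Module.Free (B i) (B i ⊗[A] M)) (hfreeJ : Module.Free (A ⧸ J) ((A ⧸ J) ⊗[A] M)) :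
    Module.Free A M := by
  classical
  obtain ⟨⟨I, b⟩⟩ := hfreeJ.exists_basis
  have hmk : Function.Surjective (TensorProduct.mk A (A ⧸ J) M 1) :=
    TensorProduct.mk_surjective A M (A ⧸ J) Ideal.Quotient.mk_surjective
  choose m hm using fun j => hmk (b j)
  set φ := Finsupp.linearCombination A m with hφ
  -- span of m plus J M is everything
  have hspan : Submodule.span A (Set.range m) ⊔ J • (⊤ : Submodule A M) = ⊤ := by
    rw [eq_top_iff]
    intro m0 _
    have h1 : (Submodule.span A (Set.range m)).map (TensorProduct.mk A (A ⧸ J) M 1) = ⊤ := by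
      rw [Submodule.map_span, ← Set.range_comp]
      have : (⇑(TensorProduct.mk A (A ⧸ J) M 1) ∘ m) = b := by
        ext j; exact hm j
      rw [this, ← Submodule.restrictScalars_span A (A ⧸ J) Ideal.Quotient.mk_surjective, b.span_eq]
      rfl
    have h2 : TensorProduct.mk A (A ⧸ J) M 1 m0 ∈
        (Submodule.span A (Set.range m)).map (TensorProduct.mk A (A ⧸ J) M 1) := by
      rw [h1]; trivial
    obtain ⟨y, hy, hy2⟩ := h2
    have h3 : (1 : A ⧸ J) ⊗ₜ[A] (m0 - y) = 0 := by
      have : TensorProduct.mk A (A ⧸ J) M 1 (m0 - y) = 0 := by rw [map_sub, hy2, sub_self]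
      simpa using this
    have h4 : m0 - y ∈ J • (⊤ : Submodule A M) := by
      have := congrArg (TensorProduct.quotTensorEquivQuotSMul M J) h3
      rw [TensorProduct.quotTensorEquivQuotSMul_mk_one_tmul, map_zero] at this
      exact (Submodule.Quotient.mk_eq_zero _).mp this
    have : m0 = y + (m0 - y) := by abel
    rw [this]
    exact Submodule.add_mem_sup hy h4
  have hspan' : Submodule.span A (Set.range m) = ⊤ := nakayama_nilpotent hJ _ hspan
  have hφsurj : Function.Surjective φ := by
    rw [← LinearMap.range_eq_top, hφ, Finsupp.range_linearCombination, hspan']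
  have hφinj : Function.Injective φ := by
    rw [← LinearMap.ker_eq_bot, LinearMap.ker_eq_bot']
    intro x hx
    ext j
    simp only [Finsupp.coe_zero, Pi.zero_apply]
    apply hB
    intro i
    -- base change to B i
    let C := B i
    let J' : Ideal C := J.map (algebraMap A C)
    have hJ' : IsNilpotent J' := isNilpotent_map _ hJ
    have : Module.Free C (C ⊗[A] M) := hfree i
    let n : I → C ⊗[A] M := fun j => (1 : C) ⊗ₜ[A] m j
    have hsurj : Function.Surjective (Finsupp.linearCombination C n) := by
      rw [← LinearMap.range_eq_top, Finsupp.range_linearCombination]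
      have : Set.range n = TensorProduct.mk A C M 1 '' Set.range m := by
        rw [← Set.range_comp]; rfl
      rw [this, ← Submodule.baseChange_span, hspan', Submodule.baseChange_top]
    -- the projection
    let g : (A ⧸ J) →ₗ[A] (C ⧸ J') :=
      Submodule.liftQ J ((Ideal.Quotient.mkₐ A J').toLinearMap ∘ₗ (Algebra.linearMap A C)) (by
        intro a ha
        simp only [LinearMap.mem_ker, LinearMap.coe_comp, Function.comp_apply,
          Algebra.linearMap_apply, AlgHom.toLinearMap_apply, Ideal.Quotient.mkₐ_eq_mk]
        exact Ideal.Quotient.eq_zero_iff_mem.mpr (Ideal.mem_map_of_mem _ ha))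
    have hg1 : g 1 = 1 := by
      have h1 : g (Submodule.Quotient.mk 1) = 1 := by
        simp only [g, Submodule.liftQ_apply, LinearMap.coe_comp, Function.comp_apply,
          Algebra.linearMap_apply, map_one, AlgHom.toLinearMap_apply]
      exact h1
    let π' : M →ₗ[A] (I →₀ C ⧸ J') :=
      (Finsupp.mapRange.linearMap g) ∘ₗ (b.repr.toLinearMap.restrictScalars A) ∘ₗ
        (TensorProduct.mk A (A ⧸ J) M 1)
    let Pr : C ⊗[A] M →ₗ[C] (I →₀ C ⧸ J') := LinearMap.liftBaseChange C π'
    have hPr : ∀ j, Pr (n j) = Finsupp.single j 1 := by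
      intro j
      simp only [Pr, n, LinearMap.liftBaseChange_tmul, one_smul, π', LinearMap.coe_comp,
        Function.comp_apply, LinearMap.coe_restrictScalars, LinearEquiv.coe_coe, hm j,
        b.repr_self, Finsupp.mapRange.linearMap_apply, Finsupp.mapRange_single, hg1]
    have hinj := injective_of_section hJ' n hsurj Pr hPr
    have hzero : Finsupp.linearCombination C n (x.mapRange (algebraMap A C) (map_zero _)) = 0 := by
      have h1 : Finsupp.linearCombination C n (x.mapRange (algebraMap A C) (map_zero _)) =
          TensorProduct.mk A C M 1 (φ x) := by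
        rw [hφ, Finsupp.linearCombination_apply, Finsupp.linearCombination_apply,
          Finsupp.sum_mapRange_index (by simp), map_finsuppSum]
        refine Finsupp.sum_congr (fun j _ => ?_)
        simp only [n, map_smul, TensorProduct.mk_apply, algebraMap_smul]
      rw [h1, hx, map_zero]
    have := hinj (hzero.trans (map_zero _).symm)
    have := congrArg (fun f => f j) this
    simpa using this
  exact Module.Free.of_basis (Module.Basis.ofRepr (LinearEquiv.ofBijective φ ⟨hφinj, hφsurj⟩).symm)

end Groth.Agent.Lib.Helper27.NilpFree
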