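import Mathlib
import Groth.Agent.Lib.Helper27.LimBC

/-! Flatness of projections of cofiltered limits of schemes (helper27). -/

set_option autoImplicit false
universe u
open CategoryTheory CategoryTheory.Limits AlgebraicGeometry
open Groth.Agent.Lib.Helper27.LimBC

namespace Groth.Agent.Lib.Helper27.LimFlat

/-- Equational criterion: a ring hom is flat if every relation lifts to a relation in a flat
intermediate algebra. -/
theorem ringHom_flat_of_local_factorization {R M : Type u} [CommRing R] [CommRing M]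
    (φ : R →+* M)
    (H : ∀ (l : ℕ) (f : Fin l → R) (x : Fin l → M), ∑ i, φ (f i) * x i = 0 →
      ∃ (N : Type u) (_ : CommRing N) (ψ : R →+* N) (g : N →+* M), g.comp ψ = φ ∧ ψ.Flat ∧
        ∃ x' : Fin l → N, (∀ i, g (x' i) = x i) ∧ ∑ i, ψ (f i) * x' i = 0) : φ.Flat := by
  letI := φ.toAlgebra
  show Module.Flat R M
  apply Module.Flat.of_forall_isTrivialRelation
  intro l f x h
  have h' : ∑ i, φ (f i) * x i = 0 := by
    simpa [Algebra.smul_def, RingHom.algebraMap_toAlgebra] using h
  obtain ⟨N, _, ψ, g, hg, hψ, x', hx', hrel⟩ := H l f x h'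
  letI := ψ.toAlgebra
  have hflat : Module.Flat R N := hψ
  obtain ⟨k, a, y, hy, ha⟩ := Module.Flat.isTrivialRelation_of_sum_smul_eq_zero (R := R) (M := N)
    (f := f) (x := x') (by simpa [Algebra.smul_def, RingHom.algebraMap_toAlgebra] using hrel)
  refine ⟨k, a, fun j => g (y j), fun i => ?_, ha⟩
  rw [← hx' i, hy i, map_sum]
  refine Finset.sum_congr rfl fun j _ => ?_
  rw [Algebra.smul_def, Algebra.smul_def, map_mul]
  congr 1
  show g (ψ (a i j)) = φ (a i j)
  rw [← hg]; rfl

theorem flat_π_of_isAffine {J : Type u} [SmallCategory J] [IsCofiltered J]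
    (D' : J ⥤ Scheme.{u}) (c' : Cone D') (hc' : IsLimit c') [∀ j, IsAffine (D'.obj j)] (j₀ : J)
    (hflat : ∀ (j : J) (φ : j ⟶ j₀), Flat (D'.map φ)) : Flat (c'.π.app j₀) := by
  have : IsAffine c'.pt := Scheme.isAffine_of_isLimit c' hc'
  have haff : IsAffine (((Functor.const J).obj c'.pt).obj j₀) := this
  rw [HasRingHomProperty.iff_of_isAffine (P := @Flat)]
  apply ringHom_flat_of_local_factorization
  intro l f x hrel
  classical
  choose jx tx htx using fun i => exists_appTop_π_eq_of_isAffine_of_isLimit D' c' hc' (x i)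
  obtain ⟨k, hk⟩ := IsCofiltered.inf_objs_exists (insert j₀ (Finset.univ.image jx))
  have a : ∀ i, k ⟶ jx i := fun i => (hk (by simp)).some
  have b : k ⟶ j₀ := (hk (by simp)).some
  let x₁ : Fin l → Γ(D'.obj k, ⊤) := fun i => (D'.map (a i)).appTop (tx i)
  have hx₁ : ∀ i, (c'.π.app k).appTop (x₁ i) = x i := by
    intro i
    show (c'.π.app k).appTop ((D'.map (a i)).appTop (tx i)) = x i
    rw [← CommRingCat.comp_apply, ← Scheme.Hom.comp_appTop, c'.w]
    exact htx i
  let r : Γ(D'.obj k, ⊤) := ∑ i, (D'.map b).appTop (f i) * x₁ i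
  have hr : (c'.π.app k).appTop r = 0 := by
    show (c'.π.app k).appTop (∑ i, (D'.map b).appTop (f i) * x₁ i) = 0
    rw [map_sum]
    rw [← hrel]
    refine Finset.sum_congr rfl fun i _ => ?_
    rw [map_mul, hx₁ i, ← CommRingCat.comp_apply, ← Scheme.Hom.comp_appTop, c'.w]
  obtain ⟨k', e, hk'⟩ := exists_appTop_map_eq_zero_of_isAffine_of_isLimit D' c' hc' k r hr
  refine ⟨Γ(D'.obj k', ⊤), inferInstance, (D'.map (e ≫ b)).appTop.hom, (c'.π.app k').appTop.hom,
    ?_, ?_, fun i => (D'.map e).appTop (x₁ i), ?_, ?_⟩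
  · rw [← CommRingCat.hom_comp, ← Scheme.Hom.comp_appTop, c'.w]
  · have := hflat k' (e ≫ b)
    exact (HasRingHomProperty.iff_of_isAffine (P := @Flat)).mp this
  · intro i
    show (c'.π.app k').appTop ((D'.map e).appTop (x₁ i)) = x i
    rw [← CommRingCat.comp_apply, ← Scheme.Hom.comp_appTop, c'.w]
    exact hx₁ i
  · have : (D'.map e).appTop r = 0 := hk'
    rw [← this]
    show _ = (D'.map e).appTop (∑ i, (D'.map b).appTop (f i) * x₁ i)
    rw [map_sum]
    refine Finset.sum_congr rfl fun i _ => ?_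
    rw [map_mul, ← CommRingCat.comp_apply, ← Scheme.Hom.comp_appTop, ← D'.map_comp]

theorem flat_cancel_iso {A B C : Scheme.{u}} (f : A ⟶ B) (e : B ⟶ C) (h : A ⟶ C)
    (he : IsIso e) (hfe : f ≫ e = h) : Flat f ↔ Flat h := by
  rw [← hfe]
  exact (MorphismProperty.cancel_right_of_respectsIso (P := @Flat) _ _).symm

set_option backward.isDefEq.respectTransparency false in
theorem flat_π_of_forall_flat_map {I : Type u} [SmallCategory I] [IsCofiltered I]
    (D : I ⥤ Scheme.{u}) (c : Cone D) (hc : IsLimit c)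
    [∀ (i j : I) (f : i ⟶ j), IsAffineHom (D.map f)] (i : I)
    (hf : ∀ (j : I) (φ : j ⟶ i), Flat (D.map φ)) : Flat (c.π.app i) := by
  rw [IsZariskiLocalAtTarget.iff_of_openCover (P := @Flat) (D.obj i).affineCover]
  intro a
  let g := (D.obj i).affineCover.f a
  show Flat (pullback.snd (c.π.app i) g)
  have haffD : ∀ j : Over i, IsAffine ((bcDiagram D i g).obj j) := fun j => by
    have : IsAffineHom (pullback.snd (D.map j.hom) g) :=
      MorphismProperty.pullback_snd (P := @IsAffineHom) _ _ inferInstance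
    exact isAffine_of_isAffineHom (pullback.snd (D.map j.hom) g)
  have hiso : IsIso (pullback.snd (D.map (𝟙 i)) g) := isIso_snd_id D i g
  have hfl : ∀ (j : Over i) (φ : j ⟶ Over.mk (𝟙 i)), Flat ((bcDiagram D i g).map φ) := by
    intro j φ
    have h1 : Flat (pullback.snd (D.map j.hom) g) :=
      MorphismProperty.pullback_snd (P := @Flat) _ _ (hf j.left j.hom)
    exact (flat_cancel_iso _ (pullback.snd (D.map (𝟙 i)) g) _ hiso
      (bcDiagram_map_snd D i g φ)).mpr h1
  have h := flat_π_of_isAffine (bcDiagram D i g) (bcCone D c i g) (isLimitBcCone D c hc i g)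
    (Over.mk (𝟙 i)) hfl
  exact (flat_cancel_iso _ (pullback.snd (D.map (𝟙 i)) g) _ hiso
    (bcCone_π_snd D c i g (Over.mk (𝟙 i)))).mp h

end Groth.Agent.Lib.Helper27.LimFlat
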