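import Mathlib

/-! Descent of "integrally closed domain" along faithfully flat ring maps (helper27). -/

namespace Groth.Agent.Lib.Helper27.NormalDescent

theorem isIntegrallyClosed_of_faithfullyFlat {A B : Type*} [CommRing A] [CommRing B] [Algebra A B]
    [Module.FaithfullyFlat A B] [IsDomain B] [IsIntegrallyClosed B] :
    IsDomain A ∧ IsIntegrallyClosed A := by
  have hinj : Function.Injective (algebraMap A B) := FaithfulSMul.algebraMap_injective A B
  have hdom : IsDomain A := hinj.isDomain _
  refine ⟨hdom, ?_⟩
  rw [isIntegrallyClosed_iff (FractionRing A)]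
  intro x hx
  obtain ⟨a, b, hb, rfl⟩ := IsFractionRing.div_surjective (A := A) x
  have hb0 : b ≠ 0 := nonZeroDivisors.ne_zero hb
  let L := FractionRing B
  have hgi : Function.Injective ((algebraMap B L).comp (algebraMap A B)) :=
    (IsFractionRing.injective B L).comp hinj
  let ψ : FractionRing A →+* L := IsFractionRing.lift hgi
  have hcomp : (algebraMap B L).comp (algebraMap A B) = ψ.comp (algebraMap A (FractionRing A)) := by
    ext r
    simp [ψ, IsFractionRing.lift_algebraMap]
  have hint : IsIntegral B (ψ (algebraMap A (FractionRing A) a / algebraMap A (FractionRing A) b)) :=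
    hx.map_of_comp_eq (algebraMap A B) ψ hcomp
  obtain ⟨c, hc⟩ := IsIntegrallyClosed.algebraMap_eq_of_integral hint
  have hψa : ∀ r : A, ψ (algebraMap A (FractionRing A) r) = algebraMap B L (algebraMap A B r) := by
    intro r; simp [ψ, IsFractionRing.lift_algebraMap]
  rw [map_div₀, hψa, hψa] at hc
  have hb1 : algebraMap B L (algebraMap A B b) ≠ 0 := by
    intro h0
    apply hb0
    apply hinj
    apply IsFractionRing.injective B L
    simpa using h0
  have h1 : algebraMap A B a = algebraMap A B b * c := by
    apply IsFractionRing.injective B L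
    rw [map_mul, hc, mul_div_cancel₀ _ hb1]
  have h2 : a ∈ Ideal.span ({b} : Set A) := by
    rw [← Ideal.comap_map_eq_self_of_faithfullyFlat (B := B) (Ideal.span ({b} : Set A)),
      Ideal.mem_comap, Ideal.map_span, Set.image_singleton, Ideal.mem_span_singleton']
    exact ⟨c, by rw [h1, mul_comm]⟩
  obtain ⟨a', ha'⟩ := Ideal.mem_span_singleton'.mp h2
  refine ⟨a', ?_⟩
  have hbK : algebraMap A (FractionRing A) b ≠ 0 := by
    intro h0; exact hb0 (IsFractionRing.injective A (FractionRing A) (by simpa using h0))
  rw [eq_div_iff hbK, ← map_mul, ha']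

end Groth.Agent.Lib.Helper27.NormalDescent
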