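import Mathlib
import Groth.Agent.Lib.Helper8.UnibranchHens

/-!
# Maximal ideals of `A' ⊗[A] B` for an integral `A`-algebra `A'` and a completion-like `A → B`

If `A → B` is a faithfully flat local homomorphism of local rings with `𝔪_A B = 𝔪_B` and trivial
residue field extension, and `A'` is an integral `A`-algebra, contraction along `A' → A' ⊗[A] B`
is a bijection on maximal ideals.
-/

set_option autoImplicit false

namespace Groth.Agent.Lib.Helper27.BrCpl

universe u

open IsLocalRing TensorProduct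

attribute [local instance] Algebra.TensorProduct.rightAlgebra

section MaxTensor

variable (A B A' : Type u) [CommRing A] [CommRing B] [CommRing A'] [IsLocalRing A] [IsLocalRing B]
  [Algebra A B] [IsLocalHom (algebraMap A B)] [Algebra A A']

theorem algebraMap_right_apply (b : B) : algebraMap B (A' ⊗[A] B) b = (1 : A') ⊗ₜ[A] b := rfl

variable (hres : ∀ b : B, ∃ a : A, b - algebraMap A B a ∈ maximalIdeal B)

include hres in
/-- Every element of `A' ⊗[A] B` is congruent to some `r ⊗ 1` modulo `𝔪_B`. -/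
theorem exists_sub_tmul_one_mem (x : A' ⊗[A] B) :
    ∃ r : A', x - r ⊗ₜ[A] (1 : B) ∈ (maximalIdeal B).map (algebraMap B (A' ⊗[A] B)) := by
  induction x using TensorProduct.induction_on with
  | zero => exact ⟨0, by rw [zero_tmul, sub_self]; exact Ideal.zero_mem _⟩
  | tmul r' b =>
    obtain ⟨a, ha⟩ := hres b
    refine ⟨a • r', ?_⟩
    have h1 : r' ⊗ₜ[A] b - (a • r') ⊗ₜ[A] (1 : B) =
        (r' ⊗ₜ[A] (1 : B)) * algebraMap B (A' ⊗[A] B) (b - algebraMap A B a) := by
      rw [algebraMap_right_apply, Algebra.TensorProduct.tmul_mul_tmul, mul_one, one_mul,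
        TensorProduct.tmul_sub, TensorProduct.smul_tmul, Algebra.algebraMap_eq_smul_one]
    rw [h1]
    exact Ideal.mul_mem_left _ _ (Ideal.mem_map_of_mem _ ha)
  | add x y hx hy =>
    obtain ⟨r, hr⟩ := hx
    obtain ⟨s, hs⟩ := hy
    refine ⟨r + s, ?_⟩
    have : x + y - (r + s) ⊗ₜ[A] (1 : B) = (x - r ⊗ₜ[A] (1 : B)) + (y - s ⊗ₜ[A] (1 : B)) := by
      rw [TensorProduct.add_tmul]; ring
    rw [this]
    exact Ideal.add_mem _ hr hs

variable [Algebra.IsIntegral A A']

/-- Every maximal ideal of `A' ⊗[A] B` contains `𝔪_B`. -/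
theorem map_maximalIdeal_le (M : Ideal (A' ⊗[A] B)) [M.IsMaximal] :
    (maximalIdeal B).map (algebraMap B (A' ⊗[A] B)) ≤ M := by
  haveI : Algebra.IsIntegral B (A' ⊗[A] B) :=
    Groth.Agent.Lib.Helper8.UnibranchHens.isIntegral_right' A A' B
  haveI : (M.comap (algebraMap B (A' ⊗[A] B))).IsMaximal :=
    Ideal.isMaximal_comap_of_isIntegral_of_isMaximal M
  rw [Ideal.map_le_iff_le_comap, ← IsLocalRing.eq_maximalIdeal ‹_›]

theorem comap_includeLeft_isMaximal (M : Ideal (A' ⊗[A] B)) [M.IsMaximal] :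
    (M.comap (algebraMap A' (A' ⊗[A] B))).IsMaximal := by
  haveI : Algebra.IsIntegral B (A' ⊗[A] B) :=
    Groth.Agent.Lib.Helper8.UnibranchHens.isIntegral_right' A A' B
  haveI hmax : (M.comap (algebraMap B (A' ⊗[A] B))).IsMaximal :=
    Ideal.isMaximal_comap_of_isIntegral_of_isMaximal M
  have h1 : M.comap (algebraMap B (A' ⊗[A] B)) = maximalIdeal B := IsLocalRing.eq_maximalIdeal hmax
  haveI : (M.comap (algebraMap A' (A' ⊗[A] B))).IsPrime := Ideal.comap_isPrime _ _
  apply Ideal.isMaximal_of_isIntegral_of_isMaximal_comap (R := A)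
  have h2 : (M.comap (algebraMap A' (A' ⊗[A] B))).comap (algebraMap A A') = maximalIdeal A := by
    rw [Ideal.comap_comap]
    have h3 : (algebraMap A' (A' ⊗[A] B)).comp (algebraMap A A') =
        (algebraMap B (A' ⊗[A] B)).comp (algebraMap A B) := by
      ext a
      change algebraMap A A' a ⊗ₜ[A] (1 : B) = (1 : A') ⊗ₜ[A] algebraMap A B a
      rw [Algebra.algebraMap_eq_smul_one, Algebra.algebraMap_eq_smul_one, TensorProduct.smul_tmul]
    rw [h3, ← Ideal.comap_comap, h1, IsLocalRing.maximalIdeal_comap]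
  rw [h2]
  infer_instance

/-- Contraction of maximal ideals along `A' → A' ⊗[A] B`. -/
noncomputable def comapMax (M : MaximalSpectrum (A' ⊗[A] B)) : MaximalSpectrum A' :=
  haveI := M.isMaximal
  ⟨M.asIdeal.comap (algebraMap A' (A' ⊗[A] B)), comap_includeLeft_isMaximal A B A' M.asIdeal⟩

include hres in
theorem comapMax_injective : Function.Injective (comapMax A B A') := by
  intro M₁ M₂ h
  have h' : M₁.asIdeal.comap (algebraMap A' (A' ⊗[A] B)) =
      M₂.asIdeal.comap (algebraMap A' (A' ⊗[A] B)) := congrArg MaximalSpectrum.asIdeal h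
  have key : ∀ (M N : MaximalSpectrum (A' ⊗[A] B)),
      M.asIdeal.comap (algebraMap A' (A' ⊗[A] B)) = N.asIdeal.comap (algebraMap A' (A' ⊗[A] B)) →
      M.asIdeal ≤ N.asIdeal := by
    intro M N hMN x hx
    haveI := M.isMaximal
    haveI := N.isMaximal
    obtain ⟨r, hr⟩ := exists_sub_tmul_one_mem A B A' hres x
    have h1 : r ⊗ₜ[A] (1 : B) ∈ M.asIdeal := by
      have := M.asIdeal.sub_mem hx (map_maximalIdeal_le A B A' M.asIdeal hr)
      simpa using this
    have h2 : r ∈ M.asIdeal.comap (algebraMap A' (A' ⊗[A] B)) := h1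
    rw [hMN] at h2
    have h3 : r ⊗ₜ[A] (1 : B) ∈ N.asIdeal := h2
    have : x = (x - r ⊗ₜ[A] (1 : B)) + r ⊗ₜ[A] (1 : B) := by ring
    rw [this]
    exact N.asIdeal.add_mem (map_maximalIdeal_le A B A' N.asIdeal hr) h3
  apply MaximalSpectrum.ext
  exact le_antisymm (key M₁ M₂ h') (key M₂ M₁ h'.symm)

theorem comapMax_surjective [Module.FaithfullyFlat A B] :
    Function.Surjective (comapMax A B A') := by
  intro P
  haveI := P.isMaximal
  obtain ⟨Q, hQ, hQP⟩ := Ideal.exists_isPrime_liesOver_of_faithfullyFlat (B := A' ⊗[A] B) P.asIdeal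
  obtain ⟨M, hM, hQM⟩ := Ideal.exists_le_maximal Q hQ.ne_top
  refine ⟨⟨M, hM⟩, ?_⟩
  apply MaximalSpectrum.ext
  show M.comap (algebraMap A' (A' ⊗[A] B)) = P.asIdeal
  have h1 : P.asIdeal ≤ M.comap (algebraMap A' (A' ⊗[A] B)) := by
    rw [hQP.over]
    exact Ideal.comap_mono hQM
  haveI := comap_includeLeft_isMaximal A B A' M
  exact (P.isMaximal.eq_of_le (Ideal.IsMaximal.ne_top ‹_›) h1).symm

include hres in
theorem card_maximalSpectrum_tensor [Module.FaithfullyFlat A B] :
    ENat.card (MaximalSpectrum (A' ⊗[A] B)) = ENat.card (MaximalSpectrum A') :=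
  ENat.card_congr (Equiv.ofBijective (comapMax A B A')
    ⟨comapMax_injective A B A' hres, comapMax_surjective A B A'⟩)

end MaxTensor

end Groth.Agent.Lib.Helper27.BrCpl
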