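import Mathlib

set_option autoImplicit false
open TensorProduct

namespace Groth.Agent.Lib.Helper27.FlatQuotPow

variable {A C : Type*} [CommRing A] [CommRing C] [Algebra A C]

/-- The kernel of `C ⊗ M → (C/J) ⊗ M` is contained in `J • ⊤`. -/
lemma mem_smul_top_of_rTensor_eq_zero (J : Ideal C) (M : Type*) [AddCommGroup M] [Module A M]
    (x : C ⊗[A] M)
    (hx : LinearMap.rTensor M ((Ideal.Quotient.mkₐ A J).toLinearMap) x = 0) :
    x ∈ (J • ⊤ : Submodule C (C ⊗[A] M)) := by
  have hex : Function.Exact ((J.restrictScalars A).subtype)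
      ((Ideal.Quotient.mkₐ A J).toLinearMap) := by
    intro c
    constructor
    · intro hc
      refine ⟨⟨c, ?_⟩, rfl⟩
      change c ∈ J
      exact Ideal.Quotient.eq_zero_iff_mem.mp hc
    · rintro ⟨⟨j, hj⟩, rfl⟩
      exact Ideal.Quotient.eq_zero_iff_mem.mpr hj
  have hsurj : Function.Surjective ((Ideal.Quotient.mkₐ A J).toLinearMap) :=
    Ideal.Quotient.mk_surjective
  have h1 := rTensor_exact M hex hsurj
  obtain ⟨y, rfl⟩ := (h1 x).mp hx
  clear hx
  induction y using TensorProduct.induction_on with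
  | zero => simp
  | tmul j m =>
    obtain ⟨j, hj⟩ := j
    have : (LinearMap.rTensor M (Submodule.restrictScalars A J).subtype) (⟨j, hj⟩ ⊗ₜ[A] m) =
        j • ((1 : C) ⊗ₜ[A] m) := by
      rw [LinearMap.rTensor_tmul, TensorProduct.smul_tmul']
      simp
    rw [this]
    exact Submodule.smul_mem_smul hj Submodule.mem_top
  | add y z hy hz =>
    rw [map_add]
    exact Submodule.add_mem _ hy hz

/-- If `C` is Noetherian, `J` is contained in the Jacobson radical, and all `C ⧸ J ^ n` are flat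
over `A`, then `C` is flat over `A`. -/
theorem flat_of_forall_quotient_pow [IsNoetherianRing C] (J : Ideal C)
    (hJ : J ≤ Ideal.jacobson ⊥) (h : ∀ n : ℕ, Module.Flat A (C ⧸ J ^ n)) : Module.Flat A C := by
  rw [Module.Flat.iff_lTensor_injective]
  intro 𝔞 h𝔞
  rw [injective_iff_map_eq_zero]
  intro x hx
  haveI : Module.Finite A 𝔞 := Module.Finite.iff_fg.mpr h𝔞
  haveI : Module.Finite C (C ⊗[A] 𝔞) := inferInstance
  have hmem : x ∈ (⨅ n : ℕ, (J ^ n) • ⊤ : Submodule C (C ⊗[A] 𝔞)) := by
    rw [Submodule.mem_iInf]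
    intro n
    apply mem_smul_top_of_rTensor_eq_zero
    have hinj := (Module.Flat.iff_lTensor_injective (R := A) (M := C ⧸ J ^ n)).mp (h n) h𝔞
    apply hinj
    rw [map_zero, ← LinearMap.comp_apply, LinearMap.lTensor_comp_rTensor,
      ← LinearMap.rTensor_comp_lTensor, LinearMap.comp_apply, hx, map_zero]
  rw [Ideal.iInf_pow_smul_eq_bot_of_le_jacobson J hJ] at hmem
  exact (Submodule.mem_bot C).mp hmem

end Groth.Agent.Lib.Helper27.FlatQuotPow
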