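import Mathlib
import Groth.Agent.Lib.Helper27.FlatQuotPow
import Groth.Agent.Lib.Helper15.ComplNoeth

set_option autoImplicit false
universe u
open TensorProduct IsLocalRing

namespace Groth.Agent.Lib.Helper27.CplTensor

section Ker
variable {R : Type*} [CommRing R] (I : Ideal R)

lemma evalₐ_eq_zero_of_mem_map (n : ℕ) (x : AdicCompletion I R)
    (hx : x ∈ (I ^ n).map (algebraMap R (AdicCompletion I R))) :
    AdicCompletion.evalₐ I n x = 0 := by
  have hle : (I ^ n).map (algebraMap R (AdicCompletion I R)) ≤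
      RingHom.ker (AdicCompletion.evalₐ I n).toRingHom := by
    rw [Ideal.map_le_iff_le_comap]
    intro a ha
    rw [Ideal.mem_comap, RingHom.mem_ker]
    change AdicCompletion.evalₐ I n (algebraMap R (AdicCompletion I R) a) = 0
    rw [AlgHom.commutes, Ideal.Quotient.algebraMap_eq, Ideal.Quotient.eq_zero_iff_mem]
    exact ha
  exact hle hx

lemma mem_map_of_evalₐ_eq_zero (hI : I.FG) (n : ℕ) (x : AdicCompletion I R)
    (hx : AdicCompletion.evalₐ I n x = 0) :
    x ∈ (I ^ n).map (algebraMap R (AdicCompletion I R)) := by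
  have h1 : x ∈ LinearMap.ker (AdicCompletion.eval I R n) := by
    rw [LinearMap.mem_ker, ← AdicCompletion.factor_evalₐ_eq_eval I x
      (le_of_eq (by simp only [smul_eq_mul, Ideal.mul_top])), hx, map_zero]
  rw [← AdicCompletion.pow_smul_top_eq_ker_eval hI] at h1
  have h2 := Ideal.smul_top_eq_map (R := R) (S := AdicCompletion I R) (I ^ n)
  rw [h2] at h1
  exact h1

/-- the induced map `Ĉ ⧸ (I Ĉ)^n → R ⧸ I^n`. -/
noncomputable def quotEval (n : ℕ) :
    (AdicCompletion I R ⧸ (I.map (algebraMap R (AdicCompletion I R))) ^ n) →+* R ⧸ I ^ n :=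
  Ideal.Quotient.lift _ (AdicCompletion.evalₐ I n).toRingHom (fun x hx => by
    rw [← Ideal.map_pow] at hx
    exact evalₐ_eq_zero_of_mem_map I n x hx)

lemma quotEval_mk (n : ℕ) (x : AdicCompletion I R) :
    quotEval I n (Ideal.Quotient.mk _ x) = AdicCompletion.evalₐ I n x := rfl

lemma quotEval_bijective (hI : I.FG) (n : ℕ) : Function.Bijective (quotEval I n) := by
  constructor
  · rw [injective_iff_map_eq_zero]
    intro y hy
    obtain ⟨x, rfl⟩ := Ideal.Quotient.mk_surjective y
    rw [quotEval_mk] at hy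
    rw [Ideal.Quotient.eq_zero_iff_mem, ← Ideal.map_pow]
    exact mem_map_of_evalₐ_eq_zero I hI n x hy
  · intro z
    obtain ⟨x, rfl⟩ := AdicCompletion.surjective_evalₐ I n z
    exact ⟨Ideal.Quotient.mk _ x, rfl⟩

end Ker

section Tens
variable (k : Type u) [Field k] (R : Type u) [CommRing R] [IsNoetherianRing R] [IsLocalRing R]
  [Algebra k R] (A : Type u) [CommRing A] [Algebra k A]

/-- the ideal `𝔪 (R ⊗ A)`. -/
abbrev mT : Ideal (R ⊗[k] A) :=
  (maximalIdeal R).map (Algebra.TensorProduct.includeLeftRingHom : R →+* R ⊗[k] A)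

lemma mT_fg : (mT k R A).FG := ((maximalIdeal R).fg_of_isNoetherianRing).map _

variable {k R A} in
lemma exists_sub_mem (hres : Function.Bijective (algebraMap k (ResidueField R)))
    (x : R ⊗[k] A) : ∃ a : A, x - 1 ⊗ₜ[k] a ∈ mT k R A := by
  induction x using TensorProduct.induction_on with
  | zero => exact ⟨0, by simp⟩
  | tmul r a =>
    obtain ⟨c, hc⟩ := hres.2 (residue R r)
    have hmem : r - algebraMap k R c ∈ maximalIdeal R := by
      rw [← residue_eq_zero_iff, map_sub, ← hc, sub_eq_zero]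
      rfl
    refine ⟨c • a, ?_⟩
    have h1 : r ⊗ₜ[k] a - (1 : R) ⊗ₜ[k] (c • a) =
        (Algebra.TensorProduct.includeLeftRingHom (r - algebraMap k R c) : R ⊗[k] A) *
          ((1 : R) ⊗ₜ[k] a) := by
      rw [Algebra.TensorProduct.includeLeftRingHom_apply, Algebra.TensorProduct.tmul_mul_tmul,
        mul_one, one_mul, TensorProduct.sub_tmul, TensorProduct.tmul_smul,
        Algebra.algebraMap_eq_smul_one, TensorProduct.smul_tmul']
    rw [h1]
    exact Ideal.mul_mem_right _ _ (Ideal.mem_map_of_mem _ hmem)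
  | add x y hx hy =>
    obtain ⟨a, ha⟩ := hx
    obtain ⟨b, hb⟩ := hy
    refine ⟨a + b, ?_⟩
    have : x + y - (1 : R) ⊗ₜ[k] (a + b) = (x - 1 ⊗ₜ[k] a) + (y - 1 ⊗ₜ[k] b) := by
      rw [TensorProduct.tmul_add]; ring
    rw [this]
    exact Ideal.add_mem _ ha hb


lemma exists_sub_mem_map (c : AdicCompletion (mT k R A) (R ⊗[k] A)) :
    ∃ t : R ⊗[k] A, c - algebraMap _ _ t ∈
      (mT k R A).map (algebraMap (R ⊗[k] A) (AdicCompletion (mT k R A) (R ⊗[k] A))) := by
  obtain ⟨t, ht⟩ := Ideal.Quotient.mk_surjective (AdicCompletion.evalₐ (mT k R A) 1 c)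
  refine ⟨t, ?_⟩
  have := mem_map_of_evalₐ_eq_zero (mT k R A) (mT_fg k R A) 1 (c - algebraMap _ _ t) (by
    rw [map_sub, AlgHom.commutes, ← ht, Ideal.Quotient.algebraMap_eq, sub_self])
  rwa [pow_one] at this

theorem isNoetherianRing_completion [IsNoetherianRing A]
    (hres : Function.Bijective (algebraMap k (ResidueField R))) :
    IsNoetherianRing (AdicCompletion (mT k R A) (R ⊗[k] A)) := by
  have hfg := mT_fg k R A
  have hJfg : ((mT k R A).map (algebraMap (R ⊗[k] A)
      (AdicCompletion (mT k R A) (R ⊗[k] A)))).FG := hfg.map _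
  haveI hc : IsAdicComplete ((mT k R A).map (algebraMap (R ⊗[k] A)
      (AdicCompletion (mT k R A) (R ⊗[k] A)))) (AdicCompletion (mT k R A) (R ⊗[k] A)) :=
    AdicCompletion.isAdicComplete_self _ hfg
  let f : A →+* AdicCompletion (mT k R A) (R ⊗[k] A) ⧸ ((mT k R A).map (algebraMap (R ⊗[k] A)
      (AdicCompletion (mT k R A) (R ⊗[k] A)))) :=
    (Ideal.Quotient.mk _).comp ((algebraMap (R ⊗[k] A) _).comp
      (Algebra.TensorProduct.includeRight (R := k) (A := R) (B := A)).toRingHom)
  have hf : Function.Surjective f := by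
    intro y
    obtain ⟨c, rfl⟩ := Ideal.Quotient.mk_surjective y
    obtain ⟨t, ht⟩ := exists_sub_mem_map k R A c
    obtain ⟨a, ha⟩ := exists_sub_mem hres t
    refine ⟨a, ?_⟩
    change Ideal.Quotient.mk _ (algebraMap (R ⊗[k] A) _ ((1 : R) ⊗ₜ[k] a)) = _
    rw [eq_comm, Ideal.Quotient.eq]
    have h2 : c - algebraMap (R ⊗[k] A) (AdicCompletion (mT k R A) (R ⊗[k] A)) ((1 : R) ⊗ₜ[k] a) =
        (c - algebraMap _ _ t) + algebraMap _ _ (t - (1 : R) ⊗ₜ[k] a) := by
      rw [map_sub]; ring
    rw [h2]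
    exact Ideal.add_mem _ ht (Ideal.mem_map_of_mem _ ha)
  haveI : IsNoetherianRing (AdicCompletion (mT k R A) (R ⊗[k] A) ⧸ ((mT k R A).map
      (algebraMap (R ⊗[k] A) (AdicCompletion (mT k R A) (R ⊗[k] A))))) :=
    isNoetherianRing_of_surjective A _ f hf
  exact Groth.Agent.Lib.Helper15.CN.isNoetherianRing_of_fg_of_complete _ hJfg



/-- `A → M ⊗[k] A` is flat for any `k`-algebra `M` over a field `k`. -/
lemma includeRight_flat (M : Type u) [CommRing M] [Algebra k M] :
    (Algebra.TensorProduct.includeRight (R := k) (A := M) (B := A)).toRingHom.Flat := by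
  have h1 : (algebraMap A (A ⊗[k] M)).Flat := RingHom.flat_algebraMap_iff.mpr inferInstance
  have h2 : ((Algebra.TensorProduct.comm k A M : A ⊗[k] M →+* M ⊗[k] A)).Flat :=
    RingHom.Flat.of_bijective (Algebra.TensorProduct.comm k A M).bijective
  have h3 := RingHom.Flat.comp h1 h2
  have h4 : ((Algebra.TensorProduct.comm k A M : A ⊗[k] M →+* M ⊗[k] A)).comp
      (algebraMap A (A ⊗[k] M)) =
      (Algebra.TensorProduct.includeRight (R := k) (A := M) (B := A)).toRingHom := by
    ext a
    simp [Algebra.TensorProduct.algebraMap_apply]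
  rw [← h4]
  exact h3

/-- `A → (R ⊗ A) ⧸ (𝔪(R ⊗ A))^n` is flat. -/
lemma quot_pow_flat (n : ℕ) :
    ((Ideal.Quotient.mk ((mT k R A) ^ n)).comp
      (Algebra.TensorProduct.includeRight (R := k) (A := R) (B := A)).toRingHom).Flat := by
  have hI : (mT k R A) ^ n = ((maximalIdeal R) ^ n).map (algebraMap R (R ⊗[k] A)) := by
    rw [Ideal.map_pow]
    rfl
  let e := Algebra.TensorProduct.quotientTensorEquiv (R := k) k A R ((maximalIdeal R) ^ n)
  let θ : (R ⊗[k] A) ⧸ (mT k R A) ^ n →+* (R ⧸ (maximalIdeal R) ^ n) ⊗[k] A :=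
    (e.symm.toRingEquiv.toRingHom).comp (Ideal.quotEquivOfEq hI).toRingHom
  have hθ : Function.Bijective θ := e.symm.bijective.comp (Ideal.quotEquivOfEq hI).bijective
  rw [← RingHom.Flat.comp_iff_of_bijective_left hθ]
  have h4 : θ.comp ((Ideal.Quotient.mk ((mT k R A) ^ n)).comp
      (Algebra.TensorProduct.includeRight (R := k) (A := R) (B := A)).toRingHom) =
      (Algebra.TensorProduct.includeRight (R := k) (A := R ⧸ (maximalIdeal R) ^ n)
        (B := A)).toRingHom := by
    ext a
    change e.symm (Ideal.quotEquivOfEq hI (Ideal.Quotient.mk _ ((1 : R) ⊗ₜ[k] a))) = _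
    rw [Ideal.quotEquivOfEq_mk]
    exact Algebra.TensorProduct.quotientTensorEquiv_symm_apply_tmul k A R _ 1 a
  rw [h4]
  exact includeRight_flat k A _



theorem flat_completion [IsNoetherianRing A]
    (hres : Function.Bijective (algebraMap k (ResidueField R))) :
    ((algebraMap (R ⊗[k] A) (AdicCompletion (mT k R A) (R ⊗[k] A))).comp
      (Algebra.TensorProduct.includeRight (R := k) (A := R) (B := A)).toRingHom).Flat := by
  have hfg := mT_fg k R A
  haveI := isNoetherianRing_completion k R A hres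
  haveI hc : IsAdicComplete ((mT k R A).map (algebraMap (R ⊗[k] A)
      (AdicCompletion (mT k R A) (R ⊗[k] A)))) (AdicCompletion (mT k R A) (R ⊗[k] A)) :=
    AdicCompletion.isAdicComplete_self _ hfg
  have hJ := IsAdicComplete.le_jacobson_bot ((mT k R A).map (algebraMap (R ⊗[k] A)
      (AdicCompletion (mT k R A) (R ⊗[k] A))))
  letI : Algebra A (AdicCompletion (mT k R A) (R ⊗[k] A)) :=
    ((algebraMap (R ⊗[k] A) (AdicCompletion (mT k R A) (R ⊗[k] A))).comp
      (Algebra.TensorProduct.includeRight (R := k) (A := R) (B := A)).toRingHom).toAlgebra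
  change Module.Flat A (AdicCompletion (mT k R A) (R ⊗[k] A))
  apply FlatQuotPow.flat_of_forall_quotient_pow _ hJ
  intro n
  rw [← RingHom.flat_algebraMap_iff]
  have h1 : algebraMap A (AdicCompletion (mT k R A) (R ⊗[k] A) ⧸
      ((mT k R A).map (algebraMap (R ⊗[k] A) (AdicCompletion (mT k R A) (R ⊗[k] A)))) ^ n) =
      (Ideal.Quotient.mk _).comp ((algebraMap (R ⊗[k] A)
        (AdicCompletion (mT k R A) (R ⊗[k] A))).comp
      (Algebra.TensorProduct.includeRight (R := k) (A := R) (B := A)).toRingHom) := rfl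
  rw [h1, ← RingHom.Flat.comp_iff_of_bijective_left (quotEval_bijective (mT k R A) hfg n)]
  have h2 : (quotEval (mT k R A) n).comp ((Ideal.Quotient.mk _).comp ((algebraMap (R ⊗[k] A)
        (AdicCompletion (mT k R A) (R ⊗[k] A))).comp
      (Algebra.TensorProduct.includeRight (R := k) (A := R) (B := A)).toRingHom)) =
      (Ideal.Quotient.mk ((mT k R A) ^ n)).comp
      (Algebra.TensorProduct.includeRight (R := k) (A := R) (B := A)).toRingHom := by
    refine RingHom.ext fun a => ?_
    rw [RingHom.comp_apply, RingHom.comp_apply, quotEval_mk, RingHom.comp_apply, AlgHom.commutes,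
      RingHom.comp_apply]
    rfl
  rw [h2]
  exact quot_pow_flat k R A n


end Tens


end Groth.Agent.Lib.Helper27.CplTensor
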