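import Mathlib
import Groth.Prelude.Def_EGA4c
import Groth.Agent.Lib.Helper27.CplTensorA
import Groth.Agent.Lib.Helper27.FlatQuotPow
import Groth.Agent.Lib.Helper7.AdicFlat
import Groth.Agent.Lib.Helper15.FiniteComplete
import Groth.Agent.Lib.Helper15.ComplSemilocal
import Groth.Agent.Lib.Helper15.ComplNoeth
import Groth.Agent.Lib.Helper26.CompleteFinite

/-!
# The completed tensor product `A ⊗̂_k B` of two complete Noetherian local `k`-algebras (helper27)

`κ_A` finite over `k`.  Key isomorphism: `(A/𝔪_A^j) ⊗_k B ≅ C/𝔪_A^j C`.  Consequences: `C` Noetherian,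
semi-local, flat over `A` and over `B`, residue fields finite over `B`.
-/

set_option autoImplicit false
universe u
attribute [local instance] Algebra.TensorProduct.rightAlgebra
open TensorProduct IsLocalRing EGA4

namespace Groth.Agent.Lib.Helper27.CplTensorC

open Groth.Agent.Lib.Helper27.CplTensor Groth.Agent.Lib.Helper15

section Gen
variable {R : Type*} [CommRing R] (I : Ideal R)

/-- every element of the completion is congruent to an element of `R` modulo `I^n Ĉ`. -/
lemma exists_sub_mem_pow (hI : I.FG) (n : ℕ) (c : AdicCompletion I R) :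
    ∃ t : R, c - algebraMap R _ t ∈ (I ^ n).map (algebraMap R (AdicCompletion I R)) := by
  obtain ⟨t, ht⟩ := Ideal.Quotient.mk_surjective (AdicCompletion.evalₐ I n c)
  refine ⟨t, mem_map_of_evalₐ_eq_zero I hI n _ ?_⟩
  rw [map_sub, AlgHom.commutes, ← ht, Ideal.Quotient.algebraMap_eq, sub_self]

/-- if `I^n ≤ 𝔞` and the image of `t` lies in `𝔞 Ĉ` then `t ∈ 𝔞`. -/
lemma mem_of_algebraMap_mem_map (𝔞 : Ideal R) (n : ℕ) (h : I ^ n ≤ 𝔞) (t : R)
    (ht : algebraMap R (AdicCompletion I R) t ∈ 𝔞.map (algebraMap R (AdicCompletion I R))) :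
    t ∈ 𝔞 := by
  let φ : AdicCompletion I R →+* R ⧸ 𝔞 :=
    (Ideal.Quotient.factor h).comp (AdicCompletion.evalₐ I n).toRingHom
  have hφ : ∀ r : R, φ (algebraMap R _ r) = Ideal.Quotient.mk 𝔞 r := by
    intro r
    change Ideal.Quotient.factor h (AdicCompletion.evalₐ I n (algebraMap R _ r)) = _
    rw [AlgHom.commutes, Ideal.Quotient.algebraMap_eq, Ideal.Quotient.factor_mk]
  have hle : 𝔞.map (algebraMap R (AdicCompletion I R)) ≤ RingHom.ker φ := by
    rw [Ideal.map_le_iff_le_comap]
    intro a ha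
    rw [Ideal.mem_comap, RingHom.mem_ker, hφ, Ideal.Quotient.eq_zero_iff_mem]
    exact ha
  have := hle ht
  rw [RingHom.mem_ker, hφ, Ideal.Quotient.eq_zero_iff_mem] at this
  exact this

lemma map_jacobson_le {C Q : Type*} [CommRing C] [CommRing Q] (f : C →+* Q)
    (hf : Function.Surjective f) :
    (Ideal.jacobson (⊥ : Ideal C)).map f ≤ Ideal.jacobson ⊥ := by
  rw [Ideal.map_le_iff_le_comap]
  intro x hx
  rw [Ideal.mem_comap, Ideal.mem_jacobson_bot]
  intro y
  obtain ⟨y', rfl⟩ := hf y
  rw [Ideal.mem_jacobson_bot] at hx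
  have := (hx y').map f
  rwa [map_add, map_mul, map_one] at this

end Gen

section Right
variable (k : Type u) [Field k] (E L : Type u) [CommRing E] [CommRing L] [Algebra k E] [Algebra k L]

lemma finite_right [Module.Finite k E] : Module.Finite L (E ⊗[k] L) := by
  have h1 : (algebraMap L (L ⊗[k] E)).Finite := RingHom.finite_algebraMap.mpr inferInstance
  have h2 : ((Algebra.TensorProduct.comm k L E : L ⊗[k] E →+* E ⊗[k] L)).Finite :=
    RingHom.Finite.of_surjective _ (Algebra.TensorProduct.comm k L E).surjective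
  have h3 := h2.comp h1
  have h4 : ((Algebra.TensorProduct.comm k L E : L ⊗[k] E →+* E ⊗[k] L)).comp
      (algebraMap L (L ⊗[k] E)) = algebraMap L (E ⊗[k] L) := by
    ext a
    simp [Algebra.TensorProduct.algebraMap_apply, Algebra.TensorProduct.right_algebraMap_apply]
  rw [h4] at h3
  exact RingHom.finite_algebraMap.mp h3

lemma flat_right : (algebraMap L (E ⊗[k] L)).Flat := includeRight_flat k L E

end Right

section Main
variable (k : Type u) [Field k] (A B : Type u) [CommRing A] [CommRing B] [Algebra k A] [Algebra k B]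
  [IsNoetherianRing A] [IsNoetherianRing B] [IsLocalRing A] [IsLocalRing B]

lemma cTensorIdeal_eq : cTensorIdeal k A B =
    (maximalIdeal A).map (algebraMap A (A ⊗[k] B)) ⊔
      (maximalIdeal B).map (algebraMap B (A ⊗[k] B)) := rfl

lemma cTensorIdeal_fg : (cTensorIdeal k A B).FG := by
  rw [cTensorIdeal_eq]
  exact Submodule.FG.sup (((maximalIdeal A).fg_of_isNoetherianRing).map _)
    (((maximalIdeal B).fg_of_isNoetherianRing).map _)

/-- the ideal `𝔫 C`. -/
noncomputable abbrev JC : Ideal (CTensor k A B) :=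
  (cTensorIdeal k A B).map (algebraMap (A ⊗[k] B) (CTensor k A B))

instance isAdicComplete_JC : IsAdicComplete (JC k A B) (CTensor k A B) :=
  AdicCompletion.isAdicComplete_self _ (cTensorIdeal_fg k A B)

lemma JC_le_jacobson : JC k A B ≤ Ideal.jacobson ⊥ := IsAdicComplete.le_jacobson_bot _

lemma algebraMapA_eq : algebraMap A (CTensor k A B) =
    (algebraMap (A ⊗[k] B) (CTensor k A B)).comp (algebraMap A (A ⊗[k] B)) := rfl

lemma algebraMapB_eq : algebraMap B (CTensor k A B) =
    (algebraMap (A ⊗[k] B) (CTensor k A B)).comp (algebraMap B (A ⊗[k] B)) := rfl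

lemma mapA_le (I : Ideal A) (hI : I ≤ maximalIdeal A) :
    I.map (algebraMap A (CTensor k A B)) ≤ JC k A B := by
  rw [algebraMapA_eq, ← Ideal.map_map]
  apply Ideal.map_mono
  rw [cTensorIdeal_eq]
  exact le_sup_of_le_left (Ideal.map_mono hI)

lemma mapB_le : (maximalIdeal B).map (algebraMap B (CTensor k A B)) ≤ JC k A B := by
  rw [algebraMapB_eq, ← Ideal.map_map]
  apply Ideal.map_mono
  rw [cTensorIdeal_eq]
  exact le_sup_right

/-- `T → κ_A ⊗ κ_B`. -/
noncomputable def mu : A ⊗[k] B →ₐ[k] (A ⧸ maximalIdeal A) ⊗[k] (B ⧸ maximalIdeal B) :=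
  Algebra.TensorProduct.map (Ideal.Quotient.mkₐ k (maximalIdeal A))
    (Ideal.Quotient.mkₐ k (maximalIdeal B))

lemma mu_surjective : Function.Surjective (mu k A B) :=
  Algebra.TensorProduct.map_surjective _ _ (Ideal.Quotient.mkₐ_surjective _ _)
    (Ideal.Quotient.mkₐ_surjective _ _)

lemma ker_mu : RingHom.ker (mu k A B) = cTensorIdeal k A B := by
  have hA : RingHom.ker (Ideal.Quotient.mkₐ k (maximalIdeal A)) = maximalIdeal A :=
    Ideal.ext fun x => by rw [RingHom.mem_ker]; exact Ideal.Quotient.eq_zero_iff_mem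
  have hB : RingHom.ker (Ideal.Quotient.mkₐ k (maximalIdeal B)) = maximalIdeal B :=
    Ideal.ext fun x => by rw [RingHom.mem_ker]; exact Ideal.Quotient.eq_zero_iff_mem
  unfold mu cTensorIdeal
  rw [Algebra.TensorProduct.map_ker _ _ (Ideal.Quotient.mkₐ_surjective _ _)
    (Ideal.Quotient.mkₐ_surjective _ _), hA, hB]

section Fin
variable [Module.Finite k (ResidueField A)]

instance isArtinianRing_quot : IsArtinianRing (CTensor k A B ⧸ JC k A B) := by
  haveI : Module.Finite k (A ⧸ maximalIdeal A) := ‹Module.Finite k (ResidueField A)›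
  haveI := finite_right k (A ⧸ maximalIdeal A) (B ⧸ maximalIdeal B)
  haveI : IsArtinianRing (B ⧸ maximalIdeal B) := inferInstanceAs (IsArtinianRing (ResidueField B))
  haveI : IsArtinianRing ((A ⧸ maximalIdeal A) ⊗[k] (B ⧸ maximalIdeal B)) :=
    IsArtinianRing.of_finite (B ⧸ maximalIdeal B) _
  let e := RingHom.quotientKerEquivOfSurjective (f := (mu k A B).toRingHom) (mu_surjective k A B)
  have hker : RingHom.ker (mu k A B).toRingHom = cTensorIdeal k A B := ker_mu k A B
  let g : (A ⊗[k] B) ⧸ RingHom.ker (mu k A B).toRingHom →+* CTensor k A B ⧸ JC k A B :=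
    Ideal.quotientMap (JC k A B) (algebraMap (A ⊗[k] B) (CTensor k A B)) (by
      rw [hker]
      exact Ideal.le_comap_map)
  have hg : Function.Surjective g := by
    intro y
    obtain ⟨c, rfl⟩ := Ideal.Quotient.mk_surjective y
    obtain ⟨t, ht⟩ := exists_sub_mem_pow (cTensorIdeal k A B) (cTensorIdeal_fg k A B) 1 c
    rw [pow_one] at ht
    refine ⟨Ideal.Quotient.mk _ t, ?_⟩
    change Ideal.Quotient.mk _ (algebraMap _ _ t) = _
    rw [eq_comm, Ideal.Quotient.eq]
    exact ht
  have hge : Function.Surjective (g.comp e.symm.toRingHom) := hg.comp e.symm.surjective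
  exact hge.isArtinianRing

instance isNoetherianRing_cTensor : IsNoetherianRing (CTensor k A B) := by
  have hJfg : (JC k A B).FG := (cTensorIdeal_fg k A B).map _
  haveI : IsNoetherianRing (CTensor k A B ⧸ JC k A B) := inferInstance
  exact CN.isNoetherianRing_of_fg_of_complete _ hJfg

theorem finite_maximalSpectrum : Finite (MaximalSpectrum (CTensor k A B)) :=
  ComplSemilocal.finite_maximalSpectrum (JC k A B)

end Fin

lemma map_map_le (I : Ideal A) : I.map (algebraMap A (A ⊗[k] B)) ≤
    (I.map (algebraMap A (CTensor k A B))).comap (algebraMap (A ⊗[k] B) (CTensor k A B)) := by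
  rw [← Ideal.map_le_iff_le_comap, Ideal.map_map, ← algebraMapA_eq]

/-- the comparison map `(A/I) ⊗ B → C/IC`. -/
noncomputable def Psi (I : Ideal A) :
    (A ⧸ I) ⊗[k] B →+* CTensor k A B ⧸ I.map (algebraMap A (CTensor k A B)) :=
  (Ideal.quotientMap _ (algebraMap (A ⊗[k] B) (CTensor k A B)) (map_map_le k A B I)).comp
    (Algebra.TensorProduct.quotientTensorEquiv (R := k) k B A I).toRingEquiv.toRingHom

lemma Psi_apply (I : Ideal A) (x : (A ⧸ I) ⊗[k] B) :
    Psi k A B I x = Ideal.quotientMap _ (algebraMap (A ⊗[k] B) (CTensor k A B))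
      (map_map_le k A B I) (Algebra.TensorProduct.quotientTensorEquiv (R := k) k B A I x) := rfl

lemma Psi_tmul (I : Ideal A) (a : A) (b : B) :
    Psi k A B I ((Ideal.Quotient.mk I a) ⊗ₜ[k] b) =
      Ideal.Quotient.mk _ (algebraMap (A ⊗[k] B) (CTensor k A B) (a ⊗ₜ[k] b)) := rfl

lemma Psi_comp_right (I : Ideal A) :
    (Psi k A B I).comp (algebraMap B ((A ⧸ I) ⊗[k] B)) =
      algebraMap B (CTensor k A B ⧸ I.map (algebraMap A (CTensor k A B))) := by
  refine RingHom.ext fun b => ?_
  rw [RingHom.comp_apply, Algebra.TensorProduct.right_algebraMap_apply]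
  exact Psi_tmul k A B I 1 b

lemma Psi_comp_left (I : Ideal A) :
    (Psi k A B I).comp (algebraMap (A ⧸ I) ((A ⧸ I) ⊗[k] B)) =
      algebraMap (A ⧸ I) (CTensor k A B ⧸ I.map (algebraMap A (CTensor k A B))) := by
  apply Ideal.Quotient.ringHom_ext
  refine RingHom.ext fun a => ?_
  exact Psi_tmul k A B I a 1

lemma isFiniteLength_quotient_pow (n : ℕ) : IsFiniteLength A (A ⧸ maximalIdeal A ^ n) := by
  rcases Nat.eq_zero_or_pos n with rfl | hn
  · haveI : Subsingleton (A ⧸ maximalIdeal A ^ 0) := by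
      rw [pow_zero, Ideal.one_eq_top]
      exact Ideal.Quotient.subsingleton_iff.2 rfl
    exact IsFiniteLength.of_subsingleton
  · have hp : maximalIdeal A ∈ (maximalIdeal A ^ n).minimalPrimes := by
      refine ⟨⟨inferInstance, Ideal.pow_le_self hn.ne'⟩, ?_⟩
      rintro q ⟨hq, hle⟩ _
      exact hq.le_of_pow_le hle
    haveI := IsLocalRing.quotient_artinian_of_mem_minimalPrimes_of_isLocalRing _ hp
    rw [isFiniteLength_iff_isNoetherian_isArtinian]
    exact ⟨inferInstance, isArtinian_of_surjective_algebraMap (S := A) (R := A ⧸ maximalIdeal A ^ n)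
      Ideal.Quotient.mk_surjective⟩

section Bij
variable [Module.Finite k (ResidueField A)] (j : ℕ)

instance finite_quot_pow : Module.Finite k (A ⧸ maximalIdeal A ^ j) :=
  Groth.Agent.Lib.Helper26.CompleteFinite.finite_of_isFiniteLength k A
    (isFiniteLength_quotient_pow A j)

instance finite_F : Module.Finite B ((A ⧸ maximalIdeal A ^ j) ⊗[k] B) := finite_right k _ B

variable [IsAdicComplete (maximalIdeal B) B]

lemma isAdicComplete_F :
    IsAdicComplete (maximalIdeal B) ((A ⧸ maximalIdeal A ^ j) ⊗[k] B) :=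
  FiniteComplete.isAdicComplete_of_finite B _

theorem Psi_surjective : Function.Surjective (Psi k A B (maximalIdeal A ^ j)) := by
  let K : Ideal ((A ⧸ maximalIdeal A ^ j) ⊗[k] B) :=
    (maximalIdeal B).map (algebraMap B ((A ⧸ maximalIdeal A ^ j) ⊗[k] B))
  haveI hpre : IsPrecomplete K ((A ⧸ maximalIdeal A ^ j) ⊗[k] B) :=
    IsPrecomplete.map_algebraMap_iff.mpr (isAdicComplete_F k A B j).toIsPrecomplete
  have hKmap : K.map (Psi k A B (maximalIdeal A ^ j)) =
      ((maximalIdeal B).map (algebraMap B (CTensor k A B))).map (Ideal.Quotient.mk _) := by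
    rw [Ideal.map_map, Psi_comp_right, Ideal.map_map]
    rfl
  haveI hhaus : IsHausdorff (K.map (Psi k A B (maximalIdeal A ^ j)))
      (CTensor k A B ⧸ (maximalIdeal A ^ j).map (algebraMap A (CTensor k A B))) := by
    apply IsHausdorff.of_le_jacobson
    rw [hKmap]
    exact (Ideal.map_mono ((mapB_le k A B).trans (JC_le_jacobson k A B))).trans
      (map_jacobson_le _ Ideal.Quotient.mk_surjective)
  apply surjective_of_mk_map_comp_surjective (I := K) (Psi k A B (maximalIdeal A ^ j))
  intro y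
  obtain ⟨q, rfl⟩ := Ideal.Quotient.mk_surjective y
  obtain ⟨c, rfl⟩ := Ideal.Quotient.mk_surjective q
  obtain ⟨t, ht⟩ := exists_sub_mem_pow (cTensorIdeal k A B) (cTensorIdeal_fg k A B) (j + 1) c
  have hle : (cTensorIdeal k A B) ^ (j + 1) ≤
      (maximalIdeal A ^ j).map (algebraMap A (A ⊗[k] B)) ⊔
        (maximalIdeal B).map (algebraMap B (A ⊗[k] B)) := by
    rw [cTensorIdeal_eq]
    refine Ideal.sup_pow_add_le_pow_sup_pow.trans ?_
    rw [pow_one, Ideal.map_pow]
  have ht' : c - algebraMap _ _ t ∈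
      (maximalIdeal A ^ j).map (algebraMap A (CTensor k A B)) ⊔
        (maximalIdeal B).map (algebraMap B (CTensor k A B)) := by
    have := Ideal.map_mono (f := algebraMap (A ⊗[k] B) (CTensor k A B)) hle ht
    rw [Ideal.map_sup, Ideal.map_map, Ideal.map_map] at this
    exact this
  obtain ⟨x, hx⟩ := (Algebra.TensorProduct.quotientTensorEquiv (R := k) k B A
    (maximalIdeal A ^ j)).surjective (Ideal.Quotient.mk _ t)
  refine ⟨x, ?_⟩
  have hPx : Psi k A B (maximalIdeal A ^ j) x = Ideal.Quotient.mk _ (algebraMap _ _ t) := by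
    rw [Psi_apply, hx]
    rfl
  rw [RingHom.comp_apply, Ideal.Quotient.eq, hKmap, hPx, ← map_sub]
  obtain ⟨u, hu, v, hv, huv⟩ := Submodule.mem_sup.mp ht'
  have h9 : algebraMap (A ⊗[k] B) (CTensor k A B) t - c = -(u + v) := by
    rw [huv]; ring
  rw [h9, map_neg, map_add, Ideal.Quotient.eq_zero_iff_mem.mpr hu, zero_add]
  exact (Ideal.neg_mem_iff _).mpr (Ideal.mem_map_of_mem _ hv)

theorem Psi_injective : Function.Injective (Psi k A B (maximalIdeal A ^ j)) := by
  rw [injective_iff_map_eq_zero]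
  intro x hx
  refine IsHausdorff.haus (isAdicComplete_F k A B j).toIsHausdorff x fun N => ?_
  rw [SModEq.zero]
  obtain ⟨t, ht⟩ := Ideal.Quotient.mk_surjective (Algebra.TensorProduct.quotientTensorEquiv
    (R := k) k B A (maximalIdeal A ^ j) x)
  have h1 : algebraMap (A ⊗[k] B) (CTensor k A B) t ∈
      (maximalIdeal A ^ j).map (algebraMap A (CTensor k A B)) := by
    rw [← Ideal.Quotient.eq_zero_iff_mem, ← hx, Psi_apply, ← ht]
    rfl
  have h2 : (cTensorIdeal k A B) ^ (j + N) ≤
      (maximalIdeal A ^ j).map (algebraMap A (A ⊗[k] B)) ⊔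
        (maximalIdeal B ^ N).map (algebraMap B (A ⊗[k] B)) := by
    rw [cTensorIdeal_eq]
    refine Ideal.sup_pow_add_le_pow_sup_pow.trans ?_
    rw [Ideal.map_pow, Ideal.map_pow]
  have h3 : t ∈ (maximalIdeal A ^ j).map (algebraMap A (A ⊗[k] B)) ⊔
        (maximalIdeal B ^ N).map (algebraMap B (A ⊗[k] B)) := by
    apply mem_of_algebraMap_mem_map (cTensorIdeal k A B) _ (j + N) h2 t
    have hle : (maximalIdeal A ^ j).map (algebraMap A (CTensor k A B)) ≤
        ((maximalIdeal A ^ j).map (algebraMap A (A ⊗[k] B)) ⊔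
          (maximalIdeal B ^ N).map (algebraMap B (A ⊗[k] B))).map
            (algebraMap (A ⊗[k] B) (CTensor k A B)) := by
      rw [Ideal.map_sup, Ideal.map_map, ← algebraMapA_eq]
      exact le_sup_left
    exact hle h1
  obtain ⟨u, hu, v, hv, huv⟩ := Submodule.mem_sup.mp h3
  have h4 : Algebra.TensorProduct.quotientTensorEquiv (R := k) k B A (maximalIdeal A ^ j) x =
      Ideal.Quotient.mk _ v := by
    rw [← ht, ← huv, map_add, Ideal.Quotient.eq_zero_iff_mem.mpr hu, zero_add]
  have h6 : Ideal.Quotient.mk ((maximalIdeal A ^ j).map (algebraMap A (A ⊗[k] B))) v ∈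
      (maximalIdeal B ^ N).map (algebraMap B ((A ⊗[k] B) ⧸
        (maximalIdeal A ^ j).map (algebraMap A (A ⊗[k] B)))) := by
    have h61 : algebraMap B ((A ⊗[k] B) ⧸ (maximalIdeal A ^ j).map (algebraMap A (A ⊗[k] B))) =
        (Ideal.Quotient.mk _).comp (algebraMap B (A ⊗[k] B)) := rfl
    rw [h61, ← Ideal.map_map]
    exact Ideal.mem_map_of_mem _ hv
  have h7 := Ideal.mem_map_of_mem ((Algebra.TensorProduct.quotientTensorEquiv (R := k) k B A
    (maximalIdeal A ^ j)).symm.toRingEquiv.toRingHom) h6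
  rw [Ideal.map_map] at h7
  have h8 : ((Algebra.TensorProduct.quotientTensorEquiv (R := k) k B A
      (maximalIdeal A ^ j)).symm.toRingEquiv.toRingHom).comp
      (algebraMap B ((A ⊗[k] B) ⧸ (maximalIdeal A ^ j).map (algebraMap A (A ⊗[k] B)))) =
      algebraMap B ((A ⧸ maximalIdeal A ^ j) ⊗[k] B) := by
    refine RingHom.ext fun b => ?_
    exact Algebra.TensorProduct.quotientTensorEquiv_symm_apply_tmul k B A _ 1 b
  rw [h8] at h7
  have h5 : x = (Algebra.TensorProduct.quotientTensorEquiv (R := k) k B A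
      (maximalIdeal A ^ j)).symm (Ideal.Quotient.mk _ v) := by
    rw [← h4, AlgEquiv.symm_apply_apply]
  rw [Ideal.smul_top_eq_map, h5]
  exact h7

theorem Psi_bijective : Function.Bijective (Psi k A B (maximalIdeal A ^ j)) :=
  ⟨Psi_injective k A B j, Psi_surjective k A B j⟩

end Bij

section Final
variable [Module.Finite k (ResidueField A)] [IsAdicComplete (maximalIdeal B) B]

lemma mapA_le_jacobson :
    (maximalIdeal A).map (algebraMap A (CTensor k A B)) ≤ Ideal.jacobson ⊥ :=
  (mapA_le k A B _ le_rfl).trans (JC_le_jacobson k A B)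

theorem flat_B : Module.Flat B (CTensor k A B) := by
  apply FlatQuotPow.flat_of_forall_quotient_pow _ (mapA_le_jacobson k A B)
  intro n
  rw [← Ideal.map_pow, ← RingHom.flat_algebraMap_iff, ← Psi_comp_right]
  exact RingHom.Flat.comp (flat_right k _ B) (RingHom.Flat.of_bijective (Psi_bijective k A B n))

theorem flat_A : Module.Flat A (CTensor k A B) := by
  refine Groth.Agent.Lib.Helper7.flat_of_forall_flat_quotient_pow_of_finite (B := CTensor k A B)
    (maximalIdeal A) (mapA_le_jacobson k A B) (CTensor k A B) ?_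
  intro n _
  haveI : Module.Flat (A ⧸ maximalIdeal A ^ n)
      (CTensor k A B ⧸ (maximalIdeal A ^ n).map (algebraMap A (CTensor k A B))) := by
    rw [← RingHom.flat_algebraMap_iff, ← Psi_comp_left]
    exact RingHom.Flat.comp (RingHom.flat_algebraMap_iff.mpr inferInstance)
      (RingHom.Flat.of_bijective (Psi_bijective k A B n))
  exact Module.Flat.of_linearEquiv
    (Groth.Agent.Lib.Helper7.quotTensorEquivQuotMap (maximalIdeal A ^ n))

theorem nonempty_equiv : Nonempty ((CTensor k A B ⧸
    (maximalIdeal A).map (algebraMap A (CTensor k A B))) ≃+* ((A ⧸ maximalIdeal A) ⊗[k] B)) := by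
  have h := Psi_bijective k A B 1
  rw [pow_one] at h
  exact ⟨(RingEquiv.ofBijective _ h).symm⟩

theorem finite_residue (M : Ideal (CTensor k A B)) [hM : M.IsMaximal] :
    Module.Finite B (CTensor k A B ⧸ M) := by
  have hle : (maximalIdeal A ^ 1).map (algebraMap A (CTensor k A B)) ≤ M := by
    rw [pow_one]
    exact (mapA_le_jacobson k A B).trans (sInf_le ⟨bot_le, hM⟩)
  let g : (A ⧸ maximalIdeal A ^ 1) ⊗[k] B →+* CTensor k A B ⧸ M :=
    (Ideal.Quotient.factor hle).comp (Psi k A B (maximalIdeal A ^ 1))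
  have hg : Function.Surjective g :=
    (Ideal.Quotient.factor_surjective hle).comp (Psi_surjective k A B 1)
  have h1 : (algebraMap B ((A ⧸ maximalIdeal A ^ 1) ⊗[k] B)).Finite :=
    RingHom.finite_algebraMap.mpr (finite_F k A B 1)
  have h2 : (g.comp (algebraMap B ((A ⧸ maximalIdeal A ^ 1) ⊗[k] B))).Finite :=
    (RingHom.Finite.of_surjective g hg).comp h1
  have h3 : g.comp (algebraMap B ((A ⧸ maximalIdeal A ^ 1) ⊗[k] B)) =
      algebraMap B (CTensor k A B ⧸ M) := by
    rw [RingHom.comp_assoc, Psi_comp_right]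
    rfl
  rw [h3] at h2
  exact RingHom.finite_algebraMap.mp h2

end Final

end Main

end Groth.Agent.Lib.Helper27.CplTensorC
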