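import Mathlib

/-!
# Changing generators of a standard presentation

Given a surjection `aeval v : K[ι] → E` with kernel generated by `F : σ → K[ι]` and unit Jacobian
minor (columns `m : σ → ι`), units `u : ι → Kˣ` and further elements `b : κ → E`, we produce the
presentation of `E` on the generators `u i • v i` and `b k`, with relations indexed by `σ ⊕ κ`,
and compute its Jacobian minor.
-/

namespace Groth.Agent.Lib.Helper27.PopA

open MvPolynomial

universe u

section scale

variable {K : Type u} [CommRing K] {ι κ : Type} (u : ι → Kˣ)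

/-- The scaled inclusion `K[ι] → K[ι ⊕ κ]`, `X i ↦ u i⁻¹ X (inl i)`. -/
noncomputable def sg : MvPolynomial ι K →ₐ[K] MvPolynomial (ι ⊕ κ) K :=
  aeval (fun i => C (↑(u i)⁻¹ : K) * X (Sum.inl i))

lemma sg_X (i : ι) : sg (κ := κ) u (X i) = C (↑(u i)⁻¹ : K) * X (Sum.inl i) := by simp [sg]

lemma sg_C (a : K) : sg (κ := κ) u (C a) = C a := by simp [sg]

lemma pderiv_inl_sg (i : ι) (p : MvPolynomial ι K) :
    pderiv (Sum.inl i) (sg (κ := κ) u p) = C (↑(u i)⁻¹ : K) * sg u (pderiv i p) := by
  classical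
  induction p using MvPolynomial.induction_on with
  | C a => simp
  | add p q hp hq => simp [hp, hq, mul_add]
  | mul_X p j hp =>
    rw [map_mul, sg_X, pderiv_mul, hp, pderiv_C_mul, pderiv_mul (f := p), map_add, map_mul,
      map_mul, sg_X]
    by_cases h : j = i
    · subst h
      rw [pderiv_X_self, pderiv_X_self, map_one]
      ring
    · rw [pderiv_X_of_ne (Sum.inl_injective.ne h), pderiv_X_of_ne h, map_zero]
      ring

lemma pderiv_inr_sg (k : κ) (p : MvPolynomial ι K) :
    pderiv (Sum.inr k) (sg (κ := κ) u p) = 0 := by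
  classical
  induction p using MvPolynomial.induction_on with
  | C a => simp
  | add p q hp hq => simp [hp, hq]
  | mul_X p j hp =>
    rw [map_mul, sg_X, pderiv_mul, hp, pderiv_C_mul, pderiv_X_of_ne Sum.inl_ne_inr]
    ring

end scale

section main

variable {K E : Type u} [CommRing K] [CommRing E] [Algebra K E] {ι σ κ : Type}
  [Fintype σ] [DecidableEq σ] [Fintype κ] [DecidableEq κ]
  (v : ι → E) (F : σ → MvPolynomial ι K) (m : σ → ι)
  (u : ι → Kˣ) (b : κ → E) (Q : κ → MvPolynomial ι K)

/-- The new presentation map. -/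
noncomputable def pi2 : MvPolynomial (ι ⊕ κ) K →ₐ[K] E :=
  aeval (Sum.elim (fun i => (u i : K) • v i) b)

/-- The retraction onto `K[ι]`. -/
noncomputable def rho : MvPolynomial (ι ⊕ κ) K →ₐ[K] MvPolynomial ι K :=
  aeval (Sum.elim (fun i => C (u i : K) * X i) Q)

/-- The new relations. -/
noncomputable def rels : σ ⊕ κ → MvPolynomial (ι ⊕ κ) K :=
  Sum.elim (fun j => sg u (F j)) (fun k => X (Sum.inr k) - sg u (Q k))

variable (hQ : ∀ k, aeval v (Q k) = b k)

include hQ in
lemma pi2_eq : pi2 v u b = (aeval v : MvPolynomial ι K →ₐ[K] E).comp (rho u Q) := by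
  apply MvPolynomial.algHom_ext
  rintro (i | k)
  · simp [pi2, rho, Algebra.smul_def]
  · simp [pi2, rho, hQ]

lemma rho_sg (p : MvPolynomial ι K) : rho u Q (sg (κ := κ) u p) = p := by
  have : (rho u Q).comp (sg (κ := κ) u) = AlgHom.id K _ := by
    apply MvPolynomial.algHom_ext
    intro i
    simp only [AlgHom.comp_apply, sg_X, map_mul, AlgHom.id_apply]
    simp only [rho, aeval_C, aeval_X, Sum.elim_inl, algebraMap_eq]
    rw [← mul_assoc, ← C_mul, Units.inv_mul, C_1, one_mul]
  exact DFunLike.congr_fun this p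

include hQ in
lemma pi2_sg (p : MvPolynomial ι K) : pi2 v u b (sg (κ := κ) u p) = aeval v p := by
  rw [pi2_eq v u b Q hQ, AlgHom.comp_apply, rho_sg]

lemma sub_sg_rho_mem (p : MvPolynomial (ι ⊕ κ) K) :
    p - sg u (rho u Q p) ∈
      Ideal.span (Set.range fun k : κ => (X (Sum.inr k) - sg u (Q k) : MvPolynomial (ι ⊕ κ) K)) := by
  induction p using MvPolynomial.induction_on with
  | C a => simp [rho, sg_C]
  | add p q hp hq =>
    have : p + q - sg u (rho u Q (p + q)) = (p - sg u (rho u Q p)) + (q - sg u (rho u Q q)) := by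
      rw [map_add, map_add]; ring
    rw [this]
    exact add_mem hp hq
  | mul_X p w hp =>
    have : p * X w - sg u (rho u Q (p * X w)) =
        (p - sg u (rho u Q p)) * X w + sg u (rho u Q p) * (X w - sg u (rho u Q (X w))) := by
      rw [map_mul, map_mul]; ring
    rw [this]
    refine add_mem (Ideal.mul_mem_right _ _ hp) (Ideal.mul_mem_left _ _ ?_)
    rcases w with i | k
    · have : sg (κ := κ) u (rho u Q (X (Sum.inl i))) = X (Sum.inl i) := by
        simp only [rho, aeval_X, Sum.elim_inl, map_mul, sg_C, sg_X]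
        rw [← mul_assoc, ← C_mul, Units.mul_inv, C_1, one_mul]
      rw [this, sub_self]
      exact zero_mem _
    · have : sg (κ := κ) u (rho u Q (X (Sum.inr k))) = sg u (Q k) := by
        simp [rho]
      rw [this]
      exact Ideal.subset_span ⟨k, rfl⟩

variable (hsurj : Function.Surjective (aeval v : MvPolynomial ι K →ₐ[K] E))
  (hker : RingHom.ker (aeval v : MvPolynomial ι K →ₐ[K] E) = Ideal.span (Set.range F))

include hQ hsurj in
lemma pi2_surjective : Function.Surjective (pi2 v u b) := by
  intro x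
  obtain ⟨p, rfl⟩ := hsurj x
  exact ⟨sg u p, pi2_sg v u b Q hQ p⟩

include hQ hker in
lemma ker_pi2 : RingHom.ker (pi2 v u b) = Ideal.span (Set.range (rels F u Q)) := by
  apply le_antisymm
  · intro p hp
    rw [RingHom.mem_ker, pi2_eq v u b Q hQ, AlgHom.comp_apply] at hp
    have h1 : rho u Q p ∈ Ideal.span (Set.range F) := by
      rw [← hker, RingHom.mem_ker]; exact hp
    have h2 : sg (κ := κ) u (rho u Q p) ∈ Ideal.span (Set.range (rels F u Q)) := by
      have h3 := Ideal.mem_map_of_mem ((sg (κ := κ) u : MvPolynomial ι K →ₐ[K] _) :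
        MvPolynomial ι K →+* MvPolynomial (ι ⊕ κ) K) h1
      rw [Ideal.map_span] at h3
      refine Ideal.span_mono ?_ h3
      rintro _ ⟨_, ⟨j, rfl⟩, rfl⟩
      exact ⟨Sum.inl j, rfl⟩
    have h4 : p - sg u (rho u Q p) ∈ Ideal.span (Set.range (rels F u Q)) := by
      refine Ideal.span_mono ?_ (sub_sg_rho_mem u Q p)
      rintro _ ⟨k, rfl⟩
      exact ⟨Sum.inr k, rfl⟩
    have := add_mem h2 h4
    rwa [add_sub_cancel] at this
  · rw [Ideal.span_le]
    rintro _ ⟨j | k, rfl⟩
    · show pi2 v u b (sg u (F j)) = 0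
      rw [pi2_sg v u b Q hQ]
      have : F j ∈ RingHom.ker (aeval v : MvPolynomial ι K →ₐ[K] E) := by
        rw [hker]; exact Ideal.subset_span ⟨j, rfl⟩
      exact this
    · show pi2 v u b (X (Sum.inr k) - sg u (Q k)) = 0
      rw [map_sub, pi2_sg v u b Q hQ, hQ]
      simp [pi2]

/-- The Jacobian matrix of the new relations with respect to the new columns. -/
noncomputable def jac : Matrix (σ ⊕ κ) (σ ⊕ κ) (MvPolynomial (ι ⊕ κ) K) :=
  Matrix.of fun j k => pderiv (Sum.map m id k) (rels F u Q j)

lemma det_jac :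
    (jac F m u Q).det = (∏ j : σ, C (↑(u (m j))⁻¹ : K)) *
      sg u (Matrix.det (Matrix.of fun j j' : σ => pderiv (m j') (F j))) := by
  have h1 : jac F m u Q = Matrix.fromBlocks
      (Matrix.of fun j j' : σ => C (↑(u (m j'))⁻¹ : K) * sg (κ := κ) u (pderiv (m j') (F j))) 0
      (Matrix.of fun (k : κ) (j' : σ) =>
        pderiv (Sum.inl (m j')) (X (Sum.inr k) - sg (κ := κ) u (Q k))) 1 := by
    ext (j | k) (j' | k')
    · simp [jac, rels, pderiv_inl_sg]
    · simp [jac, rels, pderiv_inr_sg]
    · simp [jac, rels]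
    · simp only [jac, rels, Matrix.of_apply, Sum.map_inr, id_eq, Sum.elim_inr, map_sub,
        pderiv_inr_sg, sub_zero, Matrix.fromBlocks_apply₂₂, Matrix.one_apply]
      by_cases h : k = k'
      · subst h; simp
      · rw [if_neg h, pderiv_X_of_ne]
        exact fun h' => h (Sum.inr_injective h')
  rw [h1, Matrix.det_fromBlocks_zero₁₂, Matrix.det_one, mul_one]
  have h2 := Matrix.det_mul_row (fun j' : σ => C (↑(u (m j'))⁻¹ : K))
    (Matrix.of fun j j' : σ => sg (κ := κ) u (pderiv (m j') (F j)))
  simp only [Matrix.of_apply] at h2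
  rw [h2]
  congr 1
  rw [AlgHom.map_det]
  rfl

variable (hunit : IsUnit (aeval v (Matrix.det (Matrix.of fun j j' : σ => pderiv (m j') (F j)))))

include hQ hunit in
lemma isUnit_pi2_det_jac : IsUnit (pi2 v u b (jac F m u Q).det) := by
  rw [det_jac, map_mul, pi2_sg v u b Q hQ, map_prod]
  refine IsUnit.mul ?_ hunit
  rw [IsUnit.prod_univ_iff]
  intro j
  have : pi2 v u b (C (↑(u (m j))⁻¹ : K)) = algebraMap K E (↑(u (m j))⁻¹ : K) := by
    simp [pi2]
  rw [this]
  exact (Units.isUnit _).map _

end main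

/-- Extract elementary data from Mathlib's standard smoothness. -/
theorem exists_std_data {K E : Type u} [CommRing K] [CommRing E] [Algebra K E]
    [Algebra.IsStandardSmooth K E] :
    ∃ (ι σ : Type) (_ : Fintype σ) (_ : DecidableEq σ) (_ : Fintype ι) (v : ι → E)
      (F : σ → MvPolynomial ι K) (m : σ → ι), Function.Injective m ∧
      Function.Surjective (aeval v : MvPolynomial ι K →ₐ[K] E) ∧
      RingHom.ker (aeval v : MvPolynomial ι K →ₐ[K] E) = Ideal.span (Set.range F) ∧
      IsUnit (aeval v (Matrix.det (Matrix.of fun j j' : σ => pderiv (m j') (F j)))) := by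
  classical
  obtain ⟨ι, σ, hσ, hι, ⟨P⟩⟩ := Algebra.IsStandardSmooth.out (R := K) (S := E)
  haveI := Fintype.ofFinite σ
  haveI := Fintype.ofFinite ι
  refine ⟨ι, σ, inferInstance, inferInstance, inferInstance, P.val, P.relation, P.map, P.map_inj,
    ?_, ?_, ?_⟩
  · intro x
    obtain ⟨p, hp⟩ := P.algebraMap_surjective x
    exact ⟨p, by rw [← hp, P.algebraMap_apply]⟩
  · rw [P.span_range_relation_eq_ker]
    ext p
    rw [RingHom.mem_ker]
    show _ ↔ algebraMap P.Ring E p = 0
    rw [P.algebraMap_apply]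
  · have h := P.jacobian_isUnit
    rw [Algebra.PreSubmersivePresentation.jacobian_eq_jacobiMatrix_det] at h
    have h2 : P.jacobiMatrix.det =
        Matrix.det (Matrix.of fun j j' : σ => pderiv (P.map j') (P.relation j)) := by
      rw [← Matrix.det_transpose]
      congr 1
      ext j j'
      simp [Algebra.PreSubmersivePresentation.jacobiMatrix_apply]
    rw [h2, P.algebraMap_apply] at h
    exact h

end Groth.Agent.Lib.Helper27.PopA
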