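import Mathlib

/-!
# Clearing denominators in polynomial rings over a localization
-/

namespace Groth.Agent.Lib.Helper27.PopB

open MvPolynomial

universe u

variable {R Rₛ : Type u} [CommRing R] [CommRing Rₛ] [Algebra R Rₛ] (S : Submonoid R)
  [IsLocalization S Rₛ] {V : Type}

attribute [local instance] MvPolynomial.algebraMvPolynomial

lemma exists_lift_poly (p : MvPolynomial V Rₛ) :
    ∃ s ∈ S, ∃ p' : MvPolynomial V R,
      map (algebraMap R Rₛ) p' = C (algebraMap R Rₛ s) * p := by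
  obtain ⟨⟨p', ⟨_, s, hs, rfl⟩⟩, h⟩ := IsLocalization.surj (S.map (C (σ := V))) p
  refine ⟨s, hs, p', ?_⟩
  simp only [MvPolynomial.algebraMap_def, map_C] at h
  rw [← h, mul_comm]

lemma exists_mul_mem (J : Ideal (MvPolynomial V R)) (p : MvPolynomial V R)
    (h : map (algebraMap R Rₛ) p ∈ J.map (map (algebraMap R Rₛ))) :
    ∃ s ∈ S, C s * p ∈ J := by
  have h' : algebraMap (MvPolynomial V R) (MvPolynomial V Rₛ) p ∈
      J.map (algebraMap (MvPolynomial V R) (MvPolynomial V Rₛ)) := h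
  rw [IsLocalization.mem_map_algebraMap_iff (S.map (C (σ := V)))] at h'
  obtain ⟨⟨⟨i, hi⟩, ⟨_, s, hs, rfl⟩⟩, h2⟩ := h'
  simp only at h2
  rw [← map_mul] at h2
  obtain ⟨⟨_, s', hs', rfl⟩, h3⟩ := (IsLocalization.eq_iff_exists (S.map (C (σ := V))) _).mp h2
  simp only at h3
  refine ⟨s' * s, mul_mem hs' hs, ?_⟩
  have : C (s' * s) * p = C s' * i := by
    rw [← h3, C_mul]; ring
  rw [this]
  exact J.mul_mem_left _ hi

end Groth.Agent.Lib.Helper27.PopB
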