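import Mathlib
import Groth.Prelude.Def_Smoothing
import Groth.Agent.Lib.Helper19.ElemStdPerm

/-!
# Elementary standard elements from presentations indexed by arbitrary finite types
-/

namespace Groth.Agent.Lib.Helper27.PopC

open MvPolynomial Smoothing

universe u

variable {R B : Type u} [CommRing R] [CommRing B] [Algebra R B]

theorem isElementaryStandard_of_fintype {V T W : Type} [Fintype V] [Fintype T] [Fintype W]
    [DecidableEq W]
    (f : T → MvPolynomial V R) (φ : MvPolynomial V R →ₐ[R] B) (hφ : Function.Surjective φ)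
    (hker : RingHom.ker φ.toRingHom = Ideal.span (Set.range f))
    (rows : W ↪ T) (cols : W ↪ V) (a a' : B)
    (ha : a = a' * φ (Matrix.det (Matrix.of fun j k : W => pderiv (cols k) (f (rows j)))))
    (htail : ∀ a₁ : MvPolynomial V R, φ a₁ = a → ∀ ℓ : T,
      a₁ * f ℓ ∈ Ideal.span (Set.range (f ∘ rows)) ⊔ Ideal.span (Set.range f) ^ 2) :
    IsElementaryStandard R B a := by
  classical
  let eV : V ≃ Fin (Fintype.card V) := Fintype.equivFin V
  let eT : T ≃ Fin (Fintype.card T) := Fintype.equivFin T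
  let eW : W ≃ Fin (Fintype.card W) := Fintype.equivFin W
  let E : MvPolynomial V R ≃ₐ[R] MvPolynomial (Fin (Fintype.card V)) R := renameEquiv R eV
  have hE : ∀ p, E p = rename eV p := fun p => rfl
  let Er : MvPolynomial V R →+* MvPolynomial (Fin (Fintype.card V)) R := E.toAlgHom.toRingHom
  have hEr : ∀ p, Er p = E p := fun p => rfl
  let f' : Fin (Fintype.card T) → MvPolynomial (Fin (Fintype.card V)) R :=
    fun j => E (f (eT.symm j))
  let φ' : MvPolynomial (Fin (Fintype.card V)) R →ₐ[R] B := φ.comp E.symm.toAlgHom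
  have hrange : Set.range f' = E '' Set.range f := by
    ext x; constructor
    · rintro ⟨j, rfl⟩; exact ⟨_, ⟨eT.symm j, rfl⟩, rfl⟩
    · rintro ⟨_, ⟨ℓ, rfl⟩, rfl⟩; exact ⟨eT ℓ, by simp [f']⟩
  have hspan : Ideal.span (Set.range f') =
      (Ideal.span (Set.range f)).map Er := by
    rw [Ideal.map_span, hrange]; rfl
  have hker' : RingHom.ker φ'.toRingHom = Ideal.span (Set.range f') := by
    rw [hspan, ← hker]
    ext x
    constructor
    · intro hx
      have h1 : E.symm x ∈ RingHom.ker φ.toRingHom := hx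
      have h2 := Ideal.mem_map_of_mem Er h1
      rw [hEr, AlgEquiv.apply_symm_apply] at h2
      exact h2
    · intro hx
      rw [Ideal.mem_map_iff_of_surjective Er E.surjective] at hx
      obtain ⟨y, hy, rfl⟩ := hx
      show φ (E.symm (E y)) = 0
      rw [AlgEquiv.symm_apply_apply]
      exact hy
  refine Groth.Agent.Lib.Helper19.ElemStdPerm.isElementaryStandard_of_rows_cols f' φ'
    (hφ.comp E.symm.surjective) hker'
    (eW.symm.toEmbedding.trans (rows.trans eT.toEmbedding))
    (eW.symm.toEmbedding.trans (cols.trans eV.toEmbedding)) a a' ?_ ?_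
  · rw [ha]; congr 1
    show φ _ = φ (E.symm (jacobianMinor f' _ _))
    congr 1
    rw [eq_comm, AlgEquiv.symm_apply_eq]
    unfold jacobianMinor
    rw [AlgEquiv.map_det, ← Matrix.det_reindex_self eW]
    congr 1
    ext j k
    simp only [Matrix.of_apply, Matrix.reindex_apply, Matrix.submatrix_apply,
      AlgEquiv.mapMatrix_apply, Matrix.map_apply, Function.Embedding.trans_apply,
      Equiv.coe_toEmbedding, f', Equiv.symm_apply_apply, hE]
    rw [pderiv_rename eV.injective]
  · intro a₁ ha₁ ℓ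
    have h1 := htail (E.symm a₁) ha₁ (eT.symm ℓ)
    have h2 := Ideal.mem_map_of_mem Er h1
    rw [Ideal.map_sup, Ideal.map_pow, Ideal.map_span, Ideal.map_span] at h2
    have h3 : Er (E.symm a₁ * f (eT.symm ℓ)) = a₁ * f' ℓ := by
      rw [hEr]; simp [f']
    rw [h3] at h2
    obtain ⟨y, hy, z, hz, hyz⟩ := Submodule.mem_sup.mp h2
    rw [← hyz]
    refine add_mem (Ideal.mem_sup_left (Ideal.span_mono ?_ hy))
      (Ideal.mem_sup_right (Ideal.pow_right_mono (Ideal.span_mono ?_) 2 hz))
    · rintro _ ⟨_, ⟨w, rfl⟩, rfl⟩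
      refine ⟨eW w, ?_⟩
      simp [f', hEr]
    · rintro _ ⟨_, ⟨ℓ', rfl⟩, rfl⟩
      exact ⟨eT ℓ', by simp [f', hEr]⟩

end Groth.Agent.Lib.Helper27.PopC
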