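import Mathlib
import Groth.Prelude.Def_Smoothing
import Groth.Agent.Lib.Helper27.PopA
import Groth.Agent.Lib.Helper27.PopB
import Groth.Agent.Lib.Helper27.PopC

/-!
# Delocalizing the base: standard smooth case
-/

namespace Groth.Agent.Lib.Helper27.PopD

open MvPolynomial TensorProduct Smoothing

universe u

set_option maxHeartbeats 1600000 in
theorem main {R A Λ Rₛ E : Type u} [CommRing R] [CommRing A] [Algebra R A]
    [Algebra.FinitePresentation R A] [CommRing Λ] [Algebra R Λ] (φ : A →ₐ[R] Λ) (S : Submonoid R)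
    [CommRing Rₛ] [Algebra R Rₛ] [IsLocalization S Rₛ] [CommRing E] [Algebra Rₛ E]
    [Algebra.IsStandardSmooth Rₛ E] (g : Rₛ ⊗[R] A →ₐ[Rₛ] E) (h : E →ₐ[Rₛ] Rₛ ⊗[R] Λ)
    (hgh : ∀ a : A, h (g (1 ⊗ₜ a)) = 1 ⊗ₜ φ a) :
    ∃ (B : Type u) (_ : CommRing B) (_ : Algebra R B) (α : A →ₐ[R] B) (β : B →ₐ[R] Λ),
      β.comp α = φ ∧ ∃ s ∈ S, IsElementaryStandard R B (algebraMap R B s) := by
  classical
  -- presentation of `A`
  obtain ⟨n, pA, hpA, hfg⟩ := Algebra.FinitePresentation.out (R := R) (A := A)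
  obtain ⟨t, gl, hgl⟩ := Submodule.fg_iff_exists_fin_generating_family.mp hfg
  have hglker : ∀ l, pA (gl l) = 0 := by
    intro l
    have : gl l ∈ RingHom.ker pA.toRingHom := by
      rw [← hgl]; exact Submodule.subset_span ⟨l, rfl⟩
    exact this
  -- standard data for `E`
  obtain ⟨ι, σ, _, _, _, v, F, m, hm, hvsurj, hvker, hvunit⟩ :=
    PopA.exists_std_data (K := Rₛ) (E := E)
  have hloc : IsLocalizedModule S (TensorProduct.mk R Rₛ Λ 1) :=
    (isLocalizedModule_iff_isBaseChange S Rₛ _).mpr (TensorProduct.isBaseChange R Λ Rₛ)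
  have hex : ∀ i : ι, ∃ (e : S) (l : Λ), algebraMap R Rₛ e • h (v i) = 1 ⊗ₜ l := by
    intro i
    obtain ⟨⟨l, e⟩, he⟩ := IsLocalizedModule.surj S (TensorProduct.mk R Rₛ Λ 1) (h (v i))
    refine ⟨e, l, ?_⟩
    rw [algebraMap_smul]
    exact he
  choose e lam hlam using hex
  let u : ι → Rₛˣ := fun i => (IsLocalization.map_units Rₛ (e i)).unit
  have hu : ∀ i, ((u i : Rₛˣ) : Rₛ) = algebraMap R Rₛ (e i) := fun i => rfl
  let b : Fin n → E := fun k => g (1 ⊗ₜ pA (X k))
  have hQex : ∀ k, ∃ q : MvPolynomial ι Rₛ, aeval v q = b k := fun k => hvsurj (b k)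
  choose Q hQ using hQex
  have hπsurj : Function.Surjective (PopA.pi2 v u b) := PopA.pi2_surjective v u b Q hQ hvsurj
  have hπker : RingHom.ker (PopA.pi2 v u b) = Ideal.span (Set.range (PopA.rels F u Q)) :=
    PopA.ker_pi2 v F u b Q hQ hvker
  have hπunit : IsUnit (PopA.pi2 v u b (PopA.jac F m u Q).det) :=
    PopA.isUnit_pi2_det_jac v F m u b Q hQ hvunit
  have hπX1 : ∀ i, PopA.pi2 v u b (X (Sum.inl i)) = (u i : Rₛ) • v i := by
    intro i; simp [PopA.pi2]
  have hπX2 : ∀ k, PopA.pi2 v u b (X (Sum.inr k)) = b k := by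
    intro k; simp [PopA.pi2]
  have hπC : ∀ c : Rₛ, PopA.pi2 v u b (C c) = algebraMap Rₛ E c := by
    intro c; simp [PopA.pi2]
  generalize hπ₂ : PopA.pi2 v u b = π₂ at hπsurj hπker hπunit hπX1 hπX2 hπC
  generalize hL : PopA.rels F u Q = L at hπker
  -- lift the relations to `R`
  have hLex : ∀ w : σ ⊕ Fin n, ∃ (d : S) (p : MvPolynomial (ι ⊕ Fin n) R),
      map (algebraMap R Rₛ) p = C (algebraMap R Rₛ d) * L w := by
    intro w
    obtain ⟨s, hs, p, hp⟩ := PopB.exists_lift_poly S (L w)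
    exact ⟨⟨s, hs⟩, p, hp⟩
  choose d Lt hLt using hLex
  -- evaluation in `Λ`
  let evΛ : MvPolynomial (ι ⊕ Fin n) R →ₐ[R] Λ := aeval (Sum.elim lam (fun k => φ (pA (X k))))
  have hev : ∀ p : MvPolynomial (ι ⊕ Fin n) R,
      (1 : Rₛ) ⊗ₜ[R] evΛ p = h (π₂ (map (algebraMap R Rₛ) p)) := by
    have hcomp : ((Algebra.TensorProduct.includeRight : Λ →ₐ[R] Rₛ ⊗[R] Λ).toRingHom).comp
        evΛ.toRingHom =
        (h.toRingHom.comp π₂.toRingHom).comp (map (algebraMap R Rₛ)) := by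
      apply MvPolynomial.ringHom_ext
      · intro r
        show Algebra.TensorProduct.includeRight (evΛ (C r)) = h (π₂ (map (algebraMap R Rₛ) (C r)))
        rw [map_C, hπC, AlgHom.commutes, ← MvPolynomial.algebraMap_eq, AlgHom.commutes,
          AlgHom.commutes, ← IsScalarTower.algebraMap_apply]
      · rintro (i | k)
        · show Algebra.TensorProduct.includeRight (evΛ (X (Sum.inl i))) =
            h (π₂ (map (algebraMap R Rₛ) (X (Sum.inl i))))
          rw [map_X, hπX1, map_smul, hu, hlam]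
          simp [evΛ]
        · show Algebra.TensorProduct.includeRight (evΛ (X (Sum.inr k))) =
            h (π₂ (map (algebraMap R Rₛ) (X (Sum.inr k))))
          rw [map_X, hπX2]
          show _ = h (g (1 ⊗ₜ pA (X k)))
          rw [hgh]
          simp [evΛ]
    intro p
    exact DFunLike.congr_fun hcomp p
  have hLtker : ∀ w, map (algebraMap R Rₛ) (Lt w) ∈ RingHom.ker π₂ := by
    intro w
    rw [hLt, hπker]
    exact Ideal.mul_mem_left _ _ (Ideal.subset_span ⟨w, rfl⟩)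
  have htex : ∀ w, ∃ tt : S, (tt : R) • evΛ (Lt w) = 0 := by
    intro w
    have h0 : TensorProduct.mk R Rₛ Λ 1 (evΛ (Lt w)) = TensorProduct.mk R Rₛ Λ 1 0 := by
      rw [map_zero]
      show (1 : Rₛ) ⊗ₜ[R] evΛ (Lt w) = 0
      rw [hev, (RingHom.mem_ker).mp (hLtker w), map_zero]
    obtain ⟨c, hc⟩ := IsLocalizedModule.exists_of_eq (S := S) h0
    exact ⟨c, by rw [← Submonoid.smul_def]; simpa using hc⟩
  choose tt htt using htex
  let LR : σ ⊕ Fin n → MvPolynomial (ι ⊕ Fin n) R := fun w => C (tt w : R) * Lt w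
  let rel : (σ ⊕ Fin n) ⊕ Fin t → MvPolynomial (ι ⊕ Fin n) R :=
    Sum.elim LR (fun l => rename Sum.inr (gl l))
  let I : Ideal (MvPolynomial (ι ⊕ Fin n) R) := Ideal.span (Set.range rel)
  have hLRI : Ideal.span (Set.range LR) ≤ I :=
    Ideal.span_mono (by rintro _ ⟨w, rfl⟩; exact ⟨Sum.inl w, rfl⟩)
  -- the map `α`
  have hαwd : RingHom.ker pA.toRingHom ≤
      RingHom.ker ((Ideal.Quotient.mkₐ R I).comp
        (rename Sum.inr : MvPolynomial (Fin n) R →ₐ[R] MvPolynomial (ι ⊕ Fin n) R)).toRingHom := by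
    intro p hp
    rw [← hgl] at hp
    have h1 := Ideal.mem_map_of_mem
      ((rename Sum.inr : MvPolynomial (Fin n) R →ₐ[R] MvPolynomial (ι ⊕ Fin n) R).toRingHom) hp
    rw [Ideal.map_span] at h1
    have h2 : (rename Sum.inr p : MvPolynomial (ι ⊕ Fin n) R) ∈ I :=
      Ideal.span_mono (by rintro _ ⟨_, ⟨l, rfl⟩, rfl⟩; exact ⟨Sum.inr l, rfl⟩) h1
    exact Ideal.Quotient.eq_zero_iff_mem.mpr h2
  let α : A →ₐ[R] (MvPolynomial (ι ⊕ Fin n) R ⧸ I) :=
    AlgHom.liftOfSurjective pA hpA _ hαwd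
  have hα : ∀ p, α (pA p) = Ideal.Quotient.mk I (rename Sum.inr p) := fun p =>
    AlgHom.liftOfSurjective_apply pA hpA _ hαwd p
  -- the map `β`
  have hevren : ∀ p : MvPolynomial (Fin n) R, evΛ (rename Sum.inr p) = φ (pA p) := by
    intro p
    have : (evΛ.comp (rename Sum.inr : MvPolynomial (Fin n) R →ₐ[R] _)) = φ.comp pA := by
      apply MvPolynomial.algHom_ext
      intro k
      simp [evΛ]
    exact DFunLike.congr_fun this p
  have hβwd : ∀ p ∈ I, evΛ p = 0 := by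
    intro p hp
    have hle : I ≤ RingHom.ker evΛ.toRingHom := by
      rw [Ideal.span_le]
      rintro _ ⟨w | l, rfl⟩
      · show evΛ (C (tt w : R) * Lt w) = 0
        rw [map_mul, ← MvPolynomial.algebraMap_eq, AlgHom.commutes, ← Algebra.smul_def]
        exact htt w
      · show evΛ (rename Sum.inr (gl l)) = 0
        rw [hevren, hglker, map_zero]
    exact hle hp
  let β : (MvPolynomial (ι ⊕ Fin n) R ⧸ I) →ₐ[R] Λ := Ideal.Quotient.liftₐ I evΛ hβwd
  have hβα : β.comp α = φ := by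
    ext a
    obtain ⟨p, rfl⟩ := hpA a
    rw [AlgHom.comp_apply, hα]
    show evΛ (rename Sum.inr p) = _
    exact hevren p
  -- Jacobian
  let cols : σ ⊕ Fin n ↪ ι ⊕ Fin n :=
    ⟨Sum.map m id, Sum.map_injective.mpr ⟨hm, Function.injective_id⟩⟩
  let rows : σ ⊕ Fin n ↪ (σ ⊕ Fin n) ⊕ Fin t := ⟨Sum.inl, Sum.inl_injective⟩
  let MR : Matrix (σ ⊕ Fin n) (σ ⊕ Fin n) (MvPolynomial (ι ⊕ Fin n) R) :=
    Matrix.of fun j k => pderiv (cols k) (rel (rows j))
  let cst : σ ⊕ Fin n → Rₛ := fun w => algebraMap R Rₛ ((tt w : R) * (d w : R))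
  have hcst : ∀ w, IsUnit (cst w) := fun w =>
    IsLocalization.map_units Rₛ (⟨_, mul_mem (tt w).2 (d w).2⟩ : S)
  have hmapLR : ∀ w, map (algebraMap R Rₛ) (LR w) = C (cst w) * L w := by
    intro w
    simp only [LR, cst, map_mul, map_C, hLt]
    ring
  have hmapΔ : map (algebraMap R Rₛ) MR.det = (∏ w, C (cst w)) * (PopA.jac F m u Q).det := by
    rw [RingHom.map_det, ← Matrix.det_mul_column (fun w => C (cst w)) (PopA.jac F m u Q)]
    congr 1
    ext j k
    simp only [RingHom.mapMatrix_apply, Matrix.map_apply, Matrix.of_apply, MR, rel, rows,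
      Sum.elim_inl, Function.Embedding.coeFn_mk, PopA.jac, cols]
    rw [← pderiv_map, hmapLR, pderiv_C_mul, hL]
  have hkerle : ∀ (J' : Ideal (MvPolynomial (ι ⊕ Fin n) R)), Ideal.span (Set.range LR) ≤ J' →
      RingHom.ker π₂ ≤ J'.map (map (algebraMap R Rₛ)) := by
    intro J' hJ'
    rw [hπker, Ideal.span_le]
    rintro _ ⟨w, rfl⟩
    have h1 : map (algebraMap R Rₛ) (LR w) ∈ J'.map (map (algebraMap R Rₛ)) :=
      Ideal.mem_map_of_mem _ (hJ' (Ideal.subset_span ⟨w, rfl⟩))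
    rw [hmapLR] at h1
    obtain ⟨c', hc'⟩ := (hcst w).exists_left_inv
    have : L w = C c' * (C (cst w) * L w) := by
      rw [← mul_assoc, ← C_mul, hc', C_1, one_mul]
    rw [this]
    exact Ideal.mul_mem_left _ _ h1
  have h1J : (1 : MvPolynomial (ι ⊕ Fin n) Rₛ) ∈
      (Ideal.span {MR.det} ⊔ Ideal.span (Set.range LR)).map (map (algebraMap R Rₛ)) := by
    have hΔmem : map (algebraMap R Rₛ) MR.det ∈
        (Ideal.span {MR.det} ⊔ Ideal.span (Set.range LR)).map (map (algebraMap R Rₛ)) :=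
      Ideal.mem_map_of_mem _ (Ideal.mem_sup_left (Ideal.subset_span rfl))
    have hunit2 : IsUnit (π₂ (map (algebraMap R Rₛ) MR.det)) := by
      rw [hmapΔ, map_mul, map_prod]
      refine IsUnit.mul ?_ hπunit
      rw [IsUnit.prod_univ_iff]
      intro w
      rw [hπC]
      exact (hcst w).map _
    obtain ⟨x, hx⟩ := hunit2.exists_right_inv
    obtain ⟨wx, rfl⟩ := hπsurj x
    have hk : map (algebraMap R Rₛ) MR.det * wx - 1 ∈ RingHom.ker π₂ := by
      rw [RingHom.mem_ker, map_sub, map_mul, hx, map_one, sub_self]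
    have h2 := hkerle (Ideal.span {MR.det} ⊔ Ideal.span (Set.range LR)) le_sup_right hk
    have h3 := sub_mem (Ideal.mul_mem_right wx _ hΔmem) h2
    simpa using h3
  obtain ⟨s₀, hs₀, hs₀J⟩ := PopB.exists_mul_mem S _ 1 (by simpa using h1J)
  rw [mul_one] at hs₀J
  have hglex : ∀ l : Fin t, ∃ sl : S,
      C (sl : R) * rename Sum.inr (gl l) ∈ Ideal.span (Set.range LR) := by
    intro l
    have hk : map (algebraMap R Rₛ) (rename Sum.inr (gl l)) ∈ RingHom.ker π₂ := by
      have hcomp : (π₂.toRingHom.comp (map (algebraMap R Rₛ))).comp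
          ((rename Sum.inr : MvPolynomial (Fin n) R →ₐ[R] MvPolynomial (ι ⊕ Fin n) R).toRingHom) =
          (g.toRingHom.comp
            ((Algebra.TensorProduct.includeRight : A →ₐ[R] Rₛ ⊗[R] A).toRingHom)).comp
            pA.toRingHom := by
        apply MvPolynomial.ringHom_ext
        · intro r
          show π₂ (map (algebraMap R Rₛ) (rename Sum.inr (C r))) =
            g (Algebra.TensorProduct.includeRight (pA (C r)))
          rw [rename_C, map_C, hπC, ← MvPolynomial.algebraMap_eq, AlgHom.commutes,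
            AlgHom.commutes, IsScalarTower.algebraMap_apply R Rₛ (Rₛ ⊗[R] A), AlgHom.commutes]
        · intro k
          show π₂ (map (algebraMap R Rₛ) (rename Sum.inr (X k))) =
            g (Algebra.TensorProduct.includeRight (pA (X k)))
          rw [rename_X, map_X, hπX2]
          rfl
      have h1 := DFunLike.congr_fun hcomp (gl l)
      rw [RingHom.mem_ker]
      refine Eq.trans h1 ?_
      show g (Algebra.TensorProduct.includeRight (pA (gl l))) = 0
      rw [hglker, map_zero, map_zero]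
    obtain ⟨s, hs, hmem⟩ := PopB.exists_mul_mem S _ _ (hkerle _ le_rfl hk)
    exact ⟨⟨s, hs⟩, hmem⟩
  choose sl hsl using hglex
  have hsS : s₀ * ∏ l, (sl l : R) ∈ S := mul_mem hs₀ (prod_mem fun l _ => (sl l).2)
  refine ⟨MvPolynomial (ι ⊕ Fin n) R ⧸ I, inferInstance, inferInstance, α, β, hβα,
    s₀ * ∏ l, (sl l : R), hsS, ?_⟩
  obtain ⟨x, hx, y, hy, hxy⟩ := Submodule.mem_sup.mp hs₀J
  obtain ⟨a0, rfl⟩ := Ideal.mem_span_singleton'.mp hx
  have halg : algebraMap R (MvPolynomial (ι ⊕ Fin n) R ⧸ I) (s₀ * ∏ l, (sl l : R)) =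
      Ideal.Quotient.mk I (C (s₀ * ∏ l, (sl l : R))) := rfl
  refine PopC.isElementaryStandard_of_fintype rel (Ideal.Quotient.mkₐ R I)
    (Ideal.Quotient.mkₐ_surjective R I) ?_ rows cols _
    (Ideal.Quotient.mk I (a0 * C (∏ l, (sl l : R)))) ?_ ?_
  · ext p
    rw [RingHom.mem_ker]
    exact Ideal.Quotient.eq_zero_iff_mem
  · rw [halg]
    show Ideal.Quotient.mk I _ = Ideal.Quotient.mk I _ * Ideal.Quotient.mk I MR.det
    rw [← map_mul, Ideal.Quotient.eq]
    have : C (s₀ * ∏ l, (sl l : R)) - a0 * C (∏ l, (sl l : R)) * MR.det =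
        y * C (∏ l, (sl l : R)) := by
      rw [C_mul, ← hxy]; ring
    rw [this]
    exact Ideal.mul_mem_right _ _ (hLRI hy)
  · intro a₁ ha₁ ℓ
    rw [halg] at ha₁
    have hdiff : a₁ - C (s₀ * ∏ l, (sl l : R)) ∈ I := Ideal.Quotient.eq.mp ha₁
    have hrelI : rel ℓ ∈ I := Ideal.subset_span ⟨ℓ, rfl⟩
    have hsplit : a₁ * rel ℓ = (a₁ - C (s₀ * ∏ l, (sl l : R))) * rel ℓ +
        C (s₀ * ∏ l, (sl l : R)) * rel ℓ := by ring
    rw [hsplit]
    refine add_mem (Ideal.mem_sup_right (by rw [pow_two]; exact Ideal.mul_mem_mul hdiff hrelI))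
      (Ideal.mem_sup_left ?_)
    have hrange : Ideal.span (Set.range (rel ∘ rows)) = Ideal.span (Set.range LR) := rfl
    rw [hrange]
    rcases ℓ with w | l
    · exact Ideal.mul_mem_left _ _ (Ideal.subset_span ⟨w, rfl⟩)
    · have hdvd : (sl l : R) ∣ s₀ * ∏ l, (sl l : R) :=
        Dvd.dvd.mul_left (Finset.dvd_prod_of_mem _ (Finset.mem_univ l)) s₀
      obtain ⟨q, hq⟩ := hdvd
      have : C (s₀ * ∏ l, (sl l : R)) * rel (Sum.inr l) =
          C q * (C (sl l : R) * rename Sum.inr (gl l)) := by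
        rw [hq, C_mul]
        simp only [rel, Sum.elim_inr]
        ring
      rw [this]
      exact Ideal.mul_mem_left _ _ (hsl l)

end Groth.Agent.Lib.Helper27.PopD
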