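import Mathlib
import Groth.Prelude.Def_Smoothing
import Groth.Agent.S2025
import Groth.Agent.Lib.Helper27.PopD

/-!
# Delocalizing the base: smooth case with a general target
-/

namespace Groth.Agent.Lib.Helper27.PopE

open TensorProduct Smoothing

universe u

/-- `Λ' → Rₛ ⊗ Λ'` as an `Rₛ`-algebra map when `Λ'` is already an `Rₛ`-algebra. -/
noncomputable def eps {R Rₛ Λ' : Type u} [CommRing R] [CommRing Rₛ] [Algebra R Rₛ]
    (S : Submonoid R) [IsLocalization S Rₛ] [CommRing Λ'] [Algebra R Λ'] [Algebra Rₛ Λ']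
    [IsScalarTower R Rₛ Λ'] : Λ' →ₐ[Rₛ] Rₛ ⊗[R] Λ' :=
  { (Algebra.TensorProduct.includeRight : Λ' →ₐ[R] Rₛ ⊗[R] Λ').toRingHom with
    commutes' := fun c => by
      have h : ((Algebra.TensorProduct.includeRight : Λ' →ₐ[R] Rₛ ⊗[R] Λ').toRingHom).comp
          (algebraMap Rₛ Λ') = algebraMap Rₛ (Rₛ ⊗[R] Λ') := by
        apply IsLocalization.ringHom_ext S
        ext r
        simp only [RingHom.comp_apply]
        rw [← IsScalarTower.algebraMap_apply R Rₛ Λ',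
          ← IsScalarTower.algebraMap_apply R Rₛ (Rₛ ⊗[R] Λ')]
        exact AlgHom.commutes _ r
      exact DFunLike.congr_fun h c }

lemma eps_apply {R Rₛ Λ' : Type u} [CommRing R] [CommRing Rₛ] [Algebra R Rₛ]
    (S : Submonoid R) [IsLocalization S Rₛ] [CommRing Λ'] [Algebra R Λ'] [Algebra Rₛ Λ']
    [IsScalarTower R Rₛ Λ'] (l : Λ') : eps (Rₛ := Rₛ) S l = 1 ⊗ₜ l := rfl

theorem main_smooth {R A Λ' Rₛ B' : Type u} [CommRing R] [CommRing A] [Algebra R A]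
    [Algebra.FinitePresentation R A] [CommRing Λ'] [Algebra R Λ'] (φ : A →ₐ[R] Λ')
    (S : Submonoid R) [CommRing Rₛ] [Algebra R Rₛ] [IsLocalization S Rₛ] [Algebra Rₛ Λ']
    [IsScalarTower R Rₛ Λ'] [CommRing B'] [Algebra Rₛ B'] [Algebra.Smooth Rₛ B']
    (g : Rₛ ⊗[R] A →ₐ[Rₛ] B') (h : B' →ₐ[Rₛ] Λ') (hgh : ∀ a : A, h (g (1 ⊗ₜ a)) = φ a) :
    ∃ (B : Type u) (_ : CommRing B) (_ : Algebra R B) (α : A →ₐ[R] B) (β : B →ₐ[R] Λ'),
      β.comp α = φ ∧ ∃ s ∈ S, IsElementaryStandard R B (algebraMap R B s) := by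
  obtain ⟨E, _, _, _, _, _hsm, ⟨r⟩, hstd⟩ := Groth.Agent.S2025.result (R := Rₛ) (A := B')
  haveI := hstd
  refine PopD.main φ S ((IsScalarTower.toAlgHom Rₛ B' E).comp g)
    ((eps S).comp (h.comp (r.restrictScalars Rₛ))) ?_
  intro a
  have h1 : (r.restrictScalars Rₛ) ((IsScalarTower.toAlgHom Rₛ B' E) (g (1 ⊗ₜ a))) =
      g (1 ⊗ₜ a) := by
    show r (algebraMap B' E (g (1 ⊗ₜ a))) = _
    rw [AlgHom.commutes]
    rfl
  rw [AlgHom.comp_apply, AlgHom.comp_apply, AlgHom.comp_apply, h1, hgh]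
  rfl

end Groth.Agent.Lib.Helper27.PopE
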