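import Mathlib
import Groth.Prelude.Def_Smoothing

/-!
# Basic facts on the singular ideal
-/

namespace Groth.Agent.Lib.Helper27.PopG

open Smoothing

universe u

lemma mem_singularIdeal_iff {R C : Type u} [CommRing R] [CommRing C] [Algebra R C]
    [Algebra.FinitePresentation R C] (c : C) :
    c ∈ singularIdeal R C ↔ Algebra.Smooth R (Localization.Away c) := by
  rw [← Algebra.basicOpen_subset_smoothLocus_iff_smooth]
  unfold singularIdeal
  rw [PrimeSpectrum.mem_vanishingIdeal]
  constructor
  · intro h P hP
    by_contra hns
    exact hP (h P hns)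
  · intro h P hP
    by_contra hc
    exact hP (h hc)

lemma finitePresentation_of_isElementaryStandard {R B : Type u} [CommRing R] [CommRing B]
    [Algebra R B] {a : B} (h : IsElementaryStandard R B a) : Algebra.FinitePresentation R B := by
  obtain ⟨P, -, -⟩ := h
  refine Algebra.FinitePresentation.of_surjective P.surj ?_
  rw [P.ker_eq]
  exact Submodule.fg_span (Set.finite_range _)

/-- If the extended singular ideal contains an element outside a prime, it is not contained in
the prime. -/
lemma not_map_le_of_mem {R C Λ : Type u} [CommRing R] [CommRing C] [Algebra R C] [CommRing Λ]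
    [Algebra R Λ] (h : C →ₐ[R] Λ) (𝔮 : Ideal Λ) (c : C) (hc : c ∈ singularIdeal R C)
    (hq : h c ∉ 𝔮) : ¬ (singularIdeal R C).map h ≤ 𝔮 :=
  fun hle => hq (hle (Ideal.mem_map_of_mem _ hc))

end Groth.Agent.Lib.Helper27.PopG
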