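import Mathlib

/-!
# Descending a factorization through a smooth algebra from a local ring `Λ_𝔮` to `Λ`

Given `A → B → Λ_𝔮` with `B` smooth over `R`, we construct a finitely presented `A`-algebra `C`
with a map `C → Λ` and an element `c ∈ C` mapping outside `𝔮` such that `C_c` is smooth over `R`.
The construction: choose generators `x i` of `B` and a common denominator `τ` of their images;
let `K₀` be the kernel of `A[y, z] → B[z, z⁻¹]`, `y i ↦ x i z` (finitely generated as `A` is
Noetherian), and `C = A[y, z][w] / (w K₀)`.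
-/

namespace Groth.Agent.Lib.Helper27.PopF

universe u

/-- `B[z, z⁻¹]`. -/
abbrev L (B : Type u) [CommRing B] : Type u := Localization.Away (Polynomial.X : Polynomial B)

lemma smooth_L (R B : Type u) [CommRing R] [CommRing B] [Algebra R B] [Algebra.Smooth R B] :
    Algebra.Smooth R (L B) := by
  haveI : Algebra.Smooth B (Polynomial B) := ⟨inferInstance, inferInstance⟩
  haveI : Algebra.Smooth R (Polynomial B) := Algebra.Smooth.comp R B (Polynomial B)
  haveI : Algebra.Smooth (Polynomial B) (L B) :=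
    Algebra.Smooth.of_isLocalization_Away (Polynomial.X : Polynomial B)
  exact Algebra.Smooth.comp R (Polynomial B) (L B)

set_option maxHeartbeats 1600000 in
theorem descend {R A Λ Λq B : Type u} [CommRing R] [CommRing A] [Algebra R A]
    [Algebra.FinitePresentation R A] [IsNoetherianRing A] [CommRing Λ] [Algebra R Λ]
    (φ : A →ₐ[R] Λ) (𝔮 : Ideal Λ) [𝔮.IsPrime] [CommRing Λq] [Algebra Λ Λq]
    [IsLocalization.AtPrime Λq 𝔮] [Algebra R Λq] [IsScalarTower R Λ Λq] [CommRing B] [Algebra R B]
    [Algebra.Smooth R B] (α : A →ₐ[R] B) (β : B →ₐ[R] Λq)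
    (hβα : ∀ a, β (α a) = algebraMap Λ Λq (φ a)) :
    ∃ (C : Type u) (_ : CommRing C) (_ : Algebra R C), Algebra.FinitePresentation R C ∧
      ∃ (g : A →ₐ[R] C) (h : C →ₐ[R] Λ), h.comp g = φ ∧
        ∃ c : C, h c ∉ 𝔮 ∧ Algebra.Smooth R (Localization.Away c) := by
  classical
  -- generators of `B`
  obtain ⟨n, f, hf⟩ := Algebra.FiniteType.iff_quotient_mvPolynomial''.mp
    (inferInstance : Algebra.FiniteType R B)
  -- the map `Ψ₀ : A[y, z] → B[z, z⁻¹]`
  let zL : L B := algebraMap (Polynomial B) (L B) Polynomial.X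
  let Ψ₀ : MvPolynomial (Option (Fin n)) A →+* L B :=
    MvPolynomial.eval₂Hom ((algebraMap B (L B)).comp α.toRingHom)
      (fun o => o.elim zL (fun i => algebraMap B (L B) (f (MvPolynomial.X i)) * zL))
  have hΨC : ∀ a, Ψ₀ (MvPolynomial.C a) = algebraMap B (L B) (α a) := fun a => by
    simp [Ψ₀]
  have hΨz : Ψ₀ (MvPolynomial.X none) = zL := by simp [Ψ₀]
  have hΨy : ∀ i, Ψ₀ (MvPolynomial.X (some i)) =
      algebraMap B (L B) (f (MvPolynomial.X i)) * zL := fun i => by simp [Ψ₀]
  have hzL : IsUnit zL := IsLocalization.Away.algebraMap_isUnit (Polynomial.X : Polynomial B)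
  obtain ⟨r, k, hk⟩ := Submodule.fg_iff_exists_fin_generating_family.mp
    (IsNoetherian.noetherian (RingHom.ker Ψ₀))
  have hkmem : ∀ j, Ψ₀ (k j) = 0 := by
    intro j
    have : k j ∈ RingHom.ker Ψ₀ := by rw [← hk]; exact Submodule.subset_span ⟨j, rfl⟩
    exact this
  -- denominators
  obtain ⟨⟨τ, hτ⟩, hint⟩ := IsLocalization.exist_integer_multiples_of_finite 𝔮.primeCompl
    (S := Λq) (fun i : Fin n => β (f (MvPolynomial.X i)))
  choose ℓ hℓ using hint
  have hℓ' : ∀ i, algebraMap Λ Λq (ℓ i) = algebraMap Λ Λq τ * β (f (MvPolynomial.X i)) := by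
    intro i
    rw [hℓ i]
    exact Algebra.smul_def _ _
  let ev₀ : MvPolynomial (Option (Fin n)) A →+* Λ :=
    MvPolynomial.eval₂Hom φ.toRingHom (fun o => o.elim τ ℓ)
  have hτu : IsUnit (algebraMap Λ Λq τ) := IsLocalization.map_units Λq (⟨τ, hτ⟩ : 𝔮.primeCompl)
  have hunit : IsUnit ((Polynomial.eval₂RingHom β.toRingHom (algebraMap Λ Λq τ))
      (Polynomial.X : Polynomial B)) := by
    simpa using hτu
  let Θ₀ : L B →+* Λq := IsLocalization.Away.lift (Polynomial.X : Polynomial B) hunit
  have hΘ : ∀ p : Polynomial B, Θ₀ (algebraMap (Polynomial B) (L B) p) =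
      Polynomial.eval₂ β.toRingHom (algebraMap Λ Λq τ) p := fun p =>
    IsLocalization.Away.lift_eq _ hunit p
  have hΘB : ∀ b : B, Θ₀ (algebraMap B (L B) b) = β b := by
    intro b
    rw [IsScalarTower.algebraMap_apply B (Polynomial B) (L B), hΘ]
    simp
  have hcompat : (algebraMap Λ Λq).comp ev₀ = Θ₀.comp Ψ₀ := by
    apply MvPolynomial.ringHom_ext
    · intro a
      simp only [RingHom.comp_apply, hΨC, hΘB, hβα]
      simp [ev₀]
    · rintro (_ | i)
      · simp only [RingHom.comp_apply, hΨz]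
        rw [show Θ₀ zL = _ from hΘ _]
        simp [ev₀]
      · simp only [RingHom.comp_apply, hΨy, map_mul, hΘB]
        rw [show Θ₀ zL = _ from hΘ _]
        simp only [Polynomial.eval₂_X]
        rw [mul_comm, ← hℓ']
        simp [ev₀]
  have hkill : ∀ j : Fin r, ∃ t : 𝔮.primeCompl, (t : Λ) * ev₀ (k j) = 0 := by
    intro j
    have h0 : algebraMap Λ Λq (ev₀ (k j)) = 0 := by
      have := DFunLike.congr_fun hcompat (k j)
      simp only [RingHom.comp_apply] at this
      rw [this, hkmem, map_zero]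
    exact (IsLocalization.map_eq_zero_iff 𝔮.primeCompl Λq _).mp h0
  choose t ht using hkill
  have hτ' : (∏ j, (t j : Λ)) ∈ 𝔮.primeCompl := prod_mem fun j _ => (t j).2
  have hτ'k : ∀ j, (∏ j, (t j : Λ)) * ev₀ (k j) = 0 := by
    intro j
    obtain ⟨q, hq⟩ := Finset.dvd_prod_of_mem (fun j => (t j : Λ)) (Finset.mem_univ j)
    rw [hq, mul_comm _ q, mul_assoc, ht, mul_zero]
  -- the algebra `C`
  let I' : Ideal (Polynomial (MvPolynomial (Option (Fin n)) A)) :=
    Ideal.span (Set.range fun j : Fin r => Polynomial.X * Polynomial.C (k j))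
  haveI : Algebra.FinitePresentation R (MvPolynomial (Option (Fin n)) A) :=
    Algebra.FinitePresentation.trans R A _
  haveI : Algebra.FinitePresentation R (Polynomial (MvPolynomial (Option (Fin n)) A)) :=
    Algebra.FinitePresentation.trans R (MvPolynomial (Option (Fin n)) A) _
  have hfp : Algebra.FinitePresentation R (Polynomial (MvPolynomial (Option (Fin n)) A) ⧸ I') :=
    Algebra.FinitePresentation.quotient (Submodule.fg_span (Set.finite_range _))
  let ev : Polynomial (MvPolynomial (Option (Fin n)) A) →ₐ[R] Λ :=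
    { Polynomial.eval₂RingHom ev₀ (∏ j, (t j : Λ)) with
      commutes' := fun x => by
        simp [Polynomial.algebraMap_apply, MvPolynomial.algebraMap_apply, ev₀] }
  have hevX : ev Polynomial.X = ∏ j, (t j : Λ) := by
    show Polynomial.eval₂ ev₀ _ Polynomial.X = _
    simp
  have hevC : ∀ p, ev (Polynomial.C p) = ev₀ p := by
    intro p
    show Polynomial.eval₂ ev₀ _ (Polynomial.C p) = _
    simp
  have hI' : ∀ p ∈ I', ev p = 0 := by
    intro p hp
    have hle : I' ≤ RingHom.ker ev.toRingHom := by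
      rw [Ideal.span_le]
      rintro _ ⟨j, rfl⟩
      show ev (Polynomial.X * Polynomial.C (k j)) = 0
      rw [map_mul, hevX, hevC, hτ'k]
    exact hle hp
  let h : (Polynomial (MvPolynomial (Option (Fin n)) A) ⧸ I') →ₐ[R] Λ :=
    Ideal.Quotient.liftₐ I' ev hI'
  let g : A →ₐ[R] (Polynomial (MvPolynomial (Option (Fin n)) A) ⧸ I') :=
    (Ideal.Quotient.mkₐ R I').comp
      (IsScalarTower.toAlgHom R A (Polynomial (MvPolynomial (Option (Fin n)) A)))
  have hhg : h.comp g = φ := by
    ext a
    show ev (algebraMap A (Polynomial (MvPolynomial (Option (Fin n)) A)) a) = φ a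
    rw [Polynomial.algebraMap_apply, hevC, MvPolynomial.algebraMap_eq]
    simp [ev₀]
  let c : Polynomial (MvPolynomial (Option (Fin n)) A) ⧸ I' :=
    Ideal.Quotient.mk I' (Polynomial.X * Polynomial.C (MvPolynomial.X none))
  have hhc : h c ∉ 𝔮 := by
    show ev (Polynomial.X * Polynomial.C (MvPolynomial.X none)) ∉ 𝔮
    rw [map_mul, hevX, hevC]
    have : ev₀ (MvPolynomial.X none) = τ := by simp [ev₀]
    rw [this]
    exact 𝔮.primeCompl.mul_mem hτ' hτ
  refine ⟨_, inferInstance, inferInstance, hfp, g, h, hhg, c, hhc, ?_⟩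
  -- the comparison map
  let Φ₀ : Polynomial (MvPolynomial (Option (Fin n)) A) →+* L (L B) :=
    (algebraMap (Polynomial (L B)) (L (L B))).comp (Polynomial.mapRingHom Ψ₀)
  have hΦ₀ : ∀ p ∈ I', Φ₀ p = 0 := by
    intro p hp
    have hle : I' ≤ RingHom.ker Φ₀ := by
      rw [Ideal.span_le]
      rintro _ ⟨j, rfl⟩
      show Φ₀ (Polynomial.X * Polynomial.C (k j)) = 0
      simp only [Φ₀, RingHom.comp_apply, Polynomial.coe_mapRingHom, Polynomial.map_mul,
        Polynomial.map_X, Polynomial.map_C, hkmem]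
      simp
    exact hle hp
  let Φ : (Polynomial (MvPolynomial (Option (Fin n)) A) ⧸ I') →+* L (L B) :=
    Ideal.Quotient.lift I' Φ₀ hΦ₀
  have hΦmk : ∀ p, Φ (Ideal.Quotient.mk I' p) = Φ₀ p := fun p => Ideal.Quotient.lift_mk _ _ _
  let ξ : L (L B) := algebraMap (Polynomial (L B)) (L (L B)) Polynomial.X
  let ζ : L (L B) := algebraMap (Polynomial (L B)) (L (L B)) (Polynomial.C zL)
  have hξ : Φ (Ideal.Quotient.mk I' Polynomial.X) = ξ := by
    rw [hΦmk]; simp [Φ₀, ξ]
  have hζ : Φ (Ideal.Quotient.mk I' (Polynomial.C (MvPolynomial.X none))) = ζ := by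
    rw [hΦmk]; simp [Φ₀, ζ, hΨz]
  have hΦc : Φ c = ξ * ζ := by
    show Φ (Ideal.Quotient.mk I' _) = _
    rw [map_mul, map_mul, hξ, hζ]
  have hξu : IsUnit ξ := IsLocalization.Away.algebraMap_isUnit (Polynomial.X : Polynomial (L B))
  have hζu : IsUnit ζ := (Polynomial.isUnit_C.mpr hzL).map _
  have hcu : IsUnit (Φ c) := by rw [hΦc]; exact hξu.mul hζu
  obtain ⟨ucinv, hucinv⟩ := hcu.exists_left_inv
  -- fractions
  have hQadd : ∀ d₁ d₂ : L (L B), (∃ y m, d₁ * Φ c ^ m = Φ y) → (∃ y m, d₂ * Φ c ^ m = Φ y) →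
      ∃ y m, (d₁ + d₂) * Φ c ^ m = Φ y := by
    rintro d₁ d₂ ⟨y₁, m₁, h₁⟩ ⟨y₂, m₂, h₂⟩
    refine ⟨y₁ * c ^ m₂ + y₂ * c ^ m₁, m₁ + m₂, ?_⟩
    rw [map_add, map_mul, map_mul, map_pow, map_pow, ← h₁, ← h₂, pow_add]
    ring
  have hQmul : ∀ d₁ d₂ : L (L B), (∃ y m, d₁ * Φ c ^ m = Φ y) → (∃ y m, d₂ * Φ c ^ m = Φ y) →
      ∃ y m, (d₁ * d₂) * Φ c ^ m = Φ y := by
    rintro d₁ d₂ ⟨y₁, m₁, h₁⟩ ⟨y₂, m₂, h₂⟩
    refine ⟨y₁ * y₂, m₁ + m₂, ?_⟩
    rw [map_mul, ← h₁, ← h₂, pow_add]
    ring
  have hQΦ : ∀ y, ∃ y' m, Φ y * Φ c ^ m = Φ y' := fun y => ⟨y, 0, by simp⟩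
  have hQone : ∃ y m, (1 : L (L B)) * Φ c ^ m = Φ y := ⟨1, 0, by simp⟩
  have hQinv : ∃ y m, ucinv * Φ c ^ m = Φ y := ⟨1, 1, by rw [pow_one, hucinv, map_one]⟩
  have hQpow : ∀ (d : L (L B)) (m : ℕ), (∃ y m', d * Φ c ^ m' = Φ y) →
      ∃ y m', d ^ m * Φ c ^ m' = Φ y := by
    intro d m hd
    induction m with
    | zero => simpa using hQone
    | succ m ih => rw [pow_succ]; exact hQmul _ _ ih hd
  have hQξ : ∃ y m, ξ * Φ c ^ m = Φ y := hξ ▸ hQΦ _
  have hQζ : ∃ y m, ζ * Φ c ^ m = Φ y := hζ ▸ hQΦ _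
  have hζinv : (ucinv * ξ) * ζ = 1 := by rw [mul_assoc, ← hΦc, hucinv]
  have hξinv : (ucinv * ζ) * ξ = 1 := by rw [mul_assoc, mul_comm ζ ξ, ← hΦc, hucinv]
  have hQζinv : ∃ y m, (ucinv * ξ) * Φ c ^ m = Φ y := hQmul _ _ hQinv hQξ
  have hQξinv : ∃ y m, (ucinv * ζ) * Φ c ^ m = Φ y := hQmul _ _ hQinv hQζ
  -- scalar tower
  have halgR : ∀ x : R, algebraMap R (L (L B)) x =
      Φ₀ (Polynomial.C (MvPolynomial.C (algebraMap R A x))) := by
    intro x
    simp only [Φ₀, RingHom.comp_apply, Polynomial.coe_mapRingHom, Polynomial.map_C, hΨC,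
      AlgHom.commutes]
    rw [IsScalarTower.algebraMap_apply R (Polynomial (L B)) (L (L B)),
      Polynomial.algebraMap_apply, IsScalarTower.algebraMap_apply R B (L B)]
  -- elements of `B`
  have hQB : ∀ b : B, ∃ y m,
      algebraMap (Polynomial (L B)) (L (L B)) (Polynomial.C (algebraMap B (L B) b)) * Φ c ^ m =
        Φ y := by
    intro b
    obtain ⟨p, rfl⟩ := hf b
    induction p using MvPolynomial.induction_on with
    | C x =>
      have : algebraMap (Polynomial (L B)) (L (L B))
          (Polynomial.C (algebraMap B (L B) (f (MvPolynomial.C x)))) =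
          Φ (Ideal.Quotient.mk I' (Polynomial.C (MvPolynomial.C (algebraMap R A x)))) := by
        rw [hΦmk, ← halgR, ← MvPolynomial.algebraMap_eq, AlgHom.commutes,
          IsScalarTower.algebraMap_apply R (Polynomial (L B)) (L (L B)),
          Polynomial.algebraMap_apply, IsScalarTower.algebraMap_apply R B (L B)]
      rw [this]
      exact hQΦ _
    | add p q hp hq =>
      rw [map_add, map_add, Polynomial.C_add, map_add]
      exact hQadd _ _ hp hq
    | mul_X p i hp =>
      rw [map_mul, map_mul, Polynomial.C_mul, map_mul]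
      refine hQmul _ _ hp ?_
      have h1 : algebraMap (Polynomial (L B)) (L (L B))
          (Polynomial.C (algebraMap B (L B) (f (MvPolynomial.X i)))) * ζ =
          Φ (Ideal.Quotient.mk I' (Polynomial.C (MvPolynomial.X (some i)))) := by
        rw [hΦmk]
        simp only [Φ₀, RingHom.comp_apply, Polynomial.coe_mapRingHom, Polynomial.map_C, hΨy, ζ]
        rw [Polynomial.C_mul, map_mul]
      have h2 : algebraMap (Polynomial (L B)) (L (L B))
          (Polynomial.C (algebraMap B (L B) (f (MvPolynomial.X i)))) =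
          Φ (Ideal.Quotient.mk I' (Polynomial.C (MvPolynomial.X (some i)))) * (ucinv * ξ) := by
        rw [← h1, mul_assoc, mul_comm ζ, hζinv, mul_one]
      rw [h2]
      exact hQmul _ _ (hQΦ _) hQζinv
  -- elements of `B[z]`
  have hQBz : ∀ p : Polynomial B, ∃ y m,
      algebraMap (Polynomial (L B)) (L (L B))
        (Polynomial.C (algebraMap (Polynomial B) (L B) p)) * Φ c ^ m = Φ y := by
    intro p
    induction p using Polynomial.induction_on with
    | C b =>
      have : algebraMap (Polynomial B) (L B) (Polynomial.C b) = algebraMap B (L B) b := by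
        rw [IsScalarTower.algebraMap_apply B (Polynomial B) (L B), Polynomial.algebraMap_apply]
        simp
      rw [this]
      exact hQB b
    | add p q hp hq =>
      rw [map_add, Polynomial.C_add, map_add]
      exact hQadd _ _ hp hq
    | monomial m b hp =>
      rw [pow_succ, ← mul_assoc, map_mul, Polynomial.C_mul, map_mul]
      exact hQmul _ _ hp hQζ
  -- elements of `L B`
  have hQL : ∀ l : L B, ∃ y m,
      algebraMap (Polynomial (L B)) (L (L B)) (Polynomial.C l) * Φ c ^ m = Φ y := by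
    intro l
    obtain ⟨m, p, hp⟩ := IsLocalization.Away.surj (Polynomial.X : Polynomial B) l
    have h1 : algebraMap (Polynomial (L B)) (L (L B)) (Polynomial.C l) * ζ ^ m =
        algebraMap (Polynomial (L B)) (L (L B))
          (Polynomial.C (algebraMap (Polynomial B) (L B) p)) := by
      rw [← hp, Polynomial.C_mul, map_mul, Polynomial.C_pow, map_pow]
    have h2 : algebraMap (Polynomial (L B)) (L (L B)) (Polynomial.C l) =
        algebraMap (Polynomial (L B)) (L (L B))
          (Polynomial.C (algebraMap (Polynomial B) (L B) p)) * (ucinv * ξ) ^ m := by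
      rw [← h1, mul_assoc, ← mul_pow, mul_comm ζ, hζinv, one_pow, mul_one]
    rw [h2]
    exact hQmul _ _ (hQBz p) (hQpow _ m hQζinv)
  -- elements of `(L B)[w]`
  have hQLw : ∀ q : Polynomial (L B), ∃ y m,
      algebraMap (Polynomial (L B)) (L (L B)) q * Φ c ^ m = Φ y := by
    intro q
    induction q using Polynomial.induction_on with
    | C l => exact hQL l
    | add p q hp hq =>
      rw [map_add]
      exact hQadd _ _ hp hq
    | monomial m b hp =>
      rw [pow_succ, ← mul_assoc, map_mul]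
      exact hQmul _ _ hp hQξ
  have hQall : ∀ d : L (L B), ∃ y m, d * Φ c ^ m = Φ y := by
    intro d
    obtain ⟨m, q, hq⟩ := IsLocalization.Away.surj (Polynomial.X : Polynomial (L B)) d
    have h2 : d = algebraMap (Polynomial (L B)) (L (L B)) q * (ucinv * ζ) ^ m := by
      rw [← hq, mul_assoc, ← mul_pow, mul_comm _ (ucinv * ζ), hξinv, one_pow, mul_one]
    rw [h2]
    exact hQmul _ _ (hQLw q) (hQpow _ m hQξinv)
  -- the localization property
  letI : Algebra (Polynomial (MvPolynomial (Option (Fin n)) A) ⧸ I') (L (L B)) := Φ.toAlgebra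
  haveI : IsScalarTower R (Polynomial (MvPolynomial (Option (Fin n)) A) ⧸ I') (L (L B)) :=
IsScalarTower.of_algebraMap_eq (R := R)
      (S := Polynomial (MvPolynomial (Option (Fin n)) A) ⧸ I') (A := L (L B)) fun x =>
      (halgR x).trans (hΦmk (Polynomial.C (MvPolynomial.C (algebraMap R A x)))).symm
  have hloc : IsLocalization.Away c (L (L B)) := by
    refine (isLocalization_iff _ _).mpr ⟨?_, ?_, ?_⟩
    · rintro ⟨_, m, rfl⟩
      show IsUnit (Φ (c ^ m))
      rw [map_pow]
      exact hcu.pow m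
    · intro d
      obtain ⟨y, m, hy⟩ := hQall d
      refine ⟨(y, ⟨c ^ m, m, rfl⟩), ?_⟩
      show d * Φ (c ^ m) = Φ y
      rw [map_pow, hy]
    · intro y₁ y₂ hy
      change Φ y₁ = Φ y₂ at hy
      refine ⟨⟨c, 1, pow_one c⟩, ?_⟩
      show c * y₁ = c * y₂
      obtain ⟨P, hP⟩ := Ideal.Quotient.mk_surjective (y₁ - y₂)
      have hΦP : Φ₀ P = 0 := by
        rw [← hΦmk, hP, map_sub, hy, sub_self]
      have hinj : Function.Injective (algebraMap (Polynomial (L B)) (L (L B))) :=
        IsLocalization.injective (L (L B)) (M := Submonoid.powers (Polynomial.X : Polynomial (L B)))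
          (Submonoid.powers_le.mpr Polynomial.X_mem_nonzeroDivisors)
      have hmap : Polynomial.mapRingHom Ψ₀ P = 0 := by
        apply hinj
        rw [map_zero]
        exact hΦP
      have hPmem : P ∈ Ideal.map Polynomial.C (RingHom.ker Ψ₀) := by
        rw [← Polynomial.ker_mapRingHom]
        exact hmap
      rw [← hk] at hPmem
      have hspan : Ideal.map (Polynomial.C : MvPolynomial (Option (Fin n)) A →+* _)
          (Submodule.span (MvPolynomial (Option (Fin n)) A) (Set.range k)) =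
          Ideal.span (Polynomial.C '' Set.range k) := Ideal.map_span _ _
      rw [hspan] at hPmem
      have hXP : Polynomial.X * P ∈ I' := by
        refine Submodule.span_induction ?_ ?_ ?_ ?_ hPmem
        · rintro _ ⟨_, ⟨j, rfl⟩, rfl⟩
          exact Ideal.subset_span ⟨j, rfl⟩
        · simp
        · intro p q _ _ hp hq
          rw [mul_add]
          exact add_mem hp hq
        · intro a p _ hp
          rw [smul_eq_mul, mul_left_comm]
          exact Ideal.mul_mem_left _ _ hp
      have hzero : c * (y₁ - y₂) = 0 := by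
        rw [← hP]
        show Ideal.Quotient.mk I' _ * Ideal.Quotient.mk I' P = 0
        rw [← map_mul, Ideal.Quotient.eq_zero_iff_mem]
        have : Polynomial.X * Polynomial.C (MvPolynomial.X none) * P =
            Polynomial.C (MvPolynomial.X none) * (Polynomial.X * P) := by ring
        rw [this]
        exact Ideal.mul_mem_left _ _ hXP
      linear_combination hzero
  haveI : Algebra.Smooth R (L B) := smooth_L R B
  haveI : Algebra.Smooth R (L (L B)) := smooth_L R (L B)
  let e : Localization.Away c ≃ₐ[Polynomial (MvPolynomial (Option (Fin n)) A) ⧸ I'] L (L B) :=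
    IsLocalization.algEquiv (Submonoid.powers c) _ _
  exact Algebra.Smooth.of_equiv (e.symm.restrictScalars R)

end Groth.Agent.Lib.Helper27.PopF
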