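import Mathlib
import Groth.Prelude.Def_Smoothing
import Groth.Agent.S2022
import Groth.Agent.S2034
import Groth.Agent.Lib.Helper14.SmoothInsep

/-!
# Ind-smoothness of separable field extensions and of flat Artinian deformations of them;
resolution of a problem whose localization is ind-smooth.
-/

namespace Groth.Agent.Lib.Helper27.SepE

open Smoothing TensorProduct

universe u

theorem indSmooth_of_isField {k L : Type u} [Field k] [CommRing L] [Algebra k L] (hL : IsField L)
    [Algebra.IsGeometricallyReduced k L] : IndSmooth k L := by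
  intro A _ _ hfp f
  haveI : IsDomain L := hL.isDomain
  haveI := hfp
  let A' : Subalgebra k L := f.range
  haveI : Algebra.FiniteType k A' :=
    Algebra.FiniteType.of_surjective f.rangeRestrict f.rangeRestrict_surjective
  haveI : Algebra.FinitePresentation k A' := Algebra.FinitePresentation.of_finiteType.mp inferInstance
  haveI : Algebra.IsGeometricallyReduced k A' :=
    Algebra.IsGeometricallyReduced.of_injective A'.val Subtype.val_injective
  haveI : (⊥ : Ideal A').IsPrime := Ideal.bot_prime
  have hmin : (⊥ : Ideal A') ∈ minimalPrimes A' := by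
    rw [IsDomain.minimalPrimes_eq_singleton_bot]; rfl
  haveI hsm : Algebra.IsSmoothAt k (⊥ : Ideal A') :=
    Groth.Agent.Lib.Helper14.SmoothInsep.isSmoothAt_of_mem_minimalPrimes k A' ⊥ hmin
  obtain ⟨g, hg, hsmooth⟩ := Algebra.IsSmoothAt.exists_notMem_smooth k (⊥ : Ideal A')
  have hg0 : g ≠ 0 := fun h => hg (by rw [h]; exact zero_mem _)
  have hunit : ∀ y : Submonoid.powers g, IsUnit (A'.val y) := by
    rintro ⟨_, m, rfl⟩
    have : (A'.val (g ^ m) : L) ≠ 0 := by
      rw [map_pow]
      exact pow_ne_zero _ (fun h => hg0 (Subtype.ext h))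
    obtain ⟨b, hb⟩ := hL.mul_inv_cancel this
    exact IsUnit.of_mul_eq_one b hb
  let hB : Localization.Away g →ₐ[k] L :=
    IsLocalization.liftAlgHom (M := Submonoid.powers g) (f := A'.val) hunit
  refine ⟨Localization.Away g, inferInstance, inferInstance, hsmooth,
    (IsScalarTower.toAlgHom k A' (Localization.Away g)).comp f.rangeRestrict, hB, ?_⟩
  ext x
  show hB (algebraMap A' (Localization.Away g) (f.rangeRestrict x)) = f x
  rw [IsLocalization.liftAlgHom_apply, IsLocalization.lift_eq]
  rfl

theorem indSmooth_of_bijective {k F L : Type u} [CommRing k] [CommRing F] [CommRing L]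
    [Algebra k F] [Algebra F L] [Algebra k L] [IsScalarTower k F L]
    (hbij : Function.Bijective (algebraMap k F)) (h : IndSmooth k L) : IndSmooth F L := by
  intro A' _ _ hfp f
  haveI := hfp
  letI : Algebra k A' := ((algebraMap F A').comp (algebraMap k F)).toAlgebra
  haveI : IsScalarTower k F A' := IsScalarTower.of_algebraMap_eq fun _ => rfl
  haveI : Algebra.FinitePresentation k F := by
    refine Algebra.FinitePresentation.of_surjective (f := Algebra.ofId k F) hbij.2 ?_
    have : RingHom.ker (Algebra.ofId k F).toRingHom = ⊥ :=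
      (RingHom.injective_iff_ker_eq_bot _).mp hbij.1
    rw [this]
    exact Submodule.fg_bot
  haveI : Algebra.FinitePresentation k A' := Algebra.FinitePresentation.trans k F A'
  obtain ⟨B, _, _, hsm, g, h', hgh⟩ := h A' inferInstance (f.restrictScalars k)
  haveI := hsm
  let e : k ≃+* F := RingEquiv.ofBijective (algebraMap k F) hbij
  letI : Algebra F B := ((algebraMap k B).comp e.symm.toRingHom).toAlgebra
  haveI : IsScalarTower k F B := IsScalarTower.of_algebraMap_eq fun c => by
    show algebraMap k B c = algebraMap k B (e.symm (algebraMap k F c))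
    congr 1
    exact (e.symm_apply_apply c).symm
  haveI : Algebra.FormallyUnramified k F :=
    Algebra.FormallyUnramified.of_surjective (Algebra.ofId k F) hbij.2
  haveI : Algebra.FormallySmooth F B := Algebra.FormallySmooth.of_restrictScalars k F B
  haveI : Algebra.FinitePresentation F B :=
    Algebra.FinitePresentation.of_restrict_scalars_finitePresentation k F B
  refine ⟨B, inferInstance, inferInstance, ⟨inferInstance, inferInstance⟩,
    g.extendScalarsOfSurjective hbij.2, h'.extendScalarsOfSurjective hbij.2, ?_⟩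
  ext x
  exact AlgHom.congr_fun hgh x

theorem indSmooth_of_flat_of_residue {k R' T : Type u} [Field k] [CommRing R'] [Algebra k R']
    [CommRing T] [Algebra R' T] [Algebra k T] [IsScalarTower k R' T] [Module.Flat R' T]
    (m : Ideal R') (hm : IsNilpotent m)
    (hkm : Function.Bijective ((Ideal.Quotient.mk m).comp (algebraMap k R')))
    (hfield : IsField (T ⧸ m.map (algebraMap R' T)))
    [Algebra.IsGeometricallyReduced k (T ⧸ m.map (algebraMap R' T))] : IndSmooth R' T := by
  refine Groth.Agent.S2022.result m hm ?_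
  have h0 : IndSmooth k (T ⧸ m.map (algebraMap R' T)) := indSmooth_of_isField hfield
  haveI : IsScalarTower k (R' ⧸ m) (T ⧸ m.map (algebraMap R' T)) :=
    IsScalarTower.of_algebraMap_eq fun c => by
      show Ideal.Quotient.mk _ (algebraMap k T c) = _
      rw [IsScalarTower.algebraMap_apply k R' T]
      rfl
  exact indSmooth_of_bijective (k := k) (F := R' ⧸ m) hkm h0

/-- the singular ideal of a smooth algebra is the unit ideal -/
theorem singularIdeal_eq_top {R D : Type u} [CommRing R] [CommRing D] [Algebra R D]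
    [Algebra.Smooth R D] : singularIdeal R D = ⊤ := by
  unfold singularIdeal
  have : (Algebra.smoothLocus R D)ᶜ = ∅ := by
    rw [Set.compl_empty_iff, Algebra.smoothLocus_eq_univ_iff]
    infer_instance
  rw [this, PrimeSpectrum.vanishingIdeal_empty]

theorem resolvable_of_indSmooth_loc {R₀ C₀ Λ₀ Λq : Type u} [CommRing R₀] [IsNoetherianRing R₀]
    [CommRing C₀] [Algebra R₀ C₀] [Algebra.FinitePresentation R₀ C₀] [CommRing Λ₀]
    [Algebra R₀ Λ₀] (φ₀ : C₀ →ₐ[R₀] Λ₀) (𝔮₀ : Ideal Λ₀) [𝔮₀.IsPrime]
    [CommRing Λq] [Algebra Λ₀ Λq] [IsLocalization.AtPrime Λq 𝔮₀] [Algebra R₀ Λq]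
    [IsScalarTower R₀ Λ₀ Λq]
    (hdim : ringKrullDim Λq = 0)
    (hunits : ∀ r : R₀, algebraMap R₀ Λ₀ r ∉ 𝔮₀ → IsUnit r)
    (hind : IndSmooth R₀ Λq) : Resolvable R₀ φ₀ 𝔮₀ := by
  by_cases hle : singRad R₀ φ₀ ≤ 𝔮₀
  · haveI : IsLocalRing Λq := IsLocalization.AtPrime.isLocalRing Λq 𝔮₀
    haveI : Ring.KrullDimLE 0 Λq := ringKrullDimZero_iff_ringKrullDim_eq_zero.mpr hdim
    have hmin : 𝔮₀ ∈ (singRad R₀ φ₀).minimalPrimes := by
      refine ⟨⟨inferInstance, hle⟩, ?_⟩
      rintro P ⟨hP, -⟩ hP𝔮
      have hdisj : Disjoint (𝔮₀.primeCompl : Set Λ₀) P := by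
        rw [Set.disjoint_left]
        intro x hx hxP
        exact hx (hP𝔮 hxP)
      have hP' : (P.map (algebraMap Λ₀ Λq)).IsPrime :=
        IsLocalization.isPrime_of_isPrime_disjoint 𝔮₀.primeCompl Λq P hP hdisj
      have hmax : P.map (algebraMap Λ₀ Λq) = IsLocalRing.maximalIdeal Λq :=
        IsLocalRing.eq_maximalIdeal hP'.isMaximal'
      have h1 : (P.map (algebraMap Λ₀ Λq)).under Λ₀ = P :=
        IsLocalization.under_map_of_isPrime_disjoint 𝔮₀.primeCompl Λq hP hdisj
      have h2 : (IsLocalRing.maximalIdeal Λq).under Λ₀ = 𝔮₀ :=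
        IsLocalization.AtPrime.under_maximalIdeal Λq 𝔮₀
      rw [← h1, hmax, h2]
    haveI : IsLocalization.AtPrime R₀ (𝔮₀.comap (algebraMap R₀ Λ₀)) := by
      refine IsLocalization.self ?_
      intro r hr
      exact hunits r hr
    refine Groth.Agent.S2034.result (Rₚ := R₀) (Λq := Λq) φ₀ 𝔮₀ hmin hdim ?_
    obtain ⟨D, _, _, hsm, g, h, hgh⟩ := hind (R₀ ⊗[R₀] C₀) inferInstance
      (Algebra.TensorProduct.lift (Algebra.ofId R₀ Λq)
        ((IsScalarTower.toAlgHom R₀ Λ₀ Λq).comp φ₀) (fun _ _ => Commute.all _ _))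
    haveI := hsm
    have htop : singRad R₀ h = ⊤ := by
      unfold singRad
      rw [singularIdeal_eq_top, Ideal.map_top, Ideal.radical_top]
    refine ⟨D, inferInstance, inferInstance, hsm.2, g, h, hgh, ?_, ?_⟩
    · rw [htop]; exact le_top
    · rw [htop, top_le_iff]
      have : (𝔮₀.map (algebraMap Λ₀ Λq)) = IsLocalRing.maximalIdeal Λq :=
        IsLocalization.AtPrime.map_eq_maximalIdeal 𝔮₀ Λq
      rw [this]
      exact Ideal.IsPrime.ne_top inferInstance
  · exact ⟨C₀, inferInstance, inferInstance, inferInstance, AlgHom.id R₀ C₀, φ₀,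
      AlgHom.comp_id φ₀, le_rfl, hle⟩

end Groth.Agent.Lib.Helper27.SepE
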