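import Mathlib

/-!
# The algebra `B = A[x, z]/(x_i^n - ∑_j z_{ij} a_j)` over `R = k[x_1..x_d]`
-/

namespace Groth.Agent.Lib.Helper27.SepB

open MvPolynomial

universe u

variable {k A : Type u} [CommRing k] [CommRing A] [Algebra k A]

/-- variables `x_i`, `z_{ij}` -/
abbrev Var (d r : ℕ) := Fin d ⊕ (Fin d × Fin r)

variable {d r : ℕ} (n : ℕ) (a : Fin r → A)

/-- the relations -/
noncomputable def relF (i : Fin d) : MvPolynomial (Var d r) A :=
  X (Sum.inl i) ^ n - ∑ j, C (a j) * X (Sum.inr (i, j))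

/-- the algebra `B` -/
abbrev Bq (d : ℕ) {r : ℕ} (n : ℕ) (a : Fin r → A) :=
  MvPolynomial (Var d r) A ⧸ Ideal.span (Set.range (relF (d := d) n a))

/-- the class of `x_i` -/
noncomputable def xb (i : Fin d) : Bq d n a := Ideal.Quotient.mk _ (X (Sum.inl i))

/-- the class of `z_{ij}` -/
noncomputable def zb (i : Fin d) (j : Fin r) : Bq d n a := Ideal.Quotient.mk _ (X (Sum.inr (i, j)))

variable (k) in
/-- the structure map from `R = k[x]` -/
noncomputable def xHom : MvPolynomial (Fin d) k →ₐ[k] Bq d n a := aeval (xb n a)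

noncomputable instance instAlgR : Algebra (MvPolynomial (Fin d) k) (Bq d n a) :=
  (xHom k n a).toRingHom.toAlgebra

lemma algebraMap_R_apply (p : MvPolynomial (Fin d) k) :
    algebraMap (MvPolynomial (Fin d) k) (Bq d n a) p = xHom k n a p := rfl

instance : IsScalarTower k (MvPolynomial (Fin d) k) (Bq d n a) :=
  IsScalarTower.of_algebraMap_eq fun c => by
    rw [algebraMap_R_apply, MvPolynomial.algebraMap_eq, ← MvPolynomial.algebraMap_eq,
      AlgHom.commutes]

lemma algebraMap_R_X (i : Fin d) :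
    algebraMap (MvPolynomial (Fin d) k) (Bq d n a) (X i) = xb n a i := by
  rw [algebraMap_R_apply, xHom, aeval_X]

lemma algebraMap_A_apply (x : A) :
    algebraMap A (Bq d n a) x = Ideal.Quotient.mk _ (C x) := rfl

/-- the defining relation in `B` -/
lemma rel_eq (i : Fin d) :
    xb n a i ^ n = ∑ j, algebraMap A (Bq d n a) (a j) * zb n a i j := by
  have h : Ideal.Quotient.mk (Ideal.span (Set.range (relF (d := d) n a))) (relF n a i) = 0 :=
    Ideal.Quotient.eq_zero_iff_mem.mpr (Ideal.subset_span ⟨i, rfl⟩)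
  rw [relF, map_sub, sub_eq_zero, map_pow, map_sum] at h
  rw [xb, h]
  refine Finset.sum_congr rfl fun j _ => ?_
  rw [map_mul]; rfl

instance [Algebra.FinitePresentation k A] : Algebra.FinitePresentation k (Bq d n a) := by
  haveI : Algebra.FinitePresentation A (Bq d n a) :=
    Algebra.FinitePresentation.quotient (Submodule.fg_span (Set.finite_range _))
  exact Algebra.FinitePresentation.trans k A (Bq d n a)

instance [Algebra.FinitePresentation k A] :
    Algebra.FinitePresentation (MvPolynomial (Fin d) k) (Bq d n a) :=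
  Algebra.FinitePresentation.of_restrict_scalars_finitePresentation k
    (MvPolynomial (Fin d) k) (Bq d n a)

section lift

variable {T : Type u} [CommRing T] [Algebra k T] [Algebra (MvPolynomial (Fin d) k) T]
  [IsScalarTower k (MvPolynomial (Fin d) k) T]
  (ψ : A →ₐ[k] T) (ζ : Fin d × Fin r → T)
  (hrel : ∀ i, algebraMap (MvPolynomial (Fin d) k) T (X i) ^ n = ∑ j, ψ (a j) * ζ (i, j))

/-- the underlying ring hom of the lift -/
noncomputable def lift₀ : MvPolynomial (Var d r) A →+* T :=
  eval₂Hom ψ.toRingHom (Sum.elim (fun i => algebraMap (MvPolynomial (Fin d) k) T (X i)) ζ)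

include hrel in
lemma lift₀_relF (i : Fin d) : lift₀ ψ ζ (relF n a i) = 0 := by
  unfold lift₀ relF
  rw [map_sub, map_pow, map_sum, sub_eq_zero]
  simp only [map_mul, coe_eval₂Hom, eval₂_X, eval₂_C, Sum.elim_inl, Sum.elim_inr]
  exact hrel i

/-- the lift as a ring hom -/
noncomputable def lift₁ : Bq d n a →+* T :=
  Ideal.Quotient.lift _ (lift₀ ψ ζ) (fun p hp => by
    have hle : Ideal.span (Set.range (relF (d := d) n a)) ≤ RingHom.ker (lift₀ ψ ζ) := by
      rw [Ideal.span_le]
      rintro _ ⟨i, rfl⟩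
      exact lift₀_relF n a ψ ζ hrel i
    exact hle hp)

lemma lift₁_mk (p : MvPolynomial (Var d r) A) :
    lift₁ n a ψ ζ hrel (Ideal.Quotient.mk _ p) = lift₀ ψ ζ p := rfl

lemma lift₁_algebraMap_A (x : A) : lift₁ n a ψ ζ hrel (algebraMap A (Bq d n a) x) = ψ x := by
  rw [algebraMap_A_apply, lift₁_mk]
  simp [lift₀]

lemma lift₁_xb (i : Fin d) :
    lift₁ n a ψ ζ hrel (xb n a i) = algebraMap (MvPolynomial (Fin d) k) T (X i) := by
  rw [xb, lift₁_mk]
  simp [lift₀]

lemma lift₁_zb (i : Fin d) (j : Fin r) : lift₁ n a ψ ζ hrel (zb n a i j) = ζ (i, j) := by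
  rw [zb, lift₁_mk]
  simp [lift₀]

lemma lift₁_algebraMap_R (p : MvPolynomial (Fin d) k) :
    lift₁ n a ψ ζ hrel (algebraMap (MvPolynomial (Fin d) k) (Bq d n a) p) =
      algebraMap (MvPolynomial (Fin d) k) T p := by
  induction p using MvPolynomial.induction_on with
  | C c =>
    rw [← MvPolynomial.algebraMap_eq, ← IsScalarTower.algebraMap_apply k (MvPolynomial (Fin d) k),
      ← IsScalarTower.algebraMap_apply k (MvPolynomial (Fin d) k),
      IsScalarTower.algebraMap_apply k A (Bq d n a), lift₁_algebraMap_A, AlgHom.commutes]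
  | add p q hp hq => rw [map_add, map_add, hp, hq, map_add]
  | mul_X p i hp => rw [map_mul, map_mul, hp, algebraMap_R_X, lift₁_xb, map_mul]

/-- the lift as an `R`-algebra hom -/
noncomputable def liftB : Bq d n a →ₐ[MvPolynomial (Fin d) k] T :=
  { lift₁ n a ψ ζ hrel with
    commutes' := lift₁_algebraMap_R n a ψ ζ hrel }

lemma liftB_apply (b : Bq d n a) : liftB n a ψ ζ hrel b = lift₁ n a ψ ζ hrel b := rfl

end lift

end Groth.Agent.Lib.Helper27.SepB
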