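import Mathlib
import Groth.Agent.Lib.Helper6.AnnStable2

/-!
# Small lemmas for the separable residue field case
-/

namespace Groth.Agent.Lib.Helper27.SepF

open MvPolynomial

universe u

section poly

variable {k : Type u} [CommRing k] {d : ℕ}

/-- `X i ^ c` is a nonzerodivisor modulo `(X j ^ (8c) : j < i)`. -/
theorem reg_X_pow (c : ℕ) (i : Fin d) (y : MvPolynomial (Fin d) k)
    (h : (X i ^ c) * y ∈ Ideal.span (Set.range fun j : {j : Fin d // (j : ℕ) < (i : ℕ)} =>
      ((X (j : Fin d) : MvPolynomial (Fin d) k) ^ c) ^ 8)) :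
    y ∈ Ideal.span (Set.range fun j : {j : Fin d // (j : ℕ) < (i : ℕ)} =>
      ((X (j : Fin d) : MvPolynomial (Fin d) k) ^ c) ^ 8) := by
  classical
  let S : Set (Fin d →₀ ℕ) := {s | ∃ j : Fin d, (j : ℕ) < (i : ℕ) ∧ s = Finsupp.single j (c * 8)}
  have hJ : (Set.range fun j : {j : Fin d // (j : ℕ) < (i : ℕ)} =>
      ((X (j : Fin d) : MvPolynomial (Fin d) k) ^ c) ^ 8) =
      (fun s => monomial s (1 : k)) '' S := by
    ext z
    constructor
    · rintro ⟨⟨j, hj⟩, rfl⟩
      refine ⟨Finsupp.single j (c * 8), ⟨j, hj, rfl⟩, ?_⟩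
      simp only
      rw [← pow_mul, X_pow_eq_monomial]
    · rintro ⟨s, ⟨j, hj, rfl⟩, rfl⟩
      refine ⟨⟨j, hj⟩, ?_⟩
      simp only
      rw [← pow_mul, X_pow_eq_monomial]
  rw [hJ] at h ⊢
  rw [mem_ideal_span_monomial_image] at h ⊢
  intro m hm
  have hm' : Finsupp.single i c + m ∈ ((X i ^ c) * y).support := by
    rw [mem_support_iff, X_pow_eq_monomial, coeff_monomial_mul, one_mul]
    exact mem_support_iff.mp hm
  obtain ⟨s, ⟨j, hj, rfl⟩, hs⟩ := h _ hm'
  refine ⟨Finsupp.single j (c * 8), ⟨j, hj, rfl⟩, ?_⟩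
  intro l
  have h1 := hs l
  by_cases hl : l = j
  · subst hl
    have hne : i ≠ l := fun h => by rw [h] at hj; exact lt_irrefl _ hj
    simpa [Finsupp.single_apply, hne] using h1
  · simp [Finsupp.single_apply, Ne.symm hl]

theorem sub_C_constantCoeff_mem (p : MvPolynomial (Fin d) k) :
    p - C (constantCoeff p) ∈ Ideal.span (Set.range (X : Fin d → MvPolynomial (Fin d) k)) := by
  classical
  rw [← Set.image_univ, mem_ideal_span_X_image]
  intro m hm
  by_contra hcon
  push Not at hcon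
  have hm0 : m = 0 := by
    ext i
    simpa using hcon i (Set.mem_univ i)
  subst hm0
  rw [mem_support_iff, coeff_sub, coeff_C, if_pos rfl] at hm
  exact hm (sub_self _)

theorem span_range_X_isMaximal {k : Type u} [Field k] {d : ℕ} :
    (Ideal.span (Set.range (X : Fin d → MvPolynomial (Fin d) k))).IsMaximal := by
  have h : Ideal.span (Set.range (X : Fin d → MvPolynomial (Fin d) k)) =
      RingHom.ker (constantCoeff : MvPolynomial (Fin d) k →+* k) := by
    apply le_antisymm
    · rw [Ideal.span_le]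
      rintro _ ⟨i, rfl⟩
      exact constantCoeff_X (R := k) i
    · intro p hp
      have := sub_C_constantCoeff_mem p
      rwa [RingHom.mem_ker.mp hp, map_zero, sub_zero] at this
  rw [h]
  exact RingHom.ker_isMaximal_of_surjective _ (fun c => ⟨C c, constantCoeff_C _ c⟩)

end poly

section ann

variable {Λ : Type u} [CommRing Λ]

theorem ann_pow (J : Ideal Λ) (p : Λ) (h : ∀ y, p ^ 2 * y ∈ J → p * y ∈ J) :
    ∀ n : ℕ, 1 ≤ n → ∀ y, p ^ n * y ∈ J → p * y ∈ J := by
  intro n hn
  induction n, hn using Nat.le_induction with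
  | base => intro y hy; rwa [pow_one] at hy
  | succ n hn ih =>
    intro y hy
    obtain ⟨n', rfl⟩ : ∃ n', n = n' + 1 := ⟨n - 1, by omega⟩
    apply ih
    have h1 : p ^ (n' + 1 + 1) * y = p ^ 2 * (p ^ n' * y) := by ring
    rw [h1] at hy
    have h2 := h _ hy
    have h3 : p ^ (n' + 1) * y = p * (p ^ n' * y) := by ring
    rw [h3]; exact h2

theorem ann_pow' (J : Ideal Λ) (p : Λ) (h : ∀ y, p ^ 2 * y ∈ J → p * y ∈ J) (c : ℕ) (hc : 1 ≤ c)
    (y : Λ) (hy : (p ^ c) ^ 2 * y ∈ J) : p ^ c * y ∈ J := by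
  have h1 : p * y ∈ J := ann_pow J p h (c * 2) (by omega) y (by rwa [pow_mul])
  obtain ⟨c', rfl⟩ : ∃ c', c = c' + 1 := ⟨c - 1, by omega⟩
  have : p ^ (c' + 1) * y = p ^ c' * (p * y) := by ring
  rw [this]
  exact Ideal.mul_mem_left _ _ h1

end ann

section reg

open Groth.Agent.Lib.Helper6.AnnStable Groth.Agent.Lib.Helper6.PermReg

variable {S : Type u} [CommRing S] [IsRegularLocalRing S]

theorem reg_core {d : ℕ} (hd : ringKrullDim S = d) (p : Fin d → S)
    (hp : Ideal.span (Set.range p) = IsLocalRing.maximalIdeal S) (e : ℕ) (he : 1 ≤ e) (i : Fin d)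
    (s : S)
    (h : p i * s ∈ Ideal.span (p '' {j | j < i}) ⊔ Ideal.span (Set.range fun l => p l ^ e)) :
    s ∈ (Ideal.span (p '' {j | j < i}) ⊔ Ideal.span {p i ^ (e - 1)}) ⊔
      Ideal.span (Set.range fun l => p l ^ e) := by
  classical
  let ε : Fin d → ℕ := fun l => if l < i then 1 else if l = i then 0 else e
  have hεi : ε i = 0 := by simp [ε]
  have hreg : Reg (Jpow p ε) (p i) := reg_powers_of_rsop hd p hp ε i hεi
  have hle1 : Ideal.span (p '' {j | j < i}) ⊔ Ideal.span (Set.range fun l => p l ^ e) ≤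
      Jpow p ε ⊔ Ideal.span {p i ^ e} := by
    refine sup_le ?_ ?_
    · rw [Ideal.span_le]
      rintro _ ⟨j, hj, rfl⟩
      refine Ideal.mem_sup_left (Ideal.subset_span ⟨j, ?_, ?_⟩)
      · have : ε j = 1 := by simp [ε, show j < i from hj]
        rw [this]; exact one_ne_zero
      · have : ε j = 1 := by simp [ε, show j < i from hj]
        rw [this, pow_one]
    · rw [Ideal.span_le]
      rintro _ ⟨l, rfl⟩
      rcases lt_trichotomy l i with hl | hl | hl
      · obtain ⟨e', rfl⟩ : ∃ e', e = e' + 1 := ⟨e - 1, by omega⟩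
        have h1 : p l ∈ Jpow p ε := Ideal.subset_span ⟨l, by simp [ε, hl], by simp [ε, hl]⟩
        exact Ideal.mem_sup_left (by simpa [pow_succ] using Ideal.mul_mem_left _ (p l ^ e') h1)
      · subst hl
        exact Ideal.mem_sup_right (Ideal.mem_span_singleton_self _)
      · have hε : ε l = e := by
          simp [ε, not_lt_of_gt hl, ne_of_gt hl]
        refine Ideal.mem_sup_left (Ideal.subset_span ⟨l, ?_, ?_⟩)
        · rw [hε]; omega
        · simp only; rw [hε]
  have hle2 : Jpow p ε ≤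
      Ideal.span (p '' {j | j < i}) ⊔ Ideal.span (Set.range fun l => p l ^ e) := by
    unfold Jpow
    rw [Ideal.span_le]
    rintro _ ⟨l, hl, rfl⟩
    rcases lt_trichotomy l i with hli | hli | hli
    · have : ε l = 1 := by simp [ε, hli]
      rw [this, pow_one]
      exact Ideal.mem_sup_left (Ideal.subset_span ⟨l, hli, rfl⟩)
    · subst hli; exact absurd hεi hl
    · have hε : ε l = e := by simp [ε, not_lt_of_gt hli, ne_of_gt hli]
      rw [hε]
      exact Ideal.mem_sup_right (Ideal.subset_span ⟨l, rfl⟩)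
  obtain ⟨y, hy, z, hz, hyz⟩ := Submodule.mem_sup.mp (hle1 h)
  obtain ⟨w, rfl⟩ := Ideal.mem_span_singleton'.mp hz
  have h1 : p i * (s - w * p i ^ (e - 1)) ∈ Jpow p ε := by
    have : p i * (s - w * p i ^ (e - 1)) = y := by
      obtain ⟨e', rfl⟩ : ∃ e', e = e' + 1 := ⟨e - 1, by omega⟩
      simp only [Nat.add_sub_cancel]
      rw [pow_succ] at hyz
      linear_combination (-1 : S) * hyz
    rw [this]; exact hy
  have h2 := hreg _ h1
  have h3 : s = (s - w * p i ^ (e - 1)) + w * p i ^ (e - 1) := by ring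
  rw [h3]
  have h4 := hle2 h2
  obtain ⟨u, hu, v, hv, huv⟩ := Submodule.mem_sup.mp h4
  rw [← huv]
  have : u + v + w * p i ^ (e - 1) = (u + w * p i ^ (e - 1)) + v := by ring
  rw [this]
  refine Submodule.add_mem_sup (Submodule.add_mem_sup hu ?_) hv
  exact Ideal.mul_mem_left _ _ (Ideal.mem_span_singleton_self _)

end reg

section dimzero

variable {S : Type u} [CommRing S] [IsLocalRing S]

theorem ringKrullDim_quotient_eq_zero {d : ℕ} (p : Fin d → S)
    (hp : Ideal.span (Set.range p) = IsLocalRing.maximalIdeal S) (e : ℕ) (J : Ideal S)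
    (hJ : J ≤ IsLocalRing.maximalIdeal S) (hpow : ∀ l, p l ^ e ∈ J) :
    ringKrullDim (S ⧸ J) = 0 := by
  haveI : Nontrivial (S ⧸ J) := Ideal.Quotient.nontrivial_iff.mpr
    (fun h => (IsLocalRing.maximalIdeal.isMaximal S).ne_top (top_le_iff.mp (h ▸ hJ)))
  rw [← ringKrullDimZero_iff_ringKrullDim_eq_zero,
    Ideal.krullDimLE_zero_quotient_iff_forall_minimalPrimes_isMaximal]
  intro P hP
  have hPprime : P.IsPrime := hP.1.1
  have hle : IsLocalRing.maximalIdeal S ≤ P := by
    rw [← hp, Ideal.span_le]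
    rintro _ ⟨l, rfl⟩
    exact hPprime.mem_of_pow_mem e (hP.1.2 (hpow l))
  have : P = IsLocalRing.maximalIdeal S :=
    ((IsLocalRing.maximalIdeal.isMaximal S).eq_of_le hPprime.ne_top hle).symm
  rw [this]
  exact IsLocalRing.maximalIdeal.isMaximal S

end dimzero

end Groth.Agent.Lib.Helper27.SepF
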