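import Mathlib
import Groth.Prelude.Def_Smoothing
import Groth.Agent.Lib.Helper27.PopG
import Groth.Agent.Lib.Helper27.SepE

/-!
# Generic lemmas for the assembly of the separable residue field case
-/

namespace Groth.Agent.Lib.Helper27.SepH

open Smoothing

universe u

/-- the singular ideal only grows when the base shrinks along a smooth map -/
theorem singularIdeal_le_of_smooth {k R D : Type u} [CommRing k] [CommRing R] [Algebra k R]
    [Algebra.Smooth k R] [CommRing D] [Algebra k D] [Algebra R D] [IsScalarTower k R D]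
    [Algebra.FinitePresentation R D] [Algebra.FinitePresentation k D] :
    singularIdeal R D ≤ singularIdeal k D := by
  intro x hx
  rw [Groth.Agent.Lib.Helper27.PopG.mem_singularIdeal_iff] at hx ⊢
  haveI := hx
  exact Algebra.Smooth.comp k R (Localization.Away x)

/-- descending a resolution over `R` to a resolution over `k` -/
theorem resolvable_descend {k R A C Λ : Type u} [CommRing k] [CommRing R] [Algebra k R]
    [Algebra.Smooth k R] [CommRing A] [Algebra k A]
    [CommRing C] [Algebra R C]
    [CommRing Λ] [Algebra k Λ] [Algebra R Λ] [IsScalarTower k R Λ]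
    (φ : A →ₐ[k] Λ) (ι : A →+* C)
    (hι : ∀ c : k, ι (algebraMap k A c) = algebraMap R C (algebraMap k R c))
    (φC : C →ₐ[R] Λ) (hcomp : ∀ x, φC (ι x) = φ x) (𝔮 : Ideal Λ)
    (hsing : ∀ x ∈ singularIdeal k A, ι x ∈ singularIdeal R C)
    (h : Resolvable R φC 𝔮) : Resolvable k φ 𝔮 := by
  obtain ⟨D, _, _, hfp, g, h', hgh, hle, hnot⟩ := h
  letI : Algebra k D := ((algebraMap R D).comp (algebraMap k R)).toAlgebra
  haveI : IsScalarTower k R D := IsScalarTower.of_algebraMap_eq fun _ => rfl
  haveI : Algebra.FinitePresentation k R := (inferInstance : Algebra.Smooth k R).2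
  haveI : Algebra.FinitePresentation k D := Algebra.FinitePresentation.trans k R D
  let g' : A →ₐ[k] D :=
    { g.toRingHom.comp ι with
      commutes' := fun c => by
        show g (ι (algebraMap k A c)) = algebraMap R D (algebraMap k R c)
        rw [hι, AlgHom.commutes] }
  have hg' : ∀ x, g' x = g (ι x) := fun _ => rfl
  have hmono : singRad R h' ≤ singRad k (h'.restrictScalars k) := by
    unfold singRad
    apply Ideal.radical_mono
    rw [Ideal.map_le_iff_le_comap]
    intro x hx
    exact Ideal.mem_map_of_mem (h'.restrictScalars k) (singularIdeal_le_of_smooth (k := k) hx)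
  refine ⟨D, inferInstance, inferInstance, inferInstance, g', h'.restrictScalars k, ?_, ?_, ?_⟩
  · ext x
    show h' (g (ι x)) = φ x
    rw [← hcomp x, ← hgh]
    rfl
  · refine le_trans ?_ hmono
    refine le_trans ?_ hle
    unfold singRad
    rw [Ideal.radical_le_radical_iff]
    refine le_trans ?_ Ideal.le_radical
    rw [Ideal.map_le_iff_le_comap]
    intro x hx
    rw [Ideal.mem_comap, ← hcomp x]
    exact Ideal.mem_map_of_mem φC (hsing x hx)
  · intro hcon
    exact hnot (le_trans hmono hcon)

/-- the reduction of an algebra map modulo an ideal of the base -/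
theorem exists_quotient_map {R C Λ : Type u} [CommRing R] [CommRing C] [Algebra R C] [CommRing Λ]
    [Algebra R Λ] (φC : C →ₐ[R] Λ) (K : Ideal R) :
    ∃ φK : (C ⧸ K.map (algebraMap R C)) →ₐ[R ⧸ K] (Λ ⧸ K.map (algebraMap R Λ)),
      ∀ a : C, φK (Ideal.Quotient.mk _ a) = Ideal.Quotient.mk _ (φC a) := by
  have hle : K.map (algebraMap R C) ≤ (K.map (algebraMap R Λ)).comap φC.toRingHom := by
    rw [Ideal.map_le_iff_le_comap]
    intro x hx
    rw [Ideal.mem_comap, Ideal.mem_comap]
    have h1 : φC.toRingHom (algebraMap R C x) = algebraMap R Λ x := φC.commutes x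
    rw [h1]
    exact Ideal.mem_map_of_mem _ hx
  refine ⟨{ Ideal.quotientMap (K.map (algebraMap R Λ)) φC.toRingHom hle with
    commutes' := ?_ }, fun a => rfl⟩
  intro x
  obtain ⟨y, rfl⟩ := Ideal.Quotient.mk_surjective x
  show Ideal.quotientMap (K.map (algebraMap R Λ)) φC.toRingHom hle
    (Ideal.Quotient.mk _ (algebraMap R C y)) = Ideal.Quotient.mk _ (algebraMap R Λ y)
  rw [Ideal.quotientMap_mk]
  congr 1
  exact φC.commutes y

/-- a power of a minimal prime lies in the ideal, locally -/
theorem exists_pow_le {Λ : Type u} [CommRing Λ] [IsNoetherianRing Λ] (I 𝔮 : Ideal Λ) [𝔮.IsPrime]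
    (hmin : 𝔮 ∈ I.minimalPrimes) :
    ∃ n : ℕ, 0 < n ∧ (𝔮 ^ n).map (algebraMap Λ (Localization.AtPrime 𝔮)) ≤
      I.map (algebraMap Λ (Localization.AtPrime 𝔮)) := by
  let S := Localization.AtPrime 𝔮
  have hrad : IsLocalRing.maximalIdeal S ≤ (I.map (algebraMap Λ S)).radical := by
    rw [Ideal.radical_eq_sInf]
    refine le_sInf ?_
    rintro P ⟨hIP, hP⟩
    have hP' : (P.comap (algebraMap Λ S)).IsPrime := Ideal.comap_isPrime _ _
    have h1 : I ≤ P.comap (algebraMap Λ S) := Ideal.map_le_iff_le_comap.mp hIP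
    have h2 : P.comap (algebraMap Λ S) ≤ 𝔮 := by
      intro x hx
      by_contra hx𝔮
      have hu : IsUnit (algebraMap Λ S x) :=
        IsLocalization.map_units S (⟨x, hx𝔮⟩ : 𝔮.primeCompl)
      exact hP.ne_top (Ideal.eq_top_of_isUnit_mem _ hx hu)
    have h3 : 𝔮 ≤ P.comap (algebraMap Λ S) := hmin.2 ⟨hP', h1⟩ h2
    rw [← Localization.AtPrime.map_eq_maximalIdeal, Ideal.map_le_iff_le_comap]
    exact h3
  obtain ⟨n, hn⟩ := Ideal.exists_radical_pow_le_of_fg (I.map (algebraMap Λ S))
    (IsNoetherian.noetherian _)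
  refine ⟨n + 1, Nat.succ_pos n, ?_⟩
  rw [Ideal.map_pow, Localization.AtPrime.map_eq_maximalIdeal]
  refine le_trans ?_ hn
  refine le_trans (Ideal.pow_le_pow_right (Nat.le_succ n)) ?_
  exact Ideal.pow_right_mono hrad n

end Groth.Agent.Lib.Helper27.SepH
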