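import Mathlib
import Groth.Prelude.Def_Smoothing
import Groth.Agent.Lib.Helper27.PopG

/-!
# Base change of the singular ideal along surjections, and related transport lemmas
-/

namespace Groth.Agent.Lib.Helper27.DesG

open Smoothing TensorProduct

universe u

/-- Smoothness is preserved by base change along a surjection `R → R'` with `A' = A / (ker) A`. -/
theorem map_mem_singularIdeal {R A R' A' : Type u} [CommRing R] [CommRing A] [Algebra R A]
    [Algebra.FinitePresentation R A] [CommRing R'] [CommRing A'] [Algebra R' A']
    [Algebra.FinitePresentation R' A'] (pR : R →+* R') (pA : A →+* A')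
    (hpR : Function.Surjective pR) (hpA : Function.Surjective pA)
    (hc : ∀ r, pA (algebraMap R A r) = algebraMap R' A' (pR r))
    (hker : RingHom.ker pA = (RingHom.ker pR).map (algebraMap R A)) (a : A)
    (ha : a ∈ singularIdeal R A) : pA a ∈ singularIdeal R' A' := by
  rw [PopG.mem_singularIdeal_iff] at ha ⊢
  haveI : Algebra.FormallySmooth R (Localization.Away a) := ha.1
  refine ⟨?_, inferInstance⟩
  refine Algebra.FormallySmooth.of_comp_surjective fun T _ _ I hI f => ?_
  letI : Algebra R T := ((algebraMap R' T).comp pR).toAlgebra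
  have hRT : ∀ r : R, algebraMap R T r = algebraMap R' T (pR r) := fun r => rfl
  -- the map between the localizations
  have hunit : IsUnit (((algebraMap A' (Localization.Away (pA a))).comp pA) a) := by
    show IsUnit (algebraMap A' (Localization.Away (pA a)) (pA a))
    exact IsLocalization.Away.algebraMap_isUnit _
  let ℓ : Localization.Away a →+* Localization.Away (pA a) :=
    IsLocalization.Away.lift a hunit
  have hℓ : ∀ x : A, ℓ (algebraMap A (Localization.Away a) x) =
      algebraMap A' (Localization.Away (pA a)) (pA x) := fun x =>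
    IsLocalization.Away.lift_eq a hunit x
  let f₀ : Localization.Away a →ₐ[R] T ⧸ I :=
    { toRingHom := (f : Localization.Away (pA a) →+* T ⧸ I).comp ℓ
      commutes' := by
        intro r
        show f (ℓ (algebraMap R (Localization.Away a) r)) = _
        rw [IsScalarTower.algebraMap_apply R A (Localization.Away a), hℓ, hc,
          ← IsScalarTower.algebraMap_apply R' A' (Localization.Away (pA a)), AlgHom.commutes]
        rfl }
  obtain ⟨F, hF⟩ := Algebra.FormallySmooth.comp_surjective R (Localization.Away a) I hI f₀
  have hF' : ∀ x, Ideal.Quotient.mk I (F x) = f (ℓ x) := fun x => DFunLike.congr_fun hF x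
  -- descend to `A'`
  have hle : RingHom.ker pA ≤
      RingHom.ker ((F : Localization.Away a →+* T).comp (algebraMap A (Localization.Away a))) := by
    rw [hker, Ideal.map_le_iff_le_comap]
    intro k hk
    show F (algebraMap A (Localization.Away a) (algebraMap R A k)) = 0
    rw [← IsScalarTower.algebraMap_apply R A (Localization.Away a), AlgHom.commutes, hRT,
      (RingHom.mem_ker).mp hk, map_zero]
  let G₀ : A' →+* T := RingHom.liftOfSurjective pA hpA ⟨_, hle⟩
  have hG₀ : ∀ x : A, G₀ (pA x) = F (algebraMap A (Localization.Away a) x) := fun x =>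
    RingHom.liftOfRightInverse_comp_apply _ _ _ ⟨_, hle⟩ x
  have hunit' : IsUnit (G₀ (pA a)) := by
    rw [hG₀]
    exact (IsLocalization.Away.algebraMap_isUnit (S := Localization.Away a) a).map F
  let F' : Localization.Away (pA a) →+* T := IsLocalization.Away.lift (pA a) hunit'
  have hF'eq : ∀ y : A', F' (algebraMap A' (Localization.Away (pA a)) y) = G₀ y := fun y =>
    IsLocalization.Away.lift_eq (pA a) hunit' y
  let F'' : Localization.Away (pA a) →ₐ[R'] T :=
    { toRingHom := F'
      commutes' := by
        intro r'
        obtain ⟨r, rfl⟩ := hpR r'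
        show F' (algebraMap R' (Localization.Away (pA a)) (pR r)) = _
        rw [IsScalarTower.algebraMap_apply R' A' (Localization.Away (pA a)), ← hc, hF'eq, hG₀,
          ← IsScalarTower.algebraMap_apply R A (Localization.Away a), AlgHom.commutes, hRT] }
  refine ⟨F'', ?_⟩
  apply AlgHom.coe_ringHom_injective
  refine IsLocalization.ringHom_ext (Submonoid.powers (pA a)) ?_
  ext y
  obtain ⟨x, rfl⟩ := hpA y
  show Ideal.Quotient.mk I (F' (algebraMap A' (Localization.Away (pA a)) (pA x))) =
    f (algebraMap A' (Localization.Away (pA a)) (pA x))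
  rw [hF'eq, hG₀, hF', hℓ]

lemma ker_includeRight {R A : Type*} [CommRing R] [CommRing A] [Algebra R A] (I : Ideal R) (a : A)
    (h : (1 : R ⧸ I) ⊗ₜ[R] a = 0) : a ∈ I.map (algebraMap R A) := by
  have h1 := congrArg (TensorProduct.quotTensorEquivQuotSMul A I) h
  rw [TensorProduct.quotTensorEquivQuotSMul_mk_one_tmul, map_zero,
    Submodule.Quotient.mk_eq_zero, Ideal.smul_top_eq_map] at h1
  exact h1

lemma exists_one_tmul {R A : Type*} [CommRing R] [CommRing A] [Algebra R A] (I : Ideal R)
    (x : (R ⧸ I) ⊗[R] A) : ∃ a : A, x = (1 : R ⧸ I) ⊗ₜ[R] a := by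
  induction x using TensorProduct.induction_on with
  | zero => exact ⟨0, by simp⟩
  | tmul r a =>
    obtain ⟨r, rfl⟩ := Ideal.Quotient.mk_surjective r
    refine ⟨r • a, ?_⟩
    rw [← TensorProduct.smul_tmul, ← Ideal.Quotient.algebraMap_eq, Algebra.algebraMap_eq_smul_one]
  | add x y hx hy =>
    obtain ⟨a, rfl⟩ := hx
    obtain ⟨b, rfl⟩ := hy
    exact ⟨a + b, by rw [TensorProduct.tmul_add]⟩

/-- Changing the base along a bijection does not shrink the singular ideal. -/
lemma singularIdeal_le_of_bijective {R₀ R' B : Type u} [CommRing R₀] [CommRing R'] [CommRing B]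
    [Algebra R₀ R'] [Algebra R' B] [Algebra R₀ B] [IsScalarTower R₀ R' B]
    (hbij : Function.Bijective (algebraMap R₀ R')) :
    singularIdeal R' B ≤ singularIdeal R₀ B := by
  intro x hx
  unfold singularIdeal at hx ⊢
  rw [PrimeSpectrum.mem_vanishingIdeal] at hx ⊢
  intro Q hQ
  apply hx Q
  intro hsm
  apply hQ
  haveI : Algebra.FormallySmooth R' (Localization.AtPrime Q.asIdeal) := hsm
  haveI : Algebra.FormallySmooth R₀ R' :=
    Algebra.FormallySmooth.of_equiv (AlgEquiv.ofBijective (Algebra.ofId R₀ R') hbij)
  haveI : IsScalarTower R₀ R' (Localization.AtPrime Q.asIdeal) :=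
    IsScalarTower.of_algebraMap_eq fun r => by
      rw [IsScalarTower.algebraMap_apply R₀ B (Localization.AtPrime Q.asIdeal),
        IsScalarTower.algebraMap_apply R₀ R' B,
        ← IsScalarTower.algebraMap_apply R' B (Localization.AtPrime Q.asIdeal)]
  exact Algebra.FormallySmooth.comp R₀ R' (Localization.AtPrime Q.asIdeal)

end Groth.Agent.Lib.Helper27.DesG
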