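import Mathlib
import Groth.Prelude.Def_Smoothing
import Groth.Agent.Lib.Helper19.ElemStdPerm
import Groth.Agent.S2030

/-!
# Strictly standard elements from presentations indexed by arbitrary finite types
-/

namespace Groth.Agent.Lib.Helper27.PopI

open MvPolynomial Smoothing

universe u

variable {R B : Type u} [CommRing R] [CommRing B] [Algebra R B]

theorem isStrictlyStandard_of_fintype {V T W : Type} [Fintype V] [Fintype T] [Fintype W]
    [DecidableEq W]
    (f : T → MvPolynomial V R) (φ : MvPolynomial V R →ₐ[R] B) (hφ : Function.Surjective φ)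
    (hker : RingHom.ker φ.toRingHom = Ideal.span (Set.range f))
    (rows : W ↪ T) (hcn : Fintype.card W ≤ Fintype.card V) (a : B)
    (ha : a ∈ Ideal.span (Set.range fun cols : W → V =>
      φ (Matrix.det (Matrix.of fun j k : W => pderiv (cols k) (f (rows j))))))
    (htail : ∀ a₁ : MvPolynomial V R, φ a₁ = a → ∀ ℓ : T,
      a₁ * f ℓ ∈ Ideal.span (Set.range (f ∘ rows)) ⊔ Ideal.span (Set.range f) ^ 2) :
    IsStrictlyStandard R B a := by
  classical
  let eV : V ≃ Fin (Fintype.card V) := Fintype.equivFin V
  let eT : T ≃ Fin (Fintype.card T) := Fintype.equivFin T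
  let eW : W ≃ Fin (Fintype.card W) := Fintype.equivFin W
  have hcm : Fintype.card W ≤ Fintype.card T := Fintype.card_le_of_embedding rows
  obtain ⟨τ, hτ⟩ := Groth.Agent.Lib.Helper19.ElemStdPerm.exists_perm_castLE hcm
    (eW.symm.toEmbedding.trans (rows.trans eT.toEmbedding))
  let E : MvPolynomial V R ≃ₐ[R] MvPolynomial (Fin (Fintype.card V)) R := renameEquiv R eV
  have hE : ∀ p, E p = rename eV p := fun p => rfl
  let Er : MvPolynomial V R →+* MvPolynomial (Fin (Fintype.card V)) R := E.toAlgHom.toRingHom
  have hEr : ∀ p, Er p = E p := fun p => rfl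
  let f' : Fin (Fintype.card T) → MvPolynomial (Fin (Fintype.card V)) R :=
    fun j => E (f (eT.symm (τ j)))
  have hf'lead : ∀ k : Fin (Fintype.card W),
      f' (Fin.castLE hcm k) = E (f (rows (eW.symm k))) := by
    intro k
    simp only [f', hτ k, Function.Embedding.trans_apply, Equiv.coe_toEmbedding,
      Equiv.symm_apply_apply]
  have hrange : Set.range f' = E '' Set.range f := by
    ext x; constructor
    · rintro ⟨j, rfl⟩; exact ⟨_, ⟨eT.symm (τ j), rfl⟩, rfl⟩
    · rintro ⟨_, ⟨ℓ, rfl⟩, rfl⟩; exact ⟨τ.symm (eT ℓ), by simp [f']⟩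
  have hspan : Ideal.span (Set.range f') = (Ideal.span (Set.range f)).map Er := by
    rw [Ideal.map_span, hrange]; rfl
  let P : MarkedPresentation R B :=
    { n := Fintype.card V, m := Fintype.card T, c := Fintype.card W, hcn := hcn, hcm := hcm
      rel := f'
      hom := φ.comp E.symm.toAlgHom
      surj := hφ.comp E.symm.surjective
      ker_eq := by
        rw [hspan, ← hker]
        ext x
        constructor
        · intro hx
          have h1 : E.symm x ∈ RingHom.ker φ.toRingHom := hx
          have h2 := Ideal.mem_map_of_mem Er h1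
          rw [hEr, AlgEquiv.apply_symm_apply] at h2
          exact h2
        · intro hx
          rw [Ideal.mem_map_iff_of_surjective Er E.surjective] at hx
          obtain ⟨y, hy, rfl⟩ := hx
          show φ (E.symm (E y)) = 0
          rw [AlgEquiv.symm_apply_apply]
          exact hy }
  refine ⟨P, ?_, ?_⟩
  · refine Ideal.span_mono ?_ ha
    rintro _ ⟨cols, rfl⟩
    refine ⟨fun k => eV (cols (eW.symm k)), ?_⟩
    show φ (E.symm (jacobianMinor f' _ _)) = _
    congr 1
    rw [AlgEquiv.symm_apply_eq]
    unfold jacobianMinor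
    rw [AlgEquiv.map_det, ← Matrix.det_reindex_self eW]
    congr 1
    ext j k
    simp only [Matrix.of_apply, Matrix.reindex_apply, Matrix.submatrix_apply,
      AlgEquiv.mapMatrix_apply, Matrix.map_apply, hf'lead, hE]
    rw [pderiv_rename eV.injective]
  · intro a₁ ha₁ j hj
    have h1 := htail (E.symm a₁) ha₁ (eT.symm (τ j))
    have h2 := Ideal.mem_map_of_mem Er h1
    rw [Ideal.map_sup, Ideal.map_pow, Ideal.map_span, Ideal.map_span] at h2
    have h3 : Er (E.symm a₁ * f (eT.symm (τ j))) = a₁ * f' j := by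
      rw [hEr]; simp [f']
    rw [h3] at h2
    obtain ⟨y, hy, z, hz, hyz⟩ := Submodule.mem_sup.mp h2
    rw [← hyz]
    refine add_mem (Ideal.mem_sup_left (Ideal.span_mono ?_ hy))
      (Ideal.mem_sup_right (Ideal.pow_right_mono (Ideal.span_mono ?_) 2 hz))
    · rintro _ ⟨_, ⟨w, rfl⟩, rfl⟩
      refine ⟨Fin.castLE hcm (eW w), ?_, ?_⟩
      · show ((Fin.castLE hcm (eW w) : Fin (Fintype.card T)) : ℕ) < Fintype.card W
        simp
      · show f' (Fin.castLE hcm (eW w)) = _
        rw [hf'lead]
        simp [hEr]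
    · rintro _ ⟨_, ⟨ℓ', rfl⟩, rfl⟩
      refine ⟨τ.symm (eT ℓ'), ?_⟩
      show f' (τ.symm (eT ℓ')) = Er (f ℓ')
      simp [f', hEr]

/-- A strictly standard element lies in the singular ideal, and the algebra is smooth at the
primes not containing it. -/
theorem isSmoothAt_of_isStrictlyStandard {a : B} (ha : IsStrictlyStandard R B a) (Q : Ideal B)
    [Q.IsPrime] (hQ : a ∉ Q) : Algebra.IsSmoothAt R Q := by
  obtain ⟨P, -, -⟩ := id ha
  haveI : Algebra.FinitePresentation R B :=
    Algebra.FinitePresentation.of_surjective P.surj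
      (by rw [P.ker_eq]; exact Submodule.fg_span (Set.finite_range _))
  have hsm : Algebra.Smooth R (Localization.Away a) := (Groth.Agent.S2030.result a ha).1
  have hsub := (Algebra.basicOpen_subset_smoothLocus_iff_smooth (R := R) (A := B) (f := a)).mpr hsm
  exact hsub (show (⟨Q, inferInstance⟩ : PrimeSpectrum B) ∈ PrimeSpectrum.basicOpen a from hQ)

end Groth.Agent.Lib.Helper27.PopI
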