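import Mathlib

/-!
# Algebraic lemmas for the lifting lemma
-/

namespace Groth.Agent.Lib.Helper27.PopJ

open MvPolynomial

universe u

/-- Determinant trick: if `a₁ I ⊆ I_E + I²` with `I = (f_1, …, f_m)`, then some `d ≡ a₁^m mod I`
satisfies `d I ⊆ I_E`. -/
theorem det_trick {P : Type u} [CommRing P] {m : ℕ} (f : Fin m → P) (IE : Ideal P) (a₁ : P)
    (h : ∀ ℓ, a₁ * f ℓ ∈ IE ⊔ Ideal.span (Set.range f) ^ 2) :
    ∃ d : P, d - a₁ ^ m ∈ Ideal.span (Set.range f) ∧ ∀ ℓ, d * f ℓ ∈ IE := by
  classical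
  have hex : ∀ ℓ, ∃ (e : P) (b : Fin m → P), e ∈ IE ∧ (∀ j, b j ∈ Ideal.span (Set.range f)) ∧
      a₁ * f ℓ = e + ∑ j, b j * f j := by
    intro ℓ
    obtain ⟨e, he, q, hq, heq⟩ := Submodule.mem_sup.mp (h ℓ)
    rw [pow_two] at hq
    have hq' : q ∈ Ideal.span (Set.range f) • (Submodule.span P (Set.range f)) := hq
    rw [Submodule.mem_ideal_smul_span_iff_exists_sum] at hq'
    obtain ⟨b, hb, hsum⟩ := hq'
    refine ⟨e, fun j => b j, he, fun j => hb j, ?_⟩
    rw [← heq, ← hsum, Finsupp.sum_fintype]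
    · simp [smul_eq_mul]
    · intro i; simp
  choose e b he hb hab using hex
  let W : Matrix (Fin m) (Fin m) P := Matrix.of fun ℓ j => (if ℓ = j then a₁ else 0) - b ℓ j
  have hWf : W.mulVec f = e := by
    funext ℓ
    simp only [Matrix.mulVec, dotProduct, W, Matrix.of_apply, sub_mul, Finset.sum_sub_distrib]
    rw [Finset.sum_eq_single ℓ]
    · simp only [if_true]
      rw [hab ℓ]; ring
    · intro j _ hj
      rw [if_neg (Ne.symm hj), zero_mul]
    · intro h; exact absurd (Finset.mem_univ ℓ) h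
  refine ⟨W.det, ?_, ?_⟩
  · rw [← Ideal.Quotient.eq]
    have h1 : Ideal.Quotient.mk (Ideal.span (Set.range f)) W.det =
        ((Ideal.Quotient.mk (Ideal.span (Set.range f))).mapMatrix W).det :=
      RingHom.map_det _ _
    have h2 : (Ideal.Quotient.mk (Ideal.span (Set.range f))).mapMatrix W =
        (Ideal.Quotient.mk (Ideal.span (Set.range f)) a₁) • (1 : Matrix (Fin m) (Fin m) _) := by
      ext ℓ j
      simp only [RingHom.mapMatrix_apply, Matrix.map_apply, W, Matrix.of_apply, map_sub,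
        Matrix.smul_apply, Matrix.one_apply, smul_eq_mul]
      rw [Ideal.Quotient.eq_zero_iff_mem.mpr (hb ℓ j), sub_zero]
      split_ifs <;> simp
    rw [h1, h2, Matrix.det_smul, Matrix.det_one, mul_one, Fintype.card_fin, map_pow]
  · intro ℓ
    have h1 : W.det • f = W.adjugate.mulVec e := by
      rw [← hWf, Matrix.mulVec_mulVec, Matrix.adjugate_mul, Matrix.smul_mulVec, Matrix.one_mulVec]
    have h2 := congrFun h1 ℓ
    simp only [Pi.smul_apply, smul_eq_mul] at h2
    rw [h2]
    simp only [Matrix.mulVec, dotProduct]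
    exact Ideal.sum_mem _ fun j _ => Ideal.mul_mem_left _ _ (he j)

/-- In a flat module, `π²`-torsion is `π`-torsion if this holds in the ring. -/
theorem smul_eq_zero_of_flat {R M : Type u} [CommRing R] [AddCommGroup M] [Module R M]
    [Module.Flat R M] (π : R) (hR : ∀ r : R, π ^ 2 * r = 0 → π * r = 0) (x : M)
    (hx : π ^ 2 • x = 0) : π • x = 0 := by
  have hsum : ∑ i : Fin 1, (fun _ : Fin 1 => π ^ 2) i • (fun _ : Fin 1 => x) i = 0 := by
    simpa using hx
  obtain ⟨k, a, y, h1, h2⟩ := Module.Flat.isTrivialRelation_of_sum_smul_eq_zero hsum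
  have hx' := h1 0
  simp only at hx'
  rw [hx', Finset.smul_sum]
  refine Finset.sum_eq_zero fun j _ => ?_
  have h3 := h2 j
  simp only [Fin.sum_univ_one] at h3
  rw [smul_smul, hR _ h3, zero_smul]

/-- Differentiating a relation `Σ w_j F_j = π² G` and multiplying by the adjugate of the Jacobian
matrix. -/
theorem det_mul_mem {R : Type u} [CommRing R] {n c : ℕ} (π : R)
    (F : Fin c → MvPolynomial (Fin n) R) (cols : Fin c → Fin n) (w : Fin c → MvPolynomial (Fin n) R)
    (G : MvPolynomial (Fin n) R) (hw : ∑ j, w j * F j = C (π ^ 2) * G)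
    (IR : Ideal (MvPolynomial (Fin n) R)) (hF : ∀ j, F j ∈ IR) (hπ : C (π ^ 2) ∈ IR) (j : Fin c) :
    Matrix.det (Matrix.of fun j i : Fin c => pderiv (cols i) (F j)) * w j ∈ IR := by
  classical
  set M : Matrix (Fin c) (Fin c) (MvPolynomial (Fin n) R) :=
    Matrix.of fun j i : Fin c => pderiv (cols i) (F j) with hM
  have h1 : ∀ i, Matrix.vecMul w M i ∈ IR := by
    intro i
    have hd := congrArg (pderiv (cols i)) hw
    rw [map_sum, pderiv_C_mul] at hd
    simp only [pderiv_mul] at hd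
    rw [Finset.sum_add_distrib] at hd
    have h2 : Matrix.vecMul w M i = C (π ^ 2) * pderiv (cols i) G -
        ∑ j, pderiv (cols i) (w j) * F j := by
      simp only [Matrix.vecMul, dotProduct, hM, Matrix.of_apply]
      rw [← hd]; ring
    rw [h2]
    exact sub_mem (Ideal.mul_mem_right _ _ hπ)
      (Ideal.sum_mem _ fun j _ => Ideal.mul_mem_left _ _ (hF j))
  have h3 : M.det • w = Matrix.vecMul (Matrix.vecMul w M) M.adjugate := by
    rw [Matrix.vecMul_vecMul, Matrix.mul_adjugate, Matrix.vecMul_smul, Matrix.vecMul_one]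
  have h4 := congrFun h3 j
  simp only [Pi.smul_apply, smul_eq_mul] at h4
  rw [h4]
  simp only [Matrix.vecMul, dotProduct]
  exact Ideal.sum_mem _ fun i _ => Ideal.mul_mem_right _ _ (h1 i)

end Groth.Agent.Lib.Helper27.PopJ
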