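import Mathlib
import Groth.Prelude.Def_Smoothing
import Groth.Agent.Lib.Helper27.PopI
import Groth.Agent.Lib.Helper27.PopJ

/-!
# The algebra `D` of the lifting lemma and its smoothness properties
-/

namespace Groth.Agent.Lib.Helper27.PopK

open MvPolynomial Smoothing

universe u

lemma pderiv_inr_rename_inl {R : Type u} [CommRing R] {n m : ℕ} (k : Fin m)
    (p : MvPolynomial (Fin n) R) :
    pderiv (Sum.inr k) (rename (Sum.inl : Fin n → Fin n ⊕ Fin m) p) = 0 := by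
  classical
  induction p using MvPolynomial.induction_on with
  | C a => simp
  | add p q hp hq => simp [hp, hq]
  | mul_X p j hp =>
    rw [map_mul, rename_X, pderiv_mul, hp, pderiv_X_of_ne Sum.inl_ne_inr]
    ring

lemma pderiv_inl_rename_inl {R : Type u} [CommRing R] {n m : ℕ} (i : Fin n)
    (p : MvPolynomial (Fin n) R) :
    pderiv (Sum.inl i) (rename (Sum.inl : Fin n → Fin n ⊕ Fin m) p) =
      rename Sum.inl (pderiv i p) :=
  pderiv_rename Sum.inl_injective i p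

/-- The data of the lifting lemma. -/
structure Data (R : Type u) [CommRing R] (n m r : ℕ) where
  π : R
  f : Fin m → MvPolynomial (Fin n) R
  a : Fin r → MvPolynomial (Fin n) R
  c : Fin r → ℕ
  rows : ∀ k, Fin (c k) ↪ Fin m
  cols : ∀ k, Fin (c k) ↪ Fin n
  h : ∀ k, Fin m → Fin (c k) → MvPolynomial (Fin n) R
  g : Fin r → Fin m → MvPolynomial (Fin n) R
  hrel : ∀ k ℓ, a k * f ℓ = ∑ j, h k ℓ j * f (rows k j) + C (π ^ 2) * g k ℓ
  hspec : ∀ k ℓ, ℓ ∈ Set.range (rows k) →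
    rename Sum.inl (a k) * X (Sum.inr ℓ) -
      ∑ j, rename Sum.inl (h k ℓ j) * X (Sum.inr (rows k j)) -
      C π * rename Sum.inl (g k ℓ) = (0 : MvPolynomial (Fin n ⊕ Fin m) R)

namespace Data

variable {R : Type u} [CommRing R] {n m r : ℕ} (d : Data R n m r)

/-- inclusion of `R[x]` in `R[x, z]` -/
noncomputable def ι : MvPolynomial (Fin n) R →ₐ[R] MvPolynomial (Fin n ⊕ Fin m) R :=
  rename Sum.inl

noncomputable def Frel (j : Fin m) : MvPolynomial (Fin n ⊕ Fin m) R :=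
  ι (m := m) (d.f j) - C d.π * X (Sum.inr j)

noncomputable def prel (k : Fin r) (ℓ : Fin m) : MvPolynomial (Fin n ⊕ Fin m) R :=
  ι (m := m) (d.a k) * X (Sum.inr ℓ) -
    ∑ j, ι (m := m) (d.h k ℓ j) * X (Sum.inr (d.rows k j)) - C d.π * ι (m := m) (d.g k ℓ)

noncomputable def rel : Fin m ⊕ (Fin r × Fin m) → MvPolynomial (Fin n ⊕ Fin m) R :=
  Sum.elim d.Frel (fun kl => d.prel kl.1 kl.2)

noncomputable def J : Ideal (MvPolynomial (Fin n ⊕ Fin m) R) := Ideal.span (Set.range d.rel)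

lemma Frel_mem (j : Fin m) : d.Frel j ∈ d.J := Ideal.subset_span ⟨Sum.inl j, rfl⟩

lemma prel_mem (k : Fin r) (ℓ : Fin m) : d.prel k ℓ ∈ d.J := Ideal.subset_span ⟨Sum.inr (k, ℓ), rfl⟩

lemma prel_spec (k : Fin r) (ℓ : Fin m) (hℓ : ℓ ∈ Set.range (d.rows k)) : d.prel k ℓ = 0 :=
  d.hspec k ℓ hℓ

lemma sum_h_Frel (k : Fin r) (ℓ : Fin m) :
    ∑ j, ι (m := m) (d.h k ℓ j) * d.Frel (d.rows k j) =
      ∑ j, ι (m := m) (d.h k ℓ j) * ι (m := m) (d.f (d.rows k j)) -
        C d.π * ∑ j, ι (m := m) (d.h k ℓ j) * X (Sum.inr (d.rows k j)) := by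
  simp only [Frel, mul_sub, Finset.sum_sub_distrib, Finset.mul_sum]
  congr 1
  exact Finset.sum_congr rfl fun j _ => by ring

lemma ι_hrel (k : Fin r) (ℓ : Fin m) :
    ι (m := m) (d.a k) * ι (m := m) (d.f ℓ) =
      ∑ j, ι (m := m) (d.h k ℓ j) * ι (m := m) (d.f (d.rows k j)) +
        C d.π ^ 2 * ι (m := m) (d.g k ℓ) := by
  have h0 := congrArg (ι (m := m)) (d.hrel k ℓ)
  simp only [map_mul, map_add, map_sum] at h0
  rw [h0]
  simp [ι]

/-- (E1) -/
lemma C_mul_prel (k : Fin r) (ℓ : Fin m) :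
    C d.π * d.prel k ℓ =
      -(ι (m := m) (d.a k) * d.Frel ℓ) + ∑ j, ι (m := m) (d.h k ℓ j) * d.Frel (d.rows k j) := by
  rw [d.sum_h_Frel]
  have h0 := d.ι_hrel k ℓ
  simp only [prel, Frel]
  linear_combination h0

/-- (b): a power of `π` is strictly standard in `D`. -/
theorem isStrictlyStandard_pi :
    IsStrictlyStandard R (MvPolynomial (Fin n ⊕ Fin m) R ⧸ d.J)
      (Ideal.Quotient.mk d.J (C d.π ^ (m + 1))) := by
  classical
  refine PopI.isStrictlyStandard_of_fintype d.rel (Ideal.Quotient.mkₐ R d.J)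
    (Ideal.Quotient.mkₐ_surjective R d.J) ?_ (⟨Sum.inl, Sum.inl_injective⟩ : Fin m ↪ _) (by simp)
    _ ?_ ?_
  · ext p
    rw [RingHom.mem_ker]
    exact Ideal.Quotient.eq_zero_iff_mem
  · have hdet : Matrix.det (Matrix.of fun j k : Fin m =>
        pderiv (Sum.inr k : Fin n ⊕ Fin m) (d.rel (Sum.inl j))) =
          (-C d.π : MvPolynomial (Fin n ⊕ Fin m) R) ^ m := by
      have hM : (Matrix.of fun j k : Fin m =>
          pderiv (Sum.inr k : Fin n ⊕ Fin m) (d.rel (Sum.inl j))) =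
          (-C d.π : MvPolynomial (Fin n ⊕ Fin m) R) •
            (1 : Matrix (Fin m) (Fin m) (MvPolynomial (Fin n ⊕ Fin m) R)) := by
        ext j k
        simp only [rel, Sum.elim_inl, Frel, ι, Matrix.of_apply, map_sub, pderiv_inr_rename_inl,
          pderiv_C_mul, zero_sub, Matrix.smul_apply, Matrix.one_apply, smul_eq_mul]
        by_cases hjk : j = k
        · subst hjk; simp
        · rw [if_neg hjk, pderiv_X_of_ne (fun h' => hjk (Sum.inr_injective h'))]
          simp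
      rw [hM, Matrix.det_smul, Matrix.det_one, mul_one, Fintype.card_fin]
    have hmem : (Ideal.Quotient.mkₐ R d.J) (Matrix.det (Matrix.of fun j k : Fin m =>
        pderiv (Sum.inr k : Fin n ⊕ Fin m) (d.rel (Sum.inl j)))) ∈
        Ideal.span (Set.range fun cols : Fin m → Fin n ⊕ Fin m =>
          (Ideal.Quotient.mkₐ R d.J) (Matrix.det (Matrix.of fun j k : Fin m =>
            pderiv (cols k) (d.rel ((⟨Sum.inl, Sum.inl_injective⟩ : Fin m ↪ _) j))))) :=
      Ideal.subset_span ⟨Sum.inr, rfl⟩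
    rw [hdet] at hmem
    have heq : Ideal.Quotient.mk d.J (C d.π ^ (m + 1)) =
        Ideal.Quotient.mk d.J ((-1) ^ m * C d.π) * (Ideal.Quotient.mkₐ R d.J) ((-C d.π) ^ m) := by
      show _ = Ideal.Quotient.mk d.J _ * Ideal.Quotient.mk d.J _
      rw [← map_mul]
      congr 1
      have h1 : ((-1 : MvPolynomial (Fin n ⊕ Fin m) R)) ^ m * (-1) ^ m = 1 := by
        rw [← mul_pow]; simp
      calc C d.π ^ (m + 1) = ((-1) ^ m * (-1) ^ m) * C d.π ^ (m + 1) := by rw [h1, one_mul]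
        _ = (-1) ^ m * C d.π * (-C d.π) ^ m := by rw [neg_pow (C d.π) m]; ring
    rw [heq]
    exact Ideal.mul_mem_left _ _ hmem
  · intro a₁ ha₁ t
    have hdiff : a₁ - C d.π ^ (m + 1) ∈ d.J := Ideal.Quotient.eq.mp ha₁
    have hrelJ : d.rel t ∈ Ideal.span (Set.range d.rel) := Ideal.subset_span ⟨t, rfl⟩
    have hsplit : a₁ * d.rel t = (a₁ - C d.π ^ (m + 1)) * d.rel t + C d.π ^ (m + 1) * d.rel t := by
      ring
    rw [hsplit]
    refine add_mem (Ideal.mem_sup_right (by rw [pow_two]; exact Ideal.mul_mem_mul hdiff hrelJ))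
      (Ideal.mem_sup_left ?_)
    rcases t with j | ⟨k, ℓ⟩
    · exact Ideal.mul_mem_left _ _ (Ideal.subset_span ⟨j, rfl⟩)
    · show C d.π ^ (m + 1) * d.prel k ℓ ∈ _
      rw [pow_succ, mul_assoc, d.C_mul_prel]
      refine Ideal.mul_mem_left _ _ (add_mem (neg_mem (Ideal.mul_mem_left _ _ ?_))
        (Ideal.sum_mem _ fun j _ => Ideal.mul_mem_left _ _ ?_))
      · exact Ideal.subset_span ⟨ℓ, rfl⟩
      · exact Ideal.subset_span ⟨d.rows k j, rfl⟩

end Data

end Groth.Agent.Lib.Helper27.PopK
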