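import Mathlib
import Groth.Prelude.Def_Smoothing
import Groth.Agent.Lib.Helper27.PopK

/-!
# The charts of the algebra `D` of the lifting lemma (part (c))
-/

namespace Groth.Agent.Lib.Helper27.PopK

open MvPolynomial Smoothing

universe u

namespace Data

variable {R : Type u} [CommRing R] {n m r : ℕ} (d : Data R n m r) (k : Fin r)

/-- the relations not among the leading ones of chart `k` -/
def Wc : Type := {ℓ : Fin m // ℓ ∉ Set.range (d.rows k)}

noncomputable instance : Fintype (d.Wc k) := by unfold Wc; exact Fintype.ofFinite _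
noncomputable instance : DecidableEq (d.Wc k) := Classical.decEq _

/-- index type of the leading relations in chart `k` -/
abbrev W : Type := Fin (d.c k) ⊕ d.Wc k

def rowsW : d.W k ↪ Fin m ⊕ (Fin r × Fin m) :=
  ⟨Sum.elim (fun j => Sum.inl (d.rows k j)) (fun ℓ => Sum.inr (k, ℓ.1)), by
    rintro (j | ℓ) (j' | ℓ') h
    · simp only [Sum.elim_inl, Sum.inl.injEq] at h
      rw [(d.rows k).injective h]
    · simp at h
    · simp at h
    · simp only [Sum.elim_inr, Sum.inr.injEq, Prod.mk.injEq, true_and] at h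
      exact congrArg _ (Subtype.ext h)⟩

def colsW : d.W k → Fin n ⊕ Fin m :=
  Sum.elim (fun i => Sum.inl (d.cols k i)) (fun ℓ => Sum.inr ℓ.1)

lemma colsW_injective : Function.Injective (d.colsW k) := by
  rintro (j | ℓ) (j' | ℓ') h
  · simp only [colsW, Sum.elim_inl, Sum.inl.injEq] at h
    rw [(d.cols k).injective h]
  · simp [colsW] at h
  · simp [colsW] at h
  · simp only [colsW, Sum.elim_inr, Sum.inr.injEq] at h
    exact congrArg _ (Subtype.ext h)

noncomputable def Δ : MvPolynomial (Fin n) R :=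
  Matrix.det (Matrix.of fun j i : Fin (d.c k) => pderiv (d.cols k i) (d.f (d.rows k j)))

noncomputable def minor : MvPolynomial (Fin n ⊕ Fin m) R :=
  Matrix.det (Matrix.of fun j i : d.W k => pderiv (d.colsW k i) (d.rel (d.rowsW k j)))

lemma pderiv_inr_ι (ℓ : Fin m) (p : MvPolynomial (Fin n) R) :
    pderiv (Sum.inr ℓ) (ι (m := m) p) = 0 := pderiv_inr_rename_inl ℓ p

lemma pderiv_inr_ι_mul_X (ℓ' ℓ : Fin m) (p : MvPolynomial (Fin n) R) :
    pderiv (Sum.inr ℓ') (ι (m := m) p * X (Sum.inr ℓ)) = if ℓ = ℓ' then ι (m := m) p else 0 := by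
  classical
  rw [pderiv_mul, pderiv_inr_ι, zero_mul, zero_add]
  by_cases h : ℓ = ℓ'
  · subst h; simp
  · rw [if_neg h, pderiv_X_of_ne (fun h' => h (Sum.inr_injective h')), mul_zero]

lemma pderiv_inl_X_inr (i : Fin n) (ℓ : Fin m) :
    pderiv (Sum.inl i : Fin n ⊕ Fin m) (X (Sum.inr ℓ) : MvPolynomial (Fin n ⊕ Fin m) R) = 0 := by
  classical
  exact pderiv_X_of_ne Sum.inr_ne_inl

lemma minor_eq : d.minor k = ι (m := m) (d.Δ k) * ι (m := m) (d.a k) ^ Fintype.card (d.Wc k) := by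
  classical
  unfold minor
  set M : Matrix (d.W k) (d.W k) (MvPolynomial (Fin n ⊕ Fin m) R) :=
    Matrix.of fun j i : d.W k => pderiv (d.colsW k i) (d.rel (d.rowsW k j)) with hM
  have h12 : M.toBlocks₁₂ = 0 := by
    ext j ℓ
    simp only [Matrix.toBlocks₁₂, hM, Matrix.of_apply, rowsW, colsW, Function.Embedding.coeFn_mk,
      Sum.elim_inl, Sum.elim_inr, rel, Frel, map_sub, pderiv_inr_ι, pderiv_C_mul, zero_sub,
      Matrix.zero_apply]
    have hne : d.rows k j ≠ ℓ.1 := fun h => ℓ.2 ⟨j, h⟩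
    rw [pderiv_X_of_ne (fun h' => hne (Sum.inr_injective h')), mul_zero, neg_zero]
  have h22 : M.toBlocks₂₂ = ι (m := m) (d.a k) • (1 : Matrix (d.Wc k) (d.Wc k) _) := by
    ext ℓ ℓ'
    simp only [Matrix.toBlocks₂₂, hM, Matrix.of_apply, rowsW, colsW, Function.Embedding.coeFn_mk,
      Sum.elim_inr, rel, prel, map_sub, map_sum, pderiv_inr_ι_mul_X, pderiv_C_mul, pderiv_inr_ι,
      mul_zero, sub_zero, Matrix.smul_apply, Matrix.one_apply, smul_eq_mul]
    have hz : ∑ j, (if d.rows k j = ℓ'.1 then ι (m := m) (d.h k ℓ.1 j) else 0) = 0 :=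
      Finset.sum_eq_zero fun j _ => if_neg fun h => ℓ'.2 ⟨j, h⟩
    rw [hz, sub_zero]
    by_cases h : ℓ = ℓ'
    · subst h; simp
    · rw [if_neg h, if_neg (fun h' => h (Subtype.ext h')), mul_zero]
  have h11 : M.toBlocks₁₁ = (ι (m := m)).toRingHom.mapMatrix
      (Matrix.of fun j i : Fin (d.c k) => pderiv (d.cols k i) (d.f (d.rows k j))) := by
    refine Matrix.ext fun j i => ?_
    simp only [Matrix.toBlocks₁₁, hM, Matrix.of_apply, rowsW, colsW, Function.Embedding.coeFn_mk,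
      Sum.elim_inl, rel, Frel, map_sub, pderiv_C_mul, pderiv_inl_X_inr, mul_zero, sub_zero,
      RingHom.mapMatrix_apply, Matrix.map_apply]
    exact pderiv_inl_rename_inl _ _
  rw [← Matrix.fromBlocks_toBlocks M, h12, Matrix.det_fromBlocks_zero₁₂, h11, h22, Matrix.det_smul,
    Matrix.det_one, mul_one, ← RingHom.map_det]
  rfl

noncomputable def J' : Ideal (MvPolynomial (Fin n ⊕ Fin m) R) :=
  Ideal.span (Set.range (d.rel ∘ d.rowsW k))

lemma J'_le : d.J' k ≤ d.J := Ideal.span_mono (Set.range_comp_subset_range _ _)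

lemma Frel_rows_mem (j : Fin (d.c k)) : d.Frel (d.rows k j) ∈ d.J' k :=
  Ideal.subset_span ⟨Sum.inl j, rfl⟩

lemma prel_mem' (ℓ : Fin m) : d.prel k ℓ ∈ d.J' k := by
  by_cases hℓ : ℓ ∈ Set.range (d.rows k)
  · rw [d.prel_spec k ℓ hℓ]; exact zero_mem _
  · exact Ideal.subset_span ⟨Sum.inr ⟨ℓ, hℓ⟩, rfl⟩

lemma a_mul_Frel_mem (ℓ : Fin m) : ι (m := m) (d.a k) * d.Frel ℓ ∈ d.J' k := by
  have h1 := d.C_mul_prel k ℓ
  have h2 : ι (m := m) (d.a k) * d.Frel ℓ =
      ∑ j, ι (m := m) (d.h k ℓ j) * d.Frel (d.rows k j) - C d.π * d.prel k ℓ := by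
    linear_combination h1
  rw [h2]
  exact sub_mem (Ideal.sum_mem _ fun j _ => Ideal.mul_mem_left _ _ (d.Frel_rows_mem k j))
    (Ideal.mul_mem_left _ _ (d.prel_mem' k ℓ))

lemma Cpi_mul_a_mul_prel_mem (k' : Fin r) (ℓ : Fin m) :
    C d.π * (ι (m := m) (d.a k) * d.prel k' ℓ) ∈ d.J' k := by
  have h1 := d.C_mul_prel k' ℓ
  have h2 : C d.π * (ι (m := m) (d.a k) * d.prel k' ℓ) =
      ι (m := m) (d.a k) * (C d.π * d.prel k' ℓ) := by ring
  rw [h2, h1, mul_add, mul_neg, Finset.mul_sum]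
  refine add_mem (neg_mem ?_) (Ideal.sum_mem _ fun j _ => ?_)
  · rw [mul_left_comm]; exact Ideal.mul_mem_left _ _ (d.a_mul_Frel_mem k ℓ)
  · rw [mul_left_comm]; exact Ideal.mul_mem_left _ _ (d.a_mul_Frel_mem k _)

lemma sum_h_f (k₁ : Fin r) (ℓ₁ : Fin m) :
    ∑ j, d.h k₁ ℓ₁ j * d.f (d.rows k₁ j) = d.a k₁ * d.f ℓ₁ - C (d.π ^ 2) * d.g k₁ ℓ₁ := by
  rw [d.hrel]; ring

lemma w_rel (k' : Fin r) (ℓ : Fin m) :
    ∑ j, (d.a k' * d.h k ℓ j - ∑ j', d.h k' ℓ j' * d.h k (d.rows k' j') j) * d.f (d.rows k j) =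
      C (d.π ^ 2) * (d.a k * d.g k' ℓ - d.a k' * d.g k ℓ +
        ∑ j', d.h k' ℓ j' * d.g k (d.rows k' j')) := by
  simp only [sub_mul, Finset.sum_sub_distrib, Finset.sum_mul]
  rw [Finset.sum_comm]
  have e1 : ∑ j, d.a k' * d.h k ℓ j * d.f (d.rows k j) =
      d.a k' * (d.a k * d.f ℓ - C (d.π ^ 2) * d.g k ℓ) := by
    rw [← d.sum_h_f, Finset.mul_sum]; exact Finset.sum_congr rfl fun j _ => by ring
  have e2 : ∀ j', ∑ j, d.h k' ℓ j' * d.h k (d.rows k' j') j * d.f (d.rows k j) =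
      d.h k' ℓ j' * (d.a k * d.f (d.rows k' j') - C (d.π ^ 2) * d.g k (d.rows k' j')) := by
    intro j'
    rw [← d.sum_h_f, Finset.mul_sum]; exact Finset.sum_congr rfl fun j _ => by ring
  have e3 : ∑ j', d.h k' ℓ j' * (d.a k * d.f (d.rows k' j') -
      C (d.π ^ 2) * d.g k (d.rows k' j')) =
      d.a k * ∑ j', d.h k' ℓ j' * d.f (d.rows k' j') -
        C (d.π ^ 2) * ∑ j', d.h k' ℓ j' * d.g k (d.rows k' j') := by
    rw [Finset.mul_sum, Finset.mul_sum, ← Finset.sum_sub_distrib]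
    exact Finset.sum_congr rfl fun j' _ => by ring
  rw [e1]
  simp only [e2]
  rw [e3, d.sum_h_f]
  ring

/-- the key congruence -/
lemma zeta (k' : Fin r) (ℓ : Fin m) :
    ι (m := m) (d.Δ k) * (ι (m := m) (d.a k) * d.prel k' ℓ) ∈ d.J' k ⊔ Ideal.span {C d.π} := by
  classical
  set I : Ideal (MvPolynomial (Fin n ⊕ Fin m) R) := d.J' k ⊔ Ideal.span {C d.π} with hI
  rw [← Ideal.Quotient.eq_zero_iff_mem]
  set q := Ideal.Quotient.mk I with hq
  have hπ : q (C d.π) = 0 :=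
    Ideal.Quotient.eq_zero_iff_mem.mpr (Ideal.mem_sup_right (Ideal.mem_span_singleton_self _))
  have h1 : ∀ ℓ'', q (ι (m := m) (d.a k)) * q (X (Sum.inr ℓ'')) =
      ∑ j, q (ι (m := m) (d.h k ℓ'' j)) * q (X (Sum.inr (d.rows k j))) := by
    intro ℓ''
    have h0 : q (d.prel k ℓ'') = 0 :=
      Ideal.Quotient.eq_zero_iff_mem.mpr (Ideal.mem_sup_left (d.prel_mem' k ℓ''))
    simp only [prel, map_sub, map_mul, map_sum, hπ, zero_mul, sub_zero] at h0
    exact sub_eq_zero.mp h0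
  have h2 : q (d.prel k' ℓ) = q (ι (m := m) (d.a k')) * q (X (Sum.inr ℓ)) -
      ∑ j', q (ι (m := m) (d.h k' ℓ j')) * q (X (Sum.inr (d.rows k' j'))) := by
    simp only [prel, map_sub, map_mul, map_sum, hπ, zero_mul, sub_zero]
  set w : Fin (d.c k) → MvPolynomial (Fin n) R :=
    fun j => d.a k' * d.h k ℓ j - ∑ j', d.h k' ℓ j' * d.h k (d.rows k' j') j with hw
  have h3 : ∀ j, q (ι (m := m) (d.Δ k * w j)) = 0 := by
    intro j
    have hm := PopJ.det_mul_mem d.π (fun j => d.f (d.rows k j)) (d.cols k) w _ (d.w_rel k k' ℓ)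
      (Ideal.span (Set.range fun j => d.f (d.rows k j)) ⊔ Ideal.span {C (d.π ^ 2)})
      (fun j => Ideal.mem_sup_left (Ideal.subset_span ⟨j, rfl⟩))
      (Ideal.mem_sup_right (Ideal.mem_span_singleton_self _)) j
    have hle : (Ideal.span (Set.range fun j => d.f (d.rows k j)) ⊔
        Ideal.span {C (d.π ^ 2)}).map (ι (m := m)).toRingHom ≤ I := by
      rw [Ideal.map_sup, Ideal.map_span, Ideal.map_span]
      refine sup_le (Ideal.span_le.mpr ?_) (Ideal.span_le.mpr ?_)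
      · rintro _ ⟨_, ⟨j, rfl⟩, rfl⟩
        have h5 : ι (m := m) (d.f (d.rows k j)) =
            d.Frel (d.rows k j) + C d.π * X (Sum.inr (d.rows k j)) := by simp [Frel]
        show ι (m := m) (d.f (d.rows k j)) ∈ I
        rw [h5]
        exact add_mem (Ideal.mem_sup_left (d.Frel_rows_mem k j))
          (Ideal.mem_sup_right (Ideal.mul_mem_right _ _ (Ideal.mem_span_singleton_self _)))
      · rintro _ ⟨_, rfl, rfl⟩
        show ι (m := m) (C (d.π ^ 2) : MvPolynomial (Fin n) R) ∈ I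
        have h6 : ι (m := m) (C (d.π ^ 2) : MvPolynomial (Fin n) R) =
            (C d.π * C d.π : MvPolynomial (Fin n ⊕ Fin m) R) := by
          simp [ι, pow_two]
        rw [h6]
        exact Ideal.mem_sup_right (Ideal.mul_mem_left _ _ (Ideal.mem_span_singleton_self _))
    exact Ideal.Quotient.eq_zero_iff_mem.mpr (hle (Ideal.mem_map_of_mem _ hm))
  have h4 : q (ι (m := m) (d.a k)) * q (d.prel k' ℓ) =
      ∑ j, q (ι (m := m) (w j)) * q (X (Sum.inr (d.rows k j))) := by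
    rw [h2, mul_sub, mul_left_comm, h1 ℓ]
    have h7 : ∀ j', q (ι (m := m) (d.a k)) *
        (q (ι (m := m) (d.h k' ℓ j')) * q (X (Sum.inr (d.rows k' j')))) =
        q (ι (m := m) (d.h k' ℓ j')) *
          ∑ j, q (ι (m := m) (d.h k (d.rows k' j') j)) * q (X (Sum.inr (d.rows k j))) := by
      intro j'; rw [mul_left_comm, h1]
    have h8 : q (ι (m := m) (d.a k)) *
        ∑ j', q (ι (m := m) (d.h k' ℓ j')) * q (X (Sum.inr (d.rows k' j'))) =
        ∑ j', q (ι (m := m) (d.h k' ℓ j')) *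
          ∑ j, q (ι (m := m) (d.h k (d.rows k' j') j)) * q (X (Sum.inr (d.rows k j))) := by
      rw [Finset.mul_sum]; exact Finset.sum_congr rfl fun j' _ => h7 j'
    rw [h8]
    simp only [hw, map_sub, map_mul, map_sum, sub_mul, Finset.sum_sub_distrib, Finset.mul_sum,
      Finset.sum_mul]
    congr 1
    · exact Finset.sum_congr rfl fun j _ => by ring
    · rw [Finset.sum_comm]
      exact Finset.sum_congr rfl fun j _ => Finset.sum_congr rfl fun j' _ => by ring
  rw [map_mul, map_mul, h4, Finset.mul_sum]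
  refine Finset.sum_eq_zero fun j _ => ?_
  rw [← mul_assoc, ← map_mul q, ← map_mul (ι (m := m)), h3, zero_mul]

end Data

end Groth.Agent.Lib.Helper27.PopK
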