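import Mathlib
import Groth.Prelude.Def_Smoothing
import Groth.Agent.Lib.Helper27.PopL

/-!
# Smoothness of the algebra `D` of the lifting lemma on its charts (part (c))
-/

namespace Groth.Agent.Lib.Helper27.PopK

open MvPolynomial Smoothing

universe u

namespace Data

variable {R : Type u} [CommRing R] {n m r : ℕ} (d : Data R n m r) (k : Fin r)

noncomputable def u₀ : MvPolynomial (Fin n ⊕ Fin m) R := ι (m := m) (d.a k) * d.minor k

lemma isStrictlyStandard_chart' :
    IsStrictlyStandard R (MvPolynomial (Fin n ⊕ Fin m) R ⧸ d.J' k)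
      (Ideal.Quotient.mk (d.J' k) (d.u₀ k)) := by
  refine PopI.isStrictlyStandard_of_fintype (d.rel ∘ d.rowsW k) (Ideal.Quotient.mkₐ R (d.J' k))
    (Ideal.Quotient.mkₐ_surjective R (d.J' k)) ?_ (Function.Embedding.refl (d.W k))
    (Fintype.card_le_of_injective _ (d.colsW_injective k)) _ ?_ ?_
  · ext p
    rw [RingHom.mem_ker]
    exact Ideal.Quotient.eq_zero_iff_mem
  · have hmem : (Ideal.Quotient.mkₐ R (d.J' k)) (d.minor k) ∈
        Ideal.span (Set.range fun cols : d.W k → Fin n ⊕ Fin m =>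
          (Ideal.Quotient.mkₐ R (d.J' k)) (Matrix.det (Matrix.of fun j i : d.W k =>
            pderiv (cols i) ((d.rel ∘ d.rowsW k) (Function.Embedding.refl (d.W k) j))))) :=
      Ideal.subset_span ⟨d.colsW k, rfl⟩
    have h2 : Ideal.Quotient.mk (d.J' k) (d.u₀ k) =
        Ideal.Quotient.mk (d.J' k) (ι (m := m) (d.a k)) *
          (Ideal.Quotient.mkₐ R (d.J' k)) (d.minor k) := by
      rw [u₀, map_mul]; rfl
    rw [h2]
    exact Ideal.mul_mem_left _ _ hmem
  · intro a₁ _ t
    exact Ideal.mem_sup_left (Ideal.mul_mem_left _ _ (Ideal.subset_span ⟨t, rfl⟩))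

theorem exists_pow_mul_rel_mem (hR : ∀ r : R, d.π ^ 2 * r = 0 → d.π * r = 0) :
    ∃ N : ℕ, ∀ t, d.u₀ k ^ N * d.rel t ∈ d.J' k := by
  classical
  have hss := d.isStrictlyStandard_chart' k
  set mk' := Ideal.Quotient.mk (d.J' k) with hmk'
  set u' := mk' (d.u₀ k) with hu'
  have hsm : Algebra.Smooth R (Localization.Away u') := (Groth.Agent.S2030.result u' hss).1
  haveI : Module.Flat R (Localization.Away u') := inferInstance
  set al := algebraMap (MvPolynomial (Fin n ⊕ Fin m) R ⧸ d.J' k) (Localization.Away u') with hal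
  have hπL : algebraMap R (Localization.Away u') d.π = al (mk' (C d.π)) := by
    rw [IsScalarTower.algebraMap_apply R (MvPolynomial (Fin n ⊕ Fin m) R ⧸ d.J' k)
      (Localization.Away u')]
    rfl
  have key : ∀ t, ∃ N : ℕ, d.u₀ k ^ N * d.rel t ∈ d.J' k := by
    rintro (ℓ | ⟨k', ℓ⟩)
    · refine ⟨1, ?_⟩
      show d.u₀ k ^ 1 * d.Frel ℓ ∈ _
      rw [pow_one, u₀, mul_right_comm]
      exact Ideal.mul_mem_right _ _ (d.a_mul_Frel_mem k ℓ)
    · show ∃ N, d.u₀ k ^ N * d.prel k' ℓ ∈ _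
      obtain ⟨y₁, hy₁, y₂, hy₂, hy⟩ := Submodule.mem_sup.mp (d.zeta k k' ℓ)
      obtain ⟨y, rfl⟩ := Ideal.mem_span_singleton'.mp hy₂
      set x := ι (m := m) (d.Δ k) * (ι (m := m) (d.a k) * d.prel k' ℓ) with hx
      have e1 : mk' x = mk' (C d.π) * mk' y := by
        rw [← hy, map_add, map_mul, Ideal.Quotient.eq_zero_iff_mem.mpr hy₁, zero_add, mul_comm]
      have e2 : mk' (C d.π) * mk' x = 0 := by
        rw [← map_mul]
        apply Ideal.Quotient.eq_zero_iff_mem.mpr
        have h5 : C d.π * x =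
            ι (m := m) (d.Δ k) * (C d.π * (ι (m := m) (d.a k) * d.prel k' ℓ)) := by
          rw [hx]; ring
        rw [h5]
        exact Ideal.mul_mem_left _ _ (d.Cpi_mul_a_mul_prel_mem k k' ℓ)
      have e3 : d.π ^ 2 • al (mk' y) = 0 := by
        rw [Algebra.smul_def, map_pow, hπL, pow_two, mul_assoc, ← map_mul al, ← e1, ← map_mul al,
          e2, map_zero]
      have e4 : d.π • al (mk' y) = 0 := PopJ.smul_eq_zero_of_flat d.π hR _ e3
      have e5 : al (mk' x) = 0 := by
        rw [e1, map_mul, ← hπL, ← Algebra.smul_def, e4]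
      obtain ⟨⟨_, N, rfl⟩, hN⟩ :=
        (IsLocalization.map_eq_zero_iff (Submonoid.powers u') (Localization.Away u') (mk' x)).mp e5
      have hN' : d.u₀ k ^ N * x ∈ d.J' k := by
        apply Ideal.Quotient.eq_zero_iff_mem.mp
        rw [map_mul, map_pow]
        exact hN
      refine ⟨N + 1, ?_⟩
      have h6 : d.u₀ k ^ (N + 1) * d.prel k' ℓ =
          ι (m := m) (d.a k) ^ Fintype.card (d.Wc k) * (d.u₀ k ^ N * x) := by
        have hu : d.u₀ k = ι (m := m) (d.a k) *
            (ι (m := m) (d.Δ k) * ι (m := m) (d.a k) ^ Fintype.card (d.Wc k)) := by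
          rw [u₀, d.minor_eq k]
        rw [pow_succ, hx]
        generalize d.u₀ k ^ N = U
        rw [hu]
        ring
      rw [h6]
      exact Ideal.mul_mem_left _ _ hN'
  choose Nt hNt using key
  refine ⟨Finset.univ.sup Nt, fun t => ?_⟩
  have hle : Nt t ≤ Finset.univ.sup Nt := Finset.le_sup (Finset.mem_univ t)
  obtain ⟨e, he⟩ := Nat.exists_eq_add_of_le hle
  rw [he, pow_add, mul_assoc, mul_left_comm]
  exact Ideal.mul_mem_left _ _ (hNt t)

theorem isSmoothAt_chart (hR : ∀ r : R, d.π ^ 2 * r = 0 → d.π * r = 0)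
    (Q : Ideal (MvPolynomial (Fin n ⊕ Fin m) R ⧸ d.J)) [Q.IsPrime]
    (ha : Ideal.Quotient.mk d.J (ι (m := m) (d.a k)) ∉ Q)
    (hΔ : Ideal.Quotient.mk d.J (ι (m := m) (d.Δ k)) ∉ Q) : Algebra.IsSmoothAt R Q := by
  obtain ⟨N, hN⟩ := d.exists_pow_mul_rel_mem k hR
  have hss : IsStrictlyStandard R (MvPolynomial (Fin n ⊕ Fin m) R ⧸ d.J)
      (Ideal.Quotient.mk d.J (d.u₀ k ^ (N + 1))) := by
    refine PopI.isStrictlyStandard_of_fintype d.rel (Ideal.Quotient.mkₐ R d.J)
      (Ideal.Quotient.mkₐ_surjective R d.J) ?_ (d.rowsW k)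
      (Fintype.card_le_of_injective _ (d.colsW_injective k)) _ ?_ ?_
    · ext p
      rw [RingHom.mem_ker]
      exact Ideal.Quotient.eq_zero_iff_mem
    · have hmem : (Ideal.Quotient.mkₐ R d.J) (d.minor k) ∈
          Ideal.span (Set.range fun cols : d.W k → Fin n ⊕ Fin m =>
            (Ideal.Quotient.mkₐ R d.J) (Matrix.det (Matrix.of fun j i : d.W k =>
              pderiv (cols i) (d.rel (d.rowsW k j))))) :=
        Ideal.subset_span ⟨d.colsW k, rfl⟩
      have h2 : Ideal.Quotient.mk d.J (d.u₀ k ^ (N + 1)) =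
          Ideal.Quotient.mk d.J (d.u₀ k ^ N * ι (m := m) (d.a k)) *
            (Ideal.Quotient.mkₐ R d.J) (d.minor k) := by
        show _ = Ideal.Quotient.mk d.J _ * Ideal.Quotient.mk d.J _
        rw [← map_mul, pow_succ]
        congr 1
        generalize d.u₀ k ^ N = U
        rw [u₀]
        ring
      rw [h2]
      exact Ideal.mul_mem_left _ _ hmem
    · intro a₁ ha₁ t
      have hdiff : a₁ - d.u₀ k ^ (N + 1) ∈ d.J := Ideal.Quotient.eq.mp ha₁
      have hrelJ : d.rel t ∈ Ideal.span (Set.range d.rel) := Ideal.subset_span ⟨t, rfl⟩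
      have hsplit : a₁ * d.rel t =
          (a₁ - d.u₀ k ^ (N + 1)) * d.rel t + d.u₀ k ^ (N + 1) * d.rel t := by ring
      rw [hsplit]
      refine add_mem (Ideal.mem_sup_right (by rw [pow_two]; exact Ideal.mul_mem_mul hdiff hrelJ))
        (Ideal.mem_sup_left ?_)
      rw [pow_succ', mul_assoc]
      exact Ideal.mul_mem_left _ _ (hN t)
  refine PopI.isSmoothAt_of_isStrictlyStandard hss Q ?_
  intro hmem
  rw [map_pow] at hmem
  have h1 := Ideal.IsPrime.mem_of_pow_mem inferInstance _ hmem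
  rw [u₀, d.minor_eq k, map_mul, map_mul, map_pow] at h1
  rcases Ideal.IsPrime.mem_or_mem inferInstance h1 with h | h
  · exact ha h
  · rcases Ideal.IsPrime.mem_or_mem inferInstance h with h | h
    · exact hΔ h
    · exact ha (Ideal.IsPrime.mem_of_pow_mem inferInstance _ h)

end Data

end Groth.Agent.Lib.Helper27.PopK
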