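import Mathlib
import Groth.Prelude.Def_Smoothing
import Groth.Agent.Lib.Helper27.PopM
import Groth.Agent.S2108

/-!
# Auxiliary constructions for the lifting lemma: charts, lifts, evaluation
-/

namespace Groth.Agent.Lib.Helper27.PopN

open MvPolynomial Smoothing Groth.Agent.Lib.Helper27.PopK

universe u

/-- Finitely many "good" elements cover the smooth locus. -/
theorem exists_charts {S C : Type u} [CommRing S] [CommRing C] [Algebra S C] [IsNoetherianRing C]
    {n m : ℕ} (f : Fin m → MvPolynomial (Fin n) S) (φ : MvPolynomial (Fin n) S →ₐ[S] C)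
    (hφ : Function.Surjective φ) (hker : RingHom.ker φ.toRingHom = Ideal.span (Set.range f)) :
    ∃ (r : ℕ) (ab : Fin r → C) (c : Fin r → ℕ) (rows : ∀ k, Fin (c k) ↪ Fin m)
      (cols : ∀ k, Fin (c k) ↪ Fin n) (a' : Fin r → C),
      (∀ k, ab k = a' k * φ (jacobianMinor f (rows k) (cols k))) ∧
      (∀ k, ∀ a₁ : MvPolynomial (Fin n) S, φ a₁ = ab k → ∀ ℓ : Fin m,
        a₁ * f ℓ ∈ Ideal.span (Set.range (f ∘ rows k)) ⊔ Ideal.span (Set.range f) ^ 2) ∧
      ∀ (q : Ideal C) [q.IsPrime], Algebra.IsSmoothAt S q → ∃ k, ab k ∉ q := by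
  classical
  let Good : C → Prop := fun x => ∃ (c : ℕ) (rows : Fin c ↪ Fin m) (cols : Fin c ↪ Fin n) (a' : C),
    x = a' * φ (jacobianMinor f rows cols) ∧ ∀ a₁ : MvPolynomial (Fin n) S, φ a₁ = x → ∀ ℓ : Fin m,
      a₁ * f ℓ ∈ Ideal.span (Set.range (f ∘ rows)) ⊔ Ideal.span (Set.range f) ^ 2
  have hfg : (Submodule.span C {x | Good x}).FG := IsNoetherian.noetherian _
  obtain ⟨s, hs, hspan⟩ := (Submodule.fg_span_iff_fg_span_finset_subset _).mp hfg
  let e := s.equivFin
  have hgood : ∀ k : Fin s.card, Good (e.symm k).1 := fun k => hs (e.symm k).2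
  choose c rows cols a' h1 h2 using hgood
  refine ⟨s.card, fun k => (e.symm k).1, c, rows, cols, a', h1, h2, ?_⟩
  intro q _ hq
  haveI := hq
  obtain ⟨a, haq, c₀, rows₀, cols₀, a'₀, h3, h4⟩ := Groth.Agent.S2108.result f φ hφ hker q
  by_contra hcon
  push Not at hcon
  apply haq
  have hmem : a ∈ Submodule.span C {x | Good x} :=
    Submodule.subset_span ⟨c₀, rows₀, cols₀, a'₀, h3, h4⟩
  rw [hspan] at hmem
  refine (Submodule.span_le (p := q)).mpr ?_ hmem
  intro x hx
  have h5 := hcon (e ⟨x, hx⟩)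
  simpa using h5

/-- Lifting the presentation data from `R/π²` to `R`. -/
theorem exists_lifts {R : Type u} [CommRing R] (π : R) {n m r : ℕ} {B : Type u} [CommRing B]
    [Algebra (R ⧸ Ideal.span {π ^ 2}) B]
    (fb : Fin m → MvPolynomial (Fin n) (R ⧸ Ideal.span {π ^ 2}))
    (φ : MvPolynomial (Fin n) (R ⧸ Ideal.span {π ^ 2}) →ₐ[R ⧸ Ideal.span {π ^ 2}] B)
    (hφ : Function.Surjective φ)
    (hker : RingHom.ker φ.toRingHom = Ideal.span (Set.range fb))
    (ab : Fin r → B) (c : Fin r → ℕ) (rows : ∀ k, Fin (c k) ↪ Fin m)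
    (htail : ∀ k, ∀ a₁ : MvPolynomial (Fin n) (R ⧸ Ideal.span {π ^ 2}), φ a₁ = ab k → ∀ ℓ : Fin m,
      a₁ * fb ℓ ∈ Ideal.span (Set.range (fb ∘ rows k)) ⊔ Ideal.span (Set.range fb) ^ 2) :
    ∃ (f : Fin m → MvPolynomial (Fin n) R) (a : Fin r → MvPolynomial (Fin n) R)
      (h : ∀ k, Fin m → Fin (c k) → MvPolynomial (Fin n) R)
      (g : Fin r → Fin m → MvPolynomial (Fin n) R),
      (∀ j, MvPolynomial.map (Ideal.Quotient.mk (Ideal.span {π ^ 2})) (f j) = fb j) ∧
      (∀ k, φ (MvPolynomial.map (Ideal.Quotient.mk (Ideal.span {π ^ 2})) (a k)) = ab k ^ m) ∧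
      (∀ k ℓ, a k * f ℓ = ∑ j, h k ℓ j * f (rows k j) + C (π ^ 2) * g k ℓ) ∧
      (∀ k ℓ, ℓ ∈ Set.range (rows k) →
        rename Sum.inl (a k) * X (Sum.inr ℓ) -
          ∑ j, rename Sum.inl (h k ℓ j) * X (Sum.inr (rows k j)) -
          C π * rename Sum.inl (g k ℓ) = (0 : MvPolynomial (Fin n ⊕ Fin m) R)) := by
  classical
  set mkq := Ideal.Quotient.mk (Ideal.span {π ^ 2}) with hmkq
  set red : MvPolynomial (Fin n) R →+* MvPolynomial (Fin n) (R ⧸ Ideal.span {π ^ 2}) :=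
    MvPolynomial.map mkq with hred
  have hredsurj : Function.Surjective red :=
    MvPolynomial.map_surjective mkq Ideal.Quotient.mk_surjective
  have hkerred : ∀ p, red p = 0 → ∃ g, p = C (π ^ 2) * g := by
    intro p hp
    have h1 : p ∈ RingHom.ker red := hp
    rw [hred, MvPolynomial.ker_map, hmkq, Ideal.mk_ker, Ideal.map_span, Set.image_singleton] at h1
    obtain ⟨g, hg⟩ := Ideal.mem_span_singleton'.mp h1
    exact ⟨g, by rw [← hg, mul_comm]⟩
  choose f hf using fun j => hredsurj (fb j)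
  choose a₁ ha₁ using fun k => hφ (ab k)
  have hdt := fun k => PopJ.det_trick fb (Ideal.span (Set.range (fb ∘ rows k))) (a₁ k)
    (htail k (a₁ k) (ha₁ k))
  choose db hdb1 hdb2 using hdt
  choose a ha using fun k => hredsurj (db k)
  have hφa : ∀ k, φ (red (a k)) = ab k ^ m := by
    intro k
    rw [ha, ← ha₁ k, ← map_pow]
    have h1 : db k - a₁ k ^ m ∈ RingHom.ker φ.toRingHom := by rw [hker]; exact hdb1 k
    have h2 : φ (db k - a₁ k ^ m) = 0 := h1
    rw [map_sub] at h2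
    exact sub_eq_zero.mp h2
  have hex : ∀ k ℓ, ∃ hb : Fin (c k) → MvPolynomial (Fin n) (R ⧸ Ideal.span {π ^ 2}),
      ∑ j, hb j * fb (rows k j) = db k * fb ℓ := by
    intro k ℓ
    exact (Ideal.mem_span_range_iff_exists_fun).mp (hdb2 k ℓ)
  choose hb hhb using hex
  choose h₀ hh₀ using fun k ℓ j => hredsurj (hb k ℓ j)
  have hex2 : ∀ k ℓ, ∃ g₀, a k * f ℓ - ∑ j, h₀ k ℓ j * f (rows k j) = C (π ^ 2) * g₀ := by
    intro k ℓ
    apply hkerred
    rw [map_sub, map_mul, map_sum, ha, hf]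
    simp only [map_mul, hh₀, hf]
    rw [hhb, sub_self]
  choose g₀ hg₀ using hex2
  let h : ∀ k, Fin m → Fin (c k) → MvPolynomial (Fin n) R := fun k ℓ j =>
    if hℓ : ℓ ∈ Set.range (rows k) then (if j = Classical.choose hℓ then a k else 0) else h₀ k ℓ j
  let g : Fin r → Fin m → MvPolynomial (Fin n) R := fun k ℓ =>
    if ℓ ∈ Set.range (rows k) then 0 else g₀ k ℓ
  refine ⟨f, a, h, g, hf, hφa, ?_, ?_⟩
  · intro k ℓ
    by_cases hℓ : ℓ ∈ Set.range (rows k)
    · have hc := Classical.choose_spec hℓ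
      simp only [h, g, dif_pos hℓ, if_pos hℓ, mul_zero, add_zero]
      rw [Finset.sum_eq_single (Classical.choose hℓ)]
      · rw [if_pos rfl, hc]
      · intro j _ hj; rw [if_neg hj, zero_mul]
      · intro h'; exact absurd (Finset.mem_univ _) h'
    · simp only [h, g, dif_neg hℓ, if_neg hℓ]
      rw [← hg₀]; ring
  · intro k ℓ hℓ
    have hc := Classical.choose_spec hℓ
    simp only [h, g, dif_pos hℓ, if_pos hℓ, map_zero, mul_zero, sub_zero]
    rw [Finset.sum_eq_single (Classical.choose hℓ)]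
    · rw [if_pos rfl, hc, sub_self]
    · intro j _ hj; rw [if_neg hj, map_zero, zero_mul]
    · intro h'; exact absurd (Finset.mem_univ _) h'

/-- The evaluation map kills the relations of `D`. -/
theorem aeval_rel_eq_zero {R Λ : Type u} [CommRing R] [CommRing Λ] [Algebra R Λ] {n m r : ℕ}
    (d : Data R n m r) (hΛ : ∀ x : Λ, d.π ^ 2 • x = 0 → d.π • x = 0) (lam : Fin n → Λ)
    (mu : Fin m → Λ) (hmu : ∀ j, aeval lam (d.f j) = d.π ^ 2 • mu j)
    (t : Fin m ⊕ (Fin r × Fin m)) :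
    aeval (Sum.elim lam (fun j => d.π • mu j)) (d.rel t) = 0 := by
  have hι : ∀ p : MvPolynomial (Fin n) R,
      aeval (Sum.elim lam (fun j => d.π • mu j)) (Data.ι (m := m) p) = aeval lam p := by
    intro p
    simp only [Data.ι, aeval_rename]
    rfl
  rcases t with j | ⟨k, ℓ⟩
  · show aeval _ (d.Frel j) = 0
    simp only [Data.Frel, map_sub, map_mul, hι, aeval_C, aeval_X, Sum.elim_inr, hmu]
    rw [pow_two, mul_smul, Algebra.smul_def d.π (d.π • mu j), sub_self]
  · show aeval _ (d.prel k ℓ) = 0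
    set ev := aeval (R := R) lam with hevdef
    set Y : Λ := ev (d.a k) * mu ℓ - ∑ j, ev (d.h k ℓ j) * mu (d.rows k j) - ev (d.g k ℓ) with hY
    have h1 : aeval (Sum.elim lam (fun j => d.π • mu j)) (d.prel k ℓ) = d.π • Y := by
      rw [hY, smul_sub, smul_sub, Finset.smul_sum]
      simp only [Data.prel, map_sub, map_mul, map_sum, hι, aeval_C, aeval_X, Sum.elim_inr,
        mul_smul_comm, ← Algebra.smul_def]
    have h2 : d.π ^ 2 • Y = 0 := by
      have h3 := congrArg ev (d.hrel k ℓ)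
      have hevC : ev (C (d.π ^ 2)) = algebraMap R Λ (d.π ^ 2) := aeval_C _ _
      simp only [map_mul, map_add, map_sum, hmu, hevC] at h3
      rw [hY]
      simp only [smul_sub, Finset.smul_sum, ← mul_smul_comm]
      rw [h3, Algebra.smul_def (d.π ^ 2) (ev (d.g k ℓ))]
      ring
    rw [h1]
    exact hΛ Y h2

end Groth.Agent.Lib.Helper27.PopN
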