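import Mathlib
import Groth.Prelude.Def_Smoothing
import Groth.Agent.Lib.Helper27.PopN

/-!
# The lifting lemma: assembling `D`, `δ`, `ψ`
-/

namespace Groth.Agent.Lib.Helper27.PopO

open MvPolynomial Smoothing Groth.Agent.Lib.Helper27.PopK

universe u

theorem exists_lift {R A B C : Type*} [CommRing R] [CommRing A] [CommRing B] [CommRing C]
    [Algebra R A] [Algebra R B] [Algebra R C] (f : A →ₐ[R] B) (hf : Function.Surjective f)
    (g : A →ₐ[R] C) (H : RingHom.ker f.toRingHom ≤ RingHom.ker g.toRingHom) :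
    ∃ ψ : B →ₐ[R] C, ∀ x, ψ (f x) = g x :=
  ⟨AlgHom.liftOfSurjective f hf g H, fun x => AlgHom.liftOfSurjective_apply f hf g H x⟩

theorem main {R Λ B : Type u} [CommRing R] [CommRing Λ] [Algebra R Λ] (π : R)
    (hR : ∀ r : R, π ^ 2 * r = 0 → π * r = 0)
    (hΛ : ∀ x : Λ, π ^ 2 • x = 0 → π • x = 0) [CommRing B] [Algebra R B]
    [Algebra (R ⧸ Ideal.span {π ^ 2}) B] [IsScalarTower R (R ⧸ Ideal.span {π ^ 2}) B]
    (g : B →ₐ[R] Λ ⧸ Ideal.span {algebraMap R Λ (π ^ 2)})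
    {n m r : ℕ} (d : Data R n m r) (hdπ : d.π = π)
    (pC : MvPolynomial (Fin n) (R ⧸ Ideal.span {π ^ 2}) →ₐ[R ⧸ Ideal.span {π ^ 2}] B)
    (hpC : Function.Surjective pC)
    (fb : Fin m → MvPolynomial (Fin n) (R ⧸ Ideal.span {π ^ 2}))
    (hker : RingHom.ker pC.toRingHom = Ideal.span (Set.range fb))
    (hf : ∀ j, MvPolynomial.map (Ideal.Quotient.mk (Ideal.span {π ^ 2})) (d.f j) = fb j)
    (ab : Fin r → B) (a' : Fin r → B)
    (hab : ∀ k, ab k = a' k * pC (jacobianMinor fb (d.rows k) (d.cols k)))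
    (hφa : ∀ k, pC (MvPolynomial.map (Ideal.Quotient.mk (Ideal.span {π ^ 2})) (d.a k)) = ab k ^ m)
    (hcover : ∀ (q : Ideal B) [q.IsPrime],
      Algebra.IsSmoothAt (R ⧸ Ideal.span {π ^ 2}) q → ∃ k, ab k ∉ q) :
    ∃ (δ : (MvPolynomial (Fin n ⊕ Fin m) R ⧸ d.J) →ₐ[R] Λ)
      (ψ : B →ₐ[R] (MvPolynomial (Fin n ⊕ Fin m) R ⧸ d.J) ⧸
        Ideal.span {algebraMap R (MvPolynomial (Fin n ⊕ Fin m) R ⧸ d.J) π}),
      (∀ (c : B) (x : MvPolynomial (Fin n ⊕ Fin m) R ⧸ d.J) (l : Λ),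
        Ideal.Quotient.mk
          (Ideal.span {algebraMap R (MvPolynomial (Fin n ⊕ Fin m) R ⧸ d.J) π}) x = ψ c →
        Ideal.Quotient.mk (Ideal.span {algebraMap R Λ (π ^ 2)}) l = g c →
          δ x - l ∈ Ideal.span {algebraMap R Λ π}) ∧
      (∀ (Q : Ideal (MvPolynomial (Fin n ⊕ Fin m) R ⧸ d.J)) [Q.IsPrime],
        algebraMap R (MvPolynomial (Fin n ⊕ Fin m) R ⧸ d.J) π ∉ Q → Algebra.IsSmoothAt R Q) ∧
      (∀ (Q : Ideal ((MvPolynomial (Fin n ⊕ Fin m) R ⧸ d.J) ⧸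
          Ideal.span {algebraMap R (MvPolynomial (Fin n ⊕ Fin m) R ⧸ d.J) π})) [Q.IsPrime],
        Algebra.IsSmoothAt (R ⧸ Ideal.span {π ^ 2}) (Q.comap ψ) →
          Algebra.IsSmoothAt R (Q.comap (Ideal.Quotient.mk
            (Ideal.span {algebraMap R (MvPolynomial (Fin n ⊕ Fin m) R ⧸ d.J) π})))) := by
  classical
  subst hdπ
  set mkq := Ideal.Quotient.mk (Ideal.span {d.π ^ 2}) with hmkq
  let redA : MvPolynomial (Fin n) R →ₐ[R] MvPolynomial (Fin n) (R ⧸ Ideal.span {d.π ^ 2}) :=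
    MvPolynomial.mapAlgHom (Ideal.Quotient.mkₐ R (Ideal.span {d.π ^ 2}))
  let pR : MvPolynomial (Fin n) R →ₐ[R] B := (pC.restrictScalars R).comp redA
  have hpR : ∀ p, pR p = pC (MvPolynomial.map mkq p) := fun p => rfl
  have hmapsurj : Function.Surjective (MvPolynomial.map (σ := Fin n) mkq) :=
    MvPolynomial.map_surjective mkq Ideal.Quotient.mk_surjective
  have hpRsurj : Function.Surjective pR := hpC.comp hmapsurj
  have hkerpR : ∀ p, pR p = 0 → p ∈ Ideal.span (Set.range d.f) ⊔ Ideal.span {C (d.π ^ 2)} := by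
    intro p hp
    have h1 : MvPolynomial.map mkq p ∈ Ideal.span (Set.range fb) := by
      rw [← hker]; exact hp
    have h2 : Ideal.span (Set.range fb) =
        (Ideal.span (Set.range d.f)).map (MvPolynomial.map (σ := Fin n) mkq) := by
      rw [Ideal.map_span, ← Set.range_comp]
      congr 2
      funext j
      exact (hf j).symm
    rw [h2, Ideal.mem_map_iff_of_surjective _ hmapsurj] at h1
    obtain ⟨p', hp', hpp'⟩ := h1
    have h3 : p - p' ∈ RingHom.ker (MvPolynomial.map (σ := Fin n) mkq) := by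
      rw [RingHom.mem_ker, map_sub, hpp', sub_self]
    rw [MvPolynomial.ker_map, hmkq, Ideal.mk_ker, Ideal.map_span, Set.image_singleton] at h3
    have h4 : p = p' + (p - p') := by ring
    rw [h4]
    exact add_mem (Ideal.mem_sup_left hp') (Ideal.mem_sup_right h3)
  -- the map to Λ
  choose lam hlam using fun i : Fin n =>
    Ideal.Quotient.mk_surjective (I := (Ideal.span {algebraMap R Λ (d.π ^ 2)})) (g (pR (X i)))
  let evΛ : MvPolynomial (Fin n) R →ₐ[R] Λ := aeval lam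
  have hev : ∀ p, Ideal.Quotient.mk (Ideal.span {algebraMap R Λ (d.π ^ 2)}) (evΛ p) = g (pR p) := by
    intro p
    have h1 : (Ideal.Quotient.mkₐ R (Ideal.span {algebraMap R Λ (d.π ^ 2)})).comp evΛ = g.comp pR := by
      apply MvPolynomial.algHom_ext
      intro i
      show Ideal.Quotient.mk (Ideal.span {algebraMap R Λ (d.π ^ 2)}) (aeval lam (X i)) = g (pR (X i))
      rw [aeval_X, hlam]
    exact DFunLike.congr_fun h1 p
  have hmu : ∀ j, ∃ mu, evΛ (d.f j) = d.π ^ 2 • mu := by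
    intro j
    have h0 : Ideal.Quotient.mk (Ideal.span {algebraMap R Λ (d.π ^ 2)}) (evΛ (d.f j)) = 0 := by
      rw [hev, hpR, hf]
      have h1 : fb j ∈ RingHom.ker pC.toRingHom := by
        rw [hker]; exact Ideal.subset_span ⟨j, rfl⟩
      have h2 : pC (fb j) = 0 := h1
      rw [h2, map_zero]
    obtain ⟨mu, hmu⟩ := Ideal.mem_span_singleton'.mp (Ideal.Quotient.eq_zero_iff_mem.mp h0)
    exact ⟨mu, by rw [← hmu, Algebra.smul_def, mul_comm]⟩
  choose mu hmu using hmu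
  let evD : MvPolynomial (Fin n ⊕ Fin m) R →ₐ[R] Λ := aeval (Sum.elim lam (fun j => d.π • mu j))
  have hJle : ∀ p ∈ d.J, evD p = 0 := by
    have h1 : d.J ≤ RingHom.ker evD.toRingHom := by
      show Ideal.span (Set.range d.rel) ≤ _
      rw [Ideal.span_le]
      rintro _ ⟨t, rfl⟩
      exact PopN.aeval_rel_eq_zero d hΛ lam mu hmu t
    exact fun p hp => h1 hp
  obtain ⟨δ, hδ⟩ : ∃ δ : (MvPolynomial (Fin n ⊕ Fin m) R ⧸ d.J) →ₐ[R] Λ,
      ∀ p, δ (Ideal.Quotient.mk d.J p) = evD p :=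
    ⟨Ideal.Quotient.liftₐ d.J evD hJle, fun p => rfl⟩
  have hevDι : ∀ p, evD (Data.ι (m := m) p) = evΛ p := by
    intro p
    simp only [evD, Data.ι, aeval_rename]
    rfl
  -- the map ψ
  set Iπ : Ideal (MvPolynomial (Fin n ⊕ Fin m) R ⧸ d.J) :=
    Ideal.span {algebraMap R (MvPolynomial (Fin n ⊕ Fin m) R ⧸ d.J) d.π} with hIπ
  let mkJ : MvPolynomial (Fin n ⊕ Fin m) R →ₐ[R] (MvPolynomial (Fin n ⊕ Fin m) R ⧸ d.J) :=
    Ideal.Quotient.mkₐ R d.J
  let mkπ : (MvPolynomial (Fin n ⊕ Fin m) R ⧸ d.J) →ₐ[R]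
      (MvPolynomial (Fin n ⊕ Fin m) R ⧸ d.J) ⧸ Iπ := Ideal.Quotient.mkₐ R Iπ
  let θ : MvPolynomial (Fin n) R →ₐ[R] (MvPolynomial (Fin n ⊕ Fin m) R ⧸ d.J) ⧸ Iπ :=
    (mkπ.comp mkJ).comp (Data.ι (m := m))
  have hmkJC : mkπ (mkJ (C d.π)) = 0 :=
    Ideal.Quotient.eq_zero_iff_mem.mpr (Ideal.mem_span_singleton_self _)
  have hθker : RingHom.ker pR.toRingHom ≤ RingHom.ker θ.toRingHom := by
    intro p hp
    have h1 := hkerpR p hp
    have hle : Ideal.span (Set.range d.f) ⊔ Ideal.span {C (d.π ^ 2)} ≤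
        RingHom.ker θ.toRingHom := by
      refine sup_le (Ideal.span_le.mpr ?_) (Ideal.span_le.mpr ?_)
      · rintro _ ⟨j, rfl⟩
        have h5 : Data.ι (m := m) (d.f j) = d.Frel j + C d.π * X (Sum.inr j) := by
          simp [Data.Frel]
        show mkπ (mkJ (Data.ι (m := m) (d.f j))) = 0
        rw [h5, map_add, map_add, map_mul, map_mul]
        have h6 : mkJ (d.Frel j) = 0 := Ideal.Quotient.eq_zero_iff_mem.mpr (d.Frel_mem j)
        rw [h6, map_zero, zero_add]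
        rw [hmkJC]
        exact zero_mul (M₀ := (MvPolynomial (Fin n ⊕ Fin m) R ⧸ d.J) ⧸ Iπ) _
      · rintro _ rfl
        show mkπ (mkJ (Data.ι (m := m) (C (d.π ^ 2)))) = 0
        have h7 : Data.ι (m := m) (C (d.π ^ 2) : MvPolynomial (Fin n) R) =
            (C d.π * C d.π : MvPolynomial (Fin n ⊕ Fin m) R) := by
          simp [Data.ι, pow_two]
        rw [h7, map_mul, map_mul]
        rw [hmkJC]
        exact zero_mul (M₀ := (MvPolynomial (Fin n ⊕ Fin m) R ⧸ d.J) ⧸ Iπ) _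
    exact hle h1
  obtain ⟨ψ, hψ⟩ : ∃ ψ : B →ₐ[R] (MvPolynomial (Fin n ⊕ Fin m) R ⧸ d.J) ⧸ Iπ,
      ∀ p, ψ (pR p) = θ p :=
    exists_lift (C := (MvPolynomial (Fin n ⊕ Fin m) R ⧸ d.J) ⧸ Iπ) pR hpRsurj θ hθker
  refine ⟨δ, ψ, ?_, ?_, ?_⟩
  · intro c₀ d₀ l hd hl
    obtain ⟨p, rfl⟩ := hpRsurj c₀
    rw [hψ] at hd
    have h1 : d₀ - mkJ (Data.ι (m := m) p) ∈ Iπ := Ideal.Quotient.eq.mp hd
    obtain ⟨e, he⟩ := Ideal.mem_span_singleton'.mp h1
    have h2 : δ d₀ = evΛ p + δ e * algebraMap R Λ d.π := by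
      have h3 : d₀ = mkJ (Data.ι (m := m) p) +
          e * algebraMap R (MvPolynomial (Fin n ⊕ Fin m) R ⧸ d.J) d.π := by
        rw [he]; ring
      rw [h3, map_add, map_mul, AlgHom.commutes]
      congr 1
      exact (hδ _).trans (hevDι p)
    have h3 : evΛ p - l ∈ (Ideal.span {algebraMap R Λ (d.π ^ 2)}) := by
      apply Ideal.Quotient.eq.mp
      rw [hev, hl]
    have h4 : (Ideal.span {algebraMap R Λ (d.π ^ 2)}) ≤ Ideal.span {algebraMap R Λ d.π} := by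
      apply Ideal.span_le.mpr
      rintro _ rfl
      rw [map_pow, pow_two]
      exact Ideal.mul_mem_left _ _ (Ideal.mem_span_singleton_self _)
    have h5 : δ d₀ - l = (evΛ p - l) + δ e * algebraMap R Λ d.π := by rw [h2]; ring
    rw [h5]
    exact add_mem (h4 h3) (Ideal.mul_mem_left _ _ (Ideal.mem_span_singleton_self _))
  · intro Q _ hQ
    refine PopI.isSmoothAt_of_isStrictlyStandard d.isStrictlyStandard_pi Q ?_
    intro hmem
    have h1 : Ideal.Quotient.mk d.J (C d.π ^ (m + 1)) =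
        (algebraMap R (MvPolynomial (Fin n ⊕ Fin m) R ⧸ d.J) d.π) ^ (m + 1) := by
      rw [map_pow]; rfl
    rw [h1] at hmem
    exact hQ (Ideal.IsPrime.mem_of_pow_mem inferInstance _ hmem)
  · intro Q _ hsm
    obtain ⟨k, hk⟩ := hcover (Q.comap ψ) hsm
    have hk' : ψ (ab k) ∉ Q := hk
    refine d.isSmoothAt_chart k hR (Q.comap (Ideal.Quotient.mk Iπ)) ?_ ?_
    · intro hmem
      have h1 : mkπ (mkJ (Data.ι (m := m) (d.a k))) ∈ Q := hmem
      have h2 : mkπ (mkJ (Data.ι (m := m) (d.a k))) = ψ (ab k) ^ m := by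
        rw [← map_pow, ← hφa k, ← hpR, hψ]; rfl
      rw [h2] at h1
      exact hk' (Ideal.IsPrime.mem_of_pow_mem inferInstance _ h1)
    · intro hmem
      have h1 : mkπ (mkJ (Data.ι (m := m) (d.Δ k))) ∈ Q := hmem
      have h2 : pR (d.Δ k) = pC (jacobianMinor fb (d.rows k) (d.cols k)) := by
        rw [hpR]
        congr 1
        unfold Data.Δ jacobianMinor
        rw [RingHom.map_det]
        congr 1
        ext j i
        simp only [RingHom.mapMatrix_apply, Matrix.map_apply, Matrix.of_apply]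
        rw [← pderiv_map, hf]
      have h3 : mkπ (mkJ (Data.ι (m := m) (d.Δ k))) = ψ (pR (d.Δ k)) := by rw [hψ]; rfl
      rw [h3, h2] at h1
      apply hk'
      rw [hab k, map_mul]
      exact Ideal.mul_mem_left _ _ h1

end Groth.Agent.Lib.Helper27.PopO
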