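import Mathlib

/-!
# General lemmas for the desingularization lemma (Stacks 07CR)
-/

namespace Groth.Agent.Lib.Helper27.DesA

open MvPolynomial

universe u

/-- First order Taylor expansion with remainder divisible by `t²`. -/
theorem taylor {R : Type*} [CommRing R] {σ : Type*} [Fintype σ] [DecidableEq σ] {S : Type*}
    [CommRing S] [Algebra R S] (a : σ → R) (t : R) (y : σ → S) (p : MvPolynomial σ R) :
    ∃ q : S, aeval (fun i => algebraMap R S (a i) + algebraMap R S t * y i) p =
      algebraMap R S (eval a p) +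
        algebraMap R S t * ∑ i, algebraMap R S (eval a (pderiv i p)) * y i +
        algebraMap R S (t ^ 2) * q := by
  induction p using MvPolynomial.induction_on with
  | C r => exact ⟨0, by simp⟩
  | add p₁ p₂ h₁ h₂ =>
    obtain ⟨q₁, hq₁⟩ := h₁
    obtain ⟨q₂, hq₂⟩ := h₂
    refine ⟨q₁ + q₂, ?_⟩
    rw [map_add, hq₁, hq₂]
    simp only [map_add, add_mul, Finset.sum_add_distrib]
    ring
  | mul_X p j h =>
    obtain ⟨q, hq⟩ := h
    set A0 := algebraMap R S (eval a p) with hA0
    set A1 := ∑ i, algebraMap R S (eval a (pderiv i p)) * y i with hA1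
    refine ⟨A1 * y j + q * algebraMap R S (a j) + algebraMap R S t * q * y j, ?_⟩
    rw [map_mul, hq, aeval_X]
    have h1 : ∑ i, algebraMap R S (eval a (pderiv i (p * X j))) * y i =
        algebraMap R S (a j) * A1 + A0 * y j := by
      have h2 : ∀ i, algebraMap R S (eval a (pderiv i (p * X j))) * y i =
          algebraMap R S (a j) * (algebraMap R S (eval a (pderiv i p)) * y i) +
            (if i = j then A0 * y j else 0) := by
        intro i
        rw [pderiv_mul, pderiv_X]
        by_cases hij : i = j
        · subst hij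
          simp only [Pi.single_eq_same, mul_one, map_add, map_mul, eval_X, if_true, hA0]
          ring
        · rw [if_neg hij, Pi.single_eq_of_ne (Ne.symm hij)]
          simp only [mul_zero, add_zero, map_mul, eval_X]
          ring
      simp only [h2, Finset.sum_add_distrib, ← Finset.mul_sum, Finset.sum_ite_eq',
        Finset.mem_univ, if_true, hA1]
    rw [h1]
    simp only [map_mul, eval_X, map_pow]
    ring

/-- Chain rule for `aeval`. -/
theorem pderiv_aeval {R : Type*} [CommRing R] {σ τ : Type*} [Fintype σ] [DecidableEq σ]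
    (F : σ → MvPolynomial τ R) (t : τ) (p : MvPolynomial σ R) :
    pderiv t (aeval F p) = ∑ i, aeval F (pderiv i p) * pderiv t (F i) := by
  induction p using MvPolynomial.induction_on with
  | C r => simp
  | add p₁ p₂ h₁ h₂ =>
    simp only [map_add, h₁, h₂, add_mul, Finset.sum_add_distrib]
  | mul_X p j h =>
    rw [map_mul, aeval_X, pderiv_mul, h]
    have h2 : ∀ i, aeval F (pderiv i (p * X j)) * pderiv t (F i) =
        (aeval F (pderiv i p) * pderiv t (F i)) * F j +
          (if i = j then aeval F p * pderiv t (F j) else 0) := by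
      intro i
      rw [pderiv_mul, pderiv_X]
      by_cases hij : i = j
      · subst hij
        simp only [Pi.single_eq_same, mul_one, map_add, map_mul, aeval_X, if_true]
        ring
      · rw [if_neg hij, Pi.single_eq_of_ne (Ne.symm hij)]
        simp only [mul_zero, add_zero, map_mul, aeval_X]
        ring
    simp only [h2, Finset.sum_add_distrib, ← Finset.sum_mul, Finset.sum_ite_eq',
      Finset.mem_univ, if_true]

/-- If `Σ β_I det(M_I) = a` over the `c × c` minors of a `c × n` matrix `M` then `M` has a right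
inverse up to `a`. -/
theorem exists_right_inverse {R : Type*} [CommRing R] {c n : ℕ} (M : Matrix (Fin c) (Fin n) R)
    (β : (Fin c → Fin n) → R) :
    ∃ s : Matrix (Fin n) (Fin c) R,
      M * s = (∑ cols, β cols * (M.submatrix id cols).det) • (1 : Matrix (Fin c) (Fin c) R) := by
  classical
  let S : (Fin c → Fin n) → Matrix (Fin n) (Fin c) R := fun cols =>
    Matrix.of fun i k => ∑ k', if cols k' = i then (M.submatrix id cols).adjugate k' k else 0
  have hS : ∀ cols, M * S cols = (M.submatrix id cols).det • (1 : Matrix (Fin c) (Fin c) R) := by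
    intro cols
    rw [← Matrix.mul_adjugate]
    ext j k
    simp only [Matrix.mul_apply, S, Matrix.of_apply, Finset.mul_sum, Matrix.submatrix_apply, id]
    rw [Finset.sum_comm]
    refine Finset.sum_congr rfl fun k' _ => ?_
    simp only [mul_ite, mul_zero, Finset.sum_ite_eq, Finset.mem_univ, if_true]
  refine ⟨∑ cols, β cols • S cols, ?_⟩
  rw [Matrix.mul_sum, Finset.sum_smul]
  refine Finset.sum_congr rfl fun cols _ => ?_
  rw [Matrix.mul_smul, hS, smul_smul]

/-- In a flat module, `π²`-torsion is killed by `π r` for `r` multiplying the `π²`-torsion of the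
ring into the `π`-torsion. -/
theorem smul_eq_zero_of_flat {R M : Type u} [CommRing R] [AddCommGroup M] [Module R M]
    [Module.Flat R M] (π r : R) (hr : ∀ x : R, π ^ 2 * x = 0 → π * (r * x) = 0) (x : M)
    (hx : π ^ 2 • x = 0) : (π * r) • x = 0 := by
  have hsum : ∑ i : Fin 1, (fun _ : Fin 1 => π ^ 2) i • (fun _ : Fin 1 => x) i = 0 := by
    simpa using hx
  obtain ⟨k, a, y, h1, h2⟩ := Module.Flat.isTrivialRelation_of_sum_smul_eq_zero hsum
  have hx' := h1 0
  simp only at hx'
  rw [hx', Finset.smul_sum]
  refine Finset.sum_eq_zero fun j _ => ?_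
  have h3 := h2 j
  simp only [Fin.sum_univ_one] at h3
  rw [smul_smul, mul_assoc, hr _ h3, zero_smul]

lemma span_singleton_mul_span_le {P : Type*} [CommRing P] (a : P) {ι : Type*} (f : ι → P)
    (K : Ideal P) (h : ∀ j, a * f j ∈ K) : Ideal.span {a} * Ideal.span (Set.range f) ≤ K := by
  rw [Ideal.span_singleton_mul_le_iff]
  intro z hz
  refine Submodule.span_induction ?_ ?_ ?_ ?_ hz
  · rintro _ ⟨j, rfl⟩; exact h j
  · simp
  · intro x y _ _ hx hy; rw [mul_add]; exact add_mem hx hy
  · intro c x _ hx
    rw [smul_eq_mul, mul_left_comm]; exact Ideal.mul_mem_left _ _ hx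

/-- If `π⁴ t = 0` and `π²`-torsion is `π`-torsion then `π t = 0`. -/
lemma smul_eq_zero_of_pow_four {R Λ : Type*} [CommRing R] [CommRing Λ] [Algebra R Λ] (π : R)
    (hΛ : ∀ x : Λ, π ^ 2 • x = 0 → π • x = 0) (t : Λ) (ht : π ^ 4 • t = 0) : π • t = 0 := by
  have h1 : π ^ 2 • (π ^ 2 • t) = 0 := by rw [smul_smul, ← pow_add]; exact ht
  have h2 : π • (π ^ 2 • t) = 0 := hΛ _ h1
  have h3 : π ^ 2 • (π • t) = 0 := by
    rw [smul_smul] at h2 ⊢
    rw [mul_comm]; exact h2
  have h4 : π • (π • t) = 0 := hΛ _ h3
  have h5 : π ^ 2 • t = 0 := by rw [pow_two, mul_smul]; exact h4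
  exact hΛ _ h5

end Groth.Agent.Lib.Helper27.DesA
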