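import Mathlib
import Groth.Prelude.Def_Smoothing
import Groth.Agent.Lib.Helper27.DesA
import Groth.Agent.Lib.Helper27.PopI

/-!
# The algebra `B` of the desingularization lemma (Stacks 07CR)
-/

namespace Groth.Agent.Lib.Helper27.DesB

open MvPolynomial Smoothing

universe u

variable {R : Type u} [CommRing R] {n c : ℕ}

noncomputable def yv (π : R) (s : Fin n → Fin c → R) (i : Fin n) :
    MvPolynomial (Fin c ⊕ Fin n) R :=
  ∑ k, C (s i k) * X (Sum.inl k) + C π * X (Sum.inr i)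

noncomputable def chi (π : R) (rr : Fin n → R) (s : Fin n → Fin c → R) :
    MvPolynomial (Fin n) R →ₐ[R] MvPolynomial (Fin c ⊕ Fin n) R :=
  aeval (fun i => C (rr i) + C (π ^ 2) * yv π s i)

lemma pderiv_inr_yv (π : R) (s : Fin n → Fin c → R) (i i' : Fin n) :
    pderiv (Sum.inr i) (yv π s i') = if i' = i then C π else 0 := by
  classical
  simp only [yv, map_add, map_sum, pderiv_C_mul]
  have h1 : ∀ k : Fin c, pderiv (Sum.inr i : Fin c ⊕ Fin n)
      (X (Sum.inl k) : MvPolynomial (Fin c ⊕ Fin n) R) = 0 :=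
    fun k => pderiv_X_of_ne Sum.inl_ne_inr
  simp only [h1, mul_zero, Finset.sum_const_zero, zero_add]
  by_cases h : i' = i
  · subst h; simp
  · rw [if_neg h, pderiv_X_of_ne (fun h' => h (Sum.inr_injective h')), mul_zero]

lemma pderiv_inr_chi (π : R) (rr : Fin n → R) (s : Fin n → Fin c → R) (i : Fin n)
    (p : MvPolynomial (Fin n) R) :
    pderiv (Sum.inr i) (chi π rr s p) = C (π ^ 3) * chi π rr s (pderiv i p) := by
  classical
  rw [chi, DesA.pderiv_aeval]
  have h1 : ∀ i' : Fin n, pderiv (Sum.inr i) (C (rr i') + C (π ^ 2) * yv π s i') =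
      if i' = i then C (π ^ 3) else 0 := by
    intro i'
    rw [map_add, pderiv_C, zero_add, pderiv_C_mul, pderiv_inr_yv]
    by_cases h : i' = i
    · rw [if_pos h, if_pos h, ← C_mul]; congr 1; ring
    · rw [if_neg h, if_neg h, mul_zero]
  simp only [h1, mul_ite, mul_zero, Finset.sum_ite_eq', Finset.mem_univ, if_true]
  ring

/-- The data of the desingularization lemma. -/
structure DData (R : Type u) [CommRing R] (n m c : ℕ) where
  π : R
  f : Fin m → MvPolynomial (Fin n) R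
  lead : Fin c ↪ Fin m
  rr : Fin n → R
  s : Fin n → Fin c → R
  u' : R
  e : Fin m → R
  q : Fin m → MvPolynomial (Fin c ⊕ Fin n) R
  b : (Fin c → Fin n) → MvPolynomial (Fin n) R
  hfe : ∀ j, eval rr (f j) = π ^ 4 * e j
  hs : ∀ j k, ∑ i, eval rr (pderiv i (f (lead j))) * s i k =
    if j = k then (1 + π ^ 3 * u') * π else 0
  hq : ∀ j, chi π rr s (f j) = C (eval rr (f j)) +
    C (π ^ 2) * ∑ i, C (eval rr (pderiv i (f j))) * yv π s i + C (π ^ 4) * q j
  htail : ∀ j, C π * f j ∈ Ideal.span (Set.range (f ∘ lead)) ⊔ Ideal.span (Set.range f) ^ 2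
  hminor : C π - ∑ cols, b cols * jacobianMinor f lead cols ∈ Ideal.span (Set.range f)

namespace DData

variable {m : ℕ} (d : DData R n m c)

noncomputable def χ : MvPolynomial (Fin n) R →ₐ[R] MvPolynomial (Fin c ⊕ Fin n) R :=
  chi d.π d.rr d.s

noncomputable def rc (j : Fin m) (i : Fin n) : R := eval d.rr (pderiv i (d.f j))

noncomputable def g (k : Fin c) : MvPolynomial (Fin c ⊕ Fin n) R :=
  C (1 + d.π ^ 3 * d.u') * X (Sum.inl k) + ∑ i, C (d.rc (d.lead k) i) * X (Sum.inr i) +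
    C d.π * (C (d.e (d.lead k)) + d.q (d.lead k))

noncomputable def Gd (j : Fin m) : MvPolynomial (Fin c ⊕ Fin n) R :=
  C (d.π ^ 2) * (C (d.e j) + d.q j) + ∑ i, C (d.rc j i) * yv d.π d.s i

lemma chi_div (j : Fin m) : d.χ (d.f j) = C (d.π ^ 2) * d.Gd j := by
  rw [χ, d.hq, d.hfe]
  simp only [Gd, rc, map_mul, map_pow]
  ring

lemma sum_rc_yv (k : Fin c) :
    ∑ i, C (d.rc (d.lead k) i) * yv d.π d.s i =
      C d.π * (C (1 + d.π ^ 3 * d.u') * X (Sum.inl k) +
        ∑ i, C (d.rc (d.lead k) i) * X (Sum.inr i)) := by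
  classical
  simp only [yv, mul_add, Finset.sum_add_distrib, Finset.mul_sum]
  congr 1
  · rw [Finset.sum_comm]
    have h1 : ∀ k' : Fin c, ∑ i, C (d.rc (d.lead k) i) * (C (d.s i k') * X (Sum.inl k')) =
        (if k = k' then C ((1 + d.π ^ 3 * d.u') * d.π) * X (Sum.inl k') else 0 :
          MvPolynomial (Fin c ⊕ Fin n) R) := by
      intro k'
      have h2 : ∑ i, C (d.rc (d.lead k) i) * (C (d.s i k') * X (Sum.inl k')) =
          C (∑ i, d.rc (d.lead k) i * d.s i k') *
            (X (Sum.inl k') : MvPolynomial (Fin c ⊕ Fin n) R) := by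
        rw [map_sum, Finset.sum_mul]
        exact Finset.sum_congr rfl fun i _ => by rw [C_mul]; ring
      have h3 := d.hs k k'
      simp only [rc] at h2 ⊢
      rw [h2, h3]
      split_ifs <;> simp
    simp only [h1, Finset.sum_ite_eq, Finset.mem_univ, if_true]
    rw [C_mul]; ring
  · exact Finset.sum_congr rfl fun i _ => by ring

lemma chi_lead (k : Fin c) : d.χ (d.f (d.lead k)) = C (d.π ^ 3) * d.g k := by
  rw [d.chi_div, Gd, d.sum_rc_yv, g]
  simp only [map_pow]
  ring

noncomputable def rel : Fin m ⊕ Fin c → MvPolynomial (Fin c ⊕ Fin n) R :=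
  Sum.elim (fun j => d.χ (d.f j)) d.g

noncomputable def J : Ideal (MvPolynomial (Fin c ⊕ Fin n) R) := Ideal.span (Set.range d.rel)

lemma chi_f_mem (j : Fin m) : d.χ (d.f j) ∈ d.J := Ideal.subset_span ⟨Sum.inl j, rfl⟩

lemma g_mem (k : Fin c) : d.g k ∈ d.J := Ideal.subset_span ⟨Sum.inr k, rfl⟩

lemma map_chi_span_le : (Ideal.span (Set.range d.f)).map d.χ.toRingHom ≤ d.J := by
  rw [Ideal.map_span, Ideal.span_le]
  rintro _ ⟨_, ⟨j, rfl⟩, rfl⟩
  exact d.chi_f_mem j

/-- the leading rows for the chart `π ≠ 0` -/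
def rowsπ : Fin c ↪ Fin m ⊕ Fin c := d.lead.trans ⟨Sum.inl, Sum.inl_injective⟩

lemma minor_inr (cols : Fin c → Fin n) :
    Matrix.det (Matrix.of fun j k : Fin c =>
      pderiv (Sum.inr (cols k) : Fin c ⊕ Fin n) (d.rel (d.rowsπ j))) =
      C d.π ^ (3 * c) * d.χ (jacobianMinor d.f d.lead cols) := by
  classical
  have h1 : (Matrix.of fun j k : Fin c =>
      pderiv (Sum.inr (cols k) : Fin c ⊕ Fin n) (d.rel (d.rowsπ j))) =
      (C (d.π ^ 3) : MvPolynomial (Fin c ⊕ Fin n) R) • d.χ.toRingHom.mapMatrix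
        (Matrix.of fun j k : Fin c => pderiv (cols k) (d.f (d.lead j))) := by
    refine Matrix.ext fun j k => ?_
    simp only [Matrix.of_apply, rowsπ, Function.Embedding.trans_apply,
      Function.Embedding.coeFn_mk, rel, Sum.elim_inl, Matrix.smul_apply, RingHom.mapMatrix_apply,
      Matrix.map_apply, smul_eq_mul]
    exact pderiv_inr_chi _ _ _ _ _
  rw [h1, Matrix.det_smul, Fintype.card_fin, ← RingHom.map_det, map_pow, ← pow_mul]
  rfl

lemma C_pi_cube_mul_rel_mem (t : Fin m ⊕ Fin c) :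
    C d.π ^ 3 * d.rel t ∈ Ideal.span (Set.range (d.rel ∘ d.rowsπ)) ⊔ d.J ^ 2 := by
  rcases t with j | k
  · show C d.π ^ 3 * d.χ (d.f j) ∈ _
    have h1 : C d.π ^ 3 * d.χ (d.f j) = C d.π ^ 2 * d.χ.toRingHom (C d.π * d.f j) := by
      show _ = C d.π ^ 2 * d.χ (C d.π * d.f j)
      rw [map_mul]
      have h2 : d.χ (C d.π) = C d.π := by simp [χ, chi]
      rw [h2]; ring
    rw [h1]
    refine Ideal.mul_mem_left _ _ ?_
    have h3 := Ideal.mem_map_of_mem d.χ.toRingHom (d.htail j)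
    rw [Ideal.map_sup, Ideal.map_pow] at h3
    refine (sup_le_sup ?_ (Ideal.pow_right_mono d.map_chi_span_le 2)) h3
    rw [Ideal.map_span, Ideal.span_le]
    rintro _ ⟨_, ⟨k, rfl⟩, rfl⟩
    exact Ideal.subset_span ⟨k, rfl⟩
  · show C d.π ^ 3 * d.g k ∈ _
    refine Ideal.mem_sup_left ?_
    have h1 : C d.π ^ 3 * d.g k = d.χ (d.f (d.lead k)) := by
      rw [d.chi_lead, map_pow]
    rw [h1]
    exact Ideal.subset_span ⟨k, rfl⟩

/-- A power of `π` is strictly standard in `B`. -/
theorem isStrictlyStandard_pi :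
    IsStrictlyStandard R (MvPolynomial (Fin c ⊕ Fin n) R ⧸ d.J)
      (Ideal.Quotient.mk d.J (C d.π ^ (3 * c + 3))) := by
  classical
  refine PopI.isStrictlyStandard_of_fintype d.rel (Ideal.Quotient.mkₐ R d.J)
    (Ideal.Quotient.mkₐ_surjective R d.J) ?_ d.rowsπ (by simp) _ ?_ ?_
  · ext p
    rw [RingHom.mem_ker]
    exact Ideal.Quotient.eq_zero_iff_mem
  · set Sp := Ideal.span (Set.range fun cols : Fin c → Fin c ⊕ Fin n =>
      (Ideal.Quotient.mkₐ R d.J) (Matrix.det (Matrix.of fun j k : Fin c =>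
        pderiv (cols k) (d.rel (d.rowsπ j))))) with hSp
    have h1 : ∀ cols : Fin c → Fin n,
        Ideal.Quotient.mk d.J (C d.π ^ (3 * c) * d.χ (jacobianMinor d.f d.lead cols)) ∈ Sp := by
      intro cols
      rw [← d.minor_inr cols]
      exact Ideal.subset_span ⟨fun k => Sum.inr (cols k), rfl⟩
    have h2 : Ideal.Quotient.mk d.J (C d.π) =
        ∑ cols, Ideal.Quotient.mk d.J (d.χ (d.b cols)) *
          Ideal.Quotient.mk d.J (d.χ (jacobianMinor d.f d.lead cols)) := by
      have h3 := d.map_chi_span_le (Ideal.mem_map_of_mem d.χ.toRingHom d.hminor)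
      have h4 : d.χ.toRingHom (C d.π - ∑ cols, d.b cols * jacobianMinor d.f d.lead cols) =
          C d.π - ∑ cols, d.χ (d.b cols) * d.χ (jacobianMinor d.f d.lead cols) := by
        show d.χ _ = _
        rw [map_sub, map_sum]
        simp only [map_mul]
        congr 1
        simp [χ, chi]
      rw [h4] at h3
      have h5 := Ideal.Quotient.eq.mpr h3
      rw [h5, map_sum]
      simp only [map_mul]
    have h6 : Ideal.Quotient.mk d.J (C d.π ^ (3 * c + 3)) =
        ∑ cols, (Ideal.Quotient.mk d.J (C d.π ^ 2) * Ideal.Quotient.mk d.J (d.χ (d.b cols))) *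
          Ideal.Quotient.mk d.J (C d.π ^ (3 * c) * d.χ (jacobianMinor d.f d.lead cols)) := by
      have h7 : (C d.π ^ (3 * c + 3) : MvPolynomial (Fin c ⊕ Fin n) R) =
          C d.π ^ 2 * C d.π ^ (3 * c) * C d.π := by ring
      rw [h7, map_mul, h2, Finset.mul_sum]
      refine Finset.sum_congr rfl fun cols _ => ?_
      simp only [map_mul]
      ring
    rw [h6]
    exact Ideal.sum_mem _ fun cols _ => Ideal.mul_mem_left _ _ (h1 cols)
  · intro a₁ ha₁ t
    have hdiff : a₁ - C d.π ^ (3 * c + 3) ∈ d.J := Ideal.Quotient.eq.mp ha₁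
    have hrelJ : d.rel t ∈ Ideal.span (Set.range d.rel) := Ideal.subset_span ⟨t, rfl⟩
    have hsplit : a₁ * d.rel t =
        (a₁ - C d.π ^ (3 * c + 3)) * d.rel t + C d.π ^ (3 * c) * (C d.π ^ 3 * d.rel t) := by ring
    rw [hsplit]
    refine add_mem (Ideal.mem_sup_right (by rw [pow_two]; exact Ideal.mul_mem_mul hdiff hrelJ))
      (Ideal.mul_mem_left _ _ (d.C_pi_cube_mul_rel_mem t))

/-- The map to `Λ`. -/
theorem exists_beta {Λ : Type u} [CommRing Λ] [Algebra R Λ]
    (hΛ : ∀ x : Λ, d.π ^ 2 • x = 0 → d.π • x = 0) (lam : Fin n → Λ)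
    (hlam : ∀ j, aeval (fun i => algebraMap R Λ (d.rr i) + d.π ^ 4 • lam i) (d.f j) = 0) :
    ∃ β : (MvPolynomial (Fin c ⊕ Fin n) R ⧸ d.J) →ₐ[R] Λ, ∀ p : MvPolynomial (Fin n) R,
      β (Ideal.Quotient.mk d.J (d.χ p)) =
        aeval (fun i => algebraMap R Λ (d.rr i) + d.π ^ 4 • lam i) p := by
  classical
  let evB : MvPolynomial (Fin c ⊕ Fin n) R →ₐ[R] Λ :=
    aeval (Sum.elim (fun _ => 0) (fun i => d.π • lam i))
  have hyv : ∀ i, evB (yv d.π d.s i) = d.π • d.π • lam i := by
    intro i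
    simp only [evB, yv, map_add, map_sum, map_mul, aeval_C, aeval_X, Sum.elim_inl, Sum.elim_inr,
      mul_zero, Finset.sum_const_zero, zero_add, ← Algebra.smul_def]
  have hcomp : ∀ p, evB (d.χ p) =
      aeval (fun i => algebraMap R Λ (d.rr i) + d.π ^ 4 • lam i) p := by
    intro p
    have h1 : evB.comp d.χ = aeval (fun i => algebraMap R Λ (d.rr i) + d.π ^ 4 • lam i) := by
      apply MvPolynomial.algHom_ext
      intro i
      show evB (d.χ (X i)) = aeval _ (X i)
      rw [aeval_X]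
      simp only [χ, chi, aeval_X, map_add, map_mul, hyv]
      simp only [evB, aeval_C, ← Algebra.smul_def, smul_smul]
      congr 2
      ring
    exact DFunLike.congr_fun h1 p
  have hg : ∀ k, evB (d.g k) = 0 := by
    intro k
    set t : Λ := ∑ i, algebraMap R Λ (d.rc (d.lead k) i) * lam i +
      evB (C (d.e (d.lead k)) + d.q (d.lead k)) with ht
    have h1 : evB (d.g k) = d.π • t := by
      rw [ht, smul_add, Finset.smul_sum]
      simp only [g, map_add, map_mul, map_sum]
      simp only [evB, aeval_C, aeval_X, Sum.elim_inl, Sum.elim_inr, mul_zero, zero_add,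
        mul_smul_comm, ← Algebra.smul_def]
    have h2 : d.π ^ 3 • evB (d.g k) = 0 := by
      have h3 : d.π ^ 3 • evB (d.g k) = evB (d.χ (d.f (d.lead k))) := by
        rw [d.chi_lead, map_mul, Algebra.smul_def]
        congr 1
        simp [evB]
      rw [h3, hcomp, hlam]
    have h4 : d.π ^ 4 • t = 0 := by
      rw [pow_succ, mul_smul, ← h1]; exact h2
    rw [h1]
    exact DesA.smul_eq_zero_of_pow_four d.π hΛ t h4
  have hJle : ∀ p ∈ d.J, evB p = 0 := by
    have h1 : d.J ≤ RingHom.ker evB.toRingHom := by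
      show Ideal.span (Set.range d.rel) ≤ _
      rw [Ideal.span_le]
      rintro _ ⟨t, rfl⟩
      rcases t with j | k
      · show evB (d.χ (d.f j)) = 0
        rw [hcomp, hlam]
      · exact hg k
    exact fun p hp => h1 hp
  exact ⟨Ideal.Quotient.liftₐ d.J evB hJle, fun p => hcomp p⟩

end DData

end Groth.Agent.Lib.Helper27.DesB
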