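import Mathlib
import Groth.Prelude.Def_Smoothing
import Groth.Agent.Lib.Helper27.DesB

/-!
# Smoothness of the algebra `B` of the desingularization lemma along `V(π)`
-/

namespace Groth.Agent.Lib.Helper27.DesB

open MvPolynomial Smoothing

universe u

namespace DData

variable {R : Type u} [CommRing R] {n c m : ℕ} (d : DData R n m c)

noncomputable def Jg : Ideal (MvPolynomial (Fin c ⊕ Fin n) R) := Ideal.span (Set.range d.g)

lemma Jg_le : d.Jg ≤ d.J :=
  Ideal.span_mono (by rintro _ ⟨k, rfl⟩; exact ⟨Sum.inr k, rfl⟩)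

noncomputable def Δg : MvPolynomial (Fin c ⊕ Fin n) R :=
  Matrix.det (Matrix.of fun j k : Fin c => pderiv (Sum.inl k) (d.g j))

lemma pderiv_inl_g (j k : Fin c) :
    ∃ z, pderiv (Sum.inl k) (d.g j) = (if j = k then 1 else 0) + C d.π * z := by
  classical
  refine ⟨(if j = k then C (d.π ^ 2 * d.u') else 0) + pderiv (Sum.inl k) (d.q (d.lead j)), ?_⟩
  have h1 : ∀ i : Fin n, pderiv (Sum.inl k : Fin c ⊕ Fin n)
      (X (Sum.inr i) : MvPolynomial (Fin c ⊕ Fin n) R) = 0 :=
    fun i => pderiv_X_of_ne Sum.inr_ne_inl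
  have h0 : pderiv (Sum.inl k) (d.g j) =
      C (1 + d.π ^ 3 * d.u') * pderiv (Sum.inl k) (X (Sum.inl j)) +
        C d.π * pderiv (Sum.inl k) (d.q (d.lead j)) := by
    rw [g]
    simp only [map_add (pderiv (Sum.inl k : Fin c ⊕ Fin n)), map_sum, pderiv_C_mul, pderiv_C, h1,
      mul_zero, Finset.sum_const_zero, add_zero, zero_add]
  rw [h0]
  by_cases h : j = k
  · subst h
    rw [pderiv_X_self, if_pos rfl, if_pos rfl]
    simp only [map_add, map_mul, map_pow, map_one]
    ring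
  · rw [pderiv_X_of_ne (fun h' => h (Sum.inl_injective h')), if_neg h, if_neg h]
    ring

lemma Δg_eq : ∃ z, d.Δg = 1 + C d.π * z := by
  classical
  have h1 : Ideal.Quotient.mk (Ideal.span {(C d.π : MvPolynomial (Fin c ⊕ Fin n) R)}) d.Δg = 1 := by
    rw [Δg, RingHom.map_det]
    have h2 : (Ideal.Quotient.mk (Ideal.span {(C d.π : MvPolynomial (Fin c ⊕ Fin n) R)})).mapMatrix
        (Matrix.of fun j k : Fin c => pderiv (Sum.inl k) (d.g j)) = 1 := by
      refine Matrix.ext fun j k => ?_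
      obtain ⟨z, hz⟩ := d.pderiv_inl_g j k
      simp only [RingHom.mapMatrix_apply, Matrix.map_apply, Matrix.of_apply, hz, map_add, map_mul,
        Matrix.one_apply]
      rw [Ideal.Quotient.eq_zero_iff_mem.mpr (Ideal.mem_span_singleton_self _), zero_mul, add_zero]
      split_ifs <;> simp
    rw [h2, Matrix.det_one]
  have h3 : d.Δg - 1 ∈ Ideal.span {(C d.π : MvPolynomial (Fin c ⊕ Fin n) R)} := by
    rw [← Ideal.Quotient.eq, h1, map_one]
  obtain ⟨z, hz⟩ := Ideal.mem_span_singleton'.mp h3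
  exact ⟨z, by rw [mul_comm, hz]; ring⟩

lemma isStrictlyStandard_Δg :
    IsStrictlyStandard R (MvPolynomial (Fin c ⊕ Fin n) R ⧸ d.Jg)
      (Ideal.Quotient.mk d.Jg d.Δg) := by
  refine PopI.isStrictlyStandard_of_fintype d.g (Ideal.Quotient.mkₐ R d.Jg)
    (Ideal.Quotient.mkₐ_surjective R d.Jg) ?_ (Function.Embedding.refl (Fin c)) (by simp) _ ?_ ?_
  · ext p
    rw [RingHom.mem_ker]
    exact Ideal.Quotient.eq_zero_iff_mem
  · exact Ideal.subset_span ⟨fun k => Sum.inl k, rfl⟩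
  · intro a₁ _ t
    exact Ideal.mem_sup_left (Ideal.mul_mem_left _ _ (Ideal.subset_span ⟨t, rfl⟩))

theorem exists_mul_chi_mem [IsNoetherianRing R] (r : R)
    (hr : ∀ x : R, d.π ^ 2 * x = 0 → d.π * (r * x) = 0) :
    ∃ (N : ℕ) (et : MvPolynomial (Fin c ⊕ Fin n) R),
      et - 1 ∈ d.Jg ⊔ Ideal.span {C d.π} ∧
      ∀ j, d.Δg ^ N * C r * et * d.χ (d.f j) ∈ d.Jg := by
  classical
  set mk' := Ideal.Quotient.mk d.Jg with hmk'
  set π' := mk' (C d.π) with hπ'
  let F : Fin m → (MvPolynomial (Fin c ⊕ Fin n) R ⧸ d.Jg) := fun j => mk' (d.χ (d.f j))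
  set I' : Ideal (MvPolynomial (Fin c ⊕ Fin n) R ⧸ d.Jg) := Ideal.span (Set.range F) with hI'
  have hFdiv : ∀ j, F j = π' * π' * mk' (d.Gd j) := by
    intro j
    simp only [F]
    rw [d.chi_div, map_mul, map_pow, map_pow, pow_two]
  have hlead0 : ∀ k, F (d.lead k) = 0 := by
    intro k
    simp only [F]
    rw [d.chi_lead]
    exact Ideal.Quotient.eq_zero_iff_mem.mpr
      (Ideal.mul_mem_left _ _ (Ideal.subset_span ⟨k, rfl⟩))
  have hsq : ∀ j, π' * F j ∈ I' ^ 2 := by
    intro j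
    have h3 := Ideal.mem_map_of_mem (mk'.comp d.χ.toRingHom) (d.htail j)
    rw [Ideal.map_sup, Ideal.map_pow, Ideal.map_span, Ideal.map_span] at h3
    have h4 : Ideal.span ((mk'.comp d.χ.toRingHom) '' Set.range (d.f ∘ d.lead)) = ⊥ := by
      rw [Ideal.span_eq_bot]
      rintro _ ⟨_, ⟨k, rfl⟩, rfl⟩
      exact hlead0 k
    have h5 : Ideal.span ((mk'.comp d.χ.toRingHom) '' Set.range d.f) = I' := by
      rw [hI', ← Set.range_comp]; rfl
    rw [h4, h5, bot_sup_eq] at h3
    have h6 : (mk'.comp d.χ.toRingHom) (C d.π * d.f j) = π' * F j := by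
      show mk' (d.χ (C d.π * d.f j)) = _
      rw [map_mul, map_mul]
      have h2 : d.χ (C d.π) = C d.π := by simp [χ, chi]
      rw [h2]
    rw [h6] at h3
    exact h3
  set N : Ideal (MvPolynomial (Fin c ⊕ Fin n) R ⧸ d.Jg) := Ideal.span {π'} * I' with hN
  have hN1 : N ≤ I' ^ 2 := DesA.span_singleton_mul_span_le π' F (I' ^ 2) hsq
  have hI'le : I' ≤ Ideal.span {π'} * Ideal.span {π'} := by
    rw [hI', Ideal.span_le]
    rintro _ ⟨j, rfl⟩
    rw [hFdiv j]
    exact Ideal.mul_mem_right _ _ (Ideal.mul_mem_mul (Ideal.mem_span_singleton_self _)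
      (Ideal.mem_span_singleton_self _))
  have hN2 : N ≤ Ideal.span {π'} • N := by
    refine hN1.trans ?_
    rw [pow_two, smul_eq_mul, hN, ← mul_assoc]
    exact Ideal.mul_mono_left hI'le
  obtain ⟨e, he1, he2⟩ := Submodule.exists_sub_one_mem_and_smul_eq_zero_of_fg_of_le_smul
    (Ideal.span {π'}) N (IsNoetherian.noetherian N) hN2
  have heF : ∀ j, e * (π' * F j) = 0 := fun j =>
    he2 _ (Ideal.mul_mem_mul (Ideal.mem_span_singleton_self _) (Ideal.subset_span ⟨j, rfl⟩))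
  have hss := d.isStrictlyStandard_Δg
  set Δ' := mk' d.Δg with hΔ'
  have hsm : Algebra.Smooth R (Localization.Away Δ') := (Groth.Agent.S2030.result Δ' hss).1
  haveI : Module.Flat R (Localization.Away Δ') := inferInstance
  set al := algebraMap (MvPolynomial (Fin c ⊕ Fin n) R ⧸ d.Jg) (Localization.Away Δ') with hal
  have hπL : ∀ a : R, algebraMap R (Localization.Away Δ') a = al (mk' (C a)) := by
    intro a
    rw [IsScalarTower.algebraMap_apply R (MvPolynomial (Fin c ⊕ Fin n) R ⧸ d.Jg)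
      (Localization.Away Δ')]
    rfl
  have key : ∀ j, ∃ Nj : ℕ, Δ' ^ Nj * (mk' (C r) * e * F j) = 0 := by
    intro j
    set x := al (π' * e * mk' (d.Gd j)) with hx
    have e3 : d.π ^ 2 • x = 0 := by
      rw [Algebra.smul_def, map_pow, hπL, hx, ← map_pow, ← map_mul]
      have h7 : mk' (C d.π) ^ 2 * (π' * e * mk' (d.Gd j)) = e * (π' * F j) := by
        rw [hFdiv j]; ring
      rw [h7, heF, map_zero]
    have e4 := DesA.smul_eq_zero_of_flat d.π r hr x e3
    have e5 : al (mk' (C r) * e * F j) = 0 := by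
      have h8 : mk' (C r) * e * F j =
          mk' (C d.π) * mk' (C r) * (π' * e * mk' (d.Gd j)) := by
        rw [hFdiv j]; ring
      rw [h8, map_mul, map_mul, ← hπL, ← hπL, ← map_mul, ← Algebra.smul_def]
      exact e4
    obtain ⟨⟨_, Nj, rfl⟩, hNj⟩ := (IsLocalization.map_eq_zero_iff (Submonoid.powers Δ')
      (Localization.Away Δ') _).mp e5
    exact ⟨Nj, hNj⟩
  choose Nj hNj using key
  obtain ⟨et, het⟩ := Ideal.Quotient.mk_surjective e
  refine ⟨Finset.univ.sup Nj, et, ?_, fun j => ?_⟩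
  · obtain ⟨z', hz'⟩ := Ideal.mem_span_singleton'.mp he1
    obtain ⟨z, rfl⟩ := Ideal.Quotient.mk_surjective z'
    have h9 : et - 1 - z * C d.π ∈ d.Jg := by
      apply Ideal.Quotient.eq_zero_iff_mem.mp
      rw [map_sub, map_sub, map_mul, map_one]
      show mk' et - 1 - mk' z * π' = 0
      rw [het, hz', sub_self]
    have h8 : et - 1 = (et - 1 - z * C d.π) + z * C d.π := by ring
    rw [h8]
    exact add_mem (Ideal.mem_sup_left h9)
      (Ideal.mem_sup_right (Ideal.mul_mem_left _ _ (Ideal.mem_span_singleton_self _)))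
  · have hle : Nj j ≤ Finset.univ.sup Nj := Finset.le_sup (Finset.mem_univ j)
    obtain ⟨e', he'⟩ := Nat.exists_eq_add_of_le hle
    apply Ideal.Quotient.eq_zero_iff_mem.mp
    rw [he', map_mul, map_mul, map_mul, map_pow]
    show Δ' ^ (Nj j + e') * mk' (C r) * mk' et * F j = 0
    rw [het, pow_add]
    have h10 : Δ' ^ Nj j * Δ' ^ e' * mk' (C r) * e * F j =
        Δ' ^ e' * (Δ' ^ Nj j * (mk' (C r) * e * F j)) := by ring
    rw [h10, hNj, mul_zero]

theorem isSmoothAt_of_pi_mem [IsNoetherianRing R] (r : R)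
    (hr : ∀ x : R, d.π ^ 2 * x = 0 → d.π * (r * x) = 0)
    (Q : Ideal (MvPolynomial (Fin c ⊕ Fin n) R ⧸ d.J)) [Q.IsPrime]
    (hπQ : Ideal.Quotient.mk d.J (C d.π) ∈ Q) (hrQ : Ideal.Quotient.mk d.J (C r) ∉ Q) :
    Algebra.IsSmoothAt R Q := by
  classical
  obtain ⟨N, et, het1, het2⟩ := d.exists_mul_chi_mem r hr
  set E := d.Δg ^ (N + 1) * C r * et with hE
  have hss : IsStrictlyStandard R (MvPolynomial (Fin c ⊕ Fin n) R ⧸ d.J)
      (Ideal.Quotient.mk d.J E) := by
    refine PopI.isStrictlyStandard_of_fintype d.rel (Ideal.Quotient.mkₐ R d.J)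
      (Ideal.Quotient.mkₐ_surjective R d.J) ?_
      (⟨Sum.inr, Sum.inr_injective⟩ : Fin c ↪ Fin m ⊕ Fin c) (by simp) _ ?_ ?_
    · ext p
      rw [RingHom.mem_ker]
      exact Ideal.Quotient.eq_zero_iff_mem
    · have hmem : (Ideal.Quotient.mkₐ R d.J) d.Δg ∈
          Ideal.span (Set.range fun cols : Fin c → Fin c ⊕ Fin n =>
            (Ideal.Quotient.mkₐ R d.J) (Matrix.det (Matrix.of fun j k : Fin c =>
              pderiv (cols k)
                (d.rel ((⟨Sum.inr, Sum.inr_injective⟩ : Fin c ↪ Fin m ⊕ Fin c) j))))) :=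
        Ideal.subset_span ⟨fun k => Sum.inl k, rfl⟩
      have h2 : Ideal.Quotient.mk d.J E =
          Ideal.Quotient.mk d.J (d.Δg ^ N * C r * et) * (Ideal.Quotient.mkₐ R d.J) d.Δg := by
        show _ = Ideal.Quotient.mk d.J _ * Ideal.Quotient.mk d.J _
        rw [← map_mul, hE]
        congr 1
        ring
      rw [h2]
      exact Ideal.mul_mem_left _ _ hmem
    · intro a₁ ha₁ t
      have hdiff : a₁ - E ∈ d.J := Ideal.Quotient.eq.mp ha₁
      have hrelJ : d.rel t ∈ Ideal.span (Set.range d.rel) := Ideal.subset_span ⟨t, rfl⟩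
      have hsplit : a₁ * d.rel t = (a₁ - E) * d.rel t + E * d.rel t := by ring
      rw [hsplit]
      refine add_mem (Ideal.mem_sup_right (by rw [pow_two]; exact Ideal.mul_mem_mul hdiff hrelJ))
        (Ideal.mem_sup_left ?_)
      have hJg : Ideal.span (Set.range
          (d.rel ∘ (⟨Sum.inr, Sum.inr_injective⟩ : Fin c ↪ Fin m ⊕ Fin c))) = d.Jg := rfl
      rw [hJg]
      rcases t with j | k
      · show E * d.χ (d.f j) ∈ _
        have h3 : E * d.χ (d.f j) = d.Δg * (d.Δg ^ N * C r * et * d.χ (d.f j)) := by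
          rw [hE]; ring
        rw [h3]
        exact Ideal.mul_mem_left _ _ (het2 j)
      · exact Ideal.mul_mem_left _ _ (Ideal.subset_span ⟨k, rfl⟩)
  refine PopI.isSmoothAt_of_isStrictlyStandard hss Q ?_
  intro hmem
  rw [hE, map_mul, map_mul, map_pow] at hmem
  have hone : ∀ x : MvPolynomial (Fin c ⊕ Fin n) R, x - 1 ∈ d.Jg ⊔ Ideal.span {C d.π} →
      Ideal.Quotient.mk d.J x ∉ Q := by
    intro x hx hxQ
    have h1 : Ideal.Quotient.mk d.J (x - 1) ∈ Q := by
      obtain ⟨y₁, hy₁, y₂, hy₂, hy⟩ := Submodule.mem_sup.mp hx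
      obtain ⟨z, rfl⟩ := Ideal.mem_span_singleton'.mp hy₂
      rw [← hy, map_add, Ideal.Quotient.eq_zero_iff_mem.mpr (d.Jg_le hy₁), zero_add, map_mul]
      exact Ideal.mul_mem_left _ _ hπQ
    have h2 : (1 : MvPolynomial (Fin c ⊕ Fin n) R ⧸ d.J) ∈ Q := by
      have h3 : (1 : MvPolynomial (Fin c ⊕ Fin n) R ⧸ d.J) =
          Ideal.Quotient.mk d.J x - Ideal.Quotient.mk d.J (x - 1) := by
        rw [map_sub, map_one]; ring
      rw [h3]
      exact sub_mem hxQ h1
    exact (Ideal.IsPrime.ne_top inferInstance) ((Ideal.eq_top_iff_one _).mpr h2)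
  have hΔ : Ideal.Quotient.mk d.J d.Δg ∉ Q := by
    obtain ⟨z, hz⟩ := d.Δg_eq
    apply hone
    rw [hz]
    have h4 : (1 + C d.π * z) - 1 = z * C d.π := by ring
    rw [h4]
    exact Ideal.mem_sup_right (Ideal.mul_mem_left _ _ (Ideal.mem_span_singleton_self _))
  rcases Ideal.IsPrime.mem_or_mem inferInstance hmem with h | h
  · rcases Ideal.IsPrime.mem_or_mem inferInstance h with h | h
    · exact hΔ (Ideal.IsPrime.mem_of_pow_mem inferInstance _ h)
    · exact hrQ h
  · exact hone et het1 h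

end DData

end Groth.Agent.Lib.Helper27.DesB
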