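import Mathlib
import Groth.Prelude.Def_Smoothing
import Groth.Agent.Lib.Helper27.DesC
import Groth.Agent.Lib.Helper27.PopO

/-!
# The desingularization lemma (Stacks 07CR), presentation form
-/

namespace Groth.Agent.Lib.Helper27.DesD

open MvPolynomial Smoothing Groth.Agent.Lib.Helper27.DesB

universe u

theorem main {R Λ A : Type u} [CommRing R] [IsNoetherianRing R] [CommRing Λ] [Algebra R Λ] (π : R)
    (hΛ : ∀ x : Λ, π ^ 2 • x = 0 → π • x = 0) [CommRing A] [Algebra R A] (φ : A →ₐ[R] Λ)
    {n m c : ℕ} (f : Fin m → MvPolynomial (Fin n) R) (hom : MvPolynomial (Fin n) R →ₐ[R] A)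
    (hsurj : Function.Surjective hom)
    (hker : RingHom.ker hom.toRingHom = Ideal.span (Set.range f))
    (lead : Fin c ↪ Fin m)
    (hminor : algebraMap R A π ∈ Ideal.span (Set.range fun cols : Fin c → Fin n =>
      hom (jacobianMinor f lead cols)))
    (htail : ∀ j, C π * f j ∈ Ideal.span (Set.range (f ∘ lead)) ⊔ Ideal.span (Set.range f) ^ 2)
    (ρ : A →ₐ[R] R ⧸ Ideal.span {π ^ 4})
    (hρ : ∀ (a : A) (r : R), Ideal.Quotient.mk (Ideal.span {π ^ 4}) r = ρ a →
      algebraMap R Λ r - φ a ∈ Ideal.span {algebraMap R Λ (π ^ 4)}) :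
    ∃ (B : Type u) (_ : CommRing B) (_ : Algebra R B), Algebra.FinitePresentation R B ∧
      ∃ (α : A →ₐ[R] B) (β : B →ₐ[R] Λ), β.comp α = φ ∧
        ∀ r : R, (∀ x : R, π ^ 2 * x = 0 → π * (r * x) = 0) →
          algebraMap R B r ∈ Smoothing.singularIdeal R B := by
  classical
  choose rr hrr using fun i : Fin n =>
    Ideal.Quotient.mk_surjective (I := Ideal.span {π ^ 4}) (ρ (hom (X i)))
  have hρhom : ∀ p, ρ (hom p) = Ideal.Quotient.mk (Ideal.span {π ^ 4}) (eval rr p) := by
    intro p
    have h1 : ρ.comp hom = (Ideal.Quotient.mkₐ R (Ideal.span {π ^ 4})).comp (aeval rr) := by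
      apply MvPolynomial.algHom_ext
      intro i
      show ρ (hom (X i)) = Ideal.Quotient.mk _ (aeval rr (X i))
      rw [aeval_X, hrr]
    exact DFunLike.congr_fun h1 p
  have hhomf : ∀ j, hom (f j) = 0 := by
    intro j
    have h1 : f j ∈ RingHom.ker hom.toRingHom := by
      rw [hker]; exact Ideal.subset_span ⟨j, rfl⟩
    exact h1
  have hfe : ∀ j, ∃ e, eval rr (f j) = π ^ 4 * e := by
    intro j
    have h1 : Ideal.Quotient.mk (Ideal.span {π ^ 4}) (eval rr (f j)) = 0 := by
      rw [← hρhom, hhomf, map_zero]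
    obtain ⟨e, he⟩ := Ideal.mem_span_singleton'.mp (Ideal.Quotient.eq_zero_iff_mem.mp h1)
    exact ⟨e, by rw [← he, mul_comm]⟩
  choose e he using hfe
  obtain ⟨bA, hbA⟩ := (Ideal.mem_span_range_iff_exists_fun).mp hminor
  choose b hb using fun cols => hsurj (bA cols)
  have hCπ : hom (C π) = algebraMap R A π := by
    rw [← MvPolynomial.algebraMap_eq, AlgHom.commutes]
  have hmin0 : hom (C π - ∑ cols, b cols * jacobianMinor f lead cols) = 0 := by
    rw [map_sub, map_sum]
    simp only [map_mul, hb]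
    rw [hbA, hCπ, sub_self]
  have hmin : C π - ∑ cols, b cols * jacobianMinor f lead cols ∈ Ideal.span (Set.range f) := by
    rw [← hker]; exact hmin0
  let M : Matrix (Fin c) (Fin n) R := Matrix.of fun j i => eval rr (pderiv i (f (lead j)))
  have hdet : ∀ cols : Fin c → Fin n,
      eval rr (jacobianMinor f lead cols) = (M.submatrix id cols).det := by
    intro cols
    unfold jacobianMinor
    rw [RingHom.map_det]
    rfl
  have htot : ∃ u', ∑ cols, eval rr (b cols) * (M.submatrix id cols).det =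
      (1 + π ^ 3 * u') * π := by
    have h3 : Ideal.Quotient.mk (Ideal.span {π ^ 4})
        (eval rr (C π - ∑ cols, b cols * jacobianMinor f lead cols)) = 0 := by
      rw [← hρhom, hmin0, map_zero]
    obtain ⟨z, hz⟩ := Ideal.mem_span_singleton'.mp (Ideal.Quotient.eq_zero_iff_mem.mp h3)
    refine ⟨-z, ?_⟩
    simp only [map_sub, eval_C, map_sum, map_mul, hdet] at hz
    linear_combination hz
  obtain ⟨u', hu'⟩ := htot
  obtain ⟨s, hs⟩ := DesA.exists_right_inverse M (fun cols => eval rr (b cols))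
  have hq := fun j => DesA.taylor (S := MvPolynomial (Fin c ⊕ Fin n) R) rr (π ^ 2)
    (yv π (fun i k => s i k)) (f j)
  choose q hq using hq
  let d : DData R n m c :=
    { π := π, f := f, lead := lead, rr := rr, s := fun i k => s i k, u' := u', e := e, q := q
      b := b, hfe := he
      hs := by
        intro j k
        have h1 := congrFun (congrFun hs j) k
        rw [hu'] at h1
        simp only [Matrix.mul_apply, M, Matrix.of_apply, Matrix.smul_apply, Matrix.one_apply,
          smul_eq_mul, mul_ite, mul_one, mul_zero] at h1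
        exact h1
      hq := by
        intro j
        have h := hq j
        simp only [MvPolynomial.algebraMap_eq] at h
        rw [chi, h, ← pow_mul]
      htail := htail
      hminor := hmin }
  -- the map α
  have hkerle : RingHom.ker hom.toRingHom ≤
      RingHom.ker ((Ideal.Quotient.mkₐ R d.J).comp d.χ).toRingHom := by
    rw [hker]
    intro x hx
    have h1 := d.map_chi_span_le (Ideal.mem_map_of_mem d.χ.toRingHom hx)
    exact Ideal.Quotient.eq_zero_iff_mem.mpr h1
  obtain ⟨α, hα⟩ := PopO.exists_lift (C := MvPolynomial (Fin c ⊕ Fin n) R ⧸ d.J) hom hsurj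
    ((Ideal.Quotient.mkₐ R d.J).comp d.χ) hkerle
  -- the map β
  have hlam : ∀ i, ∃ l : Λ, φ (hom (X i)) = algebraMap R Λ (rr i) + π ^ 4 • l := by
    intro i
    obtain ⟨l, hl⟩ := Ideal.mem_span_singleton'.mp (hρ (hom (X i)) (rr i) (hrr i))
    refine ⟨-l, ?_⟩
    rw [Algebra.smul_def]
    linear_combination hl
  choose lam hlam using hlam
  have hφhom : ∀ p, φ (hom p) =
      aeval (fun i => algebraMap R Λ (rr i) + π ^ 4 • lam i) p := by
    intro p
    have h1 : φ.comp hom = aeval (fun i => algebraMap R Λ (rr i) + π ^ 4 • lam i) := by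
      apply MvPolynomial.algHom_ext
      intro i
      show φ (hom (X i)) = aeval _ (X i)
      rw [aeval_X, hlam]
    exact DFunLike.congr_fun h1 p
  have hlamf : ∀ j, aeval (fun i => algebraMap R Λ (rr i) + π ^ 4 • lam i) (f j) = 0 := by
    intro j
    rw [← hφhom, hhomf, map_zero]
  obtain ⟨β, hβ⟩ := d.exists_beta hΛ lam hlamf
  refine ⟨MvPolynomial (Fin c ⊕ Fin n) R ⧸ d.J, inferInstance, inferInstance, ?_, α, β, ?_, ?_⟩
  · exact Algebra.FinitePresentation.quotient (Submodule.fg_span (Set.finite_range _))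
  · apply AlgHom.ext
    intro a
    obtain ⟨p, rfl⟩ := hsurj a
    show β (α (hom p)) = φ (hom p)
    rw [hα, hφhom]
    exact hβ p
  · intro r hr
    unfold singularIdeal
    rw [PrimeSpectrum.mem_vanishingIdeal]
    intro Q hQ
    by_contra hc
    apply hQ
    show Algebra.IsSmoothAt R Q.asIdeal
    by_cases hπQ : Ideal.Quotient.mk d.J (C π) ∈ Q.asIdeal
    · exact d.isSmoothAt_of_pi_mem r hr Q.asIdeal hπQ hc
    · refine PopI.isSmoothAt_of_isStrictlyStandard d.isStrictlyStandard_pi Q.asIdeal ?_
      intro hmem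
      rw [map_pow] at hmem
      exact hπQ (Ideal.IsPrime.mem_of_pow_mem inferInstance _ hmem)

end Groth.Agent.Lib.Helper27.DesD
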