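import Mathlib
import Groth.Prelude.Def_Smoothing
import Groth.Agent.Lib.Helper27.PopG
import Groth.Agent.Lib.Helper27.PopJ
import Groth.Agent.S2027
import Groth.Agent.S6829

/-!
# The desingularization lemma over a base `D` (Stacks 07CT)
-/

namespace Groth.Agent.Lib.Helper27.DesE

open Smoothing TensorProduct

universe u

/-- Elements of the singular ideal of `D/R` have a power multiplying the `π²`-torsion into the
`π`-torsion. -/
theorem exists_pow_annCond {R D : Type u} [CommRing R] [CommRing D] [Algebra R D]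
    [Algebra.FinitePresentation R D] [IsNoetherianRing D] (π : R)
    (hR : ∀ r : R, π ^ 2 * r = 0 → π * r = 0) (x : D) (hx : x ∈ singularIdeal R D) :
    ∃ N : ℕ, ∀ y : D, algebraMap R D π ^ 2 * y = 0 → algebraMap R D π * (x ^ N * y) = 0 := by
  classical
  rw [PopG.mem_singularIdeal_iff] at hx
  haveI : Module.Flat R (Localization.Away x) := inferInstance
  set πD := algebraMap R D π with hπD
  let K : Ideal D := LinearMap.ker (LinearMap.mulLeft D (πD ^ 2))
  have hK : ∀ y, y ∈ K ↔ πD ^ 2 * y = 0 := fun y => by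
    simp only [K, LinearMap.mem_ker, LinearMap.mulLeft_apply]
  have key : ∀ y ∈ K, ∃ N : ℕ, x ^ N * (πD * y) = 0 := by
    intro y hy
    have h1 : π ^ 2 • algebraMap D (Localization.Away x) y = 0 := by
      rw [Algebra.smul_def, IsScalarTower.algebraMap_apply R D (Localization.Away x), ← map_mul,
        map_pow, (hK y).mp hy, map_zero]
    have h2 := PopJ.smul_eq_zero_of_flat π hR _ h1
    have h3 : algebraMap D (Localization.Away x) (πD * y) = 0 := by
      rw [map_mul, hπD, ← IsScalarTower.algebraMap_apply R D (Localization.Away x),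
        ← Algebra.smul_def]
      exact h2
    obtain ⟨⟨_, N, rfl⟩, hN⟩ := (IsLocalization.map_eq_zero_iff (Submonoid.powers x)
      (Localization.Away x) _).mp h3
    exact ⟨N, hN⟩
  obtain ⟨t, gen, hgen⟩ :=
    Submodule.fg_iff_exists_fin_generating_family.mp (IsNoetherian.noetherian K)
  have hgenK : ∀ i, gen i ∈ K := fun i => hgen ▸ Submodule.subset_span ⟨i, rfl⟩
  choose Ni hNi using fun i => key (gen i) (hgenK i)
  refine ⟨Finset.univ.sup Ni, fun y hy => ?_⟩
  have hyK : y ∈ Submodule.span D (Set.range gen) := by rw [hgen]; exact (hK y).mpr hy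
  have h4 : x ^ (Finset.univ.sup Ni) * (πD * y) = 0 := by
    refine Submodule.span_induction (p := fun y _ => x ^ (Finset.univ.sup Ni) * (πD * y) = 0)
      ?_ ?_ ?_ ?_ hyK
    · rintro _ ⟨i, rfl⟩
      obtain ⟨e, he⟩ := Nat.exists_eq_add_of_le
        (Finset.le_sup (Finset.mem_univ i) : Ni i ≤ Finset.univ.sup Ni)
      rw [he, pow_add, mul_assoc, mul_left_comm, hNi, mul_zero]
    · simp
    · intro a b _ _ ha hb
      rw [mul_add, mul_add, ha, hb, add_zero]
    · intro c a _ ha
      rw [smul_eq_mul, mul_left_comm πD, mul_left_comm (x ^ _), ha, mul_zero]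
  rw [mul_left_comm]
  exact h4

/-- Transitivity of smoothness for singular ideals. -/
theorem map_mem_singularIdeal_of_comp {R D B : Type u} [CommRing R] [CommRing D] [CommRing B]
    [Algebra R D] [Algebra D B] [Algebra R B] [IsScalarTower R D B]
    [Algebra.FinitePresentation R D] [Algebra.FinitePresentation D B] (x : D)
    (hx : x ∈ singularIdeal R D) (hxB : algebraMap D B x ∈ singularIdeal D B) :
    algebraMap D B x ∈ singularIdeal R B := by
  haveI : Algebra.FinitePresentation R B := Algebra.FinitePresentation.trans R D B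
  rw [PopG.mem_singularIdeal_iff] at hx hxB ⊢
  have hunit : IsUnit (algebraMap D (Localization.Away (algebraMap D B x)) x) := by
    rw [IsScalarTower.algebraMap_apply D B (Localization.Away (algebraMap D B x))]
    exact IsLocalization.Away.algebraMap_isUnit _
  letI : Algebra (Localization.Away x) (Localization.Away (algebraMap D B x)) :=
    (IsLocalization.Away.lift x hunit).toAlgebra
  haveI : IsScalarTower D (Localization.Away x) (Localization.Away (algebraMap D B x)) :=
    IsScalarTower.of_algebraMap_eq fun d => (IsLocalization.Away.lift_eq x hunit d).symm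
  haveI : IsScalarTower R D (Localization.Away (algebraMap D B x)) :=
    IsScalarTower.of_algebraMap_eq fun r => by
      rw [IsScalarTower.algebraMap_apply R B (Localization.Away (algebraMap D B x)),
        IsScalarTower.algebraMap_apply R D B,
        ← IsScalarTower.algebraMap_apply D B (Localization.Away (algebraMap D B x))]
  haveI : IsScalarTower R (Localization.Away x) (Localization.Away (algebraMap D B x)) :=
    IsScalarTower.of_algebraMap_eq fun r => by
      rw [IsScalarTower.algebraMap_apply R D (Localization.Away (algebraMap D B x)),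
        IsScalarTower.algebraMap_apply D (Localization.Away x)
          (Localization.Away (algebraMap D B x)),
        ← IsScalarTower.algebraMap_apply R D (Localization.Away x)]
  haveI : Algebra.FormallySmooth (Localization.Away x) (Localization.Away (algebraMap D B x)) :=
    Algebra.FormallySmooth.localization_base (R := D) (Rₘ := Localization.Away x)
      (Sₘ := Localization.Away (algebraMap D B x)) (Submonoid.powers x)
  haveI : Algebra.FinitePresentation (Localization.Away x)
      (Localization.Away (algebraMap D B x)) :=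
    Algebra.FinitePresentation.of_restrict_scalars_finitePresentation D (Localization.Away x)
      (Localization.Away (algebraMap D B x))
  haveI : Algebra.Smooth (Localization.Away x) (Localization.Away (algebraMap D B x)) :=
    ⟨inferInstance, inferInstance⟩
  exact Algebra.Smooth.comp R (Localization.Away x) (Localization.Away (algebraMap D B x))

theorem main {R Λ A D : Type u} [CommRing R] [IsNoetherianRing R]
    [CommRing Λ] [Algebra R Λ] (π : R) (hR : ∀ r : R, π ^ 2 * r = 0 → π * r = 0)
    (hΛ : ∀ x : Λ, π ^ 2 • x = 0 → π • x = 0) [CommRing A] [Algebra R A]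
    [Algebra.FinitePresentation R A] [CommRing D] [Algebra R D] [Algebra.FinitePresentation R D]
    (φ : A →ₐ[R] Λ) (δ : D →ₐ[R] Λ) (hπ : Smoothing.IsStrictlyStandard R A (algebraMap R A π))
    (ψ : A →ₐ[R] D ⧸ Ideal.span {algebraMap R D (π ^ 4)})
    (hψ : ∀ (a : A) (d : D), Ideal.Quotient.mk (Ideal.span {algebraMap R D (π ^ 4)}) d = ψ a →
      δ d - φ a ∈ Ideal.span {algebraMap R Λ (π ^ 4)}) :
    ∃ (B : Type u) (_ : CommRing B) (_ : Algebra R B) (_ : Algebra D B) (_ : IsScalarTower R D B),
      Algebra.FinitePresentation R B ∧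
      ∃ (α : A →ₐ[R] B) (β : B →ₐ[R] Λ), β.comp α = φ ∧
        β.comp (IsScalarTower.toAlgHom R D B) = δ ∧
        (Smoothing.singularIdeal R D).map (algebraMap D B) ≤ Smoothing.singularIdeal D B ∧
        (Smoothing.singularIdeal R D).map (algebraMap D B) ≤ Smoothing.singularIdeal R B := by
  classical
  letI : Algebra D Λ := δ.toRingHom.toAlgebra
  haveI : IsScalarTower R D Λ := IsScalarTower.of_algebraMap_eq fun r => (δ.commutes r).symm
  haveI : IsNoetherianRing D := Algebra.FiniteType.isNoetherianRing R D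
  have hδ : ∀ d : D, algebraMap D Λ d = δ d := fun d => rfl
  set πD := algebraMap R D π with hπD
  have hΛD : ∀ x : Λ, πD ^ 2 • x = 0 → πD • x = 0 := by
    intro x hx
    have h2 : πD ^ 2 • x = π ^ 2 • x := by rw [hπD, ← map_pow, algebraMap_smul]
    rw [hπD, algebraMap_smul]
    exact hΛ x (h2 ▸ hx)
  have hss : IsStrictlyStandard D (D ⊗[R] A) (algebraMap D (D ⊗[R] A) πD) := by
    have h1 := (Groth.Agent.S6829.result (R' := D) (algebraMap R A π)).2 hπ
    have h2 : algebraMap D (D ⊗[R] A) πD = (1 : D) ⊗ₜ[R] algebraMap R A π := by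
      calc algebraMap D (D ⊗[R] A) πD = πD ⊗ₜ[R] (1 : A) := by
            rw [Algebra.TensorProduct.algebraMap_apply]; rfl
        _ = (π • (1 : D)) ⊗ₜ[R] (1 : A) := by rw [hπD, Algebra.algebraMap_eq_smul_one]
        _ = (1 : D) ⊗ₜ[R] (π • (1 : A)) := TensorProduct.smul_tmul _ _ _
        _ = (1 : D) ⊗ₜ[R] algebraMap R A π := by rw [Algebra.algebraMap_eq_smul_one]
    rw [h2]
    exact h1
  let φD : D ⊗[R] A →ₐ[D] Λ :=
    Algebra.TensorProduct.lift (Algebra.ofId D Λ) φ (fun _ _ => Commute.all _ _)
  have hφD : ∀ (d : D) (a : A), φD (d ⊗ₜ a) = δ d * φ a := fun d a => rfl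
  have hI : Ideal.span {algebraMap R D (π ^ 4)} = Ideal.span {πD ^ 4} := by rw [map_pow]
  let ψ' : A →ₐ[R] D ⧸ Ideal.span {πD ^ 4} :=
    (Ideal.quotientEquivAlgOfEq R hI).toAlgHom.comp ψ
  have hψ' : ∀ (a : A) (d' : D), Ideal.Quotient.mk (Ideal.span {algebraMap R D (π ^ 4)}) d' = ψ a →
      ψ' a = Ideal.Quotient.mk (Ideal.span {πD ^ 4}) d' := by
    intro a d' h
    show Ideal.quotientEquivAlgOfEq R hI (ψ a) = _
    rw [← h, Ideal.quotientEquivAlgOfEq_mk]
  let ρD : D ⊗[R] A →ₐ[D] D ⧸ Ideal.span {πD ^ 4} :=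
    Algebra.TensorProduct.lift (Algebra.ofId D _) ψ' (fun _ _ => Commute.all _ _)
  have hρD : ∀ (d : D) (a : A),
      ρD (d ⊗ₜ a) = Ideal.Quotient.mk (Ideal.span {πD ^ 4}) d * ψ' a := fun d a => rfl
  have hIΛ : Ideal.span {algebraMap D Λ (πD ^ 4)} = Ideal.span {algebraMap R Λ (π ^ 4)} := by
    rw [hπD, ← map_pow, ← IsScalarTower.algebraMap_apply]
  have hmem0 : ∀ r : D, r ∈ Ideal.span {πD ^ 4} → algebraMap D Λ r ∈
      Ideal.span {algebraMap D Λ (πD ^ 4)} := by
    intro r hr
    obtain ⟨z, rfl⟩ := Ideal.mem_span_singleton'.mp hr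
    rw [map_mul]
    exact Ideal.mul_mem_left _ _ (Ideal.mem_span_singleton_self _)
  have hρD' : ∀ (a : D ⊗[R] A) (r : D), Ideal.Quotient.mk (Ideal.span {πD ^ 4}) r = ρD a →
      algebraMap D Λ r - φD a ∈ Ideal.span {algebraMap D Λ (πD ^ 4)} := by
    intro a
    induction a using TensorProduct.induction_on with
    | zero =>
      intro r hr
      rw [map_zero] at hr
      rw [map_zero, sub_zero]
      exact hmem0 r (Ideal.Quotient.eq_zero_iff_mem.mp hr)
    | tmul d a =>
      intro r hr
      obtain ⟨d', hd'⟩ := Ideal.Quotient.mk_surjective (ψ a)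
      rw [hρD, hψ' a d' hd', ← map_mul] at hr
      have h1 : r - d * d' ∈ Ideal.span {πD ^ 4} := Ideal.Quotient.eq.mp hr
      have h2 := hψ a d' hd'
      rw [← hIΛ] at h2
      have h3 : algebraMap D Λ r - φD (d ⊗ₜ a) =
          algebraMap D Λ (r - d * d') + δ d * (δ d' - φ a) := by
        rw [hφD, map_sub, map_mul, hδ d, hδ d']; ring
      rw [h3]
      exact add_mem (hmem0 _ h1) (Ideal.mul_mem_left _ _ h2)
    | add a₁ a₂ h₁ h₂ =>
      intro r hr
      obtain ⟨r₁, hr₁⟩ := Ideal.Quotient.mk_surjective (ρD a₁)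
      have hr₂ : Ideal.Quotient.mk (Ideal.span {πD ^ 4}) (r - r₁) = ρD a₂ := by
        rw [map_sub, hr, hr₁, map_add]; ring
      have h3 : algebraMap D Λ r - φD (a₁ + a₂) =
          (algebraMap D Λ r₁ - φD a₁) + (algebraMap D Λ (r - r₁) - φD a₂) := by
        rw [map_add, map_sub]; ring
      rw [h3]
      exact add_mem (h₁ r₁ hr₁) (h₂ _ hr₂)
  obtain ⟨B, instB, instDB, hfpB, αD, βD, hcomp, hsing⟩ :=
    Groth.Agent.S2027.result (R := D) πD hΛD φD hss ρD hρD'
  letI : Algebra R B := ((algebraMap D B).comp (algebraMap R D)).toAlgebra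
  haveI : IsScalarTower R D B := IsScalarTower.of_algebraMap_eq fun _ => rfl
  haveI : Algebra.FinitePresentation R B := Algebra.FinitePresentation.trans R D B
  have hsingD : ∀ x ∈ singularIdeal R D, algebraMap D B x ∈ singularIdeal D B := by
    intro x hx
    obtain ⟨N, hN⟩ := exists_pow_annCond π hR x hx
    have h1 := hsing (x ^ N) hN
    rw [map_pow] at h1
    unfold singularIdeal at h1 ⊢
    rw [PrimeSpectrum.mem_vanishingIdeal] at h1 ⊢
    intro Q hQ
    exact Ideal.IsPrime.mem_of_pow_mem Q.isPrime _ (h1 Q hQ)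
  refine ⟨B, instB, inferInstance, instDB, inferInstance, inferInstance,
    (αD.restrictScalars R).comp (Algebra.TensorProduct.includeRight : A →ₐ[R] D ⊗[R] A),
    βD.restrictScalars R, ?_, ?_, ?_, ?_⟩
  · apply AlgHom.ext
    intro a
    show βD (αD ((1 : D) ⊗ₜ[R] a)) = φ a
    have h1 : βD (αD ((1 : D) ⊗ₜ[R] a)) = (βD.comp αD) ((1 : D) ⊗ₜ[R] a) := rfl
    rw [h1, hcomp, hφD, map_one, one_mul]
  · apply AlgHom.ext
    intro d
    show βD (algebraMap D B d) = δ d
    rw [AlgHom.commutes]
    rfl
  · rw [Ideal.map_le_iff_le_comap]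
    intro x hx
    exact hsingD x hx
  · rw [Ideal.map_le_iff_le_comap]
    intro x hx
    exact map_mem_singularIdeal_of_comp x hx (hsingD x hx)

end Groth.Agent.Lib.Helper27.DesE
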