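import Mathlib
import Groth.Prelude.Def_Smoothing
import Groth.Agent.S2024
import Groth.Agent.S2028

/-!
# Applying the lifting lemma and the desingularization lemma (Stacks 07CP)
-/

namespace Groth.Agent.Lib.Helper27.DesF

open Smoothing

universe u

/-- The lifting lemma with `π²` replaced by an element equal to it. -/
theorem lifting_lemma' {R Λ C : Type u} [CommRing R] [IsNoetherianRing R] [CommRing Λ]
    [Algebra R Λ] (π σ : R) (hσ : σ = π ^ 2) (hR : ∀ r : R, σ * r = 0 → π * r = 0)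
    (hΛ : ∀ x : Λ, σ • x = 0 → π • x = 0) [CommRing C] [Algebra R C]
    [Algebra (R ⧸ Ideal.span {σ}) C] [IsScalarTower R (R ⧸ Ideal.span {σ}) C]
    [Algebra.FinitePresentation (R ⧸ Ideal.span {σ}) C]
    (g : C →ₐ[R] Λ ⧸ Ideal.span {algebraMap R Λ σ}) :
    ∃ (D : Type u) (_ : CommRing D) (_ : Algebra R D), Algebra.FinitePresentation R D ∧
      ∃ (δ : D →ₐ[R] Λ) (ψ : C →ₐ[R] D ⧸ Ideal.span {algebraMap R D π}),
        (∀ (c : C) (d : D) (l : Λ), Ideal.Quotient.mk (Ideal.span {algebraMap R D π}) d = ψ c →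
          Ideal.Quotient.mk (Ideal.span {algebraMap R Λ σ}) l = g c →
            δ d - l ∈ Ideal.span {algebraMap R Λ π}) ∧
        (∀ (Q : Ideal D) [Q.IsPrime], algebraMap R D π ∉ Q → Algebra.IsSmoothAt R Q) ∧
        (∀ (Q : Ideal (D ⧸ Ideal.span {algebraMap R D π})) [Q.IsPrime],
          Algebra.IsSmoothAt (R ⧸ Ideal.span {σ}) (Q.comap ψ) →
            Algebra.IsSmoothAt R (Q.comap (Ideal.Quotient.mk (Ideal.span {algebraMap R D π})))) := by
  subst hσ
  exact Groth.Agent.S2024.result π hR hΛ g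

lemma isSmoothAt_congr {R D : Type*} [CommRing R] [CommRing D] [Algebra R D] (P P' : Ideal D)
    [P.IsPrime] [P'.IsPrime] (h : P = P') (hP : Algebra.IsSmoothAt R P) :
    Algebra.IsSmoothAt R P' := by
  subst h
  exact hP

lemma mul_eq_zero_of_pow {R : Type*} [CommRing R] (π : R)
    (hR : ∀ r : R, π ^ 2 * r = 0 → π * r = 0) (k : ℕ) (r : R) (h : π ^ (k + 1) * r = 0) :
    π * r = 0 := by
  induction k with
  | zero => simpa using h
  | succ k ih =>
    apply ih
    have h1 : π ^ 2 * (π ^ k * r) = 0 := by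
      rw [← mul_assoc, ← pow_add]
      have : 2 + k = k + 1 + 1 := by ring
      rw [this]; exact h
    have h2 := hR _ h1
    rw [pow_succ', mul_assoc]
    exact h2

lemma smul_eq_zero_of_pow {R Λ : Type*} [CommRing R] [AddCommGroup Λ] [Module R Λ] (π : R)
    (hΛ : ∀ x : Λ, π ^ 2 • x = 0 → π • x = 0) (k : ℕ) (x : Λ) (h : π ^ (k + 1) • x = 0) :
    π • x = 0 := by
  induction k with
  | zero => simpa using h
  | succ k ih =>
    apply ih
    have h1 : π ^ 2 • (π ^ k • x) = 0 := by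
      rw [smul_smul, ← pow_add]
      have : 2 + k = k + 1 + 1 := by ring
      rw [this]; exact h
    have h2 := hΛ _ h1
    rw [pow_succ', mul_smul]
    exact h2

theorem main {R Λ A C : Type u} [CommRing R] [IsNoetherianRing R] [CommRing Λ]
    [Algebra R Λ] (π : R) (hR : ∀ r : R, π ^ 2 * r = 0 → π * r = 0)
    (hΛ : ∀ x : Λ, π ^ 2 • x = 0 → π • x = 0) [CommRing A] [Algebra R A]
    [Algebra.FinitePresentation R A] (φ : A →ₐ[R] Λ)
    (hπ : Smoothing.IsStrictlyStandard R A (algebraMap R A π))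
    [CommRing C] [Algebra R C] [Algebra (R ⧸ Ideal.span {π ^ 8}) C]
    [IsScalarTower R (R ⧸ Ideal.span {π ^ 8}) C]
    [Algebra.FinitePresentation (R ⧸ Ideal.span {π ^ 8}) C]
    (γ : A →ₐ[R] C) (g : C →ₐ[R] Λ ⧸ Ideal.span {algebraMap R Λ (π ^ 8)})
    (hfac : ∀ a : A, g (γ a) = Ideal.Quotient.mk (Ideal.span {algebraMap R Λ (π ^ 8)}) (φ a)) :
    ∃ (B : Type u) (_ : CommRing B) (_ : Algebra R B), Algebra.FinitePresentation R B ∧
      ∃ (α : A →ₐ[R] B) (β : B →ₐ[R] Λ), β.comp α = φ ∧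
        (∀ (Q : Ideal B) [Q.IsPrime], algebraMap R B π ∉ Q → Algebra.IsSmoothAt R Q) ∧
        (Smoothing.singularIdeal (R ⧸ Ideal.span {π ^ 8}) C).map g ≤
          ((Smoothing.singularIdeal R B).map β).radical.map
            (Ideal.Quotient.mk (Ideal.span {algebraMap R Λ (π ^ 8)})) := by
  classical
  have h48 : π ^ 8 = (π ^ 4) ^ 2 := by ring
  have hR4 : ∀ r : R, π ^ 8 * r = 0 → π ^ 4 * r = 0 := by
    intro r h
    have h1 := mul_eq_zero_of_pow π hR 7 r h
    rw [pow_succ, mul_assoc, h1, mul_zero]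
  have hΛ4 : ∀ x : Λ, π ^ 8 • x = 0 → π ^ 4 • x = 0 := by
    intro x h
    have h1 := smul_eq_zero_of_pow π hΛ 7 x h
    rw [pow_succ, mul_smul, h1, smul_zero]
  obtain ⟨D, instD, instRD, hfpD, δ, ψ, ha, hb, hc⟩ :=
    lifting_lemma' (π ^ 4) (π ^ 8) h48 hR4 hΛ4 g
  have hψ' : ∀ (a : A) (d : D),
      Ideal.Quotient.mk (Ideal.span {algebraMap R D (π ^ 4)}) d = (ψ.comp γ) a →
      δ d - φ a ∈ Ideal.span {algebraMap R Λ (π ^ 4)} :=
    fun a d h => ha (γ a) d (φ a) h (hfac a).symm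
  obtain ⟨B, instB, instRB, instDB, hST, hfpB, α, β, hαβ, hβδ, hH1, hH2⟩ :=
    Groth.Agent.S2028.result π hR hΛ φ δ hπ (ψ.comp γ) hψ'
  have hβδ' : ∀ d : D, β (algebraMap D B d) = δ d := fun d => DFunLike.congr_fun hβδ d
  have hπ4D : algebraMap R D (π ^ 4) ∈ singularIdeal R D := by
    unfold singularIdeal
    rw [PrimeSpectrum.mem_vanishingIdeal]
    intro Q hQ
    by_contra hn
    exact hQ (hb Q.asIdeal hn)
  have hDmem : ∀ c ∈ singularIdeal (R ⧸ Ideal.span {π ^ 8}) C, ∀ d : D,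
      Ideal.Quotient.mk (Ideal.span {algebraMap R D (π ^ 4)}) d = ψ c →
      d ∈ singularIdeal R D := by
    intro c hcC d hd
    unfold singularIdeal at hcC ⊢
    rw [PrimeSpectrum.mem_vanishingIdeal] at hcC ⊢
    intro Q hQ
    by_cases hπQ : algebraMap R D (π ^ 4) ∈ Q.asIdeal
    · set mkπ := Ideal.Quotient.mk (Ideal.span {algebraMap R D (π ^ 4)}) with hmkπ
      have hsurj : Function.Surjective mkπ := Ideal.Quotient.mk_surjective
      have hkerle : RingHom.ker mkπ ≤ Q.asIdeal := by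
        rw [hmkπ, Ideal.mk_ker, Ideal.span_le]
        rintro _ rfl
        exact hπQ
      haveI : (Q.asIdeal.map mkπ).IsPrime := Ideal.map_isPrime_of_surjective hsurj hkerle
      have hcomap : (Q.asIdeal.map mkπ).comap mkπ = Q.asIdeal := by
        rw [Ideal.comap_map_of_surjective mkπ hsurj]
        exact sup_eq_left.mpr (by rwa [← RingHom.ker_eq_comap_bot])
      have hns : ¬ Algebra.IsSmoothAt (R ⧸ Ideal.span {π ^ 8}) ((Q.asIdeal.map mkπ).comap ψ) := by
        intro hsm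
        exact hQ (isSmoothAt_congr _ _ hcomap (hc (Q.asIdeal.map mkπ) hsm))
      have h1 := hcC ⟨(Q.asIdeal.map mkπ).comap ψ, inferInstance⟩ hns
      have h2 : ψ c ∈ Q.asIdeal.map mkπ := h1
      rw [← hd] at h2
      have h3 : d ∈ (Q.asIdeal.map mkπ).comap mkπ := h2
      rwa [hcomap] at h3
    · exact absurd (hb Q.asIdeal hπQ) hQ
  refine ⟨B, instB, instRB, hfpB, α, β, hαβ, ?_, ?_⟩
  · intro Q _ hQ
    have h1 : algebraMap D B (algebraMap R D (π ^ 4)) ∈ singularIdeal R B :=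
      hH2 (Ideal.mem_map_of_mem _ hπ4D)
    rw [← IsScalarTower.algebraMap_apply R D B] at h1
    unfold singularIdeal at h1
    rw [PrimeSpectrum.mem_vanishingIdeal] at h1
    by_contra hns
    have h2 := h1 ⟨Q, inferInstance⟩ hns
    rw [map_pow] at h2
    exact hQ (Ideal.IsPrime.mem_of_pow_mem inferInstance _ h2)
  · rw [Ideal.map_le_iff_le_comap]
    intro c hcC
    obtain ⟨d, hd⟩ := Ideal.Quotient.mk_surjective (ψ c)
    obtain ⟨l, hl⟩ := Ideal.Quotient.mk_surjective (g c)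
    have hdD := hDmem c hcC d hd
    have h1 : δ d ∈ (singularIdeal R B).map β := by
      rw [← hβδ']
      exact Ideal.mem_map_of_mem _ (hH2 (Ideal.mem_map_of_mem _ hdD))
    have h2 : algebraMap R Λ (π ^ 4) ∈ (singularIdeal R B).map β := by
      have h3 : algebraMap R Λ (π ^ 4) = β (algebraMap D B (algebraMap R D (π ^ 4))) := by
        rw [← IsScalarTower.algebraMap_apply R D B, AlgHom.commutes]
      rw [h3]
      exact Ideal.mem_map_of_mem _ (hH2 (Ideal.mem_map_of_mem _ hπ4D))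
    have h4 : δ d - l ∈ (singularIdeal R B).map β := by
      have h5 := ha c d l hd hl
      exact (Ideal.span_le.mpr (by rintro _ rfl; exact h2)) h5
    have h6 : l ∈ (singularIdeal R B).map β := by
      have h7 : l = δ d - (δ d - l) := by ring
      rw [h7]
      exact sub_mem h1 h4
    rw [Ideal.mem_comap, ← hl]
    exact Ideal.mem_map_of_mem _ (Ideal.le_radical h6)

end Groth.Agent.Lib.Helper27.DesF
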