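import Mathlib
import Groth.Prelude.Def_Smoothing
import Groth.Agent.Lib.Helper27.DesG
import Groth.Agent.S19959

/-!
# Lifting a resolution modulo `π⁸` (Stacks 07CQ, the case `r = 1`)
-/

namespace Groth.Agent.Lib.Helper27.DesH

open Smoothing

universe u

theorem lift_one {R A Λ : Type u} [CommRing R] [IsNoetherianRing R] [CommRing A] [Algebra R A]
    [Algebra.FinitePresentation R A] [CommRing Λ] [Algebra R Λ]
    (φ : A →ₐ[R] Λ) (𝔮 : Ideal Λ) [𝔮.IsPrime] (π : R) (hπ𝔮 : algebraMap R Λ π ∈ 𝔮)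
    (hR : ∀ r : R, π ^ 2 * r = 0 → π * r = 0) (hΛ : ∀ x : Λ, π ^ 2 • x = 0 → π • x = 0)
    (hstd : IsStrictlyStandard R A (algebraMap R A π))
    {R' A' Λ' : Type u} [CommRing R'] [CommRing A'] [CommRing Λ'] [Algebra R' A'] [Algebra R' Λ']
    [Algebra.FinitePresentation R' A'] (φ' : A' →ₐ[R'] Λ')
    (pR : R →+* R') (pA : A →+* A') (pΛ : Λ →+* Λ') (hpR : Function.Surjective pR)
    (hpA : Function.Surjective pA) (hpΛ : Function.Surjective pΛ)
    (hcA : ∀ r, pA (algebraMap R A r) = algebraMap R' A' (pR r))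
    (hcΛ : ∀ r, pΛ (algebraMap R Λ r) = algebraMap R' Λ' (pR r))
    (hcφ : ∀ a, φ' (pA a) = pΛ (φ a))
    (hkR : RingHom.ker pR = Ideal.span {π ^ 8})
    (hkA : RingHom.ker pA = (Ideal.span {π ^ 8}).map (algebraMap R A))
    (hkΛ : RingHom.ker pΛ = (Ideal.span {π ^ 8}).map (algebraMap R Λ))
    (hres : Resolvable R' φ' (𝔮.map pΛ)) : Resolvable R φ 𝔮 := by
  classical
  obtain ⟨B', instB', instRB', hfpB', g', h', hcomp', hle', hnle'⟩ := hres
  have hcomp'' : ∀ x, h' (g' x) = φ' x := fun x => DFunLike.congr_fun hcomp' x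
  -- the base ring `R / π⁸`
  have hkR' : Ideal.span {π ^ 8} ≤ RingHom.ker pR := le_of_eq hkR.symm
  let e : R ⧸ Ideal.span {π ^ 8} →+* R' :=
    Ideal.Quotient.lift (Ideal.span {π ^ 8}) pR (fun x hx => hkR' hx)
  have he : ∀ r, e (Ideal.Quotient.mk _ r) = pR r := fun r => rfl
  have hebij : Function.Bijective e := by
    constructor
    · rw [injective_iff_map_eq_zero]
      intro x hx
      obtain ⟨r, rfl⟩ := Ideal.Quotient.mk_surjective x
      rw [he] at hx
      have : r ∈ RingHom.ker pR := hx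
      rw [hkR] at this
      exact Ideal.Quotient.eq_zero_iff_mem.mpr this
    · intro y
      obtain ⟨r, rfl⟩ := hpR y
      exact ⟨Ideal.Quotient.mk _ r, rfl⟩
  letI : Algebra (R ⧸ Ideal.span {π ^ 8}) R' := e.toAlgebra
  letI : Algebra (R ⧸ Ideal.span {π ^ 8}) B' := ((algebraMap R' B').comp e).toAlgebra
  haveI : IsScalarTower (R ⧸ Ideal.span {π ^ 8}) R' B' :=
    IsScalarTower.of_algebraMap_eq fun _ => rfl
  letI : Algebra R B' := ((algebraMap R' B').comp pR).toAlgebra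
  haveI : IsScalarTower R (R ⧸ Ideal.span {π ^ 8}) B' :=
    IsScalarTower.of_algebraMap_eq fun _ => rfl
  have hRB' : ∀ r : R, algebraMap R B' r = algebraMap R' B' (pR r) := fun r => rfl
  haveI : Algebra.FinitePresentation (R ⧸ Ideal.span {π ^ 8}) R' :=
    Algebra.FinitePresentation.equiv
      (AlgEquiv.ofBijective (Algebra.ofId (R ⧸ Ideal.span {π ^ 8}) R') hebij)
  haveI : Algebra.FinitePresentation (R ⧸ Ideal.span {π ^ 8}) B' :=
    Algebra.FinitePresentation.trans (R ⧸ Ideal.span {π ^ 8}) R' B'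
  -- the target `Λ / π⁸ Λ`
  have hkΛ2 : RingHom.ker pΛ = Ideal.span {algebraMap R Λ (π ^ 8)} := by
    rw [hkΛ, Ideal.map_span, Set.image_singleton]
  have hkΛ' : Ideal.span {algebraMap R Λ (π ^ 8)} ≤ RingHom.ker pΛ := le_of_eq hkΛ2.symm
  let eΛ : Λ ⧸ Ideal.span {algebraMap R Λ (π ^ 8)} →+* Λ' :=
    Ideal.Quotient.lift _ pΛ (fun x hx => hkΛ' hx)
  have heΛ : ∀ l, eΛ (Ideal.Quotient.mk _ l) = pΛ l := fun l => rfl
  have heΛbij : Function.Bijective eΛ := by
    constructor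
    · rw [injective_iff_map_eq_zero]
      intro x hx
      obtain ⟨l, rfl⟩ := Ideal.Quotient.mk_surjective x
      rw [heΛ] at hx
      have : l ∈ RingHom.ker pΛ := hx
      rw [hkΛ2] at this
      exact Ideal.Quotient.eq_zero_iff_mem.mpr this
    · intro y
      obtain ⟨l, rfl⟩ := hpΛ y
      exact ⟨Ideal.Quotient.mk _ l, rfl⟩
  let EΛ : Λ ⧸ Ideal.span {algebraMap R Λ (π ^ 8)} ≃+* Λ' := RingEquiv.ofBijective eΛ heΛbij
  have hEΛ : ∀ l, EΛ.symm (pΛ l) = Ideal.Quotient.mk _ l := by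
    intro l
    rw [RingEquiv.symm_apply_eq]
    rfl
  have hEΛ' : ∀ x, pΛ x = EΛ (Ideal.Quotient.mk _ x) := fun x => rfl
  let g : B' →ₐ[R] Λ ⧸ Ideal.span {algebraMap R Λ (π ^ 8)} :=
    { toRingHom := EΛ.symm.toRingHom.comp h'.toRingHom
      commutes' := by
        intro r
        show EΛ.symm (h' (algebraMap R B' r)) = _
        rw [hRB', AlgHom.commutes, ← hcΛ, hEΛ]
        rfl }
  have hg : ∀ x, g x = EΛ.symm (h' x) := fun x => rfl
  let γ : A →ₐ[R] B' :=
    { toRingHom := g'.toRingHom.comp pA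
      commutes' := by
        intro r
        show g' (pA (algebraMap R A r)) = _
        rw [hcA, AlgHom.commutes, hRB'] }
  have hγ : ∀ a, γ a = g' (pA a) := fun a => rfl
  have hfac : ∀ a : A, g (γ a) =
      Ideal.Quotient.mk (Ideal.span {algebraMap R Λ (π ^ 8)}) (φ a) := by
    intro a
    rw [hg, hγ, hcomp'', hcφ, hEΛ]
  obtain ⟨B, instB, instRB, hfpB, α, β, hαβ, hsm, hsing⟩ :=
    Groth.Agent.S19959.result π hR hΛ φ hstd γ g hfac
  -- facts
  set HΛ : Ideal Λ := (singularIdeal R B).map β with hHΛ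
  have hF1 : singularIdeal R' B' ≤ singularIdeal (R ⧸ Ideal.span {π ^ 8}) B' :=
    DesG.singularIdeal_le_of_bijective hebij
  have hkA' : RingHom.ker pA = (RingHom.ker pR).map (algebraMap R A) := by rw [hkR, hkA]
  have hF2 : ∀ a ∈ singularIdeal R A, pA a ∈ singularIdeal R' A' := fun a ha =>
    DesG.map_mem_singularIdeal pR pA hpR hpA hcA hkA' a ha
  have hF3 : algebraMap R Λ π ∈ HΛ := by
    have h1 : algebraMap R B π ∈ singularIdeal R B := by
      unfold singularIdeal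
      rw [PrimeSpectrum.mem_vanishingIdeal]
      intro Q hQ
      by_contra hn
      exact hQ (hsm Q.asIdeal hn)
    have h2 : algebraMap R Λ π = β (algebraMap R B π) := by rw [AlgHom.commutes]
    rw [h2]
    exact Ideal.mem_map_of_mem _ h1
  have hF4 : ∀ x ∈ singularIdeal R' B', h' x ∈ HΛ.radical.map pΛ := by
    intro x hx
    have h1 : g x ∈ HΛ.radical.map
        (Ideal.Quotient.mk (Ideal.span {algebraMap R Λ (π ^ 8)})) :=
      hsing (Ideal.mem_map_of_mem _ (hF1 hx))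
    rw [Ideal.mem_map_iff_of_surjective _ Ideal.Quotient.mk_surjective] at h1
    obtain ⟨l, hl, hlg⟩ := h1
    have h2 : pΛ l = h' x := by
      rw [hEΛ', hlg, hg, RingEquiv.apply_symm_apply]
    rw [← h2]
    exact Ideal.mem_map_of_mem _ hl
  have hkerle : RingHom.ker pΛ ≤ 𝔮 := by
    rw [hkΛ2, Ideal.span_le]
    rintro _ rfl
    rw [map_pow]
    exact Ideal.pow_mem_of_mem _ hπ𝔮 8 (by norm_num)
  haveI : (𝔮.map pΛ).IsPrime := Ideal.map_isPrime_of_surjective hpΛ hkerle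
  refine ⟨B, instB, instRB, hfpB, α, β, hαβ, ?_, ?_⟩
  · -- singRad R φ ≤ singRad R β
    show ((singularIdeal R A).map φ).radical ≤ HΛ.radical
    rw [Ideal.radical_le_radical_iff, Ideal.map_le_iff_le_comap]
    intro a ha
    show φ a ∈ HΛ.radical
    have h1 : φ' (pA a) ∈ singRad R' φ' :=
      Ideal.le_radical (Ideal.mem_map_of_mem _ (hF2 a ha))
    have h2 : φ' (pA a) ∈ singRad R' h' := hle' h1
    have h3 : singRad R' h' ≤ (HΛ.radical.map pΛ).radical := by
      apply Ideal.radical_mono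
      rw [Ideal.map_le_iff_le_comap]
      intro x hx
      exact hF4 x hx
    have h4 := h3 h2
    obtain ⟨N, hN⟩ := h4
    rw [hcφ, ← map_pow, Ideal.mem_map_iff_of_surjective _ hpΛ] at hN
    obtain ⟨l, hl, hlN⟩ := hN
    have h5 : φ a ^ N - l ∈ RingHom.ker pΛ := by
      rw [RingHom.mem_ker, map_sub, hlN, sub_self]
    have h6 : RingHom.ker pΛ ≤ HΛ.radical := by
      rw [hkΛ2, Ideal.span_le]
      rintro _ rfl
      rw [map_pow]
      exact Ideal.le_radical (Ideal.pow_mem_of_mem _ hF3 8 (by norm_num))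
    have h7 : φ a ^ N ∈ HΛ.radical := by
      have h8 : φ a ^ N = (φ a ^ N - l) + l := by ring
      rw [h8]
      exact add_mem (h6 h5) hl
    obtain ⟨M, hM⟩ := h7
    exact ⟨N * M, by rw [pow_mul]; exact hM⟩
  · -- ¬ singRad R β ≤ 𝔮
    show ¬ HΛ.radical ≤ 𝔮
    intro hcon
    apply hnle'
    show ((singularIdeal R' B').map h').radical ≤ 𝔮.map pΛ
    rw [Ideal.IsPrime.radical_le_iff inferInstance, Ideal.map_le_iff_le_comap]
    intro x hx
    exact (Ideal.map_mono hcon) (hF4 x hx)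

end Groth.Agent.Lib.Helper27.DesH
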