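import Mathlib
import Groth.Prelude.Def_Smoothing
import Groth.Agent.Lib.Helper27.DesH
import Groth.Agent.S6829

/-!
# Lifting a resolution modulo `(π₁⁸, …, π_r⁸)` (Stacks 07CQ)
-/

namespace Groth.Agent.Lib.Helper27.DesI

open Smoothing TensorProduct

universe u

/-- the ideal generated by the 8-th powers of the earlier elements -/
def Iset {R : Type*} [CommRing R] {r : ℕ} (π : Fin r → R) (i : Fin r) : Ideal R :=
  Ideal.span (Set.range fun j : {j : Fin r // (j : ℕ) < (i : ℕ)} => π j ^ 8)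

/-- the ideal generated by all the 8-th powers -/
def Kset {R : Type*} [CommRing R] {r : ℕ} (π : Fin r → R) : Ideal R :=
  Ideal.span (Set.range fun i => π i ^ 8)

lemma mem_of_map_mk_mem {R : Type*} [CommRing R] {I J : Ideal R} (hIJ : I ≤ J) {x : R}
    (h : Ideal.Quotient.mk I x ∈ J.map (Ideal.Quotient.mk I)) : x ∈ J := by
  obtain ⟨x', hx', hxx'⟩ := (Ideal.mem_map_iff_of_surjective _ Ideal.Quotient.mk_surjective).mp h
  have h1 : x - x' ∈ I := Ideal.Quotient.eq.mp hxx'.symm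
  have h2 : x = x' + (x - x') := by ring
  rw [h2]
  exact add_mem hx' (hIJ h1)

lemma Iset_zero {R : Type*} [CommRing R] {r : ℕ} (π : Fin (r + 1) → R) : Iset π 0 = ⊥ := by
  unfold Iset
  rw [Ideal.span_eq_bot]
  rintro _ ⟨⟨j, hj⟩, rfl⟩
  exact absurd hj (Nat.not_lt_zero _)

lemma map_Iset {R : Type*} [CommRing R] {r : ℕ} (π : Fin (r + 1) → R) (i : Fin r) :
    (Iset π i.succ).map (Ideal.Quotient.mk (Ideal.span {π 0 ^ 8})) =
      Iset (fun i : Fin r => Ideal.Quotient.mk (Ideal.span {π 0 ^ 8}) (π i.succ)) i := by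
  unfold Iset
  rw [Ideal.map_span]
  apply le_antisymm
  · rw [Ideal.span_le]
    rintro _ ⟨_, ⟨⟨j, hj⟩, rfl⟩, rfl⟩
    induction j using Fin.cases with
    | zero =>
      have h0 : Ideal.Quotient.mk (Ideal.span {π 0 ^ 8}) (π 0 ^ 8) = 0 :=
        Ideal.Quotient.eq_zero_iff_mem.mpr (Ideal.mem_span_singleton_self _)
      show Ideal.Quotient.mk (Ideal.span {π 0 ^ 8}) (π 0 ^ 8) ∈ _
      rw [h0]
      exact zero_mem _
    | succ j' =>
      have hj' : (j' : ℕ) < (i : ℕ) := by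
        simpa using hj
      refine Ideal.subset_span ⟨⟨j', hj'⟩, ?_⟩
      simp only [map_pow]
  · rw [Ideal.span_le]
    rintro _ ⟨⟨j', hj'⟩, rfl⟩
    refine Ideal.subset_span ⟨π j'.succ ^ 8, ⟨⟨j'.succ, by simpa using hj'⟩, rfl⟩, ?_⟩
    simp only [map_pow]

lemma map_Kset {R : Type*} [CommRing R] {r : ℕ} (π : Fin (r + 1) → R) :
    (Kset π).map (Ideal.Quotient.mk (Ideal.span {π 0 ^ 8})) =
      Kset (fun i : Fin r => Ideal.Quotient.mk (Ideal.span {π 0 ^ 8}) (π i.succ)) := by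
  unfold Kset
  rw [Ideal.map_span]
  apply le_antisymm
  · rw [Ideal.span_le]
    rintro _ ⟨_, ⟨j, rfl⟩, rfl⟩
    induction j using Fin.cases with
    | zero =>
      have h0 : Ideal.Quotient.mk (Ideal.span {π 0 ^ 8}) (π 0 ^ 8) = 0 :=
        Ideal.Quotient.eq_zero_iff_mem.mpr (Ideal.mem_span_singleton_self _)
      show Ideal.Quotient.mk (Ideal.span {π 0 ^ 8}) (π 0 ^ 8) ∈ _
      rw [h0]
      exact zero_mem _
    | succ j' =>
      refine Ideal.subset_span ⟨j', ?_⟩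
      simp only [map_pow]
  · rw [Ideal.span_le]
    rintro _ ⟨j', rfl⟩
    refine Ideal.subset_span ⟨π j'.succ ^ 8, ⟨j'.succ, rfl⟩, ?_⟩
    simp only [map_pow]

lemma one_tmul_algebraMap {R A : Type*} [CommRing R] [CommRing A] [Algebra R A] (I : Ideal R)
    (y : R) : (1 : R ⧸ I) ⊗ₜ[R] algebraMap R A y =
      algebraMap (R ⧸ I) ((R ⧸ I) ⊗[R] A) (Ideal.Quotient.mk I y) := by
  rw [Algebra.TensorProduct.algebraMap_apply]
  show _ = (Ideal.Quotient.mk I y) ⊗ₜ[R] (1 : A)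
  rw [← Ideal.Quotient.algebraMap_eq, Algebra.algebraMap_eq_smul_one (A := A),
    Algebra.algebraMap_eq_smul_one (A := R ⧸ I), TensorProduct.smul_tmul]

theorem lift_many (r : ℕ) : ∀ {R A Λ : Type u} [CommRing R] [IsNoetherianRing R] [CommRing A]
    [Algebra R A] [Algebra.FinitePresentation R A] [CommRing Λ] [Algebra R Λ]
    (φ : A →ₐ[R] Λ) (𝔮 : Ideal Λ) [𝔮.IsPrime] (π : Fin (r + 1) → R)
    (_ : ∀ i, algebraMap R Λ (π i) ∈ 𝔮)
    (_ : ∀ i y, π i ^ 2 * y ∈ Iset π i → π i * y ∈ Iset π i)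
    (_ : ∀ i (x : Λ), algebraMap R Λ (π i) ^ 2 * x ∈ (Iset π i).map (algebraMap R Λ) →
      algebraMap R Λ (π i) * x ∈ (Iset π i).map (algebraMap R Λ))
    (_ : ∀ i, IsStrictlyStandard R A (algebraMap R A (π i)))
    {R' A' Λ' : Type u} [CommRing R'] [CommRing A'] [CommRing Λ'] [Algebra R' A'] [Algebra R' Λ']
    [Algebra.FinitePresentation R' A'] (φ' : A' →ₐ[R'] Λ')
    (pR : R →+* R') (pA : A →+* A') (pΛ : Λ →+* Λ') (_ : Function.Surjective pR)
    (_ : Function.Surjective pA) (_ : Function.Surjective pΛ)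
    (_ : ∀ r, pA (algebraMap R A r) = algebraMap R' A' (pR r))
    (_ : ∀ r, pΛ (algebraMap R Λ r) = algebraMap R' Λ' (pR r))
    (_ : ∀ a, φ' (pA a) = pΛ (φ a))
    (_ : RingHom.ker pR = Kset π)
    (_ : RingHom.ker pA = (Kset π).map (algebraMap R A))
    (_ : RingHom.ker pΛ = (Kset π).map (algebraMap R Λ))
    (_ : Resolvable R' φ' (𝔮.map pΛ)), Resolvable R φ 𝔮 := by
  induction r with
  | zero =>
    intro R A Λ _ _ _ _ _ _ _ φ 𝔮 _ π hπ𝔮 hR hΛ hstd R' A' Λ' _ _ _ _ _ _ φ' pR pA pΛ hpR hpA hpΛ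
      hcA hcΛ hcφ hkR hkA hkΛ hres
    have hK : Kset π = Ideal.span {π 0 ^ 8} := by
      unfold Kset
      congr 1
      ext x
      constructor
      · rintro ⟨i, rfl⟩
        have hi : i = 0 := Fin.ext (by have := i.isLt; omega)
        rw [hi]
        rfl
      · rintro rfl
        exact ⟨0, rfl⟩
    have hI0 : Iset π 0 = ⊥ := Iset_zero π
    refine DesH.lift_one φ 𝔮 (π 0) (hπ𝔮 0) ?_ ?_ (hstd 0) φ' pR pA pΛ hpR hpA hpΛ hcA hcΛ hcφ
      (hK ▸ hkR) (hK ▸ hkA) (hK ▸ hkΛ) hres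
    · intro y hy
      have h1 := hR 0 y (by rw [hy]; exact zero_mem _)
      rw [hI0] at h1
      exact h1
    · intro x hx
      have h0 : algebraMap R Λ (π 0) ^ 2 * x = 0 := by
        rw [← map_pow, ← Algebra.smul_def]; exact hx
      have h1 := hΛ 0 x (by rw [h0]; exact zero_mem _)
      rw [hI0, Ideal.map_bot] at h1
      rw [Algebra.smul_def]
      exact h1
  | succ r ih =>
    intro R A Λ _ _ _ _ _ _ _ φ 𝔮 _ π hπ𝔮 hR hΛ hstd R' A' Λ' _ _ _ _ _ _ φ' pR pA pΛ hpR hpA hpΛ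
      hcA hcΛ hcφ hkR hkA hkΛ hres
    classical
    set I₀ : Ideal R := Ideal.span {π 0 ^ 8} with hI₀
    set mkR := Ideal.Quotient.mk I₀ with hmkR
    set π₁ : Fin (r + 1) → R ⧸ I₀ := fun i => mkR (π i.succ) with hπ₁
    have hI₀K : I₀ ≤ Kset π := by
      rw [hI₀, Ideal.span_le]
      rintro _ rfl
      exact Ideal.subset_span ⟨0, rfl⟩
    have hI₀I : ∀ i : Fin (r + 1), I₀ ≤ Iset π i.succ := by
      intro i
      rw [hI₀, Ideal.span_le]
      rintro _ rfl
      exact Ideal.subset_span ⟨⟨0, by simp⟩, rfl⟩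
    have hImap : ∀ i, (Iset π i.succ).map mkR = Iset π₁ i := fun i => map_Iset π i
    have hKmap : (Kset π).map mkR = Kset π₁ := map_Kset π
    set JΛ : Ideal Λ := I₀.map (algebraMap R Λ) with hJΛ
    set mkΛ := Ideal.Quotient.mk JΛ with hmkΛ
    have hsqΛ : (algebraMap (R ⧸ I₀) (Λ ⧸ JΛ)).comp mkR = mkΛ.comp (algebraMap R Λ) :=
      RingHom.ext fun _ => rfl
    let qA : A →ₐ[R] (R ⧸ I₀) ⊗[R] A := Algebra.TensorProduct.includeRight
    have hqA : ∀ a, qA a = (1 : R ⧸ I₀) ⊗ₜ[R] a := fun a => rfl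
    have hsqA : ∀ y : R, qA (algebraMap R A y) =
        algebraMap (R ⧸ I₀) ((R ⧸ I₀) ⊗[R] A) (mkR y) := fun y => one_tmul_algebraMap I₀ y
    have hsqA' : (algebraMap (R ⧸ I₀) ((R ⧸ I₀) ⊗[R] A)).comp mkR =
        (qA : A →+* (R ⧸ I₀) ⊗[R] A).comp (algebraMap R A) :=
      RingHom.ext fun y => (hsqA y).symm
    have hqAsurj : Function.Surjective qA := fun x => by
      obtain ⟨a, rfl⟩ := DesG.exists_one_tmul I₀ x
      exact ⟨a, rfl⟩
    let φ₁ : (R ⧸ I₀) ⊗[R] A →ₐ[R ⧸ I₀] (Λ ⧸ JΛ) :=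
      Algebra.TensorProduct.lift (Algebra.ofId (R ⧸ I₀) (Λ ⧸ JΛ))
        ((Ideal.Quotient.mkₐ R JΛ).comp φ) (fun _ _ => Commute.all _ _)
    have hφ₁ : ∀ a, φ₁ (qA a) = mkΛ (φ a) := by
      intro a
      show Algebra.ofId (R ⧸ I₀) (Λ ⧸ JΛ) 1 * (Ideal.Quotient.mkₐ R JΛ) (φ a) = _
      rw [map_one, one_mul]
      rfl
    have hJΛ𝔮 : JΛ ≤ 𝔮 := by
      rw [hJΛ, hI₀, Ideal.map_span, Ideal.span_le]
      rintro _ ⟨_, rfl, rfl⟩
      rw [map_pow]
      exact Ideal.pow_mem_of_mem _ (hπ𝔮 0) 8 (by norm_num)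
    haveI : (𝔮.map mkΛ).IsPrime :=
      Ideal.map_isPrime_of_surjective Ideal.Quotient.mk_surjective
        (by rw [Ideal.mk_ker]; exact hJΛ𝔮)
    have hI₀ker : I₀ ≤ RingHom.ker pR := by rw [hkR]; exact hI₀K
    let p'R : R ⧸ I₀ →+* R' := Ideal.Quotient.lift I₀ pR (fun x hx => hI₀ker hx)
    have hp'R : ∀ x, p'R (mkR x) = pR x := fun x => rfl
    have hJΛker : JΛ ≤ RingHom.ker pΛ := by rw [hkΛ]; exact Ideal.map_mono hI₀K
    let p'Λ : Λ ⧸ JΛ →+* Λ' := Ideal.Quotient.lift JΛ pΛ (fun x hx => hJΛker hx)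
    have hp'Λ : ∀ x, p'Λ (mkΛ x) = pΛ x := fun x => rfl
    letI : Algebra (R ⧸ I₀) A' := ((algebraMap R' A').comp p'R).toAlgebra
    letI : Algebra R A' := ((algebraMap R' A').comp pR).toAlgebra
    haveI : IsScalarTower R (R ⧸ I₀) A' := IsScalarTower.of_algebraMap_eq fun _ => rfl
    let pAalg : A →ₐ[R] A' := { toRingHom := pA, commutes' := hcA }
    let p'A : (R ⧸ I₀) ⊗[R] A →ₐ[R ⧸ I₀] A' :=
      Algebra.TensorProduct.lift (Algebra.ofId (R ⧸ I₀) A') pAalg (fun _ _ => Commute.all _ _)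
    have hp'A : ∀ a, p'A (qA a) = pA a := by
      intro a
      show Algebra.ofId (R ⧸ I₀) A' 1 * pAalg a = _
      rw [map_one, one_mul]
      rfl
    have hkR₁ : RingHom.ker p'R = Kset π₁ := by
      rw [Ideal.ker_quotient_lift, hkR]
      exact hKmap
    -- apply the induction hypothesis
    have hres₁ : Resolvable (R ⧸ I₀) φ₁ (𝔮.map mkΛ) := by
      refine ih φ₁ (𝔮.map mkΛ) π₁ ?_ ?_ ?_ ?_ φ' p'R (p'A : (R ⧸ I₀) ⊗[R] A →+* A') p'Λ
        ?_ ?_ ?_ ?_ ?_ ?_ hkR₁ ?_ ?_ ?_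
      · intro i
        exact Ideal.mem_map_of_mem mkΛ (hπ𝔮 i.succ)
      · intro i y₁ hy₁
        obtain ⟨y, rfl⟩ := Ideal.Quotient.mk_surjective y₁
        rw [← hImap] at hy₁ ⊢
        have h1 : mkR (π i.succ ^ 2 * y) ∈ (Iset π i.succ).map mkR := by
          rw [map_mul, map_pow]; exact hy₁
        have h2 := hR i.succ y (mem_of_map_mk_mem (hI₀I i) h1)
        have h3 := Ideal.mem_map_of_mem mkR h2
        rw [map_mul] at h3
        exact h3
      · intro i x₁ hx₁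
        obtain ⟨x, rfl⟩ := Ideal.Quotient.mk_surjective x₁
        have hmapeq : (Iset π₁ i).map (algebraMap (R ⧸ I₀) (Λ ⧸ JΛ)) =
            ((Iset π i.succ).map (algebraMap R Λ)).map mkΛ := by
          rw [← hImap, Ideal.map_map, Ideal.map_map, hsqΛ]
        rw [hmapeq] at hx₁ ⊢
        have hle : JΛ ≤ (Iset π i.succ).map (algebraMap R Λ) := Ideal.map_mono (hI₀I i)
        have h1 : mkΛ (algebraMap R Λ (π i.succ) ^ 2 * x) ∈
            ((Iset π i.succ).map (algebraMap R Λ)).map mkΛ := by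
          rw [map_mul, map_pow]; exact hx₁
        have h2 := hΛ i.succ x (mem_of_map_mk_mem hle h1)
        have h3 := Ideal.mem_map_of_mem mkΛ h2
        rw [map_mul] at h3
        exact h3
      · intro i
        have h1 := (Groth.Agent.S6829.result (R' := R ⧸ I₀) (algebraMap R A (π i.succ))).2
          (hstd i.succ)
        rw [one_tmul_algebraMap I₀ (π i.succ)] at h1
        exact h1
      · exact Ideal.Quotient.lift_surjective_of_surjective _ _ hpR
      · intro y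
        obtain ⟨a, rfl⟩ := hpA y
        exact ⟨qA a, hp'A a⟩
      · exact Ideal.Quotient.lift_surjective_of_surjective _ _ hpΛ
      · intro x
        exact p'A.commutes x
      · intro x
        obtain ⟨y, rfl⟩ := Ideal.Quotient.mk_surjective x
        show p'Λ (mkΛ (algebraMap R Λ y)) = algebraMap R' Λ' (p'R (mkR y))
        rw [hp'Λ, hp'R, hcΛ]
      · intro a₁
        obtain ⟨a, rfl⟩ := hqAsurj a₁
        show φ' (p'A (qA a)) = p'Λ (φ₁ (qA a))
        rw [hp'A, hφ₁, hp'Λ, hcφ]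
      · -- kernel of p'A
        apply le_antisymm
        · intro x hx
          obtain ⟨a, rfl⟩ := hqAsurj x
          have h1 : pA a = 0 := by rw [← hp'A]; exact hx
          have h2 : a ∈ (Kset π).map (algebraMap R A) := by rw [← hkA]; exact h1
          have h3 := Ideal.mem_map_of_mem (qA : A →+* (R ⧸ I₀) ⊗[R] A) h2
          rw [Ideal.map_map, ← hsqA', ← Ideal.map_map, hKmap] at h3
          exact h3
        · rw [Ideal.map_le_iff_le_comap]
          intro k hk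
          rw [← hkR₁] at hk
          show p'A (algebraMap (R ⧸ I₀) ((R ⧸ I₀) ⊗[R] A) k) = 0
          rw [p'A.commutes]
          show algebraMap R' A' (p'R k) = 0
          rw [(RingHom.mem_ker).mp hk, map_zero]
      · rw [Ideal.ker_quotient_lift, hkΛ, Ideal.map_map, ← hsqΛ, ← Ideal.map_map, hKmap]
      · have h1 : (𝔮.map mkΛ).map p'Λ = 𝔮.map pΛ := by
          rw [Ideal.map_map]
          rfl
        rw [h1]
        exact hres
    -- lift along the first element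
    have hI0 : Iset π 0 = ⊥ := Iset_zero π
    refine DesH.lift_one φ 𝔮 (π 0) (hπ𝔮 0) ?_ ?_ (hstd 0) φ₁ mkR
      (qA : A →+* (R ⧸ I₀) ⊗[R] A) mkΛ Ideal.Quotient.mk_surjective hqAsurj
      Ideal.Quotient.mk_surjective hsqA (fun _ => rfl) hφ₁ (Ideal.mk_ker) ?_ (Ideal.mk_ker) hres₁
    · intro y hy
      have h1 := hR 0 y (by rw [hy]; exact zero_mem _)
      rw [hI0] at h1
      exact h1
    · intro x hx
      have h0 : algebraMap R Λ (π 0) ^ 2 * x = 0 := by
        rw [← map_pow, ← Algebra.smul_def]; exact hx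
      have h1 := hΛ 0 x (by rw [h0]; exact zero_mem _)
      rw [hI0, Ideal.map_bot] at h1
      rw [Algebra.smul_def]
      exact h1
    · apply le_antisymm
      · intro a ha
        exact DesG.ker_includeRight I₀ a ha
      · rw [Ideal.map_le_iff_le_comap]
        intro k hk
        show qA (algebraMap R A k) = 0
        rw [hsqA, Ideal.Quotient.eq_zero_iff_mem.mpr hk, map_zero]

end Groth.Agent.Lib.Helper27.DesI
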