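import Mathlib
import Groth.Prelude.Def_Smoothing
import Groth.Agent.Lib.Helper27.PopG
import Groth.Agent.Lib.Helper27.SepE
import Groth.Agent.S2022
import Groth.Agent.S2034

/-!
# General lemmas on ind-smoothness and resolvability
-/

namespace Groth.Agent.Lib.Helper27.DvrC

open Smoothing TensorProduct

universe u

theorem indSmooth_of_algEquiv {k L L' : Type u} [CommRing k] [CommRing L] [CommRing L']
    [Algebra k L] [Algebra k L'] (e : L ≃ₐ[k] L') (h : IndSmooth k L) : IndSmooth k L' := by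
  intro A _ _ hfp f
  obtain ⟨B, _, _, hsm, g, h', hgh⟩ := h A hfp ((e.symm : L' →ₐ[k] L).comp f)
  refine ⟨B, inferInstance, inferInstance, hsm, g, (e : L →ₐ[k] L').comp h', ?_⟩
  rw [AlgHom.comp_assoc, hgh]
  ext x
  simp

/-- ind-smoothness from flatness over a ring with nilpotent maximal ideal and separable
residue field extension -/
theorem indSmooth_of_residue {R₀ Λ₀ κ L : Type u} [CommRing R₀] [CommRing Λ₀] [Algebra R₀ Λ₀]
    [Module.Flat R₀ Λ₀] [Field κ] [Field L] [Algebra κ L] [Algebra.IsGeometricallyReduced κ L]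
    (p : R₀ →+* κ) (q : Λ₀ →+* L) (hp : Function.Surjective p) (hq : Function.Surjective q)
    (hcomm : ∀ r, q (algebraMap R₀ Λ₀ r) = algebraMap κ L (p r))
    (hnil : IsNilpotent (RingHom.ker p))
    (hker : RingHom.ker q = (RingHom.ker p).map (algebraMap R₀ Λ₀)) : IndSmooth R₀ Λ₀ := by
  refine Groth.Agent.S2022.result (RingHom.ker p) hnil ?_
  let I := RingHom.ker p
  let F := R₀ ⧸ I
  let T := Λ₀ ⧸ I.map (algebraMap R₀ Λ₀)
  let eF : F ≃+* κ := RingHom.quotientKerEquivOfSurjective hp
  let eT : T ≃+* L := (Ideal.quotEquivOfEq hker.symm).trans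
    (RingHom.quotientKerEquivOfSurjective hq)
  have heF : ∀ r, eF (Ideal.Quotient.mk I r) = p r := fun r => rfl
  have heT : ∀ x, eT (Ideal.Quotient.mk _ x) = q x := fun x => rfl
  letI algκF : Algebra κ F := eF.symm.toRingHom.toAlgebra
  letI algκT : Algebra κ T := ((algebraMap F T).comp (algebraMap κ F)).toAlgebra
  haveI : IsScalarTower κ F T := IsScalarTower.of_algebraMap_eq fun _ => rfl
  have hbij : Function.Bijective (algebraMap κ F) := eF.symm.bijective
  have h0 : IndSmooth κ L :=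
    Groth.Agent.Lib.Helper27.SepE.indSmooth_of_isField (Field.toIsField L)
  let e : L ≃ₐ[κ] T := AlgEquiv.ofRingEquiv (f := eT.symm) (by
    intro c
    obtain ⟨r, rfl⟩ := hp c
    show eT.symm (algebraMap κ L (p r)) = algebraMap F T (eF.symm (p r))
    rw [← heF, RingEquiv.symm_apply_apply, RingEquiv.symm_apply_eq, heF, ← hcomm]
    rfl)
  exact Groth.Agent.Lib.Helper27.SepE.indSmooth_of_bijective (k := κ) (F := F) hbij
    (indSmooth_of_algEquiv e h0)

theorem resolvable_of_indSmooth_loc' {R₀ C₀ Λ₀ Rₚ Λq : Type u} [CommRing R₀]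
    [IsNoetherianRing R₀]
    [CommRing C₀] [Algebra R₀ C₀] [Algebra.FinitePresentation R₀ C₀] [CommRing Λ₀]
    [Algebra R₀ Λ₀] (φ₀ : C₀ →ₐ[R₀] Λ₀) (𝔮₀ : Ideal Λ₀) [𝔮₀.IsPrime]
    [CommRing Rₚ] [Algebra R₀ Rₚ] [IsLocalization.AtPrime Rₚ (𝔮₀.comap (algebraMap R₀ Λ₀))]
    [CommRing Λq] [Algebra Λ₀ Λq] [IsLocalization.AtPrime Λq 𝔮₀] [Algebra R₀ Λq]
    [IsScalarTower R₀ Λ₀ Λq] [Algebra Rₚ Λq] [IsScalarTower R₀ Rₚ Λq]
    (hdim : ringKrullDim Λq = 0)
    (hind : IndSmooth Rₚ Λq) : Resolvable R₀ φ₀ 𝔮₀ := by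
  by_cases hle : singRad R₀ φ₀ ≤ 𝔮₀
  · haveI : IsLocalRing Λq := IsLocalization.AtPrime.isLocalRing Λq 𝔮₀
    haveI : Ring.KrullDimLE 0 Λq := ringKrullDimZero_iff_ringKrullDim_eq_zero.mpr hdim
    have hmin : 𝔮₀ ∈ (singRad R₀ φ₀).minimalPrimes := by
      refine ⟨⟨inferInstance, hle⟩, ?_⟩
      rintro P ⟨hP, -⟩ hP𝔮
      have hdisj : Disjoint (𝔮₀.primeCompl : Set Λ₀) P := by
        rw [Set.disjoint_left]
        intro x hx hxP
        exact hx (hP𝔮 hxP)
      have hP' : (P.map (algebraMap Λ₀ Λq)).IsPrime :=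
        IsLocalization.isPrime_of_isPrime_disjoint 𝔮₀.primeCompl Λq P hP hdisj
      have hmax : P.map (algebraMap Λ₀ Λq) = IsLocalRing.maximalIdeal Λq :=
        IsLocalRing.eq_maximalIdeal hP'.isMaximal'
      have h1 : (P.map (algebraMap Λ₀ Λq)).under Λ₀ = P :=
        IsLocalization.under_map_of_isPrime_disjoint 𝔮₀.primeCompl Λq hP hdisj
      have h2 : (IsLocalRing.maximalIdeal Λq).under Λ₀ = 𝔮₀ :=
        IsLocalization.AtPrime.under_maximalIdeal Λq 𝔮₀
      rw [← h1, hmax, h2]
    refine Groth.Agent.S2034.result (Rₚ := Rₚ) (Λq := Λq) φ₀ 𝔮₀ hmin hdim ?_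
    obtain ⟨D, _, _, hsm, g, h, hgh⟩ := hind (Rₚ ⊗[R₀] C₀) inferInstance
      (Algebra.TensorProduct.lift (Algebra.ofId Rₚ Λq)
        ((IsScalarTower.toAlgHom R₀ Λ₀ Λq).comp φ₀) (fun _ _ => Commute.all _ _))
    haveI := hsm
    have htop : singRad Rₚ h = ⊤ := by
      unfold singRad
      rw [Groth.Agent.Lib.Helper27.SepE.singularIdeal_eq_top, Ideal.map_top, Ideal.radical_top]
    refine ⟨D, inferInstance, inferInstance, hsm.2, g, h, hgh, ?_, ?_⟩
    · rw [htop]; exact le_top
    · rw [htop, top_le_iff]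
      have : (𝔮₀.map (algebraMap Λ₀ Λq)) = IsLocalRing.maximalIdeal Λq :=
        IsLocalization.AtPrime.map_eq_maximalIdeal 𝔮₀ Λq
      rw [this]
      exact Ideal.IsPrime.ne_top inferInstance
  · exact ⟨C₀, inferInstance, inferInstance, inferInstance, AlgHom.id R₀ C₀, φ₀,
      AlgHom.comp_id φ₀, le_rfl, hle⟩

/-- Noetherian induction: if all local problems can be resolved, `Λ` is ind-smooth
(for local `Λ`). -/
theorem indSmooth_of_forall_resolvable {R Λ : Type u} [CommRing R] [CommRing Λ] [Algebra R Λ]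
    [IsNoetherianRing Λ] [IsLocalRing Λ]
    (H : ∀ (A : Type u) [CommRing A] [Algebra R A], Algebra.FinitePresentation R A →
      ∀ (φ : A →ₐ[R] Λ) (𝔮 : Ideal Λ) [𝔮.IsPrime], 𝔮 ∈ (singRad R φ).minimalPrimes →
        Resolvable R φ 𝔮) : IndSmooth R Λ := by
  have key : ∀ J : Ideal Λ, ∀ (A : Type u) [CommRing A] [Algebra R A],
      Algebra.FinitePresentation R A → ∀ φ : A →ₐ[R] Λ, singRad R φ = J →
      ∃ (B : Type u) (_ : CommRing B) (_ : Algebra R B), Algebra.Smooth R B ∧
        ∃ (g : A →ₐ[R] B) (h : B →ₐ[R] Λ), h.comp g = φ := by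
    intro J
    induction J using WellFoundedGT.induction with
    | ind J ih =>
      intro A _ _ hfp φ hJ
      haveI := hfp
      by_cases htop : J = ⊤
      · -- some element of the singular ideal maps to a unit
        have hmap : (singularIdeal R A).map φ = ⊤ := by
          rw [← Ideal.radical_eq_top]
          rw [← htop, ← hJ]
          rfl
        have hex : ∃ a ∈ singularIdeal R A, IsUnit (φ a) := by
          by_contra hcon
          push Not at hcon
          have hle : (singularIdeal R A).map φ ≤ IsLocalRing.maximalIdeal Λ := by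
            rw [Ideal.map_le_iff_le_comap]
            intro a ha
            exact (IsLocalRing.mem_maximalIdeal _).mpr (hcon a ha)
          rw [hmap, top_le_iff] at hle
          exact (IsLocalRing.maximalIdeal.isMaximal Λ).ne_top hle
        obtain ⟨a, ha, hu⟩ := hex
        have hsm : Algebra.Smooth R (Localization.Away a) :=
          (Groth.Agent.Lib.Helper27.PopG.mem_singularIdeal_iff a).mp ha
        have hunit : ∀ y : Submonoid.powers a, IsUnit (φ y) := by
          rintro ⟨_, m, rfl⟩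
          show IsUnit (φ (a ^ m))
          rw [map_pow]
          exact hu.pow m
        refine ⟨Localization.Away a, inferInstance, inferInstance, hsm,
          IsScalarTower.toAlgHom R A (Localization.Away a),
          IsLocalization.liftAlgHom (M := Submonoid.powers a) (f := φ) hunit, ?_⟩
        ext x
        show IsLocalization.liftAlgHom (M := Submonoid.powers a) (f := φ) hunit
          (algebraMap A (Localization.Away a) x) = φ x
        rw [IsLocalization.liftAlgHom_apply, IsLocalization.lift_eq]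
        rfl
      · obtain ⟨M, hM, hJM⟩ := Ideal.exists_le_maximal J htop
        haveI := hM.isPrime
        obtain ⟨𝔮, h𝔮, -⟩ := Ideal.exists_minimalPrimes_le hJM
        haveI : 𝔮.IsPrime := h𝔮.1.1
        obtain ⟨B, _, _, hfpB, g, h, hgh, hle, hnot⟩ := H A hfp φ 𝔮 (by rw [hJ]; exact h𝔮)
        have hlt : J < singRad R h := by
          refine lt_of_le_of_ne (by rw [← hJ]; exact hle) ?_
          intro heq
          apply hnot
          rw [← heq]
          exact h𝔮.1.2
        obtain ⟨B', _, _, hsm, g', h', hgh'⟩ := ih (singRad R h) hlt B hfpB h rfl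
        exact ⟨B', inferInstance, inferInstance, hsm, g'.comp g, h', by
          rw [← AlgHom.comp_assoc, hgh', hgh]⟩
  intro A _ _ hfp φ
  exact key _ A hfp φ rfl

end Groth.Agent.Lib.Helper27.DvrC
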