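import Mathlib
import Groth.Agent.Lib.Helper19.RetractFree

/-!
# Variant of Helper19's `RetractFree.main`: finite presentation and smoothness of the charts
-/

namespace Groth.Agent.Lib.Helper27.SepA

open MvPolynomial KaehlerDifferential TensorProduct
open Groth.Agent.Lib.Helper19 Groth.Agent.Lib.Helper19.RetractFree
open Groth.Agent.Lib.Helper19.SmoothRetract

universe u

theorem main' {R A : Type u} [CommRing R] [CommRing A] [Algebra R A]
    [Algebra.FinitePresentation R A] [IsNoetherianRing A] :
    ∃ (C : Type u) (_ : CommRing C) (_ : Algebra A C) (_ : Algebra R C) (_ : IsScalarTower R A C),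
      Algebra.FinitePresentation R C ∧ Nonempty (C →ₐ[A] A) ∧
      ∀ a : A, Algebra.Smooth R (Localization.Away a) →
        Algebra.Smooth R (Localization.Away (algebraMap A C a)) ∧
        Module.Free (Localization.Away (algebraMap A C a))
          Ω[Localization.Away (algebraMap A C a)⁄R] := by
  classical
  obtain ⟨n, m, v, Jm, hv, hJ1, hJ2⟩ := JacData.exists_jacobian_data (R := R) (A := A)
  let W : Set (Fin m → A) := {c | ∀ i, ∑ j, Jm i j * c j = 0}
  have hfpA : Algebra.FinitePresentation A (Cw W) := by
    apply Algebra.FinitePresentation.quotient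
    exact (inferInstance : IsNoetherian (MvPolynomial (Fin m) A) (MvPolynomial (Fin m) A)).noetherian _
  have hfp : Algebra.FinitePresentation R (Cw W) := Algebra.FinitePresentation.trans R A (Cw W)
  refine ⟨Cw W, inferInstance, inferInstance, inferInstance, inferInstance, hfp,
    ⟨retr W⟩, ?_⟩
  intro a hsm
  have : Algebra.FormallySmooth R (Localization.Away a) := hsm.1
  have hspan' := LocClear.J3_loc (R := R) a (Localization.Away a) v hv
  have hJ1' := LocClear.J1_loc (R := R) (Localization.Away a) v Jm hJ1
  have hJ2' := LocClear.J2_loc (R := R) a (Localization.Away a) v Jm hJ2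
  obtain ⟨N, _, _, κ, s, hκs, hκ0, ⟨e0⟩⟩ := exists_split_data (R := R)
    (S := Localization.Away a) (fun i => algebraMap A _ (v i))
    (fun i j => algebraMap A _ (Jm i j)) hspan' hJ1' hJ2'
  have hW1 : ∀ c ∈ W, ∀ k,
      ∑ i, VBundle.matE κ s k i * algebraMap A (Localization.Away a) (c i) = 0 := by
    intro c hc k
    rw [← VBundle.eps_apply κ s (fun i => algebraMap A _ (c i)) k]
    have h0 : κ (fun i => algebraMap A (Localization.Away a) (c i)) = 0 := by
      rw [hκ0]
      intro i
      have h1 := congrArg (algebraMap A (Localization.Away a)) (hc i)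
      rw [map_sum, map_zero] at h1
      simpa only [map_mul] using h1
    rw [h0, map_zero]; rfl
  have hW2 : ∀ j, ∃ (k : ℕ) (c : Fin m → A), c ∈ W ∧
      ∀ i, algebraMap A (Localization.Away a) (c i) =
        algebraMap A (Localization.Away a) a ^ k *
          ((Pi.single j 1 : Fin m → Localization.Away a) i - VBundle.matE κ s i j) := by
    intro j
    have hker : κ (Pi.single j 1 - s (κ (Pi.single j 1))) = 0 := by
      rw [map_sub, hκs, sub_self]
    obtain ⟨k, c, hc1, hc2⟩ := LocClear.clear_ker a (Localization.Away a) Jm _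
      ((hκ0 _).mp hker)
    exact ⟨k, c, hc1, fun i => hc2 i⟩
  have hfree := free_kaehler_B0 (R := R) κ s hκs e0
  have hE1 := VBundle.matE_idem κ s hκs
  haveI : Algebra.FormallySmooth (Localization.Away a) (B0 (VBundle.matE κ s)) :=
    formallySmooth_B0 hE1
  haveI : Algebra.FinitePresentation (Localization.Away a) (B0 (VBundle.matE κ s)) :=
    finitePresentation_B0 _
  haveI : Algebra.Smooth (Localization.Away a) (B0 (VBundle.matE κ s)) :=
    ⟨inferInstance, inferInstance⟩
  haveI : Algebra.Smooth R (B0 (VBundle.matE κ s)) :=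
    Algebra.Smooth.comp R (Localization.Away a) (B0 (VBundle.matE κ s))
  refine ⟨Algebra.Smooth.of_equiv (equivCa (R := R) hW1 hW2).symm, ?_⟩
  exact KaehlerSplit.free_kaehler_of_algEquiv (equivCa (R := R) hW1 hW2).symm

end Groth.Agent.Lib.Helper27.SepA
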