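import Mathlib
import Groth.Agent.Lib.Helper27.SepB

/-!
# The charts `B_{a_j}` are formally smooth over `R = k[x]`
-/

namespace Groth.Agent.Lib.Helper27.SepC

open MvPolynomial Groth.Agent.Lib.Helper27.SepB

universe u

variable {k A : Type u} [CommRing k] [CommRing A] [Algebra k A]
variable {d r : ℕ} (n : ℕ) (a : Fin r → A)

theorem formallySmooth_chart (j₀ : Fin r) [Algebra.FormallySmooth k (Localization.Away (a j₀))] :
    Algebra.FormallySmooth (MvPolynomial (Fin d) k)
      (Localization.Away (algebraMap A (Bq d n a) (a j₀))) := by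
  classical
  refine Algebra.FormallySmooth.of_comp_surjective fun T _ _ N hN ub => ?_
  let R := MvPolynomial (Fin d) k
  let b₀ : Bq d n a := algebraMap A (Bq d n a) (a j₀)
  let S₀ := Localization.Away b₀
  let Aa := Localization.Away (a j₀)
  letI : Algebra k T := ((algebraMap R T).comp (algebraMap k R)).toAlgebra
  haveI : IsScalarTower k R T := IsScalarTower.of_algebraMap_eq fun _ => rfl
  haveI : IsScalarTower k R (T ⧸ N) := IsScalarTower.of_algebraMap_eq fun _ => rfl
  have hNnil : IsNilpotent N := ⟨2, hN⟩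
  let mkN : T →+* T ⧸ N := Ideal.Quotient.mk N
  -- Step 1
  let psb0 : A →ₐ[k] T ⧸ N := (ub.restrictScalars k).comp
    ((IsScalarTower.toAlgHom k (Bq d n a) S₀).comp (IsScalarTower.toAlgHom k A (Bq d n a)))
  have hpsb0 : ∀ x, psb0 x = ub (algebraMap (Bq d n a) S₀ (algebraMap A (Bq d n a) x)) := fun x => rfl
  have hb₀unit : IsUnit (algebraMap (Bq d n a) S₀ b₀) := IsLocalization.Away.algebraMap_isUnit b₀
  have hunit0 : ∀ y : Submonoid.powers (a j₀), IsUnit (psb0 y) := by
    rintro ⟨_, m, rfl⟩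
    show IsUnit (psb0 (a j₀ ^ m))
    rw [map_pow, hpsb0]
    exact (hb₀unit.map ub).pow m
  let psb : Aa →ₐ[k] T ⧸ N := IsLocalization.liftAlgHom (M := Submonoid.powers (a j₀)) (f := psb0) hunit0
  have hpsb : ∀ x : A, psb (algebraMap A Aa x) = psb0 x := fun x => by
    rw [IsLocalization.liftAlgHom_apply, IsLocalization.lift_eq]; rfl
  -- Step 2
  let ψ' : Aa →ₐ[k] T := Algebra.FormallySmooth.lift N hNnil psb
  have hψ' : ∀ y, mkN (ψ' y) = psb y := fun y => Algebra.FormallySmooth.mk_lift N hNnil psb y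
  let ψ : A →ₐ[k] T := ψ'.comp (IsScalarTower.toAlgHom k A Aa)
  have hψ : ∀ x, mkN (ψ x) = ub (algebraMap (Bq d n a) S₀ (algebraMap A (Bq d n a) x)) := by
    intro x
    show mkN (ψ' (algebraMap A Aa x)) = _
    rw [hψ', hpsb, hpsb0]
  let v : T := ψ (a j₀)
  let vinv : T := ψ' (IsLocalization.Away.invSelf (a j₀))
  have hv : v * vinv = 1 := by
    show ψ' (algebraMap A Aa (a j₀)) * ψ' (IsLocalization.Away.invSelf (a j₀)) = 1
    rw [← map_mul, IsLocalization.Away.mul_invSelf, map_one]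
  -- Step 3
  let xT : Fin d → T := fun i => algebraMap R T (X i)
  let sinv : T ⧸ N → T := Function.surjInv (Ideal.Quotient.mk_surjective (I := N))
  have hsinv : ∀ y, mkN (sinv y) = y := Function.surjInv_eq _
  let ζ' : Fin d × Fin r → T := fun p => sinv (ub (algebraMap (Bq d n a) S₀ (zb n a p.1 p.2)))
  let ζ : Fin d × Fin r → T := fun p =>
    if p.2 = j₀ then vinv * (xT p.1 ^ n - ∑ j' ∈ Finset.univ.erase j₀, ψ (a j') * ζ' (p.1, j'))
    else ζ' p
  have hζne : ∀ i j, j ≠ j₀ → ζ (i, j) = ζ' (i, j) := fun i j hj => if_neg hj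
  have hζeq : ∀ i, ζ (i, j₀) =
      vinv * (xT i ^ n - ∑ j' ∈ Finset.univ.erase j₀, ψ (a j') * ζ' (i, j')) := fun i => if_pos rfl
  have hrel : ∀ i, algebraMap R T (X i) ^ n = ∑ j, ψ (a j) * ζ (i, j) := by
    intro i
    rw [← Finset.add_sum_erase Finset.univ _ (Finset.mem_univ j₀), hζeq]
    have h1 : ∑ j ∈ Finset.univ.erase j₀, ψ (a j) * ζ (i, j) =
        ∑ j' ∈ Finset.univ.erase j₀, ψ (a j') * ζ' (i, j') :=
      Finset.sum_congr rfl fun j hj => by rw [hζne i j (Finset.ne_of_mem_erase hj)]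
    rw [h1]
    show xT i ^ n = v * (vinv * (xT i ^ n - _)) + _
    rw [← mul_assoc, hv, one_mul, sub_add_cancel]
  -- Step 4
  let u₁ : Bq d n a →ₐ[R] T := liftB n a ψ ζ hrel
  have hu₁A : ∀ x, u₁ (algebraMap A (Bq d n a) x) = ψ x := fun x => lift₁_algebraMap_A n a ψ ζ hrel x
  have hu₁x : ∀ i, u₁ (xb n a i) = xT i := fun i => lift₁_xb n a ψ ζ hrel i
  have hu₁z : ∀ i j, u₁ (zb n a i j) = ζ (i, j) := fun i j => lift₁_zb n a ψ ζ hrel i j
  have hunit1 : ∀ y : Submonoid.powers b₀, IsUnit (u₁ y) := by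
    rintro ⟨_, m, rfl⟩
    show IsUnit (u₁ (b₀ ^ m))
    rw [map_pow, hu₁A]
    exact (IsUnit.of_mul_eq_one _ hv).pow m
  let u : S₀ →ₐ[R] T := IsLocalization.liftAlgHom (M := Submonoid.powers b₀) (f := u₁) hunit1
  have hu : ∀ b : Bq d n a, u (algebraMap (Bq d n a) S₀ b) = u₁ b := fun b => by
    rw [IsLocalization.liftAlgHom_apply, IsLocalization.lift_eq]; rfl
  refine ⟨u, ?_⟩
  -- Step 5
  apply AlgHom.coe_ringHom_injective
  apply IsLocalization.ringHom_ext (Submonoid.powers b₀)
  apply Ideal.Quotient.ringHom_ext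
  apply MvPolynomial.ringHom_ext
  · intro x
    show mkN (u (algebraMap (Bq d n a) S₀ (Ideal.Quotient.mk _ (C x)))) =
      ub (algebraMap (Bq d n a) S₀ (Ideal.Quotient.mk _ (C x)))
    rw [hu, ← algebraMap_A_apply, hu₁A, hψ]
  · intro w
    show mkN (u (algebraMap (Bq d n a) S₀ (Ideal.Quotient.mk _ (X w)))) =
      ub (algebraMap (Bq d n a) S₀ (Ideal.Quotient.mk _ (X w)))
    rw [hu]
    have hxub : ∀ i, ub (algebraMap (Bq d n a) S₀ (xb n a i)) = mkN (xT i) := by
      intro i
      rw [← algebraMap_R_X (k := k), ← IsScalarTower.algebraMap_apply R (Bq d n a) S₀,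
        AlgHom.commutes]
      rfl
    cases w with
    | inl i =>
      show mkN (u₁ (xb n a i)) = ub (algebraMap (Bq d n a) S₀ (xb n a i))
      rw [hu₁x, hxub]
    | inr p =>
      obtain ⟨i, j⟩ := p
      show mkN (u₁ (zb n a i j)) = ub (algebraMap (Bq d n a) S₀ (zb n a i j))
      rw [hu₁z]
      by_cases hj : j = j₀
      · subst hj
        rw [hζeq, map_mul, map_sub, map_pow, map_sum]
        have h1 : ∀ j' ∈ Finset.univ.erase j, mkN (ψ (a j') * ζ' (i, j')) =
            ub (algebraMap (Bq d n a) S₀ (algebraMap A (Bq d n a) (a j') * zb n a i j')) := by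
          intro j' _
          rw [map_mul, hψ, hsinv, map_mul, map_mul]
        rw [Finset.sum_congr rfl h1, ← hxub, ← map_pow, ← map_pow, ← map_sum, ← map_sum,
          ← map_sub, ← map_sub, rel_eq, ← Finset.add_sum_erase Finset.univ _ (Finset.mem_univ j),
          add_sub_cancel_right, map_mul, map_mul]
        have h2 : mkN vinv * ub (algebraMap (Bq d n a) S₀ (algebraMap A (Bq d n a) (a j))) = 1 := by
          rw [← hψ, ← map_mul, mul_comm, hv, map_one]
        rw [← mul_assoc, h2, one_mul]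
      · rw [hζne i j hj, hsinv]

theorem smooth_chart [Algebra.FinitePresentation k A] (j₀ : Fin r)
    [Algebra.FormallySmooth k (Localization.Away (a j₀))] :
    Algebra.Smooth (MvPolynomial (Fin d) k)
      (Localization.Away (algebraMap A (Bq d n a) (a j₀))) := by
  haveI := formallySmooth_chart (k := k) (d := d) n a j₀
  haveI : Algebra.FinitePresentation (Bq d n a)
      (Localization.Away (algebraMap A (Bq d n a) (a j₀))) :=
    IsLocalization.Away.finitePresentation (algebraMap A (Bq d n a) (a j₀))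
  haveI : Algebra.FinitePresentation (MvPolynomial (Fin d) k)
      (Localization.Away (algebraMap A (Bq d n a) (a j₀))) :=
    Algebra.FinitePresentation.trans (MvPolynomial (Fin d) k) (Bq d n a) _
  exact ⟨inferInstance, inferInstance⟩

end Groth.Agent.Lib.Helper27.SepC
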