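import Mathlib

/-!
# `H¹ = 0` in coordinates

For a finitely generated `R`-algebra `A = R[X]/I` and `a ∈ A` with `A_a` formally smooth over `R`:
an element `h ∈ I` all of whose partial derivatives vanish in `A_a` satisfies `a^t h ∈ I²`.
-/

namespace Groth.Agent.Lib.Helper27.StdA

open MvPolynomial

universe u

variable {R : Type u} [CommRing R]

/-- `H¹ = 0` in coordinates, for a formally smooth algebra with chosen generators. -/
theorem mem_ker_sq {S : Type u} [CommRing S] [Algebra R S] [Algebra.FormallySmooth R S]
    {ι : Type} (v : ι → S) (hv : Function.Surjective (aeval (R := R) v))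
    (u : MvPolynomial ι R) (hu : aeval v u = 0) (hd : ∀ i, aeval v (pderiv i u) = 0) :
    u ∈ RingHom.ker (aeval (R := R) v) ^ 2 := by
  let G : Algebra.Generators R S ι := Algebra.Generators.ofSurjective v hv
  haveI : Algebra.FormallySmooth R G.toExtension.Ring :=
    inferInstanceAs (Algebra.FormallySmooth R (MvPolynomial ι R))
  have hinj : Function.Injective G.toExtension.cotangentComplex :=
    (G.toExtension.cotangentComplex_injective_iff).mpr inferInstance
  have hker : G.ker = RingHom.ker (aeval (R := R) v) := G.ker_eq_ker_aeval_val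
  have hmem : u ∈ G.toExtension.ker := by
    show u ∈ G.ker
    rw [hker]; exact hu
  have h0 : G.toExtension.cotangentComplex (Algebra.Extension.Cotangent.mk ⟨u, hmem⟩) = 0 := by
    rw [Algebra.Extension.cotangentComplex_mk]
    apply G.cotangentSpaceBasis.repr.injective
    ext i
    rw [G.cotangentSpaceBasis_repr_one_tmul]
    have : aeval G.val (pderiv i u) = 0 := hd i
    simpa using this
  have h1 : Algebra.Extension.Cotangent.mk (P := G.toExtension) ⟨u, hmem⟩ = 0 :=
    hinj (by rw [h0, map_zero])
  rw [Algebra.Extension.Cotangent.mk_eq_zero_iff] at h1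
  have h2 : G.toExtension.ker = RingHom.ker (aeval (R := R) v) := hker
  have h3 : u ∈ G.toExtension.ker ^ 2 := h1
  rw [h2] at h3
  exact h3

variable {A : Type u} [CommRing A] [Algebra R A]

theorem exists_pow_mul_mem_sq {σ : Type}
    (π : MvPolynomial σ R →ₐ[R] A) (hπ : Function.Surjective π) (a : A)
    [Algebra.FormallySmooth R (Localization.Away a)]
    (a' : MvPolynomial σ R) (ha' : π a' = a) (h : MvPolynomial σ R) (hh : π h = 0)
    (hd : ∀ i, algebraMap A (Localization.Away a) (π (pderiv i h)) = 0) :
    ∃ t : ℕ, a' ^ t * h ∈ RingHom.ker π.toRingHom ^ 2 := by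
  classical
  let S := Localization.Away a
  let P := MvPolynomial σ R
  let I : Ideal P := RingHom.ker π.toRingHom
  have hI : I = RingHom.ker π.toRingHom := rfl
  let lam : P →ₐ[R] S := (IsScalarTower.toAlgHom R A S).comp π
  have hlam : ∀ p, lam p = algebraMap A S (π p) := fun p => rfl
  let inv : S := IsLocalization.Away.invSelf a
  have hinv : algebraMap A S a * inv = 1 := IsLocalization.Away.mul_invSelf a
  let v : Option σ → S := fun o => o.elim inv (fun i => lam (X i))
  have hvsome : (v ∘ Option.some) = fun i => lam (X i) := rfl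
  have haev_rename : ∀ p : P, aeval v (rename Option.some p) = lam p := by
    intro p
    rw [aeval_rename, hvsome]
    exact (DFunLike.congr_fun (aeval_unique lam) p).symm
  have hvsurj : Function.Surjective (aeval (R := R) v) := by
    intro s
    obtain ⟨k, x, hx⟩ := IsLocalization.Away.surj a s
    obtain ⟨p, rfl⟩ := hπ x
    refine ⟨rename Option.some p * X none ^ k, ?_⟩
    rw [map_mul, map_pow, haev_rename, aeval_X, hlam]
    show algebraMap A S (π p) * inv ^ k = s
    rw [← hx, mul_assoc, ← mul_pow, hinv, one_pow, mul_one]
  -- the element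
  let u : MvPolynomial (Option σ) R := rename Option.some h
  have hu0 : aeval v u = 0 := by
    rw [haev_rename, hlam, hh, map_zero]
  have hud : ∀ o, aeval v (pderiv o u) = 0 := by
    intro o
    cases o with
    | none =>
      have : pderiv (none : Option σ) u = 0 := by
        apply pderiv_eq_zero_of_notMem_vars
        intro hmem
        have := vars_rename Option.some h hmem
        simp at this
      rw [this, map_zero]
    | some i =>
      rw [pderiv_rename (Option.some_injective σ), haev_rename, hlam]
      exact hd i
  have hmem := mem_ker_sq v hvsurj u hu0 hud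
  -- transfer to `P_{a'}`
  let Pa := Localization.Away a'
  let inv' : Pa := IsLocalization.Away.invSelf a'
  have hinv' : algebraMap P Pa a' * inv' = 1 := IsLocalization.Away.mul_invSelf a'
  let w : Option σ → Pa := fun o => o.elim inv' (fun i => algebraMap P Pa (X i))
  let psi : MvPolynomial (Option σ) R →ₐ[R] Pa := aeval w
  have hpsi_rename : ∀ p : P, psi (rename Option.some p) = algebraMap P Pa p := by
    intro p
    show aeval w (rename Option.some p) = _
    rw [aeval_rename]
    have h1 : (w ∘ Option.some) = fun i => (IsScalarTower.toAlgHom R P Pa) (X i) := rfl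
    rw [h1]
    have := aeval_unique (IsScalarTower.toAlgHom R P Pa)
    exact (DFunLike.congr_fun this p).symm
  have hunit : IsUnit (lam.toRingHom a') := by
    show IsUnit (lam a')
    rw [hlam, ha']
    exact IsLocalization.Away.algebraMap_isUnit a
  let mu : Pa →+* S := IsLocalization.Away.lift a' hunit
  have hmu : ∀ p : P, mu (algebraMap P Pa p) = lam p := fun p =>
    IsLocalization.Away.lift_eq a' hunit p
  have hmu_inv : mu inv' = inv := by
    have h1 : algebraMap A S a * mu inv' = 1 := by
      have := congrArg mu hinv'
      rw [map_mul, map_one, hmu, hlam, ha'] at this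
      exact this
    calc mu inv' = (inv * algebraMap A S a) * mu inv' := by rw [mul_comm inv, hinv, one_mul]
      _ = inv * (algebraMap A S a * mu inv') := by ring
      _ = inv := by rw [h1, mul_one]
  have hmupsi : ∀ q : MvPolynomial (Option σ) R, mu (psi q) = aeval v q := by
    intro q
    induction q using MvPolynomial.induction_on with
    | C r =>
      show mu (aeval w (C r)) = aeval v (C r)
      rw [aeval_C, aeval_C, IsScalarTower.algebraMap_apply R P Pa, hmu]
      exact lam.commutes r
    | add p q hp hq => rw [map_add, map_add, hp, hq, map_add]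
    | mul_X p o hp =>
      rw [map_mul, map_mul, hp, map_mul]
      congr 1
      show mu (aeval w (X o)) = aeval v (X o)
      rw [aeval_X, aeval_X]
      cases o with
      | none => exact hmu_inv
      | some i => exact hmu _
  have hkermu : ∀ z : Pa, mu z = 0 → z ∈ I.map (algebraMap P Pa) := by
    intro z hz
    obtain ⟨k, p, hp⟩ := IsLocalization.Away.surj a' z
    have h1 : lam p = 0 := by
      rw [← hmu, ← hp, map_mul, hz, zero_mul]
    rw [hlam] at h1
    obtain ⟨⟨_, l, rfl⟩, hl⟩ := (IsLocalization.map_eq_zero_iff (Submonoid.powers a) S _).mp h1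
    have h2 : a' ^ l * p ∈ I := by
      rw [hI, RingHom.mem_ker]
      show π (a' ^ l * p) = 0
      rw [map_mul, map_pow, ha']
      exact hl
    have h3 : z = algebraMap P Pa (a' ^ l * p) * inv' ^ (k + l) := by
      rw [map_mul, ← hp, map_pow, pow_add]
      have : algebraMap P Pa a' ^ l * (z * algebraMap P Pa a' ^ k) * (inv' ^ k * inv' ^ l) =
          z * (algebraMap P Pa a' * inv') ^ k * (algebraMap P Pa a' * inv') ^ l := by ring
      rw [this, hinv', one_pow, one_pow, mul_one, mul_one]
    rw [h3]
    exact Ideal.mul_mem_right _ _ (Ideal.mem_map_of_mem _ h2)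
  have hJle : RingHom.ker (aeval (R := R) v) ≤ (I.map (algebraMap P Pa)).comap psi.toRingHom := by
    intro q hq
    rw [Ideal.mem_comap]
    apply hkermu
    show mu (psi q) = 0
    rw [hmupsi]; exact hq
  have hJ2 : RingHom.ker (aeval (R := R) v) ^ 2 ≤
      ((I.map (algebraMap P Pa)) ^ 2).comap psi.toRingHom :=
    (Ideal.pow_right_mono hJle 2).trans (Ideal.le_comap_pow _ 2)
  have h4 : algebraMap P Pa h ∈ (I ^ 2).map (algebraMap P Pa) := by
    rw [Ideal.map_pow, ← hpsi_rename]
    exact hJ2 hmem
  rw [IsLocalization.mem_map_algebraMap_iff (Submonoid.powers a')] at h4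
  obtain ⟨⟨⟨i, hi⟩, ⟨_, k, rfl⟩⟩, hik⟩ := h4
  simp only at hik
  rw [← map_mul, IsLocalization.eq_iff_exists (Submonoid.powers a')] at hik
  obtain ⟨⟨_, l, rfl⟩, hl⟩ := hik
  simp only at hl
  refine ⟨l + k, ?_⟩
  have : a' ^ (l + k) * h = a' ^ l * i := by
    rw [← hl, pow_add]; ring
  rw [this]
  exact Ideal.mul_mem_left _ _ hi

end Groth.Agent.Lib.Helper27.StdA
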