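import Mathlib
import Groth.Agent.Lib.Helper19.JacData
import Groth.Agent.Lib.Helper19.SmoothRetract

/-!
# Jacobian data of a presentation and its localization (fintype-indexed version)
-/

namespace Groth.Agent.Lib.Helper27.StdB

open MvPolynomial KaehlerDifferential

universe u

variable {R A : Type u} [CommRing R] [CommRing A] [Algebra R A]

theorem jacobian_data {σ τ : Type} [Fintype σ] [Fintype τ]
    (π : MvPolynomial σ R →ₐ[R] A) (hπ : Function.Surjective π)
    (f : τ → MvPolynomial σ R) (hker : RingHom.ker π.toRingHom = Ideal.span (Set.range f)) :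
    Algebra.adjoin R (Set.range fun i => π (X i)) = ⊤ ∧
    (∀ j, ∑ i, π (pderiv i (f j)) • D R A (π (X i)) = 0) ∧
    (∀ c : σ → A, ∑ i, c i • D R A (π (X i)) = 0 →
      ∃ w : τ → A, ∀ i, c i = ∑ j, π (pderiv i (f j)) * w j) := by
  classical
  let G : Algebra.Generators R A σ := Algebra.Generators.ofAlgHom π hπ
  let b := G.cotangentSpaceBasis
  have hval : ∀ i, G.val i = π (X i) := fun i => rfl
  have haev : ∀ p, aeval G.val p = π p := fun p =>
    (DFunLike.congr_fun (aeval_unique π) p).symm
  have hGker : G.toExtension.ker = RingHom.ker π.toRingHom := by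
    have h1 : G.toExtension.ker = RingHom.ker (aeval (R := R) G.val) := G.ker_eq_ker_aeval_val
    rw [h1]
    ext p
    rw [RingHom.mem_ker, RingHom.mem_ker]
    show aeval G.val p = 0 ↔ π p = 0
    rw [haev]
  have hrel : Ideal.span (Set.range f) = G.toExtension.ker := by rw [hGker, hker]
  have hmem : ∀ j, f j ∈ G.toExtension.ker := fun j => by
    rw [← hrel]; exact Ideal.subset_span ⟨j, rfl⟩
  have hex : Function.Exact G.toExtension.cotangentComplex G.toExtension.toKaehler :=
    G.toExtension.exact_cotangentComplex_toKaehler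
  let g0 : τ → G.toExtension.Cotangent := fun j =>
    Algebra.Extension.Cotangent.mk (P := G.toExtension) ⟨f j, hmem j⟩
  let g : τ → G.toExtension.CotangentSpace := fun j => G.toExtension.cotangentComplex (g0 j)
  have hrepr : ∀ j i, b.repr (g j) i = π (pderiv i (f j)) := by
    intro j i
    show b.repr (G.toExtension.cotangentComplex (Algebra.Extension.Cotangent.mk ⟨f j, hmem j⟩)) i = _
    rw [Algebra.Extension.cotangentComplex_mk]
    show G.cotangentSpaceBasis.repr _ i = _
    rw [G.cotangentSpaceBasis_repr_one_tmul]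
    exact haev _
  have htK : ∀ a : σ → A, G.toExtension.toKaehler (∑ i, a i • b i) =
      ∑ i, a i • D R A (π (X i)) := by
    intro a
    rw [map_sum]
    refine Finset.sum_congr rfl fun i _ => ?_
    rw [map_smul, Algebra.Generators.toKaehler_cotangentSpaceBasis, hval]
  have hspan : ∀ x : G.toExtension.Cotangent, x ∈ Submodule.span A (Set.range g0) :=
    Groth.Agent.Lib.Helper19.JacData.cotangent_span G.toExtension f hrel hmem
  refine ⟨?_, ?_, ?_⟩
  · rw [Algebra.adjoin_range_eq_range_aeval]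
    have : (aeval (R := R) fun i => π (X i)) = π := (aeval_unique π).symm
    rw [this]
    exact (AlgHom.range_eq_top _).mpr hπ
  · intro j
    have h1 : ∑ i, π (pderiv i (f j)) • D R A (π (X i)) =
        G.toExtension.toKaehler (∑ i, b.repr (g j) i • b i) := by
      rw [htK]
      refine Finset.sum_congr rfl fun i _ => ?_
      rw [hrepr]
    rw [h1, b.sum_repr (g j)]
    exact hex.apply_apply_eq_zero (g0 j)
  · intro c hc
    rw [← htK] at hc
    obtain ⟨x, hx⟩ := (hex _).mp hc
    obtain ⟨w, hw⟩ := (Submodule.mem_span_range_iff_exists_fun A).mp (hspan x)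
    refine ⟨w, fun i => ?_⟩
    have h1 : ∑ i, c i • b i = ∑ j, w j • g j := by
      rw [← hx, ← hw, map_sum]
      refine Finset.sum_congr rfl fun j _ => ?_
      rw [map_smul]
    have h2 : c i = b.repr (∑ j, w j • g j) i := by
      rw [← h1]; exact (congrFun (b.repr_sum_self c) i).symm
    rw [h2, map_sum, Finsupp.finsetSum_apply]
    refine Finset.sum_congr rfl fun j _ => ?_
    rw [map_smul, Finsupp.smul_apply, smul_eq_mul, mul_comm, hrepr]

section loc

variable (a : A) (A' : Type u) [CommRing A'] [Algebra A A'] [IsLocalization.Away a A']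

lemma clear_vec {τ : Type} [Finite τ] (w' : τ → A') :
    ∃ (k : ℕ) (c : τ → A), ∀ j, algebraMap A A' (c j) = algebraMap A A' a ^ k * w' j := by
  obtain ⟨⟨_, k, rfl⟩, hint⟩ :=
    IsLocalization.exist_integer_multiples_of_finite (Submonoid.powers a) w'
  have hint' : ∀ i, ∃ x, algebraMap A A' x = (a ^ k) • w' i := fun i => hint i
  choose c hc using hint'
  refine ⟨k, c, fun j => ?_⟩
  rw [hc j, Algebra.smul_def, map_pow]

lemma kill_vec {σ : Type} [Fintype σ] (x : σ → A) (h : ∀ i, algebraMap A A' (x i) = 0) :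
    ∃ k : ℕ, ∀ i, a ^ k * x i = 0 := by
  have h1 : ∀ i, ∃ k : ℕ, a ^ k * x i = 0 := fun i => by
    obtain ⟨⟨_, k, rfl⟩, hk⟩ :=
      (IsLocalization.map_eq_zero_iff (Submonoid.powers a) A' (x i)).mp (h i)
    exact ⟨k, hk⟩
  choose ki hki using h1
  refine ⟨∑ i, ki i, fun i => ?_⟩
  obtain ⟨d, hd⟩ := Nat.exists_eq_add_of_le
    (Finset.single_le_sum (fun _ _ => Nat.zero_le _) (Finset.mem_univ i) : ki i ≤ ∑ i, ki i)
  rw [hd, pow_add, mul_comm (a ^ ki i), mul_assoc, hki i, mul_zero]

lemma kill_one (x : A) (h : algebraMap A A' x = 0) : ∃ k : ℕ, a ^ k * x = 0 := by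
  obtain ⟨⟨_, k, rfl⟩, hk⟩ :=
    (IsLocalization.map_eq_zero_iff (Submonoid.powers a) A' x).mp h
  exact ⟨k, hk⟩

variable [Algebra R A'] [IsScalarTower R A A']

lemma map_sum_smul_D {σ : Type} [Fintype σ] (c : σ → A) (v : σ → A) :
    KaehlerDifferential.map R R A A' (∑ i, c i • D R A (v i)) =
      ∑ i, algebraMap A A' (c i) • D R A' (algebraMap A A' (v i)) := by
  rw [map_sum]
  refine Finset.sum_congr rfl fun i _ => ?_
  rw [map_smul, KaehlerDifferential.map_D]
  exact (algebraMap_smul A' (c i) (D R A' (algebraMap A A' (v i)))).symm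

lemma J1_loc {σ τ : Type} [Fintype σ] (v : σ → A) (Jm : σ → τ → A)
    (h : ∀ j, ∑ i, Jm i j • D R A (v i) = 0) (j : τ) :
    ∑ i, algebraMap A A' (Jm i j) • D R A' (algebraMap A A' (v i)) = 0 := by
  rw [← map_sum_smul_D (R := R) A' (fun i => Jm i j) v, h j, map_zero]

include a in
lemma J2_loc {σ τ : Type} [Fintype σ] [Fintype τ] (v : σ → A) (Jm : σ → τ → A)
    (hJ2 : ∀ c : σ → A, ∑ i, c i • D R A (v i) = 0 →
      ∃ w : τ → A, ∀ i, c i = ∑ j, Jm i j * w j)
    (c' : σ → A') (hc' : ∑ i, c' i • D R A' (algebraMap A A' (v i)) = 0) :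
    ∃ w' : τ → A', ∀ i, c' i = ∑ j, algebraMap A A' (Jm i j) * w' j := by
  obtain ⟨k₀, c₀, hc₀⟩ := clear_vec a A' c'
  have h1 : KaehlerDifferential.map R R A A' (∑ i, c₀ i • D R A (v i)) = 0 := by
    rw [map_sum_smul_D]
    simp_rw [hc₀, mul_smul]
    rw [← Finset.smul_sum, hc', smul_zero]
  obtain ⟨⟨_, k₂, rfl⟩, hk₂⟩ := (IsLocalizedModule.eq_zero_iff (Submonoid.powers a)
    (KaehlerDifferential.map R R A A')).mp h1
  have h2 : ∑ i, (a ^ k₂ * c₀ i) • D R A (v i) = 0 := by
    simp_rw [mul_smul]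
    rw [← Finset.smul_sum]
    exact hk₂
  obtain ⟨w, hw⟩ := hJ2 _ h2
  let u : A' := IsLocalization.Away.invSelf a
  have hu : algebraMap A A' a * u = 1 := IsLocalization.Away.mul_invSelf a
  refine ⟨fun j => u ^ (k₂ + k₀) * algebraMap A A' (w j), fun i => ?_⟩
  have h3 : ∑ j, algebraMap A A' (Jm i j) * algebraMap A A' (w j) =
      algebraMap A A' a ^ k₂ * (algebraMap A A' a ^ k₀ * c' i) := by
    rw [← hc₀, ← map_pow, ← map_mul, hw i, map_sum]
    simp_rw [map_mul]
  have h4 : ∀ j, algebraMap A A' (Jm i j) * (u ^ (k₂ + k₀) * algebraMap A A' (w j)) =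
      u ^ (k₂ + k₀) * (algebraMap A A' (Jm i j) * algebraMap A A' (w j)) := fun j => by ring
  simp_rw [h4]
  rw [← Finset.mul_sum, h3, ← mul_assoc (algebraMap A A' a ^ k₂), ← pow_add, ← mul_assoc,
    ← mul_pow, mul_comm u, hu, one_pow, one_mul]

include a in
lemma J3_loc {σ : Type} (v : σ → A) (hv : Algebra.adjoin R (Set.range v) = ⊤) :
    Submodule.span A' (Set.range fun i => D R A' (algebraMap A A' (v i))) = ⊤ := by
  have h1 := KaehlerDifferential.span_range_map_derivation_of_isLocalization R A A'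
    (Submonoid.powers a)
  rw [eq_top_iff, ← h1, Submodule.span_le]
  rintro _ ⟨x, rfl⟩
  have hx : D R A x ∈ Submodule.span A ((D R A) '' Set.range v) := by
    rw [Groth.Agent.Lib.Helper19.SmoothRetract.span_D_of_adjoin_eq_top (R := R) _ hv]
    exact Submodule.mem_top
  show KaehlerDifferential.map R R A A' (D R A x) ∈
    Submodule.span A' (Set.range fun i => D R A' (algebraMap A A' (v i)))
  refine Submodule.span_induction (p := fun y _ => KaehlerDifferential.map R R A A' y ∈
    Submodule.span A' (Set.range fun i => D R A' (algebraMap A A' (v i)))) ?_ ?_ ?_ ?_ hx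
  · rintro _ ⟨_, ⟨i, rfl⟩, rfl⟩
    rw [KaehlerDifferential.map_D]
    exact Submodule.subset_span ⟨i, rfl⟩
  · rw [map_zero]; exact zero_mem _
  · intro y z _ _ hy hz; rw [map_add]; exact add_mem hy hz
  · intro r y _ hy
    rw [map_smul, ← algebraMap_smul A' r]
    exact Submodule.smul_mem _ _ hy

end loc

/-- Localized Jacobian data of a presentation. -/
theorem loc_data {σ τ : Type} [Fintype σ] [Fintype τ]
    (π : MvPolynomial σ R →ₐ[R] A) (hπ : Function.Surjective π)
    (f : τ → MvPolynomial σ R) (hker : RingHom.ker π.toRingHom = Ideal.span (Set.range f))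
    (a : A) :
    Submodule.span (Localization.Away a) (Set.range fun i =>
      D R (Localization.Away a) (algebraMap A (Localization.Away a) (π (X i)))) = ⊤ ∧
    (∀ j, ∑ i, algebraMap A (Localization.Away a) (π (pderiv i (f j))) •
      D R (Localization.Away a) (algebraMap A (Localization.Away a) (π (X i))) = 0) ∧
    (∀ c : σ → Localization.Away a,
      ∑ i, c i • D R (Localization.Away a) (algebraMap A (Localization.Away a) (π (X i))) = 0 →
      ∃ w : τ → Localization.Away a,
        ∀ i, c i = ∑ j, algebraMap A (Localization.Away a) (π (pderiv i (f j))) * w j) := by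
  obtain ⟨hv, hJ1, hJ2⟩ := jacobian_data π hπ f hker
  exact ⟨J3_loc (R := R) a (Localization.Away a) _ hv,
    J1_loc (R := R) (Localization.Away a) _ _ hJ1,
    J2_loc (R := R) a (Localization.Away a) _ _ hJ2⟩

end Groth.Agent.Lib.Helper27.StdB
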