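import Mathlib
import Groth.Prelude.Def_Smoothing
import Groth.Agent.Lib.Helper6.StdElt
import Groth.Agent.Lib.Helper27.PopI
import Groth.Agent.Lib.Helper27.StdA
import Groth.Agent.Lib.Helper27.StdB

/-!
# Strictly standard powers: the free case
-/

namespace Groth.Agent.Lib.Helper27.StdC

open MvPolynomial KaehlerDifferential Smoothing

universe u

theorem one_mem_span_minors {S : Type*} [CommRing S] {c : ℕ} {σ : Type*} [Fintype σ]
    [DecidableEq σ]
    (B : Matrix (Fin c) σ S) (L : Matrix σ (Fin c) S) (h : B * L = 1) :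
    (1 : S) ∈ Ideal.span (Set.range fun cols : Fin c → σ => (B.submatrix id cols).det) := by
  classical
  by_contra h1
  have hne : Ideal.span (Set.range fun cols : Fin c → σ => (B.submatrix id cols).det) ≠ ⊤ := by
    rwa [Ne, Ideal.eq_top_iff_one]
  obtain ⟨𝔪, hm, hle⟩ := Ideal.exists_le_maximal _ hne
  letI : Field (S ⧸ 𝔪) := Ideal.Quotient.field 𝔪
  let q : S →+* S ⧸ 𝔪 := Ideal.Quotient.mk 𝔪
  let e : σ ≃ Fin (Fintype.card σ) := Fintype.equivFin σ
  let B' : Matrix (Fin c) (Fin (Fintype.card σ)) (S ⧸ 𝔪) := (B.map q).submatrix id e.symm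
  let L' : Matrix (Fin (Fintype.card σ)) (Fin c) (S ⧸ 𝔪) := (L.map q).submatrix e.symm id
  have hBL : B' * L' = 1 := by
    show (B.map q).submatrix id e.symm * (L.map q).submatrix e.symm id = 1
    rw [Matrix.submatrix_mul_equiv, ← Matrix.map_mul, h,
      Matrix.map_one q (map_zero q) (map_one q)]
    simp
  have hli : LinearIndependent (S ⧸ 𝔪) B'.row := by
    rw [← Matrix.vecMul_injective_iff]
    intro x y hxy
    have := congrArg (fun z => Matrix.vecMul z L') hxy
    simpa [Matrix.vecMul_vecMul, hBL] using this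
  obtain ⟨cols, hcols⟩ := Groth.Agent.Lib.Helper6.StdElt.exists_cols_det_ne_zero B' hli
  apply hcols
  have h2 : B'.submatrix id cols = (q.mapMatrix (B.submatrix id (e.symm ∘ cols))) := by
    ext i j; rfl
  rw [h2, ← RingHom.map_det]
  exact Ideal.Quotient.eq_zero_iff_mem.mpr (hle (Ideal.subset_span ⟨e.symm ∘ cols, rfl⟩))

variable {R A : Type u} [CommRing R] [CommRing A] [Algebra R A]

/-- `π` of a partial derivative of a product with a relation. -/
lemma map_pderiv_mul_of_mem {σ : Type} (π : MvPolynomial σ R →ₐ[R] A) (i : σ)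
    (w g : MvPolynomial σ R) (hg : π g = 0) :
    π (pderiv i (w * g)) = π w * π (pderiv i g) := by
  rw [Derivation.leibniz, map_add, smul_eq_mul, smul_eq_mul, map_mul, map_mul, hg, zero_mul,
    add_zero]

theorem free_case {σ τ : Type} [Fintype σ] [Fintype τ]
    (π : MvPolynomial σ R →ₐ[R] A) (hπ : Function.Surjective π)
    (f : τ → MvPolynomial σ R) (hker : RingHom.ker π.toRingHom = Ideal.span (Set.range f))
    (a : A) [Algebra.FormallySmooth R (Localization.Away a)]
    (c : ℕ) (hc : c ≤ Fintype.card σ)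
    (E : (Fin c → Localization.Away a) ≃ₗ[Localization.Away a]
      LinearMap.ker (Fintype.linearCombination (Localization.Away a)
        (fun i => D R (Localization.Away a) (algebraMap A (Localization.Away a) (π (X i)))))) :
    ∃ e₀ : ℕ, ∀ n : ℕ, e₀ ≤ n → IsStrictlyStandard R A (a ^ n) := by
  classical
  obtain ⟨hJ3, hJ1, hJ2⟩ := Groth.Agent.Lib.Helper27.StdB.loc_data π hπ f hker a
  let S := Localization.Away a
  let loc : A →+* S := algebraMap A S
  let P := MvPolynomial σ R
  let I : Ideal P := RingHom.ker π.toRingHom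
  have hfI : ∀ j, π (f j) = 0 := fun j => by
    have : f j ∈ RingHom.ker π.toRingHom := by rw [hker]; exact Ideal.subset_span ⟨j, rfl⟩
    exact this
  let piΩ : (σ → S) →ₗ[S] Ω[S⁄R] :=
    Fintype.linearCombination S (fun i => D R S (loc (π (X i))))
  have hpiΩ : ∀ x, piΩ x = ∑ i, x i • D R S (loc (π (X i))) := fun x =>
    Fintype.linearCombination_apply S _ x
  have hsurj : Function.Surjective piΩ := by
    rw [← LinearMap.range_eq_top, Fintype.range_linearCombination]
    exact hJ3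
  obtain ⟨t, ht⟩ := Module.projective_lifting_property piΩ LinearMap.id hsurj
  have htapp : ∀ ω, piΩ (t ω) = ω := fun ω => LinearMap.congr_fun ht ω
  let r : (σ → S) →ₗ[S] LinearMap.ker piΩ :=
    LinearMap.codRestrict (LinearMap.ker piΩ) (LinearMap.id - t ∘ₗ piΩ) (fun x => by
      rw [LinearMap.mem_ker, LinearMap.sub_apply, map_sub, LinearMap.id_apply,
        LinearMap.comp_apply, htapp, sub_self])
  have hr : ∀ x : LinearMap.ker piΩ, r x.1 = x := by
    intro x
    apply Subtype.ext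
    show x.1 - t (piΩ x.1) = x.1
    rw [LinearMap.mem_ker.mp x.2, map_zero, sub_zero]
  -- the matrices
  let Bm : Matrix (Fin c) σ S := fun k i => (E (Pi.single k 1)).1 i
  let Lm : Matrix σ (Fin c) S := fun i k => (E.symm (r (Pi.single i 1))) k
  have hBL : Bm * Lm = 1 := by
    ext k k'
    rw [Matrix.mul_apply]
    have h1 : (E (Pi.single k 1)).1 = ∑ i, Bm k i • (Pi.single i (1 : S) : σ → S) := by
      funext i'
      rw [Finset.sum_apply]
      simp only [Pi.smul_apply, smul_eq_mul, Pi.single_apply, mul_ite, mul_one, mul_zero]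
      rw [Finset.sum_ite_eq]
      simp [Bm]
    have h2 : E.symm (r (E (Pi.single k 1)).1) = Pi.single k 1 := by
      rw [hr, E.symm_apply_apply]
    rw [h1, map_sum, map_sum] at h2
    have h3 := congrFun h2 k'
    rw [Finset.sum_apply] at h3
    simp only [map_smul, Pi.smul_apply, smul_eq_mul] at h3
    rw [Matrix.one_apply, show ∑ j, Bm k j * Lm j k' = _ from h3, Pi.single_apply]
    by_cases hk : k = k'
    · rw [if_pos hk, if_pos hk.symm]
    · rw [if_neg hk, if_neg (Ne.symm hk)]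
  have hone := one_mem_span_minors Bm Lm hBL
  -- express the rows via the Jacobian
  have hrow : ∀ k : Fin c, ∃ w : τ → S, ∀ i, Bm k i = ∑ j, loc (π (pderiv i (f j))) * w j := by
    intro k
    have hk : piΩ (E (Pi.single k 1)).1 = 0 := LinearMap.mem_ker.mp (E (Pi.single k 1)).2
    rw [hpiΩ] at hk
    exact hJ2 _ hk
  choose w hw using hrow
  obtain ⟨t₁, ŵ, hŵ⟩ := Groth.Agent.Lib.Helper27.StdB.clear_vec a S
    (fun p : Fin c × τ => w p.1 p.2)
  have hlift : ∀ x : A, ∃ p : P, π p = x := fun x => hπ x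
  choose lift hlift using hlift
  let g : Fin c → P := fun k => ∑ j, lift (ŵ (k, j)) * f j
  have hgI : ∀ k, π (g k) = 0 := by
    intro k
    show π (∑ j, lift (ŵ (k, j)) * f j) = 0
    rw [map_sum]
    exact Finset.sum_eq_zero fun j _ => by rw [map_mul, hfI, mul_zero]
  have hgmem : ∀ k, g k ∈ Ideal.span (Set.range f) := fun k =>
    Ideal.sum_mem _ fun j _ => Ideal.mul_mem_left _ _ (Ideal.subset_span ⟨j, rfl⟩)
  have hgjac : ∀ k i, loc (π (pderiv i (g k))) = loc a ^ t₁ * Bm k i := by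
    intro k i
    show loc (π (pderiv i (∑ j, lift (ŵ (k, j)) * f j))) = _
    rw [map_sum, map_sum, map_sum, hw k i, Finset.mul_sum]
    refine Finset.sum_congr rfl fun j _ => ?_
    rw [map_pderiv_mul_of_mem π i _ _ (hfI j), hlift, map_mul, hŵ (k, j)]
    ring
  -- the presentation
  let F : Fin c ⊕ τ → P := Sum.elim g f
  have hFspan : Ideal.span (Set.range F) = Ideal.span (Set.range f) := by
    apply le_antisymm
    · rw [Ideal.span_le]
      rintro _ ⟨x, rfl⟩
      cases x with
      | inl k => exact hgmem k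
      | inr j => exact Ideal.subset_span ⟨j, rfl⟩
    · rw [Ideal.span_le]
      rintro _ ⟨j, rfl⟩
      exact Ideal.subset_span ⟨Sum.inr j, rfl⟩
  have hkerF : RingHom.ker π.toRingHom = Ideal.span (Set.range F) := by rw [hFspan, hker]
  let rows : Fin c ↪ Fin c ⊕ τ := ⟨Sum.inl, Sum.inl_injective⟩
  let minor : (Fin c → σ) → P := fun cols =>
    Matrix.det (Matrix.of fun j k : Fin c => pderiv (cols k) (F (rows j)))
  let 𝔟 : Ideal A := Ideal.span (Set.range fun cols : Fin c → σ => π (minor cols))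
  have hminor : ∀ cols, loc (π (minor cols)) =
      (loc a ^ t₁) ^ c * (Bm.submatrix id cols).det := by
    intro cols
    show loc (π (Matrix.det (Matrix.of fun j k : Fin c => pderiv (cols k) (g j)))) = _
    rw [AlgHom.map_det, RingHom.map_det]
    have : loc.mapMatrix (π.mapMatrix (Matrix.of fun j k : Fin c => pderiv (cols k) (g j))) =
        (loc a ^ t₁) • (Bm.submatrix id cols) := by
      ext j k
      show loc (π (pderiv (cols k) (g j))) = loc a ^ t₁ * Bm j (cols k)
      exact hgjac j (cols k)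
    rw [this, Matrix.det_smul, Fintype.card_fin]
  -- (1) a power of `a` lies in `𝔟`
  have hN₁ : ∃ N₁ : ℕ, a ^ N₁ ∈ 𝔟 := by
    have h1 : (loc a ^ t₁) ^ c ∈ 𝔟.map loc := by
      have h2 : (loc a ^ t₁) ^ c * 1 ∈ 𝔟.map loc := by
        have h3 : ∀ x ∈ Ideal.span (Set.range fun cols : Fin c → σ =>
            (Bm.submatrix id cols).det), (loc a ^ t₁) ^ c * x ∈ 𝔟.map loc := by
          intro x hx
          induction hx using Submodule.span_induction with
          | mem x hx =>
            obtain ⟨cols, rfl⟩ := hx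
            rw [← hminor]
            exact Ideal.mem_map_of_mem _ (Ideal.subset_span ⟨cols, rfl⟩)
          | zero => rw [mul_zero]; exact zero_mem _
          | add x y _ _ hx hy => rw [mul_add]; exact add_mem hx hy
          | smul s x _ hx =>
            rw [smul_eq_mul, mul_left_comm]
            exact Ideal.mul_mem_left _ _ hx
        exact h3 1 hone
      rwa [mul_one] at h2
    rw [← map_pow, ← map_pow, IsLocalization.mem_map_algebraMap_iff (Submonoid.powers a)] at h1
    obtain ⟨⟨⟨b, hb⟩, ⟨_, k, rfl⟩⟩, hbk⟩ := h1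
    simp only at hbk
    rw [← map_mul, IsLocalization.eq_iff_exists (Submonoid.powers a)] at hbk
    obtain ⟨⟨_, l, rfl⟩, hl⟩ := hbk
    simp only at hl
    refine ⟨l + (t₁ * c + k), ?_⟩
    have : a ^ (l + (t₁ * c + k)) = a ^ l * b := by
      rw [← hl, pow_add, pow_add, pow_mul]
    rw [this]
    exact Ideal.mul_mem_left _ _ hb
  obtain ⟨N₁, hN₁⟩ := hN₁
  -- (2) tail
  let a' : P := lift a
  have ha' : π a' = a := hlift a
  have hcolK : ∀ j : τ, (fun i => loc (π (pderiv i (f j)))) ∈ LinearMap.ker piΩ := by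
    intro j
    rw [LinearMap.mem_ker, hpiΩ]
    exact hJ1 j
  let s : τ → Fin c → S := fun j => E.symm ⟨_, hcolK j⟩
  have hs : ∀ j i, loc (π (pderiv i (f j))) = ∑ k, s j k * Bm k i := by
    intro j i
    have h1 : E (s j) = ⟨_, hcolK j⟩ := E.apply_symm_apply _
    have h2 : s j = ∑ k, s j k • (Pi.single k (1 : S) : Fin c → S) := by
      funext k'
      rw [Finset.sum_apply]
      simp only [Pi.smul_apply, smul_eq_mul, Pi.single_apply, mul_ite, mul_one, mul_zero]
      rw [Finset.sum_ite_eq]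
      simp
    rw [h2, map_sum] at h1
    have h3 := congrArg (fun x : LinearMap.ker piΩ => x.1 i) h1
    simp only at h3
    rw [← h3]
    simp only [map_smul]
    rw [Submodule.coe_sum, Finset.sum_apply]
    refine Finset.sum_congr rfl fun k _ => ?_
    rfl
  obtain ⟨t₂, ŝ, hŝ⟩ := Groth.Agent.Lib.Helper27.StdB.clear_vec a S
    (fun p : τ × Fin c => s p.1 p.2)
  let hj : τ → P := fun j => a' ^ (t₁ + t₂) * f j - ∑ k, lift (ŝ (j, k)) * g k
  have hhjI : ∀ j, π (hj j) = 0 := by
    intro j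
    show π (a' ^ (t₁ + t₂) * f j - ∑ k, lift (ŝ (j, k)) * g k) = 0
    rw [map_sub, map_mul, hfI, mul_zero, map_sum, zero_sub, neg_eq_zero]
    exact Finset.sum_eq_zero fun k _ => by rw [map_mul, hgI, mul_zero]
  have hhjd : ∀ j i, loc (π (pderiv i (hj j))) = 0 := by
    intro j i
    show loc (π (pderiv i (a' ^ (t₁ + t₂) * f j - ∑ k, lift (ŝ (j, k)) * g k))) = 0
    rw [map_sub, map_sub, map_sub, map_pderiv_mul_of_mem π i _ _ (hfI j), map_sum, map_sum,
      map_sum, map_mul, map_pow, ha', hs j i, Finset.mul_sum, ← Finset.sum_sub_distrib]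
    refine Finset.sum_eq_zero fun k _ => ?_
    rw [map_pderiv_mul_of_mem π i _ _ (hgI k), hlift, map_mul, hŝ (j, k), hgjac k i, map_pow,
      pow_add]
    ring
  have ht₃ : ∀ j, ∃ t₃ : ℕ, a' ^ t₃ * hj j ∈ I ^ 2 := fun j =>
    Groth.Agent.Lib.Helper27.StdA.exists_pow_mul_mem_sq π hπ a a' ha' (hj j) (hhjI j) (hhjd j)
  choose t₃ ht₃ using ht₃
  let T₃ : ℕ := ∑ j, t₃ j
  have hT₃ : ∀ j, a' ^ T₃ * hj j ∈ I ^ 2 := by
    intro j
    obtain ⟨d, hd⟩ := Nat.exists_eq_add_of_le
      (Finset.single_le_sum (fun _ _ => Nat.zero_le _) (Finset.mem_univ j) : t₃ j ≤ ∑ j, t₃ j)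
    show a' ^ (∑ j, t₃ j) * hj j ∈ I ^ 2
    rw [hd, pow_add, mul_comm (a' ^ t₃ j), mul_assoc]
    exact Ideal.mul_mem_left _ _ (ht₃ j)
  let N₂ : ℕ := T₃ + (t₁ + t₂)
  have hIF : I = Ideal.span (Set.range F) := hkerF
  have htailN₂ : ∀ j : τ, a' ^ N₂ * f j ∈
      Ideal.span (Set.range (F ∘ rows)) ⊔ Ideal.span (Set.range F) ^ 2 := by
    intro j
    have h1 : a' ^ N₂ * f j = a' ^ T₃ * hj j + ∑ k, (a' ^ T₃ * lift (ŝ (j, k))) * g k := by
      show a' ^ (T₃ + (t₁ + t₂)) * f j =
        a' ^ T₃ * (a' ^ (t₁ + t₂) * f j - ∑ k, lift (ŝ (j, k)) * g k) + _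
      rw [pow_add, mul_sub, Finset.mul_sum]
      simp_rw [mul_assoc]
      ring
    rw [h1, add_comm]
    refine Submodule.add_mem_sup ?_ ?_
    · exact Ideal.sum_mem _ fun k _ => Ideal.mul_mem_left _ _ (Ideal.subset_span ⟨k, rfl⟩)
    · rw [← hIF]; exact hT₃ j
  refine ⟨N₁ + N₂, fun n hn => ?_⟩
  refine Groth.Agent.Lib.Helper27.PopI.isStrictlyStandard_of_fintype F π hπ hkerF rows
    (by rw [Fintype.card_fin]; exact hc) (a ^ n) ?_ ?_
  · obtain ⟨d, rfl⟩ := Nat.exists_eq_add_of_le (le_trans (Nat.le_add_right N₁ N₂) hn)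
    rw [pow_add]
    exact Ideal.mul_mem_right _ _ hN₁
  · intro a₁ ha₁ ℓ
    cases ℓ with
    | inl k =>
      refine Ideal.mem_sup_left (Ideal.mul_mem_left _ _ (Ideal.subset_span ⟨k, rfl⟩))
    | inr j =>
      obtain ⟨d, hd⟩ := Nat.exists_eq_add_of_le (le_trans (Nat.le_add_left N₂ N₁) hn)
      have h1 : a₁ * F (Sum.inr j) = (a₁ - a' ^ n) * f j + a' ^ d * (a' ^ N₂ * f j) := by
        show a₁ * f j = _
        rw [hd, pow_add]; ring
      rw [h1]
      refine add_mem (Ideal.mem_sup_right ?_) (Ideal.mul_mem_left _ _ (htailN₂ j))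
      rw [pow_two]
      refine Ideal.mul_mem_mul ?_ ?_
      · rw [← hIF]
        show π (a₁ - a' ^ n) = 0
        rw [map_sub, ha₁, map_pow, ha', sub_self]
      · exact Ideal.subset_span ⟨Sum.inr j, rfl⟩

end Groth.Agent.Lib.Helper27.StdC
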