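import Mathlib
import Groth.Prelude.Def_Smoothing
import Groth.Agent.Lib.Helper27.StdC

/-!
# Strictly standard powers: stably free case (Stacks 07CG (e))
-/

namespace Groth.Agent.Lib.Helper27.StdD

open MvPolynomial KaehlerDifferential Smoothing

universe u

variable {R A : Type u} [CommRing R] [CommRing A] [Algebra R A]

section ext

variable {n m : ℕ} (q : ℕ) (π : MvPolynomial (Fin n) R →ₐ[R] A)
  (f : Fin m → MvPolynomial (Fin n) R)

/-- extended surjection: new variables go to zero -/
noncomputable def piE : MvPolynomial (Fin n ⊕ Fin q) R →ₐ[R] A :=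
  aeval (Sum.elim (fun i => π (X i)) (fun _ => 0))

/-- extended relations -/
noncomputable def fE : Fin m ⊕ Fin q → MvPolynomial (Fin n ⊕ Fin q) R :=
  Sum.elim (fun j => rename Sum.inl (f j)) (fun l => X (Sum.inr l))

lemma piE_inl (i : Fin n) : piE q π (X (Sum.inl i)) = π (X i) := by
  simp [piE]

lemma piE_inr (l : Fin q) : piE q π (X (Sum.inr l)) = 0 := by
  simp [piE]

lemma piE_rename (p : MvPolynomial (Fin n) R) : piE q π (rename Sum.inl p) = π p := by
  unfold piE
  rw [aeval_rename]
  have h1 : (Sum.elim (fun i => π (X i)) (fun _ : Fin q => (0 : A)) ∘ Sum.inl) =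
      fun i => π (X i) := rfl
  rw [h1]
  exact (DFunLike.congr_fun (aeval_unique π) p).symm

lemma piE_surjective (hπ : Function.Surjective π) : Function.Surjective (piE q π) := by
  intro x
  obtain ⟨p, rfl⟩ := hπ x
  exact ⟨rename Sum.inl p, piE_rename q π p⟩

/-- the retraction killing the new variables -/
noncomputable def theta : MvPolynomial (Fin n ⊕ Fin q) R →ₐ[R] MvPolynomial (Fin n) R :=
  aeval (Sum.elim X (fun _ => 0))

lemma piE_eq_comp : piE q π = π.comp (theta q) := by
  apply MvPolynomial.algHom_ext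
  intro v
  cases v with
  | inl i => simp [piE, theta]
  | inr l => simp [piE, theta]

lemma sub_rename_theta_mem (p' : MvPolynomial (Fin n ⊕ Fin q) R) :
    p' - rename Sum.inl (theta q p') ∈
      Ideal.span (Set.range fun l : Fin q => (X (Sum.inr l) : MvPolynomial (Fin n ⊕ Fin q) R)) := by
  induction p' using MvPolynomial.induction_on with
  | C r =>
    have : theta (n := n) q (C r : MvPolynomial (Fin n ⊕ Fin q) R) = C r := by simp [theta]
    rw [this, rename_C, sub_self]
    exact zero_mem _
  | add x y hx hy =>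
    rw [map_add, map_add]
    have : x + y - (rename Sum.inl (theta q x) + rename Sum.inl (theta q y)) =
        (x - rename Sum.inl (theta q x)) + (y - rename Sum.inl (theta q y)) := by ring
    rw [this]
    exact add_mem hx hy
  | mul_X x v hx =>
    rw [map_mul, map_mul]
    cases v with
    | inl i =>
      have h1 : rename Sum.inl (theta (n := n) q (X (Sum.inl i) : MvPolynomial (Fin n ⊕ Fin q) R)) =
          (X (Sum.inl i) : MvPolynomial (Fin n ⊕ Fin q) R) := by
        simp [theta]
      rw [h1, ← sub_mul]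
      exact Ideal.mul_mem_right _ _ hx
    | inr l =>
      have h1 : theta (n := n) q (X (Sum.inr l) : MvPolynomial (Fin n ⊕ Fin q) R) = 0 := by
        simp [theta]
      rw [h1, map_zero, mul_zero, sub_zero]
      exact Ideal.mul_mem_left _ _ (Ideal.subset_span ⟨l, rfl⟩)

lemma ker_piE (hker : RingHom.ker π.toRingHom = Ideal.span (Set.range f)) :
    RingHom.ker (piE q π).toRingHom = Ideal.span (Set.range (fE q f)) := by
  apply le_antisymm
  · intro p' hp'
    have hp0 : piE q π p' = 0 := hp'
    have h1 : theta q p' ∈ Ideal.span (Set.range f) := by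
      rw [← hker]
      show π (theta q p') = 0
      rw [← hp0, piE_eq_comp]; rfl
    have h2 : rename Sum.inl (theta q p') ∈ Ideal.span (Set.range (fE q f)) := by
      have h3 : rename Sum.inl (theta q p') ∈
          (Ideal.span (Set.range f)).map
            (rename Sum.inl : MvPolynomial (Fin n) R →ₐ[R] MvPolynomial (Fin n ⊕ Fin q) R) :=
        Ideal.mem_map_of_mem _ h1
      rw [Ideal.map_span] at h3
      refine (Ideal.span_mono ?_) h3
      rintro _ ⟨_, ⟨j, rfl⟩, rfl⟩
      exact ⟨Sum.inl j, rfl⟩
    have h4 : p' - rename Sum.inl (theta q p') ∈ Ideal.span (Set.range (fE q f)) := by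
      refine (Ideal.span_mono ?_) (sub_rename_theta_mem q p')
      rintro _ ⟨l, rfl⟩
      exact ⟨Sum.inr l, rfl⟩
    have : p' = (p' - rename Sum.inl (theta q p')) + rename Sum.inl (theta q p') := by ring
    rw [this]
    exact add_mem h4 h2
  · rw [Ideal.span_le]
    rintro _ ⟨v, rfl⟩
    show piE q π (fE q f v) = 0
    cases v with
    | inl j =>
      show piE q π (rename Sum.inl (f j)) = 0
      rw [piE_rename]
      have : f j ∈ RingHom.ker π.toRingHom := by rw [hker]; exact Ideal.subset_span ⟨j, rfl⟩
      exact this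
    | inr l => exact piE_inr q π l

end ext

section equivs

variable {S : Type u} [CommRing S] {Ω' : Type u} [AddCommGroup Ω'] [Module S Ω']
  {n : ℕ} (q : ℕ) (d : Fin n → Ω')

/-- the kernel of the extended `piΩ` splits off the new coordinates -/
noncomputable def kerEquiv :
    (LinearMap.ker (Fintype.linearCombination S (Sum.elim d (fun _ : Fin q => (0 : Ω'))))) ≃ₗ[S]
      (LinearMap.ker (Fintype.linearCombination S d)) × (Fin q → S) where
  toFun x := (⟨fun i => x.1 (Sum.inl i), by
    have h := LinearMap.mem_ker.mp x.2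
    rw [Fintype.linearCombination_apply, Fintype.sum_sum_type] at h
    simp only [Sum.elim_inl, Sum.elim_inr, smul_zero, Finset.sum_const_zero, add_zero] at h
    rw [LinearMap.mem_ker, Fintype.linearCombination_apply]
    exact h⟩, fun l => x.1 (Sum.inr l))
  map_add' x y := rfl
  map_smul' r x := rfl
  invFun y := ⟨Sum.elim y.1.1 y.2, by
    have h := LinearMap.mem_ker.mp y.1.2
    rw [Fintype.linearCombination_apply] at h
    rw [LinearMap.mem_ker, Fintype.linearCombination_apply, Fintype.sum_sum_type]
    simp only [Sum.elim_inl, Sum.elim_inr, smul_zero, Finset.sum_const_zero, add_zero]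
    exact h⟩
  left_inv x := by
    apply Subtype.ext
    funext v
    cases v <;> rfl
  right_inv y := by
    refine Prod.ext (Subtype.ext ?_) ?_ <;> rfl

end equivs

theorem stably_free_case {n m : ℕ}
    (π : MvPolynomial (Fin n) R →ₐ[R] A) (hπ : Function.Surjective π)
    (f : Fin m → MvPolynomial (Fin n) R)
    (hker : RingHom.ker π.toRingHom = Ideal.span (Set.range f))
    (a : A) [Algebra.FormallySmooth R (Localization.Away a)] [Nontrivial (Localization.Away a)]
    (p q : ℕ)
    (e : (Ω[Localization.Away a⁄R] × (Fin p → Localization.Away a)) ≃ₗ[Localization.Away a]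
      (Fin q → Localization.Away a)) :
    ∃ e₀ : ℕ, ∀ k : ℕ, e₀ ≤ k → IsStrictlyStandard R A (a ^ k) := by
  classical
  let S := Localization.Away a
  let loc : A →+* S := algebraMap A S
  obtain ⟨hJ3, -, -⟩ := Groth.Agent.Lib.Helper27.StdB.loc_data π hπ f hker a
  let d : Fin n → Ω[S⁄R] := fun i => D R S (loc (π (X i)))
  let piΩ : (Fin n → S) →ₗ[S] Ω[S⁄R] := Fintype.linearCombination S d
  have hsurj : Function.Surjective piΩ := by
    rw [← LinearMap.range_eq_top, Fintype.range_linearCombination]
    exact hJ3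
  obtain ⟨t, ht⟩ := Module.projective_lifting_property piΩ LinearMap.id hsurj
  let e1 : (Fin n → S) ≃ₗ[S] (LinearMap.ker piΩ) × Ω[S⁄R] :=
    ((LinearMap.exact_subtype_ker_map piΩ).splitSurjectiveEquiv
      (Submodule.injective_subtype _) ⟨t, ht⟩).1
  -- `p ≤ q`
  have hpq : p ≤ q := by
    let ι : (Fin p → S) →ₗ[S] (Fin q → S) :=
      e.toLinearMap ∘ₗ LinearMap.inr S Ω[S⁄R] (Fin p → S)
    have hι : Function.Injective ι := e.injective.comp LinearMap.inr_injective
    exact le_of_fin_injective S ι hι
  -- the equivalence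
  let E0 : (Fin (n + p) → S) ≃ₗ[S] (LinearMap.ker piΩ) × (Fin q → S) :=
    (LinearEquiv.funCongrLeft S S finSumFinEquiv).trans <|
    (LinearEquiv.sumArrowLequivProdArrow (Fin n) (Fin p) S S).trans <|
    (LinearEquiv.prodCongr e1 (LinearEquiv.refl S (Fin p → S))).trans <|
    (LinearEquiv.prodAssoc S (LinearMap.ker piΩ) Ω[S⁄R] (Fin p → S)).trans <|
    LinearEquiv.prodCongr (LinearEquiv.refl S (LinearMap.ker piΩ)) e
  have hd' : (fun v : Fin n ⊕ Fin q => D R S (loc (piE q π (X v)))) =
      Sum.elim d (fun _ : Fin q => (0 : Ω[S⁄R])) := by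
    funext v
    cases v with
    | inl i => simp only [piE_inl, Sum.elim_inl]; rfl
    | inr l => simp only [piE_inr, Sum.elim_inr, map_zero]
  let E1 : (Fin (n + p) → S) ≃ₗ[S]
      LinearMap.ker (Fintype.linearCombination S (Sum.elim d (fun _ : Fin q => (0 : Ω[S⁄R])))) :=
    E0.trans (kerEquiv q d).symm
  have hcard : n + p ≤ Fintype.card (Fin n ⊕ Fin q) := by
    rw [Fintype.card_sum, Fintype.card_fin, Fintype.card_fin]; omega
  refine Groth.Agent.Lib.Helper27.StdC.free_case (piE q π) (piE_surjective q π hπ) (fE q f)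
    (ker_piE q π f hker) a (n + p) hcard ?_
  rw [hd']
  exact E1

/-- `0` is strictly standard. -/
theorem isStrictlyStandard_zero [Algebra.FinitePresentation R A] :
    IsStrictlyStandard R A (0 : A) := by
  classical
  obtain ⟨n, π, hπ, hfg⟩ := Algebra.FinitePresentation.out (R := R) (A := A)
  obtain ⟨m, f, hf⟩ := Submodule.fg_iff_exists_fin_generating_family.mp hfg
  have hker : RingHom.ker π.toRingHom = Ideal.span (Set.range f) := hf.symm
  refine Groth.Agent.Lib.Helper27.PopI.isStrictlyStandard_of_fintype (W := Fin 0) f π hπ hker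
    ⟨Fin.elim0, fun x => Fin.elim0 x⟩ (by simp) 0 (zero_mem _) ?_
  intro a₁ ha₁ ℓ
  refine Ideal.mem_sup_right ?_
  rw [pow_two]
  refine Ideal.mul_mem_mul ?_ (Ideal.subset_span ⟨ℓ, rfl⟩)
  rw [← hker]
  exact ha₁

theorem main [Algebra.FinitePresentation R A] (a : A)
    [Algebra.Smooth R (Localization.Away a)] (p q : ℕ)
    (e : (Ω[Localization.Away a⁄R] × (Fin p → Localization.Away a)) ≃ₗ[Localization.Away a]
      (Fin q → Localization.Away a)) :
    ∃ e₀ : ℕ, ∀ k : ℕ, e₀ ≤ k → IsStrictlyStandard R A (a ^ k) := by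
  classical
  rcases subsingleton_or_nontrivial (Localization.Away a) with hS | hS
  · -- `a` is nilpotent
    have h0 : algebraMap A (Localization.Away a) 1 = 0 := Subsingleton.elim _ _
    obtain ⟨N, hN⟩ := Groth.Agent.Lib.Helper27.StdB.kill_one a (Localization.Away a) 1 h0
    rw [mul_one] at hN
    refine ⟨N, fun k hk => ?_⟩
    obtain ⟨d, rfl⟩ := Nat.exists_eq_add_of_le hk
    rw [pow_add, hN, zero_mul]
    exact isStrictlyStandard_zero
  · obtain ⟨n, π, hπ, hfg⟩ := Algebra.FinitePresentation.out (R := R) (A := A)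
    obtain ⟨m, f, hf⟩ := Submodule.fg_iff_exists_fin_generating_family.mp hfg
    have hker : RingHom.ker π.toRingHom = Ideal.span (Set.range f) := hf.symm
    exact stably_free_case π hπ f hker a p q e

end Groth.Agent.Lib.Helper27.StdD
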