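import Mathlib
import Groth.Prelude.Def_Smoothing
import Groth.Agent.Lib.Helper27.PopG
import Groth.Agent.Lib.Helper27.SepA
import Groth.Agent.Lib.Helper27.SepC
import Groth.Agent.Lib.Helper27.StdD

/-!
# The algebra `C` over `R = k[x]` with strictly standard powers of the `x_i`
-/

namespace Groth.Agent.Lib.Helper27.SepI

open MvPolynomial Smoothing KaehlerDifferential
open Groth.Agent.Lib.Helper27 Groth.Agent.Lib.Helper27.SepB

universe u

theorem exists_free_equiv {S M : Type u} [CommRing S] [AddCommGroup M] [Module S M]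
    [Module.Free S M] [Module.Finite S M] :
    ∃ q : ℕ, Nonempty ((M × (Fin 0 → S)) ≃ₗ[S] (Fin q → S)) := by
  rcases subsingleton_or_nontrivial S with hS | hS
  · haveI : Subsingleton M := Module.subsingleton S M
    exact ⟨0, ⟨LinearEquiv.ofSubsingleton _ _⟩⟩
  · let b := Module.finBasis S M
    exact ⟨Module.finrank S M, ⟨(LinearEquiv.prodUnique (R := S) (M := M)
      (M₂ := Fin 0 → S)).trans b.equivFun⟩⟩

set_option maxHeartbeats 800000 in
theorem exists_C {k A : Type u} [Field k] [CommRing A] [Algebra k A]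
    [Algebra.FinitePresentation k A] {r : ℕ} (a : Fin r → A)
    (hsm : ∀ j, Algebra.Smooth k (Localization.Away (a j))) (d n : ℕ) :
    ∃ (C : Type u) (_ : CommRing C) (_ : Algebra (Bq d n a) C)
      (_ : Algebra (MvPolynomial (Fin d) k) C)
      (_ : IsScalarTower (MvPolynomial (Fin d) k) (Bq d n a) C),
      Algebra.FinitePresentation (MvPolynomial (Fin d) k) C ∧
      Nonempty (C →ₐ[Bq d n a] Bq d n a) ∧
      (∀ j, algebraMap (Bq d n a) C (algebraMap A (Bq d n a) (a j)) ∈
        singularIdeal (MvPolynomial (Fin d) k) C) ∧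
      ∃ c : ℕ, 1 ≤ c ∧ ∀ i : Fin d, IsStrictlyStandard (MvPolynomial (Fin d) k) C
        (algebraMap (MvPolynomial (Fin d) k) C (X i ^ c)) := by
  classical
  let R := MvPolynomial (Fin d) k
  let B := Bq d n a
  haveI : IsNoetherianRing B := Algebra.FiniteType.isNoetherianRing k B
  obtain ⟨C, iC, iBC, iRC, iT, hfp, hρ, hC⟩ := SepA.main' (R := R) (A := B)
  haveI := hfp
  have hsmB : ∀ j, Algebra.Smooth R (Localization.Away (algebraMap A B (a j))) := by
    intro j
    haveI : Algebra.FormallySmooth k (Localization.Away (a j)) := (hsm j).1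
    exact SepC.smooth_chart (k := k) (d := d) n a j
  have haB : ∀ j, algebraMap A B (a j) ∈ singularIdeal R B :=
    fun j => (PopG.mem_singularIdeal_iff _).mpr (hsmB j)
  have hxB : ∀ i, xb n a i ∈ singularIdeal R B := by
    intro i
    have hrad : (singularIdeal R B).IsRadical := PrimeSpectrum.isRadical_vanishingIdeal _
    apply hrad
    refine ⟨n, ?_⟩
    rw [rel_eq]
    exact Ideal.sum_mem _ fun j _ => Ideal.mul_mem_right _ _ (haB j)
  have hxsm : ∀ i, Algebra.Smooth R (Localization.Away (xb n a i)) :=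
    fun i => (PopG.mem_singularIdeal_iff _).mp (hxB i)
  have hstd : ∀ i, ∃ e₀ : ℕ, ∀ m, e₀ ≤ m →
      IsStrictlyStandard R C (algebraMap B C (xb n a i) ^ m) := by
    intro i
    obtain ⟨hs, hfree⟩ := hC (xb n a i) (hxsm i)
    haveI := hs
    haveI := hfree
    haveI : Algebra.FinitePresentation R (Localization.Away (algebraMap B C (xb n a i))) := hs.2
    obtain ⟨q, ⟨e⟩⟩ := exists_free_equiv
      (S := Localization.Away (algebraMap B C (xb n a i)))
      (M := Ω[Localization.Away (algebraMap B C (xb n a i))⁄R])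
    exact StdD.main (algebraMap B C (xb n a i)) 0 q e
  choose e₀ he₀ using hstd
  refine ⟨C, iC, iBC, iRC, iT, hfp, hρ, ?_, 1 + ∑ i, e₀ i, by omega, ?_⟩
  · intro j
    rw [PopG.mem_singularIdeal_iff]
    exact (hC _ (hsmB j)).1
  · intro i
    have h1 : algebraMap R C (X i ^ (1 + ∑ i, e₀ i)) =
        algebraMap B C (xb n a i) ^ (1 + ∑ i, e₀ i) := by
      rw [map_pow, IsScalarTower.algebraMap_apply R B C, algebraMap_R_X]
    rw [h1]
    apply he₀ i
    have : e₀ i ≤ ∑ i, e₀ i :=
      Finset.single_le_sum (fun _ _ => Nat.zero_le _) (Finset.mem_univ i)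
    omega

end Groth.Agent.Lib.Helper27.SepI
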