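import Mathlib

/-!
# Presentation data of a smooth algebra (helper27)

For a smooth `R`-algebra `A` there is a presentation `f : R[x₁..xₙ] → A` with kernel `J` and
elements `k₁, …, kₙ ∈ J` with `x - ∑ᵢ ∂ᵢx · kᵢ ∈ J²` for all `x ∈ J`.
-/

set_option autoImplicit false
universe u

namespace Groth.Agent.Lib.Helper27.SmoothLiftD

open TensorProduct KaehlerDifferential

theorem exists_data (R A : Type u) [CommRing R] [CommRing A] [Algebra R A] [Algebra.Smooth R A] :
    ∃ (n : ℕ) (f : MvPolynomial (Fin n) R →ₐ[R] A) (k : Fin n → MvPolynomial (Fin n) R),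
      Function.Surjective f ∧ (RingHom.ker f.toRingHom).FG ∧
      (∀ l, k l ∈ RingHom.ker f.toRingHom) ∧
      ∀ x ∈ RingHom.ker f.toRingHom,
        x - ∑ i, MvPolynomial.pderiv i x * k i ∈ (RingHom.ker f.toRingHom) ^ 2 := by
  classical
  obtain ⟨n, f, hf, hfg⟩ := Algebra.FinitePresentation.out (R := R) (A := A)
  letI : Algebra (MvPolynomial (Fin n) R) A := f.toRingHom.toAlgebra
  haveI : IsScalarTower R (MvPolynomial (Fin n) R) A :=
    IsScalarTower.of_algebraMap_eq' f.comp_algebraMap.symm
  have hsurj : Function.Surjective (algebraMap (MvPolynomial (Fin n) R) A) := hf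
  set J : Ideal (MvPolynomial (Fin n) R) := RingHom.ker (algebraMap (MvPolynomial (Fin n) R) A)
    with hJ
  obtain ⟨l, hl⟩ := (Algebra.FormallySmooth.iff_split_injection (R := R) hsurj).mp inferInstance
  have hJf : RingHom.ker f.toRingHom = J := rfl
  choose k hk using fun i : Fin n =>
    Ideal.toCotangent_surjective J (l (1 ⊗ₜ D R (MvPolynomial (Fin n) R) (MvPolynomial.X i)))
  have hD : ∀ x : MvPolynomial (Fin n) R, D R (MvPolynomial (Fin n) R) x
      = ∑ i, MvPolynomial.pderiv i x • D R (MvPolynomial (Fin n) R) (MvPolynomial.X i) := by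
    intro x
    have := (mvPolynomialBasis R (Fin n)).sum_repr (D R (MvPolynomial (Fin n) R) x)
    rw [← this]
    refine Finset.sum_congr rfl fun i _ => ?_
    rw [mvPolynomialBasis_repr_apply, mvPolynomialBasis_apply]
  have key : ∀ x : J, J.toCotangent x = J.toCotangent (∑ i, MvPolynomial.pderiv i x.1 • k i) := by
    intro x
    have h1 : J.toCotangent x = l (kerCotangentToTensor R (MvPolynomial (Fin n) R) A
        (J.toCotangent x)) := by
      have := LinearMap.congr_fun hl (J.toCotangent x)
      simpa using this.symm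
    rw [h1, kerCotangentToTensor_toCotangent, hD, TensorProduct.tmul_sum, map_sum, map_sum]
    refine Finset.sum_congr rfl fun i _ => ?_
    rw [TensorProduct.tmul_smul, map_smul, map_smul, hk]
  refine ⟨n, f, fun i => (k i).1, hf, hfg, fun i => (k i).2, fun x hx => ?_⟩
  rw [hJf]
  have h2 := (Ideal.toCotangent_eq (I := J)).mp (key ⟨x, hx⟩)
  convert h2 using 2
  simp only [Submodule.coe_sum, Submodule.coe_smul, smul_eq_mul]

end Groth.Agent.Lib.Helper27.SmoothLiftD
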