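import Mathlib

/-!
# A global Jacobian criterion in idempotent form (helper27)

Let `S` be a formally smooth `R`-algebra with derivations `∇ i : S → S`, `e` an idempotent matrix,
`a` a vector with `a e = a` and `G i j = ∇ i (a j)`.  If `e W G e = e` for some matrix `W`, then
`S ⧸ (a)` is formally smooth over `R`.
-/

set_option autoImplicit false
universe u

namespace Groth.Agent.Lib.Helper27.SmoothLiftA

open Matrix

variable {R S : Type*} [CommRing R] [CommRing S] [Algebra R S]

/-- A derivation maps the square of an ideal into the ideal. -/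
lemma derivation_mem_of_mem_sq (D : Derivation R S S) (J : Ideal S) {x : S} (hx : x ∈ J ^ 2) :
    D x ∈ J := by
  rw [pow_two] at hx
  refine Submodule.mul_induction_on hx ?_ ?_
  · intro a ha b hb
    rw [D.leibniz, smul_eq_mul, smul_eq_mul]
    exact J.add_mem (J.mul_mem_right _ ha) (J.mul_mem_right _ hb)
  · intro a b ha hb
    rw [map_add]
    exact J.add_mem ha hb

/-- From invertibility of `e G e + (1 - e)` get a matrix `W` with `e W G e = e`. -/
lemma exists_W {n : ℕ} (e G : Matrix (Fin n) (Fin n) S) (he : e * e = e)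
    (hT : IsUnit (e * G * e + (1 - e)).det) :
    ∃ W : Matrix (Fin n) (Fin n) S, e * W * G * e = e := by
  set T := e * G * e + (1 - e) with hTdef
  have h1e : (1 - e) * e = 0 := by rw [sub_mul, one_mul, he, sub_self]
  have he1 : e * (1 - e) = 0 := by rw [mul_sub, mul_one, he, sub_self]
  have hTe : T * e = e * G * e := by
    rw [hTdef, add_mul, h1e, add_zero, Matrix.mul_assoc (e * G) e e, he]
  have heT : e * T = e * G * e := by
    rw [hTdef, mul_add, he1, add_zero, ← Matrix.mul_assoc, ← Matrix.mul_assoc, he]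
  have hinv1 : T⁻¹ * T = 1 := Matrix.nonsing_inv_mul T hT
  have hinv2 : T * T⁻¹ = 1 := Matrix.mul_nonsing_inv T hT
  have hcomm : e * T⁻¹ = T⁻¹ * e := by
    calc e * T⁻¹ = (T⁻¹ * T) * (e * T⁻¹) := by rw [hinv1, Matrix.one_mul]
      _ = T⁻¹ * (T * e) * T⁻¹ := by simp only [Matrix.mul_assoc]
      _ = T⁻¹ * (e * T) * T⁻¹ := by rw [hTe, heT]
      _ = T⁻¹ * e * (T * T⁻¹) := by simp only [Matrix.mul_assoc]
      _ = T⁻¹ * e := by rw [hinv2, Matrix.mul_one]
  refine ⟨T⁻¹, ?_⟩
  calc e * T⁻¹ * G * e = T⁻¹ * (e * G * e) := by rw [hcomm]; simp only [Matrix.mul_assoc]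
    _ = T⁻¹ * (T * e) := by rw [hTe]
    _ = e := by rw [← Matrix.mul_assoc, hinv1, Matrix.one_mul]

/-- The global Jacobian criterion, idempotent form. -/
theorem formallySmooth_quotient {n : ℕ} [Algebra.FormallySmooth R S]
    (nab : Fin n → Derivation R S S) (e W : Matrix (Fin n) (Fin n) S) (a : Fin n → S)
    (hae : Matrix.vecMul a e = a)
    (hW : e * W * (Matrix.of fun i j => nab i (a j)) * e = e) :
    Algebra.FormallySmooth R (S ⧸ Ideal.span (Set.range a)) := by
  classical
  set 𝔞 : Ideal S := Ideal.span (Set.range a) with h𝔞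
  set G : Matrix (Fin n) (Fin n) S := Matrix.of fun i j => nab i (a j) with hG
  have ha_mem : ∀ j, a j ∈ 𝔞 := fun j => Ideal.subset_span ⟨j, rfl⟩
  have haj : ∀ j, a j = ∑ l, a l * e l j := by
    intro j
    have := congrFun hae j
    rw [← this]
    rfl
  -- `G = G e + Δ`
  set Δ : Matrix (Fin n) (Fin n) S := Matrix.of fun i j => ∑ l, a l * nab i (e l j) with hΔ
  have hΔmem : ∀ i j, Δ i j ∈ 𝔞 := by
    intro i j
    show ∑ l, a l * nab i (e l j) ∈ 𝔞
    exact Ideal.sum_mem _ fun l _ => Ideal.mul_mem_right _ _ (ha_mem l)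
  have hGe : G = G * e + Δ := by
    ext i j
    show nab i (a j) = (G * e) i j + Δ i j
    have h1 : nab i (a j) = nab i (∑ l, a l * e l j) := congrArg (nab i) (haj j)
    rw [h1, map_sum, Matrix.mul_apply]
    show _ = ∑ l, G i l * e l j + ∑ l, a l * nab i (e l j)
    rw [← Finset.sum_add_distrib]
    refine Finset.sum_congr rfl fun l _ => ?_
    rw [(nab i).leibniz, smul_eq_mul, smul_eq_mul]
    show a l * nab i (e l j) + e l j * nab i (a l) = nab i (a l) * e l j + a l * nab i (e l j)
    ring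
  -- the function `τ`
  let τ : S → S := fun x => ∑ m, ∑ i, a m * W m i * nab i x
  have hτ_mem : ∀ x, τ x ∈ 𝔞 := fun x =>
    Ideal.sum_mem _ fun m _ => Ideal.sum_mem _ fun i _ => by
      rw [mul_assoc]; exact Ideal.mul_mem_right _ _ (ha_mem m)
  have hτ_add : ∀ x y, τ (x + y) = τ x + τ y := by
    intro x y
    simp only [τ, map_add, mul_add, Finset.sum_add_distrib]
  have hτ_mul : ∀ x y, τ (x * y) = x * τ y + y * τ x := by
    intro x y
    simp only [τ, Finset.mul_sum, ← Finset.sum_add_distrib]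
    refine Finset.sum_congr rfl fun m _ => Finset.sum_congr rfl fun i _ => ?_
    rw [(nab i).leibniz, smul_eq_mul, smul_eq_mul]
    ring
  have hτ_alg : ∀ r : R, τ (algebraMap R S r) = 0 := by
    intro r
    simp only [τ, Derivation.map_algebraMap, mul_zero, Finset.sum_const_zero]
  have hτ_a : ∀ j, τ (a j) = Matrix.vecMul a (W * G) j := by
    intro j
    show ∑ m, ∑ i, a m * W m i * nab i (a j) = ∑ m, a m * (W * G) m j
    refine Finset.sum_congr rfl fun m _ => ?_
    rw [Matrix.mul_apply, Finset.mul_sum]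
    refine Finset.sum_congr rfl fun i _ => ?_
    show a m * W m i * nab i (a j) = a m * (W m i * G i j)
    rw [mul_assoc]; rfl
  -- key identity
  have hkey : Matrix.vecMul a (W * G) = a + Matrix.vecMul a (e * W * Δ) := by
    have h1 : Matrix.vecMul a (W * G) = Matrix.vecMul a (e * (W * G)) := by
      rw [← Matrix.vecMul_vecMul a e (W * G), hae]
    have h2 : e * (W * G) = e + e * W * Δ := by
      have : e * (W * G) = e * W * (G * e + Δ) := by rw [← hGe, Matrix.mul_assoc]
      rw [this, Matrix.mul_add, ← Matrix.mul_assoc, hW]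
    rw [h1, h2, Matrix.vecMul_add, hae]
  have hsq : ∀ j, a j - τ (a j) ∈ 𝔞 ^ 2 := by
    intro j
    rw [hτ_a, hkey, Pi.add_apply, sub_add_cancel_left, neg_mem_iff, pow_two]
    show ∑ m, a m * (e * W * Δ) m j ∈ 𝔞 * 𝔞
    refine Ideal.sum_mem _ fun m _ => Ideal.mul_mem_mul (ha_mem m) ?_
    rw [Matrix.mul_apply]
    exact Ideal.sum_mem _ fun i _ => Ideal.mul_mem_left _ _ (hΔmem i j)
  -- the section
  let f : S →ₐ[R] S ⧸ 𝔞 := Ideal.Quotient.mkₐ R 𝔞
  have hK : RingHom.ker f.toRingHom = 𝔞 := Ideal.mk_ker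
  set K : Ideal S := RingHom.ker f.toRingHom with hKdef
  let σ : S →ₐ[R] S ⧸ K ^ 2 :=
    { toFun := fun x => Ideal.Quotient.mk (K ^ 2) (x - τ x)
      map_one' := by
        have : τ 1 = 0 := by
          have := hτ_alg 1
          rwa [map_one] at this
        rw [this, sub_zero, map_one]
      map_mul' := fun x y => by
        rw [← map_mul, Ideal.Quotient.eq]
        have : x * y - τ (x * y) - (x - τ x) * (y - τ y) = -(τ x * τ y) := by
          rw [hτ_mul]; ring
        rw [this, neg_mem_iff, pow_two, hK]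
        exact Ideal.mul_mem_mul (hτ_mem x) (hτ_mem y)
      map_zero' := by
        have : τ 0 = 0 := by
          have := hτ_alg 0
          rwa [map_zero] at this
        rw [this, sub_zero, map_zero]
      map_add' := fun x y => by
        rw [← map_add, hτ_add]
        congr 1
        ring
      commutes' := fun r => by
        rw [hτ_alg, sub_zero]
        rfl }
  have hσ_apply : ∀ x, σ x = Ideal.Quotient.mk (K ^ 2) (x - τ x) := fun x => rfl
  have hσ_zero : ∀ x ∈ 𝔞, σ x = 0 := by
    intro x hx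
    have hle : 𝔞 ≤ RingHom.ker σ.toRingHom := by
      rw [h𝔞, Ideal.span_le]
      rintro _ ⟨j, rfl⟩
      show σ (a j) = 0
      rw [hσ_apply, Ideal.Quotient.eq_zero_iff_mem, hK]
      exact hsq j
    exact hle hx
  let g : S ⧸ 𝔞 →ₐ[R] S ⧸ K ^ 2 := Ideal.Quotient.liftₐ 𝔞 σ hσ_zero
  refine Algebra.FormallySmooth.of_split f g ?_
  apply Ideal.Quotient.algHom_ext
  ext x
  show f.kerSquareLift (g (Ideal.Quotient.mk 𝔞 x)) = Ideal.Quotient.mk 𝔞 x
  have h1 : g (Ideal.Quotient.mk 𝔞 x) = σ x := Ideal.Quotient.liftₐ_apply 𝔞 σ hσ_zero _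
  rw [h1, hσ_apply]
  show f (x - τ x) = Ideal.Quotient.mk 𝔞 x
  show Ideal.Quotient.mk 𝔞 (x - τ x) = Ideal.Quotient.mk 𝔞 x
  rw [Ideal.Quotient.eq, sub_sub_cancel_left, neg_mem_iff]
  exact hτ_mem x

end Groth.Agent.Lib.Helper27.SmoothLiftA
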