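import Mathlib

/-!
# Partial derivatives on formally étale algebras over polynomial rings (helper27)
-/

set_option autoImplicit false
universe u

namespace Groth.Agent.Lib.Helper27.SmoothLiftB

open TensorProduct KaehlerDifferential

variable {R : Type*} [CommRing R] {n : ℕ}


section Exist

variable (S : Type*) [CommRing S] [Algebra R S] [Algebra (MvPolynomial (Fin n) R) S] [IsScalarTower R (MvPolynomial (Fin n) R) S]
  [Algebra.FormallyEtale (MvPolynomial (Fin n) R) S]

/-- Extension of the partial derivatives to a formally étale algebra. -/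
theorem exists_derivations :
    ∃ nab : Fin n → Derivation R S S,
      ∀ (i : Fin n) (p : (MvPolynomial (Fin n) R)), nab i (algebraMap (MvPolynomial (Fin n) R) S p) = algebraMap (MvPolynomial (Fin n) R) S (MvPolynomial.pderiv i p) := by
  classical
  let E := tensorKaehlerEquivOfFormallyEtale R (MvPolynomial (Fin n) R) S
  let φ : Fin n → (Ω[(MvPolynomial (Fin n) R)⁄R] →ₗ[(MvPolynomial (Fin n) R)] (MvPolynomial (Fin n) R)) := fun i => (MvPolynomial.pderiv i).liftKaehlerDifferential
  let ψ : Fin n → (S ⊗[(MvPolynomial (Fin n) R)] Ω[(MvPolynomial (Fin n) R)⁄R] →ₗ[S] S) := fun i =>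
    LinearMap.liftBaseChange S ((Algebra.linearMap (MvPolynomial (Fin n) R) S) ∘ₗ φ i)
  let lam : Fin n → (Ω[S⁄R] →ₗ[S] S) := fun i => ψ i ∘ₗ E.symm.toLinearMap
  refine ⟨fun i => (lam i).compDer (KaehlerDifferential.D R S), fun i p => ?_⟩
  show ψ i (E.symm (KaehlerDifferential.D R S (algebraMap (MvPolynomial (Fin n) R) S p))) = _
  rw [tensorKaehlerEquivOfFormallyEtale_symm_D_algebraMap]
  show LinearMap.liftBaseChange S ((Algebra.linearMap (MvPolynomial (Fin n) R) S) ∘ₗ φ i) (1 ⊗ₜ D R (MvPolynomial (Fin n) R) p) = _
  rw [LinearMap.liftBaseChange_tmul, one_smul]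
  show algebraMap (MvPolynomial (Fin n) R) S (φ i (D R (MvPolynomial (Fin n) R) p)) = _
  congr 1
  exact Derivation.liftKaehlerDifferential_comp_D _ p

end Exist

section Unique

variable {S : Type*} [CommRing S] [Algebra R S] [Algebra (MvPolynomial (Fin n) R) S] [IsScalarTower R (MvPolynomial (Fin n) R) S]
  [Algebra.FormallyEtale (MvPolynomial (Fin n) R) S]

/-- A derivation of a formally étale `(MvPolynomial (Fin n) R)`-algebra is determined by its values on `(MvPolynomial (Fin n) R)`. -/
theorem derivation_ext {M : Type*} [AddCommGroup M] [Module R M] [Module S M]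
    [IsScalarTower R S M] (D₁ D₂ : Derivation R S M)
    (h : ∀ p : (MvPolynomial (Fin n) R), D₁ (algebraMap (MvPolynomial (Fin n) R) S p) = D₂ (algebraMap (MvPolynomial (Fin n) R) S p)) : D₁ = D₂ := by
  classical
  let E := tensorKaehlerEquivOfFormallyEtale R (MvPolynomial (Fin n) R) S
  have hlift : D₁.liftKaehlerDifferential = D₂.liftKaehlerDifferential := by
    have key : ∀ t, D₁.liftKaehlerDifferential (E t) = D₂.liftKaehlerDifferential (E t) := by
      intro t
      induction t using TensorProduct.induction_on with
      | zero => simp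
      | tmul s ω =>
        have hω : ω ∈ Submodule.span (MvPolynomial (Fin n) R)
            (Set.range (D R (MvPolynomial (Fin n) R))) := by
          rw [KaehlerDifferential.span_range_derivation]; trivial
        revert s
        induction hω using Submodule.span_induction with
        | mem x hx =>
          obtain ⟨p, rfl⟩ := hx
          intro s
          have hE : E (s ⊗ₜ D R (MvPolynomial (Fin n) R) p)
              = s • D R S (algebraMap (MvPolynomial (Fin n) R) S p) := by
            show mapBaseChange R (MvPolynomial (Fin n) R) S (s ⊗ₜ D R (MvPolynomial (Fin n) R) p) = _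
            rw [mapBaseChange_tmul, map_D]
          rw [hE, map_smul, map_smul, Derivation.liftKaehlerDifferential_comp_D,
            Derivation.liftKaehlerDifferential_comp_D, h]
        | zero => intro s; simp
        | add x y _ _ hx hy =>
          intro s
          rw [TensorProduct.tmul_add, map_add, map_add, map_add, hx, hy]
        | smul c x _ hx =>
          intro s
          rw [← TensorProduct.smul_tmul]
          exact hx (c • s)
      | add x y hx hy => rw [map_add, map_add, map_add, hx, hy]
    apply LinearMap.ext
    intro ω
    obtain ⟨t, rfl⟩ := E.surjective ω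
    exact key t
  apply Derivation.ext
  intro x
  rw [← Derivation.liftKaehlerDifferential_comp_D D₁ x,
    ← Derivation.liftKaehlerDifferential_comp_D D₂ x, hlift]

/-- Compatibility of extended partial derivatives along a map of formally étale `(MvPolynomial (Fin n) R)`-algebras. -/
theorem derivation_compat {S' : Type*} [CommRing S'] [Algebra R S'] [Algebra (MvPolynomial (Fin n) R) S']
    [IsScalarTower R (MvPolynomial (Fin n) R) S'] [Algebra S S'] [IsScalarTower (MvPolynomial (Fin n) R) S S'] [IsScalarTower R S S']
    (i : Fin n) (d : Derivation R S S) (d' : Derivation R S' S')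
    (hd : ∀ p : (MvPolynomial (Fin n) R), d (algebraMap (MvPolynomial (Fin n) R) S p) = algebraMap (MvPolynomial (Fin n) R) S (MvPolynomial.pderiv i p))
    (hd' : ∀ p : (MvPolynomial (Fin n) R), d' (algebraMap (MvPolynomial (Fin n) R) S' p) = algebraMap (MvPolynomial (Fin n) R) S' (MvPolynomial.pderiv i p)) (x : S) :
    d' (algebraMap S S' x) = algebraMap S S' (d x) := by
  let D₁ : Derivation R S S' := d'.compAlgebraMap S
  let D₂ : Derivation R S S' := (Algebra.linearMap S S').compDer d
  have : D₁ = D₂ := by
    apply derivation_ext (n := n)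
    intro p
    show d' (algebraMap S S' (algebraMap (MvPolynomial (Fin n) R) S p)) = algebraMap S S' (d (algebraMap (MvPolynomial (Fin n) R) S p))
    rw [← IsScalarTower.algebraMap_apply, hd', hd, ← IsScalarTower.algebraMap_apply]
  exact congrArg (fun D : Derivation R S S' => D x) this

end Unique

end Groth.Agent.Lib.Helper27.SmoothLiftB
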