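import Mathlib
import Groth.Agent.Lib.Helper26.NbhdDescent
import Groth.Agent.Lib.Helper26.HenselProj

/-!
# Lifting an idempotent matrix to an étale neighbourhood (helper27, after helper26's `ProjNbhd`)
-/

set_option autoImplicit false
universe u

namespace Groth.Agent.Lib.Helper27.SmoothLiftC

open Polynomial TensorProduct Groth.Agent.Lib.Helper26.PairHensConstr
  Groth.Agent.Lib.Helper26.PairHensNbhd Groth.Agent.Lib.Helper26.PairHensOps
  Groth.Agent.Lib.Helper26.HenselTFAE Groth.Agent.Lib.Helper26.HenselIdem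
  Groth.Agent.Lib.Helper26.NbhdDescent Groth.Agent.Lib.Helper26.HenselProj

/-- A matrix over `A` which is idempotent modulo `I` is congruent modulo `I` to an idempotent
matrix over some étale neighbourhood of `(A, I)`. -/
theorem exists_nbhd_idempotent {A : Type u} [CommRing A] (I : Ideal A) (n : ℕ)
    (F : Matrix (Fin n) (Fin n) A) (hF : ∀ i j, (F * F - F) i j ∈ I) :
    ∃ (N' : Type u) (_ : CommRing N') (_ : Algebra A N') (_ : Algebra.Etale A N'), QuotBij I N' ∧
      ∃ e' : Matrix (Fin n) (Fin n) N', e' * e' = e' ∧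
        ∀ i j, e' i j - algebraMap A N' (F i j) ∈ I.map (algebraMap A N') := by
  classical
  let Ebar : Matrix (Fin n) (Fin n) (A ⧸ I) := (Ideal.Quotient.mk I).mapMatrix F
  have hE : IsIdempotentElem Ebar := by
    show Ebar * Ebar = Ebar
    rw [← sub_eq_zero]
    show (Ideal.Quotient.mk I).mapMatrix F * (Ideal.Quotient.mk I).mapMatrix F
      - (Ideal.Quotient.mk I).mapMatrix F = 0
    rw [← map_mul, ← map_sub]
    ext i j
    simp only [RingHom.mapMatrix_apply, Matrix.map_apply, Matrix.zero_apply]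
    exact Ideal.Quotient.eq_zero_iff_mem.mpr (hF i j)
  let EbarH : Matrix (Fin n) (Fin n) (PH A I ⧸ I.map (algebraMap A (PH A I))) :=
    (θ I).mapMatrix Ebar
  have hEH : IsIdempotentElem EbarH := by
    show (θ I).mapMatrix Ebar * (θ I).mapMatrix Ebar = (θ I).mapMatrix Ebar
    rw [← map_mul, hE.eq]
  obtain ⟨eH, heH, heHmap⟩ := exists_idempotent_matrix _ map_le_jacobson_PH
    (liftsFactorizations_PH I) n EbarH hEH
  obtain ⟨N, _, _, _, hN, φ, hφ⟩ := exists_nbhd_finset I
    (Finset.univ.image (fun ij : Fin n × Fin n => eH ij.1 ij.2))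
  choose y hy using fun ij : Fin n × Fin n =>
    hφ (eH ij.1 ij.2) (Finset.mem_image_of_mem _ (Finset.mem_univ ij))
  let eN : Matrix (Fin n) (Fin n) N := Matrix.of (fun i j => y (i, j))
  have heN : (φ : N →+* PH A I).mapMatrix eN = eH := by
    ext i j
    simp only [RingHom.mapMatrix_apply, Matrix.map_apply, eN, Matrix.of_apply]
    exact hy (i, j)
  have hzN : ∀ x ∈ Finset.univ.image (fun ij : Fin n × Fin n => (eN * eN - eN) ij.1 ij.2),
      φ x = 0 := by
    intro x hx
    obtain ⟨ij, -, rfl⟩ := Finset.mem_image.mp hx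
    have h1 : (φ : N →+* PH A I).mapMatrix (eN * eN - eN) = 0 := by
      rw [map_sub, map_mul, heN, heH.eq, sub_self]
    have h2 := congrFun (congrFun h1 ij.1) ij.2
    simpa using h2
  obtain ⟨N', _, _, _, hN', ψ, φ', hφ'ψ, hψ⟩ := exists_nbhd_kill I hN φ _ hzN
  let e' : Matrix (Fin n) (Fin n) N' := (ψ : N →+* N').mapMatrix eN
  have he' : e' * e' = e' := by
    rw [← sub_eq_zero]
    show (ψ : N →+* N').mapMatrix eN * (ψ : N →+* N').mapMatrix eN
      - (ψ : N →+* N').mapMatrix eN = 0
    rw [← map_mul, ← map_sub]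
    ext i j
    simp only [RingHom.mapMatrix_apply, Matrix.map_apply, Matrix.zero_apply]
    exact hψ _ (Finset.mem_image_of_mem
      (fun ij : Fin n × Fin n => (eN * eN - eN) ij.1 ij.2) (Finset.mem_univ (i, j)))
  have hφ'e' : ∀ i j, φ' (e' i j) = eH i j := by
    intro i j
    have h1 : φ' (ψ (eN i j)) = φ (eN i j) := AlgHom.congr_fun hφ'ψ (eN i j)
    show φ' (ψ (eN i j)) = eH i j
    rw [h1]; exact hy (i, j)
  refine ⟨N', inferInstance, inferInstance, inferInstance, hN', e', he', fun i j => ?_⟩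
  have h1 : Ideal.Quotient.mk (I.map (algebraMap A (PH A I))) (eH i j) = θ I (Ebar i j) := by
    have := congrFun (congrFun heHmap i) j
    simpa [EbarH] using this
  have hEb : Ebar i j = Ideal.Quotient.mk I (F i j) := rfl
  rw [hEb, θ_mk, Ideal.Quotient.eq] at h1
  apply mem_map_of_map_mem I hN' φ'
  rw [map_sub, hφ'e', AlgHom.commutes]
  exact h1

end Groth.Agent.Lib.Helper27.SmoothLiftC
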