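import Mathlib
import Groth.Agent.Lib.Helper27.SmoothLiftA
import Groth.Agent.Lib.Helper27.SmoothLiftB
import Groth.Agent.Lib.Helper27.SmoothLiftC

/-!
# Lifting a presented smooth algebra along `R → R/I`: the main construction (helper27)
-/

set_option autoImplicit false
universe u

namespace Groth.Agent.Lib.Helper27.SmoothLiftE

open Groth.Agent.Lib.Helper26.PairHensNbhd Matrix

variable {R : Type u} [CommRing R] (I : Ideal R) {n : ℕ}

/-- Partial derivatives preserve the ideal of polynomials with coefficients in `I`. -/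
lemma pderiv_mem_map_C (i : Fin n) {x : MvPolynomial (Fin n) R}
    (hx : x ∈ Ideal.map (MvPolynomial.C : R →+* MvPolynomial (Fin n) R) I) :
    MvPolynomial.pderiv i x ∈ Ideal.map (MvPolynomial.C : R →+* MvPolynomial (Fin n) R) I := by
  have hker : RingHom.ker (MvPolynomial.map (σ := Fin n) (Ideal.Quotient.mk I))
      = Ideal.map MvPolynomial.C I := by
    rw [MvPolynomial.ker_map, Ideal.mk_ker]
  rw [← hker, RingHom.mem_ker] at hx ⊢
  rw [← MvPolynomial.pderiv_map, hx, map_zero]

/-- The Jacobian matrix of `k` is idempotent modulo `J₀`. -/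
lemma jac_idem (J₀ : Ideal (MvPolynomial (Fin n) R)) (k : Fin n → MvPolynomial (Fin n) R)
    (hI : Ideal.map MvPolynomial.C I ≤ J₀) (hk : ∀ l, k l ∈ J₀)
    (hstar : ∀ x ∈ J₀, x - ∑ i, MvPolynomial.pderiv i x * k i ∈
      J₀ ^ 2 ⊔ Ideal.map MvPolynomial.C I) (i m : Fin n) :
    ((Matrix.of fun i l => MvPolynomial.pderiv i (k l)) *
      (Matrix.of fun i l => MvPolynomial.pderiv i (k l)) -
      (Matrix.of fun i l => MvPolynomial.pderiv i (k l))) i m ∈ J₀ := by
  have hy := hstar (k m) (hk m)
  have hdy : MvPolynomial.pderiv i (k m - ∑ l, MvPolynomial.pderiv l (k m) * k l) ∈ J₀ := by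
    obtain ⟨u, hu, v, hv, huv⟩ := Submodule.mem_sup.mp hy
    rw [← huv, map_add]
    exact J₀.add_mem (SmoothLiftA.derivation_mem_of_mem_sq _ J₀ hu)
      (hI (pderiv_mem_map_C I i hv))
  have hcalc : MvPolynomial.pderiv i (k m - ∑ l, MvPolynomial.pderiv l (k m) * k l)
      = MvPolynomial.pderiv i (k m)
        - ∑ l, (MvPolynomial.pderiv l (k m) * MvPolynomial.pderiv i (k l)
          + k l * MvPolynomial.pderiv i (MvPolynomial.pderiv l (k m))) := by
    rw [map_sub, map_sum]
    congr 1
    refine Finset.sum_congr rfl fun l _ => ?_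
    rw [Derivation.leibniz, smul_eq_mul, smul_eq_mul]
  rw [hcalc] at hdy
  have hrest : ∑ l, k l * MvPolynomial.pderiv i (MvPolynomial.pderiv l (k m)) ∈ J₀ :=
    Ideal.sum_mem _ fun l _ => Ideal.mul_mem_right _ _ (hk l)
  have : ((Matrix.of fun i l => MvPolynomial.pderiv i (k l)) *
      (Matrix.of fun i l => MvPolynomial.pderiv i (k l)) -
      (Matrix.of fun i l => MvPolynomial.pderiv i (k l))) i m
      = -(MvPolynomial.pderiv i (k m)
        - ∑ l, (MvPolynomial.pderiv l (k m) * MvPolynomial.pderiv i (k l)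
          + k l * MvPolynomial.pderiv i (MvPolynomial.pderiv l (k m))))
        - ∑ l, k l * MvPolynomial.pderiv i (MvPolynomial.pderiv l (k m)) := by
    rw [Matrix.sub_apply, Matrix.mul_apply, Finset.sum_add_distrib]
    simp only [Matrix.of_apply]
    have : ∑ l, MvPolynomial.pderiv i (k l) * MvPolynomial.pderiv l (k m)
        = ∑ l, MvPolynomial.pderiv l (k m) * MvPolynomial.pderiv i (k l) :=
      Finset.sum_congr rfl fun l _ => mul_comm _ _
    rw [this]
    ring
  rw [this]
  exact J₀.sub_mem (J₀.neg_mem hdy) hrest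

end Groth.Agent.Lib.Helper27.SmoothLiftE
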