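import Mathlib
import Groth.Agent.Lib.Helper27.SmoothLiftE

/-!
# Lifting a presented smooth algebra along `R → R/I`: stage 2 (helper27)
-/

set_option autoImplicit false
set_option maxHeartbeats 1600000
universe u

namespace Groth.Agent.Lib.Helper27.SmoothLiftF

open Groth.Agent.Lib.Helper26.PairHensNbhd Matrix

theorem stage2 {R : Type u} [CommRing R] (I : Ideal R) (n : ℕ)
    (J₀ : Ideal (MvPolynomial (Fin n) R)) (k : Fin n → MvPolynomial (Fin n) R)
    (t : Finset (MvPolynomial (Fin n) R))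
    (hI : Ideal.map MvPolynomial.C I ≤ J₀) (hk : ∀ l, k l ∈ J₀)
    (hstar : ∀ x ∈ J₀, x - ∑ i, MvPolynomial.pderiv i x * k i ∈
      J₀ ^ 2 ⊔ Ideal.map MvPolynomial.C I)
    (hfg : J₀ = Ideal.span (t : Set (MvPolynomial (Fin n) R)) ⊔ Ideal.map MvPolynomial.C I) :
    ∃ (A : Type u) (_ : CommRing A) (_ : Algebra R A) (_ : Algebra (MvPolynomial (Fin n) R) A)
      (_ : IsScalarTower R (MvPolynomial (Fin n) R) A), Algebra.Smooth R A ∧
      (∀ x : A, ∃ p : MvPolynomial (Fin n) R,
        x - algebraMap (MvPolynomial (Fin n) R) A p ∈ I.map (algebraMap R A)) ∧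
      (∀ p : MvPolynomial (Fin n) R,
        algebraMap (MvPolynomial (Fin n) R) A p ∈ I.map (algebraMap R A) ↔ p ∈ J₀) := by
  classical
  set F : Matrix (Fin n) (Fin n) (MvPolynomial (Fin n) R) :=
    Matrix.of fun i l => MvPolynomial.pderiv i (k l) with hFdef
  have hF : ∀ i m, (F * F - F) i m ∈ J₀ := SmoothLiftE.jac_idem I J₀ k hI hk hstar
  obtain ⟨S, _, _, _, hQB, e, he, hecong⟩ := SmoothLiftC.exists_nbhd_idempotent J₀ n F hF
  letI algRS : Algebra R S := Algebra.compHom S (algebraMap R (MvPolynomial (Fin n) R))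
  haveI towerS : IsScalarTower R (MvPolynomial (Fin n) R) S :=
    IsScalarTower.of_algebraMap_eq fun r => rfl
  -- ideals of `S`
  set 𝔨 : Ideal S := J₀.map (algebraMap (MvPolynomial (Fin n) R) S) with h𝔨
  set IS : Ideal S := I.map (algebraMap R S) with hIS
  have hISmap : (Ideal.map MvPolynomial.C I).map (algebraMap (MvPolynomial (Fin n) R) S) = IS := by
    rw [Ideal.map_map, hIS, IsScalarTower.algebraMap_eq R (MvPolynomial (Fin n) R) S,
      MvPolynomial.algebraMap_eq]
  have hIS𝔨 : IS ≤ 𝔨 := by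
    rw [← hISmap]
    exact Ideal.map_mono hI
  obtain ⟨nab, hnab⟩ := SmoothLiftB.exists_derivations (R := R) (n := n) S
  set κ : Fin n → S := fun l => algebraMap (MvPolynomial (Fin n) R) S (k l) with hκdef
  have hκ : ∀ l, κ l ∈ 𝔨 := fun l => Ideal.mem_map_of_mem _ (hk l)
  set a : Fin n → S := Matrix.vecMul κ e with hadef
  have ha_apply : ∀ m, a m = ∑ l, κ l * e l m := fun m => rfl
  have hae : Matrix.vecMul a e = a := by
    rw [hadef, Matrix.vecMul_vecMul, he]
  have ha𝔨 : ∀ m, a m ∈ 𝔨 := fun m => by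
    rw [ha_apply]
    exact Ideal.sum_mem _ fun l _ => Ideal.mul_mem_right _ _ (hκ l)
  set G : Matrix (Fin n) (Fin n) S := Matrix.of fun i j => nab i (a j) with hGdef
  have hGe : ∀ i m, G i m - e i m ∈ 𝔨 := by
    intro i m
    have h1 : G i m = ∑ l, (κ l * nab i (e l m)
        + e l m * algebraMap (MvPolynomial (Fin n) R) S (F i l)) := by
      show nab i (a m) = _
      rw [ha_apply, map_sum]
      refine Finset.sum_congr rfl fun l _ => ?_
      rw [Derivation.leibniz, smul_eq_mul, smul_eq_mul, hκdef]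
      show _ + e l m * nab i (algebraMap (MvPolynomial (Fin n) R) S (k l)) = _
      rw [hnab]
      rfl
    have h2 : e i m = ∑ l, e i l * e l m := by
      conv_lhs => rw [← he]
      rw [Matrix.mul_apply]
    rw [h1, h2, ← Finset.sum_sub_distrib]
    refine Ideal.sum_mem _ fun l _ => ?_
    have : κ l * nab i (e l m) + e l m * algebraMap (MvPolynomial (Fin n) R) S (F i l)
        - e i l * e l m = κ l * nab i (e l m)
        - e l m * (e i l - algebraMap (MvPolynomial (Fin n) R) S (F i l)) := by ring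
    rw [this]
    exact 𝔨.sub_mem (Ideal.mul_mem_right _ _ (hκ l)) (Ideal.mul_mem_left _ _ (hecong i l))
  set T : Matrix (Fin n) (Fin n) S := e * G * e + (1 - e) with hTdef
  set h : S := T.det with hhdef
  have hh : h - 1 ∈ 𝔨 := by
    rw [← Ideal.Quotient.eq, map_one, hhdef, RingHom.map_det]
    have hqG : (Ideal.Quotient.mk 𝔨).mapMatrix G = (Ideal.Quotient.mk 𝔨).mapMatrix e := by
      ext i m
      simp only [RingHom.mapMatrix_apply, Matrix.map_apply]
      exact Ideal.Quotient.eq.mpr (hGe i m)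
    have hqe : (Ideal.Quotient.mk 𝔨).mapMatrix e * (Ideal.Quotient.mk 𝔨).mapMatrix e
        = (Ideal.Quotient.mk 𝔨).mapMatrix e := by rw [← map_mul, he]
    have : (Ideal.Quotient.mk 𝔨).mapMatrix T = 1 := by
      rw [hTdef, map_add, map_sub, map_mul, map_mul, map_one, hqG, hqe, hqe]
      abel
    rw [this, Matrix.det_one]
  -- the ideal `𝔞`
  set 𝔞 : Ideal S := Ideal.span (Set.range a) with h𝔞
  have h𝔞𝔨 : 𝔞 ≤ 𝔨 := by
    rw [h𝔞, Ideal.span_le]
    rintro _ ⟨m, rfl⟩
    exact ha𝔨 m
  have ha𝔞 : ∀ m, a m ∈ 𝔞 := fun m => Ideal.subset_span ⟨m, rfl⟩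
  have halgJ : ∀ x ∈ J₀ ^ 2 ⊔ Ideal.map MvPolynomial.C I,
      algebraMap (MvPolynomial (Fin n) R) S x ∈ 𝔨 ^ 2 ⊔ IS := by
    intro x hx
    have := Ideal.mem_map_of_mem (algebraMap (MvPolynomial (Fin n) R) S) hx
    rwa [Ideal.map_sup, Ideal.map_pow, hISmap] at this
  have ham : ∀ m, a m - κ m ∈ 𝔨 ^ 2 ⊔ IS := by
    intro m
    have h1 : a m - κ m = ∑ l, κ l * (e l m - algebraMap (MvPolynomial (Fin n) R) S (F l m))
        - algebraMap (MvPolynomial (Fin n) R) S
          (k m - ∑ l, MvPolynomial.pderiv l (k m) * k l) := by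
      rw [ha_apply, map_sub, map_sum]
      simp only [mul_sub, Finset.sum_sub_distrib, map_mul]
      have : ∑ l, κ l * algebraMap (MvPolynomial (Fin n) R) S (F l m)
          = ∑ l, algebraMap (MvPolynomial (Fin n) R) S (MvPolynomial.pderiv l (k m)) *
            algebraMap (MvPolynomial (Fin n) R) S (k l) :=
        Finset.sum_congr rfl fun l _ => mul_comm _ _
      rw [this]
      ring
    rw [h1]
    refine Ideal.sub_mem _ ?_ (halgJ _ (hstar (k m) (hk m)))
    refine Ideal.sum_mem _ fun l _ => ?_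
    apply Ideal.mem_sup_left
    rw [pow_two]
    exact Ideal.mul_mem_mul (hκ l) (hecong l m)
  have hsub : 𝔨 ≤ 𝔞 ⊔ IS ⊔ 𝔨 ^ 2 := by
    rw [h𝔨, Ideal.map_le_iff_le_comap]
    intro x hx
    rw [Ideal.mem_comap]
    have hκmem : ∀ i, κ i ∈ 𝔞 ⊔ IS ⊔ 𝔨 ^ 2 := by
      intro i
      have h1 : κ i = a i - (a i - κ i) := by ring
      rw [h1]
      refine Ideal.sub_mem _ (Ideal.mem_sup_left (Ideal.mem_sup_left (ha𝔞 i))) ?_
      have := ham i
      rw [sup_comm] at this
      exact (sup_le_sup_right le_sup_right _ : IS ⊔ 𝔨 ^ 2 ≤ 𝔞 ⊔ IS ⊔ 𝔨 ^ 2) this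
    have h2 : algebraMap (MvPolynomial (Fin n) R) S x
        = algebraMap (MvPolynomial (Fin n) R) S (x - ∑ i, MvPolynomial.pderiv i x * k i)
          + ∑ i, algebraMap (MvPolynomial (Fin n) R) S (MvPolynomial.pderiv i x) * κ i := by
      rw [map_sub, map_sum]
      simp only [map_mul]
      ring
    rw [h2]
    refine Ideal.add_mem _ ?_ (Ideal.sum_mem _ fun i _ => Ideal.mul_mem_left _ _ (hκmem i))
    have := halgJ _ (hstar x hx)
    rw [sup_comm] at this
    exact (sup_le_sup_right le_sup_right _ : IS ⊔ 𝔨 ^ 2 ≤ 𝔞 ⊔ IS ⊔ 𝔨 ^ 2) this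
  -- Nakayama
  obtain ⟨g, hg1, hg⟩ : ∃ g : S, g - 1 ∈ 𝔨 ∧ ∀ x ∈ 𝔨, g * x ∈ 𝔞 ⊔ IS := by
    set B : Ideal S := 𝔞 ⊔ IS with hB
    let N : Submodule S (S ⧸ B) := Submodule.map B.mkQ 𝔨
    have h𝔨fg : 𝔨 = Ideal.span ((algebraMap (MvPolynomial (Fin n) R) S) '' (t : Set _)) ⊔ IS := by
      rw [h𝔨, hfg, Ideal.map_sup, Ideal.map_span, hISmap]
    have hNfg : N.FG := by
      have h1 : N = Submodule.map B.mkQ
          (Ideal.span ((algebraMap (MvPolynomial (Fin n) R) S) '' (t : Set _))) := by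
        show Submodule.map B.mkQ 𝔨 = _
        rw [h𝔨fg, Submodule.map_sup]
        have : Submodule.map B.mkQ IS = ⊥ := by
          rw [eq_bot_iff]
          exact (Submodule.map_mono (le_sup_right : IS ≤ B)).trans (Submodule.mkQ_map_self B).le
        rw [this, sup_bot_eq]
      rw [h1]
      exact Submodule.FG.map _ (Submodule.fg_span ((t.finite_toSet).image _))
    have hle : N ≤ 𝔨 • N := by
      show Submodule.map B.mkQ 𝔨 ≤ 𝔨 • Submodule.map B.mkQ 𝔨
      rw [Submodule.map_le_iff_le_comap]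
      intro x hx
      rw [Submodule.mem_comap]
      obtain ⟨b, hb, c, hc, hbc⟩ := Submodule.mem_sup.mp (hsub hx)
      have hb0 : B.mkQ b = 0 := by
        rw [Submodule.mkQ_apply, Submodule.Quotient.mk_eq_zero]; exact hb
      rw [← hbc, map_add, hb0, zero_add, ← Submodule.map_smul'']
      refine Submodule.mem_map_of_mem ?_
      rw [pow_two] at hc
      exact hc
    obtain ⟨g, hg1, hg0⟩ :=
      Submodule.exists_sub_one_mem_and_smul_eq_zero_of_fg_of_le_smul 𝔨 N hNfg hle
    refine ⟨g, hg1, fun x hx => ?_⟩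
    have := hg0 (B.mkQ x) (Submodule.mem_map_of_mem hx)
    rw [← map_smul, Submodule.mkQ_apply, Submodule.Quotient.mk_eq_zero, smul_eq_mul] at this
    exact this
  -- the étale neighbourhood `S' = S[1/(g h)]`
  obtain ⟨σ, -⟩ := hQB.exists_sigma
  have hσker : ∀ y : S, σ y = 0 → y ∈ 𝔨 := by
    intro y hy
    obtain ⟨p, hp⟩ := ((quotBij_iff J₀ S).mp hQB).1 y
    have h1 : σ (y - algebraMap (MvPolynomial (Fin n) R) S p) = 0 := sigma_eq_zero_of_mem' J₀ σ hp
    rw [map_sub, hy, zero_sub, neg_eq_zero, σ.commutes, Ideal.Quotient.algebraMap_eq,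
      Ideal.Quotient.eq_zero_iff_mem] at h1
    have h2 : y = (y - algebraMap (MvPolynomial (Fin n) R) S p)
        + algebraMap (MvPolynomial (Fin n) R) S p := by ring
    rw [h2]
    exact 𝔨.add_mem hp (Ideal.mem_map_of_mem _ h1)
  have hσu : σ (g * h) = 1 := by
    have h1 : g * h - 1 ∈ 𝔨 := by
      have : g * h - 1 = g * (h - 1) + (g - 1) := by ring
      rw [this]
      exact 𝔨.add_mem (Ideal.mul_mem_left _ _ hh) hg1
    have h2 := sigma_eq_zero_of_mem' J₀ σ h1
    rwa [map_sub, map_one, sub_eq_zero] at h2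
  have hQB' : QuotBij J₀ (Localization.Away (g * h)) :=
    quotBij_away σ g (fun y hy => Ideal.mul_mem_left _ _ (hσker y hy)) h hσu
  haveI etS' : Algebra.Etale S (Localization.Away (g * h)) :=
    Algebra.Etale.of_isLocalizationAway (g * h)
  haveI etPS' : Algebra.Etale (MvPolynomial (Fin n) R) (Localization.Away (g * h)) :=
    Algebra.Etale.comp (MvPolynomial (Fin n) R) S (Localization.Away (g * h))
  haveI fsRS' : Algebra.FormallySmooth R (Localization.Away (g * h)) :=
    Algebra.FormallySmooth.comp R (MvPolynomial (Fin n) R) (Localization.Away (g * h))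
  haveI fpPS' : Algebra.FinitePresentation (MvPolynomial (Fin n) R) (Localization.Away (g * h)) :=
    Algebra.Etale.finitePresentation
  haveI fpRS' : Algebra.FinitePresentation R (Localization.Away (g * h)) :=
    Algebra.FinitePresentation.trans R (MvPolynomial (Fin n) R) (Localization.Away (g * h))
  obtain ⟨nab', hnab'⟩ :=
    SmoothLiftB.exists_derivations (R := R) (n := n) (Localization.Away (g * h))
  have hcompat : ∀ (i : Fin n) (x : S),
      nab' i (algebraMap S (Localization.Away (g * h)) x)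
        = algebraMap S (Localization.Away (g * h)) (nab i x) := fun i x =>
    SmoothLiftB.derivation_compat (R := R) (n := n) i (nab i) (nab' i) (hnab i) (hnab' i) x
  set φ : S →+* Localization.Away (g * h) := algebraMap S (Localization.Away (g * h)) with hφdef
  set e' : Matrix (Fin n) (Fin n) (Localization.Away (g * h)) := φ.mapMatrix e with he'def
  set a' : Fin n → Localization.Away (g * h) := fun m => φ (a m) with ha'def
  have he' : e' * e' = e' := by rw [he'def, ← map_mul, he]
  have hae' : Matrix.vecMul a' e' = a' := by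
    funext j
    have := RingHom.map_vecMul φ e a j
    rw [hae] at this
    exact this.symm
  set G' : Matrix (Fin n) (Fin n) (Localization.Away (g * h)) :=
    Matrix.of fun i j => nab' i (a' j) with hG'def
  have hG' : G' = φ.mapMatrix G := by
    ext i j
    show nab' i (φ (a j)) = φ (nab i (a j))
    exact hcompat i (a j)
  have hφu : IsUnit (φ (g * h)) := IsLocalization.Away.algebraMap_isUnit (g * h)
  have hφg : IsUnit (φ g) := by
    rw [map_mul] at hφu
    exact isUnit_of_mul_isUnit_left hφu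
  have hφh : IsUnit (φ h) := by
    rw [map_mul] at hφu
    exact isUnit_of_mul_isUnit_right hφu
  have hT' : IsUnit (e' * G' * e' + (1 - e')).det := by
    have : e' * G' * e' + (1 - e') = φ.mapMatrix T := by
      rw [hTdef, map_add, map_sub, map_mul, map_mul, map_one, hG']
    rw [this, ← RingHom.map_det]
    exact hφh
  obtain ⟨W, hW⟩ := SmoothLiftA.exists_W e' G' he' hT'
  have hsmooth : Algebra.FormallySmooth R (Localization.Away (g * h) ⧸ Ideal.span (Set.range a')) :=
    SmoothLiftA.formallySmooth_quotient nab' e' W a' hae' hW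
  have hfp : Algebra.FinitePresentation R
      (Localization.Away (g * h) ⧸ Ideal.span (Set.range a')) :=
    Algebra.FinitePresentation.quotient (Submodule.fg_span (Set.finite_range a'))
  -- comparison of ideals in `S'`
  set 𝔨' : Ideal (Localization.Away (g * h)) :=
    J₀.map (algebraMap (MvPolynomial (Fin n) R) (Localization.Away (g * h))) with h𝔨'
  set IS' : Ideal (Localization.Away (g * h)) :=
    I.map (algebraMap R (Localization.Away (g * h))) with hIS'
  set 𝔞' : Ideal (Localization.Away (g * h)) := Ideal.span (Set.range a') with h𝔞'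
  have h𝔨'map : 𝔨' = 𝔨.map φ := by
    rw [h𝔨', h𝔨, Ideal.map_map, hφdef,
      ← IsScalarTower.algebraMap_eq (MvPolynomial (Fin n) R) S (Localization.Away (g * h))]
  have hIS'map : IS' = IS.map φ := by
    rw [hIS', hIS, Ideal.map_map, hφdef,
      ← IsScalarTower.algebraMap_eq R S (Localization.Away (g * h))]
  have h𝔞'map : 𝔞' = 𝔞.map φ := by
    rw [h𝔞', h𝔞, Ideal.map_span, ← Set.range_comp]
    rfl
  have hle1 : 𝔞' ⊔ IS' ≤ 𝔨' := by
    rw [h𝔞'map, hIS'map, h𝔨'map]
    exact sup_le (Ideal.map_mono h𝔞𝔨) (Ideal.map_mono hIS𝔨)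
  have hle2 : 𝔨' ≤ 𝔞' ⊔ IS' := by
    rw [h𝔨'map, Ideal.map_le_iff_le_comap]
    intro x hx
    rw [Ideal.mem_comap]
    have h1 : φ (g * x) ∈ 𝔞' ⊔ IS' := by
      rw [h𝔞'map, hIS'map, ← Ideal.map_sup]
      exact Ideal.mem_map_of_mem _ (hg x hx)
    obtain ⟨v, hv⟩ := hφg.exists_left_inv
    have h2 : φ x = v * φ (g * x) := by
      rw [map_mul, ← mul_assoc, hv, one_mul]
    rw [h2]
    exact Ideal.mul_mem_left _ _ h1
  have hIA : I.map (algebraMap R (Localization.Away (g * h) ⧸ 𝔞'))
      = IS'.map (Ideal.Quotient.mk 𝔞') := by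
    rw [hIS', Ideal.map_map]
    rfl
  refine ⟨Localization.Away (g * h) ⧸ 𝔞', inferInstance, inferInstance, inferInstance,
    inferInstance, ⟨hsmooth, hfp⟩, ?_, ?_⟩
  · intro x
    obtain ⟨s, rfl⟩ := Ideal.Quotient.mk_surjective x
    obtain ⟨p, hp⟩ := ((quotBij_iff J₀ (Localization.Away (g * h))).mp hQB').1 s
    refine ⟨p, ?_⟩
    obtain ⟨b, hb, c, hc, hbc⟩ := Submodule.mem_sup.mp (hle2 hp)
    have h1 : Ideal.Quotient.mk 𝔞' s
        - algebraMap (MvPolynomial (Fin n) R) (Localization.Away (g * h) ⧸ 𝔞') p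
        = Ideal.Quotient.mk 𝔞' c := by
      have : algebraMap (MvPolynomial (Fin n) R) (Localization.Away (g * h) ⧸ 𝔞') p
          = Ideal.Quotient.mk 𝔞'
            (algebraMap (MvPolynomial (Fin n) R) (Localization.Away (g * h)) p) := rfl
      rw [this, ← map_sub, ← hbc, map_add, Ideal.Quotient.eq_zero_iff_mem.mpr hb, zero_add]
    rw [h1, hIA]
    exact Ideal.mem_map_of_mem _ hc
  · intro p
    have hp' : algebraMap (MvPolynomial (Fin n) R) (Localization.Away (g * h) ⧸ 𝔞') p
        = Ideal.Quotient.mk 𝔞'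
          (algebraMap (MvPolynomial (Fin n) R) (Localization.Away (g * h)) p) := rfl
    constructor
    · intro hmem
      rw [hp', hIA, Ideal.mem_map_iff_of_surjective _ Ideal.Quotient.mk_surjective] at hmem
      obtain ⟨c, hc, hcp⟩ := hmem
      have h1 : algebraMap (MvPolynomial (Fin n) R) (Localization.Away (g * h)) p ∈ 𝔨' := by
        have h2 : algebraMap (MvPolynomial (Fin n) R) (Localization.Away (g * h)) p - c ∈ 𝔞' := by
          rw [← Ideal.Quotient.eq]; exact hcp.symm
        have h3 : algebraMap (MvPolynomial (Fin n) R) (Localization.Away (g * h)) p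
            = (algebraMap (MvPolynomial (Fin n) R) (Localization.Away (g * h)) p - c) + c := by
          ring
        rw [h3]
        exact hle1 (Ideal.add_mem _ (Ideal.mem_sup_left h2) (Ideal.mem_sup_right hc))
      exact ((quotBij_iff J₀ (Localization.Away (g * h))).mp hQB').2 p h1
    · intro hpJ
      have h1 : algebraMap (MvPolynomial (Fin n) R) (Localization.Away (g * h)) p ∈ 𝔨' :=
        Ideal.mem_map_of_mem _ hpJ
      obtain ⟨b, hb, c, hc, hbc⟩ := Submodule.mem_sup.mp (hle2 h1)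
      rw [hp', ← hbc, map_add, Ideal.Quotient.eq_zero_iff_mem.mpr hb, zero_add, hIA]
      exact Ideal.mem_map_of_mem _ hc

end Groth.Agent.Lib.Helper27.SmoothLiftF
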