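import Mathlib
import Groth.Agent.Lib.Helper27.SmoothLiftD
import Groth.Agent.Lib.Helper27.SmoothLiftF

/-!
# Smooth algebras lift along surjections `R → R/I` (helper27)
-/

set_option autoImplicit false
set_option maxHeartbeats 1600000
universe u

namespace Groth.Agent.Lib.Helper27.SmoothLiftG

theorem main {R A₀ : Type u} [CommRing R] (I : Ideal R) [CommRing A₀]
    [Algebra (R ⧸ I) A₀] [Algebra.Smooth (R ⧸ I) A₀] :
    ∃ (A : Type u) (_ : CommRing A) (_ : Algebra R A), Algebra.Smooth R A ∧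
      Nonempty ((A ⧸ I.map (algebraMap R A)) ≃ₐ[R ⧸ I] A₀) := by
  classical
  obtain ⟨n, fb, kb, hfb, hfgb, hkb, hstarb⟩ := SmoothLiftD.exists_data (R ⧸ I) A₀
  set red : MvPolynomial (Fin n) R →+* MvPolynomial (Fin n) (R ⧸ I) :=
    MvPolynomial.map (Ideal.Quotient.mk I) with hreddef
  have hred_surj : Function.Surjective red :=
    MvPolynomial.map_surjective _ Ideal.Quotient.mk_surjective
  have hker_red : RingHom.ker red = Ideal.map MvPolynomial.C I := by
    rw [hreddef, MvPolynomial.ker_map, Ideal.mk_ker]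
  set π : MvPolynomial (Fin n) R →+* A₀ := fb.toRingHom.comp red with hπdef
  have hπ_apply : ∀ x, π x = fb (red x) := fun x => rfl
  have hπsurj : Function.Surjective π := hfb.comp hred_surj
  set Jb : Ideal (MvPolynomial (Fin n) (R ⧸ I)) := RingHom.ker fb.toRingHom with hJb
  set J₀ : Ideal (MvPolynomial (Fin n) R) := RingHom.ker π with hJ₀
  have hJ₀comap : J₀ = Jb.comap red := by
    rw [hJ₀, hJb, RingHom.comap_ker]
  have hJbmap : Jb = J₀.map red := by
    rw [hJ₀comap, Ideal.map_comap_of_surjective red hred_surj]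
  have hmemJ₀ : ∀ x, x ∈ J₀ ↔ red x ∈ Jb := by
    intro x
    rw [hJ₀comap, Ideal.mem_comap]
  choose k hk' using fun l => hred_surj (kb l)
  have hI : Ideal.map MvPolynomial.C I ≤ J₀ := by
    rw [← hker_red]
    intro x hx
    rw [hmemJ₀, RingHom.mem_ker.mp hx]
    exact Jb.zero_mem
  have hk : ∀ l, k l ∈ J₀ := by
    intro l
    rw [hmemJ₀, hk']
    exact hkb l
  have hstar : ∀ x ∈ J₀, x - ∑ i, MvPolynomial.pderiv i x * k i ∈
      J₀ ^ 2 ⊔ Ideal.map MvPolynomial.C I := by
    intro x hx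
    have h1 := hstarb (red x) ((hmemJ₀ x).mp hx)
    have h2 : red (x - ∑ i, MvPolynomial.pderiv i x * k i)
        = red x - ∑ i, MvPolynomial.pderiv i (red x) * kb i := by
      rw [map_sub, map_sum]
      congr 1
      refine Finset.sum_congr rfl fun i _ => ?_
      rw [map_mul, hk', hreddef, MvPolynomial.pderiv_map]
    rw [← h2] at h1
    have h3 : Jb ^ 2 = (J₀ ^ 2).map red := by rw [Ideal.map_pow, ← hJbmap]
    rw [h3, Ideal.mem_map_iff_of_surjective red hred_surj] at h1
    obtain ⟨z, hz, hzy⟩ := h1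
    have h4 : x - ∑ i, MvPolynomial.pderiv i x * k i - z ∈ Ideal.map MvPolynomial.C I := by
      rw [← hker_red, RingHom.mem_ker, map_sub, hzy, sub_self]
    have h5 : x - ∑ i, MvPolynomial.pderiv i x * k i
        = z + (x - ∑ i, MvPolynomial.pderiv i x * k i - z) := by ring
    rw [h5]
    exact Ideal.add_mem _ (Ideal.mem_sup_left hz) (Ideal.mem_sup_right h4)
  obtain ⟨sb, hsb⟩ := hfgb
  set t : Finset (MvPolynomial (Fin n) R) := sb.image (Function.surjInv hred_surj) with htdef
  have hfg : J₀ = Ideal.span (t : Set (MvPolynomial (Fin n) R)) ⊔ Ideal.map MvPolynomial.C I := by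
    have h1 : (Ideal.span (t : Set (MvPolynomial (Fin n) R))).map red = Jb := by
      rw [Ideal.map_span, ← hsb]
      congr 1
      rw [htdef, Finset.coe_image, ← Set.image_comp]
      have : (red ∘ Function.surjInv hred_surj) = id := by
        funext y
        exact Function.surjInv_eq hred_surj y
      rw [this, Set.image_id]
    rw [hJ₀comap, ← h1, Ideal.comap_map_of_surjective red hred_surj, ← RingHom.ker_eq_comap_bot,
      hker_red]
  obtain ⟨A, _, _, _, _, hsm, hC1, hC2⟩ := SmoothLiftF.stage2 I n J₀ k t hI hk hstar hfg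
  refine ⟨A, inferInstance, inferInstance, hsm, ?_⟩
  set IA : Ideal A := I.map (algebraMap R A) with hIA
  let Ψ : MvPolynomial (Fin n) R →+* A ⧸ IA :=
    (Ideal.Quotient.mk IA).comp (algebraMap (MvPolynomial (Fin n) R) A)
  have hΨsurj : Function.Surjective Ψ := by
    intro z
    obtain ⟨x, rfl⟩ := Ideal.Quotient.mk_surjective z
    obtain ⟨p, hp⟩ := hC1 x
    exact ⟨p, (Ideal.Quotient.eq.mpr hp).symm⟩
  have hΨker : ∀ p, Ψ p = 0 ↔ p ∈ J₀ := by
    intro p
    show Ideal.Quotient.mk IA (algebraMap (MvPolynomial (Fin n) R) A p) = 0 ↔ _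
    rw [Ideal.Quotient.eq_zero_iff_mem]
    exact hC2 p
  have hle : RingHom.ker π ≤ RingHom.ker Ψ := fun p hp => (hΨker p).mpr hp
  let θ : A₀ →+* A ⧸ IA := RingHom.liftOfSurjective π hπsurj ⟨Ψ, hle⟩
  have hθ : ∀ p, θ (π p) = Ψ p := fun p =>
    RingHom.liftOfRightInverse_comp_apply π _ _ ⟨Ψ, hle⟩ p
  have hθbij : Function.Bijective θ := by
    constructor
    · rw [injective_iff_map_eq_zero]
      intro y hy
      obtain ⟨p, rfl⟩ := hπsurj y
      rw [hθ, hΨker] at hy
      exact hy
    · intro z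
      obtain ⟨p, rfl⟩ := hΨsurj z
      exact ⟨π p, hθ p⟩
  let θa : A₀ →ₐ[R ⧸ I] A ⧸ IA :=
    { θ with
      commutes' := fun rb => by
        obtain ⟨r, rfl⟩ := Ideal.Quotient.mk_surjective rb
        have h1 : algebraMap (R ⧸ I) A₀ (Ideal.Quotient.mk I r) = π (MvPolynomial.C r) := by
          rw [hπ_apply, hreddef, MvPolynomial.map_C]
          have := fb.commutes (Ideal.Quotient.mk I r)
          rw [MvPolynomial.algebraMap_eq] at this
          exact this.symm
        show θ (algebraMap (R ⧸ I) A₀ (Ideal.Quotient.mk I r)) = _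
        rw [h1, hθ]
        show Ideal.Quotient.mk IA (algebraMap (MvPolynomial (Fin n) R) A (MvPolynomial.C r)) = _
        rw [← MvPolynomial.algebraMap_eq, ← IsScalarTower.algebraMap_apply]
        rfl }
  exact ⟨(AlgEquiv.ofBijective θa hθbij).symm⟩

end Groth.Agent.Lib.Helper27.SmoothLiftG
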