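import Mathlib
import Groth.Agent.Lib.Helper27.SmoothLiftG
import Groth.Agent.Lib.Helper26.SmoothLift

/-!
# Helpers for the smooth variants of the Henselian finitely presented structure theorems (helper27)
-/

set_option autoImplicit false
universe u

namespace Groth.Agent.Lib.Helper27.HfpSmooth

open TensorProduct

/-- A smooth `A/I`-algebra is the reduction of a smooth `A`-algebra (projection form). -/
theorem exists_smooth_lift (A : Type u) [CommRing A] (I : Ideal A) (C : Type u) [CommRing C]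
    [Algebra (A ⧸ I) C] [Algebra.Smooth (A ⧸ I) C] [Algebra A C] [IsScalarTower A (A ⧸ I) C] :
    ∃ (B' : Type u) (_ : CommRing B') (_ : Algebra A B') (_ : Algebra.Smooth A B')
      (π : B' →ₐ[A] C), Function.Surjective π ∧ RingHom.ker π = I.map (algebraMap A B') := by
  obtain ⟨B', _, _, hsm, ⟨e⟩⟩ := SmoothLiftG.main (R := A) (A₀ := C) I
  let π : B' →ₐ[A] C :=
    { (e : (B' ⧸ I.map (algebraMap A B')) →+* C).comp (Ideal.Quotient.mk _) with
      commutes' := fun a => by
        show e (Ideal.Quotient.mk _ (algebraMap A B' a)) = algebraMap A C a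
        have h1 : Ideal.Quotient.mk (I.map (algebraMap A B')) (algebraMap A B' a)
            = algebraMap (A ⧸ I) (B' ⧸ I.map (algebraMap A B')) (Ideal.Quotient.mk I a) := rfl
        rw [h1, e.commutes, IsScalarTower.algebraMap_apply A (A ⧸ I) C]
        rfl }
  have hπ : ∀ x, π x = e (Ideal.Quotient.mk _ x) := fun x => rfl
  refine ⟨B', inferInstance, inferInstance, hsm, π, ?_, ?_⟩
  · intro c
    obtain ⟨y, hy⟩ := e.surjective c
    obtain ⟨x, rfl⟩ := Ideal.Quotient.mk_surjective y
    exact ⟨x, hy⟩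
  · ext x
    rw [RingHom.mem_ker]
    show π x = 0 ↔ _
    rw [hπ, map_eq_zero_iff e e.injective, Ideal.Quotient.eq_zero_iff_mem]

/-- Maps from a smooth `A`-algebra to `C/J'` lift to `C` when `(C, J')` is Henselian. -/
theorem exists_algHom_lift_quot_smooth {A : Type u} [CommRing A] {E : Type u} [CommRing E]
    [Algebra A E] [Algebra.Smooth A E] (C : Type u) [CommRing C] [Algebra A C] (J' : Ideal C)
    [HenselianRing C J'] (σ' : E →ₐ[A] C ⧸ J') :
    ∃ φ₀ : E →ₐ[A] C, ∀ x, Ideal.Quotient.mk J' (φ₀ x) = σ' x := by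
  let σC : C ⊗[A] E →ₐ[C] C ⧸ J' :=
    Algebra.TensorProduct.lift (Algebra.ofId C (C ⧸ J')) σ' (fun _ _ => Commute.all _ _)
  obtain ⟨τ, hτ⟩ := Groth.Agent.Lib.Helper26.SmoothLift.exists_lift_of_smooth J' (C ⊗[A] E) σC
  let φ₀ : E →ₐ[A] C := (τ.restrictScalars A).comp Algebra.TensorProduct.includeRight
  refine ⟨φ₀, fun x => ?_⟩
  have := DFunLike.congr_fun hτ ((1 : C) ⊗ₜ[A] x)
  simp only [AlgHom.comp_apply, Ideal.Quotient.mkₐ_eq_mk] at this
  show Ideal.Quotient.mk J' (τ (1 ⊗ₜ[A] x)) = _
  rw [this]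
  simp [σC]

/-- One step of the kernel estimate: flatness of the truncation pushes the kernel one power
deeper. -/
theorem mem_pow_succ_of_flat {A H B : Type*} [CommRing A] [CommRing H] [CommRing B]
    [Algebra A H] [Algebra A B] (I : Ideal A) (n : ℕ)
    [Module.Flat (A ⧸ I ^ (n + 1)) (B ⧸ (I ^ (n + 1)).map (algebraMap A B))]
    (φ : H →ₐ[A] B) (hφ : Function.Surjective φ)
    (hkerI : ∀ x : H, φ x = 0 → x ∈ I.map (algebraMap A H))
    {x : H} (hx : φ x = 0) (hxI : x ∈ (I ^ n).map (algebraMap A H)) :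
    x ∈ (I ^ (n + 1)).map (algebraMap A H) := by
  classical
  have hx' : x ∈ (I ^ n) • (⊤ : Submodule A H) := by
    rw [Ideal.smul_top_eq_map]; exact hxI
  have htop : (⊤ : Submodule A H) = Submodule.span A (Set.range (id : H → H)) := by
    rw [Set.range_id, Submodule.span_univ]
  rw [htop, Submodule.mem_ideal_smul_span_iff_exists_sum] at hx'
  obtain ⟨a, ha, hax⟩ := hx'
  have hax' : x = ∑ h ∈ a.support, a h • h := by
    rw [← hax, Finsupp.sum]; rfl
  have hsmul : ∀ (r : A) (b : B),
      (Ideal.Quotient.mk (I ^ (n + 1)) r) •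
        (Ideal.Quotient.mk ((I ^ (n + 1)).map (algebraMap A B)) b)
      = Ideal.Quotient.mk ((I ^ (n + 1)).map (algebraMap A B)) (r • b) := by
    intro r b
    rw [Algebra.smul_def, Algebra.smul_def, map_mul]
    rfl
  have hsum : ∑ i : a.support, (fun i : a.support => Ideal.Quotient.mk (I ^ (n + 1)) (a i.1)) i •
      (fun i : a.support =>
        Ideal.Quotient.mk ((I ^ (n + 1)).map (algebraMap A B)) (φ i.1)) i = 0 := by
    show ∑ i : a.support, Ideal.Quotient.mk (I ^ (n + 1)) (a i.1) •
      Ideal.Quotient.mk ((I ^ (n + 1)).map (algebraMap A B)) (φ i.1) = 0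
    simp only [hsmul]
    rw [← map_sum, Finset.sum_coe_sort a.support (fun h => a h • φ h)]
    have : φ x = ∑ h ∈ a.support, a h • φ h := by
      rw [hax', map_sum]
      simp
    rw [← this, hx, map_zero]
  obtain ⟨k, cb, yb, hy1, hy2⟩ := Module.Flat.isTrivialRelation_of_sum_smul_eq_zero
    (R := A ⧸ I ^ (n + 1)) (M := B ⧸ (I ^ (n + 1)).map (algebraMap A B)) hsum
  choose c hc using fun i j => Ideal.Quotient.mk_surjective (cb i j)
  choose y hy using fun j => Ideal.Quotient.mk_surjective (yb j)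
  choose h' hh' using fun j => hφ (y j)
  have hmapB : (I ^ (n + 1)).map (algebraMap A B)
      = ((I ^ (n + 1)).map (algebraMap A H)).map (φ : H →+* B) := by
    rw [Ideal.map_map]
    congr 1
    exact φ.comp_algebraMap.symm
  have hstep : ∀ i : a.support, ∃ z ∈ (I ^ (n + 1)).map (algebraMap A H),
      φ z = φ ((i.1 : H) - ∑ j, c i j • h' j) := by
    intro i
    have h1 : φ ((i.1 : H) - ∑ j, c i j • h' j) ∈ (I ^ (n + 1)).map (algebraMap A B) := by
      rw [← Ideal.Quotient.eq_zero_iff_mem, map_sub, map_sub, map_sum, map_sum]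
      have h2 := hy1 i
      simp only at h2
      rw [h2, sub_eq_zero]
      refine Finset.sum_congr rfl fun j _ => ?_
      rw [map_smul, hh', ← hsmul, hc, hy]
    rw [hmapB, Ideal.mem_map_iff_of_surjective (φ : H →+* B) hφ] at h1
    exact h1
  choose z hz1 hz2 using hstep
  have hw : ∀ i : a.support, (i.1 : H) - ∑ j, c i j • h' j - z i ∈ I.map (algebraMap A H) := by
    intro i
    apply hkerI
    rw [map_sub (f := φ) ((i.1 : H) - ∑ j, c i j • h' j) (z i), hz2, sub_self]
  have hcoef : ∀ j, ∑ i : a.support, a i.1 * c i j ∈ I ^ (n + 1) := by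
    intro j
    rw [← Ideal.Quotient.eq_zero_iff_mem, map_sum]
    have := hy2 j
    simp only at this
    rw [← this]
    refine Finset.sum_congr rfl fun i _ => ?_
    rw [map_mul, hc]
  have hxsum : x = ∑ j, (∑ i : a.support, a i.1 * c i j) • h' j
      + ∑ i : a.support, a i.1 • z i
      + ∑ i : a.support, a i.1 • ((i.1 : H) - ∑ j, c i j • h' j - z i) := by
    have h1 : x = ∑ i : a.support, a i.1 • (i.1 : H) := by
      rw [Finset.sum_coe_sort a.support (fun h => a h • h)]; exact hax'
    have h2 : ∑ j, (∑ i : a.support, a i.1 * c i j) • h' j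
        = ∑ i : a.support, a i.1 • ∑ j, c i j • h' j := by
      simp_rw [Finset.smul_sum, smul_smul, Finset.sum_smul]
      rw [Finset.sum_comm]
    rw [h2, h1, ← Finset.sum_add_distrib, ← Finset.sum_add_distrib]
    refine Finset.sum_congr rfl fun i _ => ?_
    rw [← smul_add, ← smul_add]
    congr 1
    abel
  rw [hxsum]
  refine Ideal.add_mem _ (Ideal.add_mem _ ?_ ?_) ?_
  · refine Ideal.sum_mem _ fun j _ => ?_
    rw [← algebraMap_smul H, smul_eq_mul]
    exact Ideal.mul_mem_right _ _ (Ideal.mem_map_of_mem _ (hcoef j))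
  · refine Ideal.sum_mem _ fun i _ => ?_
    rw [← algebraMap_smul H, smul_eq_mul]
    exact Ideal.mul_mem_left _ _ (hz1 i)
  · refine Ideal.sum_mem _ fun i _ => ?_
    rw [← algebraMap_smul H, smul_eq_mul, pow_succ, Ideal.map_mul]
    exact Ideal.mul_mem_mul (Ideal.mem_map_of_mem _ (ha i.1)) (hw i)

end Groth.Agent.Lib.Helper27.HfpSmooth
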