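import Mathlib
import Groth.Prelude.Def_Pi1

/-!
# Invariants of a subgroup are standard étale over invariants of the group

For a finite group `G` acting on a commutative ring `R`, a subgroup `H` and an element `θ` whose
stabilizer is exactly `H`, the localization of `R^H` at `g₀ = ∏_{a ≠ θ in the orbit} (θ - a)` is
étale over `R^G` (it is the standard étale algebra of the orbit polynomial).  We also construct,
for a prime `q`, an element `θ` invariant under the inertia group and moved modulo `q` by every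
other element.
-/

set_option autoImplicit false
universe u

open Polynomial

namespace Groth.Agent.Lib.Helper27.InvEt

open Classical

section Orbit

variable {G R : Type u} [Group G] [Finite G] [CommRing R] [MulSemiringAction G R]

/-- The orbit of `θ` as a finset. -/
noncomputable def orb (G : Type u) {R : Type u} [Group G] [Finite G] [CommRing R]
    [MulSemiringAction G R] (θ : R) : Finset R :=
  haveI := Fintype.ofFinite G
  Finset.univ.image (fun σ : G => σ • θ)

lemma mem_orb {θ a : R} : a ∈ orb G θ ↔ ∃ σ : G, σ • θ = a := by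
  simp [orb]

lemma self_mem_orb (θ : R) : θ ∈ orb G θ := mem_orb.mpr ⟨1, one_smul _ _⟩

lemma smul_mem_orb {θ a : R} (τ : G) (ha : a ∈ orb G θ) : τ • a ∈ orb G θ := by
  obtain ⟨σ, rfl⟩ := mem_orb.mp ha
  exact mem_orb.mpr ⟨τ * σ, mul_smul _ _ _⟩

lemma image_smul_orb (θ : R) (τ : G) : (orb G θ).image (fun a => τ • a) = orb G θ := by
  ext b
  simp only [Finset.mem_image]
  constructor
  · rintro ⟨a, ha, rfl⟩
    exact smul_mem_orb τ ha
  · intro hb
    exact ⟨τ⁻¹ • b, smul_mem_orb τ⁻¹ hb, smul_inv_smul τ b⟩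

lemma image_smul_erase (θ c : R) (τ : G) :
    ((orb G θ).erase c).image (fun a => τ • a) = (orb G θ).erase (τ • c) := by
  ext b
  simp only [Finset.mem_image, Finset.mem_erase]
  constructor
  · rintro ⟨a, ⟨hac, ha⟩, rfl⟩
    exact ⟨fun h => hac (MulAction.injective τ h), smul_mem_orb τ ha⟩
  · rintro ⟨hb, hb'⟩
    refine ⟨τ⁻¹ • b, ⟨fun h => hb ?_, smul_mem_orb τ⁻¹ hb'⟩, smul_inv_smul τ b⟩
    rw [← h, smul_inv_smul]

/-- Lagrange numerator. -/
noncomputable def Lag (G : Type u) {R : Type u} [Group G] [Finite G] [CommRing R]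
    [MulSemiringAction G R] (θ c : R) : R[X] := ∏ a ∈ (orb G θ).erase c, (X - C a)

/-- The orbit polynomial. -/
noncomputable def Pol (G : Type u) {R : Type u} [Group G] [Finite G] [CommRing R]
    [MulSemiringAction G R] (θ : R) : R[X] := ∏ a ∈ orb G θ, (X - C a)

/-- The value of the derivative of the orbit polynomial at `θ`. -/
noncomputable def g0 (G : Type u) {R : Type u} [Group G] [Finite G] [CommRing R]
    [MulSemiringAction G R] (θ : R) : R := ∏ a ∈ (orb G θ).erase θ, (θ - a)

lemma Pol_monic (θ : R) : (Pol G θ).Monic :=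
  monic_prod_of_monic _ _ (fun a _ => monic_X_sub_C a)

lemma mul_Lag {θ c : R} (hc : c ∈ orb G θ) : (X - C c) * Lag G θ c = Pol G θ :=
  Finset.mul_prod_erase (orb G θ) (fun a => X - C a) hc

lemma derivative_Pol (θ : R) : derivative (Pol G θ) = ∑ c ∈ orb G θ, Lag G θ c := by
  rw [Pol, derivative_prod_finset]
  refine Finset.sum_congr rfl fun c _ => ?_
  rw [derivative_X_sub_C, mul_one, Lag]

lemma eval_Lag_of_ne {θ c : R} (hc : c ≠ θ) : (Lag G θ c).eval θ = 0 := by
  rw [Lag, eval_prod]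
  exact Finset.prod_eq_zero (Finset.mem_erase.mpr ⟨hc.symm, self_mem_orb θ⟩) (by simp)

lemma eval_Lag_self (θ : R) : (Lag G θ θ).eval θ = g0 G θ := by
  rw [Lag, eval_prod, g0]
  refine Finset.prod_congr rfl fun a _ => ?_
  simp

lemma eval_derivative_Pol (θ : R) : (derivative (Pol G θ)).eval θ = g0 G θ := by
  rw [derivative_Pol, eval_finset_sum, Finset.sum_eq_single θ, eval_Lag_self]
  · intro c _ hc
    exact eval_Lag_of_ne hc
  · intro h
    exact absurd (self_mem_orb θ) h

lemma eval_Pol_of_mem {θ c : R} (hc : c ∈ orb G θ) : (Pol G θ).eval c = 0 := by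
  rw [Pol, eval_prod]
  exact Finset.prod_eq_zero hc (by simp)

omit [Finite G] in
lemma smul_X_sub_C (τ : G) (a : R) : τ • (X - C a : R[X]) = X - C (τ • a) := by
  rw [smul_sub, smul_X, smul_C]

omit [Finite G] in
lemma smul_prod_X_sub_C {ι : Type*} (s : Finset ι) (f : ι → R) (τ : G) :
    τ • (∏ i ∈ s, (X - C (f i)) : R[X]) = ∏ i ∈ s, (X - C (τ • f i)) := by
  rw [Finset.smul_prod']
  refine Finset.prod_congr rfl fun a _ => ?_
  rw [smul_X_sub_C]

lemma smul_Lag (θ c : R) (τ : G) : τ • Lag G θ c = Lag G θ (τ • c) := by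
  have h1 : τ • Lag G θ c = ∏ a ∈ (orb G θ).erase c, (X - C (τ • a)) := by
    rw [Lag, smul_prod_X_sub_C]
  have h2 : ∏ a ∈ (orb G θ).erase c, (X - C (τ • a) : R[X])
      = ∏ b ∈ ((orb G θ).erase c).image (fun a => τ • a), (X - C b) :=
    (Finset.prod_image (f := fun b => (X - C b : R[X])) (g := fun a => τ • a)
      (fun x _ y _ h => MulAction.injective τ h)).symm
  rw [h1, h2, image_smul_erase, Lag]

lemma smul_Pol (θ : R) (τ : G) : τ • Pol G θ = Pol G θ := by
  have h1 : τ • Pol G θ = ∏ a ∈ orb G θ, (X - C (τ • a)) := by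
    rw [Pol, smul_prod_X_sub_C]
  have h2 : ∏ a ∈ orb G θ, (X - C (τ • a) : R[X])
      = ∏ b ∈ (orb G θ).image (fun a => τ • a), (X - C b) :=
    (Finset.prod_image (f := fun b => (X - C b : R[X])) (g := fun a => τ • a)
      (fun x _ y _ h => MulAction.injective τ h)).symm
  rw [h1, h2, image_smul_orb, Pol]

lemma g0_smul (H : Subgroup G) (θ : R) (hθ : ∀ σ : G, σ ∈ H ↔ σ • θ = θ) (h : G) (hh : h ∈ H) :
    h • g0 G θ = g0 G θ := by
  have hθ' := (hθ h).mp hh
  have h1 : h • g0 G θ = ∏ a ∈ (orb G θ).erase θ, (θ - h • a) := by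
    rw [g0, Finset.smul_prod']
    refine Finset.prod_congr rfl fun a _ => ?_
    rw [smul_sub, hθ']
  have h2 : ∏ a ∈ (orb G θ).erase θ, (θ - h • a)
      = ∏ b ∈ ((orb G θ).erase θ).image (fun a => h • a), (θ - b) :=
    (Finset.prod_image (f := fun b => θ - b) (g := fun a => h • a)
      (fun x _ y _ e => MulAction.injective h e)).symm
  rw [h1, h2, image_smul_erase, hθ', g0]

lemma g0_not_mem (q : Ideal R) [q.IsPrime] (θ : R)
    (h : ∀ a ∈ orb G θ, a ≠ θ → θ - a ∉ q) : g0 G θ ∉ q := by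
  intro hmem
  rw [g0] at hmem
  obtain ⟨a, ha, ha'⟩ := Ideal.IsPrime.prod_mem_iff.mp hmem
  exact h a (Finset.mem_of_mem_erase ha) (Finset.ne_of_mem_erase ha) ha'

omit [Finite G] in
lemma exists_lift (p : R[X]) (hp : ∀ τ : G, τ • p = p) :
    ∃ p' : (FixedPoints.subring R G)[X], p'.map (FixedPoints.subring R G).subtype = p := by
  refine ⟨p.toSubring (FixedPoints.subring R G) ?_, map_toSubring _ _ _⟩
  intro c hc
  obtain ⟨n, -, rfl⟩ := mem_coeffs_iff.mp (Finset.mem_coe.mp hc)
  change ∀ τ : G, τ • p.coeff n = p.coeff n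
  intro τ
  rw [← coeff_smul, hp τ]

omit [Finite G] in
lemma coe_aeval (H : Subgroup G) (b : FixedPoints.subring R H)
    (p : (FixedPoints.subring R G)[X]) :
    ((aeval b p : FixedPoints.subring R H) : R)
      = (p.map (FixedPoints.subring R G).subtype).eval (b : R) := by
  have hcomp : (FixedPoints.subring R H).subtype.comp
      (algebraMap (FixedPoints.subring R G) (FixedPoints.subring R H))
      = (FixedPoints.subring R G).subtype := by
    ext a
    rfl
  rw [eval_map, aeval_def, ← hcomp]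
  exact hom_eval₂ p (algebraMap (FixedPoints.subring R G) (FixedPoints.subring R H))
    (FixedPoints.subring R H).subtype b

lemma dvd_of_eval_eq_zero (θ : R) (PA F : (FixedPoints.subring R G)[X])
    (hPA : PA.map (FixedPoints.subring R G).subtype = Pol G θ)
    (hF : (F.map (FixedPoints.subring R G).subtype).eval θ = 0) :
    PA ∣ derivative PA * F := by
  have hinj : Function.Injective (FixedPoints.subring R G).subtype := Subtype.coe_injective
  have hPAm : PA.Monic := monic_of_injective hinj (by rw [hPA]; exact Pol_monic θ)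
  have hsm : ∀ σ : G, σ • (F.map (FixedPoints.subring R G).subtype)
      = F.map (FixedPoints.subring R G).subtype := by
    intro σ
    rw [Polynomial.smul_eq_map R σ, Polynomial.map_map]
    congr 1
    ext a
    exact a.2 σ
  have hroot : ∀ c ∈ orb G θ, (F.map (FixedPoints.subring R G).subtype).eval c = 0 := by
    intro c hc
    obtain ⟨σ, rfl⟩ := mem_orb.mp hc
    have := smul_eval_smul R σ (F.map (FixedPoints.subring R G).subtype) θ
    rw [hsm σ, hF, smul_zero] at this
    exact this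
  have hdvdR : Pol G θ ∣ derivative (Pol G θ) * (F.map (FixedPoints.subring R G).subtype) := by
    rw [derivative_Pol, Finset.sum_mul]
    refine Finset.dvd_sum fun c hc => ?_
    obtain ⟨W, hW⟩ := dvd_iff_isRoot.mpr (hroot c hc)
    rw [hW, ← mul_assoc, mul_comm (Lag G θ c), mul_Lag hc]
    exact dvd_mul_right _ _
  rw [← modByMonic_eq_zero_iff_dvd hPAm]
  apply map_injective _ hinj
  rw [map_modByMonic _ hPAm, Polynomial.map_zero, Polynomial.map_mul, ← derivative_map, hPA,
    modByMonic_eq_zero_iff_dvd (Pol_monic θ)]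
  exact hdvdR

lemma lagrange (H : Subgroup G) (θ : R) (hθ : ∀ σ : G, σ ∈ H ↔ σ • θ = θ) (b : R)
    (hb : ∀ σ ∈ H, σ • b = b) :
    ∃ Q : (FixedPoints.subring R G)[X],
      (Q.map (FixedPoints.subring R G).subtype).eval θ = b * g0 G θ := by
  let β : R → R := fun c => if h : ∃ σ : G, σ • θ = c then h.choose • b else 0
  have hβ : ∀ σ : G, β (σ • θ) = σ • b := by
    intro σ
    have h : ∃ σ' : G, σ' • θ = σ • θ := ⟨σ, rfl⟩
    simp only [β, dif_pos h]
    have h1 : (σ⁻¹ * h.choose) • θ = θ := by rw [mul_smul, h.choose_spec, inv_smul_smul]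
    have h2 := hb _ ((hθ _).mpr h1)
    rw [mul_smul] at h2
    exact inv_smul_eq_iff.mp h2
  let QR : R[X] := ∑ c ∈ orb G θ, C (β c) * Lag G θ c
  have hQs : ∀ τ : G, τ • QR = QR := by
    intro τ
    have h1 : τ • QR = ∑ c ∈ orb G θ, C (β (τ • c)) * Lag G θ (τ • c) := by
      simp only [QR, Finset.smul_sum, smul_mul', smul_C, smul_Lag]
      refine Finset.sum_congr rfl fun c hc => ?_
      obtain ⟨σ, rfl⟩ := mem_orb.mp hc
      rw [hβ, ← mul_smul, ← mul_smul, hβ]
    have h2 : ∑ c ∈ orb G θ, C (β (τ • c)) * Lag G θ (τ • c)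
        = ∑ c' ∈ (orb G θ).image (fun a => τ • a), C (β c') * Lag G θ c' :=
      (Finset.sum_image (f := fun c' => C (β c') * Lag G θ c') (g := fun a => τ • a)
        (fun x _ y _ h => MulAction.injective τ h)).symm
    rw [h1, h2, image_smul_orb]
  obtain ⟨Q, hQ⟩ := exists_lift QR hQs
  refine ⟨Q, ?_⟩
  rw [hQ]
  simp only [QR, eval_finset_sum, eval_mul, eval_C]
  rw [Finset.sum_eq_single θ]
  · rw [eval_Lag_self]
    have : β θ = b := by
      have := hβ 1
      rwa [one_smul, one_smul] at this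
    rw [this]
  · intro c _ hc
    rw [eval_Lag_of_ne hc, mul_zero]
  · intro h
    exact absurd (self_mem_orb θ) h

/-- **Main lemma**: if the stabilizer of `θ` is `H`, then `(R^H)[1/g₀]` is étale over `R^G`. -/
theorem etale_away (H : Subgroup G) (θ : R) (hθ : ∀ σ : G, σ ∈ H ↔ σ • θ = θ)
    (g : FixedPoints.subring R H) (hg : (g : R) = g0 G θ) :
    Algebra.Etale (FixedPoints.subring R G) (Localization.Away g) := by
  obtain ⟨PA, hPA⟩ := exists_lift (Pol G θ) (smul_Pol θ)
  have hinj : Function.Injective (FixedPoints.subring R G).subtype := Subtype.coe_injective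
  have hPAm : PA.Monic := monic_of_injective hinj (by rw [hPA]; exact Pol_monic θ)
  obtain ⟨pair, hpf, hpg⟩ : ∃ pair : StandardEtalePair (FixedPoints.subring R G),
      pair.f = PA ∧ pair.g = derivative PA :=
    ⟨⟨PA, hPAm, derivative PA, ⟨1, 0, 1, by simp⟩⟩, rfl, rfl⟩
  obtain ⟨θB, hθB⟩ : ∃ θB : FixedPoints.subring R H, (θB : R) = θ :=
    ⟨⟨θ, fun h => (hθ h).mp h.2⟩, rfl⟩
  have e1 : aeval θB PA = 0 := by
    apply Subtype.ext
    rw [coe_aeval, hPA, hθB]
    exact (eval_Pol_of_mem (self_mem_orb θ)).trans (ZeroMemClass.coe_zero _).symm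
  have e2 : aeval θB (derivative PA) = g := by
    apply Subtype.ext
    rw [coe_aeval, ← derivative_map, hPA, hθB, eval_derivative_Pol, hg]
  have hx : pair.HasMap (algebraMap (FixedPoints.subring R H) (Localization.Away g) θB) := by
    refine ⟨?_, ?_⟩
    · rw [hpf, aeval_algebraMap_apply, e1, map_zero]
    · rw [hpg, aeval_algebraMap_apply, e2]
      exact IsLocalization.Away.algebraMap_isUnit g
  obtain ⟨φ, hφX⟩ : ∃ φ : pair.Ring →ₐ[FixedPoints.subring R G] Localization.Away g,
      φ pair.X = algebraMap (FixedPoints.subring R H) (Localization.Away g) θB :=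
    ⟨pair.lift _ hx, pair.lift_X _ hx⟩
  have hφp : ∀ p : (FixedPoints.subring R G)[X], φ (aeval pair.X p)
      = algebraMap (FixedPoints.subring R H) (Localization.Away g) (aeval θB p) := by
    intro p
    rw [← aeval_algHom_apply, hφX, aeval_algebraMap_apply]
  have huX : IsUnit (aeval pair.X (derivative PA)) := hpg ▸ pair.hasMap_X.2
  have hfX : aeval pair.X PA = 0 := hpf ▸ pair.hasMap_X.1
  obtain ⟨w, hw⟩ := huX.exists_left_inv
  have hφw : φ w * algebraMap (FixedPoints.subring R H) (Localization.Away g) g = 1 := by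
    have := congrArg φ hw
    rw [map_mul, map_one, hφp, e2] at this
    exact this
  have hsurj : Function.Surjective φ := by
    intro y
    obtain ⟨⟨b, ⟨_, n, rfl⟩⟩, hy⟩ := IsLocalization.surj (Submonoid.powers g) y
    dsimp only at hy
    obtain ⟨Q, hQ⟩ := lagrange H θ hθ (b : R) (fun σ hσ => b.2 ⟨σ, hσ⟩)
    have hQ' : aeval θB Q = b * g := by
      apply Subtype.ext
      rw [coe_aeval, hθB, hQ, Subring.coe_mul, hg]
    refine ⟨aeval pair.X Q * w ^ (n + 1), ?_⟩
    rw [map_mul, hφp, map_pow, hQ', map_mul]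
    have h3 : (φ w) ^ (n + 1)
        * (algebraMap (FixedPoints.subring R H) (Localization.Away g) g) ^ (n + 1) = 1 := by
      rw [← mul_pow, hφw, one_pow]
    calc algebraMap (FixedPoints.subring R H) (Localization.Away g) b
          * algebraMap (FixedPoints.subring R H) (Localization.Away g) g * φ w ^ (n + 1)
        = (y * algebraMap (FixedPoints.subring R H) (Localization.Away g) (g ^ n))
          * algebraMap (FixedPoints.subring R H) (Localization.Away g) g * φ w ^ (n + 1) := by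
            rw [hy]
      _ = y * ((φ w) ^ (n + 1)
          * (algebraMap (FixedPoints.subring R H) (Localization.Away g) g) ^ (n + 1)) := by
            rw [map_pow]; ring
      _ = y := by rw [h3, mul_one]
  have hinjφ : Function.Injective φ := by
    rw [injective_iff_map_eq_zero]
    intro e he
    let pres : StandardEtalePresentation (FixedPoints.subring R G) pair.Ring :=
      ⟨pair, pair.X, pair.hasMap_X, by
        simpa [StandardEtalePair.lift_X_left] using Function.bijective_id⟩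
    obtain ⟨F, n, hF⟩ := pres.exists_mul_aeval_x_g_pow_eq_aeval_x e
    change e * aeval pair.X pair.g ^ n = aeval pair.X F at hF
    rw [hpg] at hF
    have h1 : algebraMap (FixedPoints.subring R H) (Localization.Away g) (aeval θB F) = 0 := by
      rw [← hφp, ← hF, map_mul, he, zero_mul]
    obtain ⟨⟨_, k, rfl⟩, hk⟩ :=
      (IsLocalization.map_eq_zero_iff (Submonoid.powers g) _ _).mp h1
    dsimp only at hk
    have h2 : ((derivative PA ^ k * F).map (FixedPoints.subring R G).subtype).eval θ = 0 := by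
      have h2a : aeval θB (derivative PA ^ k * F) = 0 := by
        rw [map_mul, map_pow, e2]
        exact hk
      have h2b := congrArg Subtype.val h2a
      rw [coe_aeval, hθB] at h2b
      exact h2b.trans (ZeroMemClass.coe_zero _)
    obtain ⟨W, hW⟩ := dvd_of_eval_eq_zero θ PA _ hPA h2
    have h4 : aeval pair.X (derivative PA) ^ (k + 1) * aeval pair.X F = 0 := by
      have := congrArg (aeval pair.X) hW
      rw [map_mul, map_mul, map_pow, map_mul, hfX, zero_mul] at this
      rw [pow_succ', mul_assoc]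
      exact this
    have h5 : aeval pair.X F = 0 := (huX.pow (k + 1)).mul_right_eq_zero.mp h4
    rw [h5] at hF
    exact (huX.pow n).mul_left_eq_zero.mp hF
  exact Algebra.Etale.of_equiv (AlgEquiv.ofBijective φ ⟨hinjφ, hsurj⟩)

end Orbit


section Sep

/-- A finite group acting on a domain has an element whose stabilizer acts trivially. -/
theorem sep_domain (Γ k : Type*) [Group Γ] [Finite Γ] [CommRing k] [IsDomain k]
    [MulSemiringAction Γ k] :
    ∃ x : k, ∀ γ : Γ, γ • x = x → ∀ y : k, γ • y = y := by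
  haveI := Fintype.ofFinite Γ
  let κ := FractionRing k
  letI : MulSemiringAction Γ κ := IsFractionRing.mulSemiringAction Γ k κ
  haveI : SMulDistribClass Γ k κ := IsFractionRing.smulDistribClass Γ k κ
  have hcompat : ∀ (γ : Γ) (b : k), γ • (algebraMap k κ b) = algebraMap k κ (γ • b) :=
    fun γ b => (algebraMap.smul' γ b κ).symm
  obtain ⟨α, hα⟩ := Field.exists_primitive_element (FixedPoints.subfield Γ κ) κ
  obtain ⟨a, d, hd, had⟩ := IsFractionRing.div_surjective (A := k) α
  have hd0 : d ≠ 0 := nonZeroDivisors.ne_zero hd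
  have hdk : algebraMap k κ d ≠ 0 := (map_ne_zero_iff _ (IsFractionRing.injective k κ)).mpr hd0
  let N : k := ∏ γ : Γ, γ • d
  have hN0 : N ≠ 0 := Finset.prod_ne_zero_iff.mpr fun γ _ h => hd0 ((smul_eq_zero_iff_eq γ).mp h)
  have hNinv : ∀ γ : Γ, γ • N = N := by
    intro γ
    simp only [N, Finset.smul_prod', ← mul_smul]
    exact Fintype.prod_equiv (Equiv.mulLeft γ) _ _ (fun _ => rfl)
  let x : k := a * ∏ γ ∈ Finset.univ.erase (1 : Γ), γ • d
  have hx : algebraMap k κ x = α * algebraMap k κ N := by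
    have hN : N = d * ∏ γ ∈ Finset.univ.erase (1 : Γ), γ • d := by
      simp only [N]
      rw [← Finset.mul_prod_erase Finset.univ (fun γ : Γ => γ • d) (Finset.mem_univ 1), one_smul]
    rw [hN, ← had, map_mul, map_mul, ← mul_assoc, div_mul_cancel₀ _ hdk]
  refine ⟨x, fun γ hγ y => ?_⟩
  have hNk : algebraMap k κ N ≠ 0 := (map_ne_zero_iff _ (IsFractionRing.injective k κ)).mpr hN0
  have h1 : γ • α = α := by
    have h2 : γ • (algebraMap k κ x) = algebraMap k κ x := by rw [hcompat, hγ]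
    rw [hx, smul_mul', hcompat, hNinv] at h2
    exact mul_right_cancel₀ hNk h2
  have h3 : (⊤ : IntermediateField (FixedPoints.subfield Γ κ) κ)
      ≤ FixedBy.intermediateField (FixedPoints.subfield Γ κ) κ γ := by
    rw [← hα, IntermediateField.adjoin_simple_le_iff]
    exact h1
  have h4 : γ • (algebraMap k κ y) = algebraMap k κ y := h3 IntermediateField.mem_top
  rw [hcompat] at h4
  exact IsFractionRing.injective k κ h4

variable {Φ B : Type*} [Group Φ] [CommRing B] [MulSemiringAction Φ B]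

/-- The ring endomorphism of the quotient induced by a group element preserving the ideal. -/
noncomputable def quotHom (Q : Ideal B) (hQ : ∀ (φ : Φ) (b : B), b ∈ Q → φ • b ∈ Q) (φ : Φ) :
    B ⧸ Q →+* B ⧸ Q :=
  Ideal.Quotient.lift Q ((Ideal.Quotient.mk Q).comp (MulSemiringAction.toRingHom Φ B φ))
    (fun b hb => by
      rw [RingHom.comp_apply, MulSemiringAction.toRingHom_apply]
      exact Ideal.Quotient.eq_zero_iff_mem.mpr (hQ φ b hb))

lemma quotHom_mk (Q : Ideal B) (hQ : ∀ (φ : Φ) (b : B), b ∈ Q → φ • b ∈ Q) (φ : Φ) (b : B) :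
    quotHom Q hQ φ (Ideal.Quotient.mk Q b) = Ideal.Quotient.mk Q (φ • b) := rfl

/-- The induced action on the quotient. -/
@[reducible] noncomputable def quotAction (Q : Ideal B)
    (hQ : ∀ (φ : Φ) (b : B), b ∈ Q → φ • b ∈ Q) : MulSemiringAction Φ (B ⧸ Q) where
  smul φ x := quotHom Q hQ φ x
  one_smul x := by
    obtain ⟨b, rfl⟩ := Ideal.Quotient.mk_surjective x
    show quotHom Q hQ 1 _ = _
    rw [quotHom_mk, one_smul]
  mul_smul φ ψ x := by
    obtain ⟨b, rfl⟩ := Ideal.Quotient.mk_surjective x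
    show quotHom Q hQ (φ * ψ) _ = quotHom Q hQ φ (quotHom Q hQ ψ _)
    rw [quotHom_mk, quotHom_mk, quotHom_mk, mul_smul]
  smul_zero φ := map_zero (quotHom Q hQ φ)
  smul_add φ x y := map_add (quotHom Q hQ φ) x y
  smul_one φ := map_one (quotHom Q hQ φ)
  smul_mul φ x y := map_mul (quotHom Q hQ φ) x y

theorem sep_mod (Φ B : Type*) [Group Φ] [Finite Φ] [CommRing B] [MulSemiringAction Φ B]
    (Q : Ideal B) [Q.IsPrime] (hQ : ∀ (φ : Φ) (b : B), b ∈ Q → φ • b ∈ Q) :
    ∃ b : B, ∀ φ : Φ, φ • b - b ∈ Q → ∀ c : B, φ • c - c ∈ Q := by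
  letI := quotAction Q hQ
  obtain ⟨x, hx⟩ := sep_domain Φ (B ⧸ Q)
  obtain ⟨b, rfl⟩ := Ideal.Quotient.mk_surjective x
  refine ⟨b, fun φ h c => ?_⟩
  have h1 : φ • (Ideal.Quotient.mk Q b) = Ideal.Quotient.mk Q b := by
    show quotHom Q hQ φ _ = _
    rw [quotHom_mk]
    exact Ideal.Quotient.eq.mpr h
  have h2 := hx φ h1 (Ideal.Quotient.mk Q c)
  change quotHom Q hQ φ _ = _ at h2
  rw [quotHom_mk] at h2
  exact Ideal.Quotient.eq.mp h2

end Sep

section Theta

variable {G R : Type u} [Group G] [Finite G] [CommRing R] [MulSemiringAction G R]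
  (q : Ideal R) [q.IsPrime]

/-- The decomposition group of `q`. -/
def Ds (G : Type u) {R : Type u} [Group G] [CommRing R] [MulSemiringAction G R] (q : Ideal R) :
    Subgroup G where
  carrier := {σ | ∀ x : R, σ • x ∈ q ↔ x ∈ q}
  mul_mem' := fun {a b} ha hb x => by
    rw [mul_smul]
    exact (ha _).trans (hb x)
  one_mem' := fun x => by rw [one_smul]
  inv_mem' := fun {a} ha x => (ha (a⁻¹ • x)).symm.trans (by rw [smul_inv_smul])

omit [Finite G] [q.IsPrime] in
lemma mem_Ds {σ : G} : σ ∈ Ds G q ↔ ∀ x : R, σ • x ∈ q ↔ x ∈ q := Iff.rfl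

omit [Finite G] [q.IsPrime] in
lemma inertia_le_Ds {σ : G} (hσ : σ ∈ q.inertia G) : σ ∈ Ds G q := by
  intro x
  have h : σ • x - x ∈ q := hσ x
  constructor
  · intro h1
    have := q.sub_mem h1 h
    simpa using this
  · intro h1
    have := q.add_mem h h1
    simpa using this

omit [Finite G] [q.IsPrime] in
lemma conj_mem_inertia {σ τ : G} (hσ : σ ∈ Ds G q) (hτ : τ ∈ q.inertia G) :
    σ * τ * σ⁻¹ ∈ q.inertia G := by
  show ∀ y : R, (σ * τ * σ⁻¹) • y - y ∈ q
  intro y
  have h : τ • (σ⁻¹ • y) - σ⁻¹ • y ∈ q := hτ _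
  have h2 : σ • (τ • (σ⁻¹ • y) - σ⁻¹ • y) ∈ q := ((mem_Ds q).mp hσ _).mpr h
  rw [smul_sub, smul_inv_smul] at h2
  rw [mul_smul, mul_smul]
  exact h2

omit [q.IsPrime] in
lemma exists_of_not_mem_Ds {τ : G} (hτ : τ ∉ Ds G q) : ∃ s : R, s ∉ q ∧ τ • s ∈ q := by
  by_contra hcon
  have h1 : ∀ s : R, τ • s ∈ q → s ∈ q := fun s hs => by_contra fun h => hcon ⟨s, h, hs⟩
  have h2 : ∀ (n : ℕ) (s : R), (τ ^ n) • s ∈ q → s ∈ q := by
    intro n
    induction n with
    | zero =>
      intro s hs
      simpa using hs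
    | succ n ih =>
      intro s hs
      rw [pow_succ, mul_smul] at hs
      exact h1 s (ih _ hs)
  apply hτ
  intro x
  refine ⟨h1 x, fun hx => ?_⟩
  obtain ⟨n, hn, hn1⟩ := isOfFinOrder_iff_pow_eq_one.mp (isOfFinOrder_of_finite τ)
  apply h2 (n - 1) (τ • x)
  rw [← mul_smul, ← pow_succ, Nat.sub_add_cancel hn, hn1, one_smul]
  exact hx

lemma exists_s : ∃ s : R, (∀ δ ∈ Ds G q, δ • s = s) ∧ s ∉ q ∧ ∀ τ : G, τ ∉ Ds G q → τ • s ∈ q := by
  haveI := Fintype.ofFinite G
  choose! f hf using fun (τ : G) (hτ : τ ∉ Ds G q) => exists_of_not_mem_Ds q hτ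
  let s₀ : R := ∏ τ ∈ Finset.univ.filter (fun τ : G => τ ∉ Ds G q), f τ
  have hs₀ : s₀ ∉ q := by
    intro h
    obtain ⟨τ, hτ, hτ'⟩ := Ideal.IsPrime.prod_mem_iff.mp h
    exact (hf τ (Finset.mem_filter.mp hτ).2).1 hτ'
  have hs₀' : ∀ τ : G, τ ∉ Ds G q → τ • s₀ ∈ q := by
    intro τ hτ
    simp only [s₀, Finset.smul_prod']
    exact Ideal.IsPrime.prod_mem_iff.mpr
      ⟨τ, Finset.mem_filter.mpr ⟨Finset.mem_univ _, hτ⟩, (hf τ hτ).2⟩
  let s : R := ∏ σ ∈ Finset.univ.filter (fun σ : G => σ ∈ Ds G q), σ • s₀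
  refine ⟨s, ?_, ?_, ?_⟩
  · intro δ hδ
    simp only [s, Finset.smul_prod', ← mul_smul]
    refine Finset.prod_equiv (Equiv.mulLeft δ) ?_ ?_
    · intro σ
      simp only [Finset.mem_filter, Finset.mem_univ, true_and, Equiv.coe_mulLeft]
      exact ⟨fun h => (Ds G q).mul_mem hδ h,
        fun h => by simpa using (Ds G q).mul_mem ((Ds G q).inv_mem hδ) h⟩
    · intro σ _
      rfl
  · intro h
    obtain ⟨σ, hσ, hσ'⟩ := Ideal.IsPrime.prod_mem_iff.mp h
    exact hs₀ (((mem_Ds q).mp (Finset.mem_filter.mp hσ).2 s₀).mp hσ')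
  · intro τ hτ
    simp only [s, Finset.smul_prod', ← mul_smul]
    refine Ideal.IsPrime.prod_mem_iff.mpr
      ⟨1, Finset.mem_filter.mpr ⟨Finset.mem_univ _, (Ds G q).one_mem⟩, ?_⟩
    rw [mul_one]
    exact hs₀' τ hτ

lemma exists_inv_moved {σ : G} (hσ : σ ∈ Ds G q) (hσI : σ ∉ q.inertia G) :
    ∃ c : R, (∀ τ ∈ q.inertia G, τ • c = c) ∧ σ • c - c ∉ q := by
  haveI := Fintype.ofFinite (q.inertia G)
  by_contra hcon
  have hall : ∀ c : R, (∀ τ ∈ q.inertia G, τ • c = c) → σ • c - c ∈ q :=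
    fun c hc => by_contra fun h => hcon ⟨c, hc, h⟩
  obtain ⟨x, hx⟩ : ∃ x : R, σ • x - x ∉ q := by
    by_contra h
    exact hσI (fun x => by_contra fun hx => h ⟨x, hx⟩)
  let PI : R[X] := ∏ τ : q.inertia G, (X - C ((τ : G) • x))
  have hPIinv : ∀ τ' ∈ q.inertia G, τ' • PI = PI := by
    intro τ' hτ'
    have h1 : τ' • PI = ∏ τ : q.inertia G, (X - C (τ' • ((τ : G) • x))) := by
      simp only [PI]
      rw [smul_prod_X_sub_C]
    rw [h1]
    exact Fintype.prod_equiv (Equiv.mulLeft (⟨τ', hτ'⟩ : q.inertia G)) _ _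
      (fun τ => by
        show X - C (τ' • ((τ : G) • x)) = X - C ((((⟨τ', hτ'⟩ : q.inertia G) * τ : q.inertia G) : G) • x)
        rw [Subgroup.coe_mul, mul_smul])
  have hcoef : ∀ j : ℕ, σ • PI.coeff j - PI.coeff j ∈ q := by
    intro j
    apply hall
    intro τ hτ
    rw [← coeff_smul, hPIinv τ hτ]
  let π := Ideal.Quotient.mk q
  have hmap : (σ • PI).map π = PI.map π := by
    ext j
    rw [coeff_map, coeff_map, coeff_smul]
    exact Ideal.Quotient.eq.mpr (hcoef j)
  have hn : Fintype.card (q.inertia G) ≠ 0 := Fintype.card_ne_zero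
  have hPI1 : PI.map π = (X - C (π x)) ^ Fintype.card (q.inertia G) := by
    simp only [PI]
    rw [Polynomial.map_prod, ← Finset.card_univ, ← Finset.prod_const]
    refine Finset.prod_congr rfl fun τ _ => ?_
    rw [Polynomial.map_sub, map_X, map_C]
    congr 2
    exact Ideal.Quotient.eq.mpr (τ.2 x)
  have hPI2 : (σ • PI).map π = (X - C (π (σ • x))) ^ Fintype.card (q.inertia G) := by
    simp only [PI]
    rw [smul_prod_X_sub_C, Polynomial.map_prod, ← Finset.card_univ, ← Finset.prod_const]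
    refine Finset.prod_congr rfl fun τ _ => ?_
    rw [Polynomial.map_sub, map_X, map_C]
    congr 2
    have h1 := conj_mem_inertia q hσ τ.2 (σ • x)
    have h2 : (σ * (τ : G) * σ⁻¹) • (σ • x) = σ • ((τ : G) • x) := by
      rw [← mul_smul, ← mul_smul, inv_mul_cancel_right]
    rw [h2] at h1
    exact Ideal.Quotient.eq.mpr h1
  rw [hPI1, hPI2] at hmap
  have h3 := congrArg (eval (π x)) hmap
  rw [eval_pow, eval_pow, eval_sub, eval_sub, eval_X, eval_C, eval_C, sub_self, zero_pow hn] at h3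
  have h4 : π x - π (σ • x) = 0 := pow_eq_zero_iff hn |>.mp h3
  apply hx
  have h5 : π (σ • x) = π x := (sub_eq_zero.mp h4).symm
  exact Ideal.Quotient.eq.mp h5

lemma exists_b : ∃ b : R, (∀ τ ∈ q.inertia G, τ • b = b) ∧ b ∉ q ∧
    ∀ σ ∈ Ds G q, σ ∉ q.inertia G → σ • b - b ∉ q := by
  haveI : IsInvariantSubring (Ds G q) (FixedPoints.subring R (q.inertia G)) :=
    ⟨fun d {c} hc τ => by
      have h1 : (d : G)⁻¹ * (τ : G) * ((d : G)⁻¹)⁻¹ ∈ q.inertia G :=
        conj_mem_inertia q ((Ds G q).inv_mem d.2) τ.2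
      have h2 : ((d : G)⁻¹ * (τ : G) * ((d : G)⁻¹)⁻¹) • c = c := hc ⟨_, h1⟩
      show (τ : G) • ((d : G) • c) = (d : G) • c
      calc (τ : G) • ((d : G) • c)
          = (d : G) • (((d : G)⁻¹ * (τ : G) * ((d : G)⁻¹)⁻¹) • c) := by
            rw [← mul_smul, ← mul_smul]
            congr 1
            group
        _ = (d : G) • c := by rw [h2]⟩
  let Q : Ideal (FixedPoints.subring R (q.inertia G)) :=
    q.comap (FixedPoints.subring R (q.inertia G)).subtype
  haveI : Q.IsPrime := Ideal.comap_isPrime _ q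
  have hQ : ∀ (d : Ds G q) (c : FixedPoints.subring R (q.inertia G)), c ∈ Q → d • c ∈ Q := by
    intro d c hc
    exact ((mem_Ds q).mp d.2 _).mpr hc
  obtain ⟨b₀, hb₀⟩ := sep_mod (Ds G q) (FixedPoints.subring R (q.inertia G)) Q hQ
  by_cases hDI : ∀ σ ∈ Ds G q, σ ∈ q.inertia G
  · exact ⟨1, fun τ _ => smul_one τ,
      fun h => (inferInstance : q.IsPrime).ne_top ((Ideal.eq_top_iff_one q).mpr h),
      fun σ hσ hσI => absurd (hDI σ hσ) hσI⟩
  · have hDI' : ∃ σ ∈ Ds G q, σ ∉ q.inertia G := by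
      by_contra h
      exact hDI fun σ hσ => by_contra fun hn => h ⟨σ, hσ, hn⟩
    obtain ⟨σ₁, hσ₁, hσ₁I⟩ := hDI'
    have key : ∀ σ ∈ Ds G q, σ ∉ q.inertia G → σ • (b₀ : R) - b₀ ∉ q := by
      intro σ hσ hσI hmem
      obtain ⟨c, hc, hcq⟩ := exists_inv_moved q hσ hσI
      have := hb₀ ⟨σ, hσ⟩ hmem ⟨c, fun τ => hc τ τ.2⟩
      exact hcq this
    refine ⟨b₀, fun τ hτ => b₀.2 ⟨τ, hτ⟩, ?_, key⟩
    intro hb
    exact key σ₁ hσ₁ hσ₁I (q.sub_mem (((mem_Ds q).mp hσ₁ _).mpr hb) hb)

/-- An element invariant under the inertia group and moved modulo `q` by everything else. -/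
theorem exists_theta : ∃ θ : R, (∀ σ ∈ q.inertia G, σ • θ = θ) ∧
    ∀ σ : G, σ ∉ q.inertia G → σ • θ - θ ∉ q := by
  obtain ⟨s, hs1, hs2, hs3⟩ := exists_s (G := G) q
  obtain ⟨b, hb1, hb2, hb3⟩ := exists_b (G := G) q
  refine ⟨s * b, ?_, ?_⟩
  · intro σ hσ
    rw [smul_mul', hs1 σ (inertia_le_Ds q hσ), hb1 σ hσ]
  · intro σ hσ
    by_cases hD : σ ∈ Ds G q
    · rw [smul_mul', hs1 σ hD, ← mul_sub]
      intro h
      rcases (inferInstance : q.IsPrime).mem_or_mem h with h | h
      · exact hs2 h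
      · exact hb3 σ hD hσ h
    · intro h
      have h1 : σ • (s * b) ∈ q := by
        rw [smul_mul']
        exact q.mul_mem_right _ (hs3 σ hD)
      have h2 : s * b ∈ q := by
        have := q.sub_mem h1 h
        simpa using this
      rcases (inferInstance : q.IsPrime).mem_or_mem h2 with h | h
      · exact hs2 h
      · exact hb2 h

end Theta


section Transport

variable {G R : Type u} [Group G] [Finite G] [CommRing R] [MulSemiringAction G R]

/-- Variant of `etale_away`: localizing further is still étale. -/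
theorem etale_away_mul (H : Subgroup G) (θ : R) (hθ : ∀ σ : G, σ ∈ H ↔ σ • θ = θ)
    (g : FixedPoints.subring R H) (hg : (g : R) = g0 G θ) (t : FixedPoints.subring R H) :
    Algebra.Etale (FixedPoints.subring R G) (Localization.Away (g * t)) := by
  haveI : Algebra.Etale (FixedPoints.subring R G) (Localization.Away g) :=
    etale_away H θ hθ g hg
  haveI : Algebra.Etale (FixedPoints.subring R G)
      (Localization.Away (algebraMap (FixedPoints.subring R H) (Localization.Away g) t)) :=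
    inferInstance
  let e : Localization.Away (algebraMap (FixedPoints.subring R H) (Localization.Away g) t)
      ≃ₐ[FixedPoints.subring R H] Localization.Away (g * t) :=
    IsLocalization.algEquiv (Submonoid.powers (g * t)) _ _
  exact Algebra.Etale.of_equiv (e.restrictScalars (FixedPoints.subring R G))

/-- Étaleness transports along ring isomorphisms of base and top. -/
theorem etale_of_ringEquiv {A A₀ S S₀ : Type u} [CommRing A] [CommRing A₀] [CommRing S]
    [CommRing S₀] [Algebra A S] [Algebra A₀ S₀] [Algebra.Etale A₀ S₀] (eA : A ≃+* A₀)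
    (eS : S ≃+* S₀) (h : ∀ a, eS (algebraMap A S a) = algebraMap A₀ S₀ (eA a)) :
    Algebra.Etale A S := by
  rw [← RingHom.etale_algebraMap]
  have h0 : (algebraMap A₀ S₀).Etale := RingHom.etale_algebraMap.mpr inferInstance
  have h1 : algebraMap A S
      = (eS.symm.toRingHom.comp (algebraMap A₀ S₀)).comp eA.toRingHom := by
    ext a
    simp only [RingHom.comp_apply, RingEquiv.toRingHom_eq_coe, RingEquiv.coe_toRingHom]
    rw [← h, RingEquiv.symm_apply_apply]
  rw [h1]
  exact RingHom.Etale.respectsIso.2 _ eA (RingHom.Etale.respectsIso.1 _ eS.symm h0)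

end Transport

end Groth.Agent.Lib.Helper27.InvEt
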