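import Mathlib
import Groth.Agent.Lib.Helper27.KosH1Inv
import Groth.Agent.Lib.Helper4.CM

/-!
# Complete intersections: kernels of regular presentations
-/

set_option autoImplicit false

namespace Groth.Agent.Lib.Helper27.KosH1

universe u

open IsLocalRing RingTheory.Sequence

lemma exists_nat_dim (R : Type*) [CommRing R] [IsNoetherianRing R] [IsLocalRing R] :
    ∃ n : ℕ, ringKrullDim R = n := by
  have h1 := ringKrullDim_ne_bot (R := R)
  have h2 := ringKrullDim_ne_top (R := R)
  obtain ⟨a, ha⟩ := WithBot.ne_bot_iff_exists.mp h1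
  rw [← ha] at h2 ⊢
  have h3 : a ≠ ⊤ := fun h => h2 (by rw [h]; rfl)
  obtain ⟨n, hn⟩ := ENat.ne_top_iff_exists.mp h3
  exact ⟨n, by rw [← hn]; rfl⟩

/-- In a regular local ring, an ideal `I` with `dim R/I + μ(I) = dim R` is generated by a regular
sequence of length `μ(I)`. -/
theorem exists_regular_of_dim (R : Type u) [CommRing R] [IsRegularLocalRing R] (I : Ideal R)
    (hI : I ≠ ⊤)
    (h : ringKrullDim (R ⧸ I) + (I.spanFinrank : WithBot ℕ∞) = ringKrullDim R) :
    ∃ rs : List R, Ideal.ofList rs = I ∧ RingTheory.Sequence.IsRegular R rs ∧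
      rs.length = I.spanFinrank := by
  classical
  obtain ⟨s, hcard, hspan⟩ :=
    Submodule.FG.exists_span_finset_card_eq_spanFinrank (IsNoetherian.noetherian I)
  have hof : Ideal.ofList s.toList = I := by
    rw [Ideal.ofList, ← hspan]
    congr 1
    ext r
    simp
  have hlen : s.toList.length = I.spanFinrank := by rw [Finset.length_toList, hcard]
  have hmem : ∀ r ∈ s.toList, r ∈ maximalIdeal R := by
    intro r hr
    have : r ∈ I := by
      rw [← hof]; exact Ideal.subset_span hr
    exact le_maximalIdeal hI this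
  have hdim : Module.supportDim R (R ⧸ Ideal.ofList s.toList • (⊤ : Submodule R R)) +
      s.toList.length = Module.supportDim R R := by
    have eq : Ideal.ofList s.toList = Ideal.ofList s.toList • (⊤ : Ideal R) := by simp
    rw [Module.supportDim_self_eq_ringKrullDim, Module.supportDim_quotient_eq_ringKrullDim,
      ← ringKrullDim_eq_of_ringEquiv (Ideal.quotientEquivAlgOfEq R eq).toRingEquiv, hlen]
    rw [← hof] at h
    convert h using 3
    rw [hof]
  have hw := Groth.Agent.Lib.Helper4.cm_isWeaklyRegular_of_supportDim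
    (Groth.Agent.Lib.Helper4.RegCM.isCohenMacaulayModule_self R) s.toList hmem hdim
  exact ⟨s.toList, hof, IsRegular.of_isWeaklyRegular_of_mem_maximalIdeal R hmem hw, hlen⟩

lemma spanFinrank_ofList_le {R : Type u} [CommRing R] (rs : List R) :
    (Ideal.ofList rs).spanFinrank ≤ rs.length := by
  classical
  have h1 : {r | r ∈ rs} = (↑rs.toFinset : Set R) := by ext r; simp
  rw [Ideal.ofList, h1]
  refine (Submodule.spanFinrank_span_le_ncard_of_finite (Finset.finite_toSet _)).trans ?_
  rw [Set.ncard_coe_finset]
  exact List.toFinset_card_le rs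

/-- If `A` has a presentation `B' → A` by a regular local ring with kernel generated by a regular
sequence, then for any presentation `R → A` by a regular local ring,
`dim A + μ(ker) = dim R`. -/
theorem dim_add_spanFinrank_of_presentation (A : Type u) [CommRing A] [IsLocalRing A]
    (R B' : Type u) [CommRing R] [CommRing B'] [IsRegularLocalRing R] [IsRegularLocalRing B']
    (f : R →+* A) (hf : Function.Surjective f) (g : B' →+* A) (hg : Function.Surjective g)
    (rs' : List B') (hrs' : RingTheory.Sequence.IsRegular B' rs')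
    (hker : RingHom.ker g = Ideal.ofList rs') :
    ringKrullDim A + ((RingHom.ker f).spanFinrank : WithBot ℕ∞) = ringKrullDim R := by
  obtain ⟨d, hd⟩ := exists_nat_dim R
  obtain ⟨d', hd'⟩ := exists_nat_dim B'
  have hinv := spanFinrank_ker_add A R B' f hf g hg d d' hd hd'
  have eA : ringKrullDim (R ⧸ RingHom.ker f) = ringKrullDim A :=
    ringKrullDim_eq_of_ringEquiv (RingHom.quotientKerEquivOfSurjective hf)
  have eA' : ringKrullDim (B' ⧸ RingHom.ker g) = ringKrullDim A :=
    ringKrullDim_eq_of_ringEquiv (RingHom.quotientKerEquivOfSurjective hg)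
  have h1 : ringKrullDim R ≤ ringKrullDim (R ⧸ RingHom.ker f) + (RingHom.ker f).spanFinrank :=
    ringKrullDim_le_ringKrullDim_quotient_add_spanFinrank _ (by
      rw [ringJacobson_eq_maximalIdeal]; exact le_maximalIdeal (RingHom.ker_ne_top f))
  have h2 : ringKrullDim (B' ⧸ Ideal.ofList rs') + rs'.length = ringKrullDim B' :=
    ringKrullDim_add_length_eq_ringKrullDim_of_isRegular rs' hrs'
  have h3 : (RingHom.ker g).spanFinrank ≤ rs'.length := by
    rw [hker]; exact spanFinrank_ofList_le rs'
  have : IsNoetherianRing A := isNoetherianRing_of_surjective R A f hf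
  obtain ⟨a, ha⟩ := exists_nat_dim A
  rw [eA, ha, hd] at h1
  rw [← hker, eA', ha, hd'] at h2
  have h1' : d ≤ a + (RingHom.ker f).spanFinrank := by exact_mod_cast h1
  have h2' : a + rs'.length = d' := by exact_mod_cast h2
  have h4 : a + (RingHom.ker f).spanFinrank = d := by omega
  rw [ha, hd]
  exact_mod_cast h4

theorem exists_regular_ker_of_presentation (A : Type u) [CommRing A] [IsLocalRing A]
    (R B' : Type u) [CommRing R] [CommRing B'] [IsRegularLocalRing R] [IsRegularLocalRing B']
    (f : R →+* A) (hf : Function.Surjective f) (g : B' →+* A) (hg : Function.Surjective g)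
    (rs' : List B') (hrs' : RingTheory.Sequence.IsRegular B' rs')
    (hker : RingHom.ker g = Ideal.ofList rs') :
    ∃ rs : List R, Ideal.ofList rs = RingHom.ker f ∧ RingTheory.Sequence.IsRegular R rs := by
  have h := dim_add_spanFinrank_of_presentation A R B' f hf g hg rs' hrs' hker
  have eA : ringKrullDim (R ⧸ RingHom.ker f) = ringKrullDim A :=
    ringKrullDim_eq_of_ringEquiv (RingHom.quotientKerEquivOfSurjective hf)
  obtain ⟨rs, h1, h2, -⟩ := exists_regular_of_dim R (RingHom.ker f) (RingHom.ker_ne_top f)
    (by rw [eA]; exact h)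
  exact ⟨rs, h1, h2⟩

end Groth.Agent.Lib.Helper27.KosH1
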