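import Mathlib

/-!
# Minimal number of generators does not drop under faithfully flat extension to a local ring
-/

set_option autoImplicit false

namespace Groth.Agent.Lib.Helper27.SpanFinrankFlat

open IsLocalRing

theorem spanFinrank_le_spanFinrank_map {R S : Type*} [CommRing R] [CommRing S] [IsLocalRing S]
    [IsNoetherianRing S] [Algebra R S] [Module.FaithfullyFlat R S] (I : Ideal R) :
    I.spanFinrank ≤ (I.map (algebraMap R S)).spanFinrank := by
  classical
  let J : Ideal S := I.map (algebraMap R S)
  let _ := Ideal.Quotient.field (maximalIdeal S)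
  let w : ↥I → ↥J := fun a => ⟨algebraMap R S a.1, Ideal.mem_map_of_mem _ a.2⟩
  have hrange : Set.range (fun a : ↥I => algebraMap R S a.1) = (algebraMap R S) '' (I : Set R) := by
    ext y
    constructor
    · rintro ⟨a, rfl⟩; exact ⟨a.1, a.2, rfl⟩
    · rintro ⟨a, ha, rfl⟩; exact ⟨⟨a, ha⟩, rfl⟩
  have hw : Submodule.span S (Set.range w) = ⊤ := by
    apply Submodule.map_injective_of_injective (f := (J : Submodule S S).subtype)
      Subtype.val_injective
    rw [Submodule.map_span, Submodule.map_top, Submodule.range_subtype, ← Set.range_comp]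
    show Submodule.span S (Set.range fun a : ↥I => algebraMap R S a.1) = J
    rw [hrange]
    rfl
  let v : ↥I → ↥J ⧸ (maximalIdeal S • (⊤ : Submodule S ↥J)) :=
    fun a => Submodule.Quotient.mk (w a)
  have hv : Submodule.span (S ⧸ maximalIdeal S) (Set.range v) = ⊤ := by
    rw [← Submodule.restrictScalars_eq_top_iff S,
      Submodule.restrictScalars_span S _ Ideal.Quotient.mk_surjective]
    have : Set.range v = (Submodule.mkQ (maximalIdeal S • (⊤ : Submodule S ↥J))) '' Set.range w := by
      rw [← Set.range_comp]; rfl
    rw [this, ← Submodule.map_span, hw, Submodule.map_top, Submodule.range_mkQ]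
  obtain ⟨b, hbsub, hbspan, hbli⟩ := exists_linearIndependent (S ⧸ maximalIdeal S) (Set.range v)
  rw [hv] at hbspan
  have : Module.Finite (S ⧸ maximalIdeal S) (↥J ⧸ (maximalIdeal S • (⊤ : Submodule S ↥J))) :=
    Module.Finite.of_restrictScalars_finite S _ _
  have hbfin : b.Finite := hbli.setFinite
  let _ := hbfin.fintype
  let bas : Module.Basis ↥b (S ⧸ maximalIdeal S) (↥J ⧸ (maximalIdeal S • (⊤ : Submodule S ↥J))) :=
    Module.Basis.mk hbli (by rw [Subtype.range_coe, hbspan])
  have hcard : Fintype.card ↥b = J.spanFinrank := by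
    rw [IsLocalRing.spanFinrank_eq_finrank_quotient (J : Submodule S S) (IsNoetherian.noetherian J),
      Module.finrank_eq_card_basis bas]
  choose c hc using fun t : ↥b => hbsub t.2
  have hN : Submodule.span S (Set.range (w ∘ c)) = ⊤ := by
    rw [← IsLocalRing.map_mkQ_eq_top, Submodule.map_span, ← Set.range_comp]
    have : Set.range ((Submodule.mkQ (maximalIdeal S • (⊤ : Submodule S ↥J))) ∘ (w ∘ c)) = b := by
      ext t
      constructor
      · rintro ⟨i, rfl⟩
        show v (c i) ∈ b
        rw [hc]; exact i.2
      · intro ht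
        exact ⟨⟨t, ht⟩, hc ⟨t, ht⟩⟩
    rw [this, ← Submodule.restrictScalars_span S (S ⧸ maximalIdeal S) Ideal.Quotient.mk_surjective,
      hbspan, Submodule.restrictScalars_top]
  have hsI : Ideal.span (Set.range (fun t : ↥b => (c t).1)) ≤ I :=
    Ideal.span_le.mpr (by rintro _ ⟨t, rfl⟩; exact (c t).2)
  have hmap : (Ideal.span (Set.range (fun t : ↥b => (c t).1))).map (algebraMap R S) = J := by
    rw [Ideal.map_span]
    have h1 := congrArg (Submodule.map (J : Submodule S S).subtype) hN
    rw [Submodule.map_span, Submodule.map_top, Submodule.range_subtype, ← Set.range_comp] at h1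
    refine Eq.trans ?_ h1
    show Submodule.span S _ = Submodule.span S _
    congr 1
    rw [← Set.range_comp]
    rfl
  have hI : I = Ideal.span (Set.range (fun t : ↥b => (c t).1)) :=
    calc I = (I.map (algebraMap R S)).comap (algebraMap R S) :=
          (Ideal.comap_map_eq_self_of_faithfullyFlat (B := S) I).symm
      _ = ((Ideal.span (Set.range (fun t : ↥b => (c t).1))).map (algebraMap R S)).comap
            (algebraMap R S) := by rw [hmap]
      _ = Ideal.span (Set.range (fun t : ↥b => (c t).1)) :=
          Ideal.comap_map_eq_self_of_faithfullyFlat (B := S) _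
  calc I.spanFinrank = (Ideal.span (Set.range (fun t : ↥b => (c t).1))).spanFinrank := by
        rw [← hI]
    _ ≤ (Set.range (fun t : ↥b => (c t).1)).ncard :=
        Submodule.spanFinrank_span_le_ncard_of_finite (Set.finite_range _)
    _ ≤ Fintype.card ↥b := by
        rw [← Set.image_univ]
        exact (Set.ncard_image_le Set.finite_univ).trans
          (by rw [Set.ncard_univ, Nat.card_eq_fintype_card])
    _ = J.spanFinrank := hcard

end Groth.Agent.Lib.Helper27.SpanFinrankFlat
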