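import Mathlib
import Groth.Agent.S2166
import Groth.Agent.Lib.Helper4.CMChain
import Groth.Agent.Lib.Helper4.RegCM

/-!
# Complete intersection criterion `μ(J) ≤ ht J` in a regular local ring (helper27)
-/

set_option autoImplicit false
universe u

namespace Groth.Agent.Lib.Helper27.CILocus

open IsLocalRing

/-! ## Transport of `Pi1.IsCompleteIntersection` along ring isomorphisms -/

section transport

variable {A A' : Type u} [CommRing A] [CommRing A'] [IsLocalRing A] [IsLocalRing A']

/-- a ring isomorphism of local rings induces an isomorphism of completions. -/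
theorem nonempty_cplEquiv (e : A ≃+* A') :
    Nonempty (AdicCompletion (maximalIdeal A) A ≃+* AdicCompletion (maximalIdeal A') A') := by
  let _ : Algebra A A' := e.toRingHom.toAlgebra
  let _ : Algebra A' A := e.symm.toRingHom.toAlgebra
  have h1 : IsLocalHom (algebraMap A A') := by
    refine ⟨fun a ha => ?_⟩
    have h := ha.map e.symm.toRingHom
    have h2 : e.symm.toRingHom (algebraMap A A' a) = a := e.symm_apply_apply a
    rwa [h2] at h
  have h2 : IsLocalHom (algebraMap A' A) := by
    refine ⟨fun a ha => ?_⟩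
    have h := ha.map e.toRingHom
    have h2 : e.toRingHom (algebraMap A' A a) = a := e.apply_symm_apply a
    rwa [h2] at h
  refine ⟨RingEquiv.ofRingHom (Groth.Agent.Lib.Helper14.ComplFlat.cplMap A A')
    (Groth.Agent.Lib.Helper14.ComplFlat.cplMap A' A) ?_ ?_⟩
  · refine RingHom.ext fun x => ?_
    apply AdicCompletion.ext_evalₐ
    intro n
    rw [RingHom.comp_apply, Groth.Agent.Lib.Helper14.ComplFlat.evalₐ_cplMap,
      Groth.Agent.Lib.Helper14.ComplFlat.evalₐ_cplMap]
    obtain ⟨a, ha⟩ := Ideal.Quotient.mk_surjective (AdicCompletion.evalₐ (maximalIdeal A') n x)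
    rw [← ha, Ideal.quotientMap_mk, Ideal.quotientMap_mk, RingHom.id_apply, ← ha]
    congr 1
    exact e.apply_symm_apply a
  · refine RingHom.ext fun x => ?_
    apply AdicCompletion.ext_evalₐ
    intro n
    rw [RingHom.comp_apply, Groth.Agent.Lib.Helper14.ComplFlat.evalₐ_cplMap,
      Groth.Agent.Lib.Helper14.ComplFlat.evalₐ_cplMap]
    obtain ⟨a, ha⟩ := Ideal.Quotient.mk_surjective (AdicCompletion.evalₐ (maximalIdeal A) n x)
    rw [← ha, Ideal.quotientMap_mk, Ideal.quotientMap_mk, RingHom.id_apply, ← ha]
    congr 1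
    exact e.symm_apply_apply a

theorem isCompleteIntersection_of_ringEquiv (e : A ≃+* A')
    (h : Pi1.IsCompleteIntersection A) : Pi1.IsCompleteIntersection A' := by
  obtain ⟨B, iB, iR, rs, hmem, hreg, ⟨ε⟩⟩ := h
  obtain ⟨c⟩ := nonempty_cplEquiv e
  exact ⟨B, iB, iR, rs, hmem, hreg, ⟨c.symm.trans ε⟩⟩

end transport

/-- A regular local ring is a complete intersection. -/
theorem isCompleteIntersection_of_isRegularLocalRing (A : Type u) [CommRing A]
    [IsRegularLocalRing A] : Pi1.IsCompleteIntersection A := by
  haveI : IsRegularLocalRing (AdicCompletion (maximalIdeal A) A) :=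
    (Groth.Agent.Lib.Helper8.isRegularLocalRing_adicCompletion_iff A).1 inferInstance
  refine ⟨AdicCompletion (maximalIdeal A) A, inferInstance, inferInstance, [], by simp, ?_, ?_⟩
  · exact RingTheory.Sequence.IsRegular.nil _ _
  · have h : Ideal.span {r : AdicCompletion (maximalIdeal A) A | r ∈ ([] : List _)} = ⊥ := by
      simp
    exact ⟨(RingEquiv.quotientBot _).symm.trans (Ideal.quotEquivOfEq h.symm)⟩

end Groth.Agent.Lib.Helper27.CILocus
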