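import Mathlib
import Groth.Agent.Lib.Helper27.CILocusA

/-!
# Complete intersection criterion `μ(J) ≤ ht J` in a regular local ring (helper27)
-/

set_option autoImplicit false
universe u

namespace Groth.Agent.Lib.Helper27.CILocus

open IsLocalRing

/-- In a Noetherian local ring, the dimension of `A/J` is attained by a prime containing `J`. -/
theorem exists_prime_dim_quotient_eq {A : Type u} [CommRing A] [IsNoetherianRing A]
    [IsLocalRing A] (J : Ideal A) (hJ : J ≠ ⊤) :
    ∃ p : Ideal A, p.IsPrime ∧ J ≤ p ∧ ringKrullDim (A ⧸ p) = ringKrullDim (A ⧸ J) := by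
  haveI : Nontrivial (A ⧸ J) := Ideal.Quotient.nontrivial_iff.mpr hJ
  haveI : IsLocalRing (A ⧸ J) :=
    IsLocalRing.of_surjective' (Ideal.Quotient.mk J) Ideal.Quotient.mk_surjective
  obtain ⟨a, ha⟩ := Groth.Agent.Lib.Helper27.KosH1.exists_nat_dim (A ⧸ J)
  have h1 : ringKrullDim (A ⧸ J) =
      ((⨆ q : PrimeSpectrum (A ⧸ J), Order.coheight q : ℕ∞) : WithBot ℕ∞) := by
    rw [ringKrullDim, Order.krullDim_eq_iSup_coheight_of_nonempty]
  have h2 : (⨆ q : PrimeSpectrum (A ⧸ J), Order.coheight q) = (a : ℕ∞) := by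
    rw [h1] at ha
    exact_mod_cast ha
  have h3 : (⨆ q : PrimeSpectrum (A ⧸ J), Order.coheight q) < ⊤ := by
    rw [h2]; exact ENat.natCast_lt_top a
  obtain ⟨q, hq⟩ := ENat.exists_eq_iSup_of_lt_top h3
  have h4 : ringKrullDim ((A ⧸ J) ⧸ q.asIdeal) = ringKrullDim (A ⧸ J) := by
    rw [h1, ← hq, Order.coheight_eq_krullDim_Ici, ringKrullDim,
      Order.krullDim_eq_of_orderIso (Ideal.primeSpectrumQuotientOrderIsoZeroLocus q.asIdeal)]
    have : (PrimeSpectrum.zeroLocus (q.asIdeal : Set (A ⧸ J))) = Set.Ici q := by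
      ext q'
      simp only [PrimeSpectrum.mem_zeroLocus, SetLike.coe_subset_coe, Set.mem_Ici]
      rfl
    rw [this]
  refine ⟨q.asIdeal.comap (Ideal.Quotient.mk J), inferInstance, ?_, ?_⟩
  · intro x hx
    rw [Ideal.mem_comap, Ideal.Quotient.eq_zero_iff_mem.mpr hx]
    exact Ideal.zero_mem _
  · have hle : J ≤ q.asIdeal.comap (Ideal.Quotient.mk J) := by
      intro x hx
      rw [Ideal.mem_comap, Ideal.Quotient.eq_zero_iff_mem.mpr hx]
      exact Ideal.zero_mem _
    apply le_antisymm
    · exact ringKrullDim_le_of_surjective (Ideal.Quotient.factor hle)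
        (Ideal.Quotient.factor_surjective hle)
    · rw [← h4]
      exact ringKrullDim_le_of_surjective
        (Ideal.quotientMap q.asIdeal (Ideal.Quotient.mk J) le_rfl)
        (Ideal.quotientMap_surjective Ideal.Quotient.mk_surjective)

section regular

variable (R : Type u) [CommRing R] [IsRegularLocalRing R]

theorem height_add_dim_quotient_prime (p : Ideal R) [p.IsPrime] :
    ((p.height : ℕ∞) : WithBot ℕ∞) + ringKrullDim (R ⧸ p) = ringKrullDim R := by
  have hcm : LocCoh.IsCohenMacaulayModule R R :=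
    Groth.Agent.Lib.Helper4.RegCM.isCohenMacaulayModule_self R
  have hsupp : Module.support R R = Set.univ := by
    rw [Module.support_of_algebra]
    have hk : RingHom.ker (algebraMap R R) = ⊥ :=
      (RingHom.injective_iff_ker_eq_bot _).mp (fun a b h => h)
    rw [hk]
    simp
  exact Groth.Agent.Lib.Helper4.cm_height_add_ringKrullDim_quotient hcm hsupp ⟨p, inferInstance⟩

/-- `ht J + dim R/J = dim R` in a regular local ring. -/
theorem height_add_dim_quotient (J : Ideal R) (hJ : J ≠ ⊤) :
    ((J.height : ℕ∞) : WithBot ℕ∞) + ringKrullDim (R ⧸ J) = ringKrullDim R := by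
  apply le_antisymm
  · obtain ⟨p, hp, hJp, hdim⟩ := exists_prime_dim_quotient_eq J hJ
    rw [← hdim, ← height_add_dim_quotient_prime R p]
    gcongr
    exact_mod_cast Ideal.height_mono hJp
  · have hfin : J.height ≠ ⊤ := Ideal.height_ne_top hJ
    obtain ⟨n, hn⟩ := ENat.ne_top_iff_exists.mp hfin
    obtain ⟨p, hp, hJp, hpn⟩ := Ideal.exists_isPrime_height_eq hn.symm
    rw [← height_add_dim_quotient_prime R p, hpn, ← hn]
    gcongr
    exact ringKrullDim_le_of_surjective (Ideal.Quotient.factor hJp)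
      (Ideal.Quotient.factor_surjective hJp)

/-- the numerical criterion: `R/J` is a complete intersection iff `dim R/J + μ(J) = dim R`. -/
theorem ci_iff_dim (J : Ideal R) (hJ : J ≠ ⊤) [IsLocalRing (R ⧸ J)] :
    Pi1.IsCompleteIntersection (R ⧸ J) ↔
      ringKrullDim (R ⧸ J) + (J.spanFinrank : WithBot ℕ∞) = ringKrullDim R := by
  have hJm : J ≤ maximalIdeal R := IsLocalRing.le_maximalIdeal hJ
  constructor
  · intro h
    obtain ⟨rs, hof, hreg⟩ := (Groth.Agent.S2166.result J hJ).1 h
    have h1 := ringKrullDim_add_length_eq_ringKrullDim_of_isRegular rs hreg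
    rw [hof] at h1
    have h2 : J.spanFinrank ≤ rs.length := by
      rw [← hof]; exact Groth.Agent.Lib.Helper27.KosH1.spanFinrank_ofList_le rs
    have h3 : ringKrullDim R ≤ ringKrullDim (R ⧸ J) + J.spanFinrank :=
      ringKrullDim_le_ringKrullDim_quotient_add_spanFinrank _ (by
        rw [IsLocalRing.ringJacobson_eq_maximalIdeal]; exact hJm)
    apply le_antisymm _ h3
    rw [← h1]
    gcongr
  · intro h
    obtain ⟨rs, h1, h2, -⟩ := Groth.Agent.Lib.Helper27.KosH1.exists_regular_of_dim R J hJ h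
    exact (Groth.Agent.S2166.result J hJ).2 ⟨rs, h1, h2⟩

/-- the height criterion: `R/J` is a complete intersection iff `μ(J) ≤ ht J`. -/
theorem ci_iff_spanFinrank_le_height (J : Ideal R) (hJ : J ≠ ⊤) [IsLocalRing (R ⧸ J)] :
    Pi1.IsCompleteIntersection (R ⧸ J) ↔ (J.spanFinrank : ℕ∞) ≤ J.height := by
  rw [ci_iff_dim R J hJ, ← height_add_dim_quotient R J hJ]
  have hfin : J.height ≠ ⊤ := Ideal.height_ne_top hJ
  obtain ⟨n, hn⟩ := ENat.ne_top_iff_exists.mp hfin
  haveI : Nontrivial (R ⧸ J) := Ideal.Quotient.nontrivial_iff.mpr hJ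
  obtain ⟨a, ha⟩ := Groth.Agent.Lib.Helper27.KosH1.exists_nat_dim (R ⧸ J)
  have hk : J.height ≤ J.spanFinrank := Ideal.height_le_spanFinrank J hJ
  rw [ha, ← hn] at *
  have hk' : n ≤ J.spanFinrank := by exact_mod_cast hk
  constructor
  · intro h
    have h' : a + J.spanFinrank = n + a := by exact_mod_cast h
    have : J.spanFinrank ≤ n := by omega
    exact_mod_cast this
  · intro h
    have h' : J.spanFinrank ≤ n := by exact_mod_cast h
    have : a + J.spanFinrank = n + a := by omega
    exact_mod_cast this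

end regular

end Groth.Agent.Lib.Helper27.CILocus
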