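import Mathlib
import Groth.Agent.Lib.Helper27.CILocusB

/-!
# Openness of the complete intersection locus of a quotient of a regular ring (helper27)
-/

set_option autoImplicit false
universe u

namespace Groth.Agent.Lib.Helper27.CILocus

open IsLocalRing

section semicont

variable {B : Type u} [CommRing B] [IsNoetherianRing B]

/-- upper semicontinuity of the number of generators of `I_Q`. -/
theorem exists_spanFinrank_map_le (I P : Ideal B) [P.IsPrime] :
    ∃ f : B, f ∉ P ∧ ∀ (Q : Ideal B) [Q.IsPrime], f ∉ Q →
      (I.map (algebraMap B (Localization.AtPrime Q))).spanFinrank ≤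
        (I.map (algebraMap B (Localization.AtPrime P))).spanFinrank := by
  classical
  set S := Localization.AtPrime P with hS
  obtain ⟨s, hcard, hspan⟩ := Submodule.FG.exists_span_finset_card_eq_spanFinrank
    (IsNoetherian.noetherian (I.map (algebraMap B S)))
  have key : ∀ y ∈ s, ∃ a ∈ I, ∃ t, t ∉ P ∧ y * algebraMap B S t = algebraMap B S a := by
    intro y hy
    have hy' : y ∈ I.map (algebraMap B S) := by
      rw [← hspan]; exact Submodule.subset_span hy
    obtain ⟨⟨a, t⟩, h⟩ := (IsLocalization.mem_map_algebraMap_iff P.primeCompl S).1 hy'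
    exact ⟨a.1, a.2, t.1, t.2, h⟩
  choose! a ha t ht hyt using key
  set J : Ideal B := Ideal.span ((s.image a : Finset B) : Set B) with hJ
  have hJI : J ≤ I := by
    rw [hJ, Ideal.span_le]
    intro x hx
    obtain ⟨y, hy, rfl⟩ := Finset.mem_image.1 (Finset.mem_coe.1 hx)
    exact ha y hy
  have hIJ : I.map (algebraMap B S) ≤ J.map (algebraMap B S) := by
    have h1 : Submodule.span S (s : Set S) ≤ J.map (algebraMap B S) := by
      rw [Submodule.span_le]
      intro y hy
      have hy' : y ∈ s := Finset.mem_coe.1 hy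
      have hu : IsUnit (algebraMap B S (t y)) :=
        IsLocalization.map_units S (⟨t y, ht y hy'⟩ : P.primeCompl)
      have h2 : y * algebraMap B S (t y) ∈ J.map (algebraMap B S) := by
        rw [hyt y hy']
        apply Ideal.mem_map_of_mem
        exact Ideal.subset_span (Finset.mem_coe.2 (Finset.mem_image_of_mem a hy'))
      exact (Ideal.mul_unit_mem_iff_mem _ hu).1 h2
    rw [← hspan]
    exact h1
  obtain ⟨g, hg⟩ := (IsNoetherian.noetherian I : I.FG)
  have key2 : ∀ i ∈ g, ∃ w, w ∉ P ∧ w * i ∈ J := by
    intro i hi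
    have hiI : i ∈ I := by rw [← hg]; exact Submodule.subset_span hi
    have h1 : algebraMap B S i ∈ J.map (algebraMap B S) := hIJ (Ideal.mem_map_of_mem _ hiI)
    obtain ⟨⟨j, u⟩, h⟩ := (IsLocalization.mem_map_algebraMap_iff P.primeCompl S).1 h1
    rw [← map_mul] at h
    obtain ⟨c, hc⟩ := (IsLocalization.eq_iff_exists P.primeCompl S).1 h
    refine ⟨c * u, (c * u).2, ?_⟩
    have : (c : B) * (u : B) * i = c * (j : B) := by rw [← hc]; ring
    rw [this]
    exact Ideal.mul_mem_left _ _ j.2
  choose! w hw hwi using key2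
  refine ⟨∏ i ∈ g, w i, ?_, ?_⟩
  · rw [Ideal.IsPrime.prod_mem_iff]
    rintro ⟨i, hi, hmem⟩
    exact hw i hi hmem
  · intro Q _ hfQ
    set f := ∏ i ∈ g, w i with hf
    have hfI : ∀ x ∈ I, f * x ∈ J := by
      have h1 : I ≤ Submodule.comap (LinearMap.mulLeft B f) J := by
        rw [← hg, Submodule.span_le]
        intro i hi
        have hi' : i ∈ g := Finset.mem_coe.1 hi
        rw [SetLike.mem_coe, Submodule.mem_comap, LinearMap.mulLeft_apply]
        obtain ⟨c, hc⟩ := Finset.dvd_prod_of_mem w hi'
        rw [hf, hc, mul_comm (w i) c, mul_assoc]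
        exact Ideal.mul_mem_left _ _ (hwi i hi')
      intro x hx
      have := h1 hx
      rwa [Submodule.mem_comap, LinearMap.mulLeft_apply] at this
    set S' := Localization.AtPrime Q with hS'
    have hu : IsUnit (algebraMap B S' f) :=
      IsLocalization.map_units S' (⟨f, hfQ⟩ : Q.primeCompl)
    have heq : I.map (algebraMap B S') = J.map (algebraMap B S') := by
      apply le_antisymm
      · rw [Ideal.map_le_iff_le_comap]
        intro x hx
        rw [Ideal.mem_comap]
        have h2 : algebraMap B S' f * algebraMap B S' x ∈ J.map (algebraMap B S') := by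
          rw [← map_mul]
          exact Ideal.mem_map_of_mem _ (hfI x hx)
        exact (Ideal.unit_mul_mem_iff_mem _ hu).1 h2
      · exact Ideal.map_mono hJI
    rw [heq, hJ, Ideal.map_span, ← hcard]
    have h3 : (algebraMap B S') '' ((s.image a : Finset B) : Set B) =
        (((s.image a).image (algebraMap B S') : Finset S') : Set S') := by
      ext x
      simp
    rw [h3]
    refine (Submodule.spanFinrank_span_le_ncard_of_finite (Finset.finite_toSet _)).trans ?_
    rw [Set.ncard_coe_finset]
    exact Finset.card_image_le.trans Finset.card_image_le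

/-- lower semicontinuity of the height of `I_Q` near `P`. -/
theorem exists_height_map_le (I P : Ideal B) [P.IsPrime] :
    ∃ f : B, f ∉ P ∧ ∀ (Q : Ideal B) [Q.IsPrime], f ∉ Q →
      (I.map (algebraMap B (Localization.AtPrime P))).height ≤
        (I.map (algebraMap B (Localization.AtPrime Q))).height := by
  classical
  have hfin : I.minimalPrimes.Finite := Ideal.finite_minimalPrimes_of_isNoetherianRing B I
  set T : Finset (Ideal B) := hfin.toFinset.filter (fun P' => ¬ P' ≤ P) with hT
  have hK : ¬ T.inf id ≤ P := by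
    rw [Ideal.IsPrime.inf_le' inferInstance]
    rintro ⟨P', hP', hle⟩
    exact (Finset.mem_filter.1 hP').2 hle
  obtain ⟨f, hfK, hfP⟩ := SetLike.not_le_iff_exists.1 hK
  refine ⟨f, hfP, ?_⟩
  intro Q _ hfQ
  rw [Ideal.height_eq_inf_minimalPrimes (I.map (algebraMap B (Localization.AtPrime Q)))]
  refine le_iInf₂ fun p'' hp'' => ?_
  haveI : p''.IsPrime := hp''.isPrime
  have h1 : p''.under B ∈ I.minimalPrimes := by
    rw [IsLocalization.minimalPrimes_map Q.primeCompl (Localization.AtPrime Q) I] at hp''
    exact hp''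
  have h2 : p''.under B ≤ Q := by
    have h3 : p'' ≤ maximalIdeal (Localization.AtPrime Q) := IsLocalRing.le_maximalIdeal
      (Ideal.IsPrime.ne_top inferInstance)
    have h4 : p''.under B ≤ (maximalIdeal (Localization.AtPrime Q)).under B :=
      Ideal.comap_mono (f := algebraMap B (Localization.AtPrime Q)) h3
    rwa [IsLocalization.AtPrime.under_maximalIdeal (Localization.AtPrime Q) Q] at h4
  have h5 : p''.under B ≤ P := by
    by_contra hnot
    have hmem : p''.under B ∈ T := by
      rw [hT, Finset.mem_filter]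
      exact ⟨hfin.mem_toFinset.2 h1, hnot⟩
    have h6 : T.inf id ≤ p''.under B := Finset.inf_le (f := id) hmem
    exact hfQ (h2 (h6 hfK))
  haveI : (p''.under B).IsPrime := h1.isPrime
  rw [← IsLocalization.height_under Q.primeCompl p'']
  have hdisj : Disjoint (P.primeCompl : Set B) (p''.under B : Set B) := by
    rw [Set.disjoint_left]
    intro x hx hx'
    exact hx (h5 hx')
  rw [← IsLocalization.height_map_of_disjoint (S := Localization.AtPrime P) P.primeCompl
    (p''.under B) hdisj]
  exact Ideal.height_mono (Ideal.map_mono h1.1.2)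

end semicont

section regular

variable {B : Type u} [CommRing B] [IsRegularRing B]

/-- the numerical complete intersection condition `μ(I_Q) ≤ ht(I_Q)` is open. -/
theorem exists_nhd_num (I P : Ideal B) [P.IsPrime]
    (h : ((I.map (algebraMap B (Localization.AtPrime P))).spanFinrank : ℕ∞) ≤
      (I.map (algebraMap B (Localization.AtPrime P))).height) :
    ∃ f : B, f ∉ P ∧ ∀ (Q : Ideal B) [Q.IsPrime], f ∉ Q →
      ((I.map (algebraMap B (Localization.AtPrime Q))).spanFinrank : ℕ∞) ≤
        (I.map (algebraMap B (Localization.AtPrime Q))).height := by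
  obtain ⟨f₁, hf₁, h₁⟩ := exists_spanFinrank_map_le I P
  obtain ⟨f₂, hf₂, h₂⟩ := exists_height_map_le I P
  refine ⟨f₁ * f₂, ?_, ?_⟩
  · intro hmem
    rcases Ideal.IsPrime.mem_or_mem inferInstance hmem with h' | h'
    · exact hf₁ h'
    · exact hf₂ h'
  · intro Q _ hfQ
    have hq₁ : f₁ ∉ Q := fun h' => hfQ (Ideal.mul_mem_right _ _ h')
    have hq₂ : f₂ ∉ Q := fun h' => hfQ (Ideal.mul_mem_left _ _ h')
    calc ((I.map (algebraMap B (Localization.AtPrime Q))).spanFinrank : ℕ∞)
        ≤ (I.map (algebraMap B (Localization.AtPrime P))).spanFinrank := by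
          exact_mod_cast h₁ Q hq₁
      _ ≤ (I.map (algebraMap B (Localization.AtPrime P))).height := h
      _ ≤ _ := h₂ Q hq₂

/-- the local ring of `Spec (B/I)` at `q` is a complete intersection iff `μ(I_Q) ≤ ht(I_Q)`. -/
theorem ci_localization_quotient_iff (I : Ideal B) (q : Ideal (B ⧸ I)) [q.IsPrime] :
    Pi1.IsCompleteIntersection (Localization.AtPrime q) ↔
      ((I.map (algebraMap B (Localization.AtPrime
        (q.comap (Ideal.Quotient.mk I))))).spanFinrank : ℕ∞) ≤
      (I.map (algebraMap B (Localization.AtPrime (q.comap (Ideal.Quotient.mk I))))).height := by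
  set Q := q.comap (Ideal.Quotient.mk I) with hQ
  set J := I.map (algebraMap B (Localization.AtPrime Q)) with hJdef
  have hIQ : I ≤ Q := by
    intro x hx
    rw [hQ, Ideal.mem_comap, Ideal.Quotient.eq_zero_iff_mem.mpr hx]
    exact Ideal.zero_mem _
  have hJ : J ≠ ⊤ := by
    have h1 : J ≤ maximalIdeal (Localization.AtPrime Q) := by
      rw [← IsLocalization.AtPrime.map_eq_maximalIdeal Q (Localization.AtPrime Q)]
      exact Ideal.map_mono hIQ
    intro htop
    rw [htop] at h1
    exact (Ideal.IsPrime.ne_top inferInstance) (top_le_iff.1 h1)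
  haveI : Nontrivial (Localization.AtPrime Q ⧸ J) := Ideal.Quotient.nontrivial_iff.mpr hJ
  haveI : IsLocalRing (Localization.AtPrime Q ⧸ J) :=
    IsLocalRing.of_surjective' (Ideal.Quotient.mk J) Ideal.Quotient.mk_surjective
  have hsub : Algebra.algebraMapSubmonoid (B ⧸ I) Q.primeCompl = q.primeCompl := by
    ext x
    constructor
    · rintro ⟨y, hy, rfl⟩
      exact hy
    · intro hx
      obtain ⟨y, rfl⟩ := Ideal.Quotient.mk_surjective x
      exact ⟨y, hx, rfl⟩
  haveI hloc : IsLocalization q.primeCompl (Localization.AtPrime Q ⧸ J) := by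
    rw [← hsub]
    infer_instance
  let e : Localization.AtPrime q ≃+* (Localization.AtPrime Q ⧸ J) :=
    (IsLocalization.algEquiv q.primeCompl (Localization.AtPrime q)
      (Localization.AtPrime Q ⧸ J)).toRingEquiv
  rw [← ci_iff_spanFinrank_le_height (Localization.AtPrime Q) J hJ]
  exact ⟨isCompleteIntersection_of_ringEquiv e, isCompleteIntersection_of_ringEquiv e.symm⟩

end regular

end Groth.Agent.Lib.Helper27.CILocus
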