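import Mathlib

/-! Element-level API for cochain complexes of modules, and linear algebra over a DVR
(towards a universal-coefficient statement). -/

set_option autoImplicit false

namespace Groth.Agent.Lib.Helper27.UCT
open CategoryTheory CategoryTheory.Limits TensorProduct

universe u

section El
variable {V : Type u} [CommRing V] (C : CochainComplex (ModuleCat.{u} V) ℤ)

lemma prev_eq {i j : ℤ} (hij : i + 1 = j) : (ComplexShape.up ℤ).prev j = i := by
  subst hij; simp
lemma next_eq {j k : ℤ} (hjk : j + 1 = k) : (ComplexShape.up ℤ).next j = k := by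
  subst hjk; simp

lemma isZero_iff_exact (i j k : ℤ) (hij : i + 1 = j) (hjk : j + 1 = k) :
    IsZero (C.homology j) ↔ Function.Exact (C.d i j).hom (C.d j k).hom := by
  rw [← C.exactAt_iff_isZero_homology, C.exactAt_iff' i j k (prev_eq hij) (next_eq hjk),
    ShortComplex.ShortExact.moduleCat_exact_iff_function_exact]
  rfl

lemma iCycles_inj (p : ℤ) : Function.Injective (C.iCycles p).hom :=
  (ModuleCat.mono_iff_injective _).mp inferInstance

lemma homologyπ_surj (p : ℤ) : Function.Surjective (C.homologyπ p).hom :=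
  (ModuleCat.epi_iff_surjective _).mp inferInstance

lemma toCycles_i_apply (p q : ℤ) (x : C.X p) :
    (C.iCycles q).hom ((C.toCycles p q).hom x) = (C.d p q).hom x := by
  change (C.toCycles p q ≫ C.iCycles q).hom x = _
  rw [C.toCycles_i p q]

lemma d_iCycles_apply (p q : ℤ) (c : C.cycles p) :
    (C.d p q).hom ((C.iCycles p).hom c) = 0 := by
  change (C.iCycles p ≫ C.d p q).hom c = _
  rw [C.iCycles_d p q]
  rfl

lemma homologyπ_toCycles_apply (p q : ℤ) (y : C.X p) :
    (C.homologyπ q).hom ((C.toCycles p q).hom y) = 0 := by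
  change (C.toCycles p q ≫ C.homologyπ q).hom y = _
  rw [C.toCycles_comp_homologyπ p q]
  rfl

lemma exists_cycle (j k : ℤ) (hjk : j + 1 = k) (x : C.X j) (hx : (C.d j k).hom x = 0) :
    ∃ c : C.cycles j, (C.iCycles j).hom c = x := by
  have h := ShortComplex.exact_of_f_is_kernel
    (ShortComplex.mk (C.iCycles j) (C.d j k) (by simp))
    (C.cyclesIsKernel j k (next_eq hjk))
  exact (ShortComplex.moduleCat_exact_iff _).mp h x hx

lemma exists_toCycles (i j : ℤ) (hij : i + 1 = j) (c : C.cycles j)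
    (hc : (C.homologyπ j).hom c = 0) :
    ∃ y : C.X i, (C.toCycles i j).hom y = c := by
  have h := ShortComplex.exact_of_g_is_cokernel
    (ShortComplex.mk (C.toCycles i j) (C.homologyπ j) (by simp))
    (C.homologyIsCokernel i j (prev_eq hij))
  exact (ShortComplex.moduleCat_exact_iff _).mp h c hc

/-- Torsion-freeness of cohomology, element form (1). -/
lemma mem_range_of_smul_mem (i j k : ℤ) (hij : i + 1 = j) (hjk : j + 1 = k)
    (hH : ∀ (r : V) (h : C.homology j), r ≠ 0 → r • h = 0 → h = 0) {r : V} (hr : r ≠ 0)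
    (x : C.X j) (hx : (C.d j k).hom x = 0) (y : C.X i)
    (hy : r • x = (C.d i j).hom y) : ∃ y', (C.d i j).hom y' = x := by
  obtain ⟨c, rfl⟩ := exists_cycle C j k hjk x hx
  have h1 : r • c = (C.toCycles i j).hom y := by
    apply iCycles_inj C j
    rw [map_smul, hy, toCycles_i_apply]
  have h2 : r • (C.homologyπ j).hom c = 0 := by
    rw [← map_smul, h1, homologyπ_toCycles_apply]
  have h3 : (C.homologyπ j).hom c = 0 := hH r _ hr h2
  obtain ⟨y', hy'⟩ := exists_toCycles C i j hij c h3
  exact ⟨y', by rw [← hy', toCycles_i_apply]⟩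

/-- Torsion-freeness of cohomology, element form (2). -/
lemma noZeroSMulDivisors_homology (i j : ℤ) (hij : i + 1 = j)
    (H : ∀ r : V, r ≠ 0 → ∀ (x : C.X j) (y : C.X i),
      r • x = (C.d i j).hom y → ∃ y', (C.d i j).hom y' = x) :
    NoZeroSMulDivisors V (C.homology j) := by
  refine ⟨fun {r h} hrh => ?_⟩
  by_cases hr : r = 0
  · exact Or.inl hr
  right
  obtain ⟨c, rfl⟩ := homologyπ_surj C j h
  rw [← map_smul] at hrh
  obtain ⟨y, hy⟩ := exists_toCycles C i j hij _ hrh
  have h1 : r • (C.iCycles j).hom c = (C.d i j).hom y := by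
    rw [← map_smul, ← hy, toCycles_i_apply]
  obtain ⟨y', hy'⟩ := H r hr _ y h1
  have h2 : c = (C.toCycles i j).hom y' := by
    apply iCycles_inj C j
    rw [toCycles_i_apply, hy']
  rw [h2, homologyπ_toCycles_apply]

end El

section LA
variable {V : Type u} [CommRing V]
variable {M0 M1 M2 M3 : Type u} [AddCommGroup M0] [AddCommGroup M1] [AddCommGroup M2]
  [AddCommGroup M3] [Module V M0] [Module V M1] [Module V M2] [Module V M3]

lemma rTensor_exact_of_flat_quot (d0 : M0 →ₗ[V] M1) (d1 : M1 →ₗ[V] M2)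
    (hex : Function.Exact d0 d1) [Module.Flat V (M2 ⧸ LinearMap.range d1)]
    (N : Type u) [AddCommGroup N] [Module V N] :
    Function.Exact (d0.rTensor N) (d1.rTensor N) := by
  have hinj : Function.Injective ((LinearMap.range d1).subtype.rTensor N) := by
    rw [← LinearMap.lTensor_inj_iff_rTensor_inj]
    refine LinearMap.lTensor_injective_of_exact_of_flat (LinearMap.range d1).mkQ
      (Submodule.mkQ_surjective _) (LinearMap.range d1).subtype
      (Submodule.injective_subtype _) ?_ N
    intro x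
    rw [Submodule.mkQ_apply, Submodule.Quotient.mk_eq_zero]
    simp
  have hex' : Function.Exact d0 d1.rangeRestrict := by
    intro x
    rw [← hex x]
    constructor
    · intro h; exact congrArg Subtype.val h
    · intro h; exact Subtype.ext h
  have h1 := rTensor_exact N hex' d1.surjective_rangeRestrict
  have hcomp : d1.rTensor N =
      ((LinearMap.range d1).subtype.rTensor N) ∘ₗ (d1.rangeRestrict.rTensor N) := by
    rw [← LinearMap.rTensor_comp]
    rfl
  intro y
  rw [hcomp, LinearMap.comp_apply, ← h1 y]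
  constructor
  · intro h; exact hinj (by rw [h, map_zero])
  · intro h; rw [h, map_zero]

lemma flat_quot [IsDomain V] [IsDedekindDomain V] (d1 : M1 →ₗ[V] M2) (d2 : M2 →ₗ[V] M3)
    (h0 : ∀ x, d2 (d1 x) = 0)
    (htf : ∀ (r : V) (z : M3), r ≠ 0 → r • z = 0 → z = 0)
    (H : ∀ r : V, r ≠ 0 → ∀ x : M2, d2 x = 0 → ∀ y, r • x = d1 y → ∃ y', d1 y' = x) :
    Module.Flat V (M2 ⧸ LinearMap.range d1) := by
  haveI : Module.IsTorsionFree V (M2 ⧸ LinearMap.range d1) := by
    apply Module.IsTorsionFree.of_smul_eq_zero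
    intro r q hrq
    by_cases hr : r = 0
    · exact Or.inl hr
    right
    obtain ⟨x, rfl⟩ := Submodule.Quotient.mk_surjective _ q
    rw [← Submodule.Quotient.mk_smul, Submodule.Quotient.mk_eq_zero] at hrq
    obtain ⟨y, hy⟩ := hrq
    have hd : d2 x = 0 := htf r _ hr (by rw [← map_smul, ← hy, h0])
    obtain ⟨y', hy'⟩ := H r hr x hd y hy.symm
    rw [Submodule.Quotient.mk_eq_zero]
    exact ⟨y', hy'⟩
  infer_instance

end LA

section Res
variable {V : Type u} [CommRing V] (I : Ideal V) (π : V) (hI : I = Ideal.span {π})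
variable {M : Type u} [AddCommGroup M] [Module V M]

include hI in
lemma exists_smul_of_tmul_one_eq_zero (x : M) (h : x ⊗ₜ[V] (1 : V ⧸ I) = 0) : ∃ w, x = π • w := by
  have h1 := congrArg (TensorProduct.tensorQuotEquivQuotSMul M I) h
  rw [← map_one (Ideal.Quotient.mk I), TensorProduct.tensorQuotEquivQuotSMul_tmul_mk, one_smul,
    map_zero, Submodule.Quotient.mk_eq_zero, hI, Submodule.ideal_span_singleton_smul] at h1
  obtain ⟨w, -, hw⟩ := (Submodule.mem_smul_pointwise_iff_exists _ _ _).mp h1
  exact ⟨w, hw.symm⟩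

lemma exists_tmul_one (s : M ⊗[V] (V ⧸ I)) : ∃ y : M, s = y ⊗ₜ[V] (1 : V ⧸ I) := by
  obtain ⟨y, hy⟩ := Submodule.Quotient.mk_surjective _ (TensorProduct.tensorQuotEquivQuotSMul M I s)
  refine ⟨y, (TensorProduct.tensorQuotEquivQuotSMul M I).injective ?_⟩
  rw [← hy, ← map_one (Ideal.Quotient.mk I), TensorProduct.tensorQuotEquivQuotSMul_tmul_mk,
    one_smul]

lemma smul_tmul_one_eq_zero (w : M) (hπ : π ∈ I) : (π • w) ⊗ₜ[V] (1 : V ⧸ I) = 0 := by
  have h1 : π • (1 : V ⧸ I) = Ideal.Quotient.mk I π := by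
    rw [Algebra.smul_def, mul_one]; rfl
  rw [TensorProduct.smul_tmul, h1, Ideal.Quotient.eq_zero_iff_mem.mpr hπ, TensorProduct.tmul_zero]

end Res

end Groth.Agent.Lib.Helper27.UCT
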