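import Mathlib
import Groth.Prelude.Def_LCI2
import Groth.Agent.Lib.Helper27.UCT1

/-! Koszul-regular sequences: relations have coefficients in the ideal. -/

set_option autoImplicit false

namespace Groth.Agent.Lib.Helper27.KRel
open CategoryTheory CategoryTheory.Limits CochainComplex HomComplex

universe u

section ConeEl
variable {A : Type u} [CommRing A] {F G : CochainComplex (ModuleCat.{u} A) ℤ} (φ : F ⟶ G)

lemma decomp (n m : ℤ) (hnm : n + 1 = m) (z : (mappingCone φ).X n) :
    z = ((mappingCone.inl φ).v m n (by omega)).hom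
          (((mappingCone.fst φ).1.v n m hnm).hom z) +
        ((mappingCone.inr φ).f n).hom (((mappingCone.snd φ).v n n (add_zero n)).hom z) := by
  have h := congrArg (fun ψ => ψ.hom z) (mappingCone.id_X φ n m hnm)
  simp only [ModuleCat.hom_add, ModuleCat.hom_comp, LinearMap.add_apply, LinearMap.comp_apply,
    ModuleCat.hom_id, LinearMap.id_apply] at h
  exact h.symm

lemma d_inl (n m k : ℤ) (hnm : n + 1 = m) (hmk : m + 1 = k) (a : F.X m) :
    ((mappingCone φ).d n m).hom (((mappingCone.inl φ).v m n (by omega)).hom a) =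
      ((mappingCone.inr φ).f m).hom ((φ.f m).hom a) -
        ((mappingCone.inl φ).v k m (by omega)).hom ((F.d m k).hom a) := by
  have h := congrArg (fun ψ => ψ.hom a)
    (mappingCone.inl_v_d φ m n k (by omega) (by omega))
  simpa only [ModuleCat.hom_comp, ModuleCat.hom_sub, LinearMap.comp_apply,
    LinearMap.sub_apply] using h

lemma d_inr (n m : ℤ) (b : G.X n) :
    ((mappingCone φ).d n m).hom (((mappingCone.inr φ).f n).hom b) =
      ((mappingCone.inr φ).f m).hom ((G.d n m).hom b) := by
  have h := congrArg (fun ψ => ψ.hom b) (mappingCone.inr_f_d φ n m)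
  simpa only [ModuleCat.hom_comp, LinearMap.comp_apply] using h

lemma fst_inl (n m : ℤ) (hnm : n + 1 = m) (a : F.X m) :
    ((mappingCone.fst φ).1.v n m hnm).hom
      (((mappingCone.inl φ).v m n (by omega)).hom a) = a := by
  have h := congrArg (fun ψ => ψ.hom a) (mappingCone.inl_v_fst_v φ m n hnm)
  simpa only [ModuleCat.hom_comp, LinearMap.comp_apply, ModuleCat.hom_id,
    LinearMap.id_apply] using h

lemma snd_inl (n m : ℤ) (hnm : n + 1 = m) (a : F.X m) :
    ((mappingCone.snd φ).v n n (add_zero n)).hom
      (((mappingCone.inl φ).v m n (by omega)).hom a) = 0 := by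
  have h := congrArg (fun ψ => ψ.hom a) (mappingCone.inl_v_snd_v φ m n (by omega))
  simpa only [ModuleCat.hom_comp, LinearMap.comp_apply, ModuleCat.hom_zero,
    LinearMap.zero_apply] using h

lemma fst_inr (n m : ℤ) (hnm : n + 1 = m) (b : G.X n) :
    ((mappingCone.fst φ).1.v n m hnm).hom (((mappingCone.inr φ).f n).hom b) = 0 := by
  have h := congrArg (fun ψ => ψ.hom b) (mappingCone.inr_f_fst_v φ n m hnm)
  simpa only [ModuleCat.hom_comp, LinearMap.comp_apply, ModuleCat.hom_zero,
    LinearMap.zero_apply] using h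

lemma snd_inr (n : ℤ) (b : G.X n) :
    ((mappingCone.snd φ).v n n (add_zero n)).hom (((mappingCone.inr φ).f n).hom b) = b := by
  have h := congrArg (fun ψ => ψ.hom b) (mappingCone.inr_f_snd_v φ n)
  simpa only [ModuleCat.hom_comp, LinearMap.comp_apply, ModuleCat.hom_id,
    LinearMap.id_apply] using h

end ConeEl

section SmulTop
variable {A : Type u} [CommRing A] {M N : Type u} [AddCommGroup M] [AddCommGroup N] [Module A M]
  [Module A N]

lemma map_mem_smul_top (I : Ideal A) (g : M →ₗ[A] N) {x : M}
    (hx : x ∈ I • (⊤ : Submodule A M)) : g x ∈ I • (⊤ : Submodule A N) := by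
  have : g x ∈ (I • (⊤ : Submodule A M)).map g := Submodule.mem_map_of_mem hx
  rw [Submodule.map_smul''] at this
  exact Submodule.smul_mono le_rfl le_top this

lemma mem_of_mem_smul_top_pi (I : Ideal A) {r : ℕ} {x : Fin r → A}
    (hx : x ∈ I • (⊤ : Submodule A (Fin r → A))) (i : Fin r) : x i ∈ I := by
  refine Submodule.smul_induction_on hx ?_ ?_
  · intro c hc m _
    rw [Pi.smul_apply, smul_eq_mul]
    exact I.mul_mem_right _ hc
  · intro y z hy hz
    rw [Pi.add_apply]
    exact I.add_mem hy hz

end SmulTop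

section Kos
variable (A : Type u) [CommRing A]

lemma koszul_cons (f : A) (l : List A) :
    Koszul.koszul A (f :: l) = mappingCone (f • 𝟙 (Koszul.koszul A l)) := rfl

/-- The differentials of the Koszul complex have image in `I • K`. -/
theorem d_mem (l : List A) : ∀ (n : ℤ) (x : (Koszul.koszul A l).X n),
    ((Koszul.koszul A l).d n (n + 1)).hom x ∈
      Ideal.ofList l • (⊤ : Submodule A ((Koszul.koszul A l).X (n + 1))) := by
  induction l with
  | nil =>
    intro n x
    have : (Koszul.koszul A []).d n (n + 1) = 0 := by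
      show ((CochainComplex.singleFunctor (ModuleCat.{u} A) 0).obj (ModuleCat.of A A)).d n (n + 1) = 0
      exact HomologicalComplex.single_obj_d _ _ _ _ _
    rw [this]
    exact Submodule.zero_mem _
  | cons f l ih =>
    intro n x
    have hle : Ideal.ofList l ≤ Ideal.ofList (f :: l) := by
      rw [Ideal.ofList_cons]; exact le_sup_right
    have hf : f ∈ Ideal.ofList (f :: l) := by
      rw [Ideal.ofList_cons]; exact Ideal.mem_sup_left (Ideal.subset_span rfl)
    show ((mappingCone (f • 𝟙 (Koszul.koszul A l))).d n (n + 1)).hom x ∈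
      Ideal.ofList (f :: l) •
        (⊤ : Submodule A ((mappingCone (f • 𝟙 (Koszul.koszul A l))).X (n + 1)))
    rw [decomp _ n (n + 1) rfl x, map_add, d_inl _ n (n + 1) (n + 1 + 1) rfl rfl, d_inr]
    refine Submodule.add_mem _ (Submodule.sub_mem _ ?_ ?_) ?_
    · have : ((f • 𝟙 (Koszul.koszul A l) : Koszul.koszul A l ⟶ Koszul.koszul A l).f (n + 1)).hom
          (((mappingCone.fst (f • 𝟙 (Koszul.koszul A l))).1.v n (n + 1) rfl).hom x) =
          f • (((mappingCone.fst (f • 𝟙 (Koszul.koszul A l))).1.v n (n + 1) rfl).hom x) := by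
        simp
      rw [this, map_smul]
      exact Submodule.smul_mem_smul hf Submodule.mem_top
    · exact map_mem_smul_top _ _ (Submodule.smul_mono_left hle (ih _ _))
    · exact map_mem_smul_top _ _ (Submodule.smul_mono_left hle (ih _ _))

end Kos

end Groth.Agent.Lib.Helper27.KRel
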