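import Mathlib
import Groth.Prelude.Def_LCI2
import Groth.Agent.Lib.Helper27.KoszulRel

/-! Koszul-regular sequences: explicit low-degree description and relations. -/

set_option autoImplicit false

namespace Groth.Agent.Lib.Helper27.KRel
open CategoryTheory CategoryTheory.Limits CochainComplex HomComplex

universe u

section Data
variable (A : Type u) [CommRing A]

/-- Low-degree data of the Koszul complex. -/
def HasData (l : List A) (r : ℕ) (g : Fin r → A) : Prop :=
  ∃ (ι : A →ₗ[A] (Koszul.koszul A l).X 0) (κ : (Koszul.koszul A l).X 0 →ₗ[A] A)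
    (e : (Fin r → A) →ₗ[A] (Koszul.koszul A l).X (-1))
    (ρ : (Koszul.koszul A l).X (-1) →ₗ[A] (Fin r → A)),
    (∀ a, κ (ι a) = a) ∧ (∀ a, ((Koszul.koszul A l).d 0 1).hom (ι a) = 0) ∧
    (∀ a, ρ (e a) = a) ∧
    ∀ a, ((Koszul.koszul A l).d (-1) 0).hom (e a) = ι (∑ i, a i * g i)

theorem hasData_nil (g : Fin 0 → A) : HasData A [] 0 g := by
  let E := HomologicalComplex.singleObjXSelf (ComplexShape.up ℤ) (0 : ℤ) (ModuleCat.of A A)
  have hd : ∀ n m : ℤ, (Koszul.koszul A []).d n m = 0 := by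
    intro n m
    show ((CochainComplex.singleFunctor (ModuleCat.{u} A) 0).obj (ModuleCat.of A A)).d n m = 0
    exact HomologicalComplex.single_obj_d _ _ _ _ _
  refine ⟨E.inv.hom, E.hom.hom, 0, 0, ?_, ?_, ?_, ?_⟩
  · intro a
    have : (E.inv ≫ E.hom).hom a = a := by rw [E.inv_hom_id]; rfl
    exact this
  · intro a
    rw [hd]; rfl
  · intro a
    exact Subsingleton.elim _ _
  · intro a
    rw [hd, Finset.univ_eq_empty, Finset.sum_empty, map_zero]
    rfl

theorem hasData_cons (f : A) (l : List A) (r : ℕ) (g : Fin r → A) (h : HasData A l r g) :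
    HasData A (f :: l) (r + 1) (Fin.cons f g) := by
  obtain ⟨ι, κ, e, ρ, h1, h2, h3, h4⟩ := h
  let φ : Koszul.koszul A l ⟶ Koszul.koszul A l := f • 𝟙 (Koszul.koszul A l)
  have hφ : ∀ (n : ℤ) (x : (Koszul.koszul A l).X n), (φ.f n).hom x = f • x := by
    intro n x
    simp [φ]
  let inl0 : (Koszul.koszul A l).X 0 →ₗ[A] (mappingCone φ).X (-1) :=
    ((mappingCone.inl φ).v 0 (-1) (by omega)).hom
  let inr0 : (Koszul.koszul A l).X 0 →ₗ[A] (mappingCone φ).X 0 := ((mappingCone.inr φ).f 0).hom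
  let inr1 : (Koszul.koszul A l).X (-1) →ₗ[A] (mappingCone φ).X (-1) :=
    ((mappingCone.inr φ).f (-1)).hom
  let fst1 : (mappingCone φ).X (-1) →ₗ[A] (Koszul.koszul A l).X 0 :=
    ((mappingCone.fst φ).1.v (-1) 0 (by omega)).hom
  let snd1 : (mappingCone φ).X (-1) →ₗ[A] (Koszul.koszul A l).X (-1) :=
    ((mappingCone.snd φ).v (-1) (-1) (add_zero _)).hom
  let snd0 : (mappingCone φ).X 0 →ₗ[A] (Koszul.koszul A l).X 0 :=
    ((mappingCone.snd φ).v 0 0 (add_zero _)).hom
  let e' : (Fin (r + 1) → A) →ₗ[A] (mappingCone φ).X (-1) :=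
    inl0 ∘ₗ ι ∘ₗ (LinearMap.proj 0) + inr1 ∘ₗ e ∘ₗ (LinearMap.funLeft A A Fin.succ)
  let ρ' : (mappingCone φ).X (-1) →ₗ[A] (Fin (r + 1) → A) :=
    { toFun := fun z => Fin.cons (κ (fst1 z)) (ρ (snd1 z))
      map_add' := by
        intro x y
        ext i
        refine Fin.cases ?_ (fun j => ?_) i <;> simp
      map_smul' := by
        intro c x
        ext i
        refine Fin.cases ?_ (fun j => ?_) i <;> simp }
  refine ⟨inr0 ∘ₗ ι, κ ∘ₗ snd0, e', ρ', ?_, ?_, ?_, ?_⟩
  · intro a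
    show κ (snd0 (inr0 (ι a))) = a
    rw [show snd0 (inr0 (ι a)) = ι a from snd_inr φ 0 (ι a), h1]
  · intro a
    show ((mappingCone φ).d 0 1).hom (inr0 (ι a)) = 0
    rw [show ((mappingCone φ).d 0 1).hom (inr0 (ι a)) =
      ((mappingCone.inr φ).f 1).hom (((Koszul.koszul A l).d 0 1).hom (ι a)) from d_inr φ 0 1 (ι a),
      h2, map_zero]
  · intro a
    show (Fin.cons (κ (fst1 (e' a))) (ρ (snd1 (e' a))) : Fin (r + 1) → A) = a
    have hf : fst1 (e' a) = ι (a 0) := by
      show fst1 (inl0 (ι (a 0)) + inr1 (e (a ∘ Fin.succ))) = ι (a 0)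
      rw [map_add, show fst1 (inl0 (ι (a 0))) = ι (a 0) from fst_inl φ (-1) 0 (by omega) _,
        show fst1 (inr1 (e (a ∘ Fin.succ))) = 0 from fst_inr φ (-1) 0 (by omega) _, add_zero]
    have hs : snd1 (e' a) = e (a ∘ Fin.succ) := by
      show snd1 (inl0 (ι (a 0)) + inr1 (e (a ∘ Fin.succ))) = e (a ∘ Fin.succ)
      rw [map_add, show snd1 (inl0 (ι (a 0))) = 0 from snd_inl φ (-1) 0 (by omega) _,
        show snd1 (inr1 (e (a ∘ Fin.succ))) = e (a ∘ Fin.succ) from snd_inr φ (-1) _, zero_add]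
    rw [hf, hs, h1, h3]
    ext i
    refine Fin.cases ?_ (fun j => ?_) i <;> simp
  · intro a
    show ((mappingCone φ).d (-1) 0).hom (inl0 (ι (a 0)) + inr1 (e (a ∘ Fin.succ))) =
      inr0 (ι (∑ i, a i * (Fin.cons f g : Fin (r + 1) → A) i))
    rw [map_add,
      show ((mappingCone φ).d (-1) 0).hom (inl0 (ι (a 0))) =
        ((mappingCone.inr φ).f 0).hom ((φ.f 0).hom (ι (a 0))) -
          ((mappingCone.inl φ).v 1 0 (by omega)).hom (((Koszul.koszul A l).d 0 1).hom (ι (a 0)))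
        from d_inl φ (-1) 0 1 (by omega) (by omega) _,
      show ((mappingCone φ).d (-1) 0).hom (inr1 (e (a ∘ Fin.succ))) =
        ((mappingCone.inr φ).f 0).hom (((Koszul.koszul A l).d (-1) 0).hom (e (a ∘ Fin.succ)))
        from d_inr φ (-1) 0 _,
      h2, map_zero, sub_zero, h4, hφ, ← map_smul, ← map_add, ← map_add,
      Fin.sum_univ_succ]
    show inr0 (ι _) = inr0 (ι _)
    congr 2
    simp only [Fin.cons_zero, Fin.cons_succ, Function.comp_apply, smul_eq_mul]
    ring

theorem hasData_ofFn : ∀ (r : ℕ) (g : Fin r → A), HasData A (List.ofFn g) r g := by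
  intro r
  induction r with
  | zero =>
    intro g
    rw [List.ofFn_zero]
    exact hasData_nil A g
  | succ r ih =>
    intro g
    rw [List.ofFn_succ]
    have := hasData_cons A (g 0) _ r (fun i => g i.succ) (ih _)
    rwa [show (Fin.cons (g 0) (fun i => g i.succ) : Fin (r + 1) → A) = g from
      Fin.cons_self_tail g] at this

/-- Relations among a Koszul-regular sequence have coefficients in the ideal. -/
theorem rel_mem {r : ℕ} (g : Fin r → A) (hreg : LCI.IsKoszulRegularSeq A (List.ofFn g))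
    (a : Fin r → A) (ha : ∑ i, a i * g i = 0) (i : Fin r) :
    a i ∈ Ideal.span (Set.range g) := by
  obtain ⟨ι, κ, e, ρ, h1, h2, h3, h4⟩ := hasData_ofFn A r g
  have hex := (UCT.isZero_iff_exact (Koszul.koszul A (List.ofFn g)) (-2) (-1) 0 (by norm_num)
    (by norm_num)).mp (hreg (-1) (by norm_num))
  have hker : ((Koszul.koszul A (List.ofFn g)).d (-1) 0).hom (e a) = 0 := by
    rw [h4, ha, map_zero]
  obtain ⟨y, hy⟩ := (hex _).mp hker
  have hmem : e a ∈ Ideal.ofList (List.ofFn g) •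
      (⊤ : Submodule A ((Koszul.koszul A (List.ofFn g)).X (-1))) := by
    rw [← hy]
    exact d_mem A (List.ofFn g) (-2) y
  have hmem2 := map_mem_smul_top _ ρ hmem
  rw [h3] at hmem2
  have hI : Ideal.ofList (List.ofFn g) = Ideal.span (Set.range g) := by
    unfold Ideal.ofList
    congr 1
    ext x
    simp [List.mem_ofFn]
  rw [← hI]
  exact mem_of_mem_smul_top_pi _ hmem2 i

end Data

end Groth.Agent.Lib.Helper27.KRel
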