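import Groth.Agent.Lib.Helper27.FunFld4
import Groth.Agent.Lib.Helper23.FF2b

/-! Function fields of one variable (helper27), part 7: `L(D)` is finite-dimensional (S10976) and
`dim (A(D₂)+K)/(A(D₁)+K)` (S10979), on top of helper23's `FF2`/`FF2b`. -/

set_option autoImplicit false

namespace Groth.Agent.Lib.Helper27.FF

open FunFld Polynomial

universe u v

variable {k : Type u} {K : Type v} [Field k] [Field K] [Algebra k K]

theorem L_zero (hK : IsFunctionField k K) : L (0 : Divisor k K) = 1 := by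
  ext x
  rw [Submodule.mem_one]
  constructor
  · intro hx
    by_contra hnot
    have hxt : Transcendental k x := transcendental_of_not_mem_range hK hnot
    obtain ⟨Q, hQ⟩ := exists_place_one_lt_val hK hxt
    have := hx Q
    rw [Finsupp.zero_apply, WithZero.exp_zero] at this
    exact absurd this (not_le.mpr hQ)
  · rintro ⟨c, rfl⟩ P
    rw [Finsupp.zero_apply, WithZero.exp_zero]
    exact P.2.1 c

theorem L_mono {D₁ D₂ : Divisor k K} (h : D₁ ≤ D₂) : L D₁ ≤ L D₂ :=
  Groth.Agent.Lib.Helper23.FF.L_mono h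

/-- If `L(D₁)` is finite-dimensional and `D₁ ≤ D₂` then `L(D₂)` is finite-dimensional. -/
theorem finiteDimensional_L_of_le (hK : IsFunctionField k K) {D₁ D₂ : Divisor k K} (h : D₁ ≤ D₂)
    (h1 : FiniteDimensional k (L D₁)) : FiniteDimensional k (L D₂) := by
  obtain ⟨-, hfin, -⟩ := Groth.Agent.Lib.Helper23.FF.finrank_AD_quotient hK D₁ D₂ h
  let f := Groth.Agent.Lib.Helper23.FF.LtoQAD D₁ D₂
  have hker : LinearMap.ker f = Submodule.comap (L D₂).subtype (L D₁) :=
    Groth.Agent.Lib.Helper23.FF.LtoQAD_ker D₁ D₂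
  have hk : Module.Finite k ↥(LinearMap.ker f) := by
    rw [hker]
    exact Module.Finite.equiv (Submodule.comapSubtypeEquivOfLe (L_mono h)).symm
  have hq : Module.Finite k (↥(L D₂) ⧸ LinearMap.ker f) := by
    haveI : Module.Finite k (Groth.Agent.Lib.Helper23.FF.QAD D₁ D₂) := hfin
    exact Module.Finite.of_injective ((LinearMap.ker f).liftQ f le_rfl)
      (LinearMap.ker_eq_bot.mp (Submodule.ker_liftQ_eq_bot _ _ _ le_rfl))
  exact Module.Finite.of_submodule_quotient (LinearMap.ker f)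

/-- S10976. -/
theorem finiteDimensional_L (hK : IsFunctionField k K) (D : Divisor k K) :
    FiniteDimensional k (L D) := by
  have h0 : FiniteDimensional k (L (0 : Divisor k K)) := by
    rw [L_zero hK, Submodule.one_eq_span]
    infer_instance
  have h1 : FiniteDimensional k (L (D ⊔ 0)) := finiteDimensional_L_of_le hK le_sup_right h0
  exact Submodule.finiteDimensional_of_le (L_mono (le_sup_left : D ≤ D ⊔ 0))

/-- `ℓ(D₂) - ℓ(D₁)` is the rank of `L(D₂) → A(D₂)/A(D₁)`. -/
theorem finrank_range_LtoQAD (hK : IsFunctionField k K) {D₁ D₂ : Divisor k K} (h : D₁ ≤ D₂) :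
    (Module.finrank k (LinearMap.range (Groth.Agent.Lib.Helper23.FF.LtoQAD D₁ D₂)) : ℤ) =
      (ell D₂ : ℤ) - ell D₁ := by
  haveI := finiteDimensional_L hK D₂
  have h1 := LinearMap.finrank_range_add_finrank_ker (Groth.Agent.Lib.Helper23.FF.LtoQAD D₁ D₂)
  rw [Groth.Agent.Lib.Helper23.FF.LtoQAD_ker] at h1
  have h2 : Module.finrank k ↥(Submodule.comap (L D₂).subtype (L D₁)) = ell D₁ :=
    (Submodule.comapSubtypeEquivOfLe (L_mono h)).finrank_eq
  rw [h2] at h1
  unfold ell at *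
  omega

/-- The canonical map `A(D₂)/A(D₁) → (A(D₂)+K)/(A(D₁)+K)`. -/
noncomputable def QADtoQADK (D₁ D₂ : Divisor k K) (h : D₁ ≤ D₂) :
    Groth.Agent.Lib.Helper23.FF.QAD D₁ D₂ →ₗ[k]
      (↥(AD D₂ ⊔ LinearMap.range (diag k K)) ⧸
        Submodule.comap (AD D₂ ⊔ LinearMap.range (diag k K)).subtype
          (AD D₁ ⊔ LinearMap.range (diag k K))) :=
  Submodule.mapQ _ _ (Submodule.inclusion (le_sup_left : AD D₂ ≤ AD D₂ ⊔ LinearMap.range (diag k K)))
    (by
      intro a ha
      rw [Submodule.mem_comap] at ha ⊢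
      exact Submodule.mem_sup_left ha)

theorem QADtoQADK_surjective (D₁ D₂ : Divisor k K) (h : D₁ ≤ D₂) :
    Function.Surjective (QADtoQADK D₁ D₂ h) := by
  intro t
  obtain ⟨⟨a, ha⟩, rfl⟩ := Submodule.Quotient.mk_surjective _ t
  obtain ⟨b, hb, z, ⟨y, rfl⟩, hbz⟩ := Submodule.mem_sup.mp ha
  refine ⟨Submodule.Quotient.mk ⟨b, hb⟩, ?_⟩
  show Submodule.Quotient.mk _ = Submodule.Quotient.mk _
  rw [Submodule.Quotient.eq, Submodule.mem_comap]
  show b - a ∈ _
  have : b - a = -(diag k K y) := by rw [← hbz]; abel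
  rw [this]
  exact Submodule.mem_sup_right (Submodule.neg_mem _ ⟨y, rfl⟩)

theorem QADtoQADK_ker (D₁ D₂ : Divisor k K) (h : D₁ ≤ D₂) :
    LinearMap.ker (QADtoQADK D₁ D₂ h) =
      LinearMap.range (Groth.Agent.Lib.Helper23.FF.LtoQAD D₁ D₂) := by
  apply le_antisymm
  · intro q hq
    obtain ⟨⟨a, ha⟩, rfl⟩ := Submodule.Quotient.mk_surjective _ q
    rw [LinearMap.mem_ker] at hq
    have hq' : (Submodule.Quotient.mk (⟨a, Submodule.mem_sup_left ha⟩ :
        ↥(AD D₂ ⊔ LinearMap.range (diag k K))) :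
        ↥(AD D₂ ⊔ LinearMap.range (diag k K)) ⧸
        Submodule.comap (AD D₂ ⊔ LinearMap.range (diag k K)).subtype
          (AD D₁ ⊔ LinearMap.range (diag k K))) = 0 := hq
    rw [Submodule.Quotient.mk_eq_zero, Submodule.mem_comap] at hq'
    obtain ⟨b, hb, z, ⟨y, rfl⟩, hbz⟩ := Submodule.mem_sup.mp hq'
    have hbz' : b + diag k K y = a := hbz
    -- y ∈ L D₂
    have hy : y ∈ L D₂ := by
      intro P
      have h1 : diag k K y = a - b := by rw [← hbz']; abel
      have h2 : P.1 (diag k K y P) ≤ WithZero.exp (D₂ P) := by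
        rw [h1]
        exact (AD D₂).sub_mem ha (AD_mono h hb) P
      exact h2
    refine ⟨⟨y, hy⟩, ?_⟩
    show Submodule.Quotient.mk _ = Submodule.Quotient.mk _
    rw [Submodule.Quotient.eq, Submodule.mem_comap]
    show diag k K y - a ∈ AD D₁
    have : diag k K y - a = -b := by rw [← hbz']; abel
    rw [this]
    exact Submodule.neg_mem _ hb
  · rintro _ ⟨⟨y, hy⟩, rfl⟩
    rw [LinearMap.mem_ker]
    show Submodule.Quotient.mk _ = 0
    rw [Submodule.Quotient.mk_eq_zero, Submodule.mem_comap]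
    exact Submodule.mem_sup_right ⟨y, rfl⟩

/-- S10979. -/
theorem finrank_ADK_quotient (hK : IsFunctionField k K) (D₁ D₂ : Divisor k K) (h : D₁ ≤ D₂) :
    FiniteDimensional k (↥(AD D₂ ⊔ LinearMap.range (diag k K)) ⧸
        Submodule.comap (AD D₂ ⊔ LinearMap.range (diag k K)).subtype
          (AD D₁ ⊔ LinearMap.range (diag k K))) ∧
    (Module.finrank k (↥(AD D₂ ⊔ LinearMap.range (diag k K)) ⧸
        Submodule.comap (AD D₂ ⊔ LinearMap.range (diag k K)).subtype
          (AD D₁ ⊔ LinearMap.range (diag k K))) : ℤ) =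
      (D₂.deg + 1 - ell D₂) - (D₁.deg + 1 - ell D₁) := by
  obtain ⟨-, hfin, hrank⟩ := Groth.Agent.Lib.Helper23.FF.finrank_AD_quotient hK D₁ D₂ h
  haveI : FiniteDimensional k (Groth.Agent.Lib.Helper23.FF.QAD D₁ D₂) := hfin
  have hsurj := QADtoQADK_surjective D₁ D₂ h
  have hfd : FiniteDimensional k (↥(AD D₂ ⊔ LinearMap.range (diag k K)) ⧸
        Submodule.comap (AD D₂ ⊔ LinearMap.range (diag k K)).subtype
          (AD D₁ ⊔ LinearMap.range (diag k K))) :=
    Module.Finite.of_surjective (QADtoQADK D₁ D₂ h) hsurj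
  refine ⟨hfd, ?_⟩
  have h1 := LinearMap.finrank_range_add_finrank_ker (QADtoQADK D₁ D₂ h)
  rw [LinearMap.range_eq_top.mpr hsurj, finrank_top, QADtoQADK_ker] at h1
  have h2 := finrank_range_LtoQAD hK h
  have hrank' : (Module.finrank k (Groth.Agent.Lib.Helper23.FF.QAD D₁ D₂) : ℤ) =
      D₂.deg - D₁.deg := hrank
  have h3 : (Module.finrank k (↥(AD D₂ ⊔ LinearMap.range (diag k K)) ⧸
        Submodule.comap (AD D₂ ⊔ LinearMap.range (diag k K)).subtype
          (AD D₁ ⊔ LinearMap.range (diag k K))) : ℤ) +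
      Module.finrank k (LinearMap.range (Groth.Agent.Lib.Helper23.FF.LtoQAD D₁ D₂)) =
      Module.finrank k (Groth.Agent.Lib.Helper23.FF.QAD D₁ D₂) := by exact_mod_cast h1
  rw [h2, hrank'] at h3
  linarith

end Groth.Agent.Lib.Helper27.FF
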