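import Groth.Agent.Lib.Helper27.FunFld5

/-! Function fields of one variable (helper27), part 6: `dim_K W = 1`, duality, Riemann–Roch. -/

set_option autoImplicit false

namespace Groth.Agent.Lib.Helper27.FF

open FunFld Polynomial

universe u v

variable {k : Type u} {K : Type v} [Field k] [Field K] [Algebra k K]

theorem exists_ne_zero_of_finrank_pos {V : Type*} [AddCommGroup V] [Module k V]
    (S : Submodule k V) (h : 0 < Module.finrank k S) : ∃ x ∈ S, x ≠ 0 := by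
  by_contra hcon
  push Not at hcon
  have : S = ⊥ := (Submodule.eq_bot_iff S).mpr hcon
  rw [this, finrank_bot] at h
  exact lt_irrefl _ h

namespace Core

variable (C : Core k K)

include C in
theorem ell_eq_zero_of_deg_neg {D : Divisor k K} (h : D.deg < 0) : ell D = 0 := by
  unfold ell
  rw [C.L_neg D h]
  exact finrank_bot k K

include C in
theorem riemann_ineq (D : Divisor k K) : D.deg + 1 - (genus k K : ℤ) ≤ ell D := by
  have := C.riemann.1 D
  linarith

include C in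
/-- The image of `L(E)` under `x ↦ x ω` has dimension `ℓ(E)`. -/
theorem finrank_map_mulWₗ {ω : Module.Dual k (adele k K)} (hω : ω ≠ 0) (E : Divisor k K) :
    Module.finrank k ((L E).map (C.mulWₗ ω)) = ell E :=
  (Submodule.equivMapOfInjective (C.mulWₗ ω) (C.mulWₗ_injective hω) (L E)).symm.finrank_eq

include C in
/-- `dim_K W = 1` (S10988). -/
theorem exists_mulW_eq {ω₁ ω₂ : Module.Dual k (adele k K)} (h₁ : IsWeil ω₁) (h0 : ω₁ ≠ 0)
    (h₂ : IsWeil ω₂) : ∃ x : K, mulW x (C.hmul x) ω₁ = ω₂ := by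
  by_cases h20 : ω₂ = 0
  · exact ⟨0, by rw [h20]; exact mulW_zero_left _ _⟩
  obtain ⟨C₁, hC₁⟩ := h₁
  obtain ⟨C₂, hC₂⟩ := h₂
  set g : ℤ := (genus k K : ℤ) with hg
  obtain ⟨B, hB0, hBdeg⟩ := C.exists_large (0 : Divisor k K)
    (max 1 (3 * g - 2 - C₁.deg - C₂.deg))
  have hB1 : 1 ≤ B.deg := (le_max_left _ _).trans hBdeg
  have hB2 : 3 * g - 2 - C₁.deg - C₂.deg ≤ B.deg := (le_max_right _ _).trans hBdeg
  -- the target space
  obtain ⟨hfdW, hfrW⟩ := C.finrank_WD (-B)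
  have hellB : ell (-B) = 0 := C.ell_eq_zero_of_deg_neg (by rw [deg_neg]; linarith)
  rw [hellB, deg_neg] at hfrW
  let R₁ := (L (C₁ + B)).map (C.mulWₗ ω₁)
  let R₂ := (L (C₂ + B)).map (C.mulWₗ ω₂)
  have hR₁ : R₁ ≤ WD (-B) := by
    rintro _ ⟨x, hx, rfl⟩
    have := mulW_mem_WD C₁ (C₁ + B) x hx (C.hmul x) ω₁ hC₁
    rwa [sub_add_cancel_left] at this
  have hR₂ : R₂ ≤ WD (-B) := by
    rintro _ ⟨x, hx, rfl⟩
    have := mulW_mem_WD C₂ (C₂ + B) x hx (C.hmul x) ω₂ hC₂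
    rwa [sub_add_cancel_left] at this
  have hfd₁ : FiniteDimensional k R₁ := Submodule.finiteDimensional_of_le hR₁
  have hfd₂ : FiniteDimensional k R₂ := Submodule.finiteDimensional_of_le hR₂
  have hdim₁ : Module.finrank k R₁ = ell (C₁ + B) := C.finrank_map_mulWₗ h0 _
  have hdim₂ : Module.finrank k R₂ = ell (C₂ + B) := C.finrank_map_mulWₗ h20 _
  have hsum := Submodule.finrank_sup_add_finrank_inf_eq R₁ R₂
  have hle : Module.finrank k ↥(R₁ ⊔ R₂) ≤ Module.finrank k (WD (-B)) :=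
    Submodule.finrank_mono (sup_le hR₁ hR₂)
  have hr₁ := C.riemann_ineq (C₁ + B)
  have hr₂ := C.riemann_ineq (C₂ + B)
  rw [deg_add] at hr₁ hr₂
  have hpos : 0 < Module.finrank k ↥(R₁ ⊓ R₂) := by
    have h1 : (Module.finrank k ↥(R₁ ⊔ R₂) : ℤ) + Module.finrank k ↥(R₁ ⊓ R₂) =
        (ell (C₁ + B) : ℤ) + ell (C₂ + B) := by
      rw [← hdim₁, ← hdim₂]; exact_mod_cast hsum
    have h2 : (Module.finrank k ↥(R₁ ⊔ R₂) : ℤ) ≤ Module.finrank k (WD (-B)) := by
      exact_mod_cast hle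
    have h3 : (0 : ℤ) < Module.finrank k ↥(R₁ ⊓ R₂) := by
      rw [hfrW] at h2
      simp only [Nat.cast_zero, sub_zero] at h2
      linarith
    exact_mod_cast h3
  obtain ⟨η, hηmem, hη0'⟩ := exists_ne_zero_of_finrank_pos _ hpos
  obtain ⟨⟨x₁, hx₁, hx₁η⟩, ⟨x₂, hx₂, hx₂η⟩⟩ := Submodule.mem_inf.mp hηmem
  have hx₂0 : x₂ ≠ 0 := by
    rintro rfl
    apply hη0'
    rw [← hx₂η, map_zero]
  refine ⟨x₁ * x₂⁻¹, ?_⟩
  have e1 : mulW x₁ (C.hmul x₁) ω₁ = mulW x₂ (C.hmul x₂) ω₂ := by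
    have a1 : C.mulWₗ ω₁ x₁ = η := hx₁η
    have a2 : C.mulWₗ ω₂ x₂ = η := hx₂η
    rw [← C.mulWₗ_apply, ← C.mulWₗ_apply, a1, a2]
  have e2 := mulW_mulW x₂⁻¹ x₁ (C.hmul x₂⁻¹) (C.hmul x₁) (C.hmul (x₁ * x₂⁻¹)) ω₁
  rw [← e2, e1, mulW_mulW x₂⁻¹ x₂ (C.hmul x₂⁻¹) (C.hmul x₂) (C.hmul (x₂ * x₂⁻¹))]
  have h3 := mulW_one (C.hmul 1) ω₂
  have : x₂ * x₂⁻¹ = 1 := mul_inv_cancel₀ hx₂0
  convert h3

include C in
theorem isWeil_of_isDivOf {ω : Module.Dual k (adele k K)} {D : Divisor k K} (h : IsDivOf ω D) :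
    IsWeil ω := ⟨D, (h D).mpr le_rfl⟩

include C in
/-- Duality (S10991). -/
theorem existsUnique_mulW {ω : Module.Dual k (adele k K)} {W : Divisor k K} (hω : IsDivOf ω W)
    (D : Divisor k K) {ω' : Module.Dual k (adele k K)} (hω' : ω' ∈ WD D) :
    ∃! x : K, x ∈ L (W - D) ∧ mulW x (C.hmul x) ω = ω' := by
  have hω0 := C.ne_zero_of_isDivOf hω
  obtain ⟨x, hx⟩ := C.exists_mulW_eq (C.isWeil_of_isDivOf hω) hω0 ⟨D, hω'⟩
  refine ⟨x, ⟨?_, hx⟩, ?_⟩
  · by_cases hx0 : x = 0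
    · rw [hx0]; exact Submodule.zero_mem _
    · have hdiv := C.isDivOf_mulW hx0 hω (C.hmul x)
      rw [hx] at hdiv
      have hle := (hdiv D).mp hω'
      intro P
      rw [C.val_eq_exp_neg_div hx0, WithZero.exp_le_exp]
      have := hle P
      rw [Finsupp.add_apply] at this
      rw [Finsupp.sub_apply]
      linarith
  · rintro y ⟨-, hy⟩
    apply C.mulWₗ_injective hω0
    rw [C.mulWₗ_apply, C.mulWₗ_apply, hx, hy]

include C in
theorem map_mulWₗ_eq_WD {ω : Module.Dual k (adele k K)} {W : Divisor k K} (hω : IsDivOf ω W)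
    (D : Divisor k K) : (L (W - D)).map (C.mulWₗ ω) = WD D := by
  apply le_antisymm
  · rintro _ ⟨x, hx, rfl⟩
    have := mulW_mem_WD W (W - D) x hx (C.hmul x) ω ((hω W).mpr le_rfl)
    rwa [sub_sub_cancel] at this
  · intro ω' hω'
    obtain ⟨x, ⟨hx, hx'⟩, -⟩ := C.existsUnique_mulW hω D hω'
    exact ⟨x, hx, hx'⟩

include C in
/-- Riemann–Roch (S10990). -/
theorem riemann_roch {W : Divisor k K} (hW : IsCanonical k K W) (D : Divisor k K) :
    (ell D : ℤ) = D.deg + 1 - genus k K + ell (W - D) := by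
  obtain ⟨ω, hω0, hω⟩ := hW
  obtain ⟨-, hfr⟩ := C.finrank_WD D
  have h1 : Module.finrank k (WD D) = ell (W - D) := by
    rw [← C.map_mulWₗ_eq_WD hω D]
    exact C.finrank_map_mulWₗ hω0 _
  rw [h1] at hfr
  linarith

include C in
theorem ell_zero : ell (0 : Divisor k K) = 1 := by
  unfold ell
  rw [C.L_zero, Submodule.one_eq_span]
  exact finrank_span_singleton one_ne_zero

include C in
/-- A canonical divisor exists. -/
theorem exists_isCanonical : ∃ W : Divisor k K, IsCanonical k K W := by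
  obtain ⟨P₀⟩ := C.exists_place
  have hdeg : (1 : ℤ) ≤ (P₀.deg : ℤ) := by exact_mod_cast C.one_le_deg P₀
  let E : Divisor k K := Finsupp.single P₀ (-2)
  have hE : E.deg ≤ -2 := by
    rw [deg_single]; nlinarith
  obtain ⟨hfd, hfr⟩ := C.finrank_WD E
  rw [C.ell_eq_zero_of_deg_neg (by linarith)] at hfr
  have hpos : 0 < Module.finrank k (WD E) := by
    have : (0 : ℤ) < Module.finrank k (WD E) := by
      rw [hfr]
      have : (0 : ℤ) ≤ genus k K := Int.natCast_nonneg _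
      simp only [Nat.cast_zero, sub_zero]
      linarith
    exact_mod_cast this
  obtain ⟨η, hηmem, hη0'⟩ := exists_ne_zero_of_finrank_pos _ hpos
  obtain ⟨W, hW⟩ := C.exists_isDivOf ⟨E, hηmem⟩ hη0'
  exact ⟨W, η, hη0', hW⟩

include C in
theorem ell_canonical {W : Divisor k K} (hW : IsCanonical k K W) : ell W = genus k K := by
  have h := C.riemann_roch hW 0
  rw [C.ell_zero, deg_zero, sub_zero] at h
  have : (ell W : ℤ) = genus k K := by push_cast at h; linarith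
  exact_mod_cast this

include C in
theorem deg_canonical {W : Divisor k K} (hW : IsCanonical k K W) :
    W.deg = 2 * (genus k K : ℤ) - 2 := by
  have h := C.riemann_roch hW W
  rw [sub_self, C.ell_zero, C.ell_canonical hW] at h
  push_cast at h
  linarith

include C in
/-- Two canonical divisors are linearly equivalent (S10989). -/
theorem canonical_equiv {W₁ W₂ : Divisor k K} (h₁ : IsCanonical k K W₁)
    (h₂ : IsCanonical k K W₂) : ∃ x : K, x ≠ 0 ∧ W₂ = W₁ + FunFld.div k x := by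
  obtain ⟨ω₁, hω₁0, hω₁⟩ := h₁
  obtain ⟨ω₂, hω₂0, hω₂⟩ := h₂
  obtain ⟨x, hx⟩ := C.exists_mulW_eq (C.isWeil_of_isDivOf hω₁) hω₁0 (C.isWeil_of_isDivOf hω₂)
  have hx0 : x ≠ 0 := by
    rintro rfl
    apply hω₂0
    rw [← hx]; exact mulW_zero_left _ _
  refine ⟨x, hx0, ?_⟩
  have := C.isDivOf_mulW hx0 hω₁ (C.hmul x)
  rw [hx] at this
  exact isDivOf_unique hω₂ this

include C in
/-- `L(D) ≠ ⊥` gives a nonzero element. -/
theorem exists_ne_zero_of_ell_pos {D : Divisor k K} (h : 0 < ell D) :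
    ∃ x : K, x ≠ 0 ∧ x ∈ L D := by
  obtain ⟨y, hy, hy0⟩ := exists_ne_zero_of_finrank_pos _ h
  exact ⟨y, hy0, hy⟩

include C in
theorem le_div_of_mem_L {D : Divisor k K} {x : K} (hx0 : x ≠ 0) (hx : x ∈ L D) :
    0 ≤ D + FunFld.div k x := by
  intro P
  have := hx P
  rw [C.val_eq_exp_neg_div hx0, WithZero.exp_le_exp] at this
  rw [Finsupp.add_apply]
  show (0 : ℤ) ≤ _
  linarith

include C in
/-- Characterisation of canonical divisors (S10992). -/
theorem isCanonical_iff (D : Divisor k K) :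
    IsCanonical k K D ↔ (ell D = genus k K ∧ D.deg = 2 * (genus k K : ℤ) - 2) := by
  constructor
  · intro h
    exact ⟨C.ell_canonical h, C.deg_canonical h⟩
  · rintro ⟨h1, h2⟩
    obtain ⟨W, hW⟩ := C.exists_isCanonical
    have hrr := C.riemann_roch hW D
    rw [h1, h2] at hrr
    have hell : ell (W - D) = 1 := by
      have : (ell (W - D) : ℤ) = 1 := by linarith
      exact_mod_cast this
    obtain ⟨x, hx0, hx⟩ := C.exists_ne_zero_of_ell_pos (D := W - D) (by omega)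
    have hnn := C.le_div_of_mem_L hx0 hx
    have hdeg0 : (W - D + FunFld.div k x).deg = 0 := by
      rw [deg_add, deg_sub, C.deg_div, C.deg_canonical hW, h2]; ring
    have hzero := eq_zero_of_nonneg_of_deg_eq_zero C.one_le_deg hnn hdeg0
    have hD : D = W + FunFld.div k x := by
      have : W - D + FunFld.div k x = 0 := hzero
      have h3 : W + FunFld.div k x - D = 0 := by rw [← this]; abel
      exact (sub_eq_zero.mp h3).symm
    obtain ⟨ω, hω0, hω⟩ := hW
    refine ⟨mulW x (C.hmul x) ω, ?_, ?_⟩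
    · intro h
      exact hx0 (C.mulW_eq_zero hω0 h)
    · rw [hD]
      exact C.isDivOf_mulW hx0 hω (C.hmul x)

include C in
/-- `ℓ(D) = deg D + 1 - g` for `deg D ≥ 2g - 1` (S10993). -/
theorem ell_eq_of_deg_ge {D : Divisor k K} (h : 2 * (genus k K : ℤ) - 1 ≤ D.deg) :
    (ell D : ℤ) = D.deg + 1 - genus k K := by
  obtain ⟨W, hW⟩ := C.exists_isCanonical
  have hrr := C.riemann_roch hW D
  have hneg : (W - D).deg < 0 := by
    rw [deg_sub, C.deg_canonical hW]; linarith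
  rw [C.ell_eq_zero_of_deg_neg hneg] at hrr
  simpa using hrr

end Core

end Groth.Agent.Lib.Helper27.FF
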