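import Groth.Agent.Lib.Helper27.FunFld1

/-! Function fields of one variable (helper27), part 2: valuation subrings of `K/k` are discrete;
existence of zeros and poles. -/

set_option autoImplicit false

namespace Groth.Agent.Lib.Helper27.FF

open FunFld Polynomial

universe u v

variable {k : Type u} {K : Type v} [Field k] [Field K] [Algebra k K]

section GeneralValuation

variable {Γ : Type*} [LinearOrderedCommGroupWithZero Γ] (w : Valuation K Γ)

theorem w_const (hw : ∀ c : k, w (algebraMap k K c) ≤ 1) {c : k} (hc : c ≠ 0) :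
    w (algebraMap k K c) = 1 := by
  apply le_antisymm (hw c)
  have h1 : w (algebraMap k K c) * w (algebraMap k K c⁻¹) = 1 := by
    rw [← map_mul, ← map_mul, mul_inv_cancel₀ hc, map_one, map_one]
  by_contra hlt
  rw [not_le] at hlt
  have h2 := hw c⁻¹
  have : w (algebraMap k K c) * w (algebraMap k K c⁻¹) < 1 := by
    calc w (algebraMap k K c) * w (algebraMap k K c⁻¹)
        ≤ w (algebraMap k K c) * 1 := mul_le_mul' le_rfl h2
      _ = w (algebraMap k K c) := mul_one _
      _ < 1 := hlt
  rw [h1] at this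
  exact lt_irrefl _ this

theorem w_aeval_le_one (hw : ∀ c : k, w (algebraMap k K c) ≤ 1) {x : K} (hx : w x ≤ 1)
    (p : k[X]) : w (aeval x p) ≤ 1 := by
  rw [aeval_eq_sum_range]
  apply w.map_sum_le
  intro i _
  rw [Algebra.smul_def, map_mul, map_pow]
  calc w (algebraMap k K (p.coeff i)) * w x ^ i ≤ 1 * 1 :=
        mul_le_mul' (hw _) (pow_le_one' hx i)
    _ = 1 := one_mul 1

theorem aeval_eq_coeff_zero_add (x : K) (p : k[X]) :
    aeval x p = algebraMap k K (p.coeff 0) + x * aeval x p.divX := by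
  conv_lhs => rw [← Polynomial.X_mul_divX_add p]
  rw [map_add, map_mul, aeval_X, aeval_C, add_comm]

theorem w_mul_aeval_le (hw : ∀ c : k, w (algebraMap k K c) ≤ 1) {x : K} (hx : w x ≤ 1)
    (p : k[X]) : w (x * aeval x p) ≤ w x := by
  rw [map_mul]
  calc w x * w (aeval x p) ≤ w x * 1 := mul_le_mul' le_rfl (w_aeval_le_one w hw hx _)
    _ = w x := mul_one _

theorem w_aeval_eq_one (hw : ∀ c : k, w (algebraMap k K c) ≤ 1) {x : K} (hx : w x < 1)
    {p : k[X]} (hp : p.coeff 0 ≠ 0) : w (aeval x p) = 1 := by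
  rw [aeval_eq_coeff_zero_add]
  have h1 : w (algebraMap k K (p.coeff 0)) = 1 := w_const w hw hp
  have h2 : w (x * aeval x p.divX) < 1 := (w_mul_aeval_le w hw hx.le _).trans_lt hx
  rw [w.map_add_eq_of_lt_left (by rw [h1]; exact h2), h1]

theorem w_aeval_le (hw : ∀ c : k, w (algebraMap k K c) ≤ 1) {x : K} (hx : w x ≤ 1)
    {p : k[X]} (hp : p.coeff 0 = 0) : w (aeval x p) ≤ w x := by
  rw [aeval_eq_coeff_zero_add, hp, map_zero, zero_add]
  exact w_mul_aeval_le w hw hx _

theorem w_aeval_sub_coeff_le (hw : ∀ c : k, w (algebraMap k K c) ≤ 1) {x : K} (hx : w x ≤ 1)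
    (p : k[X]) : w (aeval x p - algebraMap k K (p.coeff 0)) ≤ w x := by
  rw [aeval_eq_coeff_zero_add, add_sub_cancel_left]
  exact w_mul_aeval_le w hw hx _

/-- Chain lemma (Stichtenoth 1.1.7): elements with strictly increasing values in `[w x, 1)` are
polynomially independent over `k[x]`. -/
theorem poly_indep_of_chain (hw : ∀ c : k, w (algebraMap k K c) ≤ 1) {x : K} (hx0 : x ≠ 0)
    (hx1 : w x < 1) {n : ℕ} (z : Fin n → K) (hmono : StrictMono (fun i => w (z i)))
    (hlo : ∀ i, w x ≤ w (z i)) (hhi : ∀ i, w (z i) < 1) (p : Fin n → k[X])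
    (hp : ∑ i, aeval x (p i) * z i = 0) : ∀ i, p i = 0 := by
  classical
  by_contra hne
  push Not at hne
  obtain ⟨q, hq, hq0⟩ := exists_rel_coeff_zero_ne_zero hx0 z p hp hne
  let S : Finset (Fin n) := Finset.univ.filter (fun i => (q i).coeff 0 ≠ 0)
  have hS : S.Nonempty := by
    obtain ⟨i, hi⟩ := hq0
    exact ⟨i, by simp [S, hi]⟩
  let j := S.max' hS
  have hjS : j ∈ S := S.max'_mem hS
  have hj0 : (q j).coeff 0 ≠ 0 := by
    have := hjS
    simp only [S, Finset.mem_filter, Finset.mem_univ, true_and] at this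
    exact this
  have hwx0 : w x ≠ 0 := (Valuation.ne_zero_iff _).mpr hx0
  have hzj0 : w (z j) ≠ 0 := fun h => hwx0 (le_antisymm (h ▸ hlo j) zero_le)
  -- isolate the `j` term
  have hsplit : aeval x (q j) * z j = -∑ i ∈ Finset.univ.erase j, aeval x (q i) * z i := by
    rw [eq_neg_iff_add_eq_zero,
      Finset.add_sum_erase Finset.univ (fun i => aeval x (q i) * z i) (Finset.mem_univ j)]
    exact hq
  have hL : w (aeval x (q j) * z j) = w (z j) := by
    rw [map_mul, w_aeval_eq_one w hw hx1 hj0, one_mul]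
  have hR : w (-∑ i ∈ Finset.univ.erase j, aeval x (q i) * z i) < w (z j) := by
    rw [Valuation.map_neg]
    apply w.map_sum_lt hzj0
    intro i hi
    have hij : i ≠ j := Finset.ne_of_mem_erase hi
    rw [map_mul]
    rcases lt_or_gt_of_ne hij with hlt | hgt
    · calc w (aeval x (q i)) * w (z i) ≤ 1 * w (z i) :=
            mul_le_mul' (w_aeval_le_one w hw hx1.le _) le_rfl
        _ = w (z i) := one_mul _
        _ < w (z j) := hmono hlt
    · have hi0 : (q i).coeff 0 = 0 := by
        by_contra h0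
        have hiS : i ∈ S := by simp [S, h0]
        exact absurd (S.le_max' i hiS) (not_le.mpr hgt)
      have hzi0 : w (z i) ≠ 0 := fun h => hwx0 (le_antisymm (h ▸ hlo i) zero_le)
      calc w (aeval x (q i)) * w (z i) ≤ w x * w (z i) :=
            mul_le_mul' (w_aeval_le w hw hx1.le hi0) le_rfl
        _ < w x * 1 := by
            apply mul_lt_mul_of_pos_left (hhi i)
            exact zero_lt_iff.mpr hwx0
        _ = w x := mul_one _
        _ ≤ w (z j) := hlo j
  rw [hsplit] at hL
  rw [hL] at hR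
  exact lt_irrefl _ hR

/-- Finitely many values in `[w x, 1)`. -/
theorem finite_values_between (hK : IsFunctionField k K) (hw : ∀ c : k, w (algebraMap k K c) ≤ 1)
    {x : K} (hx0 : x ≠ 0) (hx1 : w x < 1) :
    {γ : Γ | ∃ y : K, w y = γ ∧ w x ≤ γ ∧ γ < 1}.Finite := by
  classical
  have hxt : Transcendental k x := by
    intro halg
    obtain ⟨c, rfl⟩ := hK.2 x halg
    have hc : c ≠ 0 := by rintro rfl; simp at hx0
    rw [w_const w hw hc] at hx1
    exact lt_irrefl _ hx1
  have hfin := finiteDimensional_adjoin hK hxt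
  by_contra hinf
  have hinf' : {γ : Γ | ∃ y : K, w y = γ ∧ w x ≤ γ ∧ γ < 1}.Infinite := hinf
  set N := Module.finrank (IntermediateField.adjoin k ({x} : Set K)) K with hN
  obtain ⟨T, hT, hTc⟩ := hinf'.exists_subset_card_eq (N + 1)
  let e := T.orderEmbOfFin hTc
  have hmem : ∀ i, e i ∈ T := fun i => T.orderEmbOfFin_mem hTc i
  have hex : ∀ i, ∃ y : K, w y = e i ∧ w x ≤ e i ∧ e i < 1 := fun i => hT (hmem i)
  choose z hz1 hz2 hz3 using hex
  have hmono : StrictMono (fun i => w (z i)) := by
    intro a b hab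
    show w (z a) < w (z b)
    rw [hz1, hz1]
    exact e.strictMono hab
  have := card_le_finrank_of_poly_indep (k := k) (x := x) z
    (fun p hp => poly_indep_of_chain w hw hx0 hx1 z hmono
      (fun i => by rw [hz1]; exact hz2 i) (fun i => by rw [hz1]; exact hz3 i) p hp)
  rw [Fintype.card_fin] at this
  omega

end GeneralValuation

section VS

variable (hK : IsFunctionField k K) (B : ValuationSubring K)
  (hk : ∀ c : k, algebraMap k K c ∈ B)

include hk in
theorem vs_hw : ∀ c : k, B.valuation (algebraMap k K c) ≤ 1 :=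
  fun c => (B.valuation_le_one_iff _).mpr (hk c)

include hK hk in
/-- A uniformizer: an element of maximal value `< 1`. -/
theorem exists_max_value {x : K} (hx0 : x ≠ 0) (hx1 : B.valuation x < 1) :
    ∃ t : K, t ≠ 0 ∧ B.valuation t < 1 ∧
      ∀ y : K, B.valuation y < 1 → B.valuation y ≤ B.valuation t := by
  classical
  have hfin := finite_values_between B.valuation hK (vs_hw B hk) hx0 hx1
  have hxm : B.valuation x ∈ hfin.toFinset := by
    rw [Set.Finite.mem_toFinset]
    exact ⟨x, rfl, le_rfl, hx1⟩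
  have hne : hfin.toFinset.Nonempty := ⟨_, hxm⟩
  have hmem := hfin.toFinset.max'_mem hne
  rw [Set.Finite.mem_toFinset] at hmem
  obtain ⟨t, ht, ht1, ht2⟩ := hmem
  have hwx0 : B.valuation x ≠ 0 := (Valuation.ne_zero_iff _).mpr hx0
  refine ⟨t, ?_, ?_, ?_⟩
  · rintro rfl
    rw [map_zero] at ht
    rw [← ht] at ht1
    exact hwx0 (le_antisymm ht1 zero_le)
  · rw [ht]; exact ht2
  · intro y hy
    rw [ht]
    by_cases hxy : B.valuation x ≤ B.valuation y
    · apply Finset.le_max'
      rw [Set.Finite.mem_toFinset]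
      exact ⟨y, rfl, hxy, hy⟩
    · exact (not_le.mp hxy).le.trans (Finset.le_max' _ _ hxm)

include hK hk in
theorem exists_pow_eq {t : K} (ht0 : t ≠ 0) (ht1 : B.valuation t < 1)
    (hmax : ∀ y : K, B.valuation y < 1 → B.valuation y ≤ B.valuation t) {y : K} (hy0 : y ≠ 0)
    (hy1 : B.valuation y ≤ 1) : ∃ n : ℕ, B.valuation y = B.valuation t ^ n := by
  classical
  rcases eq_or_lt_of_le hy1 with h1 | hlt
  · exact ⟨0, by rw [h1, pow_zero]⟩
  set g := B.valuation t with hg
  have hg0 : g ≠ 0 := (Valuation.ne_zero_iff _).mpr ht0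
  have hgpos : 0 < g := zero_lt_iff.mpr hg0
  have hginv : 1 < g⁻¹ := (one_lt_inv₀ hgpos).mpr ht1
  have hwy0 : B.valuation y ≠ 0 := (Valuation.ne_zero_iff _).mpr hy0
  have hval : ∀ j : ℕ, B.valuation (y * t⁻¹ ^ j) = B.valuation y * g⁻¹ ^ j := by
    intro j
    rw [map_mul, map_pow, map_inv₀]
  have hmono : StrictMono (fun j : ℕ => B.valuation y * g⁻¹ ^ j) := by
    apply strictMono_nat_of_lt_succ
    intro j
    rw [pow_succ, ← mul_assoc]
    have hpos : 0 < B.valuation y * g⁻¹ ^ j :=
      mul_pos (zero_lt_iff.mpr hwy0) (pow_pos (inv_pos.mpr hgpos) j)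
    calc B.valuation y * g⁻¹ ^ j = B.valuation y * g⁻¹ ^ j * 1 := (mul_one _).symm
      _ < B.valuation y * g⁻¹ ^ j * g⁻¹ := mul_lt_mul_of_pos_left hginv hpos
  have hex : ∃ j : ℕ, ¬ (B.valuation (y * t⁻¹ ^ j) < 1) := by
    by_contra hcon
    push Not at hcon
    have hfin := finite_values_between B.valuation hK (vs_hw B hk) hy0 hlt
    have hinf : {γ : B.ValueGroup | ∃ z : K, B.valuation z = γ ∧ B.valuation y ≤ γ ∧ γ < 1}.Infinite := by
      apply Set.infinite_of_injective_forall_mem (f := fun j : ℕ => B.valuation y * g⁻¹ ^ j)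
        hmono.injective
      intro j
      refine ⟨y * t⁻¹ ^ j, hval j, ?_, ?_⟩
      · have := hmono.monotone (Nat.zero_le j)
        simpa using this
      · rw [← hval j]; exact hcon j
    exact hinf hfin
  let j := Nat.find hex
  have hj : ¬ (B.valuation (y * t⁻¹ ^ j) < 1) := Nat.find_spec hex
  have hj0 : j ≠ 0 := by
    intro h0
    apply hj
    rw [h0, pow_zero, mul_one]
    exact hlt
  obtain ⟨m, hm⟩ := Nat.exists_eq_succ_of_ne_zero hj0
  have hm1 : B.valuation (y * t⁻¹ ^ m) < 1 := by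
    have := Nat.find_min hex (m := m) (by omega)
    push Not at this
    exact this
  have hm2 := hmax _ hm1
  rw [hval] at hm2
  have hj1 : B.valuation y * g⁻¹ ^ j ≤ 1 := by
    rw [hm, pow_succ, ← mul_assoc]
    calc B.valuation y * g⁻¹ ^ m * g⁻¹ ≤ g * g⁻¹ := mul_le_mul' hm2 le_rfl
      _ = 1 := mul_inv_cancel₀ hg0
  rw [hval, not_lt] at hj
  have heq : B.valuation y * g⁻¹ ^ j = 1 := le_antisymm hj1 hj
  refine ⟨j, ?_⟩
  have : B.valuation y = B.valuation y * g⁻¹ ^ j * g ^ j := by
    rw [mul_assoc, ← mul_pow, inv_mul_cancel₀ hg0, one_pow, mul_one]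
  rw [this, heq, one_mul]

include hK hk in
theorem isDiscreteValuationRing_of {x : K} (hx0 : x ≠ 0) (hx1 : B.valuation x < 1) :
    IsDiscreteValuationRing B := by
  obtain ⟨t, ht0, ht1, hmax⟩ := exists_max_value hK B hk hx0 hx1
  have htB : t ∈ B := (B.valuation_le_one_iff t).mp ht1.le
  have hg0 : B.valuation t ≠ 0 := (Valuation.ne_zero_iff _).mpr ht0
  apply IsDiscreteValuationRing.ofHasUnitMulPowIrreducibleFactorization
  refine ⟨⟨t, htB⟩, ?_, ?_⟩
  · rw [irreducible_iff]
    constructor
    · rw [B.valuation_eq_one_iff]; exact ht1.ne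
    · intro a b hab
      by_contra hcon
      push Not at hcon
      have ha : B.valuation (a : K) < 1 := (B.valuation_lt_one_or_eq_one a).resolve_right
        (fun h => hcon.1 ((B.valuation_eq_one_iff a).mpr h))
      have hb : B.valuation (b : K) < 1 := (B.valuation_lt_one_or_eq_one b).resolve_right
        (fun h => hcon.2 ((B.valuation_eq_one_iff b).mpr h))
      have heq : t = (a : K) * (b : K) := congrArg Subtype.val hab
      have h1 := hmax _ ha
      have h2 := hmax _ hb
      have : B.valuation t < B.valuation t := by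
        calc B.valuation t = B.valuation (a : K) * B.valuation (b : K) := by
              rw [← map_mul, ← heq]
          _ ≤ B.valuation t * B.valuation (b : K) := mul_le_mul' h1 le_rfl
          _ < B.valuation t * 1 := mul_lt_mul_of_pos_left hb (zero_lt_iff.mpr hg0)
          _ = B.valuation t := mul_one _
      exact lt_irrefl _ this
  · intro y hy
    have hy0 : (y : K) ≠ 0 := fun h => hy (Subtype.ext h)
    obtain ⟨n, hn⟩ := exists_pow_eq hK B hk ht0 ht1 hmax hy0 (B.valuation_le_one y)
    refine ⟨n, ?_⟩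
    have h1 : B.valuation (y : K) = B.valuation (t ^ n) := by rw [hn, map_pow]
    obtain ⟨a, ha⟩ := (B.valuation_eq_iff _ _).mp h1
    refine ⟨a, Subtype.ext ?_⟩
    show (t ^ n : K) * (a : K) = (y : K)
    rw [mul_comm]; exact ha

include hK hk in
/-- A valuation subring of `K/k` different from `K` comes from a place. -/
theorem exists_place_of_valuationSubring {x : K} (hx0 : x ≠ 0) (hx1 : B.valuation x < 1) :
    ∃ P : Place k K, ∀ y : K, P.1 y ≤ 1 ↔ y ∈ B := by
  haveI := isDiscreteValuationRing_of hK B hk hx0 hx1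
  let v : IsDedekindDomain.HeightOneSpectrum B := IsDiscreteValuationRing.maximalIdeal B
  have hle : ∀ y ∈ B, v.valuation K y ≤ 1 := fun y hy => v.valuation_le_one (K := K) ⟨y, hy⟩
  have hlt : ∀ y, y ∉ B → 1 < v.valuation K y := by
    intro y hy
    have hy0 : y ≠ 0 := by rintro rfl; exact hy B.zero_mem
    have hinv : y⁻¹ ∈ B := (B.mem_or_inv_mem y).resolve_left hy
    have hBy : 1 < B.valuation y := by
      rw [← not_le, B.valuation_le_one_iff]; exact hy
    have hmem : (⟨y⁻¹, hinv⟩ : B) ∈ IsLocalRing.maximalIdeal B := by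
      rw [B.valuation_lt_one_iff]
      show B.valuation y⁻¹ < 1
      rw [map_inv₀]
      exact inv_lt_one_of_one_lt₀ hBy
    have h1 : v.valuation K (y⁻¹ : K) < 1 :=
      (v.valuation_lt_one_iff_mem (K := K) ⟨y⁻¹, hinv⟩).mpr hmem
    rw [map_inv₀] at h1
    have hpos : 0 < v.valuation K y := zero_lt_iff.mpr ((Valuation.ne_zero_iff _).mpr hy0)
    exact (inv_lt_one₀ hpos).mp h1
  refine ⟨⟨v.valuation K, fun c => hle _ (hk c), ?_⟩, fun y => ⟨?_, hle y⟩⟩
  · intro γ
    rcases eq_zero_or_exp γ with rfl | ⟨n, rfl⟩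
    · exact ⟨0, map_zero _⟩
    · obtain ⟨π, hπ⟩ := v.valuation_exists_uniformizer K
      refine ⟨π ^ (-n), ?_⟩
      rw [map_zpow₀, hπ, ← WithZero.exp_zsmul]
      congr 1
      simp
  · intro hy
    by_contra hyB
    exact absurd hy (not_le.mpr (hlt y hyB))

end VS

section Existence

/-- Every transcendental element has a zero. -/
theorem exists_place_val_lt_one (hK : IsFunctionField k K) {x : K} (hx : Transcendental k x) :
    ∃ P : Place k K, P.1 x < 1 := by
  have hx0 : x ≠ 0 := by
    rintro rfl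
    exact hx (isAlgebraic_zero)
  let A : Subring K := (Algebra.adjoin k ({x} : Set K)).toSubring
  have hxA : x ∈ A := Algebra.self_mem_adjoin_singleton k x
  let I : Ideal A := Ideal.span {⟨x, hxA⟩}
  have hI : I ≠ ⊤ := by
    intro htop
    rw [Ideal.span_singleton_eq_top] at htop
    obtain ⟨⟨y, hy⟩, hxy⟩ := isUnit_iff_exists_inv.mp htop
    have hy' : y ∈ Algebra.adjoin k ({x} : Set K) := hy
    rw [Algebra.adjoin_singleton_eq_range_aeval] at hy'
    obtain ⟨p, rfl⟩ := hy'
    have hxy' : x * aeval x p = 1 := congrArg Subtype.val hxy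
    apply hx
    refine ⟨X * p - 1, ?_, ?_⟩
    · intro h0
      have := congrArg (fun f => Polynomial.coeff f 0) h0
      simp at this
    · rw [map_sub, map_mul, aeval_X, map_one, hxy', sub_self]
  obtain ⟨B, hAB, hIB⟩ := Ideal.image_subset_nonunits_valuationSubring I hI
  have hk : ∀ c : k, algebraMap k K c ∈ B := fun c =>
    hAB ((Algebra.adjoin k ({x} : Set K)).algebraMap_mem c)
  have hxB : x ∈ B.nonunits := hIB ⟨⟨x, hxA⟩, Ideal.subset_span rfl, rfl⟩
  have hx1 : B.valuation x < 1 := hxB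
  obtain ⟨P, hP⟩ := exists_place_of_valuationSubring hK B hk hx0 hx1
  refine ⟨P, ?_⟩
  by_contra hge
  rw [not_lt] at hge
  have hinv : P.1 x⁻¹ ≤ 1 := by
    rw [map_inv₀]
    exact inv_le_one_of_one_le₀ hge
  have hxinvB : x⁻¹ ∈ B := (hP _).mp hinv
  have : B.valuation x⁻¹ ≤ 1 := (B.valuation_le_one_iff _).mpr hxinvB
  rw [map_inv₀] at this
  have hpos : 0 < B.valuation x := zero_lt_iff.mpr ((Valuation.ne_zero_iff _).mpr hx0)
  have h2 : 1 ≤ B.valuation x := (inv_le_one₀ hpos).mp this
  exact absurd hx1 (not_lt.mpr h2)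

theorem transcendental_inv {x : K} (hx : Transcendental k x) : Transcendental k x⁻¹ := by
  intro h
  exact hx (by simpa using h.inv)

/-- Every transcendental element has a pole. -/
theorem exists_place_one_lt_val (hK : IsFunctionField k K) {x : K} (hx : Transcendental k x) :
    ∃ P : Place k K, 1 < P.1 x := by
  obtain ⟨P, hP⟩ := exists_place_val_lt_one hK (transcendental_inv hx)
  refine ⟨P, ?_⟩
  have hx0 : x ≠ 0 := by
    rintro rfl
    exact hx isAlgebraic_zero
  rw [map_inv₀] at hP
  have hpos : 0 < P.1 x := zero_lt_iff.mpr ((Valuation.ne_zero_iff _).mpr hx0)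
  exact (inv_lt_one₀ hpos).mp hP

end Existence

end Groth.Agent.Lib.Helper27.FF
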