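import Mathlib
import Groth.Agent.Lib.Helper27.FunFld6
import Groth.Agent.S10968
import Groth.Agent.S10970
import Groth.Agent.S10971
import Groth.Agent.S10974
import Groth.Agent.S10975
import Groth.Agent.S10976
import Groth.Agent.S10977
import Groth.Agent.S10978
import Groth.Agent.S10979
import Groth.Agent.S10980
import Groth.Agent.S10982

/-!
# Instantiating `Core` for every function field of one variable.
-/

set_option autoImplicit false
open FunFld

universe u v

namespace Groth.Agent.Lib.Helper27.FF

variable {k : Type u} {K : Type v} [Field k] [Field K] [Algebra k K]

/-- Every function field of one variable satisfies all the `Core` facts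
(Stichtenoth 1.1--1.4): this packages S10968--S10982. -/
theorem core_of (hK : IsFunctionField k K) : Core k K where
  isFF := hK
  deg_div := Groth.Agent.S10968.result k K hK
  finite_support := Groth.Agent.S10970.result k K hK
  finDimRes := Groth.Agent.S10971.result k K hK
  finrank_AD := Groth.Agent.S10974.result k K hK
  AD_sup := Groth.Agent.S10975.result k K
  finDimL := Groth.Agent.S10976.result k K hK
  ell_le := Groth.Agent.S10977.result k K hK
  L_zero := Groth.Agent.S10978.result k K hK
  finrank_ADK := Groth.Agent.S10979.result k K hK
  L_neg := Groth.Agent.S10980.result k K hK
  riemann := Groth.Agent.S10982.result k K hK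

end Groth.Agent.Lib.Helper27.FF
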