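import Groth.Agent.Lib.Helper27.FunFld8

/-! Function fields of one variable (helper27), part 9: pole divisors, `deg (x)_∞ = [K:k(x)]`,
`deg (x) = 0`, `L(D) = 0` for `deg D < 0`, Riemann's theorem. -/

set_option autoImplicit false

namespace Groth.Agent.Lib.Helper27.FF

open FunFld Polynomial IntermediateField

universe u v

variable {k : Type u} {K : Type v} [Field k] [Field K] [Algebra k K]

variable (k) in
/-- The pole divisor `(y)_∞`. -/
noncomputable def poleDiv (y : K) : Divisor k K := FunFld.div k y⁻¹ ⊔ 0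

theorem poleDiv_nonneg (y : K) : 0 ≤ poleDiv k y := le_sup_right

theorem val_le_exp_poleDiv (hK : IsFunctionField k K) (y : K) (P : Place k K) :
    P.1 y ≤ WithZero.exp (poleDiv k y P) := by
  by_cases hy : y = 0
  · rw [hy, map_zero]; exact zero_le
  · rw [val_eq_exp_neg_div' hK hy, WithZero.exp_le_exp]
    have h1 : FunFld.div k y⁻¹ ≤ poleDiv k y := le_sup_left
    have h2 := h1 P
    rw [div_inv' hK, Finsupp.neg_apply] at h2
    first | exact h2 | skip

theorem mem_L_poleDiv (hK : IsFunctionField k K) (y : K) : y ∈ L (poleDiv k y) :=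
  fun P => val_le_exp_poleDiv hK y P

theorem mul_pow_mem_L (hK : IsFunctionField k K) (x u : K) {C₀ : Divisor k K} (hu : u ∈ L C₀)
    {i l : ℕ} (hil : i ≤ l) : x ^ i * u ∈ L ((l : ℤ) • poleDiv k x + C₀) := by
  intro P
  rw [map_mul, map_pow, Finsupp.add_apply, Finsupp.smul_apply, WithZero.exp_add]
  refine mul_le_mul' ?_ (hu P)
  have h1 := val_le_exp_poleDiv hK x P
  have h0 : (0 : ℤ) ≤ poleDiv k x P := poleDiv_nonneg x P
  calc P.1 x ^ i ≤ WithZero.exp (poleDiv k x P) ^ i := pow_le_pow_left' h1 i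
    _ = WithZero.exp ((i : ℤ) • poleDiv k x P) := by
        rw [← WithZero.exp_nsmul]; congr 1
    _ ≤ WithZero.exp ((l : ℤ) • poleDiv k x P) := by
        rw [WithZero.exp_le_exp, smul_eq_mul, smul_eq_mul]
        have : (i : ℤ) ≤ l := by exact_mod_cast hil
        nlinarith

theorem transcendental_gen {x : K} (hx : Transcendental k x) :
    Transcendental k (AdjoinSimple.gen k x) := by
  intro h
  apply hx
  have := h.algebraMap (A := K)
  simpa using this

theorem linearIndependent_pow_gen {x : K} (hx : Transcendental k x) (l : ℕ) :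
    LinearIndependent k (fun i : Fin (l + 1) => (AdjoinSimple.gen k x) ^ (i : ℕ)) := by
  have hinj : Function.Injective (aeval (R := k) (AdjoinSimple.gen k x)) :=
    transcendental_iff_injective.mp (transcendental_gen hx)
  have h1 : LinearIndependent k (fun n : ℕ => (aeval (AdjoinSimple.gen k x)).toLinearMap
      (Polynomial.basisMonomials k n)) :=
    (Polynomial.basisMonomials k).linearIndependent.map' _ (LinearMap.ker_eq_bot.mpr hinj)
  have h2 : (fun n : ℕ => (aeval (AdjoinSimple.gen k x)).toLinearMap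
      (Polynomial.basisMonomials k n)) = fun n : ℕ => (AdjoinSimple.gen k x) ^ n := by
    funext n
    simp [Polynomial.coe_basisMonomials, aeval_monomial]
  rw [h2] at h1
  exact h1.comp (fun i : Fin (l + 1) => (i : ℕ)) Fin.val_injective

/-- Claim 1 of Riemann's theorem. -/
theorem exists_card_le_ell (hK : IsFunctionField k K) {x : K} (hx : Transcendental k x) :
    ∃ C₀ : Divisor k K, 0 ≤ C₀ ∧ ∀ l : ℕ,
      (l + 1) * Module.finrank k⟮x⟯ K ≤ ell ((l : ℤ) • poleDiv k x + C₀) := by
  classical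
  haveI := finiteDimensional_adjoin hK hx
  let u := Module.finBasis k⟮x⟯ K
  set n := Module.finrank k⟮x⟯ K with hn
  let C₀ : Divisor k K := ∑ j, poleDiv k (u j)
  have hC₀ : 0 ≤ C₀ := Finset.sum_nonneg fun j _ => poleDiv_nonneg (u j)
  have hu : ∀ j, u j ∈ L C₀ := fun j =>
    L_mono (Finset.single_le_sum (f := fun j => poleDiv k (u j))
      (fun i _ => poleDiv_nonneg (u i)) (Finset.mem_univ j)) (mem_L_poleDiv hK (u j))
  refine ⟨C₀, hC₀, fun l => ?_⟩
  have hb := linearIndependent_pow_gen hx l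
  have hF := linearIndependent_smul hb u.linearIndependent
  have hmem : ∀ p : Fin (l + 1) × Fin n,
      (AdjoinSimple.gen k x) ^ (p.1 : ℕ) • u p.2 ∈ L ((l : ℤ) • poleDiv k x + C₀) := by
    intro p
    have : (AdjoinSimple.gen k x) ^ (p.1 : ℕ) • u p.2 = x ^ (p.1 : ℕ) * u p.2 := by
      rw [Algebra.smul_def]
      simp
    rw [this]
    exact mul_pow_mem_L hK x (u p.2) (hu p.2) (Nat.lt_succ_iff.mp p.1.2)
  let F' : Fin (l + 1) × Fin n → ↥(L ((l : ℤ) • poleDiv k x + C₀)) := fun p => ⟨_, hmem p⟩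
  have hF' : LinearIndependent k F' :=
    LinearIndependent.of_comp (L ((l : ℤ) • poleDiv k x + C₀)).subtype hF
  haveI := finiteDimensional_L hK ((l : ℤ) • poleDiv k x + C₀)
  have hcard := hF'.fintype_card_le_finrank
  rw [Fintype.card_prod, Fintype.card_fin, Fintype.card_fin] at hcard
  exact hcard

theorem ell_le_deg_add_one (hK : IsFunctionField k K) {D : Divisor k K} (h : 0 ≤ D) :
    (ell D : ℤ) ≤ D.deg + 1 := by
  have := ell_sub_ell_le hK h
  rw [ell_zero' hK, deg_zero] at this
  push_cast at this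
  linarith

theorem deg_int_smul (l : ℕ) (B : Divisor k K) :
    (((l : ℤ) • B : Divisor k K)).deg = l * B.deg := by
  have key : ∀ m : ℕ, ((m • B : Divisor k K)).deg = m * B.deg := by
    intro m
    induction m with
    | zero => simp [deg_zero]
    | succ m ih => rw [succ_nsmul, deg_add, ih]; push_cast; ring
  have : ((l : ℤ) • B : Divisor k K) = (l : ℕ) • B := by simp
  rw [this, key]

/-- `deg (D ⊔ 0)` as a sum over the places where `D` is positive. -/
theorem deg_sup_zero (D : Divisor k K) :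
    (D ⊔ 0).deg = ∑ P ∈ D.support with 0 < D P, D P * (P.deg : ℤ) := by
  classical
  unfold Divisor.deg
  have hsub : (D ⊔ 0).support ⊆ D.support := by
    intro P hP
    rw [Finsupp.mem_support_iff] at hP ⊢
    intro h0
    apply hP
    show max (D P) 0 = 0
    rw [h0]; simp
  rw [Finsupp.sum_of_support_subset _ hsub _ (fun P _ => by simp), Finset.sum_filter]
  refine Finset.sum_congr rfl fun P _ => ?_
  have hval : (D ⊔ 0) P = max (D P) 0 := rfl
  rw [hval]
  split_ifs with hpos
  · rw [max_eq_left hpos.le]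
  · rw [max_eq_right (not_lt.mp hpos)]; simp

theorem finrank_congr_intermediateField {E F : IntermediateField k K} (h : E = F) :
    Module.finrank E K = Module.finrank F K := by
  subst h; rfl

theorem adjoin_inv_eq (x : K) : k⟮x⁻¹⟯ = k⟮x⟯ := by
  apply le_antisymm
  · rw [adjoin_simple_le_iff]
    exact inv_mem (mem_adjoin_simple_self k x)
  · rw [adjoin_simple_le_iff]
    have := inv_mem (mem_adjoin_simple_self k x⁻¹)
    rwa [inv_inv] at this

theorem deg_poleDiv_le (hK : IsFunctionField k K) {x : K} (hx : Transcendental k x) :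
    (poleDiv k x).deg ≤ Module.finrank k⟮x⟯ K := by
  classical
  have hxinv : Transcendental k x⁻¹ := transcendental_inv hx
  have hx0 : x⁻¹ ≠ 0 := by
    intro h
    rw [h] at hxinv
    exact hxinv isAlgebraic_zero
  unfold poleDiv
  rw [deg_sup_zero]
  have h1 : ∀ P ∈ (FunFld.div k x⁻¹).support.filter (fun P => 0 < FunFld.div k x⁻¹ P),
      P.1 x⁻¹ < 1 := by
    intro P hP
    rw [Finset.mem_filter] at hP
    rw [val_lt_one_iff P hx0, ← div_apply' hK]
    exact hP.2
  have h2 := Groth.Agent.Lib.Helper23.FF.sum_ord_mul_deg_le hK hxinv _ h1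
  rw [finrank_congr_intermediateField (adjoin_inv_eq x)] at h2
  refine le_trans (le_of_eq ?_) h2
  refine Finset.sum_congr rfl fun P _ => ?_
  rw [div_apply' hK]

/-- `deg (x)_∞ = [K : k(x)]` (Stichtenoth 1.4.11). -/
theorem deg_poleDiv_eq (hK : IsFunctionField k K) {x : K} (hx : Transcendental k x) :
    (poleDiv k x).deg = Module.finrank k⟮x⟯ K := by
  apply le_antisymm (deg_poleDiv_le hK hx)
  obtain ⟨C₀, hC₀, hC⟩ := exists_card_le_ell hK hx
  by_contra hlt
  rw [not_le] at hlt
  set n : ℤ := ((Module.finrank k⟮x⟯ K : ℕ) : ℤ) with hn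
  set l : ℕ := (C₀.deg + 1).toNat + 1 with hl
  have h1 := hC l
  have h2 : (0 : Divisor k K) ≤ (l : ℤ) • poleDiv k x + C₀ :=
    add_nonneg (smul_nonneg (Int.natCast_nonneg l) (poleDiv_nonneg x)) hC₀
  have h3 := ell_le_deg_add_one hK h2
  rw [deg_add, deg_int_smul] at h3
  have h4 : ((l : ℤ) + 1) * n ≤ ell ((l : ℤ) • poleDiv k x + C₀) := by
    rw [hn]; exact_mod_cast h1
  have h5 : C₀.deg + 1 ≤ ((C₀.deg + 1).toNat : ℤ) := Int.self_le_toNat _
  have h6 : (l : ℤ) = ((C₀.deg + 1).toNat : ℤ) + 1 := by rw [hl]; push_cast; ring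
  have h7 : (poleDiv k x).deg ≤ n - 1 := by omega
  have h8 : (0 : ℤ) ≤ l := Int.natCast_nonneg l
  nlinarith

theorem div_eq_poleDiv_sub (hK : IsFunctionField k K) (x : K) :
    FunFld.div k x = poleDiv k x⁻¹ - poleDiv k x := by
  ext P
  unfold poleDiv
  rw [inv_inv, Finsupp.sub_apply, div_inv' hK]
  show FunFld.div k x P = max (FunFld.div k x P) 0 - max ((-FunFld.div k x) P) 0
  rw [Finsupp.neg_apply]
  rcases le_total 0 (FunFld.div k x P) with h | h
  · rw [max_eq_left h, max_eq_right (by linarith)]; ring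
  · rw [max_eq_right h, max_eq_left (by linarith)]; ring

/-- S10968: `deg (x) = 0`. -/
theorem deg_div (hK : IsFunctionField k K) (x : K) : (FunFld.div k x).deg = 0 := by
  by_cases hx : IsAlgebraic k x
  · obtain ⟨c, rfl⟩ := hK.2 x hx
    have : FunFld.div k (algebraMap k K c) = 0 := by
      ext P
      rw [div_apply' hK]
      by_cases hc : c = 0
      · rw [hc, map_zero, ord_zero]; rfl
      · unfold Place.ord
        rw [val_const P hc]; simp
    rw [this, deg_zero]
  · have hx' : Transcendental k x := hx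
    rw [div_eq_poleDiv_sub hK, deg_sub, deg_poleDiv_eq hK hx',
      deg_poleDiv_eq hK (transcendental_inv hx'),
      finrank_congr_intermediateField (adjoin_inv_eq x)]
    ring

/-- S10969. -/
theorem sum_zeros_eq_finrank (hK : IsFunctionField k K) {x : K} (hx : Transcendental k x) :
    (∑ P ∈ (FunFld.div k x).support with 0 < FunFld.div k x P,
        FunFld.div k x P * (P.deg : ℤ)) = Module.finrank k⟮x⟯ K := by
  rw [← deg_sup_zero]
  have h := deg_poleDiv_eq hK (transcendental_inv hx)
  unfold poleDiv at h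
  rw [inv_inv, finrank_congr_intermediateField (adjoin_inv_eq x)] at h
  exact h

/-- S10980. -/
theorem L_eq_bot_of_deg_neg (hK : IsFunctionField k K) {D : Divisor k K} (h : D.deg < 0) :
    L D = ⊥ := by
  rw [Submodule.eq_bot_iff]
  intro x hx
  by_contra hx0
  have h1 := deg_nonneg_of_nonneg (le_div_of_mem_L' hK hx0 hx)
  rw [deg_add, deg_div hK] at h1
  linarith

/-- S10982. -/
theorem riemann (hK : IsFunctionField k K) :
    (∀ D : Divisor k K, D.deg + 1 - (ell D : ℤ) ≤ genus k K) ∧
    ∃ N : ℤ, ∀ D : Divisor k K, N ≤ D.deg → D.deg + 1 - (ell D : ℤ) = genus k K := by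
  obtain ⟨⟨x, hx, hfin⟩, -⟩ := id hK
  obtain ⟨C₀, hC₀, hC⟩ := exists_card_le_ell hK hx
  set n : ℤ := ((Module.finrank k⟮x⟯ K : ℕ) : ℤ) with hn
  have hnpos : 0 < n := by
    rw [hn]
    haveI := hfin
    exact_mod_cast Module.finrank_pos (R := k⟮x⟯) (M := K)
  have hBdeg : (poleDiv k x).deg = n := deg_poleDiv_eq hK hx
  have hbound : ∀ l : ℕ, delta ((l : ℤ) • poleDiv k x) ≤ 1 - n + C₀.deg := by
    intro l
    have h1 := hC l
    have h2 : ((l : ℤ) • poleDiv k x : Divisor k K) ≤ (l : ℤ) • poleDiv k x + C₀ :=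
      le_add_of_nonneg_right hC₀
    have h3 := ell_sub_ell_le hK h2
    rw [deg_add] at h3
    have h4 : ((l : ℤ) + 1) * n ≤ ell ((l : ℤ) • poleDiv k x + C₀) := by
      rw [hn]; exact_mod_cast h1
    unfold delta
    rw [deg_int_smul, hBdeg]
    nlinarith
  have hγ := delta_le_of_bound hK (deg_div hK) (B := poleDiv k x) (by rw [hBdeg]; exact hnpos)
    hbound
  exact riemann_of_bound hK (deg_div hK) hγ

end Groth.Agent.Lib.Helper27.FF
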