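import Groth.Agent.Lib.Helper27.FFExt7

/-! Function fields of one variable (helper27): finite extensions `K'/K`, part 8.
Galois extensions: decomposition groups, `e f g = n`. -/

set_option autoImplicit false

namespace Groth.Agent.Lib.Helper27.FF

open FunFld Polynomial IntermediateField
open scoped Pointwise

universe u v w

variable {k : Type u} {K : Type v} {K' : Type w} [Field k] [Field K] [Field K'] [Algebra k K]
  [Algebra K K'] [Algebra k K'] [IsScalarTower k K K']

theorem place_eq_of_le_one_iff {L : Type*} [Field L] [Algebra k L] (P Q : Place k L)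
    (h : ∀ x : L, P.1 x ≤ 1 ↔ Q.1 x ≤ 1) : P = Q := by
  apply Groth.Agent.Lib.Helper23.FF.place_eq_of_lt_one_imp
  intro x hx
  by_cases hx0 : x = 0
  · subst hx0; simp
  have hP0 : 0 < P.1 x := by rw [zero_lt_iff, Valuation.ne_zero_iff]; exact hx0
  have hQ0 : 0 < Q.1 x := by rw [zero_lt_iff, Valuation.ne_zero_iff]; exact hx0
  have h1 : ¬ P.1 x⁻¹ ≤ 1 := by
    rw [map_inv₀, not_le]
    exact (one_lt_inv₀ hP0).mpr hx
  have h2 : ¬ Q.1 x⁻¹ ≤ 1 := fun h' => h1 ((h x⁻¹).mpr h')
  rw [map_inv₀, not_le] at h2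
  exact (one_lt_inv₀ hQ0).mp h2

/-- the ring isomorphism `O_{σQ} ≃ O_Q`. -/
noncomputable def actPEquiv (σ : K' ≃ₐ[K] K') (Q : Place k K') :
    (actP (k := k) σ Q).O ≃+* Q.O where
  toFun x := ⟨σ x.1, by
    have := x.2
    rw [Valuation.mem_valuationSubring_iff] at this ⊢
    exact this⟩
  invFun y := ⟨σ.symm y.1, by
    have := y.2
    rw [Valuation.mem_valuationSubring_iff] at this ⊢
    rw [actP_apply, σ.apply_symm_apply]
    exact this⟩
  left_inv x := Subtype.ext (σ.symm_apply_apply x.1)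
  right_inv y := Subtype.ext (σ.apply_symm_apply y.1)
  map_mul' x y := Subtype.ext (map_mul σ x.1 y.1)
  map_add' x y := Subtype.ext (map_add σ x.1 y.1)

theorem deg_actP (σ : K' ≃ₐ[K] K') (Q : Place k K') : (actP (k := k) σ Q).deg = Q.deg := by
  unfold Place.deg
  refine Algebra.finrank_eq_of_equiv_equiv (RingEquiv.refl k)
    (IsLocalRing.ResidueField.mapEquiv (actPEquiv σ Q)) ?_
  ext c
  show IsLocalRing.residue Q.O (algebraMap k Q.O c) =
    IsLocalRing.ResidueField.mapEquiv (actPEquiv σ Q)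
      (IsLocalRing.residue (actP (k := k) σ Q).O (algebraMap k (actP (k := k) σ Q).O c))
  have : actPEquiv σ Q (algebraMap k (actP (k := k) σ Q).O c) = algebraMap k Q.O c := by
    apply Subtype.ext
    show σ (algebraMap k K' c) = algebraMap k K' c
    rw [IsScalarTower.algebraMap_apply k K K', σ.commutes]
  rw [← this]
  rfl

/-- the left action of the Galois group on places. -/
@[reducible] def placeAction : MulAction (K' ≃ₐ[K] K') (Place k K') where
  smul σ Q := actP σ⁻¹ Q
  one_smul Q := by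
    show actP (1 : K' ≃ₐ[K] K')⁻¹ Q = Q
    rw [inv_one, actP_one]
  mul_smul σ τ Q := by
    show actP (σ * τ)⁻¹ Q = actP σ⁻¹ (actP τ⁻¹ Q)
    rw [mul_inv_rev, actP_mul]

attribute [local instance] placeAction

theorem smul_O (σ : K' ≃ₐ[K] K') (Q : Place k K') :
    σ • Q.O = (actP (k := k) σ⁻¹ Q).O := by
  ext x
  rw [ValuationSubring.mem_pointwise_smul_iff_inv_smul_mem, Valuation.mem_valuationSubring_iff,
    Valuation.mem_valuationSubring_iff]
  rfl

theorem decompositionSubgroup_eq (Q : Place k K') :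
    (Q.O).decompositionSubgroup K =
      MulAction.stabilizer (K' ≃ₐ[K] K') Q := by
  ext σ
  rw [MulAction.mem_stabilizer_iff, MulAction.mem_stabilizer_iff]
  show σ • Q.O = Q.O ↔ actP σ⁻¹ Q = Q
  rw [smul_O]
  constructor
  · intro h
    apply place_eq_of_le_one_iff
    intro x
    rw [← Valuation.mem_valuationSubring_iff, ← Valuation.mem_valuationSubring_iff]
    exact (SetLike.ext_iff.mp h x)
  · intro h
    rw [h]

/-- orbit of `Q` = places above `P`. -/
theorem orbit_eq (hK : IsFunctionField k K) [FiniteDimensional K K'] [IsGalois K K']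
    {Q : Place k K'} {P : Place k K} (hQ : IsOver Q P) :
    MulAction.orbit (K' ≃ₐ[K] K') Q = {Q' | IsOver Q' P} := by
  ext Q'
  rw [MulAction.mem_orbit_iff, Set.mem_ofPred_eq]
  constructor
  · rintro ⟨σ, rfl⟩
    obtain ⟨e, he⟩ := hQ
    exact ⟨e, isOverWith_actP he σ⁻¹⟩
  · intro hQ'
    obtain ⟨σ, hσ⟩ := exists_actP_eq hK hQ hQ'
    refine ⟨σ⁻¹, ?_⟩
    show actP σ⁻¹⁻¹ Q = Q'
    rw [inv_inv]
    exact hσ

/-- `g · |G₀| = n`. -/
theorem card_over_mul_card_decomposition (hK : IsFunctionField k K) [FiniteDimensional K K']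
    [IsGalois K K'] {Q : Place k K'} {P : Place k K} (hQ : IsOver Q P) :
    Nat.card {Q' : Place k K' // IsOver Q' P} * Nat.card ((Q.O).decompositionSubgroup K) =
      Module.finrank K K' := by
  have e := MulAction.orbitProdStabilizerEquivGroup (K' ≃ₐ[K] K') Q
  have h1 := Nat.card_congr e
  rw [Nat.card_prod, IsGalois.card_aut_eq_finrank] at h1
  rw [← h1, decompositionSubgroup_eq]
  congr 1
  have := orbit_eq hK hQ
  exact Nat.card_congr (Equiv.setCongr this.symm)

/-- all places above `P` have the same ramification index and degree. -/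
theorem isOverWith_and_deg_eq (hK : IsFunctionField k K) [FiniteDimensional K K']
    [IsGalois K K'] {Q : Place k K'} {P : Place k K} {e : ℕ} (he : IsOverWith Q P e)
    {Q' : Place k K'} (hQ' : IsOver Q' P) : IsOverWith Q' P e ∧ Q'.deg = Q.deg := by
  obtain ⟨σ, rfl⟩ := exists_actP_eq hK ⟨e, he⟩ hQ'
  exact ⟨isOverWith_actP he σ, deg_actP σ Q⟩

/-- `|G₀| deg P = e deg Q`. -/
theorem card_decomposition_mul_deg (hK : IsFunctionField k K) [FiniteDimensional K K']
    [IsGalois K K'] {Q : Place k K'} {P : Place k K} {e : ℕ} (he : IsOverWith Q P e) :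
    Nat.card ((Q.O).decompositionSubgroup K) * P.deg = e * Q.deg := by
  classical
  obtain ⟨hfin, hsum⟩ := sum_ramIdx_mul_deg (K' := K') hK P
  have h1 := hsum hfin.toFinset (fun Q => hfin.mem_toFinset)
  have h2 : ∀ Q' ∈ hfin.toFinset, ramIdx Q' P * Q'.deg = e * Q.deg := by
    intro Q' hQ'
    obtain ⟨h3, h4⟩ := isOverWith_and_deg_eq hK he (hfin.mem_toFinset.mp hQ')
    rw [ramIdx_eq h3, h4]
  rw [Finset.sum_congr rfl h2, Finset.sum_const, smul_eq_mul] at h1
  have h5 := card_over_mul_card_decomposition hK (⟨e, he⟩ : IsOver Q P)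
  have h6 : Nat.card {Q' : Place k K' // IsOver Q' P} = hfin.toFinset.card := by
    show Nat.card ↥{Q' : Place k K' | IsOver Q' P} = _
    rw [Nat.card_coe_set_eq, Set.ncard_eq_toFinset_card _ hfin]
  rw [h6] at h5
  have hpos : 0 < hfin.toFinset.card := Finset.card_pos.mpr ⟨Q, hfin.mem_toFinset.mpr ⟨e, he⟩⟩
  have h7 : hfin.toFinset.card * (Nat.card ((Q.O).decompositionSubgroup K) * P.deg) =
      hfin.toFinset.card * (e * Q.deg) := by
    rw [h1, ← h5]; ring
  exact Nat.eq_of_mul_eq_mul_left hpos h7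

end Groth.Agent.Lib.Helper27.FF
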