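import Groth.Agent.Lib.Helper27.FunFldCore
import Groth.Agent.Lib.Helper27.FunFld9

/-! Function fields of one variable (helper27), part 10: first applications of Riemann–Roch
(special effective divisors, rational function fields, genus one). -/

set_option autoImplicit false

namespace Groth.Agent.Lib.Helper27.FF

open FunFld Polynomial IntermediateField

universe u v

variable {k : Type u} {K : Type v} [Field k] [Field K] [Algebra k K]

theorem one_le_deg' (hK : IsFunctionField k K) (P : Place k K) : 1 ≤ P.deg :=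
  (core_of hK).one_le_deg P

theorem one_mem_L_of_nonneg {D : Divisor k K} (h : 0 ≤ D) : (1 : K) ∈ L D := by
  intro P
  rw [map_one]
  have : (0 : ℤ) ≤ D P := h P
  calc (1 : WithZero (Multiplicative ℤ)) = WithZero.exp (0 : ℤ) := rfl
    _ ≤ WithZero.exp (D P) := WithZero.exp_le_exp.mpr this

theorem one_le_ell_of_nonneg (hK : IsFunctionField k K) {D : Divisor k K} (h : 0 ≤ D) :
    1 ≤ ell D := by
  have hfd := finiteDimensional_L hK D
  unfold ell
  rw [Nat.one_le_iff_ne_zero, Ne, Submodule.finrank_eq_zero]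
  intro hbot
  have := one_mem_L_of_nonneg h
  rw [hbot, Submodule.mem_bot] at this
  exact one_ne_zero this

/-- S11031: an effective divisor of degree `< g` is special. -/
theorem exists_weil_of_effective (hK : IsFunctionField k K) {D : Divisor k K} (hD : 0 ≤ D)
    (hdeg : D.deg < genus k K) :
    ∃ ω : Module.Dual k (adele k K), ω ≠ 0 ∧ ω ∈ WD D := by
  obtain ⟨hfd, hfr⟩ := (core_of hK).finrank_WD D
  have h1 := one_le_ell_of_nonneg hK hD
  have hpos : 0 < Module.finrank k (WD D) := by
    have : (0 : ℤ) < Module.finrank k (WD D) := by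
      rw [hfr]
      have : (1 : ℤ) ≤ ell D := by exact_mod_cast h1
      linarith
    exact_mod_cast this
  obtain ⟨ω, hω, hω0⟩ := exists_ne_zero_of_finrank_pos _ hpos
  exact ⟨ω, hω0, hω⟩

/-- An effective divisor of degree one is a place of degree one. -/
theorem eq_single_of_nonneg_of_deg_eq_one (hK : IsFunctionField k K) {D : Divisor k K}
    (hD : 0 ≤ D) (hdeg : D.deg = 1) : ∃ P : Place k K, P.deg = 1 ∧ D = Finsupp.single P 1 := by
  have hne : D ≠ 0 := by
    rintro rfl
    rw [deg_zero] at hdeg
    exact zero_ne_one hdeg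
  obtain ⟨P, hP⟩ : ∃ P, D P ≠ 0 := by
    by_contra hcon
    push Not at hcon
    exact hne (Finsupp.ext hcon)
  have hP1 : 1 ≤ D P := by
    have : (0 : ℤ) ≤ D P := hD P
    omega
  have hle : (Finsupp.single P 1 : Divisor k K) ≤ D := by
    intro Q
    by_cases hQ : Q = P
    · subst hQ; rw [Finsupp.single_eq_same]; exact hP1
    · rw [Finsupp.single_eq_of_ne hQ]; exact hD Q
  have h0 : (0 : Divisor k K) ≤ D - Finsupp.single P 1 := sub_nonneg.mpr hle
  have h1 := deg_nonneg_of_nonneg h0
  rw [deg_sub, deg_single, hdeg, one_mul] at h1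
  have hPd : (1 : ℤ) ≤ P.deg := by exact_mod_cast one_le_deg' hK P
  have hPd1 : (P.deg : ℤ) = 1 := by linarith
  have h2 : (D - Finsupp.single P 1).deg = 0 := by
    rw [deg_sub, deg_single, hdeg, one_mul, hPd1]; ring
  have h3 := eq_zero_of_nonneg_of_deg_eq_zero (one_le_deg' hK) h0 h2
  exact ⟨P, by exact_mod_cast hPd1, sub_eq_zero.mp h3⟩

theorem poleDiv_apply (hK : IsFunctionField k K) (x : K) (Q : Place k K) :
    poleDiv k x Q = max (-Q.ord x) 0 := by
  show max (FunFld.div k x⁻¹ Q) 0 = _
  rw [div_apply' hK, ord_inv]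

/-- If `x` has a single simple pole `P`, then `(x)_∞ = P`. -/
theorem poleDiv_eq_single (hK : IsFunctionField k K) {x : K} {P : Place k K}
    (hP : P.ord x = -1) (hQ : ∀ Q : Place k K, Q ≠ P → 0 ≤ Q.ord x) :
    poleDiv k x = Finsupp.single P 1 := by
  ext Q
  rw [poleDiv_apply hK]
  by_cases h : Q = P
  · subst h
    rw [hP, Finsupp.single_eq_same]; rfl
  · rw [Finsupp.single_eq_of_ne h]
    have := hQ Q h
    exact max_eq_right (by linarith)

theorem ne_zero_of_ord_ne_zero {x : K} {P : Place k K} (h : P.ord x ≠ 0) : x ≠ 0 := by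
  rintro rfl
  exact h (ord_zero P)

theorem transcendental_of_ord_ne_zero (hK : IsFunctionField k K) {x : K} {P : Place k K}
    (h : P.ord x ≠ 0) : Transcendental k x := by
  have hx0 := ne_zero_of_ord_ne_zero h
  apply transcendental_of_val_ne_one hK P hx0
  intro h1
  apply h
  unfold Place.ord
  rw [h1]
  simp

/-- If `x` has a single simple pole at a place of degree one then `K = k(x)`. -/
theorem adjoin_eq_top_of_simple_pole (hK : IsFunctionField k K) {x : K} {P : Place k K}
    (hdeg : P.deg = 1) (hP : P.ord x = -1) (hQ : ∀ Q : Place k K, Q ≠ P → 0 ≤ Q.ord x) :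
    IntermediateField.adjoin k ({x} : Set K) = ⊤ := by
  have hx : Transcendental k x := transcendental_of_ord_ne_zero hK (P := P) (by rw [hP]; decide)
  have h1 := deg_poleDiv_eq hK hx
  rw [poleDiv_eq_single hK hP hQ, deg_single, hdeg] at h1
  rw [← IntermediateField.finrank_eq_one_iff_eq_top]
  have : ((Module.finrank k⟮x⟯ K : ℕ) : ℤ) = 1 := by rw [← h1]; simp
  exact_mod_cast this

/-- `aeval x p ∈ L(l (x)_∞)` for `deg p ≤ l`. -/
theorem aeval_mem_L_smul_poleDiv (hK : IsFunctionField k K) (x : K) (l : ℕ) (p : k[X])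
    (hp : p ∈ Polynomial.degreeLT k (l + 1)) : aeval x p ∈ L ((l : ℤ) • poleDiv k x) := by
  rw [Polynomial.mem_degreeLT] at hp
  rw [Polynomial.aeval_eq_sum_range' (n := l + 1)]
  · apply Submodule.sum_mem
    intro i hi
    rw [Finset.mem_range] at hi
    apply Submodule.smul_mem
    have := mul_pow_mem_L hK x (1 : K) (C₀ := 0) (one_mem_L_of_nonneg le_rfl)
      (i := i) (l := l) (by omega)
    rwa [mul_one, add_zero] at this
  · by_cases hp0 : p = 0
    · subst hp0; simp
    · rw [Polynomial.degree_eq_natDegree hp0] at hp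
      exact_mod_cast hp

/-- For transcendental `x`, `ℓ(l (x)_∞) ≥ l + 1`. -/
theorem succ_le_ell_smul_poleDiv (hK : IsFunctionField k K) {x : K} (hx : Transcendental k x)
    (l : ℕ) : l + 1 ≤ ell ((l : ℤ) • poleDiv k x) := by
  have hfd := finiteDimensional_L hK ((l : ℤ) • poleDiv k x)
  have hinj : Function.Injective (aeval (R := k) x) := transcendental_iff_injective.mp hx
  let f : Polynomial.degreeLT k (l + 1) →ₗ[k] L ((l : ℤ) • poleDiv k x) :=
    LinearMap.codRestrict _ ((aeval (R := k) x).toLinearMap.comp (Polynomial.degreeLT k (l + 1)).subtype)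
      (fun p => aeval_mem_L_smul_poleDiv hK x l p.1 p.2)
  have hf : Function.Injective f := by
    intro p q hpq
    have := congrArg Subtype.val hpq
    exact Subtype.ext (hinj this)
  have h1 := LinearMap.finrank_le_finrank_of_injective hf
  have h2 : Module.finrank k (Polynomial.degreeLT k (l + 1)) = l + 1 := by
    rw [(Polynomial.degreeLTEquiv k (l + 1)).finrank_eq]; simp
  rw [h2] at h1
  exact h1

/-- If some `x` has a single simple pole at a place of degree one then the genus is `0`. -/
theorem genus_eq_zero_of_simple_pole (hK : IsFunctionField k K) {x : K} {P : Place k K}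
    (hdeg : P.deg = 1) (hP : P.ord x = -1) (hQ : ∀ Q : Place k K, Q ≠ P → 0 ≤ Q.ord x) :
    genus k K = 0 := by
  have hx : Transcendental k x := transcendental_of_ord_ne_zero hK (P := P) (by rw [hP]; decide)
  have hpd := poleDiv_eq_single hK hP hQ
  set l : ℕ := 2 * genus k K with hl
  have h1 := succ_le_ell_smul_poleDiv hK hx l
  have hd : ((l : ℤ) • poleDiv k x).deg = l := by
    rw [deg_int_smul, hpd, deg_single, hdeg]; simp
  have h2 := (core_of hK).ell_eq_of_deg_ge (D := (l : ℤ) • poleDiv k x)
    (by rw [hd, hl]; push_cast; linarith)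
  rw [hd] at h2
  have h3 : ((l : ℤ) + 1) ≤ ell ((l : ℤ) • poleDiv k x) := by exact_mod_cast h1
  have : (genus k K : ℤ) ≤ 0 := by linarith
  have : genus k K ≤ 0 := by exact_mod_cast this
  omega

/-- In a rational function field `K = k(x)`, `x` has a single simple pole, at a place of
degree one. -/
theorem exists_simple_pole_of_adjoin_eq_top (hK : IsFunctionField k K) {x : K}
    (hx : IntermediateField.adjoin k ({x} : Set K) = ⊤) :
    ∃ P : Place k K, P.deg = 1 ∧ P.ord x = -1 ∧ ∀ Q : Place k K, Q ≠ P → 0 ≤ Q.ord x := by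
  have hxt : Transcendental k x := by
    intro halg
    obtain ⟨⟨t, ht, -⟩, -⟩ := hK
    apply ht
    have h1 : Algebra.IsAlgebraic k k⟮x⟯ := IntermediateField.isAlgebraic_adjoin_simple halg.isIntegral
    have ht' : t ∈ k⟮x⟯ := by rw [hx]; exact IntermediateField.mem_top
    have := h1.isAlgebraic ⟨t, ht'⟩
    exact this.algebraMap (A := K)
  have h1 := deg_poleDiv_eq hK hxt
  have h2 : Module.finrank k⟮x⟯ K = 1 := IntermediateField.finrank_eq_one_iff_eq_top.mpr hx
  rw [h2] at h1
  obtain ⟨P, hPdeg, hP⟩ := eq_single_of_nonneg_of_deg_eq_one hK (poleDiv_nonneg x)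
    (by rw [h1]; rfl)
  refine ⟨P, hPdeg, ?_, ?_⟩
  · have := poleDiv_apply hK x P
    rw [hP, Finsupp.single_eq_same] at this
    have h3 : max (-P.ord x) 0 = 1 := this.symm
    rcases max_cases (-P.ord x) 0 with ⟨h4, _⟩ | ⟨h4, _⟩
    · rw [h4] at h3; linarith
    · rw [h4] at h3; exact absurd h3 (by decide)
  · intro Q hQ
    have := poleDiv_apply hK x Q
    rw [hP, Finsupp.single_eq_of_ne hQ] at this
    have h3 : max (-Q.ord x) 0 = 0 := this.symm
    have := le_max_left (-Q.ord x) 0
    rw [h3] at this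
    linarith

end Groth.Agent.Lib.Helper27.FF
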