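import Groth.Agent.Lib.Helper27.FFExt1

/-! Function fields of one variable (helper27): finite extensions `K'/K`, part 2.
The constant field of `K'`: linear disjointness from `k(x)`, degree formulas. -/

set_option autoImplicit false

namespace Groth.Agent.Lib.Helper27.FF

open FunFld Polynomial IntermediateField

universe u v w

section Disjoint

variable {k : Type u} {k' : Type v} {L : Type w} [Field k] [Field k'] [Field L]
  [Algebra k k'] [Algebra k' L] [Algebra k L] [IsScalarTower k k' L]

/-- a `k`-independent family of `k'` stays independent over `k[x]` for `x` transcendental over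
`k'`. -/
theorem linearIndependent_algebra_adjoin {x : L} (hx : Transcendental k' x) {ι : Type*}
    {b : ι → k'} (hb : LinearIndependent k b) :
    LinearIndependent (Algebra.adjoin k {x}) (fun i => algebraMap k' L (b i)) := by
  classical
  rw [linearIndependent_iff']
  intro s g hg i hi
  have hmem : ∀ j, ∃ P : k[X], aeval x P = (g j : L) := by
    intro j
    have h1 : (g j : L) ∈ (aeval (R := k) x).range := by
      rw [← Algebra.adjoin_singleton_eq_range_aeval]
      exact (g j).2
    exact h1
  choose P hP using hmem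
  set G : k'[X] := ∑ j ∈ s, C (b j) * (P j).map (algebraMap k k') with hG
  have hG0 : aeval x G = 0 := by
    rw [hG, map_sum]
    rw [← hg]
    apply Finset.sum_congr rfl
    intro j _
    rw [map_mul, aeval_C, aeval_map_algebraMap, hP j, mul_comm]
    rfl
  have hGz : G = 0 := by
    by_contra hne
    exact hx ⟨G, hne, hG0⟩
  have hcoef : ∀ n : ℕ, ∑ j ∈ s, (P j).coeff n • b j = 0 := by
    intro n
    have := congrArg (fun p : k'[X] => p.coeff n) hGz
    simp only [hG, Polynomial.finsetSum_coeff, Polynomial.coeff_C_mul, Polynomial.coeff_map,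
      Polynomial.coeff_zero] at this
    rw [← this]
    apply Finset.sum_congr rfl
    intro j _
    rw [Algebra.smul_def, mul_comm]
  have hPi : P i = 0 := by
    ext n
    rw [Polynomial.coeff_zero]
    exact linearIndependent_iff'.mp hb s (fun j => (P j).coeff n) (hcoef n) i hi
  apply Subtype.ext
  rw [← hP i, hPi, map_zero]
  rfl

open scoped IntermediateField.algebraAdjoinAdjoin in
theorem linearIndependent_adjoin_simple {x : L} (hx : Transcendental k' x) {ι : Type*}
    {b : ι → k'} (hb : LinearIndependent k b) :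
    LinearIndependent k⟮x⟯ (fun i => algebraMap k' L (b i)) :=
  (LinearIndependent.iff_fractionRing (Algebra.adjoin k {x}) k⟮x⟯).mp
    (linearIndependent_algebra_adjoin hx hb)

theorem linearDisjoint_adjoin_simple {x : L} (hx : Transcendental k' x) :
    (k⟮x⟯).LinearDisjoint k' := by
  let b := Module.Free.chooseBasis k k'
  exact IntermediateField.LinearDisjoint.of_basis_right' b
    (linearIndependent_adjoin_simple hx b.linearIndependent)

theorem adjoin_adjoin_simple (x : L) :
    adjoin k' ((k⟮x⟯ : IntermediateField k L) : Set L) = k'⟮x⟯ := by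
  apply le_antisymm
  · rw [adjoin_le_iff]
    intro y hy
    have h1 : k⟮x⟯ ≤ (k'⟮x⟯).restrictScalars k := by
      rw [adjoin_le_iff]
      intro z hz
      rw [Set.mem_singleton_iff] at hz
      subst hz
      exact mem_adjoin_simple_self k' z
    exact h1 hy
  · apply adjoin.mono
    intro y hy
    rw [Set.mem_singleton_iff] at hy
    subst hy
    exact mem_adjoin_simple_self k y

/-- `[L : k(x)] = [k' : k] [L : k'(x)]` for `k'/k` algebraic, `x` transcendental over `k'`. -/
theorem rank_mul_rank_adjoin_simple [Algebra.IsAlgebraic k k'] {x : L} (hx : Transcendental k' x) :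
    Cardinal.lift.{w} (Module.rank k k') * Cardinal.lift.{v} (Module.rank k'⟮x⟯ L) =
      Cardinal.lift.{v} (Module.rank k⟮x⟯ L) := by
  have H := linearDisjoint_adjoin_simple (k := k) hx
  have := H.lift_rank_right_mul_lift_adjoin_rank_eq_of_isAlgebraic (.inr inferInstance)
  rw [adjoin_adjoin_simple] at this
  exact this

theorem finrank_mul_finrank_adjoin_simple [Algebra.IsAlgebraic k k'] {x : L}
    (hx : Transcendental k' x) :
    Module.finrank k k' * Module.finrank k'⟮x⟯ L = Module.finrank k⟮x⟯ L := by
  have := congrArg Cardinal.toNat (rank_mul_rank_adjoin_simple (k := k) hx)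
  rw [Cardinal.toNat_mul, Cardinal.toNat_lift, Cardinal.toNat_lift, Cardinal.toNat_lift] at this
  exact this

/-- finiteness of `k'/k` and of `L/k'(x)` from finiteness of `L/k(x)`. -/
theorem finite_of_finite_adjoin_simple [Algebra.IsAlgebraic k k'] {x : L}
    (hx : Transcendental k' x) [FiniteDimensional k⟮x⟯ L] :
    FiniteDimensional k k' ∧ FiniteDimensional k'⟮x⟯ L := by
  have h := rank_mul_rank_adjoin_simple (k := k) hx
  have hlt : Cardinal.lift.{v} (Module.rank k⟮x⟯ L) < Cardinal.aleph0 := by
    rw [Cardinal.lift_lt_aleph0]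
    exact Module.rank_lt_aleph0 _ _
  rw [← h, Cardinal.mul_lt_aleph0_iff] at hlt
  have h1 : Cardinal.lift.{w} (Module.rank k k') ≠ 0 := by
    rw [Ne, Cardinal.lift_eq_zero]
    exact (rank_pos (R := k) (M := k')).ne'
  have h2 : Cardinal.lift.{v} (Module.rank k'⟮x⟯ L) ≠ 0 := by
    rw [Ne, Cardinal.lift_eq_zero]
    exact (rank_pos (R := k'⟮x⟯) (M := L)).ne'
  rcases hlt with h0 | h0 | ⟨h3, h4⟩
  · exact absurd h0 h1
  · exact absurd h0 h2
  · rw [Cardinal.lift_lt_aleph0] at h3 h4
    exact ⟨Module.rank_lt_aleph0_iff.mp h3, Module.rank_lt_aleph0_iff.mp h4⟩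

end Disjoint

section Tower

variable {k : Type u} {K : Type v} {K' : Type w} [Field k] [Field K] [Field K'] [Algebra k K]
  [Algebra K K'] [Algebra k K'] [IsScalarTower k K K']

/-- `[K' : k(x)] = [K : k(x)] [K' : K]` for `x ∈ K`. -/
theorem finrank_adjoin_algebraMap (x₀ : K) :
    Module.finrank k⟮algebraMap K K' x₀⟯ K' = Module.finrank k⟮x₀⟯ K * Module.finrank K K' := by
  let f := IsScalarTower.toAlgHom k K K'
  have hE : (k⟮x₀⟯).map f = k⟮algebraMap K K' x₀⟯ := by
    rw [adjoin_map, Set.image_singleton]; rfl
  let e₁ : k⟮x₀⟯ ≃ₐ[k] k⟮algebraMap K K' x₀⟯ := ((k⟮x₀⟯).equivMap f).trans (equivOfEq hE)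
  have h1 : Module.finrank k⟮x₀⟯ K' = Module.finrank k⟮algebraMap K K' x₀⟯ K' :=
    Algebra.finrank_eq_of_equiv_equiv e₁.toRingEquiv (RingEquiv.refl K') (by
      ext y
      rfl)
  rw [← h1, Module.finrank_mul_finrank]

theorem finiteDimensional_adjoin_algebraMap (x₀ : K) [FiniteDimensional k⟮x₀⟯ K]
    [FiniteDimensional K K'] : FiniteDimensional k⟮algebraMap K K' x₀⟯ K' := by
  apply Module.finite_of_finrank_pos
  rw [finrank_adjoin_algebraMap]
  exact Nat.mul_pos Module.finrank_pos Module.finrank_pos

/-- The constant field of `K'`: a function field of one variable over it. -/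
theorem isFunctionField_algebraicClosure (hK : IsFunctionField k K) [FiniteDimensional K K'] :
    IsFunctionField (algebraicClosure k K') K' ∧ FiniteDimensional k (algebraicClosure k K') := by
  obtain ⟨⟨x₀, hx₀, hfin⟩, -⟩ := id hK
  haveI := hfin
  set x : K' := algebraMap K K' x₀ with hx
  have hxk : Transcendental k x :=
    (transcendental_algebraMap_iff (algebraMap K K').injective).mpr hx₀
  have hxk' : Transcendental (algebraicClosure k K') x := by
    intro halg
    exact hxk (IsAlgebraic.restrictScalars k halg)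
  haveI : FiniteDimensional k⟮x⟯ K' := finiteDimensional_adjoin_algebraMap x₀
  obtain ⟨h1, h2⟩ := finite_of_finite_adjoin_simple (k := k) hxk'
  refine ⟨⟨⟨x, hxk', h2⟩, ?_⟩, h1⟩
  intro y hy
  have : IsAlgebraic k y := IsAlgebraic.restrictScalars k hy
  exact ⟨⟨y, mem_algebraicClosure_iff.mpr this⟩, rfl⟩

end Tower

end Groth.Agent.Lib.Helper27.FF
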