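import Mathlib
import Groth.Prelude.Def_W4bk4goldsch23FF
import Groth.Agent.Lib.Helper23.FF1

/-! Geometric function fields: separating variables, Kähler differentials. -/

namespace Groth.Agent.Lib.Helper27.Geo
open FunFld Polynomial TensorProduct IntermediateField

universe u v
variable {k : Type u} {K : Type v} [Field k] [Field K] [Algebra k K]

theorem linearIndepOn_pow_aux (hg : IsGeometric k K) (p : ℕ) [hp : Fact p.Prime]
    [CharP k p] (k' : Type u) [Field k'] [Algebra k k'] (hfin : FiniteDimensional k k')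
    {ι : Type*} [Fintype ι] (v : ι → K) (hv : LinearIndependent k v) (c : ι → k) (d' : ι → k')
    (hd' : ∀ i, d' i ^ p = algebraMap k k' (c i)) (hc : ∑ i, c i • v i ^ p = 0) (i : ι) :
    c i = 0 := by
  classical
  have hF := hg k' hfin
  have hdom : IsDomain (k' ⊗[k] K) := hF.isDomain
  have : CharP (k' ⊗[k] K) p :=
    charP_of_injective_algebraMap (algebraMap k (k' ⊗[k] K)).injective p
  have : ExpChar (k' ⊗[k] K) p := ExpChar.prime hp.out
  let z : k' ⊗[k] K := ∑ i, d' i ⊗ₜ[k] v i
  have hz : z ^ p = 0 := by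
    have : z ^ p = ∑ i, (d' i ⊗ₜ[k] v i) ^ p := by
      show (∑ i, d' i ⊗ₜ[k] v i) ^ p = _
      exact sum_pow_char p _ _
    rw [this]
    have h2 : ∀ i : ι, (d' i ⊗ₜ[k] v i) ^ p = (1 : k') ⊗ₜ[k] (c i • v i ^ p) := by
      intro i
      rw [Algebra.TensorProduct.tmul_pow, hd', Algebra.algebraMap_eq_smul_one,
        TensorProduct.smul_tmul]
    simp_rw [h2]
    rw [← TensorProduct.tmul_sum, hc, TensorProduct.tmul_zero]
  have hz0 : z = 0 := by
    have : NoZeroDivisors (k' ⊗[k] K) := inferInstance
    have : IsReduced (k' ⊗[k] K) := inferInstance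
    exact eq_zero_of_pow_eq_zero hz
  have hli : LinearIndependent k' (fun i : ι => (1 : k') ⊗ₜ[k] v i) :=
    Module.Flat.linearIndependent_one_tmul (S := k') hv
  have hz1 : ∑ i, d' i • ((1 : k') ⊗ₜ[k] v i) = 0 := by
    rw [← hz0]
    refine Finset.sum_congr rfl fun i _ => ?_
    rw [TensorProduct.smul_tmul', smul_eq_mul, mul_one]
  have hdi : d' i = 0 := Fintype.linearIndependent_iff.mp hli d' hz1 i
  have := hd' i
  rw [hdi, zero_pow hp.out.ne_zero] at this
  exact (_root_.map_eq_zero _).mp this.symm

/-- In a geometric extension, `p`-th powers of linearly independent families stay independent. -/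
theorem linearIndepOn_pow_of_isGeometric (hg : IsGeometric k K) (p : ℕ) [hp : Fact p.Prime]
    [CharP k p] (s : Finset K) (hs : LinearIndepOn k _root_.id (s : Set K)) :
    LinearIndepOn k (· ^ p) (s : Set K) := by
  classical
  rw [LinearIndepOn, Fintype.linearIndependent_iff]
  intro c hc
  have hroot : ∀ i : ↥(s : Set K), ∃ d : AlgebraicClosure k,
      d ^ p = algebraMap k (AlgebraicClosure k) (c i) :=
    fun i => IsAlgClosed.exists_pow_nat_eq _ hp.out.pos
  choose d hd using hroot
  obtain ⟨k', hk'⟩ : ∃ k' : IntermediateField k (AlgebraicClosure k),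
      k' = IntermediateField.adjoin k (Set.range d) := ⟨_, rfl⟩
  have hfin : FiniteDimensional k k' := by
    rw [hk']
    exact IntermediateField.finiteDimensional_adjoin (fun x _ => Algebra.IsIntegral.isIntegral x)
  let d' : ↥(s : Set K) → k' := fun i => ⟨d i, hk' ▸ IntermediateField.subset_adjoin _ _ ⟨i, rfl⟩⟩
  have hd' : ∀ i, d' i ^ p = algebraMap k k' (c i) := fun i => Subtype.ext (by simpa [d'] using hd i)
  exact linearIndepOn_pow_aux hg p k' hfin (fun i : ↥(s : Set K) => (i : K)) hs c d' hd' hc


theorem isTranscendenceBasis_single (hK : IsFunctionField k K) {x : K} (hx : Transcendental k x) :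
    IsTranscendenceBasis k (fun _ : PUnit.{v+1} => x) := by
  have hfd : FiniteDimensional k⟮x⟯ K := Groth.Agent.Lib.Helper23.FF.finiteDimensional_adjoin hK hx
  have hai : AlgebraicIndependent k (fun _ : PUnit.{v+1} => x) :=
    algebraicIndependent_unique_type_iff.mpr hx
  rw [hai.isTranscendenceBasis_iff_isAlgebraic]
  have : Set.range (fun _ : PUnit.{v+1} => x) = {x} := by ext; simp
  rw [this, ← IntermediateField.isAlgebraic_adjoin_iff_top]
  exact Algebra.IsAlgebraic.of_finite _ _

theorem essFiniteType (hK : IsFunctionField k K) : Algebra.EssFiniteType k K := by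
  obtain ⟨⟨x₀, hx₀, hfd₀⟩, _⟩ := hK
  have h1 : Algebra.EssFiniteType k k⟮x₀⟯ :=
    IntermediateField.essFiniteType_iff.mpr ⟨{x₀}, by simp⟩
  exact Algebra.EssFiniteType.comp k k⟮x₀⟯ K

/-- A geometric function field has a separating variable. -/
theorem exists_separating (hK : IsFunctionField k K) (hg : IsGeometric k K) :
    ∃ x : K, Transcendental k x ∧ Algebra.IsSeparable k⟮x⟯ K := by
  have hK' := hK
  obtain ⟨⟨x₀, hx₀, hfd₀⟩, _⟩ := hK
  obtain _ | ⟨p, hp, hpk⟩ := CharP.exists' k
  · refine ⟨x₀, hx₀, ?_⟩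
    have : CharZero k⟮x₀⟯ := charZero_of_injective_algebraMap (algebraMap k _).injective
    infer_instance
  · have : ExpChar k p := .prime hp.out
    have : Algebra.EssFiniteType k K := essFiniteType hK'
    obtain ⟨s, hs, hsep⟩ :=
      exists_isTranscendenceBasis_and_isSeparable_of_linearIndepOn_pow_of_essFiniteType p hp.out
        (linearIndepOn_pow_of_isGeometric hg p)
    have hcard := hs.cardinalMk_eq (isTranscendenceBasis_single hK' hx₀)
    have hc1 : s.card = 1 := by
      have : Cardinal.mk ↥s = 1 := by rw [hcard]; simp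
      rw [Cardinal.mk_coe_finset] at this
      exact_mod_cast this
    obtain ⟨x, rfl⟩ := Finset.card_eq_one.mp hc1
    have hset : ((({x} : Finset K)) : Set K) = {x} := by simp
    rw [hset] at hsep
    refine ⟨x, ?_, hsep⟩
    have := hs.1
    have h2 := this.transcendental ⟨x, by simp⟩
    simpa using h2

end Groth.Agent.Lib.Helper27.Geo
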