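import Mathlib
import Groth.Prelude.Def_W4bk4goldsch23FF
import Groth.Agent.Lib.Helper27.FFExt2
import Groth.Agent.Lib.Helper27.Geo1

/-! Geometric function fields: intermediate fields. -/

namespace Groth.Agent.Lib.Helper27.Geo
open FunFld Polynomial TensorProduct IntermediateField

universe u v
variable {k : Type u} {K : Type v} [Field k] [Field K] [Algebra k K]

/-- `IsField (k' ⊗ K)` in the commuted form. -/
theorem isField_comm_of_isGeometric (hg : IsGeometric k K) (k' : Type u) [Field k'] [Algebra k k']
    [FiniteDimensional k k'] : IsField (K ⊗[k] k') :=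
  (Algebra.TensorProduct.comm k K k').toMulEquiv.isField (hg k' inferInstance)

theorem isGeometric_of_isField_comm
    (h : ∀ (k' : Type u) [Field k'] [Algebra k k'], FiniteDimensional k k' → IsField (K ⊗[k] k')) :
    IsGeometric k K := fun k' _ _ hfd =>
  (Algebra.TensorProduct.comm k k' K).toMulEquiv.isField (h k' hfd)

/-- A subfield of a geometric extension is geometric. -/
theorem isGeometric_intermediateField (hg : IsGeometric k K) (K₀ : IntermediateField k K) :
    IsGeometric k K₀ := by
  apply isGeometric_of_isField_comm
  intro k' _ _ hfd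
  have hF := isField_comm_of_isGeometric hg k'
  have hdom : IsDomain (K ⊗[k] k') := hF.isDomain
  let f : K₀ ⊗[k] k' →ₐ[k] K ⊗[k] k' := Algebra.TensorProduct.map K₀.val (AlgHom.id k k')
  have hinj : Function.Injective f := by
    have := Module.Flat.rTensor_preserves_injective_linearMap (M := k') K₀.val.toLinearMap
      K₀.val.injective
    exact this
  have hdom₀ : IsDomain (K₀ ⊗[k] k') := Function.Injective.isDomain f.toRingHom hinj
  have hint : Algebra.IsIntegral K₀ (K₀ ⊗[k] k') := inferInstance
  exact isField_of_isIntegral_of_isField' (R := K₀) (Field.toIsField K₀)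

/-- An intermediate field containing a transcendental element is a function field. -/
theorem isFunctionField_intermediateField (hK : IsFunctionField k K) (K₀ : IntermediateField k K)
    (h₀ : ∃ x ∈ K₀, Transcendental k x) : IsFunctionField k K₀ := by
  obtain ⟨x, hx₀, hx⟩ := h₀
  refine ⟨⟨⟨x, hx₀⟩, ?_, ?_⟩, ?_⟩
  · intro halg
    apply hx
    have := halg.algebraMap (A := K)
    simpa using this
  · have hfd : FiniteDimensional k⟮x⟯ K := Groth.Agent.Lib.Helper23.FF.finiteDimensional_adjoin hK hx
    have h1 := Groth.Agent.Lib.Helper27.FF.finrank_adjoin_algebraMap (k := k) (K := K₀) (K' := K)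
      (⟨x, hx₀⟩ : K₀)
    have h2 : algebraMap K₀ K ⟨x, hx₀⟩ = x := rfl
    rw [h2] at h1
    have h3 : 0 < Module.finrank k⟮x⟯ K := Module.finrank_pos
    rw [h1] at h3
    exact Module.finite_of_finrank_pos (Nat.pos_of_mul_pos_right h3)
  · intro y hy
    have : IsAlgebraic k (y : K) := by
      have := hy.algebraMap (A := K)
      simpa using this
    obtain ⟨c, hc⟩ := hK.2 _ this
    exact ⟨c, Subtype.ext hc⟩

end Groth.Agent.Lib.Helper27.Geo
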