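import Mathlib
import Groth.Prelude.Def_W4bk4goldsch23FF
import Groth.Agent.Lib.Helper27.FFExt2
import Groth.Agent.Lib.Helper27.Geo5

/-! Constant field extensions `K' = k' ⊗ K` of geometric function fields. -/

namespace Groth.Agent.Lib.Helper27.Geo
open FunFld Polynomial TensorProduct IntermediateField

universe u v

section ConstExt
variable {k k' : Type u} {K K' : Type v} [Field k] [Field k'] [Field K] [Field K']
    [Algebra k k'] [Algebra k K] [Algebra K K'] [Algebra k' K'] [Algebra k K']
    [IsScalarTower k k' K'] [IsScalarTower k K K']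

theorem bijective_left (h : Function.Bijective (Algebra.TensorProduct.productMap
      (IsScalarTower.toAlgHom k k' K') (IsScalarTower.toAlgHom k K K'))) :
    Function.Bijective (Algebra.TensorProduct.productLeftAlgHom (Algebra.ofId k' K')
      (IsScalarTower.toAlgHom k K K')) := by
  have : ⇑(Algebra.TensorProduct.productLeftAlgHom (Algebra.ofId k' K')
      (IsScalarTower.toAlgHom k K K')) = ⇑(Algebra.TensorProduct.productMap
      (IsScalarTower.toAlgHom k k' K') (IsScalarTower.toAlgHom k K K')) := by
    funext t
    induction t using TensorProduct.induction_on with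
    | zero => simp
    | tmul a b => simp [Algebra.ofId_apply]
    | add a b ha hb => simp only [map_add, ha, hb]
  rw [this]
  exact h

/-- the `k'`-algebra isomorphism `k' ⊗ K ≃ K'`. -/
noncomputable def equivLeft (h : Function.Bijective (Algebra.TensorProduct.productMap
      (IsScalarTower.toAlgHom k k' K') (IsScalarTower.toAlgHom k K K'))) : k' ⊗[k] K ≃ₐ[k'] K' :=
  AlgEquiv.ofBijective _ (bijective_left h)

theorem bijective_right (h : Function.Bijective (Algebra.TensorProduct.productMap
      (IsScalarTower.toAlgHom k k' K') (IsScalarTower.toAlgHom k K K'))) :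
    Function.Bijective (Algebra.TensorProduct.productLeftAlgHom (Algebra.ofId K K')
      (IsScalarTower.toAlgHom k k' K')) := by
  have : ⇑(Algebra.TensorProduct.productLeftAlgHom (Algebra.ofId K K')
      (IsScalarTower.toAlgHom k k' K')) = ⇑(Algebra.TensorProduct.productMap
      (IsScalarTower.toAlgHom k k' K') (IsScalarTower.toAlgHom k K K')) ∘
      ⇑(Algebra.TensorProduct.comm k K k') := by
    funext t
    induction t using TensorProduct.induction_on with
    | zero => simp
    | tmul a b => simp [mul_comm, Algebra.ofId_apply]
    | add a b ha hb => simp only [map_add, ha, hb, Function.comp_apply]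
  rw [this]
  exact h.comp (Algebra.TensorProduct.comm k K k').bijective

/-- the `K`-algebra isomorphism `K ⊗ k' ≃ K'`. -/
noncomputable def equivRight (h : Function.Bijective (Algebra.TensorProduct.productMap
      (IsScalarTower.toAlgHom k k' K') (IsScalarTower.toAlgHom k K K'))) : K ⊗[k] k' ≃ₐ[K] K' :=
  AlgEquiv.ofBijective _ (bijective_right h)

theorem finiteDimensional_of_bijective [FiniteDimensional k k']
    (h : Function.Bijective (Algebra.TensorProduct.productMap
      (IsScalarTower.toAlgHom k k' K') (IsScalarTower.toAlgHom k K K'))) :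
    FiniteDimensional K K' :=
  Module.Finite.equiv (equivRight h).toLinearEquiv

theorem finrank_of_bijective
    (h : Function.Bijective (Algebra.TensorProduct.productMap
      (IsScalarTower.toAlgHom k k' K') (IsScalarTower.toAlgHom k K K'))) :
    Module.finrank K K' = Module.finrank k k' := by
  rw [← (equivRight h).toLinearEquiv.finrank_eq, Module.finrank_baseChange]

end ConstExt


section Main
variable {k k' : Type u} {K K' : Type v} [Field k] [Field k'] [Field K] [Field K']
    [Algebra k k'] [FiniteDimensional k k'] [Algebra k K] [Algebra K K'] [Algebra k' K']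
    [Algebra k K'] [IsScalarTower k k' K'] [IsScalarTower k K K']

theorem isGeometric_constExt (h : Function.Bijective (Algebra.TensorProduct.productMap
      (IsScalarTower.toAlgHom k k' K') (IsScalarTower.toAlgHom k K K')))
    (hg : IsGeometric k K) : IsGeometric k' K' := by
  intro k'' _ _ hfd
  letI : Algebra k k'' := ((algebraMap k' k'').comp (algebraMap k k')).toAlgebra
  haveI : IsScalarTower k k' k'' := IsScalarTower.of_algebraMap_eq (fun _ => rfl)
  haveI : FiniteDimensional k k'' := FiniteDimensional.trans k k' k''
  have hF := hg k'' inferInstance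
  let e1 : k'' ⊗[k'] K' ≃ₐ[k'] k'' ⊗[k'] (k' ⊗[k] K) :=
    Algebra.TensorProduct.congr AlgEquiv.refl (equivLeft h).symm
  let e2 : k'' ⊗[k'] (k' ⊗[k] K) ≃ₐ[k'] k'' ⊗[k] K :=
    Algebra.TensorProduct.cancelBaseChange k k' k' k'' K
  exact (e1.trans e2).toMulEquiv.isField hF

theorem isFunctionField_constExt (h : Function.Bijective (Algebra.TensorProduct.productMap
      (IsScalarTower.toAlgHom k k' K') (IsScalarTower.toAlgHom k K K')))
    (hK : IsFunctionField k K) (hg : IsGeometric k K) : IsFunctionField k' K' := by
  haveI : FiniteDimensional K K' := finiteDimensional_of_bijective h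
  obtain ⟨⟨x₀, hx₀, hfin⟩, -⟩ := id hK
  haveI := hfin
  set x : K' := algebraMap K K' x₀ with hx
  have hxk : Transcendental k x :=
    (transcendental_algebraMap_iff (algebraMap K K').injective).mpr hx₀
  have hxk' : Transcendental k' x := fun halg => hxk (IsAlgebraic.restrictScalars k halg)
  haveI : FiniteDimensional k⟮x⟯ K' := Groth.Agent.Lib.Helper27.FF.finiteDimensional_adjoin_algebraMap x₀
  obtain ⟨_, h2⟩ := Groth.Agent.Lib.Helper27.FF.finite_of_finite_adjoin_simple (k := k) hxk'
  refine ⟨⟨x, hxk', h2⟩, ?_⟩
  intro y hy
  obtain ⟨E, hE⟩ : ∃ E : IntermediateField k' K', E = k'⟮y⟯ := ⟨_, rfl⟩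
  haveI hEfd : FiniteDimensional k' E := by
    rw [hE]
    exact IntermediateField.adjoin.finiteDimensional hy.isIntegral
  haveI : FiniteDimensional k E := FiniteDimensional.trans k k' E
  haveI : Small.{u} E := Module.Finite.small k E
  have hF := isField_comm_of_isGeometric hg (Shrink.{u} E)
  let ψ : Shrink.{u} E →ₐ[k] K' :=
    (E.val.restrictScalars k).comp (Shrink.algEquiv k E).toAlgHom
  let φ : K ⊗[k] Shrink.{u} E →ₐ[K] K' :=
    Algebra.TensorProduct.productLeftAlgHom (Algebra.ofId K K') ψ
  have hφ : Function.Injective φ := by
    rw [injective_iff_map_eq_zero]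
    intro t ht
    by_contra ht0
    obtain ⟨s, hs⟩ := hF.mul_inv_cancel ht0
    have := congrArg φ hs
    rw [map_mul, ht, zero_mul, map_one] at this
    exact zero_ne_one this
  have hle := LinearMap.finrank_le_finrank_of_injective (f := φ.toLinearMap) hφ
  rw [Module.finrank_baseChange, finrank_of_bijective h] at hle
  have h3 : Module.finrank k (Shrink.{u} E) = Module.finrank k E :=
    (Shrink.algEquiv k E).toLinearEquiv.finrank_eq
  have h4 : Module.finrank k E = Module.finrank k k' * Module.finrank k' E :=
    (Module.finrank_mul_finrank k k' E).symm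
  have h5 : Module.finrank k' E ≤ 1 := by
    have hpos : 0 < Module.finrank k k' := Module.finrank_pos
    rw [h3, h4] at hle
    exact Nat.le_of_mul_le_mul_left (by simpa using hle) hpos
  have h6 : Module.finrank k' E = 1 := le_antisymm h5 Module.finrank_pos
  rw [hE] at h6
  have := IntermediateField.finrank_adjoin_simple_eq_one_iff.mp h6
  exact IntermediateField.mem_bot.mp this

end Main

end Groth.Agent.Lib.Helper27.Geo
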