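import Mathlib
import Groth.Prelude.Def_W4bk4goldsch23FF
import Groth.Agent.Lib.Helper27.Geo1

/-! Kähler differentials of a function field with a separating variable. -/

namespace Groth.Agent.Lib.Helper27.Geo
open FunFld Polynomial TensorProduct IntermediateField KaehlerDifferential

universe u v
variable {k : Type u} {K : Type v} [Field k] [Field K] [Algebra k K]

variable (k) in
/-- `K` as a `k[X]`-algebra via `X ↦ x`. -/
@[reducible] noncomputable def polyAlg (x : K) : Algebra k[X] K := (Polynomial.aeval x).toAlgebra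

theorem kaehler_aux (x : K) (hx : Transcendental k x) [Algebra.IsSeparable k⟮x⟯ K] :
    Module.finrank K (Ω[K⁄k]) = 1 ∧ D k K x ≠ 0 := by
  letI : Algebra k[X] K := polyAlg k x
  have hst : IsScalarTower k k[X] K := IsScalarTower.of_algebraMap_eq (fun c => by
    show algebraMap k K c = aeval x (C c)
    simp)
  letI : Algebra k[X] k⟮x⟯ := (Polynomial.aeval (AdjoinSimple.gen k x)).toAlgebra
  have hst2 : IsScalarTower k[X] k⟮x⟯ K := IsScalarTower.of_algebraMap_eq (fun q => by
    show aeval x q = algebraMap k⟮x⟯ K (aeval (AdjoinSimple.gen k x) q)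
    rw [← Polynomial.aeval_algebraMap_apply, AdjoinSimple.algebraMap_gen])
  have hst3 : IsScalarTower k k[X] k⟮x⟯ := IsScalarTower.of_algebraMap_eq (fun c => by
    show algebraMap k k⟮x⟯ c = aeval (AdjoinSimple.gen k x) (C c)
    simp)
  have hinj : Function.Injective (algebraMap k[X] k⟮x⟯) := by
    have h1 : Function.Injective (algebraMap k[X] K) := transcendental_iff_injective.mp hx
    intro a b hab
    apply h1
    rw [IsScalarTower.algebraMap_apply k[X] k⟮x⟯ K, hab, ← IsScalarTower.algebraMap_apply]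
  haveI : FaithfulSMul k[X] k⟮x⟯ := (faithfulSMul_iff_algebraMap_injective _ _).mpr hinj
  haveI : IsFractionRing k[X] k⟮x⟯ := IsFractionRing.of_field k[X] k⟮x⟯ (fun z => by
    obtain ⟨r, s, h⟩ := (mem_adjoin_simple_iff k z.1).mp z.2
    refine ⟨r, s, Subtype.ext ?_⟩
    rw [h]
    show _ = ((aeval (AdjoinSimple.gen k x) r / aeval (AdjoinSimple.gen k x) s : k⟮x⟯) : K)
    push_cast
    have h1 : ∀ q : k[X], ((aeval (AdjoinSimple.gen k x) q : k⟮x⟯) : K) = aeval x q := fun q => by
      rw [← AdjoinSimple.algebraMap_gen k x, Polynomial.aeval_algebraMap_apply]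
      rfl
    rw [h1, h1])
  haveI : Algebra.FormallyEtale k[X] k⟮x⟯ := .of_isLocalization (nonZeroDivisors k[X])
  haveI : Algebra.FormallyEtale k⟮x⟯ K := .of_isSeparable _ _
  haveI : Algebra.FormallyEtale k[X] K := .comp k[X] k⟮x⟯ K
  let e1 := tensorKaehlerEquivOfFormallyEtale k k[X] K
  let e2 : K ⊗[k[X]] Ω[k[X]⁄k] ≃ₗ[K] K ⊗[k[X]] k[X] :=
    TensorProduct.AlgebraTensorModule.congr (LinearEquiv.refl K K) (polynomialEquiv k)
  let e3 : K ⊗[k[X]] k[X] ≃ₗ[K] K := TensorProduct.AlgebraTensorModule.rid k[X] K K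
  let e : Ω[K⁄k] ≃ₗ[K] K := e1.symm.trans (e2.trans e3)
  refine ⟨by rw [e.finrank_eq, Module.finrank_self], fun h0 => ?_⟩
  have : e (D k K x) = 1 := by
    have hxa : x = algebraMap k[X] K X := by
      show x = aeval x X
      simp
    conv_lhs => rw [hxa]
    simp [e, e1, e2, e3, tensorKaehlerEquivOfFormallyEtale_symm_D_algebraMap, polynomialEquiv_D]
  rw [h0, map_zero] at this
  exact zero_ne_one this

end Groth.Agent.Lib.Helper27.Geo
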