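import Mathlib
import Groth.Prelude.Def_W4bk4goldsch23FF
import Groth.Agent.Lib.Helper27.Geo2

/-! The field `kK^p`. -/

namespace Groth.Agent.Lib.Helper27.Geo
open FunFld Polynomial TensorProduct IntermediateField KaehlerDifferential

universe u v
variable {k : Type u} {K : Type v} [Field k] [Field K] [Algebra k K]
variable (p : ℕ) [hp : Fact p.Prime] [CharP K p]

theorem pow_mem_kKp (y : K) : y ^ p ∈ adjoin k (Set.range fun y : K => y ^ p) :=
  subset_adjoin _ _ ⟨y, rfl⟩

/-- Any `k`-derivation kills `kK^p`. -/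
theorem derivation_eq_zero_of_mem_kKp {M : Type*} [AddCommGroup M] [Module K M] [Module k M]
    [IsScalarTower k K M] (d : Derivation k K M) {y : K}
    (hy : y ∈ adjoin k (Set.range fun y : K => y ^ p)) : d y = 0 := by
  induction hy using IntermediateField.adjoin_induction with
  | mem z hz =>
    obtain ⟨w, rfl⟩ := hz
    show d (w ^ p) = 0
    rw [Derivation.leibniz_pow]
    have : (p : K) = 0 := CharP.cast_eq_zero K p
    rw [← Nat.cast_smul_eq_nsmul K, this, zero_smul]
  | algebraMap c => exact d.map_algebraMap c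
  | add a b _ _ ha hb => rw [map_add, ha, hb, add_zero]
  | inv a _ ha => rw [Derivation.leibniz_inv, ha, smul_zero]
  | mul a b _ _ ha hb => rw [Derivation.leibniz, ha, hb, smul_zero, smul_zero, add_zero]

theorem adjoin_kKp_eq_top_of_isSeparable (x : K) [Algebra.IsSeparable k⟮x⟯ K] :
    (adjoin k (Set.range fun y : K => y ^ p))⟮x⟯ = ⊤ := by
  have hpk : CharP k p := (algebraMap k K).charP_iff_charP p |>.mpr inferInstance
  have : ExpChar k⟮x⟯ p := by
    have : CharP k⟮x⟯ p := charP_of_injective_algebraMap (algebraMap k k⟮x⟯).injective p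
    exact ExpChar.prime hp.out
  have h1 := adjoin_eq_adjoin_pow_expChar_of_isSeparable' k⟮x⟯ K (Set.univ) p
  rw [adjoin_univ] at h1
  have h2 : ((adjoin k⟮x⟯ ((· ^ p) '' (Set.univ : Set K))).restrictScalars k) =
      adjoin k ({x} ∪ (· ^ p) '' (Set.univ : Set K)) := adjoin_adjoin_left _ _ _
  have h3 : (((adjoin k (Set.range fun y : K => y ^ p))⟮x⟯).restrictScalars k) =
      adjoin k ((Set.range fun y : K => y ^ p) ∪ {x}) := adjoin_adjoin_left _ _ _
  apply IntermediateField.restrictScalars_injective k
  rw [h3, restrictScalars_top, Set.union_comm, ← Set.image_univ, ← h2, ← h1, restrictScalars_top]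

theorem finrank_adjoin_simple_of_pow_mem {F : IntermediateField k K} {x : K} (hxp : x ^ p ∈ F)
    (hx : x ∉ F) : Module.finrank F F⟮x⟯ = p := by
  have hirr : Irreducible (X ^ p - C (⟨x ^ p, hxp⟩ : F)) := by
    apply X_pow_sub_C_irreducible_of_prime hp.out
    intro b hb
    have h1 : ((b : K)) ^ p = x ^ p := by
      have := congrArg (fun z : F => (z : K)) hb
      simpa using this
    have h2 : (b : K) = x := frobenius_inj K p h1
    exact hx (h2 ▸ b.2)
  have hroot : aeval x (X ^ p - C (⟨x ^ p, hxp⟩ : F)) = 0 := by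
    simp
  have hmonic : (X ^ p - C (⟨x ^ p, hxp⟩ : F)).Monic := monic_X_pow_sub_C _ hp.out.ne_zero
  have hmin := minpoly.eq_of_irreducible_of_monic hirr hroot hmonic
  have hint : IsIntegral F x := ⟨_, hmonic, hroot⟩
  rw [IntermediateField.adjoin.finrank hint, ← hmin, natDegree_X_pow_sub_C]


theorem not_mem_kKp_of_separating {x : K} (hx : Transcendental k x) [Algebra.IsSeparable k⟮x⟯ K] :
    x ∉ IntermediateField.adjoin k (Set.range fun y : K => y ^ p) := fun h =>
  (kaehler_aux x hx).2 (derivation_eq_zero_of_mem_kKp p (KaehlerDifferential.D k K) h)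

theorem finrank_kKp (hK : IsFunctionField k K) (hg : IsGeometric k K) :
    Module.finrank (IntermediateField.adjoin k (Set.range fun y : K => y ^ p)) K = p := by
  obtain ⟨x, hx, hsep⟩ := exists_separating hK hg
  have htop := adjoin_kKp_eq_top_of_isSeparable (k := k) p x
  have h := finrank_adjoin_simple_of_pow_mem p (pow_mem_kKp p x) (not_mem_kKp_of_separating p hx)
  rw [htop] at h
  rwa [IntermediateField.finrank_top'] at h

end Groth.Agent.Lib.Helper27.Geo
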