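import Mathlib
import Groth.Prelude.Def_W4bk4goldsch23FF
import Groth.Agent.Lib.Helper27.Geo3

/-! Converse of `adjoin_eq_adjoin_pow_expChar_of_isSeparable` for finite extensions, and the
characterisation of separating variables. -/

namespace Groth.Agent.Lib.Helper27.Geo
open FunFld Polynomial IntermediateField

section general
variable {E L : Type*} [Field E] [Field L] [Algebra E L] (p : ℕ) [hp : Fact p.Prime] [CharP L p]

theorem pow_mem_adjoin_pow_succ (j : ℕ) {y : L}
    (hy : y ∈ adjoin E (Set.range fun z : L => z ^ p ^ j)) :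
    y ^ p ∈ adjoin E (Set.range fun z : L => z ^ p ^ (j + 1)) := by
  induction hy using IntermediateField.adjoin_induction with
  | mem z hz =>
    obtain ⟨w, rfl⟩ := hz
    refine subset_adjoin _ _ ⟨w, ?_⟩
    show w ^ p ^ (j + 1) = (w ^ p ^ j) ^ p
    rw [pow_succ, pow_mul]
  | algebraMap c =>
    rw [← map_pow]
    exact IntermediateField.algebraMap_mem _ _
  | add a b _ _ ha hb =>
    rw [add_pow_char]
    exact add_mem ha hb
  | inv a _ ha =>
    rw [inv_pow]
    exact inv_mem ha
  | mul a b _ _ ha hb =>
    rw [mul_pow]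
    exact mul_mem ha hb

theorem adjoin_pow_pow_eq_top (h : adjoin E (Set.range fun y : L => y ^ p) = ⊤) (j : ℕ) :
    adjoin E (Set.range fun y : L => y ^ p ^ j) = ⊤ := by
  induction j with
  | zero =>
    have : (Set.range fun y : L => y ^ p ^ 0) = Set.univ := by
      ext y
      simp
    rw [this, adjoin_univ]
  | succ j ih =>
    rw [eq_top_iff, ← h, adjoin_le_iff]
    rintro _ ⟨y, rfl⟩
    have hy : y ∈ adjoin E (Set.range fun z : L => z ^ p ^ j) := by
      rw [ih]
      trivial
    exact pow_mem_adjoin_pow_succ p j hy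

/-- If `L/E` is finite and `L = E(L^p)` then `L/E` is separable. -/
theorem isSeparable_of_adjoin_pow_eq_top [FiniteDimensional E L]
    (h : adjoin E (Set.range fun y : L => y ^ p) = ⊤) : Algebra.IsSeparable E L := by
  rw [← separableClosure.eq_top_iff]
  set S := separableClosure E L with hS
  have hpi : IsPurelyInseparable S L := separableClosure.isPurelyInseparable E L
  have hexp : ExpChar S p := by
    have : CharP S p := (algebraMap S L).charP_iff_charP p |>.mpr inferInstance
    exact ExpChar.prime hp.out
  set d := Module.finrank S L with hd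
  have hpow : ∀ y : L, y ^ p ^ d ∈ S := by
    intro y
    obtain ⟨m, a, hmin⟩ := IsPurelyInseparable.minpoly_eq_X_pow_sub_C S p y
    have hdeg : (minpoly S y).natDegree ≤ d := minpoly.natDegree_le y
    rw [hmin, natDegree_X_pow_sub_C] at hdeg
    have hm : m ≤ d := (Nat.lt_pow_self hp.out.one_lt).le.trans hdeg
    have hroot : aeval y (minpoly S y) = 0 := minpoly.aeval _ _
    rw [hmin] at hroot
    simp only [map_sub, map_pow, aeval_X, aeval_C, sub_eq_zero] at hroot
    obtain ⟨e, he⟩ := Nat.exists_eq_add_of_le hm
    rw [he, pow_add, pow_mul, hroot]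
    exact pow_mem a.2 _
  rw [eq_top_iff, ← adjoin_pow_pow_eq_top p h d, adjoin_le_iff]
  rintro _ ⟨y, rfl⟩
  exact hpow y

end general

universe u v
variable {k : Type u} {K : Type v} [Field k] [Field K] [Algebra k K]
variable (p : ℕ) [hp : Fact p.Prime] [CharP K p]

theorem transcendental_of_not_mem_kKp (hK : IsFunctionField k K) {x : K}
    (hx : x ∉ adjoin k (Set.range fun y : K => y ^ p)) : Transcendental k x := by
  intro halg
  obtain ⟨c, rfl⟩ := hK.2 x halg
  exact hx (IntermediateField.algebraMap_mem _ c)

/-- `x ∉ kK^p` implies `K/k(x)` separable. -/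
theorem isSeparable_of_not_mem_kKp (hK : IsFunctionField k K) (hg : IsGeometric k K) {x : K}
    (hx : x ∉ adjoin k (Set.range fun y : K => y ^ p)) : Algebra.IsSeparable k⟮x⟯ K := by
  have hxt := transcendental_of_not_mem_kKp p hK hx
  have hfd : FiniteDimensional k⟮x⟯ K := Groth.Agent.Lib.Helper23.FF.finiteDimensional_adjoin hK hxt
  have hFrank := finrank_kKp (k := k) (K := K) p hK hg
  have hfdF : FiniteDimensional (adjoin k (Set.range fun y : K => y ^ p)) K :=
    Module.finite_of_finrank_pos (by rw [hFrank]; exact hp.out.pos)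
  have h1 := finrank_adjoin_simple_of_pow_mem p (pow_mem_kKp p x) hx
  have htop : (adjoin k (Set.range fun y : K => y ^ p))⟮x⟯ = ⊤ := by
    apply IntermediateField.eq_of_le_of_finrank_eq le_top
    rw [h1, IntermediateField.finrank_top', hFrank]
  apply isSeparable_of_adjoin_pow_eq_top p
  have h2 : ((adjoin k⟮x⟯ (Set.range fun y : K => y ^ p)).restrictScalars k) =
      adjoin k ({x} ∪ (Set.range fun y : K => y ^ p)) := adjoin_adjoin_left _ _ _
  have h3 : (((adjoin k (Set.range fun y : K => y ^ p))⟮x⟯).restrictScalars k) =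
      adjoin k ((Set.range fun y : K => y ^ p) ∪ {x}) := adjoin_adjoin_left _ _ _
  apply IntermediateField.restrictScalars_injective k
  rw [h2, restrictScalars_top, Set.union_comm, ← h3, htop, restrictScalars_top]

end Groth.Agent.Lib.Helper27.Geo
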