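import Mathlib
import Groth.Prelude.Def_LocRes
import Groth.Prelude.Def_W4bk4goldsch45p2
import Groth.Agent.Lib.Helper27.Geo4
import Groth.Agent.Lib.Helper23.FF1

/-! Hasse families, part 1: uniqueness of ring homomorphisms along separable algebraic extensions
(Hensel-type uniqueness), the first Hasse derivative as a derivation, and separability of the
variable of a Hasse family. -/

set_option autoImplicit false

namespace Groth.Agent.Lib.Helper27.HD

open Polynomial IntermediateField

/-- Two ring homomorphisms from a separable algebraic extension `K/F` into a domain `A` that agree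
on `F` and agree after composing with `π : A → B` (`B` nontrivial) are equal. -/
theorem ringHom_eq_of_separable {F K A B : Type*} [Field F] [Field K] [Algebra F K]
    [Algebra.IsSeparable F K] [CommRing A] [IsDomain A] [CommRing B] [Nontrivial B]
    (π : A →+* B) (f g : K →+* A)
    (hF : ∀ c : F, f (algebraMap F K c) = g (algebraMap F K c))
    (hπ : ∀ y, π (f y) = π (g y)) : f = g := by
  ext y
  set m := minpoly F y with hm
  have hsep : m.Separable := Algebra.IsSeparable.isSeparable F y
  have hroot : aeval y m = 0 := minpoly.aeval F y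
  have hder : aeval y (derivative m) ≠ 0 := hsep.aeval_derivative_ne_zero hroot
  set M : A[X] := m.map (f.comp (algebraMap F K)) with hM
  have hM' : M = m.map (g.comp (algebraMap F K)) := by
    rw [hM]; congr 1; ext c; exact hF c
  have h1 : M.eval (f y) = 0 := by
    rw [hM, eval_map, ← hom_eval₂, ← aeval_def, hroot, map_zero]
  have h2 : M.eval (g y) = 0 := by
    rw [hM', eval_map, ← hom_eval₂, ← aeval_def, hroot, map_zero]
  obtain ⟨c, hc⟩ := binomExpansion M (f y) (g y - f y)
  rw [add_sub_cancel, h1, h2, zero_add] at hc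
  have h3 : (g y - f y) * (M.derivative.eval (f y) + c * (g y - f y)) = 0 := by
    rw [hc]; ring
  have h4 : π (M.derivative.eval (f y) + c * (g y - f y)) ≠ 0 := by
    rw [map_add, map_mul, map_sub, hπ y, sub_self, mul_zero, add_zero]
    have : M.derivative.eval (f y) = f (aeval y (derivative m)) := by
      rw [hM, derivative_map, eval_map, ← hom_eval₂, ← aeval_def]
    rw [this]
    have hinj : Function.Injective (π.comp f) := (π.comp f).injective
    intro h0
    exact hder (hinj (by rw [RingHom.comp_apply, h0, map_zero]))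
  have h5 : M.derivative.eval (f y) + c * (g y - f y) ≠ 0 := by
    intro h0; exact h4 (by rw [h0, map_zero])
  have h6 := (mul_eq_zero.mp h3).resolve_right h5
  exact (sub_eq_zero.mp h6).symm

/-- Two ring homomorphisms from `K` agreeing on `k` and on `s` agree on `k⟮s⟯`. -/
theorem ringHom_eq_on_adjoin_simple {k K A : Type*} [Field k] [Field K] [Algebra k K]
    [CommRing A] (s : K) (f g : K →+* A)
    (hk : ∀ c : k, f (algebraMap k K c) = g (algebraMap k K c)) (hs : f s = g s)
    (x : K) (hx : x ∈ k⟮s⟯) : f x = g x := by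
  induction hx using IntermediateField.adjoin_induction with
  | mem z hz =>
    rw [Set.mem_singleton_iff] at hz
    subst hz; exact hs
  | algebraMap c => exact hk c
  | add a b _ _ ha hb => rw [map_add, map_add, ha, hb]
  | inv a _ ha =>
    rcases eq_or_ne a 0 with rfl | h0
    · simp
    · have h1 : f a * f a⁻¹ = 1 := by rw [← map_mul, mul_inv_cancel₀ h0, map_one]
      have h2 : g a * g a⁻¹ = 1 := by rw [← map_mul, mul_inv_cancel₀ h0, map_one]
      calc f a⁻¹ = f a⁻¹ * (g a * g a⁻¹) := by rw [h2, mul_one]
        _ = (f a * f a⁻¹) * g a⁻¹ := by rw [ha]; ring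
        _ = g a⁻¹ := by rw [h1, one_mul]
  | mul a b _ _ ha hb => rw [map_mul, map_mul, ha, hb]

/-- Uniqueness of ring homomorphisms along `K / k(s)` separable. -/
theorem ringHom_eq_of_separating {k K A B : Type*} [Field k] [Field K] [Algebra k K]
    (s : K) [Algebra.IsSeparable k⟮s⟯ K] [CommRing A] [IsDomain A] [CommRing B] [Nontrivial B]
    (π : A →+* B) (f g : K →+* A)
    (hk : ∀ c : k, f (algebraMap k K c) = g (algebraMap k K c)) (hs : f s = g s)
    (hπ : ∀ y, π (f y) = π (g y)) : f = g := by
  refine ringHom_eq_of_separable (F := k⟮s⟯) π f g ?_ hπ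
  intro c
  exact ringHom_eq_on_adjoin_simple s f g hk hs _ c.2

section Hasse

variable {k K : Type*} [Field k] [Field K] [Algebra k K]

theorem hasseD_zero {s : K} {H : K →ₐ[k] PowerSeries K} (hH : LocRes.IsHasseFamily s H) (y : K) :
    LocRes.hasseD H 0 y = y := by
  rw [LocRes.hasseD_apply, PowerSeries.coeff_zero_eq_constantCoeff_apply]
  exact hH.2 y

theorem hasseD_mul (H : K →ₐ[k] PowerSeries K) (n : ℕ) (a b : K) :
    LocRes.hasseD H n (a * b) =
      ∑ ij ∈ Finset.HasAntidiagonal.antidiagonal n, LocRes.hasseD H ij.1 a * LocRes.hasseD H ij.2 b := by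
  simp only [LocRes.hasseD_apply, map_mul, PowerSeries.coeff_mul]

theorem hasseD_add (H : K →ₐ[k] PowerSeries K) (n : ℕ) (a b : K) :
    LocRes.hasseD H n (a + b) = LocRes.hasseD H n a + LocRes.hasseD H n b := by
  simp only [LocRes.hasseD_apply, map_add]

theorem hasseD_algebraMap (H : K →ₐ[k] PowerSeries K) (n : ℕ) (c : k) :
    LocRes.hasseD H n (algebraMap k K c) = if n = 0 then algebraMap k K c else 0 := by
  rw [LocRes.hasseD_apply, H.commutes, PowerSeries.algebraMap_apply, PowerSeries.coeff_C]

theorem hasseD_var {s : K} {H : K →ₐ[k] PowerSeries K} (hH : LocRes.IsHasseFamily s H) (n : ℕ) :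
    LocRes.hasseD H n s = if n = 0 then s else if n = 1 then 1 else 0 := by
  rw [LocRes.hasseD_apply, hH.1, map_add, PowerSeries.coeff_C, PowerSeries.coeff_X]
  split_ifs <;> simp_all

/-- The first Hasse derivative as a derivation. -/
noncomputable def deriv1 {s : K} {H : K →ₐ[k] PowerSeries K} (hH : LocRes.IsHasseFamily s H) :
    Derivation k K K :=
  Derivation.mk' (((PowerSeries.coeff (R := K) 1).restrictScalars k).comp H.toLinearMap) (by
    intro a b
    have h := hasseD_mul H 1 a b
    have h0a := hasseD_zero hH a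
    have h0b := hasseD_zero hH b
    simp only [LocRes.hasseD_apply] at h h0a h0b
    show PowerSeries.coeff 1 (H (a * b)) = a • PowerSeries.coeff 1 (H b) + b • PowerSeries.coeff 1 (H a)
    rw [h, Finset.Nat.antidiagonal_succ, Finset.sum_cons, Finset.Nat.antidiagonal_zero]
    simp only [Finset.map_singleton, Finset.sum_singleton, Function.Embedding.coe_prodMap,
      Function.Embedding.coeFn_mk, Prod.map, Function.Embedding.refl_apply, Nat.succ_eq_add_one,
      zero_add, id, smul_eq_mul]
    rw [h0a, h0b]; ring)

theorem deriv1_apply {s : K} {H : K →ₐ[k] PowerSeries K} (hH : LocRes.IsHasseFamily s H) (y : K) :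
    deriv1 hH y = LocRes.hasseD H 1 y := rfl

theorem deriv1_var {s : K} {H : K →ₐ[k] PowerSeries K} (hH : LocRes.IsHasseFamily s H) :
    deriv1 hH s = 1 := by
  rw [deriv1_apply, hasseD_var hH]; simp

end Hasse

section Sep

open FunFld

universe u v
variable {k : Type u} {K : Type v} [Field k] [Field K] [Algebra k K]

theorem isGeometric_of_isAlgClosed [IsAlgClosed k] : IsGeometric k K := by
  intro k' _ _ hfd
  have hbij : Function.Bijective (algebraMap k k') :=
    IsAlgClosed.algebraMap_bijective_of_isIntegral
  let e₁ : k ≃ₐ[k] k' := AlgEquiv.ofBijective (Algebra.ofId k k') hbij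
  let e₂ : TensorProduct k k' K ≃ₐ[k] K :=
    (Algebra.TensorProduct.congr e₁.symm (AlgEquiv.refl (R := k) (A₁ := K))).trans
      (Algebra.TensorProduct.lid k K)
  exact e₂.toMulEquiv.isField (Field.toIsField K)

theorem transcendental_var (hK : IsFunctionField k K) {s : K} {H : K →ₐ[k] PowerSeries K}
    (hH : LocRes.IsHasseFamily s H) : Transcendental k s := by
  intro halg
  obtain ⟨c, rfl⟩ := hK.2 s halg
  have h := hasseD_var hH 1
  rw [hasseD_algebraMap] at h
  simp at h

theorem isSeparable_var [IsAlgClosed k] (hK : IsFunctionField k K) {s : K}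
    {H : K →ₐ[k] PowerSeries K} (hH : LocRes.IsHasseFamily s H) :
    Algebra.IsSeparable k⟮s⟯ K := by
  have htr := transcendental_var hK hH
  haveI hfd : FiniteDimensional k⟮s⟯ K := Groth.Agent.Lib.Helper23.FF.finiteDimensional_adjoin hK htr
  obtain ⟨p, hp⟩ := CharP.exists K
  rcases CharP.char_is_prime_or_zero K p with hpp | rfl
  · haveI := Fact.mk hpp
    apply Geo.isSeparable_of_not_mem_kKp p hK isGeometric_of_isAlgClosed
    intro hmem
    have h := Geo.derivation_eq_zero_of_mem_kKp p (deriv1 hH) hmem
    rw [deriv1_var] at h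
    exact one_ne_zero h
  · haveI : CharZero K := CharP.charP_to_charZero K
    haveI : CharZero k⟮s⟯ := (algebraMap k⟮s⟯ K).charZero
    exact Algebra.IsAlgebraic.isSeparable_of_perfectField

/-- Geometric version. -/
theorem isSeparable_var' (hK : IsFunctionField k K) (hg : IsGeometric k K) {s : K}
    {H : K →ₐ[k] PowerSeries K} (hH : LocRes.IsHasseFamily s H) :
    Algebra.IsSeparable k⟮s⟯ K := by
  have htr := transcendental_var hK hH
  haveI hfd : FiniteDimensional k⟮s⟯ K := Groth.Agent.Lib.Helper23.FF.finiteDimensional_adjoin hK htr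
  obtain ⟨p, hp⟩ := CharP.exists K
  rcases CharP.char_is_prime_or_zero K p with hpp | rfl
  · haveI := Fact.mk hpp
    apply Geo.isSeparable_of_not_mem_kKp p hK hg
    intro hmem
    have h := Geo.derivation_eq_zero_of_mem_kKp p (deriv1 hH) hmem
    rw [deriv1_var] at h
    exact one_ne_zero h
  · haveI : CharZero K := CharP.charP_to_charZero K
    haveI : CharZero k⟮s⟯ := (algebraMap k⟮s⟯ K).charZero
    exact Algebra.IsAlgebraic.isSeparable_of_perfectField

end Sep

end Groth.Agent.Lib.Helper27.HD
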