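import Mathlib
import Groth.Prelude.Def_LocRes

/-! Hasse families, part 2: Hasse derivatives of power series, the Taylor homomorphism
`f(X) ↦ f(X + S)` on power series and Laurent series. -/

set_option autoImplicit false

namespace Groth.Agent.Lib.Helper27.HD

open Finset PowerSeries

section PS

variable {R : Type*} [CommRing R]

/-- The `n`-th Hasse derivative of a power series. -/
noncomputable def psHasse (n : ℕ) (f : R⟦X⟧) : R⟦X⟧ :=
  PowerSeries.mk fun m => ((m + n).choose n : R) * coeff (m + n) f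

theorem coeff_psHasse (n m : ℕ) (f : R⟦X⟧) :
    coeff m (psHasse n f) = ((m + n).choose n : R) * coeff (m + n) f := coeff_mk _ _

theorem psHasse_zero (f : R⟦X⟧) : psHasse 0 f = f := by
  ext m; simp [coeff_psHasse]

theorem psHasse_add (n : ℕ) (f g : R⟦X⟧) : psHasse n (f + g) = psHasse n f + psHasse n g := by
  ext m; simp only [coeff_psHasse, map_add]; ring

theorem psHasse_zero_right (n : ℕ) : psHasse n (0 : R⟦X⟧) = 0 := by
  ext m; simp [coeff_psHasse]

theorem psHasse_C (n : ℕ) (a : R) : psHasse n (C a : R⟦X⟧) = if n = 0 then C a else 0 := by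
  ext m
  rw [coeff_psHasse, coeff_C]
  split_ifs with h1 h2 h2
  · have : m = 0 := by omega
    subst this; subst h2; simp
  · omega
  · subst h2
    rw [coeff_C, if_neg (by omega)]; simp
  · simp

theorem psHasse_X (n : ℕ) :
    psHasse n (X : R⟦X⟧) = if n = 0 then X else if n = 1 then 1 else 0 := by
  ext m
  rw [coeff_psHasse, coeff_X]
  rcases n with _ | _ | n
  · simp [coeff_X]
  · have h1 : ((if (0 + 1 : ℕ) = 0 then (X : R⟦X⟧) else if (0 + 1 : ℕ) = 1 then 1 else 0)) = 1 := by
      simp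
    rw [h1, coeff_one]
    by_cases hm : m = 0
    · subst hm; simp
    · have : ¬ (m + (0 + 1) = 1) := by omega
      rw [if_neg this, if_neg hm, mul_zero]
  · have h1 : ((if (n + 1 + 1 : ℕ) = 0 then (X : R⟦X⟧) else
        if (n + 1 + 1 : ℕ) = 1 then 1 else 0)) = 0 := by
      rw [if_neg (by omega), if_neg (by omega)]
    have : ¬ (m + (n + 1 + 1) = 1) := by omega
    rw [h1, if_neg this, mul_zero, map_zero]

theorem psHasse_mul (n : ℕ) (f g : R⟦X⟧) :
    psHasse n (f * g) = ∑ ij ∈ antidiagonal n, psHasse ij.1 f * psHasse ij.2 g := by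
  ext m
  rw [coeff_psHasse, coeff_mul, map_sum]
  simp only [coeff_mul, coeff_psHasse]
  rw [Finset.mul_sum]
  have step1 : ∀ ab ∈ antidiagonal (m + n),
      ((m + n).choose n : R) * (coeff ab.1 f * coeff ab.2 g) =
        ∑ ij ∈ antidiagonal n, ((ab.1.choose ij.1 : R) * coeff ab.1 f) *
          ((ab.2.choose ij.2 : R) * coeff ab.2 g) := by
    intro ab hab
    rw [Finset.HasAntidiagonal.mem_antidiagonal] at hab
    rw [← hab, Nat.add_choose_eq]
    push_cast
    rw [Finset.sum_mul]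
    apply sum_congr rfl
    intros; ring
  rw [Finset.sum_congr rfl step1, Finset.sum_comm]
  apply Finset.sum_congr rfl
  intro ij hij
  rw [Finset.HasAntidiagonal.mem_antidiagonal] at hij
  let emb : ℕ × ℕ ↪ ℕ × ℕ :=
    ⟨fun p => (p.1 + ij.1, p.2 + ij.2), by
      intro p q h
      simp only [Prod.mk.injEq] at h
      ext <;> omega⟩
  have himg : (antidiagonal m).map emb ⊆ antidiagonal (m + n) := by
    intro p hp
    rw [mem_map] at hp
    obtain ⟨q, hq, rfl⟩ := hp
    rw [Finset.HasAntidiagonal.mem_antidiagonal] at hq ⊢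
    show q.1 + ij.1 + (q.2 + ij.2) = m + n
    omega
  rw [← Finset.sum_subset himg, Finset.sum_map]
  · rfl
  · intro p hp hnot
    rw [Finset.HasAntidiagonal.mem_antidiagonal] at hp
    have : p.1 < ij.1 ∨ p.2 < ij.2 := by
      by_contra hcon
      push Not at hcon
      apply hnot
      rw [mem_map]
      refine ⟨(p.1 - ij.1, p.2 - ij.2), ?_, ?_⟩
      · rw [Finset.HasAntidiagonal.mem_antidiagonal]; show p.1 - ij.1 + (p.2 - ij.2) = m; omega
      · show (p.1 - ij.1 + ij.1, p.2 - ij.2 + ij.2) = p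
        ext
        · show p.1 - ij.1 + ij.1 = p.1; omega
        · show p.2 - ij.2 + ij.2 = p.2; omega
    rcases this with h | h
    · rw [Nat.choose_eq_zero_of_lt h]; simp
    · rw [Nat.choose_eq_zero_of_lt h]; simp

/-- The Taylor homomorphism `f(X) ↦ f(X + S)` on power series. -/
noncomputable def taylorPS : R⟦X⟧ →+* (R⟦X⟧)⟦X⟧ where
  toFun f := PowerSeries.mk fun n => psHasse n f
  map_one' := by
    ext n : 1
    rw [coeff_mk, ← map_one (C (R := R)), psHasse_C, coeff_one]
    split_ifs <;> simp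
  map_mul' f g := by
    ext n : 1
    rw [coeff_mk, psHasse_mul, coeff_mul]
    simp only [coeff_mk]
  map_zero' := by
    ext n : 1
    rw [coeff_mk, psHasse_zero_right, map_zero]
  map_add' f g := by
    ext n : 1
    rw [coeff_mk, psHasse_add, map_add, coeff_mk, coeff_mk]

theorem coeff_taylorPS (n : ℕ) (f : R⟦X⟧) : coeff n (taylorPS f) = psHasse n f := by
  show coeff n (PowerSeries.mk fun n => psHasse n f) = _
  rw [coeff_mk]

end PS

section Laurent

variable {F : Type*} [Field F]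

open LaurentSeries

/-- Power series to Laurent-coefficient power series: `f(X) ↦ f(X + S)`. -/
noncomputable def taylorL₀ : F⟦X⟧ →+* (F⸨X⸩)⟦X⟧ :=
  (PowerSeries.map (HahnSeries.ofPowerSeries ℤ F)).comp taylorPS

theorem coeff_taylorL₀ (n : ℕ) (f : F⟦X⟧) :
    coeff n (taylorL₀ f) = ((psHasse n f : F⟦X⟧) : F⸨X⸩) := by
  rw [taylorL₀, RingHom.comp_apply, PowerSeries.coeff_map, coeff_taylorPS]

theorem isUnit_taylorL₀_X : IsUnit (taylorL₀ (X : F⟦X⟧)) := by
  rw [PowerSeries.isUnit_iff_constantCoeff, ← coeff_zero_eq_constantCoeff_apply, coeff_taylorL₀,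
    psHasse_zero]
  rw [isUnit_iff_ne_zero]
  intro h
  have h2 : ((X : F⟦X⟧) : F⸨X⸩) = ((0 : F⟦X⟧) : F⸨X⸩) := by rw [h]; simp
  have := HahnSeries.ofPowerSeries_injective h2
  exact PowerSeries.X_ne_zero this

/-- The Taylor homomorphism on Laurent series. -/
noncomputable def taylorL : F⸨X⸩ →+* (F⸨X⸩)⟦X⟧ :=
  IsLocalization.Away.lift (X : F⟦X⟧) isUnit_taylorL₀_X

theorem taylorL_coe (f : F⟦X⟧) : taylorL (f : F⸨X⸩) = taylorL₀ f :=
  IsLocalization.Away.lift_eq (X : F⟦X⟧) isUnit_taylorL₀_X f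

theorem constantCoeff_taylorL (g : F⸨X⸩) : constantCoeff (taylorL g) = g := by
  have h : (constantCoeff.comp taylorL : F⸨X⸩ →+* F⸨X⸩) = RingHom.id _ := by
    apply IsLocalization.ringHom_ext (Submonoid.powers (X : F⟦X⟧))
    refine RingHom.ext fun f => ?_
    simp only [RingHom.comp_apply, RingHom.id_apply, LaurentSeries.coe_algebraMap]
    rw [taylorL_coe, ← coeff_zero_eq_constantCoeff_apply, coeff_taylorL₀, psHasse_zero]
  exact RingHom.congr_fun h g

theorem coe_psHasse (n : ℕ) (f : F⟦X⟧) :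
    ((psHasse n f : F⟦X⟧) : F⸨X⸩) = LaurentSeries.hasseDeriv F n (f : F⸨X⸩) := by
  ext m
  rw [LaurentSeries.hasseDeriv_coeff, PowerSeries.coeff_coe, PowerSeries.coeff_coe]
  rcases lt_or_ge m 0 with hm | hm
  · rw [if_pos hm]
    split_ifs with h2
    · simp
    · -- 0 ≤ m + n < n
      have h3 : (m + n : ℤ) = ((m + n).toNat : ℤ) := (Int.toNat_of_nonneg (by omega)).symm
      rw [h3, Ring.choose_natCast, Nat.choose_eq_zero_of_lt (by omega)]
      simp
  · rw [if_neg (by omega), if_neg (by omega)]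
    lift m to ℕ using hm
    rw [coeff_psHasse]
    have h3 : ((m : ℤ) + n) = ((m + n : ℕ) : ℤ) := by push_cast; rfl
    rw [h3, Ring.choose_natCast, Int.natAbs_natCast, Int.natAbs_natCast]
    simp

theorem coeff_taylorL_coe (n : ℕ) (f : F⟦X⟧) :
    coeff n (taylorL (f : F⸨X⸩)) = LaurentSeries.hasseDeriv F n (f : F⸨X⸩) := by
  rw [taylorL_coe, coeff_taylorL₀, coe_psHasse]

theorem taylorL_C (a : F) : taylorL (HahnSeries.C a : F⸨X⸩) = C (HahnSeries.C a) := by
  rw [← HahnSeries.ofPowerSeries_C, taylorL_coe]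
  ext n : 1
  rw [coeff_taylorL₀, psHasse_C, coeff_C]
  split_ifs <;> simp

theorem taylorL_X : taylorL (HahnSeries.single 1 1 : F⸨X⸩) = C (HahnSeries.single 1 1) + X := by
  rw [← HahnSeries.ofPowerSeries_X, taylorL_coe]
  ext n : 1
  rw [coeff_taylorL₀, psHasse_X, map_add, coeff_C, coeff_X]
  split_ifs <;> simp_all

end Laurent

end Groth.Agent.Lib.Helper27.HD
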