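import Mathlib
import Groth.Agent.Lib.Helper27.HD1
import Groth.Agent.Lib.Helper27.HD2
import Groth.Agent.Lib.Helper27.FunFld2
import Groth.Agent.Lib.Helper23.FFOrd

/-! Hasse families, part 5: iterativity, the field of constants, and linear independence of
Hasse-derivative rows over `K`. -/

set_option autoImplicit false

namespace Groth.Agent.Lib.Helper27.HD

open FunFld PowerSeries IntermediateField

section PS
variable {R : Type*} [CommRing R]

theorem taylorPS_C (a : R) : taylorPS (C a : R⟦X⟧) = C (C a) := by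
  ext n : 1
  rw [coeff_taylorPS, psHasse_C, coeff_C]

theorem taylorPS_X : taylorPS (X : R⟦X⟧) = C X + X := by
  ext n : 1
  rw [coeff_taylorPS, psHasse_X, map_add, coeff_C, coeff_X]
  split_ifs <;> simp_all

end PS

universe u v
variable {k : Type u} {K : Type v} [Field k] [Field K] [Algebra k K]

section Iter

variable {s : K} {H : K →ₐ[k] PowerSeries K} (hH : LocRes.IsHasseFamily s H)
  [Algebra.IsSeparable k⟮s⟯ K]

include hH

theorem map_comp_eq_taylorPS :
    (PowerSeries.map H.toRingHom).comp H.toRingHom = taylorPS.comp H.toRingHom := by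
  apply ringHom_eq_of_separating (k := k) s
    ((PowerSeries.constantCoeff (R := K)).comp (PowerSeries.constantCoeff (R := PowerSeries K)))
  · intro c
    simp only [RingHom.comp_apply, AlgHom.toRingHom_eq_coe, RingHom.coe_coe, AlgHom.commutes]
    rw [PowerSeries.algebraMap_apply, PowerSeries.map_C, RingHom.coe_coe, AlgHom.commutes,
      PowerSeries.algebraMap_apply, taylorPS_C]
  · simp only [RingHom.comp_apply, AlgHom.toRingHom_eq_coe, RingHom.coe_coe]
    rw [hH.1, map_add, map_add, PowerSeries.map_C, PowerSeries.map_X, RingHom.coe_coe, hH.1,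
      taylorPS_C, taylorPS_X, map_add]
    ring
  · intro y
    simp only [RingHom.comp_apply, AlgHom.toRingHom_eq_coe, RingHom.coe_coe]
    rw [← PowerSeries.coeff_zero_eq_constantCoeff_apply (R := PowerSeries K),
      PowerSeries.coeff_map, RingHom.coe_coe, PowerSeries.coeff_zero_eq_constantCoeff_apply,
      hH.2 y, hH.2 y,
      ← PowerSeries.coeff_zero_eq_constantCoeff_apply (R := PowerSeries K), coeff_taylorPS,
      psHasse_zero, hH.2 y]

/-- Iterativity of Hasse derivatives. -/
theorem hasseD_hasseD (i j : ℕ) (y : K) :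
    LocRes.hasseD H i (LocRes.hasseD H j y) = ((i + j).choose j : K) * LocRes.hasseD H (i + j) y := by
  have h := congrArg (fun z => PowerSeries.coeff i (PowerSeries.coeff j z))
    (RingHom.congr_fun (map_comp_eq_taylorPS hH) y)
  simp only [RingHom.comp_apply, AlgHom.toRingHom_eq_coe, RingHom.coe_coe] at h
  rw [PowerSeries.coeff_map, RingHom.coe_coe, coeff_taylorPS, coeff_psHasse] at h
  simpa [LocRes.hasseD_apply] using h

end Iter

theorem hasseD_one {s : K} {H : K →ₐ[k] PowerSeries K} (n : ℕ) :
    LocRes.hasseD H n (1 : K) = if n = 0 then 1 else 0 := by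
  rw [LocRes.hasseD_apply, map_one, PowerSeries.coeff_one]

theorem hasseD_sum (H : K →ₐ[k] PowerSeries K) (n : ℕ) {ι : Type*} (t : Finset ι) (f : ι → K) :
    LocRes.hasseD H n (∑ i ∈ t, f i) = ∑ i ∈ t, LocRes.hasseD H n (f i) := by
  simp only [LocRes.hasseD_apply, map_sum]

section Const

variable [IsAlgClosed k]

theorem exists_pow_of_mem_kKp (p : ℕ) [hp : Fact p.Prime] [CharP K p] {y : K}
    (hy : y ∈ adjoin k (Set.range fun z : K => z ^ p)) : ∃ b : K, y = b ^ p := by
  induction hy using IntermediateField.adjoin_induction with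
  | mem z hz =>
    obtain ⟨w, rfl⟩ := hz
    exact ⟨w, rfl⟩
  | algebraMap c =>
    obtain ⟨c', hc'⟩ := IsAlgClosed.exists_pow_nat_eq c hp.out.pos
    exact ⟨algebraMap k K c', by rw [← map_pow, hc']⟩
  | add a b _ _ ha hb =>
    obtain ⟨a', rfl⟩ := ha
    obtain ⟨b', rfl⟩ := hb
    exact ⟨a' + b', by rw [add_pow_char]⟩
  | inv a _ ha =>
    obtain ⟨a', rfl⟩ := ha
    exact ⟨a'⁻¹, (inv_pow a' p).symm⟩
  | mul a b _ _ ha hb =>
    obtain ⟨a', rfl⟩ := ha
    obtain ⟨b', rfl⟩ := hb
    exact ⟨a' * b', (mul_pow a' b' p).symm⟩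

/-- The constants of a Hasse family are the elements of `k`. -/
theorem mem_range_of_const (hK : IsFunctionField k K) {s : K} {H : K →ₐ[k] PowerSeries K}
    (hH : LocRes.IsHasseFamily s H) {a : K} (ha : H a = PowerSeries.C a) :
    a ∈ Set.range (algebraMap k K) := by
  by_contra hnot
  have htr : Transcendental k a := fun halg => hnot (hK.2 a halg)
  -- a separating constant gives a contradiction
  have hsepc : ∀ b : K, H b = PowerSeries.C b → Algebra.IsSeparable k⟮b⟯ K → False := by
    intro b hb hsep
    have h1 : H.toRingHom = (PowerSeries.C (R := K)) := by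
      apply ringHom_eq_of_separating (k := k) b (PowerSeries.constantCoeff (R := K))
      · intro c
        simp only [AlgHom.toRingHom_eq_coe, RingHom.coe_coe, AlgHom.commutes]
        rw [PowerSeries.algebraMap_apply]
      · exact hb
      · intro y
        simp only [AlgHom.toRingHom_eq_coe, RingHom.coe_coe]
        rw [hH.2 y, PowerSeries.constantCoeff_C]
    have h2 := RingHom.congr_fun h1 s
    simp only [AlgHom.toRingHom_eq_coe, RingHom.coe_coe] at h2
    rw [hH.1] at h2
    have h3 : (PowerSeries.X : PowerSeries K) = 0 := by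
      have := add_left_cancel (a := PowerSeries.C s) (b := PowerSeries.X) (c := 0)
        (by rw [h2, add_zero])
      exact this
    exact PowerSeries.X_ne_zero h3
  obtain ⟨p, hp⟩ := CharP.exists K
  rcases CharP.char_is_prime_or_zero K p with hpp | rfl
  · haveI := Fact.mk hpp
    -- descent: a = b ^ (p ^ n) with b constant
    have hdesc : ∀ n : ℕ, ∃ b : K, H b = PowerSeries.C b ∧ a = b ^ p ^ n := by
      intro n
      induction n with
      | zero => exact ⟨a, ha, by simp⟩
      | succ n ih =>
        obtain ⟨b, hb, hab⟩ := ih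
        have hbtr : Transcendental k b := by
          intro halg
          apply htr
          rw [hab]
          exact halg.pow _
        have hmem : b ∈ adjoin k (Set.range fun z : K => z ^ p) := by
          by_contra hnm
          exact hsepc b hb (Geo.isSeparable_of_not_mem_kKp p hK isGeometric_of_isAlgClosed hnm)
        obtain ⟨b', rfl⟩ := exists_pow_of_mem_kKp p hmem
        refine ⟨b', ?_, ?_⟩
        · rw [map_pow, map_pow] at hb
          haveI : CharP (PowerSeries K) p := by
            refine (RingHom.charP_iff (PowerSeries.C (R := K)) ?_ p).mp inferInstance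
            exact PowerSeries.C_injective
          exact frobenius_inj (PowerSeries K) p hb
        · rw [hab, ← pow_mul, pow_succ, mul_comm]
    obtain ⟨P, hP⟩ := FF.exists_place_val_lt_one hK htr
    have ha0 : a ≠ 0 := by rintro rfl; exact htr isAlgebraic_zero
    have hord : 0 < P.ord a := by
      unfold Place.ord
      have h1 : WithZero.log (P.1 a) < 0 := by
        rw [← WithZero.log_one]
        exact WithZero.log_lt_log (P.1.ne_zero_iff.mpr ha0) one_ne_zero |>.mpr hP
      omega
    obtain ⟨n, hn⟩ : ∃ n : ℕ, (n : ℤ) = P.ord a := ⟨(P.ord a).toNat, Int.toNat_of_nonneg hord.le⟩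
    obtain ⟨b, -, hab⟩ := hdesc n
    have hb0 : b ≠ 0 := by
      rintro rfl; rw [zero_pow (pow_ne_zero _ hpp.ne_zero)] at hab; exact ha0 hab
    have h1 := Groth.Agent.Lib.Helper23.FF.ord_pow P hb0 (p ^ n)
    rw [← hab] at h1
    have hpn : (0 : ℤ) ≤ ((p ^ n : ℕ) : ℤ) := Int.natCast_nonneg _
    have hbpos : 0 < P.ord b := by
      by_contra hle
      rw [not_lt] at hle
      have : P.ord a ≤ 0 := by
        rw [h1]; exact mul_nonpos_of_nonneg_of_nonpos hpn hle
      omega
    have h2 : ((p ^ n : ℕ) : ℤ) ≤ P.ord a := by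
      calc ((p ^ n : ℕ) : ℤ) = ((p ^ n : ℕ) : ℤ) * 1 := (mul_one _).symm
        _ ≤ ((p ^ n : ℕ) : ℤ) * P.ord b := mul_le_mul_of_nonneg_left hbpos hpn
        _ = P.ord a := h1.symm
    have h3 : n < p ^ n := Nat.lt_pow_self hpp.one_lt
    have h5 : ((n : ℕ) : ℤ) < ((p ^ n : ℕ) : ℤ) := by exact_mod_cast h3
    omega
  · haveI : CharZero K := CharP.charP_to_charZero K
    haveI hfd : FiniteDimensional k⟮a⟯ K :=
      Groth.Agent.Lib.Helper23.FF.finiteDimensional_adjoin hK htr
    haveI : CharZero k⟮a⟯ := (algebraMap k⟮a⟯ K).charZero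
    exact hsepc a ha Algebra.IsAlgebraic.isSeparable_of_perfectField

end Const

end Groth.Agent.Lib.Helper27.HD
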