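import Mathlib
import Groth.Agent.Lib.Helper27.HD5

/-! Hasse families, part 6: rows of the Hasse matrix of a `k`-independent tuple are `K`-independent;
jumps of a column sequence; existence of orders with nonzero Wronskian. -/

set_option autoImplicit false

namespace Groth.Agent.Lib.Helper27.HD

open FunFld PowerSeries IntermediateField

universe u v
variable {k : Type u} {K : Type v} [Field k] [Field K] [Algebra k K]

section Rows

variable {s : K} {H : K →ₐ[k] PowerSeries K} (hH : LocRes.IsHasseFamily s H)

theorem hasseD_zero_right (H : K →ₐ[k] PowerSeries K) (n : ℕ) : LocRes.hasseD H n (0 : K) = 0 := by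
  rw [LocRes.hasseD_apply, map_zero, map_zero]

include hH in
theorem sum_hasseD_mul_eq_zero [Algebra.IsSeparable k⟮s⟯ K] {ι : Type*} (t : Finset ι)
    (a φ : ι → K) (h₀ : ∀ j, ∑ i ∈ t, a i * LocRes.hasseD H j (φ i) = 0) :
    ∀ l j, ∑ i ∈ t, LocRes.hasseD H l (a i) * LocRes.hasseD H j (φ i) = 0 := by
  intro l
  induction l using Nat.strong_induction_on with
  | _ l ih =>
    intro j
    have h1 := congrArg (LocRes.hasseD H l) (h₀ j)
    rw [hasseD_sum, hasseD_zero_right] at h1
    simp_rw [hasseD_mul, hasseD_hasseD hH] at h1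
    rw [Finset.sum_comm] at h1
    rw [Finset.sum_eq_single (l, 0)] at h1
    · simpa using h1
    · intro uv huv hne
      rw [Finset.HasAntidiagonal.mem_antidiagonal] at huv
      have hu : uv.1 < l := by
        rcases Nat.lt_or_ge uv.1 l with h | h
        · exact h
        · exfalso; apply hne; ext <;> simp <;> omega
      have h2 := ih uv.1 hu (uv.2 + j)
      calc ∑ i ∈ t, LocRes.hasseD H uv.1 (a i) *
            (((uv.2 + j).choose j : K) * LocRes.hasseD H (uv.2 + j) (φ i))
          = ((uv.2 + j).choose j : K) *
            ∑ i ∈ t, LocRes.hasseD H uv.1 (a i) * LocRes.hasseD H (uv.2 + j) (φ i) := by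
            rw [Finset.mul_sum]; apply Finset.sum_congr rfl; intros; ring
        _ = 0 := by rw [h2, mul_zero]
    · intro hnot
      exact absurd (Finset.HasAntidiagonal.mem_antidiagonal.mpr (by simp)) hnot

variable [IsAlgClosed k]

include hH in
theorem rows_independent_aux (hK : IsFunctionField k K) {ι : Type*} [DecidableEq ι] (φ : ι → K)
    (hφ : LinearIndependent k φ) (t : Finset ι) :
    ∀ a : ι → K, (∀ j, ∑ i ∈ t, a i * LocRes.hasseD H j (φ i) = 0) → ∀ i ∈ t, a i = 0 := by
  haveI := isSeparable_var hK hH
  induction t using Finset.induction_on with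
  | empty => intro a _ i hi; simp at hi
  | insert i₀ t' hi₀ ih =>
    intro a h₀
    by_cases ha0 : a i₀ = 0
    · have h₀' : ∀ j, ∑ i ∈ t', a i * LocRes.hasseD H j (φ i) = 0 := by
        intro j
        have := h₀ j
        rwa [Finset.sum_insert hi₀, ha0, zero_mul, zero_add] at this
      intro i hi
      rcases Finset.mem_insert.mp hi with rfl | hi'
      · exact ha0
      · exact ih a h₀' i hi'
    · exfalso
      set b : ι → K := fun i => a i / a i₀ with hb
      have hb0 : b i₀ = 1 := div_self ha0
      have h₀b : ∀ j, ∑ i ∈ insert i₀ t', b i * LocRes.hasseD H j (φ i) = 0 := by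
        intro j
        have : ∑ i ∈ insert i₀ t', b i * LocRes.hasseD H j (φ i) =
            (a i₀)⁻¹ * ∑ i ∈ insert i₀ t', a i * LocRes.hasseD H j (φ i) := by
          rw [Finset.mul_sum]; apply Finset.sum_congr rfl; intros; simp only [hb]; ring
        rw [this, h₀ j, mul_zero]
      have hcl := sum_hasseD_mul_eq_zero hH (insert i₀ t') b φ h₀b
      have hconst : ∀ i ∈ insert i₀ t', ∀ l, 1 ≤ l → LocRes.hasseD H l (b i) = 0 := by
        intro i hi l hl
        have h1 : LocRes.hasseD H l (b i₀) = 0 := by
          rw [hb0, hasseD_one (s := s), if_neg (by omega)]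
        rcases Finset.mem_insert.mp hi with rfl | hi'
        · exact h1
        · refine ih (fun i => LocRes.hasseD H l (b i)) ?_ i hi'
          intro j
          have := hcl l j
          rwa [Finset.sum_insert hi₀, h1, zero_mul, zero_add] at this
      have hk : ∀ i ∈ insert i₀ t', b i ∈ Set.range (algebraMap k K) := by
        intro i hi
        apply mem_range_of_const hK hH
        ext n
        rw [PowerSeries.coeff_C]
        split_ifs with hn
        · subst hn
          rw [PowerSeries.coeff_zero_eq_constantCoeff_apply, hH.2]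
        · exact hconst i hi n (by omega)
      choose! c hc using hk
      have hrel : ∑ i ∈ insert i₀ t', c i • φ i = 0 := by
        have := h₀b 0
        rw [← this]
        apply Finset.sum_congr rfl
        intro i hi
        rw [hasseD_zero hH, Algebra.smul_def, hc i hi]
      have hc0 := linearIndependent_iff'.mp hφ (insert i₀ t') c hrel i₀ (Finset.mem_insert_self _ _)
      have := hc i₀ (Finset.mem_insert_self _ _)
      rw [hc0, map_zero, hb0] at this
      exact zero_ne_one this

include hH in
/-- Rows of the Hasse matrix of a `k`-independent tuple are `K`-independent. -/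
theorem rows_independent (hK : IsFunctionField k K) {ι : Type*} [Fintype ι] (φ : ι → K)
    (hφ : LinearIndependent k φ) (a : ι → K)
    (h₀ : ∀ j, ∑ i, a i * LocRes.hasseD H j (φ i) = 0) : a = 0 := by
  classical
  funext i
  exact rows_independent_aux hH hK φ hφ Finset.univ a h₀ i (Finset.mem_univ i)

end Rows

section Jumps

variable {V : Type*} [AddCommGroup V] [Module K V]

theorem linearIndepOn_jumps_lt (c : ℕ → V) (N : ℕ) :
    LinearIndepOn K c {j | j < N ∧ IsJump K c j} := by
  induction N with
  | zero =>
    have : {j : ℕ | j < 0 ∧ IsJump K c j} = ∅ := by ext x; simp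
    rw [this]; exact linearIndepOn_empty K c
  | succ N ih =>
    by_cases hj : IsJump K c N
    · have h2 : {j : ℕ | j < N + 1 ∧ IsJump K c j} =
          insert N {j | j < N ∧ IsJump K c j} := by
        ext x
        simp only [Set.mem_setOf_eq, Set.mem_insert_iff]
        constructor
        · rintro ⟨hx, hxj⟩
          rcases Nat.lt_succ_iff_lt_or_eq.mp hx with h | h
          · exact Or.inr ⟨h, hxj⟩
          · exact Or.inl h
        · rintro (h | ⟨h, hxj⟩)
          · subst h; exact ⟨Nat.lt_succ_self _, hj⟩
          · exact ⟨Nat.lt_succ_of_lt h, hxj⟩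
      rw [h2]
      apply ih.insert
      intro hmem
      apply hj
      refine Submodule.span_mono ?_ hmem
      rintro _ ⟨i, ⟨hi, -⟩, rfl⟩
      exact ⟨i, hi, rfl⟩
    · have h2 : {j : ℕ | j < N + 1 ∧ IsJump K c j} = {j | j < N ∧ IsJump K c j} := by
        ext x
        simp only [Set.mem_setOf_eq]
        constructor
        · rintro ⟨hx, hxj⟩
          rcases Nat.lt_succ_iff_lt_or_eq.mp hx with h | h
          · exact ⟨h, hxj⟩
          · subst h; exact absurd hxj hj
        · rintro ⟨h, hxj⟩
          exact ⟨Nat.lt_succ_of_lt h, hxj⟩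
      rw [h2]; exact ih

theorem linearIndepOn_jumps (c : ℕ → V) : LinearIndepOn K c {j | IsJump K c j} := by
  apply linearIndepOn_of_finite
  intro t ht htfin
  obtain ⟨N, hN⟩ := htfin.bddAbove
  refine (linearIndepOn_jumps_lt c (N + 1)).mono ?_
  intro j hj
  exact ⟨Nat.lt_succ_of_le (hN hj), ht hj⟩

theorem mem_span_jumps (c : ℕ → V) (j : ℕ) :
    c j ∈ Submodule.span K (c '' {i | IsJump K c i}) := by
  induction j using Nat.strong_induction_on with
  | _ j ih =>
    by_cases hj : IsJump K c j
    · exact Submodule.subset_span ⟨j, hj, rfl⟩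
    · have h3 : c j ∈ Submodule.span K (c '' Set.Iio j) := not_not.mp hj
      refine (Submodule.span_le.mpr ?_) h3
      rintro _ ⟨i, hi, rfl⟩
      exact ih i hi

theorem exists_jumps_finset [FiniteDimensional K V] (c : ℕ → V)
    (hspan : Submodule.span K (Set.range c) = ⊤) :
    ∃ S : Finset ℕ, (∀ j, j ∈ S ↔ IsJump K c j) ∧ S.card = Module.finrank K V ∧
      LinearIndepOn K c (S : Set ℕ) := by
  have hli := linearIndepOn_jumps (K := K) c
  haveI hfin : Finite {j | IsJump K c j} := hli.linearIndependent.finite_of_isNoetherian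
  have hfin' : {j | IsJump K c j}.Finite := Set.toFinite _
  refine ⟨hfin'.toFinset, fun j => by simp, ?_, by simpa using hli⟩
  have hspan' : Submodule.span K (Set.range fun x : {j | IsJump K c j} => c x) = ⊤ := by
    rw [eq_top_iff, ← hspan, Submodule.span_le]
    rintro _ ⟨j, rfl⟩
    have := mem_span_jumps (K := K) c j
    refine Submodule.span_mono ?_ this
    rintro _ ⟨i, hi, rfl⟩
    exact ⟨⟨i, hi⟩, rfl⟩
  haveI := Fintype.ofFinite {j | IsJump K c j}
  let B := Module.Basis.mk hli.linearIndependent (by rw [hspan'])
  have h1 := Module.finrank_eq_card_basis B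
  rw [h1, ← Set.toFinset_card]
  congr 1
  ext j
  simp

end Jumps

end Groth.Agent.Lib.Helper27.HD
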