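import Mathlib
import Groth.Agent.Lib.Helper27.HD6

/-! Hasse families, part 7: the column sequence of a `k`-independent tuple spans; existence of
orders; the Wronskian at the orders is nonzero. -/

set_option autoImplicit false

namespace Groth.Agent.Lib.Helper27.HD

open FunFld PowerSeries IntermediateField

universe u v
variable {k : Type u} {K : Type v} [Field k] [Field K] [Algebra k K]

/-- The column index of `wrMat`. -/
def idx {n : ℕ} (J : Fin n → ℕ) : Fin (n + 1) → ℕ :=
  fun i => Fin.cases (motive := fun _ => ℕ) 0 (fun m => J m + 1) i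

theorem wrMat_col {n : ℕ} (τ : K →ₐ[k] K) (H : K →ₐ[k] PowerSeries K) (φ : Fin (n + 1) → K)
    (J : Fin n → ℕ) (i : Fin (n + 1)) : (wrMat τ H φ J).col i = hcol τ H φ (idx J i) := by
  funext r
  refine Fin.cases ?_ (fun m => ?_) i
  · rfl
  · rfl

theorem idx_injective {n : ℕ} {J : Fin n → ℕ} (hJ : StrictMono J) : Function.Injective (idx J) := by
  intro a b hab
  induction a using Fin.cases with
  | zero =>
    induction b using Fin.cases with
    | zero => rfl
    | succ b => simp [idx] at hab
  | succ a =>
    induction b using Fin.cases with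
    | zero => simp [idx] at hab
    | succ b =>
      simp only [idx, Fin.cases_succ, add_left_inj] at hab
      rw [hJ.injective hab]

section

variable {n : ℕ} (φ : Fin (n + 1) → K) (hφ : LinearIndependent k φ) (τ : K →ₐ[k] K)
  {s : K} {H : K →ₐ[k] PowerSeries K}

include hφ in
theorem isJump_zero : IsJump K (hcol τ H φ) 0 := by
  unfold IsJump
  have : (Set.Iio 0 : Set ℕ) = ∅ := by ext x; simp
  rw [this, Set.image_empty, Submodule.span_empty, Submodule.mem_bot]
  intro h
  have h0 := congrFun h 0
  have h1 : τ (φ 0) = 0 := h0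
  exact hφ.ne_zero 0 ((map_eq_zero_iff τ τ.toRingHom.injective).mp h1)

include hφ in
theorem linearIndependent_cols_of_isOrders {J : Fin n → ℕ}
    (hJ : IsOrders K (hcol τ H φ) J) :
    LinearIndependent K (fun i : Fin (n + 1) => hcol τ H φ (idx J i)) := by
  have hli := (linearIndepOn_jumps (K := K) (hcol τ H φ)).linearIndependent
  have hmem : ∀ i : Fin (n + 1), idx J i ∈ {j | IsJump K (hcol τ H φ) j} := by
    intro i
    induction i using Fin.cases with
    | zero => exact isJump_zero φ hφ τ
    | succ m => exact (hJ.2 (J m)).mp ⟨m, rfl⟩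
  have := hli.comp (fun i : Fin (n + 1) => (⟨idx J i, hmem i⟩ : {j | IsJump K (hcol τ H φ) j}))
    (by
      intro a b hab
      exact idx_injective hJ.1 (Subtype.mk.inj hab))
  exact this

include hφ in
theorem det_wrMat_ne_zero_of_isOrders {J : Fin n → ℕ}
    (hJ : IsOrders K (hcol τ H φ) J) : (wrMat τ H φ J).det ≠ 0 := by
  have h1 := linearIndependent_cols_of_isOrders φ hφ τ hJ
  have h2 : LinearIndependent K (wrMat τ H φ J).col := by
    have : (wrMat τ H φ J).col = fun i => hcol τ H φ (idx J i) := funext (wrMat_col τ H φ J)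
    rw [this]; exact h1
  have h3 := Matrix.linearIndependent_cols_iff_isUnit.mp h2
  exact ((Matrix.isUnit_iff_isUnit_det _).mp h3).ne_zero

variable [IsAlgClosed k]

include hφ in
theorem span_hcol_eq_top (hK : IsFunctionField k K) (hH : LocRes.IsHasseFamily s H) :
    Submodule.span K (Set.range (hcol τ H φ)) = ⊤ := by
  by_contra hne
  obtain ⟨f, hf0, hle⟩ := Submodule.exists_le_ker_of_lt_top _ (lt_top_iff_ne_top.mpr hne)
  apply hf0
  set a : Fin (n + 1) → K := fun i => f (fun j => if i = j then 1 else 0) with ha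
  have hfa : ∀ v : Fin (n + 1) → K, f v = ∑ i, v i * a i := by
    intro v
    rw [LinearMap.pi_apply_eq_sum_univ f v]
    rfl
  have ha0 : a = 0 := by
    apply rows_independent hH hK φ hφ a
    intro j
    have h1 : hcol τ H φ (j + 1) ∈ LinearMap.ker f := hle (Submodule.subset_span ⟨j + 1, rfl⟩)
    rw [LinearMap.mem_ker, hfa] at h1
    rw [← h1]
    apply Finset.sum_congr rfl
    intro i _
    show a i * LocRes.hasseD H j (φ i) = LocRes.hasseD H j (φ i) * a i
    ring
  refine LinearMap.ext fun v => ?_
  rw [hfa, ha0]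
  simp

include hφ in
/-- Existence of the `τ`-order sequence. -/
theorem exists_isOrders (hK : IsFunctionField k K) (hH : LocRes.IsHasseFamily s H) :
    ∃ J : Fin n → ℕ, IsOrders K (hcol τ H φ) J := by
  classical
  obtain ⟨S, hS, hcard, -⟩ := exists_jumps_finset (K := K) (hcol τ H φ)
    (span_hcol_eq_top φ hφ τ hK hH)
  rw [Module.finrank_fintype_fun_eq_card, Fintype.card_fin] at hcard
  have h0 : 0 ∈ S := (hS 0).mpr (isJump_zero φ hφ τ)
  set T : Finset ℕ := (S.erase 0).image Nat.pred with hT
  have hTcard : T.card = n := by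
    rw [hT, Finset.card_image_of_injOn, Finset.card_erase_of_mem h0, hcard]
    · rfl
    · intro a ha b hb hab
      have ha' : a ≠ 0 := (Finset.mem_erase.mp ha).1
      have hb' : b ≠ 0 := (Finset.mem_erase.mp hb).1
      simp only [Nat.pred_eq_sub_one] at hab
      omega
  have hTmem : ∀ j, j ∈ T ↔ IsJump K (hcol τ H φ) (j + 1) := by
    intro j
    rw [hT, Finset.mem_image]
    constructor
    · rintro ⟨a, ha, rfl⟩
      have ha' : a ≠ 0 := (Finset.mem_erase.mp ha).1
      have : a.pred + 1 = a := by simp only [Nat.pred_eq_sub_one]; omega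
      rw [this]
      exact (hS a).mp (Finset.mem_erase.mp ha).2
    · intro hj
      exact ⟨j + 1, Finset.mem_erase.mpr ⟨by omega, (hS _).mpr hj⟩, rfl⟩
  refine ⟨fun l => T.orderEmbOfFin hTcard l, (T.orderEmbOfFin hTcard).strictMono, ?_⟩
  intro j
  rw [← hTmem j]
  have := Finset.range_orderEmbOfFin T hTcard
  rw [← Finset.mem_coe, ← this]

end

end Groth.Agent.Lib.Helper27.HD
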