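import Mathlib
import Groth.Agent.Lib.Helper27.HD7

/-! Hasse families, part 8: the chain rule (change of separating variable). -/

set_option autoImplicit false

namespace Groth.Agent.Lib.Helper27.HD

open FunFld PowerSeries IntermediateField

universe u v
variable {k : Type u} {K : Type v} [Field k] [Field K] [Algebra k K]

/-- `H_t(s) - s`. -/
noncomputable def shift (Ht : K →ₐ[k] PowerSeries K) (s : K) : PowerSeries K := Ht s - C s

/-- The chain-rule coefficients: the coefficient of `T^j` in `(H_t(s) - s)^d`. -/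
noncomputable def chainCoeff (Ht : K →ₐ[k] PowerSeries K) (s : K) (d j : ℕ) : K :=
  coeff j (shift Ht s ^ d)

section

variable {s t : K} {Hs Ht : K →ₐ[k] PowerSeries K}

theorem constantCoeff_shift (hHt : LocRes.IsHasseFamily t Ht) (s : K) :
    constantCoeff (shift Ht s) = 0 := by
  rw [shift, map_sub, hHt.2, constantCoeff_C, sub_self]

theorem exists_shift_eq (hHt : LocRes.IsHasseFamily t Ht) (s : K) :
    ∃ ρ : PowerSeries K, shift Ht s = X * ρ ∧ constantCoeff ρ = LocRes.hasseD Ht 1 s := by
  obtain ⟨ρ, hρ⟩ := X_dvd_iff.mpr (constantCoeff_shift hHt s)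
  refine ⟨ρ, hρ, ?_⟩
  have h1 : coeff 1 (shift Ht s) = LocRes.hasseD Ht 1 s := by
    rw [shift, map_sub, coeff_C, if_neg one_ne_zero, sub_zero]; rfl
  rw [← h1, hρ, ← coeff_zero_eq_constantCoeff_apply]
  have := coeff_succ_X_mul 0 ρ
  simpa using this.symm

theorem chainCoeff_of_lt (hHt : LocRes.IsHasseFamily t Ht) (s : K) {d j : ℕ} (h : j < d) :
    chainCoeff Ht s d j = 0 := by
  obtain ⟨ρ, hρ, -⟩ := exists_shift_eq hHt s
  rw [chainCoeff, hρ, mul_pow, coeff_X_pow_mul', if_neg (by omega)]

theorem chainCoeff_self (hHt : LocRes.IsHasseFamily t Ht) (s : K) (d : ℕ) :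
    chainCoeff Ht s d d = LocRes.hasseD Ht 1 s ^ d := by
  obtain ⟨ρ, hρ, hρ0⟩ := exists_shift_eq hHt s
  rw [chainCoeff, hρ, mul_pow, coeff_X_pow_mul', if_pos le_rfl, Nat.sub_self,
    coeff_zero_eq_constantCoeff_apply, map_pow, hρ0]

variable [IsAlgClosed k]

theorem subst_shift_eq (hK : IsFunctionField k K) (hHs : LocRes.IsHasseFamily s Hs)
    (hHt : LocRes.IsHasseFamily t Ht) (y : K) :
    (Hs y).subst (shift Ht s) = Ht y := by
  haveI := isSeparable_var hK hHs
  have hσ : HasSubst (shift Ht s) := HasSubst.of_constantCoeff_zero' (constantCoeff_shift hHt s)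
  set G : K →+* PowerSeries K :=
    ((substAlgHom hσ : PowerSeries K →ₐ[K] PowerSeries K) : PowerSeries K →+* PowerSeries K).comp
      Hs.toRingHom with hG
  have hcc : ∀ f : PowerSeries K, constantCoeff (substAlgHom (R := K) hσ f) = constantCoeff f := by
    intro f
    have h1 : f = C (constantCoeff f) + (f - C (constantCoeff f)) := by ring
    have h2 : constantCoeff (f - C (constantCoeff f)) = 0 := by
      rw [map_sub, constantCoeff_C, sub_self]
    have h3 := constantCoeff_subst_eq_zero (constantCoeff_shift hHt s) _ h2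
    rw [← coe_substAlgHom hσ] at h3
    conv_lhs => rw [h1]
    rw [map_add, map_add]
    have h4 : substAlgHom (R := K) hσ (C (constantCoeff f)) = C (constantCoeff f) := by
      rw [coe_substAlgHom, subst_C]; rfl
    rw [h4, constantCoeff_C]
    erw [h3]
    rw [add_zero]
  have hGH : G = Ht.toRingHom := by
    apply ringHom_eq_of_separating (k := k) s (constantCoeff (R := K))
    · intro c
      simp only [hG, RingHom.comp_apply, AlgHom.toRingHom_eq_coe, RingHom.coe_coe, AlgHom.commutes]
      rw [IsScalarTower.algebraMap_apply k K (PowerSeries K), AlgHom.commutes]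
    · simp only [hG, RingHom.comp_apply, AlgHom.toRingHom_eq_coe, RingHom.coe_coe]
      rw [hHs.1, map_add, substAlgHom_X]
      have h4 : substAlgHom (R := K) hσ (C s) = C s := by
        rw [coe_substAlgHom, subst_C]; rfl
      rw [h4, shift]; ring
    · intro y
      simp only [hG, RingHom.comp_apply, AlgHom.toRingHom_eq_coe, RingHom.coe_coe]
      rw [hcc, hHs.2, hHt.2]
  have := RingHom.congr_fun hGH y
  simp only [hG, RingHom.comp_apply, AlgHom.toRingHom_eq_coe, RingHom.coe_coe] at this
  rw [← this, coe_substAlgHom]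

/-- Chain rule for Hasse derivatives. -/
theorem hasseD_chain (hK : IsFunctionField k K) (hHs : LocRes.IsHasseFamily s Hs)
    (hHt : LocRes.IsHasseFamily t Ht) (y : K) (j : ℕ) :
    LocRes.hasseD Ht j y =
      ∑ d ∈ Finset.range (j + 1), LocRes.hasseD Hs d y * chainCoeff Ht s d j := by
  have hσ : HasSubst (shift Ht s) := HasSubst.of_constantCoeff_zero' (constantCoeff_shift hHt s)
  rw [LocRes.hasseD_apply, ← subst_shift_eq hK hHs hHt y, coeff_subst' hσ]
  rw [finsum_eq_sum_of_support_subset (s := Finset.range (j + 1))]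
  · apply Finset.sum_congr rfl
    intro d _
    rw [smul_eq_mul]; rfl
  · intro d hd
    rw [Function.mem_support] at hd
    rw [Finset.coe_range, Set.mem_Iio]
    by_contra hlt
    apply hd
    have := chainCoeff_of_lt hHt s (d := d) (j := j) (by omega)
    rw [chainCoeff] at this
    rw [this, smul_zero]

end

end Groth.Agent.Lib.Helper27.HD
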