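import Mathlib
import Groth.Agent.Lib.Helper27.HD8

/-! Hasse families, part 9: triangular changes of column sequences; change of separating
variable for orders and Wronskians. -/

set_option autoImplicit false

namespace Groth.Agent.Lib.Helper27.HD

open FunFld PowerSeries IntermediateField

universe u v
variable {k : Type u} {K : Type v} [Field k] [Field K] [Algebra k K]

section Tri

variable {V : Type*} [AddCommGroup V] [Module K V]

theorem Iio_succ_eq (N : ℕ) : (Set.Iio (N + 1) : Set ℕ) = insert N (Set.Iio N) := by
  ext x; simp only [Set.mem_Iio, Set.mem_insert_iff]; omega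

theorem span_image_Iio_eq_of_tri (c c' : ℕ → V)
    (h : ∀ N, ∃ u : K, u ≠ 0 ∧ c' N - u • c N ∈ Submodule.span K (c '' Set.Iio N)) :
    ∀ N, Submodule.span K (c' '' Set.Iio N) = Submodule.span K (c '' Set.Iio N) := by
  intro N
  induction N with
  | zero =>
    have h1 : (Set.Iio 0 : Set ℕ) = ∅ := by ext x; simp
    rw [h1, Set.image_empty, Set.image_empty]
  | succ N ih =>
    obtain ⟨u, hu, hw⟩ := h N
    rw [Iio_succ_eq, Set.image_insert_eq, Set.image_insert_eq, Submodule.span_insert,
      Submodule.span_insert, ih]
    have hle : Submodule.span K (c '' Set.Iio N) ≤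
        Submodule.span K {c N} ⊔ Submodule.span K (c '' Set.Iio N) := le_sup_right
    have hle' : Submodule.span K (c '' Set.Iio N) ≤
        Submodule.span K {c' N} ⊔ Submodule.span K (c '' Set.Iio N) := le_sup_right
    apply le_antisymm
    · refine sup_le ?_ hle
      rw [Submodule.span_singleton_le_iff_mem]
      have : c' N = u • c N + (c' N - u • c N) := by abel
      rw [this]
      refine add_mem (Submodule.smul_mem _ _ ?_) (hle hw)
      exact (le_sup_left : Submodule.span K {c N} ≤ _) (Submodule.mem_span_singleton_self _)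
    · refine sup_le ?_ hle'
      rw [Submodule.span_singleton_le_iff_mem]
      have : c N = u⁻¹ • c' N - u⁻¹ • (c' N - u • c N) := by
        rw [smul_sub, smul_smul, inv_mul_cancel₀ hu, one_smul]; abel
      rw [this]
      refine sub_mem (Submodule.smul_mem _ _ ?_) (Submodule.smul_mem _ _ (hle' hw))
      exact (le_sup_left : Submodule.span K {c' N} ≤ _) (Submodule.mem_span_singleton_self _)

theorem isJump_iff_of_tri (c c' : ℕ → V)
    (h : ∀ N, ∃ u : K, u ≠ 0 ∧ c' N - u • c N ∈ Submodule.span K (c '' Set.Iio N)) (N : ℕ) :
    IsJump K c' N ↔ IsJump K c N := by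
  unfold IsJump
  rw [span_image_Iio_eq_of_tri c c' h N]
  obtain ⟨u, hu, hw⟩ := h N
  rw [not_iff_not]
  constructor
  · intro h1
    have : c N = u⁻¹ • c' N - u⁻¹ • (c' N - u • c N) := by
      rw [smul_sub, smul_smul, inv_mul_cancel₀ hu, one_smul]; abel
    rw [this]
    exact sub_mem (Submodule.smul_mem _ _ h1) (Submodule.smul_mem _ _ hw)
  · intro h1
    have : c' N = u • c N + (c' N - u • c N) := by abel
    rw [this]
    exact add_mem (Submodule.smul_mem _ _ h1) hw

theorem span_image_Iio_le_span_jumps (c : ℕ → V) (N : ℕ) :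
    Submodule.span K (c '' Set.Iio N) ≤
      Submodule.span K (c '' {j | j < N ∧ IsJump K c j}) := by
  rw [Submodule.span_le]
  rintro _ ⟨j, hj, rfl⟩
  rw [Set.mem_Iio] at hj
  induction j using Nat.strong_induction_on with
  | _ j ih =>
    by_cases hjump : IsJump K c j
    · exact Submodule.subset_span ⟨j, ⟨hj, hjump⟩, rfl⟩
    · have h3 : c j ∈ Submodule.span K (c '' Set.Iio j) := not_not.mp hjump
      refine (Submodule.span_le.mpr ?_) h3
      rintro _ ⟨i, hi, rfl⟩
      exact ih i hi (lt_trans hi hj)

theorem det_eq_prod_mul_det_of_tri {m : ℕ} (A B : Matrix (Fin m) (Fin m) K) (u : Fin m → K)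
    (h : ∀ i, B.col i - u i • A.col i ∈ Submodule.span K (A.col '' {i' | i' < i})) :
    B.det = (∏ i, u i) * A.det := by
  classical
  have h' : ∀ i, ∃ l : Fin m →₀ K, l ∈ Finsupp.supported K K {i' | i' < i} ∧
      Finsupp.linearCombination K A.col l = B.col i - u i • A.col i := by
    intro i
    exact (Finsupp.mem_span_image_iff_linearCombination K).mp (h i)
  choose l hl hlc using h'
  set U : Matrix (Fin m) (Fin m) K := Matrix.of fun i' i => l i i' + if i' = i then u i else 0
    with hU
  have hl0 : ∀ i i', ¬ i' < i → l i i' = 0 := by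
    intro i i' hlt
    by_contra hne
    have := hl i (Finsupp.mem_support_iff.mpr hne)
    exact hlt this
  have hBU : B = A * U := by
    ext r i
    rw [Matrix.mul_apply]
    have h1 := congrFun (hlc i) r
    rw [Finsupp.linearCombination_apply, Finsupp.sum_fintype _ _ (by simp)] at h1
    simp only [Finset.sum_apply, Pi.smul_apply, Pi.sub_apply, smul_eq_mul] at h1
    have h2 : B r i = (∑ i', l i i' * A r i') + u i * A r i := by
      have : B r i = (B.col i r - u i * A.col i r) + u i * A.col i r := by
        show B.col i r = _; ring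
      rw [this, ← h1]; rfl
    rw [h2]
    simp only [hU, Matrix.of_apply, mul_add, Finset.sum_add_distrib, mul_ite, mul_zero,
      Finset.sum_ite_eq', Finset.mem_univ, if_true]
    congr 1
    · apply Finset.sum_congr rfl; intros; ring
    · ring
  have hUtri : U.BlockTriangular id := by
    intro i' i hlt
    simp only [id] at hlt
    simp only [hU, Matrix.of_apply]
    rw [hl0 i i' (by omega), if_neg (by omega), add_zero]
  rw [hBU, Matrix.det_mul, Matrix.det_of_isUpperTriangular hUtri, mul_comm]
  congr 1
  apply Finset.prod_congr rfl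
  intro i _
  simp only [hU, Matrix.of_apply, if_true]
  rw [hl0 i i (lt_irrefl _), zero_add]

end Tri

end Groth.Agent.Lib.Helper27.HD
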