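import Mathlib
import Groth.Agent.Lib.Helper27.HD9

/-! Hasse families, part 10: orders and Wronskians under change of separating variable. -/

set_option autoImplicit false

namespace Groth.Agent.Lib.Helper27.HD

open FunFld PowerSeries IntermediateField

universe u v
variable {k : Type u} {K : Type v} [Field k] [Field K] [Algebra k K] [IsAlgClosed k]

variable {n : ℕ} (φ : Fin (n + 1) → K) (τ : K →ₐ[k] K)
  {s t : K} {Hs Ht : K →ₐ[k] PowerSeries K}

theorem hasseD_one_var_ne_zero (hK : IsFunctionField k K) (hHs : LocRes.IsHasseFamily s Hs)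
    (hHt : LocRes.IsHasseFamily t Ht) : LocRes.hasseD Ht 1 s ≠ 0 := by
  have h := hasseD_chain hK hHs hHt t 1
  rw [hasseD_var hHt, if_neg one_ne_zero, if_pos rfl, Finset.sum_range_succ,
    Finset.sum_range_one, chainCoeff_self hHt s 1, pow_one] at h
  have h0 : chainCoeff Ht s 0 1 = 0 := by
    rw [chainCoeff, pow_zero, coeff_one, if_neg one_ne_zero]
  rw [h0, mul_zero, zero_add] at h
  intro h1
  rw [h1, mul_zero] at h
  exact one_ne_zero h

/-- The multiplier in the triangular relation between the two column sequences. -/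
noncomputable def triU (Ht : K →ₐ[k] PowerSeries K) (s : K) : ℕ → K
  | 0 => 1
  | j + 1 => LocRes.hasseD Ht 1 s ^ j

theorem hcol_tri (hK : IsFunctionField k K) (hHs : LocRes.IsHasseFamily s Hs)
    (hHt : LocRes.IsHasseFamily t Ht) (N : ℕ) :
    hcol τ Ht φ N - triU Ht s N • hcol τ Hs φ N ∈
      Submodule.span K (hcol τ Hs φ '' Set.Iio N) := by
  cases N with
  | zero =>
    have : hcol τ Ht φ 0 - triU Ht s 0 • hcol τ Hs φ 0 = 0 := by
      simp only [triU, one_smul]
      show (fun i => τ (φ i)) - (fun i => τ (φ i)) = 0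
      rw [sub_self]
    rw [this]; exact zero_mem _
  | succ j =>
    have h1 : hcol τ Ht φ (j + 1) - triU Ht s (j + 1) • hcol τ Hs φ (j + 1) =
        ∑ d ∈ Finset.range j, chainCoeff Ht s d j • hcol τ Hs φ (d + 1) := by
      funext i
      simp only [Pi.sub_apply, Pi.smul_apply, Finset.sum_apply, smul_eq_mul, triU]
      show LocRes.hasseD Ht j (φ i) - LocRes.hasseD Ht 1 s ^ j * LocRes.hasseD Hs j (φ i) =
        ∑ d ∈ Finset.range j, chainCoeff Ht s d j * LocRes.hasseD Hs d (φ i)
      rw [hasseD_chain hK hHs hHt (φ i) j, Finset.sum_range_succ, chainCoeff_self hHt s j]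
      rw [add_sub_assoc, mul_comm (LocRes.hasseD Hs j (φ i)), sub_self, add_zero]
      apply Finset.sum_congr rfl; intros; ring
    rw [h1]
    refine Submodule.sum_mem _ fun d hd => Submodule.smul_mem _ _ (Submodule.subset_span ?_)
    exact ⟨d + 1, by rw [Set.mem_Iio]; have := Finset.mem_range.mp hd; omega, rfl⟩

theorem triU_ne_zero (hK : IsFunctionField k K) (hHs : LocRes.IsHasseFamily s Hs)
    (hHt : LocRes.IsHasseFamily t Ht) (N : ℕ) : triU Ht s N ≠ 0 := by
  cases N with
  | zero => exact one_ne_zero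
  | succ j => exact pow_ne_zero _ (hasseD_one_var_ne_zero hK hHs hHt)

theorem isOrders_iff_change (hK : IsFunctionField k K) (hHs : LocRes.IsHasseFamily s Hs)
    (hHt : LocRes.IsHasseFamily t Ht) (J : Fin n → ℕ) :
    IsOrders K (hcol τ Ht φ) J ↔ IsOrders K (hcol τ Hs φ) J := by
  have htri : ∀ N, ∃ u : K, u ≠ 0 ∧ hcol τ Ht φ N - u • hcol τ Hs φ N ∈
      Submodule.span K (hcol τ Hs φ '' Set.Iio N) :=
    fun N => ⟨triU Ht s N, triU_ne_zero hK hHs hHt N, hcol_tri φ τ hK hHs hHt N⟩
  unfold IsOrders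
  simp only [isJump_iff_of_tri _ _ htri]

theorem strictMono_idx {J : Fin n → ℕ} (hJ : StrictMono J) : StrictMono (idx J) := by
  intro a b hab
  induction b using Fin.cases with
  | zero => exact absurd hab (Fin.not_lt_zero a)
  | succ b =>
    induction a using Fin.cases with
    | zero => simp [idx]
    | succ a =>
      simp only [idx, Fin.cases_succ, add_lt_add_iff_right]
      exact hJ (Fin.succ_lt_succ_iff.mp hab)

theorem det_wrMat_change (hK : IsFunctionField k K) (hHs : LocRes.IsHasseFamily s Hs)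
    (hHt : LocRes.IsHasseFamily t Ht) (J : Fin n → ℕ) (hJ : IsOrders K (hcol τ Hs φ) J) :
    (wrMat τ Ht φ J).det = LocRes.hasseD Ht 1 s ^ (∑ l, J l) * (wrMat τ Hs φ J).det := by
  have hmono := strictMono_idx hJ.1
  have h := det_eq_prod_mul_det_of_tri (wrMat τ Hs φ J) (wrMat τ Ht φ J)
    (fun i => triU Ht s (idx J i)) ?_
  · rw [h, Fin.prod_univ_succ]
    congr 1
    simp only [idx, Fin.cases_zero, Fin.cases_succ, triU, one_mul]
    rw [Finset.prod_pow_eq_pow_sum]
  · intro i
    rw [wrMat_col, wrMat_col]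
    have h1 := hcol_tri φ τ hK hHs hHt (idx J i)
    refine Submodule.span_mono ?_ (span_image_Iio_le_span_jumps (K := K) _ _ h1)
    rintro _ ⟨j, ⟨hj, hjump⟩, rfl⟩
    -- `j` is a jump below `idx J i`
    have hj' : ∃ i', idx J i' = j := by
      cases j with
      | zero => exact ⟨0, rfl⟩
      | succ j' =>
        obtain ⟨l, hl⟩ := (hJ.2 j').mpr hjump
        exact ⟨l.succ, by simp [idx, hl]⟩
    obtain ⟨i', rfl⟩ := hj'
    refine ⟨i', ?_, (wrMat_col τ Hs φ J i')⟩
    exact hmono.lt_iff_lt.mp hj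

end Groth.Agent.Lib.Helper27.HD
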