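import Mathlib
import Groth.Agent.Lib.Helper27.HD1
import Groth.Agent.Lib.Helper27.HD2

/-! Hasse families, part 3: Hasse derivatives with respect to a local parameter commute with
Laurent expansions in that parameter. -/

set_option autoImplicit false

namespace Groth.Agent.Lib.Helper27.HD

open FunFld PowerSeries IntermediateField

universe u v w
variable {k : Type u} {K : Type v} [Field k] [Field K] [Algebra k K]
  {F : Type w} [Field F] [Algebra k F]

theorem map_comp_eq_taylorL (φ : K →ₐ[k] LaurentSeries F) (t : K)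
    (ht : φ t = HahnSeries.single 1 1)
    (H : K →ₐ[k] PowerSeries K) (hH : LocRes.IsHasseFamily t H) [Algebra.IsSeparable k⟮t⟯ K] :
    (PowerSeries.map φ.toRingHom).comp H.toRingHom = taylorL.comp φ.toRingHom := by
  apply ringHom_eq_of_separating (k := k) t (PowerSeries.constantCoeff (R := LaurentSeries F))
  · intro c
    simp only [RingHom.comp_apply, AlgHom.toRingHom_eq_coe, RingHom.coe_coe, AlgHom.commutes]
    rw [PowerSeries.algebraMap_apply, PowerSeries.map_C, RingHom.coe_coe, LocRes.map_algebraMap]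
    have h2 : algebraMap k (LaurentSeries F) c = HahnSeries.C (algebraMap k F c) := by
      rw [← LocRes.map_algebraMap φ c, AlgHom.commutes]
    rw [h2, taylorL_C]
  · simp only [RingHom.comp_apply, AlgHom.toRingHom_eq_coe, RingHom.coe_coe]
    rw [hH.1, map_add, PowerSeries.map_C, PowerSeries.map_X, RingHom.coe_coe, ht, taylorL_X]
  · intro y
    simp only [RingHom.comp_apply, AlgHom.toRingHom_eq_coe, RingHom.coe_coe]
    rw [constantCoeff_taylorL, ← PowerSeries.coeff_zero_eq_constantCoeff_apply, PowerSeries.coeff_map,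
      PowerSeries.coeff_zero_eq_constantCoeff_apply, RingHom.coe_coe, hH.2 y]

/-- `φ (D_t^(n) x) = D^(n) (φ x)` for `x` with integral expansion. -/
theorem expansion_hasseD (φ : K →ₐ[k] LaurentSeries F) (t : K)
    (ht : φ t = HahnSeries.single 1 1)
    (H : K →ₐ[k] PowerSeries K) (hH : LocRes.IsHasseFamily t H) [Algebra.IsSeparable k⟮t⟯ K]
    (x : K) (hx : Valued.v (φ x) ≤ 1) (n : ℕ) :
    φ (LocRes.hasseD H n x) = LaurentSeries.hasseDeriv F n (φ x) := by
  obtain ⟨f, hf⟩ := (LaurentSeries.val_le_one_iff_eq_coe F (φ x)).mp hx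
  have h := congrArg (PowerSeries.coeff n) (RingHom.congr_fun (map_comp_eq_taylorL φ t ht H hH) x)
  simp only [RingHom.comp_apply, AlgHom.toRingHom_eq_coe, RingHom.coe_coe] at h
  rw [PowerSeries.coeff_map, RingHom.coe_coe, ← hf, coeff_taylorL_coe] at h
  rw [LocRes.hasseD_apply, h, hf]

theorem hasseDeriv_coeff_zero (g : LaurentSeries F) (n : ℕ) :
    (LaurentSeries.hasseDeriv F n g).coeff 0 = g.coeff n := by
  rw [LaurentSeries.hasseDeriv_coeff, zero_add, Ring.choose_natCast, Nat.choose_self]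
  simp

theorem val_hasseDeriv_le (g : LaurentSeries F) {m : ℤ} (hg : Valued.v g ≤ WithZero.exp (-m))
    (j : ℕ) : Valued.v (LaurentSeries.hasseDeriv F j g) ≤ WithZero.exp (-(m - j)) := by
  rw [LaurentSeries.valuation_le_iff_coeff_lt_eq_zero] at hg ⊢
  intro i hi
  rw [LaurentSeries.hasseDeriv_coeff, hg (i + j) (by omega), smul_zero]

section Place

variable {P : Place k K} {φ : K →ₐ[k] LaurentSeries F} (hφ : LocRes.IsExpansionAt P.1 φ)
  {t : K} (ht : φ t = HahnSeries.single 1 1)
  {H : K →ₐ[k] PowerSeries K} (hH : LocRes.IsHasseFamily t H) [Algebra.IsSeparable k⟮t⟯ K]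

include hφ ht hH

theorem val_hasseD_le_one {x : K} (hx : P.1 x ≤ 1) (n : ℕ) : P.1 (LocRes.hasseD H n x) ≤ 1 := by
  have hx' : Valued.v (φ x) ≤ 1 := by rw [hφ.1]; exact hx
  rw [← hφ.1, expansion_hasseD φ t ht H hH x hx' n]
  obtain ⟨f, hf⟩ := (LaurentSeries.val_le_one_iff_eq_coe F (φ x)).mp hx'
  rw [← hf, ← coe_psHasse]
  exact (LaurentSeries.val_le_one_iff_eq_coe F _).mpr ⟨_, rfl⟩

theorem val_hasseD_le {x : K} {m : ℕ} (hx : P.1 x ≤ WithZero.exp (-(m : ℤ))) (j : ℕ) :
    P.1 (LocRes.hasseD H j x) ≤ WithZero.exp (-((m : ℤ) - j)) := by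
  have hx1 : P.1 x ≤ 1 := hx.trans (by rw [← WithZero.exp_zero, WithZero.exp_le_exp]; omega)
  have hx' : Valued.v (φ x) ≤ 1 := by rw [hφ.1]; exact hx1
  rw [← hφ.1, expansion_hasseD φ t ht H hH x hx' j]
  exact val_hasseDeriv_le (φ x) (by rw [hφ.1]; exact hx) j

theorem coeff_zero_hasseD {x : K} (hx : P.1 x ≤ 1) (n : ℕ) :
    (φ (LocRes.hasseD H n x)).coeff 0 = (φ x).coeff n := by
  have hx' : Valued.v (φ x) ≤ 1 := by rw [hφ.1]; exact hx
  rw [expansion_hasseD φ t ht H hH x hx' n, hasseDeriv_coeff_zero]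

end Place

end Groth.Agent.Lib.Helper27.HD
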