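import Groth.Prelude.Def_W4bk4goldsch23FF
import Mathlib
import Groth.Agent.Lib.Helper17.FunFldBasic

/-! Function fields of one variable (helper27), part 1: basic facts on places, finiteness of
`K/k(x)`, polynomial independence criterion. -/

set_option autoImplicit false

namespace Groth.Agent.Lib.Helper27.FF

open FunFld Polynomial Groth.Agent.Lib.Helper17

universe u v

variable {k : Type u} {K : Type v} [Field k] [Field K] [Algebra k K]

/-! ### Values in `ℤᵐ⁰` -/

theorem eq_zero_or_exp (y : WithZero (Multiplicative ℤ)) : y = 0 ∨ ∃ n : ℤ, y = WithZero.exp n := by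
  by_cases h : y = 0
  · exact Or.inl h
  · exact Or.inr ⟨WithZero.log y, (WithZero.exp_log h).symm⟩

theorem val_eq_exp_neg_ord (P : Place k K) {x : K} (hx : x ≠ 0) :
    P.1 x = WithZero.exp (-(P.ord x)) := by
  have h : P.1 x ≠ 0 := (Valuation.ne_zero_iff _).mpr hx
  rw [Place.ord, neg_neg, WithZero.exp_log h]

theorem ord_eq_iff (P : Place k K) {x : K} (hx : x ≠ 0) (n : ℤ) :
    P.ord x = n ↔ P.1 x = WithZero.exp (-n) := by
  rw [val_eq_exp_neg_ord P hx, WithZero.exp_inj, neg_inj]

theorem ord_mul (P : Place k K) {x y : K} (hx : x ≠ 0) (hy : y ≠ 0) :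
    P.ord (x * y) = P.ord x + P.ord y := by
  have h1 : P.1 x ≠ 0 := (Valuation.ne_zero_iff _).mpr hx
  have h2 : P.1 y ≠ 0 := (Valuation.ne_zero_iff _).mpr hy
  simp only [Place.ord, map_mul, WithZero.log_mul h1 h2]
  ring

theorem ord_inv (P : Place k K) (x : K) : P.ord x⁻¹ = -P.ord x := by
  simp only [Place.ord, map_inv₀, WithZero.log_inv]

theorem ord_zero (P : Place k K) : P.ord (0 : K) = 0 := by
  simp [Place.ord]

theorem ord_one (P : Place k K) : P.ord (1 : K) = 0 := by
  simp [Place.ord]

theorem val_le_exp_iff (P : Place k K) {x : K} (hx : x ≠ 0) (n : ℤ) :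
    P.1 x ≤ WithZero.exp n ↔ -n ≤ P.ord x := by
  rw [val_eq_exp_neg_ord P hx, WithZero.exp_le_exp]
  constructor <;> intro h <;> linarith

theorem val_lt_exp_iff (P : Place k K) {x : K} (hx : x ≠ 0) (n : ℤ) :
    P.1 x < WithZero.exp n ↔ -n < P.ord x := by
  rw [val_eq_exp_neg_ord P hx, WithZero.exp_lt_exp]
  constructor <;> intro h <;> linarith

theorem val_le_one_iff (P : Place k K) {x : K} (hx : x ≠ 0) :
    P.1 x ≤ 1 ↔ 0 ≤ P.ord x := by
  have := val_le_exp_iff P hx 0
  simpa using this

theorem val_lt_one_iff (P : Place k K) {x : K} (hx : x ≠ 0) :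
    P.1 x < 1 ↔ 0 < P.ord x := by
  have := val_lt_exp_iff P hx 0
  simpa using this

theorem val_const (P : Place k K) {c : k} (hc : c ≠ 0) : P.1 (algebraMap k K c) = 1 :=
  place_val_algebraMap P hc

theorem val_smul (P : Place k K) {c : k} (hc : c ≠ 0) (x : K) : P.1 (c • x) = P.1 x := by
  rw [Algebra.smul_def, map_mul, val_const P hc, one_mul]

theorem val_smul_le (P : Place k K) (c : k) (x : K) : P.1 (c • x) ≤ P.1 x := by
  by_cases hc : c = 0
  · simp [hc]
  · rw [val_smul P hc]

theorem exists_unif (P : Place k K) : ∃ t : K, t ≠ 0 ∧ P.1 t = WithZero.exp (-1 : ℤ) := by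
  obtain ⟨t, ht⟩ := P.2.2 (WithZero.exp (-1 : ℤ))
  refine ⟨t, ?_, ht⟩
  rintro rfl
  rw [map_zero] at ht
  exact WithZero.exp_ne_zero ht.symm

/-- For `n : ℤ` there is an element of value exactly `exp n`. -/
theorem exists_val_eq_exp (P : Place k K) (n : ℤ) : ∃ y : K, y ≠ 0 ∧ P.1 y = WithZero.exp n := by
  obtain ⟨y, hy⟩ := P.2.2 (WithZero.exp n)
  refine ⟨y, ?_, hy⟩
  rintro rfl
  rw [map_zero] at hy
  exact WithZero.exp_ne_zero hy.symm

/-- Strict ultrametric: if values differ, the value of the sum is the max. -/
theorem val_add_eq_of_lt (P : Place k K) {x y : K} (h : P.1 x < P.1 y) : P.1 (x + y) = P.1 y :=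
  Valuation.map_add_eq_of_lt_right _ h

/-! ### Constants and transcendence -/

theorem transcendental_of_not_mem_range (hK : IsFunctionField k K) {x : K}
    (hx : x ∉ Set.range (algebraMap k K)) : Transcendental k x := fun h => hx (hK.2 x h)

theorem not_mem_range_of_transcendental {x : K} (hx : Transcendental k x) :
    x ∉ Set.range (algebraMap k K) := by
  rintro ⟨c, rfl⟩
  exact hx (isAlgebraic_algebraMap c)

/-- A nonzero element with `v_P(x) ≠ 1` at some place is transcendental. -/
theorem transcendental_of_val_ne_one (hK : IsFunctionField k K) (P : Place k K) {x : K}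
    (hx0 : x ≠ 0) (hx : P.1 x ≠ 1) : Transcendental k x := by
  apply transcendental_of_not_mem_range hK
  rintro ⟨c, rfl⟩
  apply hx
  apply val_const P
  rintro rfl
  simp at hx0

/-- `K` is finite over `k(x)` for every transcendental `x`. -/
theorem finiteDimensional_adjoin (hK : IsFunctionField k K) {x : K} (hx : Transcendental k x) :
    FiniteDimensional (IntermediateField.adjoin k ({x} : Set K)) K := by
  obtain ⟨⟨x₀, hx₀, hfin⟩, _⟩ := hK
  have h1 : Algebra.EssFiniteType k (IntermediateField.adjoin k ({x₀} : Set K)) := by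
    rw [IntermediateField.essFiniteType_iff]
    exact IntermediateField.fg_adjoin_of_finite (Set.finite_singleton x₀)
  have h2 : Algebra.EssFiniteType (IntermediateField.adjoin k ({x₀} : Set K)) K := inferInstance
  have h3 : Algebra.EssFiniteType k K :=
    Algebra.EssFiniteType.comp k (IntermediateField.adjoin k ({x₀} : Set K)) K
  have h4 : Algebra.EssFiniteType (IntermediateField.adjoin k ({x} : Set K)) K :=
    Algebra.EssFiniteType.of_comp k (IntermediateField.adjoin k ({x} : Set K)) K
  have h5 : Algebra.IsAlgebraic (IntermediateField.adjoin k ({x} : Set K)) K := by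
    have h := isAlgebraic_adjoin_of_transcendental ⟨⟨x₀, hx₀, hfin⟩, ‹_›⟩ hx
    open scoped IntermediateField.algebraAdjoinAdjoin in
    exact (IsFractionRing.comap_isAlgebraic_iff
      (A := Algebra.adjoin k ({x} : Set K)) (K := IntermediateField.adjoin k ({x} : Set K))).mp h
  exact Algebra.finite_of_essFiniteType_of_isAlgebraic

/-- Polynomial independence criterion for a lower bound on `[K : k(x)]`. -/
theorem card_le_finrank_of_poly_indep {x : K}
    [FiniteDimensional (IntermediateField.adjoin k ({x} : Set K)) K] {ι : Type*} [Fintype ι]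
    (z : ι → K)
    (h : ∀ p : ι → k[X], ∑ i, aeval x (p i) * z i = 0 → ∀ i, p i = 0) :
    Fintype.card ι ≤ Module.finrank (IntermediateField.adjoin k ({x} : Set K)) K := by
  open scoped IntermediateField.algebraAdjoinAdjoin in
  have hli : LinearIndependent (Algebra.adjoin k ({x} : Set K)) z := by
    rw [Fintype.linearIndependent_iff]
    intro g hg i
    have hmem : ∀ y ∈ Algebra.adjoin k ({x} : Set K), ∃ p : k[X], aeval x p = y := by
      intro y hy
      rw [Algebra.adjoin_singleton_eq_range_aeval] at hy
      exact hy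
    have hg' : ∀ i, ∃ p : k[X], aeval x p = (g i : K) := fun i => hmem _ (g i).2
    choose p hp using hg'
    have h0 : ∑ i, aeval x (p i) * z i = 0 := by
      rw [← hg]
      refine Finset.sum_congr rfl fun i _ => ?_
      rw [hp i]; rfl
    have := h p h0 i
    apply Subtype.ext
    rw [← hp i, this, map_zero]; rfl
  have hli' : LinearIndependent (IntermediateField.adjoin k ({x} : Set K)) z :=
    (LinearIndependent.iff_fractionRing (R := Algebra.adjoin k ({x} : Set K))
      (K := IntermediateField.adjoin k ({x} : Set K))).mp hli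
  exact hli'.fintype_card_le_finrank

/-- Reduction: a nontrivial polynomial relation yields one with some nonzero constant term. -/
theorem exists_rel_coeff_zero_ne_zero {x : K} (hx : x ≠ 0) {ι : Type*} [Fintype ι] (z : ι → K)
    (p : ι → k[X]) (hp : ∑ i, aeval x (p i) * z i = 0) (hne : ∃ i, p i ≠ 0) :
    ∃ q : ι → k[X], ∑ i, aeval x (q i) * z i = 0 ∧ ∃ i, (q i).coeff 0 ≠ 0 := by
  classical
  induction hn : (∑ i, (p i).natDegree) using Nat.strong_induction_on generalizing p with
  | _ n ih =>
    by_cases hall : ∀ i, (p i).coeff 0 = 0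
    · -- divide by X
      have hdiv : ∀ i, ∃ q : k[X], p i = X * q := fun i => by
        have := (Polynomial.X_dvd_iff (f := p i)).mpr (hall i)
        exact this
      choose q hq using hdiv
      have hrel : ∑ i, aeval x (q i) * z i = 0 := by
        have : x * ∑ i, aeval x (q i) * z i = 0 := by
          rw [Finset.mul_sum, ← hp]
          refine Finset.sum_congr rfl fun i _ => ?_
          rw [hq i, map_mul, aeval_X]; ring
        exact (mul_eq_zero.mp this).resolve_left hx
      obtain ⟨j, hj⟩ := hne
      have hqj : q j ≠ 0 := by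
        intro h0; apply hj; rw [hq j, h0, mul_zero]
      have hlt : ∑ i, (q i).natDegree < n := by
        rw [← hn]
        apply Finset.sum_lt_sum
        · intro i _
          by_cases hqi : q i = 0
          · simp [hqi]
          · rw [hq i, natDegree_X_mul hqi]; omega
        · refine ⟨j, Finset.mem_univ _, ?_⟩
          rw [hq j, natDegree_X_mul hqj]; omega
      exact ih _ hlt q hrel ⟨j, hqj⟩ rfl
    · push Not at hall
      exact ⟨p, hp, hall⟩

end Groth.Agent.Lib.Helper27.FF
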