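import Mathlib
import Groth.Prelude.Def_LocRes
import Groth.Prelude.Def_W4bk4goldsch45p2
import Groth.Agent.Lib.Helper27.FunFld1
import Groth.Agent.Lib.Helper23.FFAC2

/-! Hasse families, part 4: the expansion of a function field at a place of degree one in a
local parameter, as a homomorphism into Laurent series. -/

set_option autoImplicit false

namespace Groth.Agent.Lib.Helper27.HD

open FunFld PowerSeries

universe u v
variable {k : Type u} {K : Type v} [Field k] [Field K] [Algebra k K]

namespace Expand

variable (P : Place k K) (hP : P.deg = 1) (t : K)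

open scoped Classical in
/-- The residue constant of `z` (junk value `0` off the valuation ring). -/
noncomputable def c₀ (hP : P.deg = 1) (z : K) : k :=
  if h : P.1 z ≤ 1 then
    Classical.choose (Groth.Agent.Lib.Helper23.FF.exists_const_val_sub_lt_one P hP h) else 0

/-- `(z - z(P)) / t`. -/
noncomputable def next (z : K) : K := (z - algebraMap k K (c₀ P hP z)) / t

/-- The expansion of `z` as a power series. -/
noncomputable def ps (z : K) : PowerSeries k := PowerSeries.mk fun n => c₀ P hP ((next P hP t)^[n] z)

variable {P} {t}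

theorem c₀_spec {z : K} (hz : P.1 z ≤ 1) : P.1 (z - algebraMap k K (c₀ P hP z)) < 1 := by
  unfold c₀
  rw [dif_pos hz]
  exact Classical.choose_spec (Groth.Agent.Lib.Helper23.FF.exists_const_val_sub_lt_one P hP hz)

theorem c₀_eq {z : K} {c : k} (h : P.1 (z - algebraMap k K c) < 1) : c₀ P hP z = c := by
  have hz : P.1 z ≤ 1 := by
    have : z = (z - algebraMap k K c) + algebraMap k K c := by ring
    rw [this]
    exact (P.1.map_add _ _).trans (max_le h.le (P.2.1 c))
  exact Groth.Agent.Lib.Helper23.FF.const_unique P (c₀_spec hP hz) h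

variable (ht : P.1 t = WithZero.exp (-1))

include ht

theorem t_ne_zero : t ≠ 0 := by
  rintro rfl
  rw [map_zero] at ht
  exact WithZero.exp_ne_zero ht.symm

theorem val_next {z : K} (hz : P.1 z ≤ 1) : P.1 (next P hP t z) ≤ 1 := by
  unfold next
  rw [map_div₀, ht]
  have h1 := Groth.Agent.Lib.Helper23.FF.le_exp_neg_one_of_lt_one (c₀_spec hP hz)
  rw [div_le_iff₀ WithZero.exp_pos, one_mul]
  exact h1

theorem eq_add_next (z : K) : z = algebraMap k K (c₀ P hP z) + t * next P hP t z := by
  unfold next
  field_simp [t_ne_zero ht]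
  ring

theorem val_iter {z : K} (hz : P.1 z ≤ 1) (n : ℕ) : P.1 ((next P hP t)^[n] z) ≤ 1 := by
  induction n with
  | zero => exact hz
  | succ n ih =>
    rw [Function.iterate_succ_apply']
    exact val_next hP ht ih

/-- The partial sums of a power series evaluated at `t`. -/
noncomputable def psum (t : K) (f : PowerSeries k) (n : ℕ) : K :=
  Polynomial.aeval t (trunc n f)

omit ht in
theorem psum_succ (f : PowerSeries k) (n : ℕ) :
    psum t f (n + 1) = psum t f n + algebraMap k K (coeff n f) * t ^ n := by
  unfold psum
  rw [trunc_succ, map_add, Polynomial.aeval_monomial]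

theorem eq_psum_add (z : K) (n : ℕ) :
    z = psum t (ps P hP t z) n + t ^ n * (next P hP t)^[n] z := by
  induction n with
  | zero =>
    unfold psum
    simp [trunc_zero']
  | succ n ih =>
    rw [psum_succ, Function.iterate_succ_apply']
    have h1 : coeff n (ps P hP t z) = c₀ P hP ((next P hP t)^[n] z) := by
      unfold ps; rw [coeff_mk]
    have h2 := eq_add_next hP ht ((next P hP t)^[n] z)
    rw [h1]
    conv_lhs => rw [ih, h2]
    ring

/-- `f` approximates `z` to every order. -/
def Approx (P : Place k K) (t : K) (z : K) (f : PowerSeries k) : Prop :=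
  ∀ n : ℕ, P.1 (z - psum t f n) ≤ WithZero.exp (-(n : ℤ))

theorem approx_ps {z : K} (hz : P.1 z ≤ 1) : Approx P t z (ps P hP t z) := by
  intro n
  have h := eq_psum_add hP ht z n
  have h1 : z - psum t (ps P hP t z) n = t ^ n * (next P hP t)^[n] z :=
    sub_eq_iff_eq_add'.mpr h
  rw [h1, map_mul, map_pow, ht]
  calc WithZero.exp (-1 : ℤ) ^ n * P.1 ((next P hP t)^[n] z)
      ≤ WithZero.exp (-1 : ℤ) ^ n * 1 := by gcongr; exact val_iter hP ht hz n
    _ = WithZero.exp (-(n : ℤ)) := by
      rw [mul_one, ← WithZero.exp_nsmul]; congr 1; simp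

theorem approx_unique {z : K} {f g : PowerSeries k} (hf : Approx P t z f) (hg : Approx P t z g) :
    f = g := by
  ext m
  induction m using Nat.strong_induction_on with
  | _ m ih =>
    by_contra hne
    -- the truncations agree below m
    have h1 : psum t f (m + 1) - psum t g (m + 1) =
        algebraMap k K (coeff m f - coeff m g) * t ^ m := by
      have hfg : psum t f m = psum t g m := by
        unfold psum
        congr 1
        ext i
        rw [coeff_trunc, coeff_trunc]
        split_ifs with hi
        · exact ih i hi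
        · rfl
      rw [psum_succ, psum_succ, hfg, map_sub]; ring
    have h2 : P.1 (psum t f (m + 1) - psum t g (m + 1)) ≤ WithZero.exp (-((m + 1 : ℕ) : ℤ)) := by
      have : psum t f (m + 1) - psum t g (m + 1) =
          (z - psum t g (m + 1)) - (z - psum t f (m + 1)) := by ring
      rw [this]
      exact (Valuation.map_sub _ _ _).trans (max_le (hg (m + 1)) (hf (m + 1)))
    rw [h1, map_mul, FF.val_const P (sub_ne_zero.mpr hne), one_mul, map_pow, ht,
      ← WithZero.exp_nsmul, WithZero.exp_le_exp] at h2
    simp at h2

theorem ps_eq_of_approx {z : K} (hz : P.1 z ≤ 1) {f : PowerSeries k} (hf : Approx P t z f) :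
    ps P hP t z = f :=
  approx_unique ht (approx_ps hP ht hz) hf

omit ht in
theorem val_psum_le_one (ht1 : P.1 t ≤ 1) (f : PowerSeries k) (n : ℕ) : P.1 (psum t f n) ≤ 1 :=
  Groth.Agent.Lib.Helper23.FF.val_aeval_le_one P.1 P.2.1 ht1 _

theorem ps_add {z w : K} (hz : P.1 z ≤ 1) (hw : P.1 w ≤ 1) :
    ps P hP t (z + w) = ps P hP t z + ps P hP t w := by
  apply ps_eq_of_approx hP ht ((P.1.map_add _ _).trans (max_le hz hw))
  intro n
  have h1 : z + w - psum t (ps P hP t z + ps P hP t w) n =
      (z - psum t (ps P hP t z) n) + (w - psum t (ps P hP t w) n) := by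
    unfold psum
    rw [map_add (trunc n), map_add]; ring
  rw [h1]
  exact (P.1.map_add _ _).trans (max_le (approx_ps hP ht hz n) (approx_ps hP ht hw n))

theorem ps_mul {z w : K} (hz : P.1 z ≤ 1) (hw : P.1 w ≤ 1) :
    ps P hP t (z * w) = ps P hP t z * ps P hP t w := by
  have ht1 : P.1 t ≤ 1 := by rw [ht, ← WithZero.exp_zero, WithZero.exp_le_exp]; omega
  apply ps_eq_of_approx hP ht (by rw [map_mul]; exact mul_le_one' hz hw)
  intro n
  set f := ps P hP t z with hf
  set g := ps P hP t w with hg
  -- polynomial identity
  set p : Polynomial k := trunc n f * trunc n g with hp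
  have hdvd : Polynomial.X ^ n ∣ p - trunc n (f * g) := by
    rw [Polynomial.X_pow_dvd_iff]
    intro d hd
    have key : trunc n (f * g) = trunc n ((p : Polynomial k) : PowerSeries k) := by
      rw [hp, Polynomial.coe_mul, trunc_trunc_mul_trunc]
    rw [Polynomial.coeff_sub, key, coeff_trunc, if_pos hd, Polynomial.coeff_coe, sub_self]
  obtain ⟨q, hq⟩ := hdvd
  have h1 : psum t f n * psum t g n - psum t (f * g) n = t ^ n * Polynomial.aeval t q := by
    unfold psum
    rw [← map_mul, ← map_sub, ← hp, hq, map_mul, map_pow, Polynomial.aeval_X]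
  have h2 : z * w - psum t (f * g) n =
      z * (w - psum t g n) + psum t g n * (z - psum t f n) +
        (psum t f n * psum t g n - psum t (f * g) n) := by ring
  rw [h2]
  refine (P.1.map_add _ _).trans (max_le ((P.1.map_add _ _).trans (max_le ?_ ?_)) ?_)
  · rw [map_mul]
    calc P.1 z * P.1 (w - psum t g n) ≤ 1 * WithZero.exp (-(n : ℤ)) :=
          mul_le_mul' hz (approx_ps hP ht hw n)
      _ = _ := one_mul _
  · rw [map_mul]
    calc P.1 (psum t g n) * P.1 (z - psum t f n) ≤ 1 * WithZero.exp (-(n : ℤ)) :=
          mul_le_mul' (val_psum_le_one ht1 g n) (approx_ps hP ht hz n)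
      _ = _ := one_mul _
  · rw [h1, map_mul, map_pow, ht]
    calc WithZero.exp (-1 : ℤ) ^ n * P.1 (Polynomial.aeval t q)
        ≤ WithZero.exp (-1 : ℤ) ^ n * 1 := by
          gcongr; exact Groth.Agent.Lib.Helper23.FF.val_aeval_le_one P.1 P.2.1 ht1 _
      _ = WithZero.exp (-(n : ℤ)) := by
        rw [mul_one, ← WithZero.exp_nsmul]; congr 1; simp

theorem ps_algebraMap (c : k) : ps P hP t (algebraMap k K c) = C c := by
  apply ps_eq_of_approx hP ht (P.2.1 c)
  intro n
  cases n with
  | zero =>
    unfold psum
    simp only [trunc_zero', map_zero, sub_zero, Nat.cast_zero, neg_zero, WithZero.exp_zero]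
    exact P.2.1 c
  | succ n =>
    unfold psum
    rw [trunc_C, Polynomial.aeval_C, sub_self, map_zero]
    exact zero_le

theorem ps_t : ps P hP t t = X := by
  have ht1 : P.1 t ≤ 1 := by rw [ht, ← WithZero.exp_zero, WithZero.exp_le_exp]; omega
  apply ps_eq_of_approx hP ht ht1
  intro n
  rcases n with _ | _ | n
  · unfold psum
    simp only [trunc_zero', map_zero, sub_zero, Nat.cast_zero, neg_zero, WithZero.exp_zero]
    exact ht1
  · unfold psum
    have : trunc (0 + 1) (X : PowerSeries k) = 0 := by
      ext i
      rw [coeff_trunc, Polynomial.coeff_zero]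
      split_ifs with h
      · have : i = 0 := by omega
        subst this; simp
      · rfl
    rw [this, map_zero, sub_zero, ht]
    simp
  · unfold psum
    have : trunc (n + 1 + 1) (X : PowerSeries k) = Polynomial.X := by
      ext i
      rw [coeff_trunc, Polynomial.coeff_X, coeff_X]
      split_ifs <;> first | rfl | omega
    rw [this, Polynomial.aeval_X, sub_self, map_zero]
    exact zero_le

omit ht in
theorem coeff_zero_ps (z : K) : coeff 0 (ps P hP t z) = c₀ P hP z := by
  unfold ps; rw [coeff_mk]; rfl

/-- The order of the expansion: coefficients below the order vanish. -/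
theorem coeff_ps_eq_zero {z : K} {m : ℕ} (hz : P.1 z ≤ WithZero.exp (-(m : ℤ))) {i : ℕ}
    (hi : i < m) : coeff i (ps P hP t z) = 0 := by
  have hz1 : P.1 z ≤ 1 := hz.trans (by rw [← WithZero.exp_zero, WithZero.exp_le_exp]; omega)
  induction i using Nat.strong_induction_on with
  | _ i ih =>
    by_contra hne
    have happ := approx_ps hP ht hz1 (i + 1)
    have hps : psum t (ps P hP t z) (i + 1) = algebraMap k K (coeff i (ps P hP t z)) * t ^ i := by
      rw [psum_succ]
      have : psum t (ps P hP t z) i = 0 := by
        unfold psum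
        have : trunc i (ps P hP t z) = 0 := by
          ext j
          rw [coeff_trunc, Polynomial.coeff_zero]
          split_ifs with hj
          · exact ih j hj (by omega)
          · rfl
        rw [this, map_zero]
      rw [this, zero_add]
    have hv : P.1 (psum t (ps P hP t z) (i + 1)) = WithZero.exp (-(i : ℤ)) := by
      rw [hps, map_mul, FF.val_const P hne, one_mul, map_pow, ht, ← WithZero.exp_nsmul]
      congr 1; simp
    have h3 : P.1 (psum t (ps P hP t z) (i + 1)) ≤ WithZero.exp (-((i : ℤ) + 1)) := by
      have : psum t (ps P hP t z) (i + 1) = z - (z - psum t (ps P hP t z) (i + 1)) := by ring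
      rw [this]
      refine (Valuation.map_sub _ _ _).trans (max_le (hz.trans ?_) ?_)
      · rw [WithZero.exp_le_exp]; omega
      · refine happ.trans ?_
        rw [WithZero.exp_le_exp]; push_cast; omega
    rw [hv, WithZero.exp_le_exp] at h3
    omega

theorem coeff_ps_ne_zero {z : K} {m : ℕ} (hz : P.1 z = WithZero.exp (-(m : ℤ))) :
    coeff m (ps P hP t z) ≠ 0 := by
  have hz1 : P.1 z ≤ 1 := hz.le.trans (by rw [← WithZero.exp_zero, WithZero.exp_le_exp]; omega)
  intro h0
  have happ := approx_ps hP ht hz1 (m + 1)
  have : psum t (ps P hP t z) (m + 1) = 0 := by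
    unfold psum
    have : trunc (m + 1) (ps P hP t z) = 0 := by
      ext j
      rw [coeff_trunc, Polynomial.coeff_zero]
      split_ifs with hj
      · rcases Nat.lt_succ_iff_lt_or_eq.mp hj with h | h
        · exact coeff_ps_eq_zero hP ht hz.le h
        · rw [h]; exact h0
      · rfl
    rw [this, map_zero]
  rw [this, sub_zero, hz, WithZero.exp_le_exp] at happ
  push_cast at happ
  omega

end Expand

end Groth.Agent.Lib.Helper27.HD
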