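import Mathlib
import Groth.Agent.Lib.Helper27.HD4
import Groth.Agent.Lib.Helper23.FF1

/-! Hasse families, part 4b: the expansion homomorphism `K → k((X))` at a place of degree one. -/

set_option autoImplicit false

namespace Groth.Agent.Lib.Helper27.HD

open FunFld PowerSeries

universe u v
variable {k : Type u} {K : Type v} [Field k] [Field K] [Algebra k K]

/-- The valuation of a power series with prescribed order, as a Laurent series. -/
theorem val_coe_eq (f : PowerSeries k) (m : ℕ) (h0 : ∀ i < m, coeff i f = 0)
    (hm : coeff m f ≠ 0) :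
    Valued.v ((f : PowerSeries k) : LaurentSeries k) = WithZero.exp (-(m : ℤ)) := by
  have hle : Valued.v ((f : PowerSeries k) : LaurentSeries k) ≤ WithZero.exp (-(m : ℤ)) := by
    rw [LaurentSeries.valuation_le_iff_coeff_lt_eq_zero]
    intro n hn
    rw [PowerSeries.coeff_coe]
    split_ifs with h
    · rfl
    · exact h0 _ (by omega)
  refine le_antisymm hle ?_
  by_contra hlt
  rw [not_le] at hlt
  have hne : Valued.v ((f : PowerSeries k) : LaurentSeries k) ≠ 0 := by
    rw [Valuation.ne_zero_iff]
    intro h
    have h2 : ((f : PowerSeries k) : LaurentSeries k) = ((0 : PowerSeries k) : LaurentSeries k) := by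
      rw [h]; simp
    have := HahnSeries.ofPowerSeries_injective h2
    rw [this] at hm
    simp at hm
  have h1 : Valued.v ((f : PowerSeries k) : LaurentSeries k) ≤ WithZero.exp (-((m : ℤ) + 1)) := by
    rw [← WithZero.exp_log hne] at hlt ⊢
    rw [WithZero.exp_lt_exp] at hlt
    rw [WithZero.exp_le_exp]; omega
  rw [LaurentSeries.valuation_le_iff_coeff_lt_eq_zero] at h1
  have := h1 m (by omega)
  rw [PowerSeries.coeff_coe, if_neg (by omega), Int.natAbs_natCast] at this
  exact hm this

namespace Expand

variable (P : Place k K) (hP : P.deg = 1) (t : K) (ht : P.1 t = WithZero.exp (-1))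

/-- The expansion on the valuation ring. -/
noncomputable def psHom : P.O →+* PowerSeries k where
  toFun z := ps P hP t z.1
  map_one' := by
    have := ps_algebraMap hP ht (1 : k)
    rw [map_one] at this
    simpa using this
  map_mul' z w := ps_mul hP ht z.2 w.2
  map_zero' := by
    have := ps_algebraMap hP ht (0 : k)
    rw [map_zero] at this
    simpa using this
  map_add' z w := ps_add hP ht z.2 w.2

theorem psHom_apply (z : P.O) : psHom P hP t ht z = ps P hP t z.1 := rfl

theorem exists_nat_val_eq {z : K} (hz : P.1 z ≤ 1) (hz0 : z ≠ 0) :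
    ∃ m : ℕ, P.1 z = WithZero.exp (-(m : ℤ)) := by
  have h := FF.val_eq_exp_neg_ord P hz0
  have hnn : 0 ≤ P.ord z := by
    rw [h, ← WithZero.exp_zero, WithZero.exp_le_exp] at hz
    omega
  exact ⟨(P.ord z).toNat, by rw [h, Int.toNat_of_nonneg hnn]⟩

theorem psHom_injective : Function.Injective (psHom P hP t ht) := by
  rw [injective_iff_map_eq_zero]
  intro z hz
  by_contra hne
  have hz0 : z.1 ≠ 0 := fun h => hne (Subtype.ext h)
  obtain ⟨m, hm⟩ := exists_nat_val_eq P z.2 hz0
  have := coeff_ps_ne_zero hP ht hm
  rw [← psHom_apply P hP t ht, hz] at this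
  simp at this

/-- The expansion into Laurent series on the valuation ring. -/
noncomputable def lsHom : P.O →+* LaurentSeries k :=
  (HahnSeries.ofPowerSeries ℤ k).comp (psHom P hP t ht)

theorem lsHom_injective : Function.Injective (lsHom P hP t ht) :=
  (HahnSeries.ofPowerSeries_injective).comp (psHom_injective P hP t ht)

/-- The expansion of `K` at `P` in the local parameter `t`, as a ring homomorphism. -/
noncomputable def expandRing : K →+* LaurentSeries k :=
  IsFractionRing.lift (K := K) (lsHom_injective P hP t ht)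

theorem expandRing_of_le {z : K} (hz : P.1 z ≤ 1) :
    expandRing P hP t ht z = ((ps P hP t z : PowerSeries k) : LaurentSeries k) := by
  have := IsFractionRing.lift_algebraMap (K := K) (lsHom_injective P hP t ht) (⟨z, hz⟩ : P.O)
  exact this

/-- The expansion of `K` at `P` in the local parameter `t`. -/
noncomputable def expand : K →ₐ[k] LaurentSeries k :=
  { expandRing P hP t ht with
    commutes' := by
      intro c
      show expandRing P hP t ht (algebraMap k K c) = _
      rw [expandRing_of_le P hP t ht (P.2.1 c), ps_algebraMap hP ht, HahnSeries.ofPowerSeries_C,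
        LocRes.algebraMap_eq_C] }

theorem expand_of_le {z : K} (hz : P.1 z ≤ 1) :
    expand P hP t ht z = ((ps P hP t z : PowerSeries k) : LaurentSeries k) :=
  expandRing_of_le P hP t ht hz

theorem expand_t : expand P hP t ht t = HahnSeries.single 1 1 := by
  have ht1 : P.1 t ≤ 1 := by rw [ht, ← WithZero.exp_zero, WithZero.exp_le_exp]; omega
  rw [expand_of_le P hP t ht ht1, ps_t hP ht, HahnSeries.ofPowerSeries_X]

theorem val_expand_of_le {z : K} (hz : P.1 z ≤ 1) : Valued.v (expand P hP t ht z) = P.1 z := by
  rcases eq_or_ne z 0 with rfl | hz0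
  · simp
  · obtain ⟨m, hm⟩ := exists_nat_val_eq P hz hz0
    rw [expand_of_le P hP t ht hz, hm]
    exact val_coe_eq _ m (fun i hi => coeff_ps_eq_zero hP ht hm.le hi) (coeff_ps_ne_zero hP ht hm)

theorem val_expand (z : K) : Valued.v (expand P hP t ht z) = P.1 z := by
  rcases le_or_gt (P.1 z) 1 with hz | hz
  · exact val_expand_of_le P hP t ht hz
  · have hz0 : z ≠ 0 := by rintro rfl; simp at hz
    have hinv : P.1 z⁻¹ ≤ 1 := by
      rw [map_inv₀]
      exact inv_le_one_of_one_le₀ hz.le
    have h1 := val_expand_of_le P hP t ht hinv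
    rw [map_inv₀, map_inv₀, map_inv₀] at h1
    exact inv_injective h1

theorem isExpansionAt_expand : LocRes.IsExpansionAt P.1 (expand P hP t ht) := by
  refine ⟨val_expand P hP t ht, fun a => ⟨algebraMap k K a, P.2.1 a, ?_⟩, ⟨t, ht⟩⟩
  rw [AlgHom.commutes, LocRes.algebraMap_eq_C]
  simp

theorem coeff_zero_expand {z : K} (hz : P.1 z ≤ 1) :
    (expand P hP t ht z).coeff 0 = c₀ P hP z := by
  rw [expand_of_le P hP t ht hz]
  have := PowerSeries.coeff_coe (R := k) (ps P hP t z) 0
  rw [this, if_neg (by omega)]
  simpa using coeff_zero_ps hP z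

/-- The value at `P` is the constant term of the expansion. -/
theorem evalP_eq {z : K} (hz : P.1 z ≤ 1) :
    evalP P z = algebraMap k (IsLocalRing.ResidueField P.O) ((expand P hP t ht z).coeff 0) := by
  rw [coeff_zero_expand P hP t ht hz]
  unfold evalP
  rw [dif_pos hz]
  have h1 := c₀_spec hP hz
  have h2 : IsLocalRing.residue P.O
      ((⟨z, (Valuation.mem_valuationSubring_iff P.1 z).mpr hz⟩ : P.O) -
        algebraMap k P.O (c₀ P hP z)) = 0 := by
    rw [Groth.Agent.Lib.Helper23.FF.residue_eq_zero_iff]
    exact h1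
  rw [map_sub, sub_eq_zero] at h2
  rw [h2]; rfl

end Expand

end Groth.Agent.Lib.Helper27.HD
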