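import Mathlib
import Groth.Agent.Lib.Helper27.HD3
import Groth.Agent.Lib.Helper27.HD4b
import Groth.Agent.Lib.Helper27.HD10
import Groth.Agent.Lib.Helper23.FFAC

/-! Hasse families, part 11: Taylor coefficients at a place over an algebraically closed field. -/

set_option autoImplicit false

namespace Groth.Agent.Lib.Helper27.HD

open FunFld PowerSeries IntermediateField

universe u v
variable {k : Type u} {K : Type v} [Field k] [Field K] [Algebra k K]

theorem surjective_algebraMap_residue (P : Place k K) (hP : P.deg = 1) :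
    Function.Surjective (algebraMap k (IsLocalRing.ResidueField P.O)) := by
  intro w
  have h1 : ∀ w : IsLocalRing.ResidueField P.O, ∃ c : k, c • (1 : IsLocalRing.ResidueField P.O) = w :=
    (finrank_eq_one_iff_of_nonzero' (1 : IsLocalRing.ResidueField P.O) one_ne_zero).mp hP
  obtain ⟨c, hc⟩ := h1 w
  exact ⟨c, by rw [← hc, Algebra.smul_def, mul_one]⟩

section AC

variable [IsAlgClosed k] (hK : IsFunctionField k K) (P : Place k K) {t : K}
  (ht : P.1 t = WithZero.exp (-1)) {Ht : K →ₐ[k] PowerSeries K}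
  (hHt : LocRes.IsHasseFamily t Ht)

/-- The expansion at `P` in the local parameter `t`. -/
noncomputable def exp (hK : IsFunctionField k K) (P : Place k K) {t : K}
    (ht : P.1 t = WithZero.exp (-1)) : K →ₐ[k] LaurentSeries k :=
  Expand.expand P (Groth.Agent.Lib.Helper23.FF.deg_eq_one hK P) t ht

theorem isExpansionAt_exp : LocRes.IsExpansionAt P.1 (exp hK P ht) :=
  Expand.isExpansionAt_expand P _ t ht

theorem exp_t : exp hK P ht t = HahnSeries.single 1 1 := Expand.expand_t P _ t ht

theorem evalP_eq_exp {z : K} (hz : P.1 z ≤ 1) :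
    evalP P z = algebraMap k (IsLocalRing.ResidueField P.O) ((exp hK P ht z).coeff 0) :=
  Expand.evalP_eq P _ t ht hz

include hK ht hHt

theorem val_hasseD_le_one' {x : K} (hx : P.1 x ≤ 1) (j : ℕ) : P.1 (LocRes.hasseD Ht j x) ≤ 1 := by
  haveI := isSeparable_var hK hHt
  exact val_hasseD_le_one (isExpansionAt_exp hK P ht) (exp_t hK P ht) hHt hx j

theorem val_hasseD_le' {x : K} {m : ℕ} (hx : P.1 x ≤ WithZero.exp (-(m : ℤ))) (j : ℕ) :
    P.1 (LocRes.hasseD Ht j x) ≤ WithZero.exp (-((m : ℤ) - j)) := by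
  haveI := isSeparable_var hK hHt
  exact val_hasseD_le (isExpansionAt_exp hK P ht) (exp_t hK P ht) hHt hx j

theorem evalP_hasseD {x : K} (hx : P.1 x ≤ 1) (j : ℕ) :
    evalP P (LocRes.hasseD Ht j x) =
      algebraMap k (IsLocalRing.ResidueField P.O) ((exp hK P ht x).coeff j) := by
  haveI := isSeparable_var hK hHt
  rw [evalP_eq_exp hK P ht (val_hasseD_le_one' hK P ht hHt hx j),
    coeff_zero_hasseD (isExpansionAt_exp hK P ht) (exp_t hK P ht) hHt hx j]

end AC

end Groth.Agent.Lib.Helper27.HD
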