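import Groth.Agent.Lib.Helper27.Plucker4

/-! The Plücker inequality for spaces of polynomials: main induction (helper27). -/

set_option autoImplicit false

namespace Groth.Agent.Lib.Helper27.Plucker

open Finset Polynomial

universe u

variable {k : Type u} [Field k]

/-- the rank one case. -/
theorem wt_of_finrank_one (a : k) (V : Submodule k k[X]) [FiniteDimensional k V] {d : ℕ}
    (hV : ∀ p ∈ V, p.natDegree ≤ d) (hr : Module.finrank k V = 1) {f₀ : k[X]} (hf₀ : f₀ ∈ V)
    (hf₀0 : f₀ ≠ 0) : wt (ordAt a) V d = f₀.rootMultiplicity a := by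
  classical
  have hB := bound_of_deg hV a
  rw [wt_eq_sum (ordAt a) V hB]
  have hcard := card_attSet (ordAt a) V hB
  rw [hr, card_eq_one] at hcard
  obtain ⟨j, hj⟩ := hcard
  have hmem : f₀.rootMultiplicity a ∈ attSet (ordAt a) V d :=
    (mem_attSet (ordAt a) hB).mpr ⟨f₀, hf₀, hf₀0, rfl⟩
  rw [hj, mem_singleton] at hmem
  rw [hj, sum_singleton, hmem]

variable [CharZero k] [IsAlgClosed k]

/-- **Plücker inequality** for polynomial spaces: the weights at finitely many points of the
affine line add up to at most `(r+1)(d-r)`. -/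
theorem plucker_poly : ∀ (r d : ℕ) (V : Submodule k k[X]), (∀ p ∈ V, p.natDegree ≤ d) →
    Module.finrank k V = r + 1 → ∀ S : Finset k,
      ∑ a ∈ S, wt (ordAt a) V d + (r + 1) * r ≤ (r + 1) * d + S.card * (r * (r + 1) / 2) := by
  classical
  intro r
  induction r with
  | zero =>
    intro d V hV hr S
    haveI : FiniteDimensional k V := Module.finite_of_finrank_pos (by omega)
    obtain ⟨f₀, hf₀, hf₀0⟩ : ∃ f₀ ∈ V, f₀ ≠ 0 := by
      by_contra hcon
      push Not at hcon
      have : V = ⊥ := (Submodule.eq_bot_iff V).mpr hcon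
      rw [this, finrank_bot] at hr
      omega
    have h1 : ∑ a ∈ S, wt (ordAt a) V d = ∑ a ∈ S, f₀.rootMultiplicity a :=
      sum_congr rfl (fun a _ => wt_of_finrank_one a V hV hr hf₀ hf₀0)
    have h2 := sum_rootMultiplicity_le hf₀0 S
    have h3 := hV f₀ hf₀
    rw [h1]
    simp only [zero_add, one_mul, mul_zero, add_zero, Nat.zero_div]
    omega
  | succ r' ih =>
    intro d V hV hr S
    haveI : FiniteDimensional k V := Module.finite_of_finrank_pos (by omega)
    have hne : ∃ p ∈ V, p ≠ 0 := by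
      by_contra hcon
      push Not at hcon
      have : V = ⊥ := (Submodule.eq_bot_iff V).mpr hcon
      rw [this, finrank_bot] at hr
      omega
    obtain ⟨f₀, hf₀, hf₀0, hmax⟩ := exists_max_degree hV hne
    have hed : f₀.natDegree ≤ d := hV f₀ hf₀
    have her : r' + 1 ≤ f₀.natDegree := by
      have := finrank_le_of_deg hmax
      omega
    have he1 : 1 ≤ f₀.natDegree := by omega
    -- the derived space
    have hUdeg : ∀ u ∈ V.map (wr f₀), u.natDegree ≤ 2 * f₀.natDegree - 2 := by
      rintro u ⟨g, hg, rfl⟩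
      exact natDegree_wr_le he1 rfl (hmax g hg)
    have hUrank : Module.finrank k (V.map (wr f₀)) = r' + 1 := by
      have := (wr_shifts (0 : k) hf₀0).finrank_map V hf₀
      omega
    have hIH := ih (2 * f₀.natDegree - 2) (V.map (wr f₀)) hUdeg hUrank (S ∪ f₀.roots.toFinset)
    -- the transfer at each point
    have hT : ∀ a : k, wt (ordAt a) (V.map (wr f₀)) (2 * f₀.natDegree - 2) +
        f₀.rootMultiplicity a + (r' + 1) =
        wt (ordAt a) V d + (r' + 1) * f₀.rootMultiplicity a := fun a =>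
      (wr_shifts a hf₀0).wt_map V hf₀ (bound_of_deg hV a) (bound_of_deg hUdeg a) hr
    have hμ : ∑ a ∈ S ∪ f₀.roots.toFinset, f₀.rootMultiplicity a = f₀.natDegree :=
      sum_rootMultiplicity_eq _ subset_union_right
    have hL : ∑ a ∈ S ∪ f₀.roots.toFinset, (wt (ordAt a) (V.map (wr f₀)) (2 * f₀.natDegree - 2) +
        f₀.rootMultiplicity a + (r' + 1)) =
        ∑ a ∈ S ∪ f₀.roots.toFinset, wt (ordAt a) (V.map (wr f₀)) (2 * f₀.natDegree - 2) +
          f₀.natDegree + (S ∪ f₀.roots.toFinset).card * (r' + 1) := by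
      rw [sum_add_distrib, sum_add_distrib, hμ, sum_const, smul_eq_mul]
    have hR : ∑ a ∈ S ∪ f₀.roots.toFinset, (wt (ordAt a) V d + (r' + 1) * f₀.rootMultiplicity a) =
        ∑ a ∈ S ∪ f₀.roots.toFinset, wt (ordAt a) V d + (r' + 1) * f₀.natDegree := by
      rw [sum_add_distrib, ← mul_sum, hμ]
    have hsum := hL.symm.trans ((sum_congr rfl (fun a _ => hT a)).trans hR)
    -- weights are nonnegative
    have hge : ∀ a : k, (r' + 1) * (r' + 1 + 1) / 2 ≤ wt (ordAt a) V d := fun a =>
      wt_ge (ordAt a) V (bound_of_deg hV a) hr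
    have hsplit : ∑ a ∈ S ∪ f₀.roots.toFinset, wt (ordAt a) V d =
        ∑ a ∈ S, wt (ordAt a) V d + ∑ a ∈ (S ∪ f₀.roots.toFinset) \ S, wt (ordAt a) V d := by
      rw [← sum_union disjoint_sdiff]
      congr 1
      rw [union_sdiff_of_subset subset_union_left]
    have hge2 : ((S ∪ f₀.roots.toFinset) \ S).card * ((r' + 1) * (r' + 1 + 1) / 2) ≤
        ∑ a ∈ (S ∪ f₀.roots.toFinset) \ S, wt (ordAt a) V d := by
      rw [← smul_eq_mul, ← sum_const]
      exact sum_le_sum (fun a _ => hge a)
    have hcard : (S ∪ f₀.roots.toFinset).card = S.card + ((S ∪ f₀.roots.toFinset) \ S).card := by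
      rw [← card_union_of_disjoint disjoint_sdiff, union_sdiff_of_subset subset_union_left]
    -- arithmetic
    have hEE' : (r' + 1) * (r' + 1 + 1) / 2 = r' * (r' + 1) / 2 + (r' + 1) := by
      have h1 : r' * (r' + 1) / 2 * 2 = r' * (r' + 1) :=
        Nat.div_mul_cancel (Nat.even_mul_succ_self r').two_dvd
      have h2 : (r' + 1) * (r' + 1 + 1) / 2 * 2 = (r' + 1) * (r' + 1 + 1) :=
        Nat.div_mul_cancel (Nat.even_mul_succ_self (r' + 1)).two_dvd
      have h3 : (r' + 1) * (r' + 1 + 1) = r' * (r' + 1) + 2 * (r' + 1) := by ring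
      omega
    have a1 : (r' + 1) * (2 * f₀.natDegree - 2) + 2 * (r' + 1) =
        2 * ((r' + 1) * f₀.natDegree) := by
      have h1 : 2 * f₀.natDegree - 2 + 2 = 2 * f₀.natDegree := by omega
      have h2 : (r' + 1) * (2 * f₀.natDegree - 2) + 2 * (r' + 1) =
          (r' + 1) * (2 * f₀.natDegree - 2 + 2) := by ring
      rw [h2, h1]; ring
    have a2 : (r' + 1) * r' + (r' + 1) = (r' + 1) * (r' + 1) := by ring
    have a3 : (r' + 1 + 1) * (r' + 1) = (r' + 1) * (r' + 1) + (r' + 1) := by ring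
    have a4 : (r' + 1 + 1) * f₀.natDegree = (r' + 1) * f₀.natDegree + f₀.natDegree := by ring
    have a5 : (S ∪ f₀.roots.toFinset).card * ((r' + 1) * (r' + 1 + 1) / 2) =
        (S ∪ f₀.roots.toFinset).card * (r' * (r' + 1) / 2) +
          (S ∪ f₀.roots.toFinset).card * (r' + 1) := by rw [hEE']; ring
    have a6 : (S ∪ f₀.roots.toFinset).card * ((r' + 1) * (r' + 1 + 1) / 2) =
        S.card * ((r' + 1) * (r' + 1 + 1) / 2) +
          ((S ∪ f₀.roots.toFinset) \ S).card * ((r' + 1) * (r' + 1 + 1) / 2) := by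
      rw [hcard]; ring
    have a7 : (r' + 1 + 1) * f₀.natDegree ≤ (r' + 1 + 1) * d := Nat.mul_le_mul_left _ hed
    have a8 : (r' + 1) * (r' + 1) ≤ (r' + 1) * f₀.natDegree := Nat.mul_le_mul_left _ her
    omega

end Groth.Agent.Lib.Helper27.Plucker
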