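import Groth.Agent.Lib.Helper27.FunFld21
import Groth.Agent.Lib.Helper27.Plucker5

/-! Function fields of one variable (helper27), part 22: the Plücker inequality in genus zero,
by transfer to spaces of polynomials. -/

set_option autoImplicit false

namespace Groth.Agent.Lib.Helper27.FF

open FunFld Polynomial IntermediateField
open Groth.Agent.Lib.Helper27.Plucker

universe u v

variable {k : Type u} {K : Type v} [Field k] [Field K] [Algebra k K]

/-- In genus zero every divisor of degree zero is principal. -/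
theorem exists_div_eq_of_deg_zero (hK : IsFunctionField k K) (hg : genus k K = 0)
    {E : Divisor k K} (hE : E.deg = 0) : ∃ h : K, h ≠ 0 ∧ FunFld.div k h = E := by
  have hell : (ell (-E) : ℤ) = 1 := by
    have := (core_of hK).ell_eq_of_deg_ge (D := -E) (by rw [hg, deg_neg, hE]; norm_num)
    rw [this, deg_neg, hE, hg]; norm_num
  obtain ⟨x, hx0, hx⟩ := exists_ne_zero_of_ell_pos' (D := -E) (by omega)
  have hnn := le_div_of_mem_L' hK hx0 hx
  have hdeg0 : (-E + FunFld.div k x).deg = 0 := by
    rw [deg_add, deg_neg, deg_div hK, hE]; norm_num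
  have hzero := eq_zero_of_nonneg_of_deg_eq_zero (one_le_deg' hK) hnn hdeg0
  refine ⟨x, hx0, ?_⟩
  have : FunFld.div k x - E = 0 := by rw [← hzero]; abel
  exact sub_eq_zero.mp this

/-- A function field over an infinite field has infinitely many places. -/
theorem infinite_place [Infinite k] (hK : IsFunctionField k K) : Infinite (Place k K) := by
  obtain ⟨⟨x, hx, -⟩, -⟩ := id hK
  have htr : ∀ c : k, Transcendental k (x - algebraMap k K c) := by
    intro c halg
    apply hx
    have : x = (x - algebraMap k K c) + algebraMap k K c := by ring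
    rw [this]
    exact halg.add (isAlgebraic_algebraMap c)
  choose P hP using fun c : k => exists_place_val_lt_one hK (htr c)
  apply Infinite.of_injective P
  intro c c' hcc'
  by_contra hne
  have h1 := hP c
  have h2 := hP c'
  rw [← hcc'] at h2
  have h3 : (P c).1 (algebraMap k K (c - c')) < 1 := by
    have : algebraMap k K (c - c') = (x - algebraMap k K c') - (x - algebraMap k K c) := by
      rw [map_sub]; ring
    rw [this]
    exact ((P c).1.map_sub _ _).trans_lt (max_lt h2 h1)
  rw [val_const (P c) (sub_ne_zero.mpr hne)] at h3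
  exact lt_irrefl _ h3

theorem exists_place_not_mem [Infinite k] (hK : IsFunctionField k K) (S : Finset (Place k K)) :
    ∃ P : Place k K, P ∉ S := by
  haveI := infinite_place hK
  exact Infinite.exists_notMem_finset S

/-- For `t` with a unique simple pole at `P∞`, `t - c` has divisor `R - P∞` when it vanishes at `R`. -/
theorem div_sub_const (hK : IsFunctionField k K) {t : K} {Pinf : Place k K} (hPd : Pinf.deg = 1)
    (ht1 : Pinf.ord t = -1) (ht2 : ∀ Q : Place k K, Q ≠ Pinf → 0 ≤ Q.ord t) {R : Place k K}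
    {c : k} (hc : R.1 (t - algebraMap k K c) < 1) :
    t - algebraMap k K c ≠ 0 ∧
      FunFld.div k (t - algebraMap k K c) = Finsupp.single R 1 - Finsupp.single Pinf 1 := by
  have hx0 : t ≠ 0 := ne_zero_of_ord_ne_zero (P := Pinf) (by rw [ht1]; decide)
  have hvP' : Pinf.1 t = WithZero.exp (1 : ℤ) := by
    rw [val_eq_exp_neg_ord Pinf hx0, ht1]; rfl
  have hcP' : Pinf.1 (algebraMap k K c) < Pinf.1 t := by
    rw [hvP']
    exact lt_of_le_of_lt (Pinf.2.1 c) (by rw [← WithZero.exp_zero, WithZero.exp_lt_exp]; norm_num)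
  have hvt : Pinf.1 (t - algebraMap k K c) = WithZero.exp (1 : ℤ) := by
    rw [← hvP']
    exact Valuation.map_sub_eq_of_lt_left _ hcP'
  have ht0 : t - algebraMap k K c ≠ 0 := by
    intro h0
    rw [h0, map_zero] at hvt
    exact WithZero.exp_ne_zero hvt.symm
  refine ⟨ht0, ?_⟩
  apply div_eq_of_simple_pole_of_zero hK hPd
  · rw [ord_eq_iff Pinf ht0, hvt]; rfl
  · intro R' hR'
    rw [← val_le_one_iff R' ht0]
    have h1 : R'.1 t ≤ 1 := (val_le_one_iff R' hx0).mpr (ht2 R' hR')
    exact (R'.1.map_sub _ _).trans (max_le h1 (R'.2.1 c))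
  · exact (val_lt_one_iff R ht0).mp hc

/-- the order of `p(t)` at the place `t = c` is the root multiplicity of `p` at `c`. -/
theorem val_aeval_eq (hK : IsFunctionField k K) {t : K} {Pinf : Place k K} (hPd : Pinf.deg = 1)
    (ht1 : Pinf.ord t = -1) (ht2 : ∀ Q : Place k K, Q ≠ Pinf → 0 ≤ Q.ord t) {R : Place k K}
    {c : k} (hc : R.1 (t - algebraMap k K c) < 1) {p : k[X]} (hp : p ≠ 0) :
    R.1 (aeval t p) = WithZero.exp (-(p.rootMultiplicity c : ℤ)) := by
  obtain ⟨ht0, hdiv⟩ := div_sub_const hK hPd ht1 ht2 hc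
  have hRP : R ≠ Pinf := by
    rintro rfl
    have hx0 : t ≠ 0 := ne_zero_of_ord_ne_zero (P := R) (by rw [ht1]; decide)
    have h1 : FunFld.div k (t - algebraMap k K c) R = 0 := by rw [hdiv]; simp
    rw [div_apply' hK] at h1
    have := (val_lt_one_iff R ht0).mp hc
    omega
  have hvR : R.1 (t - algebraMap k K c) = WithZero.exp (-1 : ℤ) := by
    rw [val_eq_exp_neg_div' hK ht0, hdiv, Finsupp.sub_apply, Finsupp.single_eq_same,
      Finsupp.single_eq_of_ne hRP, sub_zero]
  obtain ⟨q, hpq, hq⟩ := Polynomial.exists_eq_pow_rootMultiplicity_mul_and_not_dvd p hp c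
  have hqc : q.eval c ≠ 0 := by
    intro h
    exact hq (Polynomial.dvd_iff_isRoot.mpr h)
  have hq1 : R.1 (aeval t q) = 1 := by
    have h1 : aeval t q = aeval (t - algebraMap k K c) (q.comp (X + C c)) := by
      rw [Polynomial.aeval_comp, map_add, aeval_X, aeval_C, sub_add_cancel]
    rw [h1]
    apply w_aeval_eq_one R.1 R.2.1 hc
    rw [Polynomial.coeff_zero_eq_eval_zero, Polynomial.eval_comp]
    simpa using hqc
  conv_lhs => rw [hpq]
  rw [map_mul, map_pow, map_sub, aeval_X, aeval_C, Valuation.map_mul, map_pow, hvR, hq1, mul_one,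
    ← WithZero.exp_nsmul]
  congr 1
  simp

/-- `f ∈ L(D)` lies in `L(D - nR)` iff its value at `R` is at most `exp (D R - n)`. -/
theorem mem_L_sub_single_iff {D : Divisor k K} {f : K} (hf : f ∈ L D) (R : Place k K) (n : ℤ) :
    f ∈ L (D - Finsupp.single R n) ↔ R.1 f ≤ WithZero.exp (D R - n) := by
  constructor
  · intro h
    have := h R
    rwa [Finsupp.sub_apply, Finsupp.single_eq_same] at this
  · intro h P
    by_cases hP : P = R
    · subst hP
      rwa [Finsupp.sub_apply, Finsupp.single_eq_same]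
    · rw [Finsupp.sub_apply, Finsupp.single_eq_of_ne hP, sub_zero]
      exact hf P

/-- every element of `L(d P∞)` is a polynomial of degree at most `d` in `t`. -/
theorem exists_aeval_eq_of_mem_L (hK : IsFunctionField k K) (hg : genus k K = 0) {t : K}
    {Pinf : Place k K} (hPd : Pinf.deg = 1) (ht1 : Pinf.ord t = -1)
    (ht2 : ∀ Q : Place k K, Q ≠ Pinf → 0 ≤ Q.ord t) (d : ℕ) {y : K}
    (hy : y ∈ L ((d : ℤ) • (Finsupp.single Pinf 1 : Divisor k K))) :
    ∃ p ∈ Polynomial.degreeLT k (d + 1), aeval t p = y := by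
  have htr : Transcendental k t := transcendental_of_ord_ne_zero hK (P := Pinf) (by rw [ht1]; decide)
  have hinj : Function.Injective (aeval (R := k) t).toLinearMap := transcendental_iff_injective.mp htr
  have hpd : poleDiv k t = Finsupp.single Pinf 1 := poleDiv_eq_single hK ht1 ht2
  set W : Submodule k K := Submodule.map (aeval (R := k) t).toLinearMap (Polynomial.degreeLT k (d + 1))
    with hW
  have hle : W ≤ L ((d : ℤ) • (Finsupp.single Pinf 1 : Divisor k K)) := by
    rintro _ ⟨p, hp, rfl⟩
    rw [← hpd]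
    exact aeval_mem_L_smul_poleDiv hK t d p hp
  have h1 : Module.finrank k W = d + 1 := by
    rw [hW, ← (Submodule.equivMapOfInjective _ hinj _).finrank_eq,
      (Polynomial.degreeLTEquiv k (d + 1)).finrank_eq]
    simp
  have h2 : Module.finrank k (L ((d : ℤ) • (Finsupp.single Pinf 1 : Divisor k K))) = d + 1 := by
    have := (core_of hK).ell_eq_of_deg_ge (D := (d : ℤ) • (Finsupp.single Pinf 1 : Divisor k K))
      (by rw [hg, deg_int_smul, deg_single, hPd]; push_cast; nlinarith)
    rw [deg_int_smul, deg_single, hPd, hg] at this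
    unfold ell at this
    have h3 : ((Module.finrank k (L ((d : ℤ) • (Finsupp.single Pinf 1 : Divisor k K))) : ℕ) : ℤ) =
        ((d + 1 : ℕ) : ℤ) := by rw [this]; push_cast; ring
    exact_mod_cast h3
  haveI := finiteDimensional_L hK ((d : ℤ) • (Finsupp.single Pinf 1 : Divisor k K))
  have heq := Submodule.eq_of_le_of_finrank_eq hle (h1.trans h2.symm)
  rw [← heq] at hy
  obtain ⟨p, hp, rfl⟩ := hy
  exact ⟨p, hp, rfl⟩

/-- the comparison map `p ↦ p(t) / h`. -/
noncomputable def phi (t h : K) : k[X] →ₗ[k] K :=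
  (LinearMap.mulLeft k h⁻¹).comp (aeval (R := k) t).toLinearMap

theorem phi_apply (t h : K) (p : k[X]) : phi t h p = h⁻¹ * aeval t p := rfl

theorem phi_injective {t h : K} (ht : Transcendental k t) (hh : h ≠ 0) :
    Function.Injective (phi (k := k) t h) := by
  intro p q hpq
  rw [phi_apply, phi_apply] at hpq
  have := mul_left_cancel₀ (inv_ne_zero hh) hpq
  exact transcendental_iff_injective.mp ht this

/-- the polynomial model of `V ⊆ L(D)`. -/
noncomputable def polyModel (t h : K) (d : ℕ) (V : Submodule k K) : Submodule k k[X] :=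
  Submodule.comap (phi t h) V ⊓ Polynomial.degreeLT k (d + 1)

theorem natDegree_le_of_mem_polyModel {t h : K} {d : ℕ} {V : Submodule k K} {p : k[X]}
    (hp : p ∈ polyModel t h d V) : p.natDegree ≤ d := by
  have := hp.2
  rw [SetLike.mem_coe, Polynomial.mem_degreeLT] at this
  by_cases hp0 : p = 0
  · subst hp0; simp
  · rw [Polynomial.degree_eq_natDegree hp0] at this
    have : p.natDegree < d + 1 := by exact_mod_cast this
    omega

theorem val_phi (hK : IsFunctionField k K) {t : K} {Pinf : Place k K} (hPd : Pinf.deg = 1)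
    (ht1 : Pinf.ord t = -1) (ht2 : ∀ Q : Place k K, Q ≠ Pinf → 0 ≤ Q.ord t) {R : Place k K}
    {c : k} (hc : R.1 (t - algebraMap k K c) < 1) {D : Divisor k K} {d : ℕ} {h : K} (hh : h ≠ 0)
    (hdiv : FunFld.div k h = D - (d : ℤ) • (Finsupp.single Pinf 1 : Divisor k K))
    {p : k[X]} (hp : p ≠ 0) :
    R.1 (phi t h p) = WithZero.exp (D R - (p.rootMultiplicity c : ℤ)) := by
  have hRP : R ≠ Pinf := by
    rintro rfl
    have hx0 : t ≠ 0 := ne_zero_of_ord_ne_zero (P := R) (by rw [ht1]; decide)
    have hvP' : R.1 t = WithZero.exp (1 : ℤ) := by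
      rw [val_eq_exp_neg_ord R hx0, ht1]; rfl
    have hcP' : R.1 (algebraMap k K c) < R.1 t := by
      rw [hvP']
      exact lt_of_le_of_lt (R.2.1 c) (by rw [← WithZero.exp_zero, WithZero.exp_lt_exp]; norm_num)
    have hvt : R.1 (t - algebraMap k K c) = WithZero.exp (1 : ℤ) := by
      rw [← hvP']
      exact Valuation.map_sub_eq_of_lt_left _ hcP'
    rw [hvt, ← WithZero.exp_zero, WithZero.exp_lt_exp] at hc
    omega
  rw [phi_apply, map_mul, map_inv₀, val_aeval_eq hK hPd ht1 ht2 hc hp, val_eq_exp_neg_div' hK hh,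
    hdiv, Finsupp.sub_apply, Finsupp.smul_apply, Finsupp.single_eq_of_ne hRP, smul_zero, sub_zero,
    ← WithZero.exp_neg, neg_neg, ← WithZero.exp_add]
  congr 1

/-- the transfer: `F^n` of the polynomial model corresponds to `V(-nR)`. -/
theorem map_phi_Fil (hK : IsFunctionField k K) (hg : genus k K = 0) {t : K} {Pinf : Place k K}
    (hPd : Pinf.deg = 1) (ht1 : Pinf.ord t = -1) (ht2 : ∀ Q : Place k K, Q ≠ Pinf → 0 ≤ Q.ord t)
    {R : Place k K} {c : k} (hc : R.1 (t - algebraMap k K c) < 1) {D : Divisor k K} {d : ℕ} {h : K}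
    (hh : h ≠ 0) (hdiv : FunFld.div k h = D - (d : ℤ) • (Finsupp.single Pinf 1 : Divisor k K))
    {V : Submodule k K} (hV : V ≤ L D) (n : ℕ) :
    Submodule.map (phi t h) (Fil (ordAt c) (polyModel t h d V) n) = vs V D R (n : ℤ) := by
  apply le_antisymm
  · rintro _ ⟨p, ⟨hpV, hpn⟩, rfl⟩
    have hpV' : phi t h p ∈ V := hpV.1
    refine ⟨hpV', ?_⟩
    rw [SetLike.mem_coe, mem_L_sub_single_iff (hV hpV')]
    by_cases hp0 : p = 0
    · subst hp0
      rw [map_zero, map_zero]
      exact zero_le
    · rw [val_phi hK hPd ht1 ht2 hc hh hdiv hp0, WithZero.exp_le_exp]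
      have := hpn.resolve_left hp0
      rw [ordAt_ν] at this
      have : (n : ℤ) ≤ (p.rootMultiplicity c : ℤ) := by exact_mod_cast this
      linarith
  · rintro f ⟨hfV, hfL⟩
    have hfD : f ∈ L D := hV hfV
    have hhf : h * f ∈ L ((d : ℤ) • (Finsupp.single Pinf 1 : Divisor k K)) := by
      rw [mul_mem_L_iff hK _ h f hh, hdiv]
      have : (d : ℤ) • (Finsupp.single Pinf 1 : Divisor k K) +
          (D - (d : ℤ) • (Finsupp.single Pinf 1 : Divisor k K)) = D := by abel
      rw [this]
      exact hfD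
    obtain ⟨p, hpd, hp⟩ := exists_aeval_eq_of_mem_L hK hg hPd ht1 ht2 d hhf
    have hphi : phi t h p = f := by
      rw [phi_apply, hp, ← mul_assoc, inv_mul_cancel₀ hh, one_mul]
    refine ⟨p, ⟨⟨?_, hpd⟩, ?_⟩, hphi⟩
    · show phi t h p ∈ V
      rw [hphi]; exact hfV
    · by_cases hp0 : p = 0
      · exact Or.inl hp0
      right
      rw [SetLike.mem_coe, mem_L_sub_single_iff hfD, ← hphi,
        val_phi hK hPd ht1 ht2 hc hh hdiv hp0, WithZero.exp_le_exp] at hfL
      rw [ordAt_ν]
      have : (n : ℤ) ≤ (p.rootMultiplicity c : ℤ) := by linarith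
      exact_mod_cast this

theorem finrank_Fil_polyModel (hK : IsFunctionField k K) (hg : genus k K = 0) {t : K}
    {Pinf : Place k K}
    (hPd : Pinf.deg = 1) (ht1 : Pinf.ord t = -1) (ht2 : ∀ Q : Place k K, Q ≠ Pinf → 0 ≤ Q.ord t)
    {R : Place k K} {c : k} (hc : R.1 (t - algebraMap k K c) < 1) {D : Divisor k K} {d : ℕ} {h : K}
    (hh : h ≠ 0) (hdiv : FunFld.div k h = D - (d : ℤ) • (Finsupp.single Pinf 1 : Divisor k K))
    {V : Submodule k K} (hV : V ≤ L D) (n : ℕ) :
    Module.finrank k (Fil (ordAt c) (polyModel t h d V) n) = av V D R (n : ℤ) := by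
  have htr : Transcendental k t := transcendental_of_ord_ne_zero hK (P := Pinf) (by rw [ht1]; decide)
  rw [(Submodule.equivMapOfInjective _ (phi_injective htr hh) _).finrank_eq,
    map_phi_Fil hK hg hPd ht1 ht2 hc hh hdiv hV n]
  rfl

/-- **Plücker inequality in genus zero**: the weights of a `g^r_d` at finitely many places add up
to at most `(r+1)(d-r)`. -/
theorem plucker_genus_zero [IsAlgClosed k] [CharZero k] (hK : IsFunctionField k K)
    (hg : genus k K = 0) {D : Divisor k K} {d r : ℕ} (hD : D.deg = d) {V : Submodule k K}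
    (hV : V ≤ L D) (hVr : Module.finrank k V = r + 1) (S : Finset (Place k K)) :
    ∑ R ∈ S, wsum d V D R + (r + 1) * r ≤ (r + 1) * d + S.card * (r * (r + 1) / 2) := by
  classical
  have hdeg := deg_eq_one' hK
  obtain ⟨Pinf, hPinf⟩ := exists_place_not_mem hK S
  have hPd := hdeg Pinf
  obtain ⟨t, ht1, ht2⟩ := exists_simple_pole_of_genus_zero hK hg hPd
  have ht0 : t ≠ 0 := ne_zero_of_ord_ne_zero (P := Pinf) (by rw [ht1]; decide)
  have htr : Transcendental k t := transcendental_of_ord_ne_zero hK (P := Pinf) (by rw [ht1]; decide)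
  obtain ⟨h, hh, hdiv⟩ := exists_div_eq_of_deg_zero hK hg
    (E := D - (d : ℤ) • (Finsupp.single Pinf 1 : Divisor k K))
    (by rw [deg_sub, deg_int_smul, deg_single, hPd, hD]; push_cast; ring)
  -- coordinates of the places
  have hex : ∀ R : Place k K, ∃ c : k, R ≠ Pinf → R.1 (t - algebraMap k K c) < 1 := by
    intro R
    by_cases hR : R = Pinf
    · exact ⟨0, fun h => absurd hR h⟩
    · obtain ⟨c, hc⟩ := exists_const_sub_lt R (hdeg R) ((val_le_one_iff R ht0).mpr (ht2 R hR))
      exact ⟨c, fun _ => hc⟩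
  choose a ha using hex
  have hainj : Set.InjOn a (S : Set (Place k K)) := by
    intro R hR R' hR' hRR'
    have hRP : R ≠ Pinf := by rintro rfl; exact hPinf hR
    have hR'P : R' ≠ Pinf := by rintro rfl; exact hPinf hR'
    have h1 := (div_sub_const hK hPd ht1 ht2 (ha R hRP)).2
    have h2 := (div_sub_const hK hPd ht1 ht2 (ha R' hR'P)).2
    rw [hRR', h2] at h1
    have h3 : (Finsupp.single R' 1 : Divisor k K) = Finsupp.single R 1 := by
      have := congrArg (fun E : Divisor k K => E + Finsupp.single Pinf 1) h1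
      simpa using this
    by_contra hne
    have := congrArg (fun E : Divisor k K => E R) h3
    simp only [Finsupp.single_eq_same] at this
    rw [Finsupp.single_eq_of_ne hne] at this
    exact zero_ne_one this
  set V' := polyModel (k := k) t h d V with hV'
  have hV'deg : ∀ p ∈ V', p.natDegree ≤ d := fun p hp => natDegree_le_of_mem_polyModel hp
  have hfil : ∀ R ∈ S, ∀ n : ℕ, Module.finrank k (Fil (ordAt (a R)) V' n) = av V D R (n : ℤ) := by
    intro R hR n
    have hRP : R ≠ Pinf := by rintro rfl; exact hPinf hR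
    exact finrank_Fil_polyModel hK hg hPd ht1 ht2 (ha R hRP) hh hdiv hV n
  have hV'r : Module.finrank k V' = r + 1 := by
    obtain ⟨R, hR⟩ := exists_place_ne hK Pinf
    obtain ⟨c, hc⟩ := exists_const_sub_lt R (hdeg R) ((val_le_one_iff R ht0).mpr (ht2 R hR))
    have := finrank_Fil_polyModel hK hg hPd ht1 ht2 hc hh hdiv hV 0
    rw [Fil_zero] at this
    rw [this]
    have h0 : av V D R ((0 : ℕ) : ℤ) = Module.finrank k V := by
      rw [Nat.cast_zero]; exact av_zero hV R
    rw [h0, hVr]
  have hw : ∀ R ∈ S, wsum d V D R = wt (ordAt (a R)) V' d := by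
    intro R hR
    unfold wsum wt
    apply Finset.sum_congr rfl
    intro n _
    rw [hfil R hR (n + 1)]
    congr 1
  have hP := plucker_poly r d V' hV'deg hV'r (S.image a)
  rw [Finset.sum_image hainj, Finset.card_image_of_injOn hainj] at hP
  rw [Finset.sum_congr rfl hw]
  exact hP

/-- Plücker for a conditional family of places. -/
theorem plucker_fin [IsAlgClosed k] [CharZero k] (hK : IsFunctionField k K)
    (hg : genus k K = 0) {D : Divisor k K} {d r : ℕ} (hD : D.deg = d) {V : Submodule k K}
    (hV : V ≤ L D) (hVr : Module.finrank k V = r + 1) {m : ℕ} (P : Fin m → Place k K)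
    (c : Fin m → Prop) [DecidablePred c] (hinj : ∀ i j, c i → c j → P i = P j → i = j) :
    (∑ j, if c j then wsum d V D (P j) else 0) + (r + 1) * r ≤
      (r + 1) * d + (∑ j, if c j then 1 else 0) * (r * (r + 1) / 2) := by
  classical
  have hinj' : Set.InjOn P ((Finset.univ.filter c : Finset (Fin m)) : Set (Fin m)) := by
    intro i hi j hj hij
    rw [Finset.mem_coe, Finset.mem_filter] at hi hj
    exact hinj i j hi.2 hj.2 hij
  have := plucker_genus_zero hK hg hD hV hVr ((Finset.univ.filter c).image P)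
  rw [Finset.sum_image hinj', Finset.card_image_of_injOn hinj', Finset.sum_filter,
    Finset.card_filter] at this
  exact this

end Groth.Agent.Lib.Helper27.FF
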