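import Groth.Agent.Lib.Helper27.FFExt2

/-! Function fields of one variable (helper27): finite extensions `K'/K`, part 3.
The fundamental equality `∑ e f = n`. -/

set_option autoImplicit false

namespace Groth.Agent.Lib.Helper27.FF

open FunFld Polynomial IntermediateField

universe u v w

section OnlyPole

variable {k : Type u} {K : Type v} [Field k] [Field K] [Algebra k K]

/-- every place is the only pole of some element. -/
theorem exists_only_pole (hK : IsFunctionField k K) (P : Place k K) :
    ∃ (y : K) (m : ℕ), 1 ≤ m ∧ P.ord y = -(m : ℤ) ∧ ∀ P' : Place k K, P' ≠ P → 0 ≤ P'.ord y := by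
  set r : ℕ := genus k K + 1 with hr
  set D : Divisor k K := Finsupp.single P (r : ℤ) with hD
  have hdeg : (r : ℤ) ≤ D.deg := by
    rw [hD, deg_single]
    have : (1 : ℤ) ≤ (P.deg : ℤ) := by exact_mod_cast one_le_deg' hK P
    have h0 : (0 : ℤ) ≤ (r : ℤ) := Int.natCast_nonneg r
    nlinarith
  have hell : 2 ≤ ell D := by
    have := (riemann hK).1 D
    have h2 : (2 : ℤ) ≤ (ell D : ℤ) := by
      rw [hr] at hdeg
      push_cast at hdeg
      linarith
    exact_mod_cast h2
  obtain ⟨y, hyD, hy0⟩ := exists_mem_L_not_mem_L hK (D₁ := 0) (D₂ := D)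
    (by rw [ell_zero' hK]; omega)
  have hyne : y ≠ 0 := by
    rintro rfl
    exact hy0 (Submodule.zero_mem _)
  have hother : ∀ P' : Place k K, P' ≠ P → 0 ≤ P'.ord y := by
    intro P' hP'
    have := hyD P'
    rw [hD, Finsupp.single_eq_of_ne hP', WithZero.exp_zero] at this
    exact (val_le_one_iff P' hyne).mp this
  have hneg : P.ord y < 0 := by
    by_contra hge
    rw [not_lt] at hge
    apply hy0
    intro P'
    rw [Finsupp.zero_apply, WithZero.exp_zero]
    by_cases hP' : P' = P
    · subst hP'; exact (val_le_one_iff P' hyne).mpr hge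
    · exact (val_le_one_iff P' hyne).mpr (hother P' hP')
  obtain ⟨m, hm⟩ : ∃ m : ℕ, (m : ℤ) = -P.ord y := ⟨(-P.ord y).toNat, Int.toNat_of_nonneg (by omega)⟩
  exact ⟨y, m, by omega, by omega, hother⟩

theorem finrank_adjoin_of_only_pole (hK : IsFunctionField k K) {P : Place k K} {y : K} {m : ℕ}
    (hm : 1 ≤ m) (hP : P.ord y = -(m : ℤ)) (hother : ∀ P' : Place k K, P' ≠ P → 0 ≤ P'.ord y) :
    Module.finrank k⟮y⟯ K = m * P.deg := by
  have htr : Transcendental k y := transcendental_of_ord_ne_zero hK (P := P) (by rw [hP]; omega)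
  have h1 := deg_poleDiv_eq hK htr
  rw [poleDiv_eq_single' hK (Int.natCast_nonneg m) hP hother, deg_single] at h1
  exact_mod_cast h1.symm

end OnlyPole

section Fundamental

variable {k : Type u} {K : Type v} {K' : Type w} [Field k] [Field K] [Field K'] [Algebra k K]
  [Algebra K K'] [Algebra k K'] [IsScalarTower k K K']

/-- The fundamental equality, and finiteness of the set of places above `P`. -/
theorem sum_ramIdx_mul_deg (hK : IsFunctionField k K) [FiniteDimensional K K'] (P : Place k K) :
    {Q : Place k K' | IsOver Q P}.Finite ∧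
    ∀ (Qs : Finset (Place k K')), (∀ Q, Q ∈ Qs ↔ IsOver Q P) →
      (∑ Q ∈ Qs, ramIdx Q P * Q.deg) = Module.finrank K K' * P.deg := by
  classical
  obtain ⟨y, m, hm, hPy, hother⟩ := exists_only_pole hK P
  obtain ⟨hK', hfin⟩ := isFunctionField_algebraicClosure (K' := K') hK
  haveI := hfin
  set z : K' := algebraMap K K' y with hz
  have hy0 : y ≠ 0 := ne_zero_of_ord_ne_zero (P := P) (by rw [hPy]; omega)
  -- description of poles of z
  have hdesc : ∀ Q : Place k K', (IsOver Q P → Q.ord z = -((ramIdx Q P * m : ℕ) : ℤ)) ∧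
      (¬ IsOver Q P → 0 ≤ Q.ord z) := by
    intro Q
    obtain ⟨P₁, e, he⟩ := exists_isOverWith hK Q
    constructor
    · intro hover
      have h1 := isOverWith_ramIdx hover
      obtain ⟨rfl, rfl⟩ := isOverWith_unique he h1
      rw [hz, isOverWith_ord_eq he, hPy]
      push_cast; ring
    · intro hnot
      have hne : P₁ ≠ P := by
        rintro rfl
        exact hnot ⟨e, he⟩
      rw [hz, isOverWith_ord_eq he]
      exact mul_nonneg (Int.natCast_nonneg e) (hother P₁ hne)
  -- the pole divisor of z over k'
  set A := poleDiv (algebraicClosure k K') z with hA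
  have hAval : ∀ Q' : Place (algebraicClosure k K') K',
      A Q' = if IsOver (Place.down (k := k) Q') P then
        ((ramIdx (Place.down (k := k) Q') P * m : ℕ) : ℤ) else 0 := by
    intro Q'
    rw [hA, poleDiv_apply hK']
    have hord : Q'.ord z = (Place.down (k := k) Q').ord z := rfl
    rw [hord]
    split_ifs with hover
    · rw [(hdesc _).1 hover, neg_neg]
      exact max_eq_left (Int.natCast_nonneg _)
    · have := (hdesc _).2 hover
      exact max_eq_right (by linarith)
  have hsupp : ∀ Q' : Place (algebraicClosure k K') K',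
      Q' ∈ A.support ↔ IsOver (Place.down (k := k) Q') P := by
    intro Q'
    rw [Finsupp.mem_support_iff, hAval]
    constructor
    · intro h
      by_contra hnot
      rw [if_neg hnot] at h
      exact h rfl
    · intro hover
      rw [if_pos hover]
      have h1 := isOverWith_pos (isOverWith_ramIdx hover)
      have : 0 < ramIdx (Place.down (k := k) Q') P * m := Nat.mul_pos (by omega) (by omega)
      exact_mod_cast this.ne'
  have hfinite : {Q : Place k K' | IsOver Q P}.Finite := by
    apply (A.support.image (Place.down (k := k))).finite_toSet.subset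
    intro Q hQ
    rw [Finset.mem_coe, Finset.mem_image]
    refine ⟨Place.up Q, ?_, Place.down_up Q⟩
    rw [hsupp, Place.down_up]
    exact hQ
  refine ⟨hfinite, fun Qs hQs => ?_⟩
  have hQs_eq : Qs = A.support.image (Place.down (k := k)) := by
    ext Q
    rw [hQs, Finset.mem_image]
    constructor
    · intro hQ
      refine ⟨Place.up Q, ?_, Place.down_up Q⟩
      rw [hsupp, Place.down_up]
      exact hQ
    · rintro ⟨Q', hQ', rfl⟩
      exact (hsupp Q').mp hQ'
  -- transcendence of z over k'
  have hQex : ∃ Q' : Place (algebraicClosure k K') K', Q'.ord z ≠ 0 := by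
    have htr : Transcendental k y := transcendental_of_ord_ne_zero hK (P := P) (by rw [hPy]; omega)
    have htrz : Transcendental k z :=
      (transcendental_algebraMap_iff (algebraMap K K').injective).mpr htr
    have htrz' : Transcendental (algebraicClosure k K') z := by
      intro halg
      exact htrz (IsAlgebraic.restrictScalars k halg)
    obtain ⟨Q', hQ'⟩ := exists_place_val_lt_one hK' htrz'
    refine ⟨Q', ?_⟩
    have hz0 : z ≠ 0 := (_root_.map_ne_zero _).mpr hy0
    have := (val_lt_one_iff Q' hz0).mp hQ'
    omega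
  obtain ⟨Q'₀, hQ'₀⟩ := hQex
  have htrz' : Transcendental (algebraicClosure k K') z :=
    transcendental_of_ord_ne_zero hK' hQ'₀
  -- degree of the pole divisor
  have hdegA := deg_poleDiv_eq hK' htrz'
  have h1 : Module.finrank k (algebraicClosure k K') *
      Module.finrank (algebraicClosure k K')⟮z⟯ K' = Module.finrank k⟮z⟯ K' :=
    finrank_mul_finrank_adjoin_simple (k := k) htrz'
  have h2 : Module.finrank k⟮z⟯ K' = Module.finrank k⟮y⟯ K * Module.finrank K K' :=
    finrank_adjoin_algebraMap y
  have h3 := finrank_adjoin_of_only_pole hK hm hPy hother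
  -- compute the degree of A
  have hdegA' : A.deg = ∑ Q' ∈ A.support,
      ((ramIdx (Place.down (k := k) Q') P * m : ℕ) : ℤ) * (Q'.deg : ℤ) := by
    unfold Divisor.deg Finsupp.sum
    apply Finset.sum_congr rfl
    intro Q' hQ'
    rw [hAval, if_pos ((hsupp Q').mp hQ')]
  -- the sum over Qs
  have hsum : ((∑ Q ∈ Qs, ramIdx Q P * Q.deg : ℕ) : ℤ) * m =
      (Module.finrank k (algebraicClosure k K') : ℤ) * A.deg := by
    rw [hQs_eq, Finset.sum_image (fun a _ b _ h => Place.down_injective h), hdegA',
      Finset.mul_sum]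
    push_cast
    rw [Finset.sum_mul]
    apply Finset.sum_congr rfl
    intro Q' _
    rw [Place.deg_down]
    push_cast
    ring
  rw [hdegA] at hsum
  have h4 : ((∑ Q ∈ Qs, ramIdx Q P * Q.deg : ℕ) : ℤ) * m =
      ((Module.finrank K K' * P.deg : ℕ) : ℤ) * m := by
    rw [hsum]
    have : (Module.finrank k (algebraicClosure k K') : ℤ) *
        (Module.finrank (algebraicClosure k K')⟮z⟯ K' : ℤ) = (Module.finrank k⟮z⟯ K' : ℤ) := by
      exact_mod_cast h1
    rw [this, h2, h3]
    push_cast
    ring
  have hm0 : (m : ℤ) ≠ 0 := by exact_mod_cast (by omega : m ≠ 0)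
  exact_mod_cast mul_right_cancel₀ hm0 h4

end Fundamental

end Groth.Agent.Lib.Helper27.FF
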