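import Groth.Agent.Lib.Helper27.FunFld11

/-! Function fields of one variable (helper27), part 12: strong approximation. -/

set_option autoImplicit false

namespace Groth.Agent.Lib.Helper27.FF

open FunFld Polynomial IntermediateField

universe u v

variable {k : Type u} {K : Type v} [Field k] [Field K] [Algebra k K]

/-- Weak form of strong approximation: approximating to given precision. -/
theorem strong_approx_le (hK : IsFunctionField k K) (Pinf : Place k K) {n : ℕ}
    (P : Fin n → Place k K) (hP : Function.Injective P) (hinf : Pinf ∉ Set.range P)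
    (α : Fin n → K) (M : Fin n → ℤ) :
    ∃ z : K, (∀ i, (P i).1 (z - α i) ≤ WithZero.exp (-(M i))) ∧
      ∀ Q : Place k K, Q ≠ Pinf → Q ∉ Set.range P → Q.1 z ≤ 1 := by
  classical
  have C := core_of hK
  obtain ⟨N, hN⟩ := C.riemann.2
  -- the divisor
  let D₀ : Divisor k K := ∑ i, Finsupp.single (P i) (-(M i))
  have hD₀P : ∀ i, D₀ (P i) = -(M i) := by
    intro i
    show (∑ j, Finsupp.single (P j) (-(M j)) : Divisor k K) (P i) = _
    rw [Finsupp.finset_sum_apply]
    simp only [Finsupp.single_apply, hP.eq_iff]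
    rw [Finset.sum_ite_eq' Finset.univ i]
    simp
  have hD₀Q : ∀ Q : Place k K, Q ∉ Set.range P → D₀ Q = 0 := by
    intro Q hQ
    show (∑ j, Finsupp.single (P j) (-(M j)) : Divisor k K) Q = _
    rw [Finsupp.finset_sum_apply]
    apply Finset.sum_eq_zero
    intro j _
    rw [Finsupp.single_apply, if_neg]
    intro h
    exact hQ ⟨j, h⟩
  have hdeg : (1 : ℤ) ≤ (Pinf.deg : ℤ) := by exact_mod_cast C.one_le_deg Pinf
  let D₁ : Divisor k K := D₀ + Finsupp.single Pinf (max 0 (N - D₀.deg))
  have hD₁deg : N ≤ D₁.deg := by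
    show N ≤ (D₀ + Finsupp.single Pinf (max 0 (N - D₀.deg))).deg
    rw [deg_add, deg_single]
    have h1 : N - D₀.deg ≤ max 0 (N - D₀.deg) := le_max_right _ _
    have h2 : (0 : ℤ) ≤ max 0 (N - D₀.deg) := le_max_left _ _
    nlinarith
  have hD₁P : ∀ i, D₁ (P i) = -(M i) := by
    intro i
    show (D₀ + Finsupp.single Pinf (max 0 (N - D₀.deg))) (P i) = _
    rw [Finsupp.add_apply, hD₀P, Finsupp.single_eq_of_ne, add_zero]
    intro h
    exact hinf ⟨i, h⟩
  have hD₁Q : ∀ Q : Place k K, Q ≠ Pinf → Q ∉ Set.range P → D₁ Q = 0 := by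
    intro Q hQ hQ'
    show (D₀ + Finsupp.single Pinf (max 0 (N - D₀.deg))) Q = _
    rw [Finsupp.add_apply, hD₀Q Q hQ', Finsupp.single_eq_of_ne hQ, add_zero]
  have hA := C.adele_eq hN hD₁deg
  -- the adele
  let a : Place k K → K := fun Q => if h : ∃ i, P i = Q then α h.choose else 0
  have haP : ∀ i, a (P i) = α i := by
    intro i
    have h : ∃ j, P j = P i := ⟨i, rfl⟩
    show (if h : ∃ j, P j = P i then α h.choose else 0) = _
    rw [dif_pos h]
    congr 1
    exact hP h.choose_spec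
  have haQ : ∀ Q : Place k K, Q ∉ Set.range P → a Q = 0 := by
    intro Q hQ
    show (if h : ∃ j, P j = Q then α h.choose else 0) = _
    rw [dif_neg]
    exact hQ
  have ha : a ∈ adele k K := by
    rw [mem_adele_iff]
    refine (Set.finite_range P).subset ?_
    intro Q hQ
    by_contra hQ'
    apply hQ
    show Q.1 (a Q) ≤ 1
    rw [haQ Q hQ', map_zero]
    exact zero_le
  rw [hA] at ha
  obtain ⟨b, hb, c, ⟨z, rfl⟩, hbc⟩ := Submodule.mem_sup.mp ha
  have hbz : ∀ Q : Place k K, b Q = a Q - z := by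
    intro Q
    have := congrFun hbc Q
    rw [Pi.add_apply, diag_apply] at this
    rw [← this]; ring
  refine ⟨z, ?_, ?_⟩
  · intro i
    have := hb (P i)
    rw [hbz, haP, hD₁P] at this
    rwa [Valuation.map_sub_swap]
  · intro Q hQ hQ'
    have := hb Q
    rw [hbz, haQ Q hQ', hD₁Q Q hQ hQ', zero_sub, Valuation.map_neg] at this
    exact this

/-- S10997: strong approximation. -/
theorem strong_approximation (hK : IsFunctionField k K) (Pinf : Place k K) {n : ℕ}
    (P : Fin n → Place k K) (hP : Function.Injective P) (hinf : Pinf ∉ Set.range P)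
    (x : Fin n → K) (m : Fin n → ℤ) :
    ∃ y : K, (∀ i, (P i).1 (y - x i) = WithZero.exp (-(m i))) ∧
      ∀ Q : Place k K, Q ≠ Pinf → Q ∉ Set.range P → Q.1 y ≤ 1 := by
  obtain ⟨z₁, h1, h1'⟩ := strong_approx_le hK Pinf P hP hinf x (fun i => m i + 1)
  choose u hu0 hu using fun i => exists_val_eq_exp (P i) (-(m i))
  obtain ⟨z₂, h2, h2'⟩ := strong_approx_le hK Pinf P hP hinf u (fun i => m i + 1)
  have hlt : ∀ i, WithZero.exp (-(m i + 1)) < WithZero.exp (-(m i)) := by
    intro i
    rw [WithZero.exp_lt_exp]; linarith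
  have hz₂ : ∀ i, (P i).1 z₂ = WithZero.exp (-(m i)) := by
    intro i
    have h3 : (P i).1 (z₂ - u i) < (P i).1 (u i) := by
      rw [hu]; exact lt_of_le_of_lt (h2 i) (hlt i)
    have := val_add_eq_of_lt (P i) h3
    rw [sub_add_cancel] at this
    rw [this, hu]
  refine ⟨z₁ + z₂, ?_, ?_⟩
  · intro i
    have h3 : (P i).1 (z₁ - x i) < (P i).1 z₂ := by
      rw [hz₂]; exact lt_of_le_of_lt (h1 i) (hlt i)
    have := val_add_eq_of_lt (P i) h3
    rw [← hz₂ i, ← this]
    congr 1; ring
  · intro Q hQ hQ'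
    exact (Q.1.map_add _ _).trans (max_le (h1' Q hQ hQ') (h2' Q hQ hQ'))

end Groth.Agent.Lib.Helper27.FF
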