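import Mathlib
import Groth.Prelude.Def_EGA4b

/-!
# Normal rings are integrally closed in overrings of fractions

* `mem_range_of_isIntegral_of_isNormalRing`
* `isNormalRing_of_isReduced_of_krullDimLE_zero`
-/

open TensorProduct Polynomial
universe u v
open IsLocalRing
set_option linter.style.haveILetI false
set_option linter.unusedSectionVars false
set_option autoImplicit false

namespace Groth.Agent.Lib.Helper27.DeltaInv1

/-- A normal ring is integrally closed in any overring in which the relevant denominators are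
nonzerodivisors: if `ψ : C → T` is injective, `z ∈ T` is integral over `C` and `ψ s * z = ψ a` with
`ψ s` a unit, then `z` comes from `C`. -/
theorem mem_range_of_isIntegral_of_isNormalRing {C : Type u} {T : Type v} [CommRing C] [CommRing T]
    (ψ : C →+* T) (hψ : Function.Injective ψ) (hC : EGA4.IsNormalRing C) (z : T)
    (hz : ψ.IsIntegralElem z) (s a : C) (hs : IsUnit (ψ s)) (hsa : ψ s * z = ψ a) :
    z ∈ ψ.range := by
  classical
  obtain ⟨p, hpm, hpz⟩ := hz
  -- a is a root of the scaled polynomial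
  have hroot : eval a (scaleRoots p s) = 0 := by
    apply hψ
    rw [map_zero, ← Polynomial.eval₂_hom, ← hsa, scaleRoots_eval₂_mul, hpz, mul_zero]
  have hsnzd : s ∈ nonZeroDivisors C := by
    rw [mem_nonZeroDivisors_iff_right]
    intro c hc
    apply hψ
    have := congrArg ψ hc
    rw [map_mul, map_zero] at this
    rw [map_zero]
    exact (hs.mul_left_eq_zero).mp this
  let I : Ideal C :=
    { carrier := {c | ψ c * z ∈ ψ.range}
      add_mem' := by
        rintro c d ⟨c', hc'⟩ ⟨d', hd'⟩
        exact ⟨c' + d', by rw [map_add, map_add, add_mul, hc', hd']⟩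
      zero_mem' := ⟨0, by simp⟩
      smul_mem' := by
        rintro r c ⟨c', hc'⟩
        exact ⟨r * c', by rw [smul_eq_mul, map_mul, map_mul, mul_assoc, hc']⟩ }
  suffices h1 : (1 : C) ∈ I by
    obtain ⟨c', hc'⟩ := h1
    exact ⟨c', by rw [hc', map_one, one_mul]⟩
  rw [← Ideal.eq_top_iff_one]
  by_contra hne
  obtain ⟨q, hq, hIq⟩ := Ideal.exists_le_maximal I hne
  haveI := hq.isPrime
  obtain ⟨hdom, hic⟩ := hC q
  haveI := hdom
  haveI := hic
  set Cq := Localization.AtPrime q
  set K := FractionRing Cq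
  let φ : C →+* K := (algebraMap Cq K).comp (algebraMap C Cq)
  have hφs : φ s ≠ 0 := by
    have h1 : algebraMap C Cq s ∈ nonZeroDivisors Cq :=
      IsLocalization.map_nonZeroDivisors_le q.primeCompl Cq ⟨s, hsnzd, rfl⟩
    have h2 : algebraMap C Cq s ≠ 0 := nonZeroDivisors.ne_zero h1
    intro h0
    exact h2 ((IsFractionRing.injective Cq K) (by rw [map_zero]; exact h0))
  have hw : eval₂ φ (φ a / φ s) p = 0 := by
    have h1 : eval₂ φ (φ s * (φ a / φ s)) (scaleRoots p s) = 0 := by
      rw [mul_div_cancel₀ _ hφs, Polynomial.eval₂_hom, hroot, map_zero]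
    rw [scaleRoots_eval₂_mul] at h1
    exact (mul_eq_zero.mp h1).resolve_left (pow_ne_zero _ hφs)
  have hint : IsIntegral Cq (φ a / φ s) := by
    refine ⟨p.map (algebraMap C Cq), hpm.map _, ?_⟩
    rw [Polynomial.eval₂_map]
    exact hw
  obtain ⟨c, hc⟩ := IsIntegrallyClosed.algebraMap_eq_of_integral hint
  obtain ⟨⟨c0, t⟩, hct⟩ := IsLocalization.surj q.primeCompl c
  simp only at hct
  -- a/1 * t/1 = c0/1 * s/1 in Cq
  have h3 : algebraMap C Cq (a * t) = algebraMap C Cq (c0 * s) := by
    apply IsFractionRing.injective Cq K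
    rw [map_mul, map_mul, map_mul, map_mul, ← hct, map_mul, hc]
    show φ a * _ = φ a / φ s * _ * φ s
    rw [mul_right_comm, div_mul_cancel₀ _ hφs]
  obtain ⟨u, hu⟩ := (IsLocalization.eq_iff_exists q.primeCompl Cq).mp h3
  have h4 : (u : C) * t ∈ I := by
    refine ⟨u * c0, ?_⟩
    symm
    apply hs.mul_left_cancel
    calc ψ s * (ψ (↑u * ↑t) * z) = ψ (↑u * ↑t) * (ψ s * z) := by ring
      _ = ψ (↑u * ↑t) * ψ a := by rw [hsa]
      _ = ψ (↑u * (a * ↑t)) := by rw [← map_mul]; congr 1; ring
      _ = ψ (↑u * (c0 * s)) := by rw [hu]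
      _ = ψ s * ψ (↑u * c0) := by rw [← map_mul]; congr 1; ring
  have h5 := hIq h4
  rcases hq.isPrime.mem_or_mem h5 with h | h
  · exact u.2 h
  · exact t.2 h

/-- A reduced ring of Krull dimension zero is a normal ring. -/
theorem isNormalRing_of_isReduced_of_krullDimLE_zero (R : Type u) [CommRing R] [IsReduced R]
    [Ring.KrullDimLE 0 R] : EGA4.IsNormalRing R := by
  intro q hq
  have hqmin : q ∈ minimalPrimes R := Ideal.mem_minimalPrimes_of_krullDimLE_zero q
  haveI : Ring.KrullDimLE 0 (Localization.AtPrime q) := .of_isLocalization _ hqmin _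
  have hf : IsField (Localization.AtPrime q) := Ring.KrullDimLE.isField_of_isReduced
  letI := hf.toField
  exact ⟨inferInstance, inferInstance⟩

end Groth.Agent.Lib.Helper27.DeltaInv1
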