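import Mathlib
import Groth.Prelude.Def_EGA4b
import Groth.Prelude.Def_Curv2
import Groth.Agent.Lib.Helper27.DeltaInv1
import Groth.Agent.S2498

/-!
# The δ-invariant under flat local base change with normal `B ⊗[A] A'`

Main result: `deltaInv_eq_of_isNormalRing_tensor`: for a faithfully flat local homomorphism `A → B`
with `𝔪_A B = 𝔪_B` such that `B ⊗[A] A'` is a normal ring (`A'` the integral closure of `A` in its
total ring of fractions), `δ(B) = δ(A)`.
-/

open TensorProduct Polynomial
universe u v
open IsLocalRing
set_option linter.style.haveILetI false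
set_option linter.unusedSectionVars false
set_option autoImplicit false

namespace Groth.Agent.Lib.Helper27.DeltaBC

section
variable (A B : Type u) [CommRing A] [CommRing B] [Algebra A B] [Module.Flat A B]

theorem nonZeroDivisors_le_comap :
    nonZeroDivisors A ≤ (nonZeroDivisors B).comap (algebraMap A B) := by
  intro a ha
  rw [Submonoid.mem_comap]
  have h1 : IsSMulRegular A a := by
    rw [isSMulRegular_iff_right_eq_zero_of_smul]
    intro x hx
    exact (mem_nonZeroDivisors_iff_right.mp ha) x (by rwa [smul_eq_mul, mul_comm] at hx)
  have h2 : IsSMulRegular B (algebraMap A B a) := IsSMulRegular.of_flat h1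
  rw [mem_nonZeroDivisors_iff_right]
  intro x hx
  rw [isSMulRegular_iff_right_eq_zero_of_smul] at h2
  exact h2 x (by rwa [smul_eq_mul, mul_comm])

/-- The map on total rings of fractions induced by a flat ring map. -/
noncomputable def fracMap : FractionRing A →+* FractionRing B :=
  IsLocalization.map (FractionRing B) (algebraMap A B) (nonZeroDivisors_le_comap A B)

noncomputable instance : Algebra (FractionRing A) (FractionRing B) := (fracMap A B).toAlgebra

instance : IsScalarTower A (FractionRing A) (FractionRing B) :=
  IsScalarTower.of_algebraMap_eq (fun a => by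
    rw [RingHom.algebraMap_toAlgebra, fracMap, IsLocalization.map_eq,
      IsScalarTower.algebraMap_apply A B (FractionRing B)])

/-- `B ⊗[A] Frac A → Frac B`. -/
noncomputable def mu : B ⊗[A] FractionRing A →ₐ[B] FractionRing B :=
  Algebra.TensorProduct.lift (Algebra.ofId B (FractionRing B))
    (IsScalarTower.toAlgHom A (FractionRing A) (FractionRing B)) (fun _ _ => Commute.all _ _)

theorem mu_injective : Function.Injective (mu A B) := by
  rw [injective_iff_map_eq_zero]
  intro x hx
  obtain ⟨⟨b, m⟩, hbm⟩ := IsLocalization.surj
    (Algebra.algebraMapSubmonoid B (nonZeroDivisors A)) x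
  simp only at hbm
  have h1 : mu A B (algebraMap B _ b) = 0 := by
    rw [← hbm, map_mul, hx, zero_mul]
  have h2 : algebraMap B (FractionRing B) b = 0 := by
    rw [← h1, AlgHom.commutes]
  have h3 : b = 0 := (IsFractionRing.injective B (FractionRing B)) (by rw [h2, map_zero])
  rw [h3, map_zero] at hbm
  have hu : IsUnit (algebraMap B (B ⊗[A] FractionRing A) m) :=
    IsLocalization.map_units _ m
  exact (hu.mul_left_eq_zero).mp hbm

/-- The canonical map `B ⊗[A] A' → Frac B`, `A'` the integral closure of `A` in `Frac A`. -/
noncomputable def psi : B ⊗[A] (integralClosure A (FractionRing A)) →ₐ[B] FractionRing B :=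
  (mu A B).comp (Algebra.TensorProduct.map (AlgHom.id B B) (integralClosure A (FractionRing A)).val)

theorem psi_tmul (b : B) (x : integralClosure A (FractionRing A)) :
    psi A B (b ⊗ₜ x) = algebraMap B (FractionRing B) b *
      algebraMap (FractionRing A) (FractionRing B) (x : FractionRing A) := by
  simp [psi, mu]

theorem psi_injective : Function.Injective (psi A B) := by
  have h1 : Function.Injective
      (Algebra.TensorProduct.map (AlgHom.id B B) (integralClosure A (FractionRing A)).val) := by
    have := Module.Flat.lTensor_preserves_injective_linearMap (M := B)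
      ((integralClosure A (FractionRing A)).val.toLinearMap) Subtype.val_injective
    exact this
  exact (mu_injective A B).comp h1


theorem psi_isIntegral (x : B ⊗[A] (integralClosure A (FractionRing A))) :
    IsIntegral B (psi A B x) := by
  induction x using TensorProduct.induction_on with
  | zero => rw [map_zero]; exact isIntegral_zero
  | tmul b a' =>
    rw [psi_tmul]
    refine IsIntegral.mul isIntegral_algebraMap ?_
    have h1 : IsIntegral A (a' : FractionRing A) := a'.2
    have h2 : IsIntegral A (algebraMap (FractionRing A) (FractionRing B) (a' : FractionRing A)) :=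
      h1.map (IsScalarTower.toAlgHom A (FractionRing A) (FractionRing B))
    exact h2.tower_top
  | add x y hx hy => rw [map_add]; exact hx.add hy

open Groth.Agent.Lib.Helper27.DeltaInv1 in
theorem mem_range_psi (hC : EGA4.IsNormalRing (B ⊗[A] (integralClosure A (FractionRing A))))
    (z : FractionRing B) (hz : IsIntegral B z) : z ∈ (psi A B).range := by
  obtain ⟨⟨b, s⟩, hbs⟩ := IsLocalization.surj (nonZeroDivisors B) z
  simp only at hbs
  have h := mem_range_of_isIntegral_of_isNormalRing (psi A B).toRingHom (psi_injective A B) hC z ?_
    ((s : B) ⊗ₜ 1) (b ⊗ₜ 1) ?_ ?_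
  · exact h
  · obtain ⟨p, hpm, hpz⟩ := hz
    refine ⟨p.map (algebraMap B _), hpm.map _, ?_⟩
    rw [Polynomial.eval₂_map]
    have : (psi A B).toRingHom.comp (algebraMap B (B ⊗[A] (integralClosure A (FractionRing A)))) =
        algebraMap B (FractionRing B) := by
      ext b
      simp
    rw [this]
    exact hpz
  · have : (psi A B).toRingHom ((s : B) ⊗ₜ 1) = algebraMap B (FractionRing B) s := by
      show psi A B _ = _
      rw [psi_tmul]
      simp
    rw [this]
    exact IsLocalization.map_units _ s
  · show psi A B _ * z = psi A B _
    rw [psi_tmul, psi_tmul]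
    simp only [OneMemClass.coe_one, map_one, mul_one]
    rw [mul_comm]
    exact hbs


/-- `B ⊗[A] A' ≃ B'` when `B ⊗[A] A'` is a normal ring. -/
noncomputable def tensorEquiv
    (hC : EGA4.IsNormalRing (B ⊗[A] (integralClosure A (FractionRing A)))) :
    (B ⊗[A] (integralClosure A (FractionRing A))) ≃ₐ[B] integralClosure B (FractionRing B) :=
  AlgEquiv.ofBijective ((psi A B).codRestrict (integralClosure B (FractionRing B))
    (psi_isIntegral A B)) (by
    constructor
    · intro x y hxy
      apply psi_injective A B
      exact congrArg Subtype.val hxy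
    · rintro ⟨z, hz⟩
      obtain ⟨x, hx⟩ := mem_range_psi A B hC z hz
      exact ⟨x, Subtype.ext hx⟩)

/-- The quotient map `B ⊗ A' → B ⊗ (A'/A)`. -/
noncomputable def piQ : (B ⊗[A] (integralClosure A (FractionRing A))) →ₗ[B]
    B ⊗[A] ((integralClosure A (FractionRing A)) ⧸
      LinearMap.range (Algebra.linearMap A (integralClosure A (FractionRing A)))) :=
  TensorProduct.AlgebraTensorModule.lTensor B B (Submodule.mkQ _)

theorem piQ_surjective : Function.Surjective (piQ A B) := by
  have := LinearMap.lTensor_surjective B (Submodule.mkQ_surjective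
    (LinearMap.range (Algebra.linearMap A (integralClosure A (FractionRing A)))))
  exact this

theorem ker_piQ : LinearMap.ker (piQ A B) =
    LinearMap.range (Algebra.linearMap B (B ⊗[A] (integralClosure A (FractionRing A)))) := by
  have hex : Function.Exact (Algebra.linearMap A (integralClosure A (FractionRing A)))
      (Submodule.mkQ (LinearMap.range
        (Algebra.linearMap A (integralClosure A (FractionRing A))))) :=
    LinearMap.exact_map_mkQ_range _
  have h := lTensor_exact B hex (Submodule.mkQ_surjective _)
  have h1 : ∀ y : B ⊗[A] A,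
      LinearMap.lTensor B (Algebra.linearMap A (integralClosure A (FractionRing A))) y ∈
        LinearMap.range (Algebra.linearMap B (B ⊗[A] (integralClosure A (FractionRing A)))) := by
    intro y
    induction y using TensorProduct.induction_on with
    | zero => rw [map_zero]; exact Submodule.zero_mem _
    | tmul b a =>
      refine ⟨a • b, ?_⟩
      simp only [Algebra.linearMap_apply, LinearMap.lTensor_tmul,
        Algebra.TensorProduct.algebraMap_apply, Algebra.algebraMap_self, RingHom.id_apply]
      rw [Algebra.algebraMap_eq_smul_one, TensorProduct.tmul_smul, TensorProduct.smul_tmul']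
    | add x y hx hy => rw [map_add]; exact Submodule.add_mem _ hx hy
  ext x
  rw [LinearMap.mem_ker]
  have h' := h x
  change (piQ A B x = 0 ↔ _) at h'
  rw [h']
  constructor
  · rintro ⟨y, rfl⟩
    exact h1 y
  · rintro ⟨b, rfl⟩
    refine ⟨b ⊗ₜ 1, ?_⟩
    simp


theorem length_quotient_maximalIdeal_smul_top [IsLocalRing A] [IsLocalRing B]
    (hmax : (maximalIdeal A).map (algebraMap A B) = maximalIdeal B) :
    Module.length B (B ⧸ ((maximalIdeal A).map (algebraMap A B) • (⊤ : Submodule B B))) = 1 := by
  rw [hmax]
  have h1 : (maximalIdeal B • (⊤ : Submodule B B)) = maximalIdeal B := by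
    rw [smul_eq_mul, Ideal.mul_top]
  rw [h1]
  haveI : IsSimpleModule B (B ⧸ maximalIdeal B) := by
    rw [isSimpleModule_iff_isCoatom]
    exact Ideal.isMaximal_def.mp inferInstance
  exact Module.length_eq_one B _

theorem deltaInv_eq_of_isNormalRing_tensor [IsLocalRing A] [IsLocalRing B]
    [IsLocalHom (algebraMap A B)] [Module.FaithfullyFlat A B]
    (hmax : (maximalIdeal A).map (algebraMap A B) = maximalIdeal B)
    (hC : EGA4.IsNormalRing (B ⊗[A] (integralClosure A (FractionRing A)))) :
    Curv2.deltaInv B = Curv2.deltaInv A := by
  unfold Curv2.deltaInv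
  let e := tensorEquiv A B hC
  have hmap : (LinearMap.range (Algebra.linearMap B
      (B ⊗[A] (integralClosure A (FractionRing A))))).map e.toLinearEquiv.toLinearMap =
      LinearMap.range (Algebra.linearMap B (integralClosure B (FractionRing B))) := by
    rw [← LinearMap.range_comp]
    congr 1
    apply LinearMap.ext
    intro b
    show e (algebraMap B _ b) = algebraMap B _ b
    exact e.commutes b
  have h1 := (Submodule.Quotient.equiv _ _ e.toLinearEquiv hmap).length_eq
  rw [← h1, ← ker_piQ A B]
  have h2 := ((piQ A B).quotKerEquivOfSurjective (piQ_surjective A B)).length_eq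
  rw [h2]
  have h3 := length_quotient_maximalIdeal_smul_top A B hmax
  have h4 := Groth.Agent.S2498.result (A := A) (B := B)
    ((integralClosure A (FractionRing A)) ⧸
      LinearMap.range (Algebra.linearMap A (integralClosure A (FractionRing A)))) B
    (by rw [← Module.length_ne_top_iff, h3]; exact ENat.one_ne_top)
  rw [h4, h3, mul_one]

end
end Groth.Agent.Lib.Helper27.DeltaBC
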