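import Groth.Agent.Lib.Helper27.FunFld10

/-! Function fields of one variable (helper27), part 11: genus zero / genus one / strong
approximation. -/

set_option autoImplicit false

namespace Groth.Agent.Lib.Helper27.FF

open FunFld Polynomial IntermediateField

universe u v

variable {k : Type u} {K : Type v} [Field k] [Field K] [Algebra k K]

theorem mem_L_iff {D : Divisor k K} {x : K} :
    x ∈ L D ↔ ∀ P : Place k K, P.1 x ≤ WithZero.exp (D P) := Iff.rfl

/-- If `ℓ(D₁) < ℓ(D₂)` there is an element of `L(D₂)` not in `L(D₁)`. -/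
theorem exists_mem_L_not_mem_L (hK : IsFunctionField k K) {D₁ D₂ : Divisor k K}
    (h : ell D₁ < ell D₂) : ∃ x : K, x ∈ L D₂ ∧ x ∉ L D₁ := by
  by_contra hcon
  push Not at hcon
  have hle : L D₂ ≤ L D₁ := hcon
  have hfd := finiteDimensional_L hK D₁
  have := Submodule.finrank_mono hle
  unfold ell at h
  omega

/-- In genus zero, each place of degree one is the only pole, simple, of some element. -/
theorem exists_simple_pole_of_genus_zero (hK : IsFunctionField k K) (hg : genus k K = 0)
    {P : Place k K} (hdeg : P.deg = 1) :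
    ∃ x : K, P.ord x = -1 ∧ ∀ Q : Place k K, Q ≠ P → 0 ≤ Q.ord x := by
  have h1 := (core_of hK).ell_eq_of_deg_ge (D := Finsupp.single P 1)
    (by rw [deg_single, hdeg, hg]; norm_num)
  rw [deg_single, hdeg, hg] at h1
  have h2 : ell (Finsupp.single P 1 : Divisor k K) = 2 := by
    have : (ell (Finsupp.single P 1 : Divisor k K) : ℤ) = 2 := by rw [h1]; norm_num
    exact_mod_cast this
  obtain ⟨x, hx1, hx0⟩ := exists_mem_L_not_mem_L hK (D₁ := 0) (D₂ := Finsupp.single P 1)
    (by rw [ell_zero' hK, h2]; norm_num)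
  have hxne : x ≠ 0 := by
    rintro rfl
    exact hx0 (Submodule.zero_mem _)
  have hQ : ∀ Q : Place k K, Q ≠ P → 0 ≤ Q.ord x := by
    intro Q hQ
    have := hx1 Q
    rw [Finsupp.single_eq_of_ne hQ, val_le_exp_iff Q hxne] at this
    linarith
  refine ⟨x, ?_, hQ⟩
  have h3 := hx1 P
  rw [Finsupp.single_eq_same, val_le_exp_iff P hxne] at h3
  have h4 : ¬ (0 ≤ P.ord x) := by
    intro h0
    apply hx0
    intro Q
    rw [Finsupp.zero_apply, val_le_exp_iff Q hxne]
    by_cases hQP : Q = P
    · subst hQP; linarith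
    · have := hQ Q hQP; linarith
  omega

/-- S10996: in positive genus, distinct places of degree one are not linearly equivalent. -/
theorem eq_of_single_sub_single_eq_div (hK : IsFunctionField k K) (hg : 0 < genus k K)
    {P P' : Place k K} (hP : P.deg = 1) {x : K}
    (h : (Finsupp.single P 1 - Finsupp.single P' 1 : Divisor k K) = FunFld.div k x) : P = P' := by
  by_contra hne
  have hdiv : ∀ Q : Place k K,
      Q.ord x = (Finsupp.single P 1 - Finsupp.single P' 1 : Divisor k K) Q := by
    intro Q; rw [h, div_apply' hK]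
  have h1 : P.ord x⁻¹ = -1 := by
    rw [ord_inv, hdiv, Finsupp.sub_apply, Finsupp.single_eq_same, Finsupp.single_eq_of_ne hne]
    norm_num
  have h2 : ∀ Q : Place k K, Q ≠ P → 0 ≤ Q.ord x⁻¹ := by
    intro Q hQ
    rw [ord_inv, hdiv, Finsupp.sub_apply, Finsupp.single_eq_of_ne hQ]
    by_cases hQ' : Q = P'
    · subst hQ'; rw [Finsupp.single_eq_same]; norm_num
    · rw [Finsupp.single_eq_of_ne hQ']; norm_num
  have := genus_eq_zero_of_simple_pole hK hP h1 h2
  omega

theorem div_mul' (hK : IsFunctionField k K) {x y : K} (hx : x ≠ 0) (hy : y ≠ 0) :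
    FunFld.div k (x * y) = FunFld.div k x + FunFld.div k y := (core_of hK).div_mul hx hy

/-- S10999: in genus one with a rational point `P₀`, each class of degree zero is `P - P₀` for a
unique place `P` of degree one. -/
theorem genus_one_class (hK : IsFunctionField k K) (hg : genus k K = 1) (P₀ : Place k K)
    (D : Divisor k K) (hD : D.deg = 0) (hP₀ : P₀.deg = 1) :
    ∃! P : Place k K, P.deg = 1 ∧
      ∃ x : K, x ≠ 0 ∧ D = Finsupp.single P 1 - Finsupp.single P₀ 1 + FunFld.div k x := by
  have hd : (D + Finsupp.single P₀ 1).deg = 1 := by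
    rw [deg_add, deg_single, hD, hP₀]; norm_num
  have h1 := (core_of hK).ell_eq_of_deg_ge (D := D + Finsupp.single P₀ 1)
    (by rw [hd, hg]; norm_num)
  rw [hd, hg] at h1
  have h2 : 0 < ell (D + Finsupp.single P₀ 1) := by
    have : (0 : ℤ) < ell (D + Finsupp.single P₀ 1) := by rw [h1]; norm_num
    exact_mod_cast this
  obtain ⟨x, hx0, hx⟩ := exists_ne_zero_of_ell_pos' h2
  have hE := le_div_of_mem_L' hK hx0 hx
  have hEdeg : (D + Finsupp.single P₀ 1 + FunFld.div k x).deg = 1 := by
    rw [deg_add, hd, deg_div hK]; norm_num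
  obtain ⟨P, hPdeg, hP⟩ := eq_single_of_nonneg_of_deg_eq_one hK hE hEdeg
  refine ⟨P, ⟨hPdeg, x⁻¹, inv_ne_zero hx0, ?_⟩, ?_⟩
  · rw [div_inv' hK, ← hP]; abel
  · rintro P' ⟨hP'deg, y, hy0, hy⟩
    have hy' : D + Finsupp.single P₀ 1 = Finsupp.single P' 1 + FunFld.div k y := by
      rw [hy]; abel
    have hx' : D + Finsupp.single P₀ 1 = Finsupp.single P 1 + FunFld.div k x⁻¹ := by
      rw [div_inv' hK, ← hP]; abel
    have : (Finsupp.single P' 1 - Finsupp.single P 1 : Divisor k K) =
        FunFld.div k (x⁻¹ * y⁻¹) := by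
      rw [div_mul' hK (inv_ne_zero hx0) (inv_ne_zero hy0), div_inv' hK y]
      have := hy'.symm.trans hx'
      rw [← sub_eq_zero] at this ⊢
      rw [← this]; abel
    exact eq_of_single_sub_single_eq_div hK (by rw [hg]; norm_num) hP'deg this

end Groth.Agent.Lib.Helper27.FF
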