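import Groth.Agent.Lib.Helper27.FFExt3

/-! Function fields of one variable (helper27): finite extensions `K'/K`, part 4.
The conorm: degree and principal divisors. -/

set_option autoImplicit false

namespace Groth.Agent.Lib.Helper27.FF

open FunFld Polynomial IntermediateField

universe u v w

variable {k : Type u} {K : Type v} {K' : Type w} [Field k] [Field K] [Field K'] [Algebra k K]
  [Algebra K K'] [Algebra k K'] [IsScalarTower k K K']

open scoped Classical in
/-- the conorm of a single place. -/
noncomputable def conormP (K' : Type w) [Field K'] [Algebra K K'] [Algebra k K']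
    (P : Place k K) : Divisor k K' :=
  if h : {Q : Place k K' | IsOver Q P}.Finite then
    h.toFinset.sum (fun Q => (ramIdx Q P : ℤ) • Finsupp.single Q 1) else 0

theorem conorm_eq (D : Divisor k K) : conorm K' D = D.sum fun P n => n • conormP K' P := by
  classical
  unfold conorm conormP
  rfl

open scoped Classical in
theorem conormP_apply (hK : IsFunctionField k K) [FiniteDimensional K K'] (P : Place k K)
    (Q : Place k K') : conormP K' P Q = if IsOver Q P then (ramIdx Q P : ℤ) else 0 := by
  have hfin := (sum_ramIdx_mul_deg (K' := K') hK P).1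
  unfold conormP
  rw [dif_pos hfin, Finsupp.finsetSum_apply]
  split_ifs with hQ
  · rw [Finset.sum_eq_single Q]
    · simp
    · intro Q₁ _ hne
      rw [Finsupp.smul_apply, Finsupp.single_eq_of_ne (Ne.symm hne), smul_zero]
    · intro hnot
      exact absurd (hfin.mem_toFinset.mpr hQ) hnot
  · apply Finset.sum_eq_zero
    intro Q₁ hQ₁
    have hQ₁' : IsOver Q₁ P := hfin.mem_toFinset.mp hQ₁
    have hne : Q ≠ Q₁ := by
      rintro rfl
      exact hQ hQ₁'
    rw [Finsupp.smul_apply, Finsupp.single_eq_of_ne hne, smul_zero]

theorem deg_conormP (hK : IsFunctionField k K) [FiniteDimensional K K'] (P : Place k K) :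
    (conormP K' P).deg = Module.finrank K K' * P.deg := by
  classical
  obtain ⟨hfin, hsum⟩ := sum_ramIdx_mul_deg (K' := K') hK P
  have h1 := hsum hfin.toFinset (fun Q => hfin.mem_toFinset)
  unfold conormP
  rw [dif_pos hfin, ← Groth.Agent.Lib.Helper23.FF.degHom_apply, map_sum]
  have h2 : ∀ Q ∈ hfin.toFinset, Groth.Agent.Lib.Helper23.FF.degHom
      ((ramIdx Q P : ℤ) • (Finsupp.single Q 1 : Divisor k K')) =
      ((ramIdx Q P * Q.deg : ℕ) : ℤ) := by
    intro Q _
    rw [Groth.Agent.Lib.Helper23.FF.degHom_apply, Groth.Agent.Lib.Helper23.FF.deg_zsmul,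
      deg_single]
    push_cast; ring
  rw [Finset.sum_congr rfl h2, ← Nat.cast_sum, h1]
  push_cast; ring

theorem deg_conorm (hK : IsFunctionField k K) [FiniteDimensional K K'] (D : Divisor k K) :
    (conorm K' D).deg = Module.finrank K K' * D.deg := by
  rw [conorm_eq, ← Groth.Agent.Lib.Helper23.FF.degHom_apply, map_finsuppSum]
  unfold Divisor.deg Finsupp.sum
  rw [Finset.mul_sum]
  apply Finset.sum_congr rfl
  intro P _
  show Groth.Agent.Lib.Helper23.FF.degHom (D P • conormP K' P) = _ * (D P * (P.deg : ℤ))
  rw [Groth.Agent.Lib.Helper23.FF.degHom_apply, Groth.Agent.Lib.Helper23.FF.deg_zsmul,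
    deg_conormP hK]
  ring

theorem conorm_apply (hK : IsFunctionField k K) [FiniteDimensional K K'] (D : Divisor k K)
    {Q : Place k K'} {P : Place k K} (hQP : IsOver Q P) :
    conorm K' D Q = D P * ramIdx Q P := by
  classical
  rw [conorm_eq, Finsupp.sum, Finsupp.finsetSum_apply]
  rw [Finset.sum_eq_single P]
  · rw [Finsupp.smul_apply, conormP_apply hK, if_pos hQP, smul_eq_mul]
  · intro P' _ hne
    rw [Finsupp.smul_apply, conormP_apply hK, if_neg, smul_zero]
    rintro ⟨e', he'⟩
    obtain ⟨e, he⟩ := hQP
    exact hne (isOverWith_unique he' he).1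
  · intro hnot
    rw [Finsupp.notMem_support_iff.mp hnot, zero_smul]
    rfl

/-- the order function of an element of `K` in `K'` has finite support. -/
theorem finite_support_ord_algebraMap (hK : IsFunctionField k K) [FiniteDimensional K K'] (x : K) :
    (Function.support fun Q : Place k K' => Q.ord (algebraMap K K' x)).Finite := by
  classical
  have h1 : (⋃ P ∈ (FunFld.div k x).support, {Q : Place k K' | IsOver Q P}).Finite := by
    apply Set.Finite.biUnion (FunFld.div k x).support.finite_toSet
    intro P _
    exact (sum_ramIdx_mul_deg (K' := K') hK P).1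
  apply h1.subset
  intro Q hQ
  rw [Function.mem_support] at hQ
  obtain ⟨P, e, he⟩ := exists_isOverWith hK Q
  rw [isOverWith_ord_eq he] at hQ
  have hP : P.ord x ≠ 0 := by
    intro h0
    rw [h0, mul_zero] at hQ
    exact hQ rfl
  rw [Set.mem_iUnion₂]
  refine ⟨P, ?_, ⟨e, he⟩⟩
  rw [Finsupp.mem_support_iff, div_apply' hK]
  exact hP

theorem div_algebraMap_apply (hK : IsFunctionField k K) [FiniteDimensional K K'] (x : K)
    (Q : Place k K') : FunFld.div k (algebraMap K K' x) Q = Q.ord (algebraMap K K' x) := by
  unfold FunFld.div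
  rw [dif_pos (finite_support_ord_algebraMap hK x)]
  rfl

/-- the principal divisor of `x ∈ K` in `K'` is the conorm of its principal divisor in `K`. -/
theorem div_algebraMap (hK : IsFunctionField k K) [FiniteDimensional K K'] (x : K) :
    FunFld.div k (algebraMap K K' x) = conorm K' (FunFld.div k x) := by
  ext Q
  obtain ⟨P, e, he⟩ := exists_isOverWith hK Q
  rw [div_algebraMap_apply hK, conorm_apply hK _ ⟨e, he⟩, ramIdx_eq he, div_apply' hK,
    isOverWith_ord_eq he]
  ring

end Groth.Agent.Lib.Helper27.FF
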