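import Mathlib

/-! Unramifiedness from a unit derivative: the local argument.

`K'/K` fields, `w` a discrete valuation on `K'`, `A` the ring of `w`-integers of `K`, `π ∈ K` a
generator of the maximal ideal of `A`. If `u ∈ K'` is a root of a monic `f ∈ A[X]` with `f'(u)` a
`w`-unit, then all values of nonzero elements of `A[u]` are powers of `w π`. -/

set_option autoImplicit false

namespace Groth.Agent.Lib.Helper27.Unr

open Polynomial

variable (K : Type*) {K' : Type*} [Field K] [Field K'] [Algebra K K']
  (w : Valuation K' (WithZero (Multiplicative ℤ)))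

/-- The restriction of `w` to `K`. -/
noncomputable abbrev vK : Valuation K (WithZero (Multiplicative ℤ)) := w.comap (algebraMap K K')

/-- The ring of `w`-integers of `K`. -/
noncomputable abbrev AK : Subring K := (vK K w).integer

/-- The inclusion of the integers of `K` into `K'`. -/
noncomputable def ι : AK K w →+* K' := (algebraMap K K').comp (AK K w).subtype

/-- Evaluation at `u`. -/
noncomputable def ev (u : K') : (AK K w)[X] →+* K' := eval₂RingHom (ι K w) u

theorem w_ι_le (a : AK K w) : w (ι K w a) ≤ 1 := a.2

theorem ev_C (u : K') (a : AK K w) : ev K w u (C a) = ι K w a := by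
  simp [ev]

theorem ev_X (u : K') : ev K w u X = u := by
  simp [ev]

theorem ev_monomial (u : K') (n : ℕ) (a : AK K w) :
    ev K w u (monomial n a) = ι K w a * u ^ n := by
  simp [ev, eval₂_monomial]

variable {K w}

theorem w_ev_le {u : K'} (hu : w u ≤ 1) (G : (AK K w)[X]) : w (ev K w u G) ≤ 1 := by
  induction G using Polynomial.induction_on' with
  | add p q hp hq =>
    rw [map_add]
    exact (w.map_add _ _).trans (max_le hp hq)
  | monomial n a =>
    rw [ev_monomial, map_mul, map_pow]
    exact mul_le_one' (w_ι_le K w a) (pow_le_one' hu n)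

section Main

variable {u : K'} (hu : w u ≤ 1) {π : AK K w} (hπ : w (ι K w π) < 1)
  (hπgen : ∀ a : AK K w, w (ι K w a) < 1 → ∃ b : AK K w, a = π * b)
  {g : (AK K w)[X]} (hg : g.Monic) (hgq : w (ev K w u g) < 1)
  (hgmin : ∀ g' : (AK K w)[X], g'.Monic → w (ev K w u g') < 1 → g.natDegree ≤ g'.natDegree)

include hu hπ hπgen hg hgq hgmin in
/-- Claim A: a polynomial of degree less than the minimal monic one, with non-unit value, is
divisible by `π`. -/
theorem exists_eq_C_mul_of_natDegree_lt (B : (AK K w)[X]) (hdeg : B.natDegree < g.natDegree)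
    (hB : w (ev K w u B) < 1) : ∃ B' : (AK K w)[X], B = C π * B' := by
  induction hn : B.natDegree using Nat.strong_induction_on generalizing B with
  | _ n ih =>
    by_cases hB0 : B = 0
    · exact ⟨0, by rw [hB0, mul_zero]⟩
    set c := B.leadingCoeff with hc
    have hc0 : c ≠ 0 := leadingCoeff_ne_zero.mpr hB0
    have hdecomp := eraseLead_add_monomial_natDegree_leadingCoeff B
    by_cases hcv : w (ι K w c) < 1
    · -- the leading coefficient is divisible by `π`
      obtain ⟨c', hc'⟩ := hπgen c hcv
      have hB1 : w (ev K w u B.eraseLead) < 1 := by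
        have e : ev K w u B.eraseLead = ev K w u B - ι K w c * u ^ B.natDegree := by
          have e2 := congrArg (ev K w u) hdecomp
          rw [map_add, ev_monomial] at e2
          rw [← e2]
          ring
        rw [e]
        refine lt_of_le_of_lt (w.map_sub _ _) (max_lt hB ?_)
        rw [map_mul, map_pow]
        calc w (ι K w c) * w u ^ B.natDegree ≤ w (ι K w c) * 1 :=
              mul_le_mul' le_rfl (pow_le_one' hu _)
          _ = w (ι K w c) := mul_one _
          _ < 1 := hcv
      rcases eraseLead_natDegree_lt_or_eraseLead_eq_zero B with hlt | hzero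
      · obtain ⟨B₁', hB₁'⟩ := ih B.eraseLead.natDegree (by omega) B.eraseLead (by omega) hB1 rfl
        refine ⟨B₁' + monomial B.natDegree c', ?_⟩
        rw [mul_add, ← hB₁', C_mul_monomial, ← hc']
        exact hdecomp.symm
      · refine ⟨monomial B.natDegree c', ?_⟩
        rw [C_mul_monomial, ← hc']
        rw [hzero, zero_add] at hdecomp
        exact hdecomp.symm
    · -- the leading coefficient is a unit: contradiction with minimality
      exfalso
      have hcv1 : w (ι K w c) = 1 := le_antisymm (w_ι_le K w c) (not_lt.mp hcv)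
      have hcK : (c : K) ≠ 0 := fun h => hc0 (Subtype.ext h)
      have hinv : (vK K w) ((c : K)⁻¹) ≤ 1 := by
        show w (algebraMap K K' ((c : K)⁻¹)) ≤ 1
        rw [map_inv₀, map_inv₀]
        have : w (algebraMap K K' (c : K)) = 1 := hcv1
        rw [this, inv_one]
      set cinv : AK K w := ⟨(c : K)⁻¹, hinv⟩ with hcinv
      have hmul : cinv * c = 1 := by
        apply Subtype.ext
        show (c : K)⁻¹ * (c : K) = 1
        exact inv_mul_cancel₀ hcK
      set g' := C cinv * B with hg'
      have hg'monic : g'.Monic := by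
        have hne : cinv * B.leadingCoeff ≠ 0 := by
          rw [← hc, hmul]; exact one_ne_zero
        rw [Monic, hg', leadingCoeff_mul' (by rwa [leadingCoeff_C]), leadingCoeff_C, ← hc, hmul]
      have hg'deg : g'.natDegree ≤ B.natDegree := by
        rw [hg']
        exact (natDegree_C_mul_le _ _)
      have hg'q : w (ev K w u g') < 1 := by
        rw [hg', map_mul, map_mul, ev_C]
        calc w (ι K w cinv) * w (ev K w u B) ≤ 1 * w (ev K w u B) :=
              mul_le_mul' (w_ι_le K w cinv) le_rfl
          _ = w (ev K w u B) := one_mul _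
          _ < 1 := hB
      have := hgmin g' hg'monic hg'q
      omega

end Main

theorem exists_nat_of_le_one {x : K'} (hx0 : x ≠ 0) (hx : w x ≤ 1) :
    ∃ n : ℕ, w x = WithZero.exp (-(n : ℤ)) := by
  have hne : w x ≠ 0 := (Valuation.ne_zero_iff w).mpr hx0
  have h1 : w x = WithZero.exp (WithZero.log (w x)) := (WithZero.exp_log hne).symm
  have h2 : WithZero.log (w x) ≤ 0 := by
    rw [WithZero.log_le_iff_le_exp hne, WithZero.exp_zero]; exact hx
  refine ⟨(-(WithZero.log (w x))).toNat, ?_⟩
  rw [Int.toNat_of_nonneg (by omega), neg_neg]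
  exact h1

section Main2

variable {u : K'} (hu : w u ≤ 1) {π : AK K w} (hπ : w (ι K w π) < 1) (hπ0 : ι K w π ≠ 0)
  (hπgen : ∀ a : AK K w, w (ι K w a) < 1 → ∃ b : AK K w, a = π * b)
  {f : (AK K w)[X]} (hf : f.Monic) (hfu : ev K w u f = 0)
  (hf' : w (ev K w u (derivative f)) = 1)

include hu hπ hπ0 hπgen hf hfu hf' in
/-- All values of nonzero elements of `A[u]` are powers of `w π`. -/
theorem exists_pow_eq (G : (AK K w)[X]) (hG : ev K w u G ≠ 0) :
    ∃ m : ℕ, w (ev K w u G) = w (ι K w π) ^ m := by
  classical
  -- a monic polynomial of minimal degree with non-unit value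
  have hex : ∃ d : ℕ, ∃ g : (AK K w)[X], g.Monic ∧ w (ev K w u g) < 1 ∧ g.natDegree = d :=
    ⟨f.natDegree, f, hf, by rw [hfu, map_zero]; exact zero_lt_one, rfl⟩
  obtain ⟨g, hg, hgq, hgd⟩ := Nat.find_spec hex
  have hgmin : ∀ g' : (AK K w)[X], g'.Monic → w (ev K w u g') < 1 →
      g.natDegree ≤ g'.natDegree := by
    intro g' hg' hg'q
    rw [hgd]
    exact Nat.find_min' hex ⟨g', hg', hg'q, rfl⟩
  have hg1 : g ≠ 1 := by
    intro h1
    rw [h1, map_one, map_one] at hgq
    exact lt_irrefl _ hgq
  have claimA := exists_eq_C_mul_of_natDegree_lt hu hπ hπgen hg hgq hgmin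
  -- division of `f` by `g`
  set r := f %ₘ g with hr
  set h := f /ₘ g with hh
  have hdec : r + g * h = f := modByMonic_add_div f g
  have hrdeg : r.natDegree < g.natDegree := natDegree_modByMonic_lt f hg hg1
  have hevdec : ev K w u r + ev K w u g * ev K w u h = 0 := by
    rw [← map_mul, ← map_add, hdec, hfu]
  have hrq : w (ev K w u r) < 1 := by
    have : ev K w u r = -(ev K w u g * ev K w u h) := eq_neg_of_add_eq_zero_left hevdec
    rw [this, Valuation.map_neg, map_mul]
    calc w (ev K w u g) * w (ev K w u h) ≤ w (ev K w u g) * 1 :=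
          mul_le_mul' le_rfl (w_ev_le hu h)
      _ = w (ev K w u g) := mul_one _
      _ < 1 := hgq
  obtain ⟨r₁, hr₁⟩ := claimA r hrdeg hrq
  -- `h(u)` is a unit
  have hhu : w (ev K w u h) = 1 := by
    refine le_antisymm (w_ev_le hu h) ?_
    by_contra hlt
    rw [not_le] at hlt
    have hder : derivative f = C π * derivative r₁ + (derivative g * h + g * derivative h) := by
      rw [← hdec, derivative_add, derivative_mul, hr₁, derivative_C_mul]
    have hE : ev K w u (derivative f) = ι K w π * ev K w u (derivative r₁) +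
        (ev K w u (derivative g) * ev K w u h + ev K w u g * ev K w u (derivative h)) := by
      rw [hder]
      simp only [map_add, map_mul, ev_C]
    have : w (ev K w u (derivative f)) < 1 := by
      rw [hE]
      refine lt_of_le_of_lt (w.map_add _ _) (max_lt ?_ ?_)
      · rw [map_mul]
        calc w (ι K w π) * w (ev K w u (derivative r₁)) ≤ w (ι K w π) * 1 :=
              mul_le_mul' le_rfl (w_ev_le hu _)
          _ = w (ι K w π) := mul_one _
          _ < 1 := hπ
      · refine lt_of_le_of_lt (w.map_add _ _) (max_lt ?_ ?_)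
        · rw [map_mul]
          calc w (ev K w u (derivative g)) * w (ev K w u h) ≤ 1 * w (ev K w u h) :=
                mul_le_mul' (w_ev_le hu _) le_rfl
            _ = w (ev K w u h) := one_mul _
            _ < 1 := hlt
        · rw [map_mul]
          calc w (ev K w u g) * w (ev K w u (derivative h)) ≤ w (ev K w u g) * 1 :=
                mul_le_mul' le_rfl (w_ev_le hu _)
            _ = w (ev K w u g) := mul_one _
            _ < 1 := hgq
    rw [hf'] at this
    exact lt_irrefl _ this
  -- the value of `π`
  obtain ⟨e, he⟩ := exists_nat_of_le_one hπ0 hπ.le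
  have he1 : 1 ≤ e := by
    by_contra hcon
    have : e = 0 := by omega
    rw [this] at he
    simp only [CharP.cast_eq_zero, neg_zero, WithZero.exp_zero] at he
    rw [he] at hπ
    exact lt_irrefl _ hπ
  -- main induction
  have key : ∀ n : ℕ, ∀ G : (AK K w)[X], ev K w u G ≠ 0 →
      w (ev K w u G) = WithZero.exp (-(n : ℤ)) → ∃ m : ℕ, w (ev K w u G) = w (ι K w π) ^ m := by
    intro n
    induction n using Nat.strong_induction_on with
    | _ n ih =>
      intro G hG hGn
      by_cases hG1 : w (ev K w u G) = 1
      · exact ⟨0, by rw [hG1, pow_zero]⟩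
      have hGq : w (ev K w u G) < 1 := lt_of_le_of_ne (w_ev_le hu G) hG1
      set B := G %ₘ g with hB
      set A₀ := G /ₘ g with hA₀
      have hGdec : B + g * A₀ = G := modByMonic_add_div G g
      have hBdeg : B.natDegree < g.natDegree := natDegree_modByMonic_lt G hg hg1
      have hevG : ev K w u B + ev K w u g * ev K w u A₀ = ev K w u G := by
        rw [← map_mul, ← map_add, hGdec]
      have hBq : w (ev K w u B) < 1 := by
        have : ev K w u B = ev K w u G - ev K w u g * ev K w u A₀ := by
          rw [← hevG]; ring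
        rw [this]
        refine lt_of_le_of_lt (w.map_sub _ _) (max_lt hGq ?_)
        rw [map_mul]
        calc w (ev K w u g) * w (ev K w u A₀) ≤ w (ev K w u g) * 1 :=
              mul_le_mul' le_rfl (w_ev_le hu _)
          _ = w (ev K w u g) := mul_one _
          _ < 1 := hgq
      obtain ⟨B', hB'⟩ := claimA B hBdeg hBq
      set G₁ := B' * h - r₁ * A₀ with hG₁
      have hkey : ev K w u G * ev K w u h = ι K w π * ev K w u G₁ := by
        have e1 : ev K w u B = ι K w π * ev K w u B' := by rw [hB', map_mul, ev_C]
        have e2 : ev K w u r = ι K w π * ev K w u r₁ := by rw [hr₁, map_mul, ev_C]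
        rw [hG₁, map_sub, map_mul, map_mul, ← hevG, e1]
        rw [e2] at hevdec
        linear_combination (ev K w u A₀) * hevdec
      have hwG : w (ev K w u G) = w (ι K w π) * w (ev K w u G₁) := by
        rw [← map_mul, ← hkey, map_mul, hhu, mul_one]
      have hG₁0 : ev K w u G₁ ≠ 0 := by
        intro h0
        rw [h0, map_zero, mul_zero] at hwG
        exact hG ((map_eq_zero w).mp hwG)
      obtain ⟨n₁, hn₁⟩ := exists_nat_of_le_one hG₁0 (w_ev_le hu G₁)
      have hlt : n₁ < n := by
        rw [hGn, he, hn₁, ← WithZero.exp_add, WithZero.exp_inj] at hwG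
        omega
      obtain ⟨m₁, hm₁⟩ := ih n₁ hlt G₁ hG₁0 hn₁
      exact ⟨m₁ + 1, by rw [hwG, hm₁, pow_succ, mul_comm]⟩
  obtain ⟨n, hn⟩ := exists_nat_of_le_one hG (w_ev_le hu G)
  exact key n G hG hn

end Main2

end Groth.Agent.Lib.Helper27.Unr
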