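import Mathlib
import Groth.Agent.Lib.Helper27.Unr1
import Groth.Agent.Lib.Helper27.FFExt4

/-! Finite separable extensions of function fields: almost all places are unramified. -/

set_option autoImplicit false

namespace Groth.Agent.Lib.Helper27.FF

open FunFld Polynomial IntermediateField

universe u v w'

variable {k : Type u} {K : Type v} {K' : Type w'} [Field k] [Field K] [Field K'] [Algebra k K]
  [Algebra K K'] [Algebra k K'] [IsScalarTower k K K']

/-- The value of a polynomial with integral coefficients at an integral point is integral. -/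
theorem val_aeval_le_one' (Q : Place k K') {z : K'} (hz : Q.1 z ≤ 1) (p : K[X])
    (hp : ∀ i, Q.1 (algebraMap K K' (p.coeff i)) ≤ 1) : Q.1 (aeval z p) ≤ 1 := by
  rw [aeval_eq_sum_range]
  apply Valuation.map_sum_le
  intro i _
  rw [Algebra.smul_def, map_mul, map_pow]
  exact mul_le_one' (hp i) (pow_le_one' hz i)

theorem val_le_one_of_ord_eq_zero (Q : Place k K') {x : K'} (h : Q.ord x = 0) : Q.1 x ≤ 1 := by
  by_cases hx : x = 0
  · rw [hx, map_zero]; exact zero_le_one
  · rw [val_eq_exp_neg_ord Q hx, h]; simp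

theorem val_eq_one_of_ord_eq_zero (Q : Place k K') {x : K'} (hx : x ≠ 0) (h : Q.ord x = 0) :
    Q.1 x = 1 := by
  rw [val_eq_exp_neg_ord Q hx, h]; simp

/-- A nonzero element of a finite extension has value `1` at almost all places. -/
theorem finite_val_ne_one (hK : IsFunctionField k K) [FiniteDimensional K K'] (z : K')
    (hz : z ≠ 0) : {Q : Place k K' | Q.1 z ≠ 1}.Finite := by
  classical
  have hint : IsIntegral K z := Algebra.IsIntegral.isIntegral z
  set m := minpoly K z with hm
  have hm0 : m.coeff 0 ≠ 0 := minpoly.coeff_zero_ne_zero hint hz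
  have hbad : (⋃ i ∈ Finset.range (m.natDegree + 1),
      Function.support fun Q : Place k K' => Q.ord (algebraMap K K' (m.coeff i))).Finite := by
    apply Set.Finite.biUnion (Finset.finite_toSet _)
    intro i _
    exact finite_support_ord_algebraMap hK (m.coeff i)
  apply hbad.subset
  intro Q hQ
  by_contra hnot
  apply hQ
  have hcoef : ∀ i, Q.ord (algebraMap K K' (m.coeff i)) = 0 := by
    intro i
    by_cases hi : i ∈ Finset.range (m.natDegree + 1)
    · by_contra hne
      apply hnot
      rw [Set.mem_iUnion₂]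
      exact ⟨i, hi, hne⟩
    · rw [Finset.mem_range, not_lt] at hi
      rw [coeff_eq_zero_of_natDegree_lt (by omega), map_zero]
      unfold Place.ord; simp
  have hcoef1 : ∀ i, Q.1 (algebraMap K K' (m.coeff i)) ≤ 1 :=
    fun i => val_le_one_of_ord_eq_zero Q (hcoef i)
  -- `z` is integral at `Q`
  have hz1 : Q.1 z ≤ 1 := by
    by_contra hlt
    rw [not_le] at hlt
    -- use `1/z`-argument: `z^d = -(lower terms)`
    have hmon : m.Monic := minpoly.monic hint
    have hroot : aeval z m = 0 := minpoly.aeval K z
    have hd : 0 < m.natDegree := minpoly.natDegree_pos hint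
    rw [hmon.as_sum, map_add, map_pow, aeval_X, map_sum] at hroot
    have h1 : Q.1 (∑ i ∈ Finset.range m.natDegree, aeval z (C (m.coeff i) * X ^ i)) <
        Q.1 (z ^ m.natDegree) := by
      apply Valuation.map_sum_lt
      · rw [map_pow]; exact pow_ne_zero _ (ne_of_gt (lt_trans zero_lt_one hlt))
      intro i hi
      rw [map_mul, aeval_C, map_pow, aeval_X, map_mul, map_pow, map_pow]
      have hi' := Finset.mem_range.mp hi
      calc Q.1 (algebraMap K K' (m.coeff i)) * Q.1 z ^ i ≤ 1 * Q.1 z ^ i :=
            mul_le_mul' (hcoef1 i) le_rfl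
        _ = Q.1 z ^ i := one_mul _
        _ < Q.1 z ^ m.natDegree := pow_lt_pow_right₀ hlt hi'
    have h2 := Valuation.map_add_eq_of_lt_left Q.1 h1
    rw [hroot, map_zero, map_pow] at h2
    exact (pow_ne_zero _ (ne_of_gt (lt_trans zero_lt_one hlt))) h2.symm
  -- `z` is a unit at `Q`
  by_contra hne
  have hlt : Q.1 z < 1 := lt_of_le_of_ne hz1 hne
  have hroot : aeval z m = 0 := minpoly.aeval K z
  have hdiv : m = m.divX * X + C (m.coeff 0) := (divX_mul_X_add m).symm
  rw [hdiv, map_add, map_mul, aeval_X, aeval_C] at hroot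
  have hc0 : algebraMap K K' (m.coeff 0) = -(aeval z m.divX * z) := by
    rw [eq_neg_iff_add_eq_zero, add_comm]; exact hroot
  have h3 : Q.1 (algebraMap K K' (m.coeff 0)) < 1 := by
    rw [hc0, Valuation.map_neg, map_mul]
    have h4 : Q.1 (aeval z m.divX) ≤ 1 := by
      apply val_aeval_le_one' Q hz1
      intro i
      rw [coeff_divX]
      exact hcoef1 (i + 1)
    calc Q.1 (aeval z m.divX) * Q.1 z ≤ 1 * Q.1 z := mul_le_mul' h4 le_rfl
      _ = Q.1 z := one_mul _
      _ < 1 := hlt
  have h5 := val_eq_one_of_ord_eq_zero Q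
    ((map_ne_zero_iff _ (algebraMap K K').injective).mpr hm0) (hcoef 0)
  rw [h5] at h3
  exact lt_irrefl _ h3

end Groth.Agent.Lib.Helper27.FF
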