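import Mathlib
import Groth.Agent.Lib.Helper27.Unr2

/-! Finite separable extensions of function fields: almost all places are unramified (main). -/

set_option autoImplicit false

namespace Groth.Agent.Lib.Helper27.FF

open FunFld Polynomial IntermediateField

universe u v w'

variable {k : Type u} {K : Type v} {K' : Type w'} [Field k] [Field K] [Field K'] [Algebra k K]
  [Algebra K K'] [Algebra k K'] [IsScalarTower k K K']

/-- Clearing denominators with powers of an element of small value. -/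
theorem exists_clear_denominators (w : Valuation K' (WithZero (Multiplicative ℤ))) {t : K}
    (ht0 : t ≠ 0) (ht : w (algebraMap K K' t) < 1) (G₀ : K[X]) :
    ∃ (N : ℕ) (G : (Unr.AK K w)[X]), G.map (Unr.AK K w).subtype = C (t ^ N) * G₀ := by
  have htle : ∀ N : ℕ, (Unr.vK K w) (t ^ N) ≤ 1 := by
    intro N
    show w (algebraMap K K' (t ^ N)) ≤ 1
    rw [map_pow, map_pow]
    exact pow_le_one' ht.le N
  induction G₀ using Polynomial.induction_on' with
  | add p q hp hq =>
    obtain ⟨N₁, G₁, h₁⟩ := hp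
    obtain ⟨N₂, G₂, h₂⟩ := hq
    refine ⟨N₁ + N₂, C ⟨t ^ N₂, htle N₂⟩ * G₁ + C ⟨t ^ N₁, htle N₁⟩ * G₂, ?_⟩
    rw [Polynomial.map_add, Polynomial.map_mul, Polynomial.map_mul, Polynomial.map_C,
      Polynomial.map_C, h₁, h₂]
    simp only [Subring.coe_subtype]
    rw [pow_add, C_mul]
    ring
  | monomial n a =>
    by_cases ha : a = 0
    · refine ⟨0, 0, ?_⟩
      rw [ha]; simp
    have hane : w (algebraMap K K' a) ≠ 0 :=
      (Valuation.ne_zero_iff w).mpr ((map_ne_zero_iff _ (algebraMap K K').injective).mpr ha)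
    have htne : w (algebraMap K K' t) ≠ 0 :=
      (Valuation.ne_zero_iff w).mpr ((map_ne_zero_iff _ (algebraMap K K').injective).mpr ht0)
    set m := WithZero.log (w (algebraMap K K' a)) with hm
    set e := WithZero.log (w (algebraMap K K' t)) with he
    have he1 : e ≤ -1 := by
      have : e < 0 := by
        rw [he, ← WithZero.log_one, WithZero.log_lt_log htne one_ne_zero]; exact ht
      omega
    have hval : (Unr.vK K w) (t ^ m.toNat * a) ≤ 1 := by
      show w (algebraMap K K' (t ^ m.toNat * a)) ≤ 1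
      rw [map_mul, map_mul, map_pow, map_pow, ← WithZero.exp_log hane, ← WithZero.exp_log htne,
        ← WithZero.exp_nsmul, ← WithZero.exp_add, ← WithZero.exp_zero, WithZero.exp_le_exp,
        ← hm, ← he]
      have h1 : (m.toNat : ℤ) ≥ m := Int.self_le_toNat m
      have h2 : (0 : ℤ) ≤ m.toNat := Int.natCast_nonneg _
      rw [nsmul_eq_mul]
      nlinarith
    refine ⟨m.toNat, monomial n ⟨t ^ m.toNat * a, hval⟩, ?_⟩
    rw [Polynomial.map_monomial, C_mul_monomial]
    rfl

/-- Almost all places are unramified in a finite separable extension (S11020). -/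
theorem finite_ramified (hK : IsFunctionField k K) [FiniteDimensional K K']
    [Algebra.IsSeparable K K'] :
    {Q : Place k K' | ¬ Function.Surjective (Q.1.comap (algebraMap K K'))}.Finite := by
  classical
  obtain ⟨u, hu⟩ := Field.exists_primitive_element K K'
  have hint : IsIntegral K u := Algebra.IsIntegral.isIntegral u
  set f₀ := minpoly K u with hf₀
  have hsep : f₀.Separable := Algebra.IsSeparable.isSeparable K u
  have hmon : f₀.Monic := minpoly.monic hint
  set z : K' := aeval u (derivative f₀) with hz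
  have hz0 : z ≠ 0 := hsep.aeval_derivative_ne_zero (minpoly.aeval K u)
  have hbad1 : (⋃ i ∈ Finset.range (f₀.natDegree + 1),
      Function.support fun Q : Place k K' => Q.ord (algebraMap K K' (f₀.coeff i))).Finite := by
    apply Set.Finite.biUnion (Finset.finite_toSet _)
    intro i _
    exact finite_support_ord_algebraMap hK (f₀.coeff i)
  have hbad2 := finite_val_ne_one hK z hz0
  apply (hbad1.union hbad2).subset
  intro Q hQ
  by_contra hnot
  apply hQ
  rw [Set.mem_union, not_or] at hnot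
  obtain ⟨hn1, hn2⟩ := hnot
  have hzQ : Q.1 z = 1 := not_not.mp hn2
  have hcoef : ∀ i, Q.ord (algebraMap K K' (f₀.coeff i)) = 0 := by
    intro i
    by_cases hi : i ∈ Finset.range (f₀.natDegree + 1)
    · by_contra hne
      apply hn1
      rw [Set.mem_iUnion₂]
      exact ⟨i, hi, hne⟩
    · rw [Finset.mem_range, not_lt] at hi
      rw [coeff_eq_zero_of_natDegree_lt (by omega), map_zero]
      unfold Place.ord; simp
  have hcoef1 : ∀ i, Q.1 (algebraMap K K' (f₀.coeff i)) ≤ 1 :=
    fun i => val_le_one_of_ord_eq_zero Q (hcoef i)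
  set w := Q.1 with hw
  -- the polynomial over the integers
  have hsub : (↑f₀.coeffs : Set K) ⊆ ↑(Unr.AK K w) := by
    intro c hc
    rw [Finset.mem_coe, mem_coeffs_iff] at hc
    obtain ⟨i, -, rfl⟩ := hc
    exact hcoef1 i
  set f : (Unr.AK K w)[X] := f₀.toSubring (Unr.AK K w) hsub with hf
  have hfmap : f.map (Unr.AK K w).subtype = f₀ := map_toSubring f₀ (Unr.AK K w) hsub
  have hfmon : f.Monic := (monic_toSubring f₀ (Unr.AK K w) hsub).mpr hmon
  have hev : ∀ G : (Unr.AK K w)[X], Unr.ev K w u G = aeval u (G.map (Unr.AK K w).subtype) := by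
    intro G
    rw [aeval_def, eval₂_map]
    rfl
  have hfu : Unr.ev K w u f = 0 := by rw [hev, hfmap]; exact minpoly.aeval K u
  have hf' : w (Unr.ev K w u (derivative f)) = 1 := by
    rw [hev, ← derivative_map, hfmap]; exact hzQ
  have hu1 : w u ≤ 1 := by
    letI : Algebra (Unr.AK K w) K' := (Unr.ι K w).toAlgebra
    apply val_le_one_of_isIntegral (R := Unr.AK K w) w (fun r => Unr.w_ι_le K w r)
    exact ⟨f, hfmon, hfu⟩
  -- the uniformizer
  haveI : Algebra.IsAlgebraic K K' := Algebra.IsAlgebraic.of_finite K K'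
  obtain ⟨P, e, he⟩ := exists_isOverWith hK Q
  have he1 : 1 ≤ e := isOverWith_pos he
  obtain ⟨t, htv, ht0, htlt⟩ := Groth.Agent.Lib.Helper23.FF.exists_uniformizer P
  have hwt : w (algebraMap K K' t) = WithZero.exp (-(e : ℤ)) := by
    rw [hw, he t, htv, ← WithZero.exp_nsmul]; congr 1; simp
  have hwtlt : w (algebraMap K K' t) < 1 := (isOverWith_val_lt_one_iff he t).mpr htlt
  set π : Unr.AK K w := ⟨t, hwtlt.le⟩ with hπdef
  have hπ : w (Unr.ι K w π) < 1 := hwtlt
  have hπ0 : Unr.ι K w π ≠ 0 := (map_ne_zero_iff _ (algebraMap K K').injective).mpr ht0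
  have hπgen : ∀ a : Unr.AK K w, w (Unr.ι K w a) < 1 → ∃ b : Unr.AK K w, a = π * b := by
    intro a ha
    have h1 : P.1 (a : K) < 1 := (isOverWith_val_lt_one_iff he (a : K)).mp ha
    have h2 := Groth.Agent.Lib.Helper23.FF.le_exp_neg_one_of_lt_one h1
    have h3 : P.1 ((a : K) / t) ≤ 1 := by
      rw [map_div₀, htv, div_le_iff₀ WithZero.exp_pos, one_mul]; exact h2
    have h4 : (Unr.vK K w) ((a : K) / t) ≤ 1 := (isOverWith_val_le_one_iff he _).mpr h3
    refine ⟨⟨(a : K) / t, h4⟩, ?_⟩
    apply Subtype.ext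
    show (a : K) = t * ((a : K) / t)
    field_simp
  have hlocal := fun G hG => Unr.exists_pow_eq hu1 hπ hπ0 hπgen hfmon hfu hf' G hG
  -- all values are powers of the value of `t`
  have hall : ∀ z' : K', z' ≠ 0 → ∃ j : ℤ, w z' = WithZero.exp (-(e : ℤ) * j) := by
    intro z' hz'
    have hmem : z' ∈ (⊤ : IntermediateField K K') := IntermediateField.mem_top
    rw [← hu] at hmem
    have hmem' : z' ∈ K⟮u⟯.toSubalgebra := hmem
    rw [IntermediateField.adjoin_simple_toSubalgebra_of_isAlgebraic hint.isAlgebraic,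
      Algebra.adjoin_singleton_eq_range_aeval] at hmem'
    obtain ⟨G₀, hG₀⟩ := hmem'
    obtain ⟨N, G, hG⟩ := exists_clear_denominators w ht0 hwtlt G₀
    have hevG : Unr.ev K w u G = algebraMap K K' (t ^ N) * z' := by
      rw [hev, hG, map_mul, aeval_C]
      congr 1
    have hGne : Unr.ev K w u G ≠ 0 := by
      rw [hevG]
      exact mul_ne_zero ((map_ne_zero_iff _ (algebraMap K K').injective).mpr (pow_ne_zero _ ht0))
        hz'
    obtain ⟨m, hm⟩ := hlocal G hGne
    have hπw : w (Unr.ι K w π) = WithZero.exp (-(e : ℤ)) := hwt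
    rw [hevG, map_mul, map_pow, map_pow, hwt, hπw, ← WithZero.exp_nsmul, ← WithZero.exp_nsmul]
      at hm
    refine ⟨(m : ℤ) - N, ?_⟩
    have hpos : (0 : WithZero (Multiplicative ℤ)) < WithZero.exp (N • -(e : ℤ)) := WithZero.exp_pos
    have : w z' = WithZero.exp (m • -(e : ℤ)) * (WithZero.exp (N • -(e : ℤ)))⁻¹ := by
      rw [← hm, mul_comm, ← mul_assoc, inv_mul_cancel₀ hpos.ne', one_mul]
    rw [this, ← WithZero.exp_neg, ← WithZero.exp_add]
    congr 1
    simp only [nsmul_eq_mul]
    ring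
  -- hence `e = 1`
  obtain ⟨z', hz'⟩ := Q.2.2 (WithZero.exp (-1))
  have hz'0 : z' ≠ 0 := by
    intro h0; rw [h0, map_zero] at hz'; exact WithZero.exp_ne_zero hz'.symm
  obtain ⟨j, hj⟩ := hall z' hz'0
  rw [← hw] at hz'
  rw [hz', WithZero.exp_inj] at hj
  have he_eq : e = 1 := by
    have h1 : (e : ℤ) * j = 1 := by linarith
    have h2 : (e : ℤ) ∣ 1 := Dvd.intro _ h1
    have h3 : (e : ℤ) = 1 := Int.eq_one_of_dvd_one (by omega) h2
    exact_mod_cast h3
  -- surjectivity
  intro γ
  obtain ⟨x, hx⟩ := P.2.2 γ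
  refine ⟨x, ?_⟩
  show Q.1 (algebraMap K K' x) = γ
  rw [he x, he_eq, pow_one, hx]

end Groth.Agent.Lib.Helper27.FF
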