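import Groth.Agent.Lib.Helper27.FunFld22
import Groth.Agent.Lib.Helper23.FFAC2
import Groth.Prelude.Def_W4bk4goldsch23Ext

/-! Function fields of one variable (helper27): finite extensions `K'/K`, part 1.
Places and integrality, change of constant field for places, the place below a place. -/

set_option autoImplicit false

namespace Groth.Agent.Lib.Helper27.FF

open FunFld Polynomial IntermediateField

universe u v w

section Integral

variable {R : Type*} {A : Type*} {Γ : Type*} [CommRing R] [Field A] [Algebra R A]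
  [LinearOrderedCommGroupWithZero Γ]

/-- a valuation that is `≤ 1` on `R` is `≤ 1` on elements integral over `R`. -/
theorem val_le_one_of_isIntegral (v : Valuation A Γ) (hR : ∀ r : R, v (algebraMap R A r) ≤ 1)
    {y : A} (hy : IsIntegral R y) : v y ≤ 1 := by
  obtain ⟨f, hm, hf⟩ := hy
  by_contra hlt
  rw [not_le] at hlt
  by_cases hn : f.natDegree = 0
  · rw [Polynomial.natDegree_eq_zero] at hn
    obtain ⟨c, rfl⟩ := hn
    have hc : c = 1 := by
      have := hm.leadingCoeff
      rwa [Polynomial.leadingCoeff_C] at this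
    rw [hc, Polynomial.eval₂_C, map_one] at hf
    exact one_ne_zero hf
  rw [Polynomial.eval₂_eq_sum_range, Finset.sum_range_succ, hm.coeff_natDegree, map_one, one_mul,
    add_eq_zero_iff_eq_neg] at hf
  have h1 := congrArg v hf
  rw [Valuation.map_neg, map_pow] at h1
  have h2 : v (∑ i ∈ Finset.range f.natDegree, algebraMap R A (f.coeff i) * y ^ i) <
      v y ^ f.natDegree := by
    apply v.map_sum_lt
    · exact pow_ne_zero _ (ne_of_gt (lt_trans zero_lt_one hlt))
    · intro i hi
      rw [Finset.mem_range] at hi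
      rw [map_mul, map_pow]
      exact mul_lt_of_le_one_of_lt (hR _) (pow_lt_pow_right₀ hlt hi)
  rw [h1] at h2
  exact lt_irrefl _ h2

end Integral

section ConstChange

variable {k : Type u} {k' : Type v} {L : Type w} [Field k] [Field k'] [Field L]
  [Algebra k k'] [Algebra k' L] [Algebra k L] [IsScalarTower k k' L]

/-- a place over `k'` is a place over `k`. -/
def Place.down (Q : Place k' L) : Place k L :=
  ⟨Q.1, fun c => by rw [IsScalarTower.algebraMap_apply k k' L]; exact Q.2.1 _, Q.2.2⟩

/-- a place over `k` is a place over an algebraic extension `k'` of `k` inside `L`. -/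
def Place.up [Algebra.IsAlgebraic k k'] (Q : Place k L) : Place k' L :=
  ⟨Q.1, fun c => by
    apply val_le_one_of_isIntegral (R := k) Q.1 Q.2.1
    have : IsIntegral k c := (Algebra.IsAlgebraic.isAlgebraic c).isIntegral
    exact this.map (IsScalarTower.toAlgHom k k' L), Q.2.2⟩

@[simp] theorem Place.down_val (Q : Place k' L) : (Place.down (k := k) Q).1 = Q.1 := rfl

@[simp] theorem Place.up_val [Algebra.IsAlgebraic k k'] (Q : Place k L) :
    (Place.up (k' := k') Q).1 = Q.1 := rfl

theorem Place.up_down [Algebra.IsAlgebraic k k'] (Q : Place k' L) :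
    Place.up (Place.down (k := k) Q) = Q := Subtype.ext rfl

theorem Place.down_up [Algebra.IsAlgebraic k k'] (Q : Place k L) :
    Place.down (Place.up (k' := k') Q) = Q := Subtype.ext rfl

theorem Place.down_injective : Function.Injective (Place.down (k := k) (k' := k') (L := L)) := by
  intro Q Q' h
  apply Subtype.ext
  have := congrArg Subtype.val h
  exact this

theorem Place.down_ord (Q : Place k' L) (x : L) : (Place.down (k := k) Q).ord x = Q.ord x := rfl

theorem finrank_tower_aux {F F' R : Type*} [Field F] [Field F'] [Algebra F F'] [Field R]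
    (a : Algebra F R) (a' : Algebra F' R)
    (h : ∀ c : F, @algebraMap F R _ _ a c = @algebraMap F' R _ _ a' (algebraMap F F' c)) :
    @Module.finrank F R _ _ a.toModule =
      Module.finrank F F' * @Module.finrank F' R _ _ a'.toModule := by
  letI := a
  letI := a'
  haveI : IsScalarTower F F' R := IsScalarTower.of_algebraMap_eq h
  exact (Module.finrank_mul_finrank F F' R).symm

/-- degrees over `k` and over `k'`. -/
theorem Place.deg_down (Q : Place k' L) :
    (Place.down (k := k) Q).deg = Module.finrank k k' * Q.deg := by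
  unfold Place.deg
  refine finrank_tower_aux (R := IsLocalRing.ResidueField Q.O)
    (Place.algRes (Place.down (k := k) Q)) (Place.algRes Q) (fun c => ?_)
  show IsLocalRing.residue Q.O (algebraMap k (Place.down (k := k) Q).O c) =
    IsLocalRing.residue Q.O (algebraMap k' Q.O (algebraMap k k' c))
  congr 1
  apply Subtype.ext
  show algebraMap k L c = algebraMap k' L (algebraMap k k' c)
  exact IsScalarTower.algebraMap_apply k k' L c

end ConstChange

section Below

variable {k : Type u} {K : Type v} {K' : Type w} [Field k] [Field K] [Field K'] [Algebra k K]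
  [Algebra K K'] [Algebra k K'] [IsScalarTower k K K']

theorem isOverWith_pos {Q : Place k K'} {P : Place k K} {e : ℕ} (h : IsOverWith Q P e) :
    1 ≤ e := by
  by_contra he
  have he0 : e = 0 := by omega
  subst he0
  have := h 0
  simp at this

theorem isOverWith_val_lt_one_iff {Q : Place k K'} {P : Place k K} {e : ℕ} (h : IsOverWith Q P e)
    (x : K) : Q.1 (algebraMap K K' x) < 1 ↔ P.1 x < 1 := by
  rw [h x]
  have he := isOverWith_pos h
  constructor
  · intro hlt
    by_contra hge
    rw [not_lt] at hge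
    exact absurd hlt (not_lt.mpr (one_le_pow₀ hge))
  · intro hlt
    exact pow_lt_one₀ zero_le' hlt (by omega)

theorem isOverWith_val_le_one_iff {Q : Place k K'} {P : Place k K} {e : ℕ} (h : IsOverWith Q P e)
    (x : K) : Q.1 (algebraMap K K' x) ≤ 1 ↔ P.1 x ≤ 1 := by
  rw [h x]
  have he := isOverWith_pos h
  constructor
  · intro hle
    by_contra hgt
    rw [not_le] at hgt
    exact absurd hle (not_le.mpr (one_lt_pow₀ hgt (by omega)))
  · intro hle
    exact pow_le_one₀ zero_le' hle

/-- the place below is unique. -/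
theorem isOverWith_unique {Q : Place k K'} {P P' : Place k K} {e e' : ℕ} (h : IsOverWith Q P e)
    (h' : IsOverWith Q P' e') : P = P' ∧ e = e' := by
  have hPP' : P = P' := by
    apply Groth.Agent.Lib.Helper23.FF.place_eq_of_lt_one_imp
    intro x hx
    exact (isOverWith_val_lt_one_iff h' x).mp ((isOverWith_val_lt_one_iff h x).mpr hx)
  subst hPP'
  refine ⟨rfl, ?_⟩
  obtain ⟨t, -, ht⟩ := exists_unif P
  have h1 := h t
  rw [h' t, ht, ← WithZero.exp_nsmul, ← WithZero.exp_nsmul, WithZero.exp_inj] at h1
  simp only [smul_eq_mul, nsmul_eq_mul, mul_neg, mul_one, neg_inj] at h1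
  exact_mod_cast h1.symm

theorem isOverWith_ord_eq {Q : Place k K'} {P : Place k K} {e : ℕ} (h : IsOverWith Q P e)
    (x : K) : Q.ord (algebraMap K K' x) = e * P.ord x := by
  unfold Place.ord
  rw [h x]
  by_cases hx : x = 0
  · subst hx
    rw [map_zero, zero_pow (by have := isOverWith_pos h; omega)]
    simp
  · have : P.1 x ≠ 0 := (Valuation.ne_zero_iff _).mpr hx
    rw [WithZero.log_pow]
    simp

theorem ramIdx_eq {Q : Place k K'} {P : Place k K} {e : ℕ} (h : IsOverWith Q P e) :
    ramIdx Q P = e := by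
  classical
  have hex : IsOver Q P := ⟨e, h⟩
  unfold ramIdx
  rw [dif_pos hex]
  exact (isOverWith_unique (Nat.find_spec hex) h).2

theorem isOverWith_ramIdx {Q : Place k K'} {P : Place k K} (h : IsOver Q P) :
    IsOverWith Q P (ramIdx Q P) := by
  obtain ⟨e, he⟩ := h
  rw [ramIdx_eq he]
  exact he

theorem exists_val_lt_one_of_algebraic [Algebra.IsAlgebraic K K'] (Q : Place k K') :
    ∃ x : K, x ≠ 0 ∧ Q.1 (algebraMap K K' x) < 1 := by
  by_contra hcon
  push Not at hcon
  have hle : ∀ x : K, Q.1 (algebraMap K K' x) ≤ 1 := by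
    intro x
    by_cases hx : x = 0
    · subst hx; simp
    · have h1 := hcon x⁻¹ (inv_ne_zero hx)
      rw [map_inv₀, map_inv₀] at h1
      have hpos : 0 < Q.1 (algebraMap K K' x) := by
        rw [zero_lt_iff, Valuation.ne_zero_iff]
        exact (_root_.map_ne_zero _).mpr hx
      exact (one_le_inv₀ hpos).mp h1
  obtain ⟨y, hy⟩ := Q.2.2 (WithZero.exp (1 : ℤ))
  have hint : IsIntegral K y := (Algebra.IsAlgebraic.isAlgebraic y).isIntegral
  have := val_le_one_of_isIntegral Q.1 hle hint
  rw [hy, ← WithZero.exp_zero, WithZero.exp_le_exp] at this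
  omega

/-- every place of `K'` lies over a place of `K`. -/
theorem exists_isOverWith (hK : IsFunctionField k K) [Algebra.IsAlgebraic K K'] (Q : Place k K') :
    ∃ (P : Place k K) (e : ℕ), IsOverWith Q P e := by
  set w : Valuation K (WithZero (Multiplicative ℤ)) := Q.1.comap (algebraMap K K') with hw
  obtain ⟨x, hx0, hx1⟩ := exists_val_lt_one_of_algebraic (K := K) Q
  have hwx : w x < 1 := hx1
  set B : ValuationSubring K := w.valuationSubring with hB
  have hk : ∀ c : k, algebraMap k K c ∈ B := by
    intro c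
    rw [hB, Valuation.mem_valuationSubring_iff]
    show Q.1 (algebraMap K K' (algebraMap k K c)) ≤ 1
    rw [← IsScalarTower.algebraMap_apply]
    exact Q.2.1 c
  have hequiv : w.IsEquiv B.valuation := Valuation.isEquiv_valuation_valuationSubring w
  have hBx : B.valuation x < 1 := (Valuation.isEquiv_iff_val_lt_one.mp hequiv).mp hwx
  obtain ⟨P, hP⟩ := exists_place_of_valuationSubring hK B hk hx0 hBx
  have hP' : ∀ y : K, P.1 y ≤ 1 ↔ w y ≤ 1 := by
    intro y
    rw [hP y, hB, Valuation.mem_valuationSubring_iff]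
  -- units
  have hunit : ∀ u : K, P.1 u = 1 → w u = 1 := by
    intro u hu
    have hu0 : u ≠ 0 := by
      rintro rfl
      rw [map_zero] at hu
      exact zero_ne_one hu
    have h1 : w u ≤ 1 := (hP' u).mp hu.le
    have h2 : w u⁻¹ ≤ 1 := (hP' u⁻¹).mp (by rw [map_inv₀, hu, inv_one])
    rw [map_inv₀] at h2
    have hpos : 0 < w u := by
      rw [zero_lt_iff, Valuation.ne_zero_iff]; exact hu0
    exact le_antisymm h1 ((inv_le_one₀ hpos).mp h2)
  obtain ⟨t, ht0, ht⟩ := exists_unif P
  -- value of the uniformizer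
  have hwt0 : w t ≠ 0 := (Valuation.ne_zero_iff _).mpr ht0
  obtain ⟨m, hm⟩ : ∃ m : ℤ, w t = WithZero.exp m :=
    ⟨WithZero.log (w t), (WithZero.exp_log hwt0).symm⟩
  have hwt1 : w t < 1 := by
    by_contra hge
    rw [not_lt] at hge
    have h1 : w t⁻¹ ≤ 1 := by
      rw [map_inv₀]
      exact inv_le_one_of_one_le₀ hge
    have h2 := (hP' t⁻¹).mpr h1
    rw [map_inv₀, ht, ← WithZero.exp_neg, ← WithZero.exp_zero, WithZero.exp_le_exp] at h2
    omega
  have hmneg : m < 0 := by
    rw [hm, ← WithZero.exp_zero, WithZero.exp_lt_exp] at hwt1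
    exact hwt1
  obtain ⟨e, he⟩ : ∃ e : ℕ, (e : ℤ) = -m := ⟨(-m).toNat, Int.toNat_of_nonneg (by omega)⟩
  have he1 : 1 ≤ e := by omega
  refine ⟨P, e, fun y => ?_⟩
  show w y = P.1 y ^ e
  by_cases hy : y = 0
  · subst hy
    rw [map_zero, map_zero, zero_pow (by omega)]
  set n : ℤ := P.ord y with hn
  have hPy : P.1 y = WithZero.exp (-n) := val_eq_exp_neg_ord P hy
  -- u = y * t^(-n) is a unit
  have hu : P.1 (y * t ^ (-n)) = 1 := by
    rw [map_mul, map_zpow₀, hPy, ht, ← WithZero.exp_zsmul, ← WithZero.exp_add]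
    rw [← WithZero.exp_zero]
    congr 1
    simp
  have hwu := hunit _ hu
  rw [map_mul, map_zpow₀, hm, ← WithZero.exp_zsmul] at hwu
  have hwy : w y = WithZero.exp (-(-n • m)) := by
    have hne : (WithZero.exp (-n • m) : WithZero (Multiplicative ℤ)) ≠ 0 := WithZero.exp_ne_zero
    rw [WithZero.exp_neg]
    exact eq_inv_of_mul_eq_one_left hwu
  rw [hwy, hPy, ← WithZero.exp_nsmul]
  congr 1
  simp only [smul_eq_mul, nsmul_eq_mul]
  rw [he]
  ring

end Below

end Groth.Agent.Lib.Helper27.FF
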