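import Mathlib
import Groth.Agent.Lib.Helper27.HD11

/-! Hasse families, part 12: orders at a place; jumps of the local Hasse matrix correspond to
orders of functions in the span. -/

set_option autoImplicit false

namespace Groth.Agent.Lib.Helper27.HD

open FunFld PowerSeries IntermediateField

universe u v
variable {k : Type u} {K : Type v} [Field k] [Field K] [Algebra k K]

section Local

variable [IsAlgClosed k] (hK : IsFunctionField k K) (P : Place k K) {t : K}
  (ht : P.1 t = WithZero.exp (-1))

theorem exp_coeff_smul (c : k) (z : K) (j : ℤ) :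
    (exp hK P ht (c • z)).coeff j = c * (exp hK P ht z).coeff j := by
  rw [Algebra.smul_def, map_mul, AlgHom.commutes, LocRes.algebraMap_eq_C,
    HahnSeries.C_mul_eq_smul, HahnSeries.coeff_smul, smul_eq_mul]

/-- Characterization of the order at `P` by the expansion. -/
theorem val_eq_exp_iff {z : K} (hz : P.1 z ≤ 1) (m : ℕ) :
    P.1 z = WithZero.exp (-(m : ℤ)) ↔
      (∀ j : ℕ, j < m → (exp hK P ht z).coeff (j : ℤ) = 0) ∧
        (exp hK P ht z).coeff (m : ℤ) ≠ 0 := by
  have hE := isExpansionAt_exp hK P ht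
  have h1 : Valued.v (exp hK P ht z) ≤ 1 := by rw [hE.1]; exact hz
  obtain ⟨f, hf⟩ := (LaurentSeries.val_le_one_iff_eq_coe k _).mp h1
  have hcoef : ∀ j : ℕ, (exp hK P ht z).coeff (j : ℤ) = coeff j f := by
    intro j
    rw [← hf, PowerSeries.coeff_coe, if_neg (by omega), Int.natAbs_natCast]
  constructor
  · intro hval
    have hv : Valued.v (exp hK P ht z) = WithZero.exp (-(m : ℤ)) := by rw [hE.1, hval]
    have h2 := (LaurentSeries.valuation_le_iff_coeff_lt_eq_zero k).mp hv.le
    refine ⟨fun j hj => h2 j (by omega), ?_⟩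
    intro h0
    have h3 : Valued.v (exp hK P ht z) ≤ WithZero.exp (-((m : ℤ) + 1)) := by
      rw [LaurentSeries.valuation_le_iff_coeff_lt_eq_zero]
      intro i hi
      rcases lt_or_eq_of_le (show i ≤ (m : ℤ) by omega) with h | h
      · exact h2 i h
      · rw [h]; exact h0
    rw [hv, WithZero.exp_le_exp] at h3
    omega
  · rintro ⟨h0, hm⟩
    rw [← hE.1, ← hf]
    apply val_coe_eq f m
    · intro i hi
      rw [← hcoef]; exact h0 i hi
    · rw [← hcoef]; exact hm

variable {Ht : K →ₐ[k] PowerSeries K} (hHt : LocRes.IsHasseFamily t Ht)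
  {n : ℕ} (φ : Fin (n + 1) → K) (hnorm : ∀ i, P.1 (φ i) ≤ 1)

/-- The matrix of Taylor coefficients of the `φ i` at `P`. -/
noncomputable def tay (hK : IsFunctionField k K) (P : Place k K) {t : K}
    (ht : P.1 t = WithZero.exp (-1)) {n : ℕ} (φ : Fin (n + 1) → K) (i : Fin (n + 1)) (j : ℕ) : k :=
  (exp hK P ht (φ i)).coeff (j : ℤ)

theorem coeff_comb (x : Fin (n + 1) → k) (j : ℕ) :
    (exp hK P ht (∑ i, x i • φ i)).coeff (j : ℤ) = ∑ i, x i * tay hK P ht φ i j := by
  rw [map_sum, HahnSeries.coeff_sum]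
  apply Finset.sum_congr rfl
  intro i _
  rw [exp_coeff_smul]; rfl

include hnorm in
theorem val_comb_le_one (x : Fin (n + 1) → k) : P.1 (∑ i, x i • φ i) ≤ 1 := by
  apply P.1.map_sum_le
  intro i _
  rw [Algebra.smul_def, map_mul]
  exact mul_le_one' (P.2.1 _) (hnorm i)

/-- The coefficient vectors in the residue field. -/
noncomputable def tayCol (hK : IsFunctionField k K) (P : Place k K) {t : K}
    (ht : P.1 t = WithZero.exp (-1)) {n : ℕ} (φ : Fin (n + 1) → K) (m : ℕ) :
    Fin (n + 1) → IsLocalRing.ResidueField P.O :=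
  fun i => algebraMap k (IsLocalRing.ResidueField P.O) (tay hK P ht φ i m)

include hnorm in
theorem hcolAt_zero : hcolAt P Ht φ 0 = tayCol hK P ht φ 0 := by
  funext i
  show evalP P (φ i) = _
  rw [evalP_eq_exp hK P ht (hnorm i)]; rfl

include hnorm hHt in
theorem hcolAt_succ (j : ℕ) : hcolAt P Ht φ (j + 1) = tayCol hK P ht φ j := by
  funext i
  show evalP P (LocRes.hasseD Ht j (φ i)) = _
  rw [evalP_hasseD hK P ht hHt (hnorm i) j]; rfl

theorem pairing (x : Fin (n + 1) → k) (m : ℕ) :
    ∑ i, algebraMap k (IsLocalRing.ResidueField P.O) (x i) * tayCol hK P ht φ m i =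
      algebraMap k (IsLocalRing.ResidueField P.O)
        ((exp hK P ht (∑ i, x i • φ i)).coeff (m : ℤ)) := by
  rw [coeff_comb, map_sum]
  apply Finset.sum_congr rfl
  intro i _
  rw [map_mul]; rfl

include hnorm hHt in
theorem image_Iio_succ {j : ℕ} (hj : 1 ≤ j) :
    hcolAt P Ht φ '' Set.Iio (j + 1) = tayCol hK P ht φ '' Set.Iio j := by
  ext w
  constructor
  · rintro ⟨m, hm, rfl⟩
    rw [Set.mem_Iio] at hm
    cases m with
    | zero => exact ⟨0, by rw [Set.mem_Iio]; omega, (hcolAt_zero hK P ht φ hnorm).symm⟩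
    | succ m' =>
      exact ⟨m', by rw [Set.mem_Iio]; omega, (hcolAt_succ hK P ht hHt φ hnorm m').symm⟩
  · rintro ⟨m, hm, rfl⟩
    rw [Set.mem_Iio] at hm
    exact ⟨m + 1, by rw [Set.mem_Iio]; omega, hcolAt_succ hK P ht hHt φ hnorm m⟩

include hK ht hnorm hHt in
theorem not_isJump_one : ¬ IsJump (IsLocalRing.ResidueField P.O) (hcolAt P Ht φ) 1 := by
  unfold IsJump
  rw [not_not]
  apply Submodule.subset_span
  refine ⟨0, by rw [Set.mem_Iio]; omega, ?_⟩
  rw [hcolAt_zero hK P ht φ hnorm, hcolAt_succ hK P ht hHt φ hnorm 0]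

include hK ht hnorm hHt in
/-- A column beyond the first two is a jump iff its index is the order of a function in the
span. -/
theorem isJump_succ_iff {j : ℕ} (hj : 1 ≤ j) :
    IsJump (IsLocalRing.ResidueField P.O) (hcolAt P Ht φ) (j + 1) ↔
      ∃ x : Fin (n + 1) → k, P.1 (∑ i, x i • φ i) = WithZero.exp (-(j : ℤ)) := by
  classical
  have hP1 := Groth.Agent.Lib.Helper23.FF.deg_eq_one hK P
  have hsurj := surjective_algebraMap_residue P hP1
  have hinj : Function.Injective (algebraMap k (IsLocalRing.ResidueField P.O)) :=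
    (algebraMap k (IsLocalRing.ResidueField P.O)).injective
  unfold IsJump
  rw [image_Iio_succ hK P ht hHt φ hnorm hj, hcolAt_succ hK P ht hHt φ hnorm j]
  constructor
  · intro hjump
    obtain ⟨f, hf, hker⟩ := Submodule.exists_dual_map_eq_bot_of_notMem hjump inferInstance
    choose x hx using fun i => hsurj (f (fun j' => if i = j' then 1 else 0))
    have hfx : ∀ w : Fin (n + 1) → IsLocalRing.ResidueField P.O,
        f w = ∑ i, algebraMap k (IsLocalRing.ResidueField P.O) (x i) * w i := by
      intro w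
      rw [LinearMap.pi_apply_eq_sum_univ f w]
      apply Finset.sum_congr rfl
      intro i _
      rw [hx i, smul_eq_mul, mul_comm]
    have hvan : ∀ m, m < j → f (tayCol hK P ht φ m) = 0 := by
      intro m hm
      have h1 : f (tayCol hK P ht φ m) ∈ Submodule.map f
          (Submodule.span (IsLocalRing.ResidueField P.O) (tayCol hK P ht φ '' Set.Iio j)) :=
        Submodule.mem_map_of_mem (Submodule.subset_span ⟨m, hm, rfl⟩)
      rw [hker] at h1
      exact (Submodule.mem_bot _).mp h1
    refine ⟨x, ?_⟩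
    rw [val_eq_exp_iff hK P ht (val_comb_le_one P φ hnorm x) j]
    constructor
    · intro m hm
      have h1 := hvan m hm
      rw [hfx, pairing] at h1
      exact hinj (h1.trans (map_zero _).symm)
    · intro h0
      apply hf
      rw [hfx, pairing, h0, map_zero]
  · rintro ⟨x, hx⟩ hmem
    rw [val_eq_exp_iff hK P ht (val_comb_le_one P φ hnorm x) j] at hx
    obtain ⟨h0, hm⟩ := hx
    let F : (Fin (n + 1) → IsLocalRing.ResidueField P.O) →ₗ[IsLocalRing.ResidueField P.O]
        IsLocalRing.ResidueField P.O :=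
      ∑ i, (algebraMap k (IsLocalRing.ResidueField P.O) (x i)) • LinearMap.proj i
    have hF : ∀ w, F w = ∑ i, algebraMap k (IsLocalRing.ResidueField P.O) (x i) * w i := by
      intro w; simp [F]
    have hle : Submodule.span (IsLocalRing.ResidueField P.O) (tayCol hK P ht φ '' Set.Iio j) ≤
        LinearMap.ker F := by
      rw [Submodule.span_le]
      rintro _ ⟨m, hm', rfl⟩
      rw [SetLike.mem_coe, LinearMap.mem_ker, hF, pairing, h0 m hm', map_zero]
    have h1 := hle hmem
    rw [LinearMap.mem_ker, hF, pairing] at h1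
    exact hm (hinj (h1.trans (map_zero _).symm))

end Local

end Groth.Agent.Lib.Helper27.HD
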