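import Mathlib
import Groth.Agent.Lib.Helper27.HD12
import Groth.Agent.Lib.Helper23.FFOrd

/-! Hasse families, part 13: orders at a place and the adapted basis. -/

set_option autoImplicit false

namespace Groth.Agent.Lib.Helper27.HD

open FunFld PowerSeries IntermediateField

universe u v
variable {k : Type u} {K : Type v} [Field k] [Field K] [Algebra k K]

section Local

variable [IsAlgClosed k] (hK : IsFunctionField k K) (P : Place k K) {t : K}
  (ht : P.1 t = WithZero.exp (-1))

theorem coeff_zero_div_pow (z : K) (m : ℕ) :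
    (exp hK P ht (z / t ^ m)).coeff 0 = (exp hK P ht z).coeff (m : ℤ) := by
  have ht0 : t ≠ 0 := Expand.t_ne_zero ht
  have h1 : z = z / t ^ m * t ^ m := by field_simp
  conv_rhs => rw [h1, map_mul, map_pow, exp_t, HahnSeries.single_pow, one_pow]
  have := HahnSeries.coeff_mul_single_add (r := (1 : k)) (x := exp hK P ht (z / t ^ m))
    (a := (0 : ℤ)) (b := m • (1 : ℤ))
  rw [zero_add, mul_one] at this
  rw [← this]
  congr 1
  simp

theorem evalP_one : evalP P (1 : K) = 1 := by
  unfold evalP
  rw [dif_pos (by rw [map_one])]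
  exact map_one _

variable {Ht : K →ₐ[k] PowerSeries K} (hHt : LocRes.IsHasseFamily t Ht)
  {n : ℕ} (φ : Fin (n + 1) → K) (hφ : LinearIndependent k φ)
  (heff : (1 : K) ∈ Submodule.span k (Set.range φ)) (hnorm : ∀ i, P.1 (φ i) ≤ 1)
  {J' : Fin n → ℕ} (hJ' : IsOrders (IsLocalRing.ResidueField P.O) (hcolAt P Ht φ) J')

include hK ht hHt hnorm hJ' in
theorem one_le_orders (l : Fin n) : 1 ≤ J' l := by
  by_contra hlt
  have h0 : J' l = 0 := by omega
  have := (hJ'.2 (J' l)).mp ⟨l, rfl⟩
  rw [h0] at this
  exact not_isJump_one hK P ht hHt φ hnorm this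

include hK ht hHt hnorm hJ' heff in
/-- The orders at `P` are the orders of the functions in the span. -/
theorem mem_orders_iff (j : ℕ) :
    (j = 0 ∨ j ∈ Set.range J') ↔
      ∃ f ∈ Submodule.span k (Set.range φ), P.1 f = WithZero.exp (-(j : ℤ)) := by
  constructor
  · rintro (rfl | ⟨l, rfl⟩)
    · exact ⟨1, heff, by simp⟩
    · have hjump := (hJ'.2 (J' l)).mp ⟨l, rfl⟩
      obtain ⟨x, hx⟩ := (isJump_succ_iff hK P ht hHt φ hnorm
        (one_le_orders hK P ht hHt φ hnorm hJ' l)).mp hjump
      exact ⟨_, Submodule.sum_mem _ fun i _ => Submodule.smul_mem _ _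
        (Submodule.subset_span ⟨i, rfl⟩), hx⟩
  · rintro ⟨f, hf, hval⟩
    rcases Nat.eq_zero_or_pos j with h0 | hpos
    · exact Or.inl h0
    · right
      obtain ⟨x, rfl⟩ := (Submodule.mem_span_range_iff_exists_fun k).mp hf
      exact (hJ'.2 j).mpr ((isJump_succ_iff hK P ht hHt φ hnorm hpos).mpr ⟨x, hval⟩)

include hK ht hHt hnorm hJ' heff hφ in
/-- The adapted basis at `P`. -/
theorem exists_adapted_basis :
    ∃ φ' : Fin (n + 1) → K,
      Submodule.span k (Set.range φ') = Submodule.span k (Set.range φ) ∧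
      P.1 (φ' 0) = 1 ∧ evalP P (φ' 0) = 1 ∧
      ∀ l : Fin n, P.1 (φ' l.succ) = WithZero.exp (-(J' l : ℤ)) ∧
        evalP P (φ' l.succ / t ^ J' l) = 1 := by
  classical
  have hex : ∀ l : Fin n, ∃ x : Fin (n + 1) → k,
      P.1 (∑ i, x i • φ i) = WithZero.exp (-(J' l : ℤ)) := by
    intro l
    exact (isJump_succ_iff hK P ht hHt φ hnorm (one_le_orders hK P ht hHt φ hnorm hJ' l)).mp
      ((hJ'.2 (J' l)).mp ⟨l, rfl⟩)
  choose x hx using hex
  set f : Fin n → K := fun l => ∑ i, x l i • φ i with hf
  have hfV : ∀ l, f l ∈ Submodule.span k (Set.range φ) := fun l =>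
    Submodule.sum_mem _ fun i _ => Submodule.smul_mem _ _ (Submodule.subset_span ⟨i, rfl⟩)
  have hf1 : ∀ l, P.1 (f l) ≤ 1 := fun l => val_comb_le_one P φ hnorm (x l)
  set b : Fin n → k := fun l => (exp hK P ht (f l)).coeff (J' l : ℤ) with hb
  have hb0 : ∀ l, b l ≠ 0 := fun l =>
    ((val_eq_exp_iff hK P ht (hf1 l) (J' l)).mp (hx l)).2
  set φ' : Fin (n + 1) → K :=
    fun i => Fin.cases (motive := fun _ => K) 1 (fun l => (b l)⁻¹ • f l) i with hφ'
  have hval : ∀ l : Fin n, P.1 (φ' l.succ) = WithZero.exp (-(J' l : ℤ)) := by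
    intro l
    show P.1 ((b l)⁻¹ • f l) = _
    rw [Groth.Agent.Lib.Helper23.FF.val_smul_of_ne_zero P (inv_ne_zero (hb0 l)), hx l]
  have hne : ∀ i, φ' i ≠ 0 := by
    intro i
    induction i using Fin.cases with
    | zero => exact one_ne_zero
    | succ l =>
      intro h0
      have := hval l
      rw [h0, map_zero] at this
      exact WithZero.exp_ne_zero this.symm
  have hord : ∀ l : Fin n, P.ord (φ' l.succ) = J' l := fun l =>
    (FF.ord_eq_iff P (hne l.succ) _).mpr (hval l)
  have hord0 : P.ord (φ' 0) = 0 := by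
    show P.ord (1 : K) = 0
    exact FF.ord_one P
  refine ⟨φ', ?_, by show P.1 (1 : K) = 1; simp, evalP_one P, fun l => ⟨hval l, ?_⟩⟩
  · haveI : FiniteDimensional k (Submodule.span k (Set.range φ)) :=
      FiniteDimensional.span_of_finite k (Set.finite_range φ)
    apply Groth.Agent.Lib.Helper23.FF.span_eq_of_li_of_card
    · intro i
      induction i using Fin.cases with
      | zero => exact heff
      | succ l => exact Submodule.smul_mem _ _ (hfV l)
    · apply Groth.Agent.Lib.Helper23.FF.li_of_ord_injective P φ' hne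
      intro a c hac
      simp only at hac
      induction a using Fin.cases with
      | zero =>
        induction c using Fin.cases with
        | zero => rfl
        | succ c =>
          rw [hord0, hord c] at hac
          have := one_le_orders hK P ht hHt φ hnorm hJ' c
          omega
      | succ a =>
        induction c using Fin.cases with
        | zero =>
          rw [hord0, hord a] at hac
          have := one_le_orders hK P ht hHt φ hnorm hJ' a
          omega
        | succ c =>
          rw [hord a, hord c] at hac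
          have : J' a = J' c := by exact_mod_cast hac
          rw [hJ'.1.injective this]
    · rw [finrank_span_eq_card hφ]
  · have hz1 : P.1 (φ' l.succ / t ^ J' l) ≤ 1 := by
      rw [map_div₀, hval l, map_pow, ht, ← WithZero.exp_nsmul]
      simp
    rw [evalP_eq_exp hK P ht hz1, coeff_zero_div_pow]
    show algebraMap k _ ((exp hK P ht ((b l)⁻¹ • f l)).coeff (J' l : ℤ)) = 1
    rw [exp_coeff_smul, inv_mul_cancel₀ (hb0 l), map_one]

end Local

end Groth.Agent.Lib.Helper27.HD
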