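import Mathlib
import Groth.Agent.Lib.Helper27.HD13

/-! Hasse families, part 14: algebra of values at a place; fixed points of endomorphisms. -/

set_option autoImplicit false

namespace Groth.Agent.Lib.Helper27.HD

open FunFld PowerSeries IntermediateField

universe u v
variable {k : Type u} {K : Type v} [Field k] [Field K] [Algebra k K]

section EvalP

variable (P : Place k K)

theorem evalP_one' : evalP P (1 : K) = 1 := by
  unfold evalP
  rw [dif_pos (by rw [map_one])]
  exact map_one _

theorem evalP_of_le {z : K} (hz : P.1 z ≤ 1) :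
    evalP P z = IsLocalRing.residue P.O ⟨z, (Valuation.mem_valuationSubring_iff P.1 z).mpr hz⟩ := by
  unfold evalP
  rw [dif_pos hz]

theorem evalP_coe (z : P.O) : evalP P (z : K) = IsLocalRing.residue P.O z := by
  rw [evalP_of_le P ((Valuation.mem_valuationSubring_iff P.1 _).mp z.2)]

theorem evalP_mul {x y : K} (hx : P.1 x ≤ 1) (hy : P.1 y ≤ 1) :
    evalP P (x * y) = evalP P x * evalP P y := by
  have hxy : P.1 (x * y) ≤ 1 := by rw [map_mul]; exact mul_le_one' hx hy
  rw [evalP_of_le P hx, evalP_of_le P hy, evalP_of_le P hxy, ← map_mul]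
  rfl

theorem evalP_add {x y : K} (hx : P.1 x ≤ 1) (hy : P.1 y ≤ 1) :
    evalP P (x + y) = evalP P x + evalP P y := by
  have hxy : P.1 (x + y) ≤ 1 := (P.1.map_add _ _).trans (max_le hx hy)
  rw [evalP_of_le P hx, evalP_of_le P hy, evalP_of_le P hxy, ← map_add]
  rfl

theorem evalP_pow {x : K} (hx : P.1 x ≤ 1) (m : ℕ) : evalP P (x ^ m) = evalP P x ^ m := by
  induction m with
  | zero => rw [pow_zero, pow_zero]; exact evalP_one' P
  | succ m ih =>
    rw [pow_succ, pow_succ, evalP_mul P (by rw [map_pow]; exact pow_le_one' hx m) hx, ih]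

theorem evalP_algebraMap (c : k) :
    evalP P (algebraMap k K c) = algebraMap k (IsLocalRing.ResidueField P.O) c := by
  rw [evalP_of_le P (P.2.1 c)]
  rfl

theorem evalP_eq_zero_iff {z : K} (hz : P.1 z ≤ 1) : evalP P z = 0 ↔ P.1 z < 1 := by
  rw [evalP_of_le P hz, Groth.Agent.Lib.Helper23.FF.residue_eq_zero_iff]

/-- Determinants of matrices with entries in the valuation ring. -/
theorem evalP_det {m : ℕ} (N : Matrix (Fin m) (Fin m) K) (hN : ∀ r s, P.1 (N r s) ≤ 1) :
    P.1 N.det ≤ 1 ∧ evalP P N.det = (Matrix.of fun r s => evalP P (N r s)).det := by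
  set N' : Matrix (Fin m) (Fin m) P.O :=
    Matrix.of fun r s => ⟨N r s, (Valuation.mem_valuationSubring_iff P.1 _).mpr (hN r s)⟩ with hN'
  have h1 : N = N'.map (algebraMap P.O K) := by
    ext r s; rfl
  have h2 : N.det = ((N'.det : P.O) : K) := by
    have := RingHom.map_det (algebraMap P.O K) N'
    rw [h1]
    exact this.symm
  refine ⟨by rw [h2]; exact (Valuation.mem_valuationSubring_iff P.1 _).mp N'.det.2, ?_⟩
  rw [h2, evalP_coe, RingHom.map_det]
  congr 1
  ext r s
  rw [Matrix.of_apply, evalP_of_le P (hN r s)]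
  rfl

end EvalP

section Fixed

variable [IsAlgClosed k] (hK : IsFunctionField k K) (P : Place k K) (τ : K →ₐ[k] K)
  (hP : IsFixedPt τ P)

include hK hP

theorem val_tau_le_one {w : K} (hw : P.1 w ≤ 1) : P.1 (τ w) ≤ 1 := by
  have hP1 := Groth.Agent.Lib.Helper23.FF.deg_eq_one hK P
  obtain ⟨c, hc⟩ := Groth.Agent.Lib.Helper23.FF.exists_const_val_sub_lt_one P hP1 hw
  have h1 := hP _ hc
  rw [map_sub, AlgHom.commutes] at h1
  have : τ w = (τ w - algebraMap k K c) + algebraMap k K c := by ring
  rw [this]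
  exact (P.1.map_add _ _).trans (max_le h1.le (P.2.1 c))

theorem evalP_tau {w : K} (hw : P.1 w ≤ 1) : evalP P (τ w) = evalP P w := by
  have hP1 := Groth.Agent.Lib.Helper23.FF.deg_eq_one hK P
  obtain ⟨c, hc⟩ := Groth.Agent.Lib.Helper23.FF.exists_const_val_sub_lt_one P hP1 hw
  have h1 := hP _ hc
  rw [map_sub, AlgHom.commutes] at h1
  have hτw := val_tau_le_one hK P τ hP hw
  have e1 : evalP P (τ w - algebraMap k K c) = 0 :=
    (evalP_eq_zero_iff P ((Valuation.map_sub _ _ _).trans (max_le hτw (P.2.1 c)))).mpr h1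
  have e2 : evalP P (w - algebraMap k K c) = 0 :=
    (evalP_eq_zero_iff P ((Valuation.map_sub _ _ _).trans (max_le hw (P.2.1 c)))).mpr hc
  have a1 : τ w = (τ w - algebraMap k K c) + algebraMap k K c := by ring
  have a2 : w = (w - algebraMap k K c) + algebraMap k K c := by ring
  rw [a1, evalP_add P ((Valuation.map_sub _ _ _).trans (max_le hτw (P.2.1 c))) (P.2.1 c), e1]
  conv_rhs => rw [a2, evalP_add P ((Valuation.map_sub _ _ _).trans (max_le hw (P.2.1 c)))
    (P.2.1 c), e2]

end Fixed

end Groth.Agent.Lib.Helper27.HD
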