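import Mathlib
import Groth.Prelude.Def_W4bk4goldsch23FF
import Groth.Prelude.Def_LocRes
import Groth.Agent.Lib.Helper27.Geo2

/-! Laurent expansions: valuations of derivatives, chain rule. -/

namespace Groth.Agent.Lib.Helper27.LR
open FunFld LaurentSeries HahnSeries WithZero

universe u v w

section Laurent
variable {F : Type w} [Field F]

theorem val_le_exp_iff {f : F⸨X⸩} {m : ℤ} :
    Valued.v f ≤ exp (-m) ↔ ∀ n : ℤ, n < m → f.coeff n = 0 :=
  LaurentSeries.valuation_le_iff_coeff_lt_eq_zero F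

theorem val_eq_exp_iff {f : F⸨X⸩} {m : ℤ} :
    Valued.v f = exp (-m) ↔ (∀ n : ℤ, n < m → f.coeff n = 0) ∧ f.coeff m ≠ 0 := by
  constructor
  · intro h
    refine ⟨val_le_exp_iff.mp h.le, fun h0 => ?_⟩
    have : Valued.v f ≤ exp (-(m + 1)) := by
      rw [val_le_exp_iff]
      intro n hn
      rcases (Int.lt_add_one_iff.mp hn).lt_or_eq with h1 | h1
      · exact val_le_exp_iff.mp h.le n h1
      · rw [h1]; exact h0
    rw [h, exp_le_exp] at this
    omega
  · rintro ⟨h1, h2⟩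
    refine le_antisymm (val_le_exp_iff.mpr h1) ?_
    by_contra hlt
    rw [not_le] at hlt
    have hne : Valued.v f ≠ 0 := by
      intro h0
      rw [map_eq_zero] at h0
      rw [h0] at h2
      exact h2 rfl
    obtain ⟨j, hj⟩ : ∃ j : ℤ, Valued.v f = exp (-j) := by
      refine ⟨-(log (Valued.v f)), ?_⟩
      rw [neg_neg, exp_log hne]
    rw [hj, exp_lt_exp] at hlt
    have := val_le_exp_iff.mp hj.le m (by omega)
    exact h2 this

theorem coeff_D (f : F⸨X⸩) (n : ℤ) : (LocRes.D F f).coeff n = (n + 1) • f.coeff (n + 1) :=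
  LocRes.D_coeff F f n

/-- the derivative of a series of order `≥ m` has order `≥ m - 1`. -/
theorem val_D_le {f : F⸨X⸩} {m : ℤ} (h : Valued.v f ≤ exp (-m)) :
    Valued.v (LocRes.D F f) ≤ exp (-(m - 1)) := by
  rw [val_le_exp_iff] at h ⊢
  intro n hn
  rw [coeff_D, h (n + 1) (by omega), smul_zero]

/-- the derivative of a power series is a power series. -/
theorem val_D_le_one {f : F⸨X⸩} (h : Valued.v f ≤ 1) : Valued.v (LocRes.D F f) ≤ 1 := by
  rw [← exp_zero, ← neg_zero, val_le_exp_iff] at h ⊢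
  intro n hn
  rw [coeff_D]
  rcases (Int.lt_iff_add_one_le.mp hn).lt_or_eq with h1 | h1
  · rw [h (n + 1) h1, smul_zero]
  · rw [h1, zero_smul]

/-- the derivative of a series of order exactly `m`, `m ≠ 0` in `F`, has order exactly `m - 1`. -/
theorem val_D_eq {f : F⸨X⸩} {m : ℤ} (h : Valued.v f = exp (-m)) (hm : (m : F) ≠ 0) :
    Valued.v (LocRes.D F f) = exp (-(m - 1)) := by
  rw [val_eq_exp_iff] at h ⊢
  refine ⟨fun n hn => ?_, ?_⟩
  · rw [coeff_D, h.1 (n + 1) (by omega), smul_zero]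
  · rw [coeff_D, sub_add_cancel, zsmul_eq_mul]
    exact mul_ne_zero hm h.2

/-- the derivative of a series of order `m`, `m = 0` in `F`, has order `≥ m`. -/
theorem val_D_le_of_eq_zero {f : F⸨X⸩} {m : ℤ} (h : Valued.v f ≤ exp (-m)) (hm : (m : F) = 0) :
    Valued.v (LocRes.D F f) ≤ exp (-m) := by
  rw [val_le_exp_iff] at h ⊢
  intro n hn
  rw [coeff_D]
  rcases (Int.lt_iff_add_one_le.mp hn).lt_or_eq with h1 | h1
  · rw [h (n + 1) h1, smul_zero]
  · rw [h1, zsmul_eq_mul, hm, zero_mul]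

theorem res_eq_zero_of_val_le_one {f : F⸨X⸩} (h : Valued.v f ≤ 1) : LocRes.res F f = 0 := by
  rw [← exp_zero, ← neg_zero, val_le_exp_iff] at h
  exact h (-1) (by norm_num)

end Laurent

end Groth.Agent.Lib.Helper27.LR
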