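import Mathlib
import Groth.Prelude.Def_W4bk4goldsch23FF
import Groth.Prelude.Def_W4bk4goldsch23Ext
import Groth.Prelude.Def_LocRes
import Groth.Agent.Lib.Helper27.LR1
import Groth.Agent.Lib.Helper27.Geo2

/-! Laurent expansions: chain rule through `Ω_{K/k}` (one-dimensional), different exponents. -/

namespace Groth.Agent.Lib.Helper27.LR
open FunFld LaurentSeries HahnSeries WithZero

universe u v w

section Chain
variable {k : Type u} {K : Type v} {F : Type w} [Field k] [Field K] [Field F] [Algebra k K]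
  [Algebra k F]

theorem finrank_kaehler (hK : IsFunctionField k K) (hg : IsGeometric k K) :
    Module.finrank K (Ω[K⁄k]) = 1 := by
  obtain ⟨x₀, hx₀, hsep⟩ := Geo.exists_separating hK hg
  exact (Geo.kaehler_aux x₀ hx₀).1

theorem exists_smul_D' (h1 : Module.finrank K (Ω[K⁄k]) = 1) {x : K}
    (hx : KaehlerDifferential.D k K x ≠ 0) (z : K) :
    ∃ g : K, KaehlerDifferential.D k K z = g • KaehlerDifferential.D k K x := by
  obtain ⟨g, hg⟩ := (finrank_eq_one_iff_of_nonzero' _ hx).mp h1 (KaehlerDifferential.D k K z)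
  exact ⟨g, hg.symm⟩

theorem exists_smul_D (hK : IsFunctionField k K) (hg : IsGeometric k K) {x : K}
    (hx : KaehlerDifferential.D k K x ≠ 0) (z : K) :
    ∃ g : K, KaehlerDifferential.D k K z = g • KaehlerDifferential.D k K x :=
  exists_smul_D' (finrank_kaehler hK hg) hx z

theorem D_map_of_smul (φ : K →ₐ[k] F⸨X⸩) {x z g : K}
    (h : KaehlerDifferential.D k K z = g • KaehlerDifferential.D k K x) :
    LocRes.D F (φ z) = φ g * LocRes.D F (φ x) := by
  let _i := φ.toRingHom.toAlgebra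
  have _t : IsScalarTower k K F⸨X⸩ := LocRes.isScalarTower_exp φ
  have h1 := congrArg (LocRes.dExp φ).liftKaehlerDifferential h
  rw [map_smul, Derivation.liftKaehlerDifferential_comp_D,
    Derivation.liftKaehlerDifferential_comp_D] at h1
  exact h1

theorem D_ne_zero_of_map (φ : K →ₐ[k] F⸨X⸩) {x : K} (h : LocRes.D F (φ x) ≠ 0) :
    KaehlerDifferential.D k K x ≠ 0 := by
  intro h0
  have h1 : KaehlerDifferential.D k K x = (0 : K) • KaehlerDifferential.D k K x := by
    rw [zero_smul, h0]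
  have := D_map_of_smul φ h1
  rw [map_zero, zero_mul] at this
  exact h this

theorem vDiff_one (φ : K →ₐ[k] F⸨X⸩) (x : K) :
    LocRes.vDiff φ 1 x = Valued.v (LocRes.D F (φ x)) := by
  unfold LocRes.vDiff
  rw [map_one, one_mul]

theorem ordDiff_one (φ : K →ₐ[k] F⸨X⸩) (x : K) :
    LocRes.ordDiff φ 1 x = -log (Valued.v (LocRes.D F (φ x))) := by
  unfold LocRes.ordDiff
  rw [vDiff_one]

theorem ordDiff_of_smul (φ : K →ₐ[k] F⸨X⸩) {x z g : K}
    (h : KaehlerDifferential.D k K z = g • KaehlerDifferential.D k K x)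
    (hz : LocRes.vDiff φ 1 z ≠ 0) :
    LocRes.ordDiff φ 1 z = -log (Valued.v (φ g)) + LocRes.ordDiff φ 1 x := by
  rw [vDiff_one] at hz
  rw [ordDiff_one, ordDiff_one, D_map_of_smul φ h, map_mul]
  rw [D_map_of_smul φ h, map_mul] at hz
  have h1 : Valued.v (φ g) ≠ 0 := left_ne_zero_of_mul hz
  have h2 : Valued.v (LocRes.D F (φ x)) ≠ 0 := right_ne_zero_of_mul hz
  rw [log_mul h1 h2]
  ring

end Chain

end Groth.Agent.Lib.Helper27.LR
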