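import Mathlib

/-! Tate's residues, part 1: the trace of a finite-rank endomorphism of an arbitrary vector
space. -/

set_option autoImplicit false

namespace Groth.Agent.Lib.Helper27.Tate

open LinearMap

universe u v w
variable {k : Type u} [Field k] {V : Type v} [AddCommGroup V] [Module k V]

/-- Finite rank. -/
def FinRank {V' : Type*} [AddCommGroup V'] [Module k V'] (T : V →ₗ[k] V') : Prop :=
  FiniteDimensional k (LinearMap.range T)

/-- The trace of a finite-rank endomorphism (junk value for infinite rank). -/
noncomputable def frTr (T : Module.End k V) : k :=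
  LinearMap.trace k (LinearMap.range T)
    (T.restrict (p := LinearMap.range T) (q := LinearMap.range T) (fun x _ => ⟨x, rfl⟩))

/-- The trace through any factorization over a finite-dimensional space. -/
theorem frTr_eq_of_factor {W : Type*} [AddCommGroup W] [Module k W] [FiniteDimensional k W]
    (a : V →ₗ[k] W) (b : W →ₗ[k] V) : frTr (b ∘ₗ a) = LinearMap.trace k W (a ∘ₗ b) := by
  set T : Module.End k V := b ∘ₗ a with hT
  -- step 1: restrict to `W° = range a`
  set W0 : Submodule k W := LinearMap.range a with hW0
  have h1 : ∀ x, (a ∘ₗ b) x ∈ W0 := fun x => ⟨b x, rfl⟩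
  have e1 := LinearMap.trace_restrict_eq_of_forall_mem W0 (a ∘ₗ b) h1
  rw [← e1]
  -- step 2: swap through `R = range T`
  haveI : FiniteDimensional k (LinearMap.range T) := by
    have : LinearMap.range T ≤ LinearMap.range b := by
      rw [hT]; exact LinearMap.range_comp_le_range a b
    exact Submodule.finiteDimensional_of_le this
  let f : W0 →ₗ[k] LinearMap.range T :=
    (b.domRestrict W0).codRestrict (LinearMap.range T) (by
      rintro ⟨_, ⟨v, rfl⟩⟩
      exact ⟨v, rfl⟩)
  let g : LinearMap.range T →ₗ[k] W0 :=
    (a.domRestrict (LinearMap.range T)).codRestrict W0 (fun x => ⟨x.1, rfl⟩)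
  have e2 := LinearMap.trace_comp_comm' f g
  have h3 : g ∘ₗ f = (a ∘ₗ b).restrict (fun x _ => h1 x) := by
    apply LinearMap.ext
    intro x
    apply Subtype.ext
    rfl
  have h4 : f ∘ₗ g = T.restrict (p := LinearMap.range T) (q := LinearMap.range T)
      (fun x _ => ⟨x, rfl⟩) := by
    apply LinearMap.ext
    intro x
    apply Subtype.ext
    rfl
  rw [h3, h4] at e2
  unfold frTr
  exact e2.symm

theorem FinRank.of_le {T : Module.End k V} {W : Submodule k V} [FiniteDimensional k W]
    (h : LinearMap.range T ≤ W) : FinRank T :=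
  Submodule.finiteDimensional_of_le h

/-- The trace computed on any finite-dimensional subspace containing the range. -/
theorem frTr_eq_of_le (T : Module.End k V) (W : Submodule k V) [FiniteDimensional k W]
    (h : LinearMap.range T ≤ W) :
    frTr T = LinearMap.trace k W (T.restrict (p := W) (q := W) (fun x _ => h ⟨x, rfl⟩)) := by
  have hfac : T = W.subtype ∘ₗ (T.codRestrict W (fun x => h ⟨x, rfl⟩)) := by
    apply LinearMap.ext; intro x; rfl
  conv_lhs => rw [hfac]
  rw [frTr_eq_of_factor]
  congr 1

theorem FinRank.add {S T : Module.End k V} (hS : FinRank S) (hT : FinRank T) : FinRank (S + T) := by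
  unfold FinRank at *
  have : LinearMap.range (S + T) ≤ LinearMap.range S ⊔ LinearMap.range T := by
    rintro _ ⟨x, rfl⟩
    exact Submodule.add_mem_sup ⟨x, rfl⟩ ⟨x, rfl⟩
  exact Submodule.finiteDimensional_of_le this

theorem frTr_add {S T : Module.End k V} (hS : FinRank S) (hT : FinRank T) :
    frTr (S + T) = frTr S + frTr T := by
  unfold FinRank at hS hT
  set W := LinearMap.range S ⊔ LinearMap.range T with hW
  have hSW : LinearMap.range S ≤ W := le_sup_left
  have hTW : LinearMap.range T ≤ W := le_sup_right
  have hSTW : LinearMap.range (S + T) ≤ W := by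
    rintro _ ⟨x, rfl⟩
    exact Submodule.add_mem_sup ⟨x, rfl⟩ ⟨x, rfl⟩
  rw [frTr_eq_of_le (S + T) W hSTW, frTr_eq_of_le S W hSW, frTr_eq_of_le T W hTW, ← map_add]
  congr 1

theorem FinRank.zero : FinRank (0 : Module.End k V) := by
  unfold FinRank
  rw [LinearMap.range_zero]
  infer_instance

theorem frTr_zero : frTr (0 : Module.End k V) = 0 := by
  have : (0 : Module.End k V) = (0 : (PUnit : Type) →ₗ[k] V) ∘ₗ (0 : V →ₗ[k] (PUnit : Type)) := by
    simp
  rw [this, frTr_eq_of_factor]
  simp

theorem FinRank.neg {T : Module.End k V} (hT : FinRank T) : FinRank (-T) := by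
  unfold FinRank at *
  have : LinearMap.range (-T) ≤ LinearMap.range T := by
    rintro _ ⟨x, rfl⟩
    exact ⟨-x, by simp⟩
  exact Submodule.finiteDimensional_of_le this

theorem frTr_neg {T : Module.End k V} (hT : FinRank T) : frTr (-T) = -frTr T := by
  have h := frTr_add hT hT.neg
  rw [add_neg_cancel, frTr_zero] at h
  exact eq_neg_of_add_eq_zero_right h.symm

theorem FinRank.sub {S T : Module.End k V} (hS : FinRank S) (hT : FinRank T) : FinRank (S - T) := by
  rw [sub_eq_add_neg]; exact hS.add hT.neg

theorem frTr_sub {S T : Module.End k V} (hS : FinRank S) (hT : FinRank T) :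
    frTr (S - T) = frTr S - frTr T := by
  rw [sub_eq_add_neg, frTr_add hS hT.neg, frTr_neg hT, sub_eq_add_neg]

theorem FinRank.mul_left {S : Module.End k V} (hS : FinRank S) (T : Module.End k V) :
    FinRank (T * S) := by
  unfold FinRank at *
  have : LinearMap.range (T * S) = (LinearMap.range S).map T := LinearMap.range_comp S T
  rw [this]
  infer_instance

theorem FinRank.mul_right {S : Module.End k V} (hS : FinRank S) (T : Module.End k V) :
    FinRank (S * T) := by
  unfold FinRank at *
  have : LinearMap.range (S * T) ≤ LinearMap.range S := LinearMap.range_comp_le_range T S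
  exact Submodule.finiteDimensional_of_le this

/-- Cyclicity with one finite-rank factor. -/
theorem frTr_mul_comm {S : Module.End k V} (hS : FinRank S) (T : Module.End k V) :
    frTr (S * T) = frTr (T * S) := by
  unfold FinRank at hS
  set W := LinearMap.range S
  set a : V →ₗ[k] W := S.codRestrict W (fun x => ⟨x, rfl⟩) with ha
  have hS' : S = W.subtype ∘ₗ a := by apply LinearMap.ext; intro x; rfl
  have h1 : S * T = W.subtype ∘ₗ (a ∘ₗ T) := by
    conv_lhs => rw [hS']
    rfl
  have h2 : T * S = (T ∘ₗ W.subtype) ∘ₗ a := by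
    conv_lhs => rw [hS']
    rfl
  rw [h1, h2, frTr_eq_of_factor, frTr_eq_of_factor]
  rfl

/-- A finite-rank operator of square zero has trace zero. -/
theorem frTr_eq_zero_of_sq {T : Module.End k V} (hT : FinRank T) (h2 : T * T = 0) :
    frTr T = 0 := by
  unfold FinRank at hT
  rw [frTr_eq_of_le T (LinearMap.range T) le_rfl]
  set T' := T.restrict (p := LinearMap.range T) (q := LinearMap.range T) (fun x _ => ⟨x, rfl⟩)
  have hnil : IsNilpotent T' := by
    refine ⟨2, ?_⟩
    apply LinearMap.ext
    intro x
    apply Subtype.ext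
    rw [pow_two]
    show T (T x.1) = 0
    have := LinearMap.congr_fun h2 x.1
    exact this
  have := LinearMap.isNilpotent_trace_of_isNilpotent hnil
  exact this.eq_zero

theorem FinRank.smul {T : Module.End k V} (hT : FinRank T) (c : k) : FinRank (c • T) := by
  unfold FinRank at *
  have : LinearMap.range (c • T) ≤ LinearMap.range T := by
    rintro _ ⟨x, rfl⟩
    exact ⟨c • x, by simp⟩
  exact Submodule.finiteDimensional_of_le this

theorem frTr_smul {T : Module.End k V} (hT : FinRank T) (c : k) : frTr (c • T) = c * frTr T := by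
  unfold FinRank at hT
  have h : LinearMap.range (c • T) ≤ LinearMap.range T := by
    rintro _ ⟨x, rfl⟩
    exact ⟨c • x, by simp⟩
  rw [frTr_eq_of_le (c • T) (LinearMap.range T) h, frTr_eq_of_le T (LinearMap.range T) le_rfl,
    ← smul_eq_mul, ← map_smul]
  congr 1

end Groth.Agent.Lib.Helper27.Tate
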