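import Mathlib
import Groth.Agent.Lib.Helper27.Tate1

/-! Tate's residues, part 2: traces of commutators modulo finite-rank operators; the abstract
residue of a pair of commuting operators relative to an idempotent. -/

set_option autoImplicit false

namespace Groth.Agent.Lib.Helper27.Tate

open LinearMap

universe u v
variable {k : Type u} [Field k] {V : Type v} [AddCommGroup V] [Module k V]

/-- The commutator with a finite-rank operator has trace zero. -/
theorem frTr_comm_eq_zero {α : Module.End k V} (hα : FinRank α) (a : Module.End k V) :
    FinRank (a * α - α * a) ∧ frTr (a * α - α * a) = 0 := by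
  refine ⟨(hα.mul_left a).sub (hα.mul_right a), ?_⟩
  rw [frTr_sub (hα.mul_left a) (hα.mul_right a), frTr_mul_comm hα a, sub_self]

/-- Perturbation invariance of the trace of a commutator. -/
theorem frTr_comm_pert {a b a' b' : Module.End k V} (hα : FinRank (a' - a)) (hβ : FinRank (b' - b))
    (hab : FinRank (a * b - b * a)) :
    FinRank (a' * b' - b' * a') ∧ frTr (a' * b' - b' * a') = frTr (a * b - b * a) := by
  set α := a' - a with hαd
  set β := b' - b with hβd
  have ha' : a' = a + α := by rw [hαd]; abel
  have hb' : b' = b + β := by rw [hβd]; abel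
  have hdecomp : a' * b' - b' * a' =
      (a * b - b * a) + ((a * β - β * a) + (-(b * α - α * b) + -(β * α - α * β))) := by
    rw [ha', hb']; noncomm_ring
  obtain ⟨h1, e1⟩ := frTr_comm_eq_zero hβ a
  obtain ⟨h2, e2⟩ := frTr_comm_eq_zero hα b
  obtain ⟨h3, e3⟩ := frTr_comm_eq_zero hα β
  have h23 : FinRank (-(b * α - α * b) + -(β * α - α * β)) := h2.neg.add h3.neg
  have h123 := h1.add h23
  rw [hdecomp]
  refine ⟨hab.add h123, ?_⟩
  rw [frTr_add hab h123, frTr_add h1 h23, frTr_add h2.neg h3.neg, frTr_neg h2, frTr_neg h3,
    e1, e2, e3]
  ring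

/-- Conjugation invariance. -/
theorem frTr_conj {T S S' : Module.End k V} (hT : FinRank T) (h1 : S * S' = 1) :
    FinRank (S' * T * S) ∧ frTr (S' * T * S) = frTr T := by
  refine ⟨(hT.mul_left S').mul_right S, ?_⟩
  have : S' * T * S = S' * (T * S) := by noncomm_ring
  rw [this, ← frTr_mul_comm (hT.mul_right S) S']
  have : T * S * S' = T := by rw [mul_assoc, h1, mul_one]
  rw [this]

/-- The abstract residue relative to the idempotent `p`: the trace of the commutator of the
compressions. -/
noncomputable def cres (p f g : Module.End k V) : k :=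
  frTr (p * f * p * (p * g * p) - p * g * p * (p * f * p))

/-- The commutator of the compressions in terms of the Hankel operators. -/
theorem comm_eq_hankel {p f g : Module.End k V} (hp : p * p = p) (hfg : f * g = g * f) :
    p * f * p * (p * g * p) - p * g * p * (p * f * p) =
      p * g * ((1 - p) * f * p) - p * f * ((1 - p) * g * p) := by
  have e1 : p * f * p * (p * g * p) = p * f * (p * p) * g * p := by noncomm_ring
  have e2 : p * g * p * (p * f * p) = p * g * (p * p) * f * p := by noncomm_ring
  have e3 : p * g * ((1 - p) * f * p) = p * (g * f) * p - p * g * p * f * p := by noncomm_ring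
  have e4 : p * f * ((1 - p) * g * p) = p * (f * g) * p - p * f * p * g * p := by noncomm_ring
  rw [e1, e2, e3, e4, hp, hfg]
  noncomm_ring

theorem finRank_comm {p f g : Module.End k V} (hp : p * p = p) (hfg : f * g = g * f)
    (hf : FinRank ((1 - p) * f * p)) (hg : FinRank ((1 - p) * g * p)) :
    FinRank (p * f * p * (p * g * p) - p * g * p * (p * f * p)) := by
  rw [comm_eq_hankel hp hfg]
  exact (hf.mul_left _).sub (hg.mul_left _)

/-- If the range of `p` is stable under `f` and `g` the residue vanishes. -/
theorem cres_eq_zero_of_stable {p f g : Module.End k V} (hp : p * p = p) (hfg : f * g = g * f)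
    (hf : (1 - p) * f * p = 0) (hg : (1 - p) * g * p = 0) : cres p f g = 0 := by
  unfold cres
  rw [comm_eq_hankel hp hfg, hf, hg, mul_zero, mul_zero, sub_zero, frTr_zero]

/-- If the kernel of `c` is stable under the commuting operators `f`, `g`, the compressions
commute. -/
theorem comm_eq_zero_of_ker_stable {c f g : Module.End k V} (hfg : f * g = g * f)
    (hf : c * f * (1 - c) = 0) (hg : c * g * (1 - c) = 0) :
    c * f * c * (c * g * c) - c * g * c * (c * f * c) = 0 := by
  have hf' : c * f * c = c * f := by
    have : c * f * c = c * f - c * f * (1 - c) := by noncomm_ring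
    rw [this, hf, sub_zero]
  have hg' : c * g * c = c * g := by
    have : c * g * c = c * g - c * g * (1 - c) := by noncomm_ring
    rw [this, hg, sub_zero]
  have e1 : c * f * c * (c * g * c) = c * (f * g) := by
    rw [hf', hg']
    have : c * f * (c * g) = (c * f * c) * g := by noncomm_ring
    rw [this, hf']
    noncomm_ring
  have e2 : c * g * c * (c * f * c) = c * (g * f) := by
    rw [hf', hg']
    have : c * g * (c * f) = (c * g * c) * f := by noncomm_ring
    rw [this, hg']
    noncomm_ring
  rw [e1, e2, hfg, sub_self]

end Groth.Agent.Lib.Helper27.Tate
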