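import Mathlib
import Groth.Agent.Lib.Helper27.Tate2

/-! Tate's residues, part 3: additivity, the Leibniz rule, change of the idempotent, and the
abstract "residue theorem": vanishing of the residue when a complementary-up-to-finite subspace
is stable. -/

set_option autoImplicit false

namespace Groth.Agent.Lib.Helper27.Tate

open LinearMap

universe u v
variable {k : Type u} [Field k] {V : Type v} [AddCommGroup V] [Module k V]

/-- `f` nearly stabilises the range of `p`: the Hankel operator `(1-p) f p` has finite rank. -/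
def Adm (p f : Module.End k V) : Prop := FinRank ((1 - p) * f * p)

theorem Adm.add {p f g : Module.End k V} (hf : Adm p f) (hg : Adm p g) : Adm p (f + g) := by
  unfold Adm at *
  have : (1 - p) * (f + g) * p = (1 - p) * f * p + (1 - p) * g * p := by noncomm_ring
  rw [this]; exact FinRank.add hf hg

theorem Adm.mul {p f g : Module.End k V} (hf : Adm p f) (hg : Adm p g) : Adm p (f * g) := by
  unfold Adm at *
  have : (1 - p) * (f * g) * p = ((1 - p) * f * p) * (g * p) + (1 - p) * f * ((1 - p) * g * p) := by
    noncomm_ring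
  rw [this]; exact FinRank.add (hf.mul_right _) (hg.mul_left _)

theorem Adm.of_stable {p f : Module.End k V} (h : (1 - p) * f * p = 0) : Adm p f := by
  unfold Adm; rw [h]; exact FinRank.zero

theorem Adm.one {p : Module.End k V} (hp : p * p = p) : Adm p 1 := by
  apply Adm.of_stable
  have : (1 - p) * 1 * p = p - p * p := by noncomm_ring
  rw [this, hp, sub_self]

theorem cres_add_right {p f g₁ g₂ : Module.End k V} (hp : p * p = p) (h1 : f * g₁ = g₁ * f)
    (h2 : f * g₂ = g₂ * f) (hf : Adm p f) (hg₁ : Adm p g₁) (hg₂ : Adm p g₂) :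
    cres p f (g₁ + g₂) = cres p f g₁ + cres p f g₂ := by
  unfold cres
  have e : p * f * p * (p * (g₁ + g₂) * p) - p * (g₁ + g₂) * p * (p * f * p) =
      (p * f * p * (p * g₁ * p) - p * g₁ * p * (p * f * p)) +
      (p * f * p * (p * g₂ * p) - p * g₂ * p * (p * f * p)) := by noncomm_ring
  rw [e, frTr_add (finRank_comm hp h1 hf hg₁) (finRank_comm hp h2 hf hg₂)]

theorem cres_swap {p f g : Module.End k V} (hp : p * p = p) (h1 : f * g = g * f)
    (hf : Adm p f) (hg : Adm p g) : cres p f g = - cres p g f := by
  unfold cres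
  have e : p * f * p * (p * g * p) - p * g * p * (p * f * p) =
      -(p * g * p * (p * f * p) - p * f * p * (p * g * p)) := by noncomm_ring
  rw [e, frTr_neg (finRank_comm hp h1.symm hg hf)]

theorem cres_add_left {p f₁ f₂ g : Module.End k V} (hp : p * p = p) (h1 : f₁ * g = g * f₁)
    (h2 : f₂ * g = g * f₂) (hf₁ : Adm p f₁) (hf₂ : Adm p f₂) (hg : Adm p g) :
    cres p (f₁ + f₂) g = cres p f₁ g + cres p f₂ g := by
  have h12 : (f₁ + f₂) * g = g * (f₁ + f₂) := by rw [add_mul, mul_add, h1, h2]
  rw [cres_swap hp h12 (hf₁.add hf₂) hg, cres_add_right hp h1.symm h2.symm hg hf₁ hf₂,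
    cres_swap hp h1 hf₁ hg, cres_swap hp h2 hf₂ hg]
  ring

/-- If `g` commutes with `p` (and with `f`) the residue vanishes. -/
theorem cres_eq_zero_of_comm {p f g : Module.End k V} (hp : p * p = p) (hfg : f * g = g * f)
    (hg : g * p = p * g) : cres p f g = 0 := by
  unfold cres
  have e1 : p * f * p * (p * g * p) = p * (f * g) * p := by
    calc p * f * p * (p * g * p) = p * f * (p * p) * g * p := by noncomm_ring
      _ = p * f * (p * g) * p := by rw [hp]; simp only [mul_assoc]
      _ = p * f * (g * p) * p := by rw [hg]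
      _ = p * (f * g) * (p * p) := by noncomm_ring
      _ = p * (f * g) * p := by rw [hp]
  have e2 : p * g * p * (p * f * p) = p * (g * f) * p := by
    calc p * g * p * (p * f * p) = p * g * (p * p) * f * p := by noncomm_ring
      _ = (p * g) * p * f * p := by rw [hp]
      _ = (g * p) * p * f * p := by rw [hg]
      _ = g * (p * p) * f * p := by noncomm_ring
      _ = (g * p) * f * p := by rw [hp]
      _ = (p * g) * f * p := by rw [hg]
      _ = p * (g * f) * p := by noncomm_ring
  rw [e1, e2, hfg, sub_self, frTr_zero]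

/-- The Leibniz rule. -/
theorem cres_leibniz {p f g h : Module.End k V} (hp : p * p = p) (hfg : f * g = g * f)
    (hfh : f * h = h * f) (hgh : g * h = h * g) (hf : Adm p f) (hg : Adm p g) (hh : Adm p h) :
    cres p f (g * h) = cres p (f * g) h + cres p (f * h) g := by
  set a := p * f * p with ha
  set b := p * g * p with hb
  set c := p * h * p with hc
  have hab : FinRank (a * b - b * a) := finRank_comm hp hfg hf hg
  have hac : FinRank (a * c - c * a) := finRank_comm hp hfh hf hh
  have hbc : FinRank (b * c - c * b) := finRank_comm hp hgh hg hh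
  have E1 : a * (b * c) - (b * c) * a = ((a * b) * c - c * (a * b)) + ((c * a) * b - b * (c * a)) := by
    noncomm_ring
  have F1 : FinRank ((a * b) * c - c * (a * b)) := by
    have : (a * b) * c - c * (a * b) = a * (b * c - c * b) + (a * c - c * a) * b := by noncomm_ring
    rw [this]; exact (hbc.mul_left a).add (hac.mul_right b)
  have F2 : FinRank ((c * a) * b - b * (c * a)) := by
    have : (c * a) * b - b * (c * a) = c * (a * b - b * a) + -((b * c - c * b) * a) := by
      noncomm_ring
    rw [this]; exact (hab.mul_left c).add (hbc.mul_right a).neg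
  have F0 : FinRank (a * (b * c) - (b * c) * a) := by rw [E1]; exact F1.add F2
  have T0 : frTr (a * (b * c) - (b * c) * a) =
      frTr ((a * b) * c - c * (a * b)) + frTr ((c * a) * b - b * (c * a)) := by
    rw [E1, frTr_add F1 F2]
  -- perturbations
  have P0 : FinRank (p * (g * h) * p - b * c) := by
    have : p * (g * h) * p - b * c = p * g * ((1 - p) * h * p) := by
      rw [hb, hc]
      have e : p * g * p * (p * h * p) = p * g * (p * p) * h * p := by noncomm_ring
      rw [e, hp]; noncomm_ring
    rw [this]; exact FinRank.mul_left hh _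
  have P1 : FinRank (p * (f * g) * p - a * b) := by
    have : p * (f * g) * p - a * b = p * f * ((1 - p) * g * p) := by
      rw [ha, hb]
      have e : p * f * p * (p * g * p) = p * f * (p * p) * g * p := by noncomm_ring
      rw [e, hp]; noncomm_ring
    rw [this]; exact FinRank.mul_left hg _
  have P2 : FinRank (p * (f * h) * p - c * a) := by
    have : p * (f * h) * p - c * a = p * h * ((1 - p) * f * p) := by
      rw [ha, hc, hfh]
      have e : p * h * p * (p * f * p) = p * h * (p * p) * f * p := by noncomm_ring
      rw [e, hp]; noncomm_ring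
    rw [this]; exact FinRank.mul_left hf _
  have Z : ∀ x : Module.End k V, FinRank (x - x) := fun x => by rw [sub_self]; exact FinRank.zero
  obtain ⟨-, R0⟩ := frTr_comm_pert (Z a) P0 F0
  obtain ⟨-, R1⟩ := frTr_comm_pert P1 (Z c) F1
  obtain ⟨-, R2⟩ := frTr_comm_pert P2 (Z b) F2
  unfold cres
  rw [← ha, ← hb, ← hc, R0, R1, R2, T0]

/-- Perturbing the idempotent by a finite-rank operator does not change the residue. -/
theorem cres_eq_of_finRank_sub {p p' f g : Module.End k V} (hd : FinRank (p' - p))
    (hc : FinRank (p * f * p * (p * g * p) - p * g * p * (p * f * p))) :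
    cres p' f g = cres p f g := by
  have h1 : FinRank (p' * f * p' - p * f * p) := by
    have : p' * f * p' - p * f * p = (p' - p) * (f * p') + p * f * (p' - p) := by noncomm_ring
    rw [this]; exact (hd.mul_right _).add (hd.mul_left _)
  have h2 : FinRank (p' * g * p' - p * g * p) := by
    have : p' * g * p' - p * g * p = (p' - p) * (g * p') + p * g * (p' - p) := by noncomm_ring
    rw [this]; exact (hd.mul_right _).add (hd.mul_left _)
  exact (frTr_comm_pert h1 h2 hc).2

/-- Two idempotents with the same range give the same residue. -/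
theorem cres_eq_of_same_range {p p' f g : Module.End k V} (hp : p * p = p) (h1 : p * p' = p')
    (h2 : p' * p = p) (hfg : f * g = g * f) (hf : Adm p f) (hg : Adm p g) :
    cres p' f g = cres p f g := by
  have hp' : p' * p' = p' := by
    calc p' * p' = p' * (p * p') := by rw [h1]
      _ = (p' * p) * p' := by noncomm_ring
      _ = p' := by rw [h2, h1]
  set ν := p' - p with hν
  have hνp : ν * p = 0 := by rw [hν, sub_mul, h2, hp, sub_self]
  have hpν : p * ν = ν := by rw [hν, mul_sub, h1, hp]
  have hνν : ν * ν = 0 := by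
    calc ν * ν = ν * (p * ν) := by rw [hpν]
      _ = (ν * p) * ν := by noncomm_ring
      _ = 0 := by rw [hνp, zero_mul]
  have hSS : (1 + ν) * (1 - ν) = 1 := by
    have : (1 + ν) * (1 - ν) = 1 - ν * ν := by noncomm_ring
    rw [this, hνν, sub_zero]
  have hSS' : (1 - ν) * (1 + ν) = 1 := by
    have : (1 - ν) * (1 + ν) = 1 - ν * ν := by noncomm_ring
    rw [this, hνν, sub_zero]
  have hp'eq : p' = (1 - ν) * p * (1 + ν) := by
    have : (1 - ν) * p * (1 + ν) = p + p * ν - ν * p - (ν * p) * ν := by noncomm_ring
    rw [this, hνp, hpν, zero_mul, sub_zero, sub_zero, hν]; abel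
  set f' := (1 + ν) * f * (1 - ν) with hf'
  set g' := (1 + ν) * g * (1 - ν) with hg'
  have e1 : p' * f * p' = (1 - ν) * (p * f' * p) * (1 + ν) := by
    rw [hf']
    conv_lhs => rw [hp'eq]
    noncomm_ring
  have e2 : p' * g * p' = (1 - ν) * (p * g' * p) * (1 + ν) := by
    rw [hg']
    conv_lhs => rw [hp'eq]
    noncomm_ring
  have e3 : p' * f * p' * (p' * g * p') - p' * g * p' * (p' * f * p') =
      (1 - ν) * (p * f' * p * (p * g' * p) - p * g' * p * (p * f' * p)) * (1 + ν) := by
    rw [e1, e2]
    have : ∀ x y : Module.End k V, (1 - ν) * x * (1 + ν) * ((1 - ν) * y * (1 + ν)) =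
        (1 - ν) * x * ((1 + ν) * (1 - ν)) * y * (1 + ν) := by intro x y; noncomm_ring
    rw [this, this, hSS]
    noncomm_ring
  have d1 : p * f' * p - p * f * p = ν * ((1 - p) * f * p) := by
    rw [hf']
    have : p * ((1 + ν) * f * (1 - ν)) * p - p * f * p =
        (p * ν) * f * p - p * f * (ν * p) - (p * ν) * f * (ν * p) := by noncomm_ring
    rw [this, hνp, hpν, mul_zero, mul_zero, sub_zero, sub_zero]
    have : ν * ((1 - p) * f * p) = ν * f * p - (ν * p) * f * p := by noncomm_ring
    rw [this, hνp, zero_mul, zero_mul, sub_zero]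
  have d2 : p * g' * p - p * g * p = ν * ((1 - p) * g * p) := by
    rw [hg']
    have : p * ((1 + ν) * g * (1 - ν)) * p - p * g * p =
        (p * ν) * g * p - p * g * (ν * p) - (p * ν) * g * (ν * p) := by noncomm_ring
    rw [this, hνp, hpν, mul_zero, mul_zero, sub_zero, sub_zero]
    have : ν * ((1 - p) * g * p) = ν * g * p - (ν * p) * g * p := by noncomm_ring
    rw [this, hνp, zero_mul, zero_mul, sub_zero]
  have hc := finRank_comm hp hfg hf hg
  obtain ⟨hfr, htr⟩ := frTr_comm_pert (a := p * f * p) (b := p * g * p) (a' := p * f' * p)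
    (b' := p * g' * p) (by rw [d1]; exact FinRank.mul_left hf _)
    (by rw [d2]; exact FinRank.mul_left hg _) hc
  unfold cres
  rw [e3, (frTr_conj hfr hSS).2, htr]

end Groth.Agent.Lib.Helper27.Tate
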