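import Mathlib
import Groth.Agent.Lib.Helper27.Tate3

/-! Tate's residues, part 4: the abstract residue theorem. -/

set_option autoImplicit false

namespace Groth.Agent.Lib.Helper27.Tate

open LinearMap

universe u v
variable {k : Type u} [Field k] {V : Type v} [AddCommGroup V] [Module k V]

/-- The abstract residue theorem: if `B` is stable under the commuting operators `f`, `g`,
`range p ∩ B` is finite-dimensional and `range p + B` has finite codimension, the residue
relative to `p` vanishes. -/
theorem cres_eq_zero_of_global {p f g : Module.End k V} (hp : p * p = p) (hfg : f * g = g * f)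
    (hf : Adm p f) (hg : Adm p g) (B : Submodule k V) (hfB : ∀ b ∈ B, f b ∈ B)
    (hgB : ∀ b ∈ B, g b ∈ B) (hN : FiniteDimensional k ↥(LinearMap.range p ⊓ B))
    (W : Submodule k V) [FiniteDimensional k W] (hW : LinearMap.range p ⊔ B ⊔ W = ⊤) :
    cres p f g = 0 := by
  set A := LinearMap.range p with hA
  have hpA : ∀ a ∈ A, p a = a := by
    rintro _ ⟨x, rfl⟩
    have := LinearMap.congr_fun hp x
    exact this
  let π : V →ₗ[k] V ⧸ B := B.mkQ
  let A' : Submodule k (V ⧸ B) := A.map π
  let πA : A →ₗ[k] A' := π.submoduleMap A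
  have hπA : Function.Surjective πA := π.submoduleMap_surjective A
  obtain ⟨s, hs⟩ := πA.exists_rightInverse_of_surjective (LinearMap.range_eq_top.mpr hπA)
  obtain ⟨e, he⟩ := A'.subtype.exists_leftInverse_of_injective (Submodule.ker_subtype A')
  obtain ⟨σ₀, hσ₀⟩ := π.exists_rightInverse_of_surjective (Submodule.range_mkQ B)
  have F1 : ∀ x : A', π (s x : V) = x.1 := by
    intro x
    have := LinearMap.congr_fun hs x
    have h2 : (πA (s x)).1 = x.1 := congrArg Subtype.val this
    exact h2
  have F2 : ∀ a ∈ A, ((e (π a) : A') : V ⧸ B) = π a := by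
    intro a ha
    have := LinearMap.congr_fun he ⟨π a, Submodule.mem_map_of_mem ha⟩
    exact congrArg Subtype.val this
  have F2' : ∀ x : A', e x.1 = x := by
    intro x
    exact LinearMap.congr_fun he x
  have F3 : ∀ y, π (σ₀ y) = y := fun y => LinearMap.congr_fun hσ₀ y
  have hπB : ∀ b ∈ B, π b = 0 := fun b hb => (Submodule.Quotient.mk_eq_zero B).mpr hb
  have hBπ : ∀ v, π v = 0 → v ∈ B := fun v hv => (Submodule.Quotient.mk_eq_zero B).mp hv
  let q : Module.End k V := A.subtype ∘ₗ s ∘ₗ e ∘ₗ π
  let d : Module.End k V := σ₀ ∘ₗ (LinearMap.id - A'.subtype ∘ₗ e) ∘ₗ π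
  have hq_apply : ∀ v, q v = (s (e (π v)) : V) := fun v => rfl
  have hd_apply : ∀ v, d v = σ₀ (π v - (e (π v) : V ⧸ B)) := fun v => rfl
  have hqA : ∀ v, q v ∈ A := fun v => (s (e (π v))).2
  have hπq : ∀ v, π (q v) = (e (π v) : V ⧸ B) := fun v => by rw [hq_apply, F1]
  have hqq : q * q = q := by
    apply LinearMap.ext; intro v
    show q (q v) = q v
    rw [hq_apply (q v), hπq, F2', ← hq_apply]
  have hpq : p * q = q := by
    apply LinearMap.ext; intro v
    exact hpA _ (hqA v)
  have hqB : ∀ b ∈ B, q b = 0 := by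
    intro b hb
    rw [hq_apply, hπB b hb, map_zero, map_zero]; rfl
  have hdB : ∀ b ∈ B, d b = 0 := by
    intro b hb
    rw [hd_apply, hπB b hb, map_zero]
    simp
  have hdA : ∀ a ∈ A, d a = 0 := by
    intro a ha
    rw [hd_apply, F2 a ha, sub_self, map_zero]
  have hπd : ∀ v, π (d v) = π v - (e (π v) : V ⧸ B) := fun v => by rw [hd_apply, F3]
  set c : Module.End k V := q + d with hc
  have hcB : ∀ b ∈ B, c b = 0 := by
    intro b hb
    show q b + d b = 0
    rw [hqB b hb, hdB b hb, add_zero]
  have hc1 : ∀ v, v - c v ∈ B := by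
    intro v
    apply hBπ
    rw [map_sub]
    show π v - π (q v + d v) = 0
    rw [map_add, hπq, hπd]; abel
  -- the residue relative to `c` vanishes
  have hcf : c * f * (1 - c) = 0 := by
    apply LinearMap.ext; intro v
    show c (f (v - c v)) = 0
    exact hcB _ (hfB _ (hc1 v))
  have hcg : c * g * (1 - c) = 0 := by
    apply LinearMap.ext; intro v
    show c (g (v - c v)) = 0
    exact hcB _ (hgB _ (hc1 v))
  have hcc := comm_eq_zero_of_ker_stable hfg hcf hcg
  have hc0 : cres c f g = 0 := by
    unfold cres; rw [hcc, frTr_zero]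
  -- `d` has finite rank
  have hdfr : FinRank (q - c) := by
    have : q - c = -d := by rw [hc]; abel
    rw [this]
    apply FinRank.neg
    have hle : LinearMap.range d ≤ W.map d := by
      rintro _ ⟨v, rfl⟩
      have hv : v ∈ A ⊔ B ⊔ W := by rw [hW]; trivial
      obtain ⟨ab, hab, w, hw, rfl⟩ := Submodule.mem_sup.mp hv
      obtain ⟨a, ha, b, hb, rfl⟩ := Submodule.mem_sup.mp hab
      rw [map_add, map_add, hdA a ha, hdB b hb, add_zero, zero_add]
      exact Submodule.mem_map_of_mem hw
    exact Submodule.finiteDimensional_of_le hle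
  have hq0 : cres q f g = 0 := by
    rw [cres_eq_of_finRank_sub hdfr (by rw [hcc]; exact FinRank.zero), hc0]
  -- `r = q p`
  set r := q * p with hr
  have hrr : r * r = r := by
    calc r * r = q * (p * q) * p := by rw [hr]; noncomm_ring
      _ = r := by rw [hpq, hqq]
  have hqr : q * r = r := by rw [hr, ← mul_assoc, hqq]
  have hrq : r * q = q := by rw [hr, mul_assoc, hpq, hqq]
  have hδ : FinRank (r - p) := by
    have : r - p = -(p - r) := by abel
    rw [this]
    apply FinRank.neg
    have hle : LinearMap.range (p - r) ≤ A ⊓ B := by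
      rintro _ ⟨v, rfl⟩
      have hpv : p v ∈ A := ⟨v, rfl⟩
      show p v - q (p v) ∈ A ⊓ B
      refine ⟨A.sub_mem hpv (hqA _), ?_⟩
      apply hBπ
      rw [map_sub, hπq, F2 _ hpv, sub_self]
    exact Submodule.finiteDimensional_of_le hle
  have hcp := finRank_comm hp hfg hf hg
  have hrp : cres r f g = cres p f g := cres_eq_of_finRank_sub hδ hcp
  have hadm : ∀ x : Module.End k V, Adm p x → Adm r x := by
    intro x hx
    unfold Adm at *
    have : (1 - r) * x * r = (1 - p) * x * p + (-((1 - p) * x * (p - r)) + -((r - p) * (x * r))) := by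
      noncomm_ring
    rw [this]
    have h2 : FinRank (p - r) := by
      have : p - r = -(r - p) := by abel
      rw [this]; exact hδ.neg
    exact hx.add ((h2.mul_left _).neg.add (hδ.mul_right _).neg)
  have hqr' : cres q f g = cres r f g :=
    cres_eq_of_same_range hrr hrq hqr hfg (hadm f hf) (hadm g hg)
  rw [← hrp, ← hqr', hq0]

end Groth.Agent.Lib.Helper27.Tate
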