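import Mathlib
import Groth.Prelude.Def_LocRes
import Groth.Agent.Lib.Helper27.Tate4
import Groth.Agent.Lib.Helper27.LR1

/-! Tate's residues, part 5: the local set-up on Laurent series. -/

set_option autoImplicit false

namespace Groth.Agent.Lib.Helper27.Tate

open LinearMap LaurentSeries HahnSeries

universe u w
variable {k : Type u} [Field k] {F : Type w} [Field F] [Algebra k F]

theorem smul_eq_C_mul (c : k) (ξ : F⸨X⸩) : c • ξ = HahnSeries.C (algebraMap k F c) * ξ := by
  rw [HahnSeries.C_mul_eq_smul, algebraMap_smul]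

variable (k) in
/-- The multiplication operator, `k`-linear for the coefficientwise `k`-structure. -/
noncomputable def mulOp (a : F⸨X⸩) : Module.End k F⸨X⸩ where
  toFun ξ := a * ξ
  map_add' := mul_add a
  map_smul' c ξ := by
    simp only [RingHom.id_apply]
    rw [smul_eq_C_mul, smul_eq_C_mul]; ring

@[simp] theorem mulOp_apply (a ξ : F⸨X⸩) : mulOp k a ξ = a * ξ := rfl

theorem mulOp_mul (a b : F⸨X⸩) : mulOp k (a * b) = mulOp k a * mulOp k b := by
  apply LinearMap.ext; intro ξ
  show a * b * ξ = a * (b * ξ)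
  ring

theorem mulOp_add (a b : F⸨X⸩) : mulOp k (a + b) = mulOp k a + mulOp k b := by
  apply LinearMap.ext; intro ξ
  show (a + b) * ξ = a * ξ + b * ξ
  ring

theorem mulOp_one : mulOp k (1 : F⸨X⸩) = 1 := by
  apply LinearMap.ext; intro ξ
  show 1 * ξ = ξ
  ring

theorem mulOp_comm (a b : F⸨X⸩) : mulOp k a * mulOp k b = mulOp k b * mulOp k a := by
  rw [← mulOp_mul, ← mulOp_mul, mul_comm]

variable (k F) in
/-- Truncation to the power-series part. -/
noncomputable def trunc : Module.End k F⸨X⸩ where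
  toFun ξ := ⟨fun n => if 0 ≤ n then ξ.coeff n else 0, ξ.isPWO_support.mono (by
    intro n hn
    simp only [Function.mem_support, ne_eq, ite_eq_right_iff, Classical.not_imp] at hn
    exact hn.2)⟩
  map_add' ξ η := by
    ext n
    simp only [HahnSeries.coeff_add]
    split_ifs <;> simp
  map_smul' c ξ := by
    ext n
    simp only [HahnSeries.coeff_smul, RingHom.id_apply]
    split_ifs <;> simp

theorem coeff_trunc (ξ : F⸨X⸩) (n : ℤ) :
    (trunc k F ξ).coeff n = if 0 ≤ n then ξ.coeff n else 0 := rfl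

theorem trunc_trunc : trunc k F * trunc k F = trunc k F := by
  apply LinearMap.ext; intro ξ
  ext n
  show (trunc k F (trunc k F ξ)).coeff n = _
  rw [coeff_trunc, coeff_trunc]
  split_ifs <;> rfl

theorem coeff_one_sub_trunc (ξ : F⸨X⸩) (n : ℤ) :
    (((1 : Module.End k F⸨X⸩) - trunc k F) ξ).coeff n = if 0 ≤ n then 0 else ξ.coeff n := by
  show (ξ - trunc k F ξ).coeff n = _
  rw [HahnSeries.coeff_sub, coeff_trunc]
  split_ifs <;> simp

/-- orders add under multiplication -/
theorem coeff_mul_eq_zero {a ξ : F⸨X⸩} {i j n : ℤ} (ha : ∀ n < i, a.coeff n = 0)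
    (hξ : ∀ n < j, ξ.coeff n = 0) (hn : n < i + j) : (a * ξ).coeff n = 0 := by
  have h1 : Valued.v a ≤ WithZero.exp (-i) := LR.val_le_exp_iff.mpr ha
  have h2 : Valued.v ξ ≤ WithZero.exp (-j) := LR.val_le_exp_iff.mpr hξ
  have h3 : Valued.v (a * ξ) ≤ WithZero.exp (-(i + j)) := by
    rw [map_mul, neg_add, WithZero.exp_add]
    exact mul_le_mul' h1 h2
  exact LR.val_le_exp_iff.mp h3 n hn

theorem trunc_eq_self {ξ : F⸨X⸩} (h : ∀ n < 0, ξ.coeff n = 0) : trunc k F ξ = ξ := by
  ext n
  rw [coeff_trunc]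
  split_ifs with h0
  · rfl
  · exact (h n (not_le.mp h0)).symm

theorem coeff_trunc_neg (ξ : F⸨X⸩) : ∀ n < 0, (trunc k F ξ).coeff n = 0 := by
  intro n hn
  rw [coeff_trunc, if_neg (not_le.mpr hn)]

/-- A multiplication by a power series stabilises the power series. -/
theorem stable_mulOp {a : F⸨X⸩} (ha : ∀ n < 0, a.coeff n = 0) :
    (1 - trunc k F) * mulOp k a * trunc k F = 0 := by
  apply LinearMap.ext; intro ξ
  ext n
  show (((1 : Module.End k F⸨X⸩) - trunc k F) (a * trunc k F ξ)).coeff n = 0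
  rw [coeff_one_sub_trunc]
  split_ifs with h0
  · rfl
  · exact coeff_mul_eq_zero ha (coeff_trunc_neg ξ) (by omega)

/-- finite expansions -/
theorem eq_sum_single {η : F⸨X⸩} {lo hi : ℤ} (h : ∀ n, (n < lo ∨ hi ≤ n) → η.coeff n = 0) :
    η = ∑ j ∈ Finset.Ico lo hi, HahnSeries.single j (η.coeff j) := by
  ext n
  rw [HahnSeries.coeff_sum]
  simp only [HahnSeries.coeff_single]
  by_cases hn : n ∈ Finset.Ico lo hi
  · rw [Finset.sum_eq_single n]
    · rw [if_pos rfl]
    · intro b _ hb
      rw [if_neg (Ne.symm hb)]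
    · intro h'; exact absurd hn h'
  · rw [Finset.sum_eq_zero]
    · apply h
      rw [Finset.mem_Ico] at hn
      omega
    · intro b hb
      rw [if_neg]
      rintro rfl
      exact hn hb

variable (k F) in
/-- the space of Laurent polynomials with exponents in `[lo, hi)` -/
noncomputable def polyMap (lo hi : ℤ) : (Finset.Ico lo hi → F) →ₗ[k] F⸨X⸩ where
  toFun c := ∑ j : Finset.Ico lo hi, HahnSeries.single (j : ℤ) (c j)
  map_add' c d := by
    rw [← Finset.sum_add_distrib]
    apply Finset.sum_congr rfl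
    intro j _
    ext n
    simp only [Pi.add_apply, HahnSeries.coeff_add, HahnSeries.coeff_single]
    split_ifs <;> simp
  map_smul' c d := by
    simp only [Pi.smul_apply, RingHom.id_apply, Finset.smul_sum]
    apply Finset.sum_congr rfl
    intro j _
    ext n
    simp only [HahnSeries.coeff_smul, HahnSeries.coeff_single]
    split_ifs <;> simp

theorem mem_range_polyMap {η : F⸨X⸩} {lo hi : ℤ} (h : ∀ n, (n < lo ∨ hi ≤ n) → η.coeff n = 0) :
    η ∈ LinearMap.range (polyMap k F lo hi) := by
  refine ⟨fun j => η.coeff j, ?_⟩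
  conv_rhs => rw [eq_sum_single h]
  show ∑ j : Finset.Ico lo hi, HahnSeries.single (j : ℤ) (η.coeff j) = _
  rw [Finset.sum_coe_sort (Finset.Ico lo hi) (fun j => HahnSeries.single j (η.coeff j))]

/-- Every multiplication operator nearly stabilises the power series. -/
theorem adm_mulOp [FiniteDimensional k F] (a : F⸨X⸩) : Adm (trunc k F) (mulOp k a) := by
  unfold Adm FinRank
  have hle : LinearMap.range ((1 - trunc k F) * mulOp k a * trunc k F) ≤
      LinearMap.range (polyMap k F a.order 0) := by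
    rintro _ ⟨ξ, rfl⟩
    apply mem_range_polyMap
    intro n hn
    show (((1 : Module.End k F⸨X⸩) - trunc k F) (a * trunc k F ξ)).coeff n = 0
    rw [coeff_one_sub_trunc]
    split_ifs with h0
    · rfl
    · rcases hn with hn | hn
      · exact coeff_mul_eq_zero (fun n hn => HahnSeries.coeff_eq_zero_of_lt_order hn)
          (coeff_trunc_neg ξ) (by omega)
      · omega
  exact Submodule.finiteDimensional_of_le hle

end Groth.Agent.Lib.Helper27.Tate
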