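import Mathlib
import Groth.Prelude.Def_LocRes
import Groth.Agent.Lib.Helper27.Tate5

/-! Tate's residues, part 6: the local computation: the abstract residue on Laurent series is
the trace of the classical residue. -/

set_option autoImplicit false

namespace Groth.Agent.Lib.Helper27.Tate

open LinearMap LaurentSeries HahnSeries

universe u w
variable {k : Type u} [Field k] {F : Type w} [Field F] [Algebra k F] [FiniteDimensional k F]

variable (k) in
/-- the abstract residue of `a db` -/
noncomputable def lres (a b : F⸨X⸩) : k := cres (trunc k F) (mulOp k a) (mulOp k b)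

variable (k) in
/-- the classical residue of `a db`, traced down -/
noncomputable def rres (a b : F⸨X⸩) : k := Algebra.trace k F ((a * LocRes.D F b).coeff (-1))

theorem lres_add_right (a b₁ b₂ : F⸨X⸩) : lres k a (b₁ + b₂) = lres k a b₁ + lres k a b₂ := by
  unfold lres
  rw [mulOp_add]
  exact cres_add_right trunc_trunc (mulOp_comm _ _) (mulOp_comm _ _) (adm_mulOp a) (adm_mulOp b₁)
    (adm_mulOp b₂)

theorem rres_add_right (a b₁ b₂ : F⸨X⸩) : rres k a (b₁ + b₂) = rres k a b₁ + rres k a b₂ := by
  unfold rres
  rw [map_add, mul_add, HahnSeries.coeff_add, map_add]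

theorem lres_leibniz (a b c : F⸨X⸩) : lres k a (b * c) = lres k (a * b) c + lres k (a * c) b := by
  unfold lres
  rw [mulOp_mul, mulOp_mul, mulOp_mul]
  exact cres_leibniz trunc_trunc (mulOp_comm _ _) (mulOp_comm _ _) (mulOp_comm _ _) (adm_mulOp a)
    (adm_mulOp b) (adm_mulOp c)

theorem rres_leibniz (a b c : F⸨X⸩) : rres k a (b * c) = rres k (a * b) c + rres k (a * c) b := by
  unfold rres
  rw [← map_add, ← HahnSeries.coeff_add, Derivation.leibniz, smul_eq_mul, smul_eq_mul]
  congr 2
  ring

theorem trunc_C_mul (β : F) (ξ : F⸨X⸩) :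
    trunc k F (HahnSeries.C β * ξ) = HahnSeries.C β * trunc k F ξ := by
  ext n
  rw [coeff_trunc, HahnSeries.C_mul_eq_smul, HahnSeries.C_mul_eq_smul, HahnSeries.coeff_smul,
    HahnSeries.coeff_smul, coeff_trunc]
  split_ifs <;> simp

theorem lres_C (a : F⸨X⸩) (β : F) : lres k a (HahnSeries.C β) = 0 := by
  unfold lres
  apply cres_eq_zero_of_comm trunc_trunc (mulOp_comm _ _)
  apply LinearMap.ext; intro ξ
  show HahnSeries.C β * trunc k F ξ = trunc k F (HahnSeries.C β * ξ)
  rw [trunc_C_mul]

theorem rres_C (a : F⸨X⸩) (β : F) : rres k a (HahnSeries.C β) = 0 := by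
  unfold rres
  rw [LocRes.D_apply, LocRes.derivative_C, mul_zero, HahnSeries.coeff_zero, map_zero]

theorem D_X : LocRes.D F (HahnSeries.single (1 : ℤ) (1 : F)) = 1 := by
  ext n
  rw [LocRes.D_coeff, HahnSeries.coeff_single, HahnSeries.coeff_one]
  by_cases h : n = 0
  · subst h; simp
  · rw [if_neg h, if_neg (by omega), smul_zero]

theorem rres_X (a : F⸨X⸩) :
    rres k a (HahnSeries.single (1 : ℤ) (1 : F)) = Algebra.trace k F (a.coeff (-1)) := by
  unfold rres
  rw [D_X, mul_one]

theorem single_nonneg_coeff {j : ℤ} (hj : 0 ≤ j) (β : F) :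
    ∀ n < 0, (HahnSeries.single j β).coeff n = 0 := by
  intro n hn
  rw [HahnSeries.coeff_single, if_neg (by omega)]

theorem lres_X (a : F⸨X⸩) :
    lres k a (HahnSeries.single (1 : ℤ) (1 : F)) = Algebra.trace k F (a.coeff (-1)) := by
  unfold lres cres
  rw [comm_eq_hankel trunc_trunc (mulOp_comm _ _),
    stable_mulOp (single_nonneg_coeff (by norm_num) (1 : F)), mul_zero, sub_zero]
  set φ : F⸨X⸩ →ₗ[k] F :=
    (HahnSeries.coeff.linearMap (-1 : ℤ)) ∘ₗ (mulOp k a) ∘ₗ (trunc k F) with hφ
  set ι : F →ₗ[k] F⸨X⸩ := HahnSeries.single.linearMap (0 : ℤ) with hι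
  have hT : trunc k F * mulOp k (HahnSeries.single (1 : ℤ) (1 : F)) *
      ((1 - trunc k F) * mulOp k a * trunc k F) = ι ∘ₗ φ := by
    apply LinearMap.ext; intro ξ
    ext n
    show (trunc k F (HahnSeries.single (1 : ℤ) (1 : F) *
      (((1 : Module.End k F⸨X⸩) - trunc k F) (a * trunc k F ξ)))).coeff n =
      (HahnSeries.single (0 : ℤ) ((a * trunc k F ξ).coeff (-1))).coeff n
    rw [coeff_trunc, HahnSeries.coeff_single_mul, coeff_one_sub_trunc, HahnSeries.coeff_single,
      one_mul]
    by_cases h0 : n = 0
    · subst h0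
      simp
    · rw [if_neg h0]
      by_cases h1 : 0 ≤ n
      · rw [if_pos h1, if_pos (by omega)]
      · rw [if_neg h1]
  rw [hT, frTr_eq_of_factor, Algebra.trace_apply]
  congr 1
  apply LinearMap.ext; intro y
  show (a * trunc k F (HahnSeries.single (0 : ℤ) y)).coeff (-1) = a.coeff (-1) * y
  rw [trunc_eq_self (single_nonneg_coeff le_rfl y), HahnSeries.coeff_mul_single, sub_zero]

theorem lres_pow {a b : F⸨X⸩} (ha : ∀ n < 0, a.coeff n = 0) (hb : ∀ n < 0, b.coeff n = 0) :
    lres k a b = 0 := by
  unfold lres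
  exact cres_eq_zero_of_stable trunc_trunc (mulOp_comm _ _) (stable_mulOp ha) (stable_mulOp hb)

theorem rres_pow {a b : F⸨X⸩} (ha : ∀ n < 0, a.coeff n = 0) (hb : ∀ n < 0, b.coeff n = 0) :
    rres k a b = 0 := by
  unfold rres
  have hD : ∀ n < 0, (LocRes.D F b).coeff n = 0 := by
    intro n hn
    rw [LocRes.D_coeff]
    by_cases h : n + 1 < 0
    · rw [hb _ h, smul_zero]
    · have : n + 1 = 0 := by omega
      rw [this, zero_smul]
  rw [coeff_mul_eq_zero ha hD (by norm_num), map_zero]

/-- `b` is good if both residues agree for all `a`. -/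
def Good (k : Type u) [Field k] {F : Type w} [Field F] [Algebra k F] [FiniteDimensional k F]
    (b : F⸨X⸩) : Prop := ∀ a : F⸨X⸩, lres k a b = rres k a b

theorem Good.add {b c : F⸨X⸩} (hb : Good k b) (hc : Good k c) : Good k (b + c) := by
  intro a
  rw [lres_add_right, rres_add_right, hb a, hc a]

theorem Good.mul {b c : F⸨X⸩} (hb : Good k b) (hc : Good k c) : Good k (b * c) := by
  intro a
  rw [lres_leibniz, rres_leibniz, hb, hc]

theorem good_C (β : F) : Good k (HahnSeries.C β) := by
  intro a
  rw [lres_C, rres_C]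

theorem good_one : Good k (1 : F⸨X⸩) := by
  have := good_C (k := k) (1 : F)
  rwa [map_one] at this

theorem good_X : Good k (HahnSeries.single (1 : ℤ) (1 : F)) := by
  intro a
  rw [lres_X, rres_X]

theorem Good.of_mul_eq_one {b c : F⸨X⸩} (hb : Good k b) (h : b * c = 1) : Good k c := by
  intro a
  have h1 := lres_leibniz (k := k) (a * c) b c
  have h2 := rres_leibniz (k := k) (a * c) b c
  have e1 : a * c * b = a := by rw [mul_assoc, mul_comm c b, h, mul_one]
  rw [h, e1, good_one (k := k) (a * c)] at h1
  rw [h, e1] at h2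
  rw [hb (a * c * c)] at h1
  have := h2.symm.trans h1
  exact (add_right_cancel this).symm

theorem good_zero : Good k (0 : F⸨X⸩) := by
  have := good_C (k := k) (0 : F)
  rwa [map_zero] at this

theorem good_single_one (j : ℤ) : Good k (HahnSeries.single j (1 : F)) := by
  induction j using Int.induction_on with
  | zero => exact good_one
  | succ i ih =>
    have : HahnSeries.single ((i : ℤ) + 1) (1 : F) =
        HahnSeries.single (i : ℤ) (1 : F) * HahnSeries.single (1 : ℤ) (1 : F) := by
      rw [HahnSeries.single_mul_single, mul_one]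
    rw [this]
    exact ih.mul good_X
  | pred i ih =>
    have hinv : Good k (HahnSeries.single (-1 : ℤ) (1 : F)) := by
      apply good_X.of_mul_eq_one
      rw [HahnSeries.single_mul_single, mul_one]
      rfl
    have : HahnSeries.single (-(i : ℤ) - 1) (1 : F) =
        HahnSeries.single (-(i : ℤ)) (1 : F) * HahnSeries.single (-1 : ℤ) (1 : F) := by
      rw [HahnSeries.single_mul_single, mul_one]
      rfl
    rw [this]
    exact ih.mul hinv

theorem good_single (j : ℤ) (β : F) : Good k (HahnSeries.single j β) := by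
  have : HahnSeries.single j β = HahnSeries.C β * HahnSeries.single j (1 : F) := by
    rw [HahnSeries.C_apply, HahnSeries.single_mul_single, zero_add, mul_one]
  rw [this]
  exact (good_C β).mul (good_single_one j)

theorem good_sum {ι : Type*} (s : Finset ι) (x : ι → F⸨X⸩) (h : ∀ i ∈ s, Good k (x i)) :
    Good k (∑ i ∈ s, x i) := by
  classical
  induction s using Finset.induction_on with
  | empty => simpa using good_zero
  | insert i s hi ih =>
    rw [Finset.sum_insert hi]
    exact (h i (Finset.mem_insert_self i s)).add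
      (ih (fun j hj => h j (Finset.mem_insert_of_mem hj)))

/-- The local computation: Tate's abstract residue on Laurent series is the trace of the classical
residue. -/
theorem lres_eq_rres (a b : F⸨X⸩) : lres k a b = rres k a b := by
  set N : ℤ := -a.order with hN
  set b₂ : F⸨X⸩ := trunc k F (HahnSeries.single (-N) (1 : F) * b) with hb₂
  set bhi : F⸨X⸩ := HahnSeries.single N (1 : F) * b₂ with hbhi
  set blo : F⸨X⸩ := b - bhi with hblo
  have hb : b = blo + bhi := by rw [hblo]; ring
  have hb₂neg : ∀ n < 0, b₂.coeff n = 0 := coeff_trunc_neg _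
  have hlo : Good k blo := by
    have hcoeff : ∀ n, (n < b.order ∨ N ≤ n) → blo.coeff n = 0 := by
      intro n hn
      rw [hblo, HahnSeries.coeff_sub, hbhi, HahnSeries.coeff_single_mul, one_mul, hb₂, coeff_trunc,
        HahnSeries.coeff_single_mul, one_mul]
      have e : n - N - -N = n := by ring
      rw [e]
      rcases hn with hn | hn
      · rw [HahnSeries.coeff_eq_zero_of_lt_order hn]
        split_ifs <;> simp
      · rw [if_pos (by omega), sub_self]
    rw [eq_sum_single hcoeff]
    exact good_sum _ _ (fun j _ => good_single j _)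
  have haN : ∀ n < 0, (a * HahnSeries.single N (1 : F)).coeff n = 0 := by
    intro n hn
    rw [HahnSeries.coeff_mul_single, mul_one]
    apply HahnSeries.coeff_eq_zero_of_lt_order
    omega
  have hhi : lres k a bhi = rres k a bhi := by
    rw [hbhi, lres_leibniz, rres_leibniz, lres_pow haN hb₂neg, rres_pow haN hb₂neg,
      good_single_one N (a * b₂)]
  rw [hb, lres_add_right, rres_add_right, hlo a, hhi]

end Groth.Agent.Lib.Helper27.Tate
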