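import Mathlib
import Groth.Prelude.Def_LocRes
import Groth.Agent.Lib.Helper27.Tate6

/-! Tate's residues, part 7: traces on finite products; density of an expansion. -/

set_option autoImplicit false

namespace Groth.Agent.Lib.Helper27.Tate

open LinearMap LaurentSeries HahnSeries

universe u v w

section Product

variable {k : Type u} [Field k] {ι : Type v} [Fintype ι] [DecidableEq ι]
  {V : ι → Type w} [∀ i, AddCommGroup (V i)] [∀ i, Module k (V i)]

theorem frTr_sum {U : Type*} [AddCommGroup U] [Module k U] {α : Type*} (s : Finset α)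
    (E : α → Module.End k U) (h : ∀ i ∈ s, FinRank (E i)) :
    FinRank (∑ i ∈ s, E i) ∧ frTr (∑ i ∈ s, E i) = ∑ i ∈ s, frTr (E i) := by
  classical
  induction s using Finset.induction_on with
  | empty => simpa using ⟨FinRank.zero, frTr_zero⟩
  | insert i s hi ih =>
    obtain ⟨h1, h2⟩ := ih (fun j hj => h j (Finset.mem_insert_of_mem hj))
    have h0 := h i (Finset.mem_insert_self i s)
    rw [Finset.sum_insert hi, Finset.sum_insert hi]
    exact ⟨h0.add h1, by rw [frTr_add h0 h1, h2]⟩

/-- the diagonal operator on a product -/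
def piEnd (T : ∀ i, Module.End k (V i)) : Module.End k (∀ i, V i) :=
  LinearMap.pi (fun i => T i ∘ₗ LinearMap.proj i)

@[simp] theorem piEnd_apply (T : ∀ i, Module.End k (V i)) (ξ : ∀ i, V i) (i : ι) :
    piEnd T ξ i = T i (ξ i) := rfl

theorem piEnd_mul (T T' : ∀ i, Module.End k (V i)) :
    piEnd (fun i => T i * T' i) = piEnd T * piEnd T' := by
  apply LinearMap.ext; intro ξ; funext i; rfl

theorem piEnd_sub (T T' : ∀ i, Module.End k (V i)) :
    piEnd (fun i => T i - T' i) = piEnd T - piEnd T' := by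
  apply LinearMap.ext; intro ξ; funext i; rfl

theorem piEnd_one : piEnd (fun i => (1 : Module.End k (V i))) = 1 := by
  apply LinearMap.ext; intro ξ; funext i; rfl

theorem piEnd_eq_sum (T : ∀ i, Module.End k (V i)) :
    piEnd T = ∑ i, (LinearMap.single k V i) ∘ₗ T i ∘ₗ LinearMap.proj i := by
  apply LinearMap.ext; intro ξ; funext j
  rw [LinearMap.sum_apply, Finset.sum_apply]
  simp only [piEnd_apply, LinearMap.coe_comp, Function.comp_apply, LinearMap.coe_proj,
    Function.eval, LinearMap.coe_single]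
  rw [Finset.sum_eq_single j]
  · rw [Pi.single_eq_same]
  · intro i _ hij
    rw [Pi.single_eq_of_ne (Ne.symm hij)]
  · intro h; exact absurd (Finset.mem_univ j) h

theorem frTr_block (i : ι) {T : Module.End k (V i)} (hT : FinRank T) :
    FinRank ((LinearMap.single k V i) ∘ₗ T ∘ₗ LinearMap.proj i) ∧
      frTr ((LinearMap.single k V i) ∘ₗ T ∘ₗ LinearMap.proj i) = frTr T := by
  unfold FinRank at hT
  set R := LinearMap.range T
  set a : V i →ₗ[k] R := T.codRestrict R (fun x => ⟨x, rfl⟩) with ha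
  have hfac : T = R.subtype ∘ₗ a := by apply LinearMap.ext; intro x; rfl
  have e1 : (LinearMap.single k V i) ∘ₗ T ∘ₗ LinearMap.proj i =
      ((LinearMap.single k V i) ∘ₗ R.subtype) ∘ₗ (a ∘ₗ LinearMap.proj i) := by
    conv_lhs => rw [hfac]
    rfl
  constructor
  · rw [e1]
    show FiniteDimensional k _
    exact Submodule.finiteDimensional_of_le (LinearMap.range_comp_le_range _ _)
  · rw [e1, frTr_eq_of_factor]
    conv_rhs => rw [hfac, frTr_eq_of_factor]
    congr 1
    apply LinearMap.ext; intro x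
    show a (Pi.single i (x : V i) i) = a x
    rw [Pi.single_eq_same]

/-- The trace of a diagonal operator on a finite product is the sum of the traces. -/
theorem frTr_piEnd {T : ∀ i, Module.End k (V i)} (hT : ∀ i, FinRank (T i)) :
    FinRank (piEnd T) ∧ frTr (piEnd T) = ∑ i, frTr (T i) := by
  rw [piEnd_eq_sum]
  obtain ⟨h1, h2⟩ := frTr_sum Finset.univ
    (fun i => (LinearMap.single k V i) ∘ₗ T i ∘ₗ LinearMap.proj i)
    (fun i _ => (frTr_block i (hT i)).1)
  refine ⟨h1, ?_⟩
  rw [h2]
  exact Finset.sum_congr rfl (fun i _ => (frTr_block i (hT i)).2)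

theorem adm_piEnd {p f : ∀ i, Module.End k (V i)} (h : ∀ i, Adm (p i) (f i)) :
    Adm (piEnd p) (piEnd f) := by
  unfold Adm
  have : (1 - piEnd p) * piEnd f * piEnd p = piEnd (fun i => (1 - p i) * f i * p i) := by
    rw [piEnd_mul, piEnd_mul, piEnd_sub, piEnd_one]
  rw [this]
  exact (frTr_piEnd h).1

/-- The residue on a product is the sum of the residues. -/
theorem cres_piEnd {p f g : ∀ i, Module.End k (V i)} (hp : ∀ i, p i * p i = p i)
    (hfg : ∀ i, f i * g i = g i * f i) (hf : ∀ i, Adm (p i) (f i)) (hg : ∀ i, Adm (p i) (g i)) :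
    cres (piEnd p) (piEnd f) (piEnd g) = ∑ i, cres (p i) (f i) (g i) := by
  unfold cres
  have : piEnd p * piEnd f * piEnd p * (piEnd p * piEnd g * piEnd p) -
      piEnd p * piEnd g * piEnd p * (piEnd p * piEnd f * piEnd p) =
      piEnd (fun i => p i * f i * p i * (p i * g i * p i) - p i * g i * p i * (p i * f i * p i)) := by
    rw [piEnd_sub, piEnd_mul, piEnd_mul, piEnd_mul, piEnd_mul, piEnd_mul, piEnd_mul, piEnd_mul,
      piEnd_mul, piEnd_mul, piEnd_mul]
  rw [this]
  exact (frTr_piEnd (fun i => finRank_comm (hp i) (hfg i) (hf i) (hg i))).2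

end Product

section Density

variable {k : Type u} [Field k] {K : Type v} [Field K] [Algebra k K] {F : Type w} [Field F]
  [Algebra k F]

theorem coeff_mul_add {a b : F⸨X⸩} {i j : ℤ} (ha : ∀ n < i, a.coeff n = 0)
    (hb : ∀ n < j, b.coeff n = 0) : (a * b).coeff (i + j) = a.coeff i * b.coeff j := by
  set a' := a - HahnSeries.single i (a.coeff i) with ha'def
  have ha' : ∀ n < i + 1, a'.coeff n = 0 := by
    intro n hn
    rw [ha'def, HahnSeries.coeff_sub, HahnSeries.coeff_single]
    by_cases h : n = i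
    · subst h; simp
    · rw [if_neg h, sub_zero]; exact ha n (by omega)
  have : a * b = HahnSeries.single i (a.coeff i) * b + a' * b := by rw [ha'def]; ring
  rw [this, HahnSeries.coeff_add, HahnSeries.coeff_single_mul,
    coeff_mul_eq_zero ha' hb (by omega), add_zero]
  congr 2
  ring

/-- Monomials are in the closure of the image. -/
theorem exists_leading {w : Valuation K (WithZero (Multiplicative ℤ))} {φ : K →ₐ[k] F⸨X⸩}
    (hφ : LocRes.IsExpansionAt w φ) (m : ℤ) (c : F) :
    ∃ z : K, (∀ n < m, (φ z).coeff n = 0) ∧ (φ z).coeff m = c := by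
  obtain ⟨h1, h2, t, ht⟩ := hφ
  have hs : Valued.v (φ (t ^ m)) = WithZero.exp (-m) := by
    rw [h1, map_zpow₀, ht, ← WithZero.exp_zsmul]
    congr 1
    simp
  obtain ⟨hs1, hs2⟩ := LR.val_eq_exp_iff.mp hs
  obtain ⟨f, hf1, hf2⟩ := h2 (c / (φ (t ^ m)).coeff m)
  have hf0 : ∀ n < 0, (φ f).coeff n = 0 := by
    have : Valued.v (φ f) ≤ WithZero.exp (-(0 : ℤ)) := by
      rw [h1, neg_zero, WithZero.exp_zero]; exact hf1
    exact LR.val_le_exp_iff.mp this
  refine ⟨f * t ^ m, ?_, ?_⟩
  · intro n hn
    rw [map_mul]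
    exact coeff_mul_eq_zero hf0 hs1 (by omega)
  · rw [map_mul]
    have := coeff_mul_add hf0 hs1
    rw [zero_add] at this
    rw [this, hf2, div_mul_cancel₀ _ hs2]

/-- The image of an expansion is dense. -/
theorem exists_approx {w : Valuation K (WithZero (Multiplicative ℤ))} {φ : K →ₐ[k] F⸨X⸩}
    (hφ : LocRes.IsExpansionAt w φ) (ξ : F⸨X⸩) (N : ℤ) :
    ∃ y : K, ∀ n < N, (ξ - φ y).coeff n = 0 := by
  have key : ∀ d : ℕ, ∃ y : K, ∀ n < ξ.order + d, (ξ - φ y).coeff n = 0 := by
    intro d
    induction d with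
    | zero =>
      refine ⟨0, fun n hn => ?_⟩
      rw [map_zero, sub_zero]
      exact HahnSeries.coeff_eq_zero_of_lt_order (by simpa using hn)
    | succ d ih =>
      obtain ⟨y, hy⟩ := ih
      obtain ⟨z, hz1, hz2⟩ := exists_leading hφ (ξ.order + d) ((ξ - φ y).coeff (ξ.order + d))
      refine ⟨y + z, fun n hn => ?_⟩
      have e : ξ - φ (y + z) = (ξ - φ y) - φ z := by rw [map_add]; ring
      rw [e, HahnSeries.coeff_sub]
      push_cast at hn
      rcases (Int.lt_add_one_iff.mp (by omega : n < ξ.order + d + 1)).lt_or_eq with h | h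
      · rw [hy n h, hz1 n h, sub_zero]
      · rw [h, hz2, sub_self]
  obtain ⟨y, hy⟩ := key (N - ξ.order).toNat
  refine ⟨y, fun n hn => hy n ?_⟩
  have := Int.self_le_toNat (N - ξ.order)
  omega

end Density

end Groth.Agent.Lib.Helper27.Tate
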