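import Mathlib
import Groth.Prelude.Def_W4bk4goldsch23FF
import Groth.Prelude.Def_LocRes
import Groth.Agent.Lib.Helper27.Tate7
import Groth.Agent.Lib.Helper27.LR2

/-! Tate's residues, part 10: the coefficient field of an expansion of a geometric function field
is separable over the base; non-vanishing of local residues. -/

set_option autoImplicit false

namespace Groth.Agent.Lib.Helper27.Tate

open LaurentSeries HahnSeries FunFld

universe u v w

variable {k : Type u} {K : Type v} {F : Type w} [Field k] [Field K] [Field F] [Algebra k K]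
  [Algebra k F]

/-- The coefficientwise extension of a derivation of the coefficient field. -/
noncomputable def mapDer (d : Derivation k F F) (ξ : F⸨X⸩) : F⸨X⸩ := ξ.map d.toLinearMap

theorem coeff_mapDer (d : Derivation k F F) (ξ : F⸨X⸩) (n : ℤ) :
    (mapDer d ξ).coeff n = d (ξ.coeff n) := rfl

theorem support_mapDer (d : Derivation k F F) (ξ : F⸨X⸩) :
    (mapDer d ξ).support ⊆ ξ.support := by
  intro n hn
  rw [HahnSeries.mem_support] at hn ⊢
  intro h
  apply hn
  rw [coeff_mapDer, h, map_zero]

theorem mapDer_add (d : Derivation k F F) (ξ η : F⸨X⸩) :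
    mapDer d (ξ + η) = mapDer d ξ + mapDer d η := by
  ext n
  rw [HahnSeries.coeff_add, coeff_mapDer, coeff_mapDer, coeff_mapDer, HahnSeries.coeff_add, map_add]

theorem mapDer_mul (d : Derivation k F F) (ξ η : F⸨X⸩) :
    mapDer d (ξ * η) = ξ * mapDer d η + η * mapDer d ξ := by
  ext n
  rw [HahnSeries.coeff_add, coeff_mapDer, HahnSeries.coeff_mul,
    HahnSeries.coeff_mul_right' η.isPWO_support (support_mapDer d η), mul_comm η,
    HahnSeries.coeff_mul_left' ξ.isPWO_support (support_mapDer d ξ), map_sum,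
    ← Finset.sum_add_distrib]
  apply Finset.sum_congr rfl
  intro ij _
  rw [Derivation.leibniz, coeff_mapDer, coeff_mapDer, smul_eq_mul, smul_eq_mul]
  ring

theorem mapDer_C (d : Derivation k F F) (c : k) :
    mapDer d (HahnSeries.C (algebraMap k F c)) = 0 := by
  ext n
  rw [coeff_mapDer, HahnSeries.coeff_zero, HahnSeries.C_apply, HahnSeries.coeff_single]
  split_ifs
  · exact d.map_algebraMap c
  · exact map_zero d

/-- The `k`-derivation `z ↦ ∂(φ z)` (coefficientwise) of `K` into Laurent series. -/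
noncomputable def dCoef (φ : K →ₐ[k] F⸨X⸩) (d : Derivation k F F) :
    letI := φ.toRingHom.toAlgebra
    Derivation k K F⸨X⸩ :=
  letI := φ.toRingHom.toAlgebra
  { toFun := fun a => mapDer d (φ a)
    map_add' := fun a b => show mapDer d (φ (a + b)) = mapDer d (φ a) + mapDer d (φ b) by
      rw [map_add, mapDer_add]
    map_smul' := fun c a => show mapDer d (φ (c • a)) = c • mapDer d (φ a) by
      rw [Algebra.smul_def, map_mul, mapDer_mul, LocRes.map_algebraMap, mapDer_C, mul_zero,
        add_zero, smul_eq_C_mul]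
    map_one_eq_zero' := show mapDer d (φ 1) = 0 by
      rw [map_one]
      have := mapDer_C (F := F) d (1 : k)
      rwa [map_one, map_one] at this
    leibniz' := fun a b => show mapDer d (φ (a * b)) = φ a * mapDer d (φ b) + φ b * mapDer d (φ a) by
      rw [map_mul, mapDer_mul] }

/-- The chain rule through a one-dimensional module of differentials, for any derivation into Laurent
series. -/
theorem der_map_of_smul (φ : K →ₐ[k] F⸨X⸩)
    (δ : letI := φ.toRingHom.toAlgebra; Derivation k K F⸨X⸩) {x z g : K}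
    (h : KaehlerDifferential.D k K z = g • KaehlerDifferential.D k K x) :
    δ z = φ g * δ x := by
  let _i := φ.toRingHom.toAlgebra
  have _t : IsScalarTower k K F⸨X⸩ := LocRes.isScalarTower_exp φ
  have h1 := congrArg δ.liftKaehlerDifferential h
  rw [map_smul, Derivation.liftKaehlerDifferential_comp_D,
    Derivation.liftKaehlerDifferential_comp_D] at h1
  exact h1

theorem dCoef_apply (φ : K →ₐ[k] F⸨X⸩) (d : Derivation k F F) (z : K) :
    letI := φ.toRingHom.toAlgebra
    dCoef φ d z = mapDer d (φ z) := rfl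

/-- the differential of a uniformizer does not vanish through an expansion -/
theorem D_uniformizer_coeff {w : Valuation K (WithZero (Multiplicative ℤ))} {φ : K →ₐ[k] F⸨X⸩}
    (hφ : LocRes.IsExpansionAt w φ) {t : K} (ht : w t = WithZero.exp (-1)) :
    (∀ n < 0, (LocRes.D F (φ t)).coeff n = 0) ∧ (LocRes.D F (φ t)).coeff 0 ≠ 0 ∧
      ∀ n < 1, (φ t).coeff n = 0 := by
  have h1 : Valued.v (φ t) = WithZero.exp (-(1 : ℤ)) := by rw [hφ.1, ht]
  obtain ⟨h2, h3⟩ := LR.val_eq_exp_iff.mp h1
  refine ⟨?_, ?_, h2⟩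
  · intro n hn
    rw [LocRes.D_coeff, h2 (n + 1) (by omega), smul_zero]
  · rw [LocRes.D_coeff, zero_add, one_smul]
    exact h3

/-- Every `k`-derivation of the coefficient field of an expansion of a geometric function field
vanishes. -/
theorem derivation_eq_zero' (h1 : Module.finrank K (Ω[K⁄k]) = 1)
    {w : Valuation K (WithZero (Multiplicative ℤ))} {φ : K →ₐ[k] F⸨X⸩}
    (hφ : LocRes.IsExpansionAt w φ) (d : Derivation k F F) : d = 0 := by
  ext c
  show d c = 0
  obtain ⟨t, ht⟩ := hφ.2.2
  obtain ⟨f, hf1, hf2⟩ := hφ.2.1 c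
  obtain ⟨hD1, hD2, hD3⟩ := D_uniformizer_coeff hφ ht
  have hdt : KaehlerDifferential.D k K t ≠ 0 := by
    apply LR.D_ne_zero_of_map φ
    intro h0
    apply hD2
    rw [h0, HahnSeries.coeff_zero]
  obtain ⟨g, hgf⟩ := LR.exists_smul_D' h1 hdt f
  have e1 := der_map_of_smul φ (dCoef φ d) hgf
  have e2 := LR.D_map_of_smul φ hgf
  rw [dCoef_apply, dCoef_apply] at e1
  have hcross : mapDer d (φ f) * LocRes.D F (φ t) = LocRes.D F (φ f) * mapDer d (φ t) := by
    rw [e1, e2]; ring
  have hf0 : ∀ n < 0, (φ f).coeff n = 0 := by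
    have : Valued.v (φ f) ≤ WithZero.exp (-(0 : ℤ)) := by
      rw [hφ.1, neg_zero, WithZero.exp_zero]; exact hf1
    exact LR.val_le_exp_iff.mp this
  have hmf0 : ∀ n < 0, (mapDer d (φ f)).coeff n = 0 := by
    intro n hn
    rw [coeff_mapDer, hf0 n hn, map_zero]
  have hDf0 : ∀ n < 0, (LocRes.D F (φ f)).coeff n = 0 := by
    intro n hn
    rw [LocRes.D_coeff]
    by_cases h : n + 1 < 0
    · rw [hf0 _ h, smul_zero]
    · have : n + 1 = 0 := by omega
      rw [this, zero_smul]
  have hmt1 : ∀ n < 1, (mapDer d (φ t)).coeff n = 0 := by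
    intro n hn
    rw [coeff_mapDer, hD3 n hn, map_zero]
  have hl := coeff_mul_add hmf0 hD1
  have hr := coeff_mul_eq_zero hDf0 hmt1 (show (0 : ℤ) < 0 + 1 by norm_num)
  rw [zero_add, hcross, hr, coeff_mapDer, hf2] at hl
  exact (mul_eq_zero.mp hl.symm).resolve_right hD2

/-- The coefficient field of an expansion of a geometric function field is separable over the
base field. -/
theorem isSeparable_coeffField' (h1 : Module.finrank K (Ω[K⁄k]) = 1)
    [FiniteDimensional k F]
    {w : Valuation K (WithZero (Multiplicative ℤ))} {φ : K →ₐ[k] F⸨X⸩}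
    (hφ : LocRes.IsExpansionAt w φ) : Algebra.IsSeparable k F := by
  have hsub : Subsingleton (Ω[F⁄k]) := by
    refine ⟨fun a b => ?_⟩
    have key : ∀ ω : Ω[F⁄k], ω = 0 := by
      intro ω
      rw [← Module.forall_dual_apply_eq_zero_iff F]
      intro ℓ
      have hd : ℓ.compDer (KaehlerDifferential.D k F) = 0 :=
        derivation_eq_zero' h1 hφ _
      have hspan : ω ∈ Submodule.span F (Set.range (KaehlerDifferential.D k F)) := by
        rw [KaehlerDifferential.span_range_derivation]; trivial
      induction hspan using Submodule.span_induction with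
      | mem x hx =>
        obtain ⟨c, rfl⟩ := hx
        have := congrArg (fun δ : Derivation k F F => δ c) hd
        exact this
      | zero => exact map_zero ℓ
      | add x y _ _ hx hy => rw [map_add, hx, hy, add_zero]
      | smul a x _ hx => rw [map_smul, hx, smul_zero]
    rw [key a, key b]
  haveI : Algebra.FormallyUnramified k F := ⟨hsub⟩
  exact Algebra.FormallyUnramified.isSeparable k F

/-- Non-vanishing of local residues: a nonzero Laurent series pairs non-trivially with the
expansions of elements of `K` of prescribed order. -/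
theorem exists_trace_coeff_ne_zero' (h1 : Module.finrank K (Ω[K⁄k]) = 1)
    [FiniteDimensional k F]
    {w : Valuation K (WithZero (Multiplicative ℤ))} {φ : K →ₐ[k] F⸨X⸩}
    (hφ : LocRes.IsExpansionAt w φ) {η : F⸨X⸩} {m : ℤ} (hη : ∀ n < m, η.coeff n = 0)
    (hm : η.coeff m ≠ 0) :
    ∃ y : K, w y = WithZero.exp (m + 1) ∧ Algebra.trace k F ((φ y * η).coeff (-1)) ≠ 0 := by
  haveI := isSeparable_coeffField' h1 hφ
  obtain ⟨c, hc⟩ := Algebra.trace_surjective k F (1 : k)
  obtain ⟨y, hy1, hy2⟩ := exists_leading hφ (-m - 1) (c / η.coeff m)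
  have hc0 : c ≠ 0 := by
    rintro rfl
    rw [map_zero] at hc
    exact zero_ne_one hc
  refine ⟨y, ?_, ?_⟩
  · rw [← hφ.1, show m + 1 = -(-m - 1) by ring]
    apply LR.val_eq_exp_iff.mpr
    refine ⟨hy1, ?_⟩
    rw [hy2]
    exact div_ne_zero hc0 hm
  · have := coeff_mul_add hy1 hη
    rw [show -m - 1 + m = -1 by ring] at this
    rw [this, hy2, div_mul_cancel₀ _ hm, hc]
    exact one_ne_zero

end Groth.Agent.Lib.Helper27.Tate

namespace Groth.Agent.Lib.Helper27.Tate

open LaurentSeries HahnSeries FunFld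

universe u v w

variable {k : Type u} {K : Type v} {F : Type w} [Field k] [Field K] [Field F] [Algebra k K]
  [Algebra k F]

/-- A nonzero differential stays nonzero through an expansion. -/
theorem D_map_ne_zero' (h1 : Module.finrank K (Ω[K⁄k]) = 1)
    {w : Valuation K (WithZero (Multiplicative ℤ))} {φ : K →ₐ[k] F⸨X⸩}
    (hφ : LocRes.IsExpansionAt w φ) {x : K} (hx : KaehlerDifferential.D k K x ≠ 0) :
    LocRes.D F (φ x) ≠ 0 := by
  obtain ⟨t, ht⟩ := hφ.2.2
  obtain ⟨-, hD2, -⟩ := D_uniformizer_coeff hφ ht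
  obtain ⟨g, hgt⟩ := LR.exists_smul_D' h1 hx t
  have e := LR.D_map_of_smul φ hgt
  intro h0
  apply hD2
  rw [e, h0, mul_zero, HahnSeries.coeff_zero]

/-- S12590 in library form. -/
theorem exists_locRes_ne_zero' (h1 : Module.finrank K (Ω[K⁄k]) = 1)
    [FiniteDimensional k F]
    {w : Valuation K (WithZero (Multiplicative ℤ))} {φ : K →ₐ[k] F⸨X⸩}
    (hφ : LocRes.IsExpansionAt w φ) {x : K} (hx : KaehlerDifferential.D k K x ≠ 0) :
    ∃ y : K, LocRes.locRes φ y x ≠ 0 := by
  have hη := D_map_ne_zero' h1 hφ hx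
  obtain ⟨y, -, hy⟩ := exists_trace_coeff_ne_zero' h1 hφ
    (fun n hn => HahnSeries.coeff_eq_zero_of_lt_order hn) (fun h => hη (HahnSeries.coeff_order_eq_zero.mp h))
  exact ⟨y, hy⟩

/-- Every `k`-derivation of the coefficient field of an expansion of a geometric function field
vanishes. -/
theorem derivation_eq_zero (hK : IsFunctionField k K) (hg : IsGeometric k K)
    {w : Valuation K (WithZero (Multiplicative ℤ))} {φ : K →ₐ[k] F⸨X⸩}
    (hφ : LocRes.IsExpansionAt w φ) (d : Derivation k F F) : d = 0 :=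
  derivation_eq_zero' (LR.finrank_kaehler hK hg) hφ d

/-- The coefficient field of an expansion of a geometric function field is separable over the
base field. -/
theorem isSeparable_coeffField (hK : IsFunctionField k K) (hg : IsGeometric k K)
    [FiniteDimensional k F]
    {w : Valuation K (WithZero (Multiplicative ℤ))} {φ : K →ₐ[k] F⸨X⸩}
    (hφ : LocRes.IsExpansionAt w φ) : Algebra.IsSeparable k F :=
  isSeparable_coeffField' (LR.finrank_kaehler hK hg) hφ

theorem exists_trace_coeff_ne_zero (hK : IsFunctionField k K) (hg : IsGeometric k K)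
    [FiniteDimensional k F]
    {w : Valuation K (WithZero (Multiplicative ℤ))} {φ : K →ₐ[k] F⸨X⸩}
    (hφ : LocRes.IsExpansionAt w φ) {η : F⸨X⸩} {m : ℤ} (hη : ∀ n < m, η.coeff n = 0)
    (hm : η.coeff m ≠ 0) :
    ∃ y : K, w y = WithZero.exp (m + 1) ∧ Algebra.trace k F ((φ y * η).coeff (-1)) ≠ 0 :=
  exists_trace_coeff_ne_zero' (LR.finrank_kaehler hK hg) hφ hη hm

/-- A nonzero differential stays nonzero through an expansion. -/
theorem D_map_ne_zero (hK : IsFunctionField k K) (hg : IsGeometric k K)
    {w : Valuation K (WithZero (Multiplicative ℤ))} {φ : K →ₐ[k] F⸨X⸩}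
    (hφ : LocRes.IsExpansionAt w φ) {x : K} (hx : KaehlerDifferential.D k K x ≠ 0) :
    LocRes.D F (φ x) ≠ 0 :=
  D_map_ne_zero' (LR.finrank_kaehler hK hg) hφ hx

/-- S12590 in library form. -/
theorem exists_locRes_ne_zero (hK : IsFunctionField k K) (hg : IsGeometric k K)
    [FiniteDimensional k F]
    {w : Valuation K (WithZero (Multiplicative ℤ))} {φ : K →ₐ[k] F⸨X⸩}
    (hφ : LocRes.IsExpansionAt w φ) {x : K} (hx : KaehlerDifferential.D k K x ≠ 0) :
    ∃ y : K, LocRes.locRes φ y x ≠ 0 :=
  exists_locRes_ne_zero' (LR.finrank_kaehler hK hg) hφ hx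


end Groth.Agent.Lib.Helper27.Tate
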