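import Groth.Agent.Lib.Helper27.FFExt5

/-! Function fields of one variable (helper27): finite extensions `K'/K`, part 6.
A `k`-endomorphism `τ` of `K` seen as a finite extension `K / τ(K)`. -/

set_option autoImplicit false

namespace Groth.Agent.Lib.Helper27.FF

open FunFld Polynomial IntermediateField

universe u v

variable {k : Type u} {K : Type v} [Field k] [Field K] [Algebra k K]

/-- `K` as an extension of itself via `τ`. -/
def Twist (_τ : K →ₐ[k] K) : Type v := K

namespace Twist

variable (τ : K →ₐ[k] K)

instance : Field (Twist τ) := inferInstanceAs (Field K)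
instance : Algebra k (Twist τ) := inferInstanceAs (Algebra k K)
instance algK : Algebra K (Twist τ) := τ.toRingHom.toAlgebra

instance : IsScalarTower k K (Twist τ) := by
  apply IsScalarTower.of_algebraMap_eq
  intro c
  exact (τ.commutes c).symm

theorem algebraMap_apply (x : K) : algebraMap K (Twist τ) x = τ x := rfl

theorem isFunctionField (hK : IsFunctionField k K) : IsFunctionField k (Twist τ) := hK

theorem finrank_eq : Module.finrank K (Twist τ) = Module.finrank τ.fieldRange K := by
  let i : K ≃+* τ.fieldRange := (AlgEquiv.ofInjectiveField τ).toRingEquiv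
  exact Algebra.finrank_eq_of_equiv_equiv i (RingEquiv.refl K) (by
    ext y
    rfl)

theorem finiteDimensional (hK : IsFunctionField k K) : FiniteDimensional K (Twist τ) := by
  apply Module.finite_of_finrank_pos
  rw [finrank_eq]
  obtain ⟨⟨x, hx, -⟩, -⟩ := id hK
  have hτx : Transcendental k (τ x) := by
    intro halg
    apply hx
    obtain ⟨p, hp0, hp⟩ := halg
    refine ⟨p, hp0, ?_⟩
    rw [Polynomial.aeval_algHom_apply] at hp
    apply τ.toRingHom.injective
    rw [map_zero]
    exact hp
  haveI := finiteDimensional_adjoin hK hτx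
  have hle : k⟮τ x⟯ ≤ τ.fieldRange := by
    rw [adjoin_le_iff]
    intro y hy
    rw [Set.mem_singleton_iff] at hy
    subst hy
    exact ⟨x, rfl⟩
  have h1 := IntermediateField.relfinrank_mul_finrank_top hle
  have h2 : 0 < Module.finrank k⟮τ x⟯ K := Module.finrank_pos
  rw [← h1] at h2
  exact Nat.pos_of_ne_zero (fun h0 => by rw [h0, mul_zero] at h2; exact lt_irrefl _ h2)

end Twist

/-- S11052: `deg τ(φ) = [K : τ K] deg φ`. -/
theorem deg_mapDiv_comp_algHom (hK : IsFunctionField k K) (τ : K →ₐ[k] K) {ι : Type*}
    [Fintype ι] [Nonempty ι] (φ : ι → K) :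
    (mapDiv k (τ ∘ φ)).deg = Module.finrank τ.fieldRange K * (mapDiv k φ).deg := by
  haveI := Twist.finiteDimensional τ hK
  have h1 := mapDiv_algebraMap (K' := Twist τ) hK (Twist.isFunctionField τ hK) φ
  have h2 := deg_conorm (K' := Twist τ) hK (mapDiv k φ)
  rw [← h1, Twist.finrank_eq] at h2
  exact h2

end Groth.Agent.Lib.Helper27.FF
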