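import Groth.Agent.Lib.Helper27.FFExt4
import Groth.Prelude.Def_W4bk4goldsch45

/-! Function fields of one variable (helper27): finite extensions `K'/K`, part 5.
The divisor of a projective map under extension of the function field. -/

set_option autoImplicit false

namespace Groth.Agent.Lib.Helper27.FF

open FunFld Polynomial IntermediateField

universe u v w

section MapDiv

variable {k : Type u} {K : Type v} [Field k] [Field K] [Algebra k K]

theorem mapDiv_support_finite' (hK : IsFunctionField k K) {ι : Type*} [Fintype ι] [Nonempty ι]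
    (φ : ι → K) :
    (Function.support fun P : Place k K =>
      -Finset.univ.inf' Finset.univ_nonempty (fun i => P.ord (φ i))).Finite := by
  classical
  refine Set.Finite.subset (Set.finite_iUnion (fun i => finite_support_ord hK (φ i))) ?_
  intro Q hQ
  rw [Function.mem_support] at hQ
  obtain ⟨i, -, hi⟩ := Finset.exists_mem_eq_inf' Finset.univ_nonempty (fun i => Q.ord (φ i))
  rw [Set.mem_iUnion]
  refine ⟨i, ?_⟩
  rw [Function.mem_support]
  intro h0
  apply hQ
  rw [hi, h0, neg_zero]

theorem mapDiv_apply' (hK : IsFunctionField k K) {ι : Type*} [Fintype ι] [Nonempty ι]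
    (φ : ι → K) (Q : Place k K) :
    mapDiv k φ Q = -Finset.univ.inf' Finset.univ_nonempty (fun i => Q.ord (φ i)) := by
  unfold mapDiv
  rw [dif_pos (mapDiv_support_finite' hK φ)]
  rfl

theorem inf'_nat_mul {ι : Type*} [Fintype ι] [Nonempty ι] (e : ℕ) (a : ι → ℤ) :
    Finset.univ.inf' Finset.univ_nonempty (fun i => (e : ℤ) * a i) =
      (e : ℤ) * Finset.univ.inf' Finset.univ_nonempty a := by
  obtain ⟨i₀, -, hi₀⟩ := Finset.exists_mem_eq_inf' Finset.univ_nonempty a
  have hmin : ∀ i, a i₀ ≤ a i := by
    intro i
    rw [← hi₀]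
    exact Finset.inf'_le _ (Finset.mem_univ i)
  rw [hi₀]
  apply le_antisymm
  · exact Finset.inf'_le (fun i => (e : ℤ) * a i) (Finset.mem_univ i₀)
  · apply Finset.le_inf'
    intro i _
    exact mul_le_mul_of_nonneg_left (hmin i) (Int.natCast_nonneg e)

end MapDiv

variable {k : Type u} {K : Type v} {K' : Type w} [Field k] [Field K] [Field K'] [Algebra k K]
  [Algebra K K'] [Algebra k K'] [IsScalarTower k K K']

/-- the divisor of a projective map in an extension is the conorm. -/
theorem mapDiv_algebraMap (hK : IsFunctionField k K) (hK' : IsFunctionField k K')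
    [FiniteDimensional K K'] {ι : Type*} [Fintype ι] [Nonempty ι] (φ : ι → K) :
    mapDiv k (fun i => algebraMap K K' (φ i)) = conorm K' (mapDiv k φ) := by
  ext Q
  obtain ⟨P, e, he⟩ := exists_isOverWith hK Q
  rw [mapDiv_apply' hK', conorm_apply hK _ ⟨e, he⟩, ramIdx_eq he, mapDiv_apply' hK]
  have : (fun i => Q.ord (algebraMap K K' (φ i))) = fun i => (e : ℤ) * P.ord (φ i) := by
    funext i
    exact isOverWith_ord_eq he (φ i)
  rw [this, inf'_nat_mul]
  ring

end Groth.Agent.Lib.Helper27.FF
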