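import Groth.Agent.Lib.Helper27.FunFld16

/-! Function fields of one variable (helper27), part 17: genus zero, characteristic zero:
the pencil `⟨1, t^N⟩` has no double points away from `0, ∞`; cusps. -/

set_option autoImplicit false

namespace Groth.Agent.Lib.Helper27.FF

open FunFld Polynomial IntermediateField

universe u v

variable {k : Type u} {K : Type v} [Field k] [Field K] [Algebra k K]

theorem div_one' (hK : IsFunctionField k K) : FunFld.div k (1 : K) = 0 := (core_of hK).div_one

theorem div_pow' (hK : IsFunctionField k K) {t : K} (ht : t ≠ 0) (N : ℕ) :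
    FunFld.div k (t ^ N) = (N : ℤ) • FunFld.div k t := by
  induction N with
  | zero => simp [div_one' hK]
  | succ N ih =>
    rw [pow_succ, div_mul' hK (pow_ne_zero N ht) ht, ih]
    push_cast
    rw [add_smul, one_smul]

/-- An element with divisor zero is a nonzero constant. -/
theorem eq_const_of_div_eq_zero (hK : IsFunctionField k K) {h : K} (hh : h ≠ 0)
    (hdiv : FunFld.div k h = 0) : ∃ c : k, c ≠ 0 ∧ h = algebraMap k K c := by
  have hmem : h ∈ L (0 : Divisor k K) := by
    intro P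
    rw [val_eq_exp_neg_div' hK hh, hdiv]
    simp
  rw [L_zero hK, Submodule.mem_one] at hmem
  obtain ⟨c, rfl⟩ := hmem
  refine ⟨c, ?_, rfl⟩
  rintro rfl
  simp at hh

/-- An element with a unique, simple pole `P'` (of degree one) and a zero `R₀` has divisor
`R₀ - P'`. -/
theorem div_eq_of_simple_pole_of_zero (hK : IsFunctionField k K) {y : K} {P' R₀ : Place k K}
    (hP'd : P'.deg = 1) (hP' : P'.ord y = -1) (hR : ∀ R : Place k K, R ≠ P' → 0 ≤ R.ord y)
    (hR₀ : 0 < R₀.ord y) :
    FunFld.div k y = Finsupp.single R₀ 1 - Finsupp.single P' 1 := by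
  have hR₀P' : R₀ ≠ P' := by
    rintro rfl
    rw [hP'] at hR₀
    exact absurd hR₀ (by decide)
  have hE : (0 : Divisor k K) ≤ FunFld.div k y + Finsupp.single P' 1 := by
    intro R
    rw [Finsupp.add_apply, div_apply' hK]
    by_cases hRP : R = P'
    · subst hRP
      rw [hP', Finsupp.single_eq_same]; simp
    · rw [Finsupp.single_eq_of_ne hRP, add_zero]
      exact hR R hRP
  have hdeg : (FunFld.div k y + Finsupp.single P' 1).deg = 1 := by
    rw [deg_add, deg_div hK, deg_single, hP'd]; norm_num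
  obtain ⟨R, -, hRe⟩ := eq_single_of_nonneg_of_deg_eq_one hK hE hdeg
  have h1 : (FunFld.div k y + Finsupp.single P' 1 : Divisor k K) R₀ = R₀.ord y := by
    rw [Finsupp.add_apply, div_apply' hK, Finsupp.single_eq_of_ne hR₀P', add_zero]
  have hRR₀ : R₀ = R := by
    by_contra hne
    rw [hRe, Finsupp.single_eq_of_ne hne] at h1
    omega
  subst hRR₀
  rw [← hRe]; abel

/-- In genus zero any two distinct places of degree one differ by a principal divisor. -/
theorem exists_div_eq_single_sub_single (hK : IsFunctionField k K) (hg : genus k K = 0)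
    {P P' : Place k K} (hPd : P.deg = 1) (hP'd : P'.deg = 1) (hPP' : P ≠ P') :
    ∃ t : K, t ≠ 0 ∧ FunFld.div k t = Finsupp.single P 1 - Finsupp.single P' 1 := by
  obtain ⟨x, hx1, hx2⟩ := exists_simple_pole_of_genus_zero hK hg hP'd
  have hx0 : x ≠ 0 := ne_zero_of_ord_ne_zero (P := P') (by rw [hx1]; decide)
  have hxP : P.1 x ≤ 1 := (val_le_one_iff P hx0).mpr (hx2 P hPP')
  obtain ⟨c, hc⟩ := exists_const_sub_lt P hPd hxP
  have hvP' : P'.1 x = WithZero.exp (1 : ℤ) := by
    rw [val_eq_exp_neg_ord P' hx0, hx1]; rfl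
  have hcP' : P'.1 (algebraMap k K c) < P'.1 x := by
    rw [hvP']
    exact lt_of_le_of_lt (P'.2.1 c) (by rw [← WithZero.exp_zero, WithZero.exp_lt_exp]; norm_num)
  have hvt : P'.1 (x - algebraMap k K c) = WithZero.exp (1 : ℤ) := by
    rw [← hvP']
    exact Valuation.map_sub_eq_of_lt_left _ hcP'
  have ht0 : x - algebraMap k K c ≠ 0 := by
    intro h0
    rw [h0, map_zero] at hvt
    exact WithZero.exp_ne_zero hvt.symm
  refine ⟨x - algebraMap k K c, ht0, ?_⟩
  apply div_eq_of_simple_pole_of_zero hK hP'd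
  · rw [ord_eq_iff P' ht0, hvt]; rfl
  · intro R hR
    rw [← val_le_one_iff R ht0]
    have h1 : R.1 x ≤ 1 := (val_le_one_iff R hx0).mpr (hx2 R hR)
    exact (R.1.map_sub _ _).trans (max_le h1 (R.2.1 c))
  · exact (val_lt_one_iff P ht0).mp hc

/-- The geometric sum `∑ t^i t₀^(N-1-i)` is a unit at a place where `t ≡ t₀ ≠ 0`, in
characteristic zero. -/
theorem val_geom_sum_eq_one [CharZero k] (Q : Place k K) {t : K} {t₀ : k} (ht₀ : t₀ ≠ 0)
    (htQ : Q.1 t ≤ 1) (hlt : Q.1 (t - algebraMap k K t₀) < 1) {N : ℕ} (hN : 1 ≤ N) :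
    Q.1 (∑ i ∈ Finset.range N, t ^ i * (algebraMap k K t₀) ^ (N - 1 - i)) = 1 := by
  let T : Q.O := ⟨t, htQ⟩
  let C₀ : Q.O := algebraMap k Q.O t₀
  have hres : IsLocalRing.residue Q.O T = IsLocalRing.residue Q.O C₀ := by
    rw [← sub_eq_zero, ← map_sub, Groth.Agent.Lib.Helper23.FF.residue_eq_zero_iff]
    exact hlt
  let S : Q.O := ∑ i ∈ Finset.range N, T ^ i * C₀ ^ (N - 1 - i)
  have hS : (S : K) = ∑ i ∈ Finset.range N, t ^ i * (algebraMap k K t₀) ^ (N - 1 - i) := by
    show ((∑ i ∈ Finset.range N, T ^ i * C₀ ^ (N - 1 - i) : Q.O) : K) = _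
    push_cast
    rfl
  have hresS : IsLocalRing.residue Q.O S =
      algebraMap k (IsLocalRing.ResidueField Q.O) ((N : k) * t₀ ^ (N - 1)) := by
    show IsLocalRing.residue Q.O (∑ i ∈ Finset.range N, T ^ i * C₀ ^ (N - 1 - i)) = _
    rw [map_sum]
    simp only [map_mul, map_pow, hres]
    rw [geom_sum₂_self]
    have : IsLocalRing.residue Q.O C₀ = algebraMap k (IsLocalRing.ResidueField Q.O) t₀ := rfl
    rw [this, map_natCast]
  have hne : IsLocalRing.residue Q.O S ≠ 0 := by
    rw [hresS]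
    intro h0
    have := (map_eq_zero_iff _ (algebraMap k (IsLocalRing.ResidueField Q.O)).injective).mp h0
    rcases mul_eq_zero.mp this with h1 | h1
    · have : (N : k) ≠ 0 := by exact_mod_cast (by omega : N ≠ 0)
      exact this h1
    · exact pow_ne_zero _ ht₀ h1
  rw [← hS]
  have h1 : ¬ Q.1 (S : K) < 1 := fun h =>
    hne ((Groth.Agent.Lib.Helper23.FF.residue_eq_zero_iff Q S).mpr h)
  exact le_antisymm S.2 (not_lt.mp h1)

end Groth.Agent.Lib.Helper27.FF
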