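import Groth.Agent.Lib.Helper27.FunFld7
import Groth.Agent.Lib.Helper27.FunFld6
import Groth.Agent.Lib.Helper23.FF3b

/-! Function fields of one variable (helper27), part 8: linear equivalence, Riemann's theorem
(boundedness of `deg D + 1 - ℓ(D)`, genus attained) from a bound along multiples of one divisor. -/

set_option autoImplicit false

namespace Groth.Agent.Lib.Helper27.FF

open FunFld Polynomial

universe u v

variable {k : Type u} {K : Type v} [Field k] [Field K] [Algebra k K]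

theorem finite_support_ord (hK : IsFunctionField k K) (x : K) :
    (Function.support fun P : Place k K => P.ord x).Finite :=
  Groth.Agent.Lib.Helper23.FF.finite_support_ord hK x

theorem div_apply' (hK : IsFunctionField k K) (x : K) (P : Place k K) :
    FunFld.div k x P = P.ord x := by
  unfold FunFld.div
  rw [dif_pos (finite_support_ord hK x)]
  rfl

theorem val_eq_exp_neg_div' (hK : IsFunctionField k K) {x : K} (hx : x ≠ 0) (P : Place k K) :
    P.1 x = WithZero.exp (-(FunFld.div k x P)) := by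
  rw [div_apply' hK, val_eq_exp_neg_ord P hx]

theorem div_inv' (hK : IsFunctionField k K) (x : K) : FunFld.div k x⁻¹ = -FunFld.div k x := by
  ext P
  rw [Finsupp.neg_apply, div_apply' hK, div_apply' hK, ord_inv]

/-- S11015. -/
theorem mul_mem_L_iff (hK : IsFunctionField k K) (D : Divisor k K) (x y : K) (hx : x ≠ 0) :
    x * y ∈ L D ↔ y ∈ L (D + FunFld.div k x) := by
  have key : ∀ P : Place k K, P.1 (x * y) ≤ WithZero.exp (D P) ↔
      P.1 y ≤ WithZero.exp ((D + FunFld.div k x) P) := by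
    intro P
    rw [map_mul, val_eq_exp_neg_div' hK hx P, Finsupp.add_apply, WithZero.exp_add,
      WithZero.exp_neg]
    have hpos : (0 : WithZero (Multiplicative ℤ)) < WithZero.exp (FunFld.div k x P) :=
      WithZero.exp_pos
    rw [inv_mul_le_iff₀ hpos, mul_comm]
  exact ⟨fun h P => (key P).mp (h P), fun h P => (key P).mpr (h P)⟩

/-- Multiplication by `x` as a linear equivalence `L(D + (x)) ≃ L(D)`. -/
noncomputable def LEquiv (hK : IsFunctionField k K) (D : Divisor k K) {x : K} (hx : x ≠ 0) :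
    ↥(L (D + FunFld.div k x)) ≃ₗ[k] ↥(L D) where
  toFun y := ⟨x * y.1, (mul_mem_L_iff hK D x y.1 hx).mpr y.2⟩
  map_add' y z := by
    apply Subtype.ext
    show x * (y.1 + z.1) = x * y.1 + x * z.1
    ring
  map_smul' c y := by
    apply Subtype.ext
    show x * (c • y.1) = c • (x * y.1)
    rw [mul_smul_comm]
  invFun y := ⟨x⁻¹ * y.1, (mul_mem_L_iff hK D x _ hx).mp (by
    rw [← mul_assoc, mul_inv_cancel₀ hx, one_mul]; exact y.2)⟩
  left_inv y := by
    apply Subtype.ext
    show x⁻¹ * (x * y.1) = y.1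
    rw [← mul_assoc, inv_mul_cancel₀ hx, one_mul]
  right_inv y := by
    apply Subtype.ext
    show x * (x⁻¹ * y.1) = y.1
    rw [← mul_assoc, mul_inv_cancel₀ hx, one_mul]

theorem ell_add_div (hK : IsFunctionField k K) (D : Divisor k K) {x : K} (hx : x ≠ 0) :
    ell (D + FunFld.div k x) = ell D :=
  (LEquiv hK D hx).finrank_eq

theorem le_div_of_mem_L' (hK : IsFunctionField k K) {D : Divisor k K} {x : K} (hx0 : x ≠ 0)
    (hx : x ∈ L D) : 0 ≤ D + FunFld.div k x := by
  intro P
  have := hx P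
  rw [val_eq_exp_neg_div' hK hx0, WithZero.exp_le_exp] at this
  rw [Finsupp.add_apply]
  show (0 : ℤ) ≤ _
  linarith

theorem exists_ne_zero_of_ell_pos' {D : Divisor k K} (h : 0 < ell D) :
    ∃ x : K, x ≠ 0 ∧ x ∈ L D := by
  obtain ⟨y, hy, hy0⟩ := exists_ne_zero_of_finrank_pos _ h
  exact ⟨y, hy0, hy⟩

theorem ell_sub_ell_le (hK : IsFunctionField k K) {D₁ D₂ : Divisor k K} (h : D₁ ≤ D₂) :
    (ell D₂ : ℤ) - ell D₁ ≤ D₂.deg - D₁.deg :=
  Groth.Agent.Lib.Helper23.FF.ell_sub_ell_le hK D₁ D₂ h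

theorem ell_zero' (hK : IsFunctionField k K) : ell (0 : Divisor k K) = 1 := by
  unfold ell
  rw [L_zero hK, Submodule.one_eq_span]
  exact finrank_span_singleton one_ne_zero

/-- `δ(D) = deg D + 1 - ℓ(D)`. -/
noncomputable def delta (D : Divisor k K) : ℤ := D.deg + 1 - (ell D : ℤ)

theorem delta_mono (hK : IsFunctionField k K) {D₁ D₂ : Divisor k K} (h : D₁ ≤ D₂) :
    delta D₁ ≤ delta D₂ := by
  have := ell_sub_ell_le hK h
  unfold delta
  linarith

theorem delta_add_div (hK : IsFunctionField k K) (hdeg : ∀ z : K, (FunFld.div k z).deg = 0)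
    (D : Divisor k K) {x : K} (hx : x ≠ 0) : delta (D + FunFld.div k x) = delta D := by
  unfold delta
  rw [deg_add, hdeg, ell_add_div hK D hx, add_zero]

theorem delta_zero (hK : IsFunctionField k K) : delta (0 : Divisor k K) = 0 := by
  unfold delta
  rw [deg_zero, ell_zero' hK]
  simp

/-- Riemann's theorem, main step: a bound along multiples of `B` bounds `δ` everywhere. -/
theorem delta_le_of_bound (hK : IsFunctionField k K) (hdeg : ∀ z : K, (FunFld.div k z).deg = 0)
    {B : Divisor k K} {γ : ℤ} (hBpos : 0 < B.deg)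
    (hB : ∀ l : ℕ, delta ((l : ℤ) • B) ≤ γ) (A : Divisor k K) : delta A ≤ γ := by
  set A₁ : Divisor k K := A ⊔ 0 with hA₁
  have hAA₁ : A ≤ A₁ := le_sup_left
  have hA₁0 : 0 ≤ A₁ := le_sup_right
  refine (delta_mono hK hAA₁).trans ?_
  -- choose l large
  set l : ℕ := (γ + A₁.deg).toNat with hl
  have hlge : γ + A₁.deg ≤ (l : ℤ) := Int.self_le_toNat _
  have hdegl : (((l : ℤ) • B : Divisor k K)).deg = l * B.deg := by
    have : ((l : ℤ) • B : Divisor k K) = (l : ℕ) • B := by simp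
    rw [this]
    clear this hlge hl
    induction l with
    | zero => simp [deg_zero]
    | succ m ih => rw [succ_nsmul, deg_add, ih]; push_cast; ring
  have h1 := hB l
  have h2 : ((l : ℤ) • B - A₁ : Divisor k K) ≤ (l : ℤ) • B := sub_le_self _ hA₁0
  have h3 := ell_sub_ell_le hK h2
  rw [deg_sub] at h3
  unfold delta at h1
  rw [hdegl] at h1 h3
  have hpos : 0 < ell ((l : ℤ) • B - A₁) := by
    have hlB : (l : ℤ) ≤ l * B.deg := by nlinarith [Int.natCast_nonneg l]
    have : (0 : ℤ) < ell ((l : ℤ) • B - A₁) := by linarith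
    exact_mod_cast this
  obtain ⟨z, hz0, hz⟩ := exists_ne_zero_of_ell_pos' hpos
  have hnn := le_div_of_mem_L' hK hz0 hz
  -- D := A₁ + div z⁻¹ ≤ l B
  have hD : A₁ + FunFld.div k z⁻¹ ≤ (l : ℤ) • B := by
    rw [div_inv' hK]
    have : (0 : Divisor k K) ≤ (l : ℤ) • B - (A₁ + -FunFld.div k z) := by
      have e : (l : ℤ) • B - (A₁ + -FunFld.div k z) = (l : ℤ) • B - A₁ + FunFld.div k z := by abel
      rw [e]; exact hnn
    exact sub_nonneg.mp this
  have hzinv : z⁻¹ ≠ 0 := inv_ne_zero hz0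
  calc delta A₁ = delta (A₁ + FunFld.div k z⁻¹) := (delta_add_div hK hdeg A₁ hzinv).symm
    _ ≤ delta ((l : ℤ) • B) := delta_mono hK hD
    _ ≤ γ := hB l

/-- Riemann's theorem (S10982) from a uniform bound on `δ`. -/
theorem riemann_of_bound (hK : IsFunctionField k K) (hdeg : ∀ z : K, (FunFld.div k z).deg = 0)
    {γ : ℤ} (hγ : ∀ A : Divisor k K, delta A ≤ γ) :
    (∀ D : Divisor k K, D.deg + 1 - (ell D : ℤ) ≤ genus k K) ∧
    ∃ N : ℤ, ∀ D : Divisor k K, N ≤ D.deg → D.deg + 1 - (ell D : ℤ) = genus k K := by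
  set S : Set ℕ := Set.range fun D : Divisor k K => (D.deg + 1 - (ell D : ℤ)).toNat with hS
  have hg : genus k K = sSup S := rfl
  have hbdd : BddAbove S := by
    refine ⟨γ.toNat, ?_⟩
    rintro _ ⟨D, rfl⟩
    exact Int.toNat_le_toNat (hγ D)
  have hne : S.Nonempty := ⟨_, ⟨0, rfl⟩⟩
  have ha : ∀ D : Divisor k K, D.deg + 1 - (ell D : ℤ) ≤ genus k K := by
    intro D
    have h1 : (D.deg + 1 - (ell D : ℤ)).toNat ≤ sSup S := le_csSup hbdd ⟨D, rfl⟩
    have h2 := Int.self_le_toNat (D.deg + 1 - (ell D : ℤ))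
    rw [hg]
    have : ((D.deg + 1 - (ell D : ℤ)).toNat : ℤ) ≤ (sSup S : ℕ) := by exact_mod_cast h1
    linarith
  refine ⟨ha, ?_⟩
  -- genus is attained
  have hatt : ∃ A₀ : Divisor k K, delta A₀ = genus k K := by
    obtain ⟨A₀, hA₀⟩ := Nat.sSup_mem hne hbdd
    by_cases hnn : 0 ≤ A₀.deg + 1 - (ell A₀ : ℤ)
    · refine ⟨A₀, ?_⟩
      unfold delta
      rw [hg, ← hA₀]
      exact (Int.toNat_of_nonneg hnn).symm
    · refine ⟨0, ?_⟩
      rw [delta_zero hK, hg, ← hA₀]
      have : (A₀.deg + 1 - (ell A₀ : ℤ)).toNat = 0 := by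
        rw [Int.toNat_eq_zero]; omega
      simp [this]
  obtain ⟨A₀, hA₀⟩ := hatt
  refine ⟨A₀.deg + genus k K, fun A hA => ?_⟩
  have h1 := ha (A - A₀)
  rw [deg_sub] at h1
  have hpos : 0 < ell (A - A₀) := by
    have : (0 : ℤ) < ell (A - A₀) := by linarith
    exact_mod_cast this
  obtain ⟨z, hz0, hz⟩ := exists_ne_zero_of_ell_pos' hpos
  have hnn := le_div_of_mem_L' hK hz0 hz
  have hle : A₀ ≤ A + FunFld.div k z := by
    have e : A + FunFld.div k z - A₀ = A - A₀ + FunFld.div k z := by abel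
    have : (0 : Divisor k K) ≤ A + FunFld.div k z - A₀ := by rw [e]; exact hnn
    exact sub_nonneg.mp this
  have h2 := delta_mono hK hle
  rw [delta_add_div hK hdeg A hz0, hA₀] at h2
  have h3 := ha A
  unfold delta at h2
  linarith

end Groth.Agent.Lib.Helper27.FF
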