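import Mathlib
import Groth.Agent.Lib.Helper27.HD14

/-! Hasse families, part 15: the order at a fixed place of the Wronskian-type determinant of an
adapted tuple. -/

set_option autoImplicit false

namespace Groth.Agent.Lib.Helper27.HD

open FunFld PowerSeries IntermediateField

universe u v
variable {k : Type u} {K : Type v} [Field k] [Field K] [Algebra k K]

theorem prod_exp {ι : Type*} (s : Finset ι) (f : ι → ℤ) :
    ∏ i ∈ s, WithZero.exp (f i) = WithZero.exp (∑ i ∈ s, f i) := by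
  classical
  induction s using Finset.induction_on with
  | empty => simp
  | insert a s ha ih => rw [Finset.prod_insert ha, Finset.sum_insert ha, ih, WithZero.exp_add]

/-- Extension of an index sequence by a leading `0`. -/
def ext0 {n : ℕ} (J : Fin n → ℕ) : Fin (n + 1) → ℕ :=
  fun r => Fin.cases (motive := fun _ => ℕ) 0 J r

@[simp] theorem ext0_zero {n : ℕ} (J : Fin n → ℕ) : ext0 J 0 = 0 := rfl
@[simp] theorem ext0_succ {n : ℕ} (J : Fin n → ℕ) (l : Fin n) : ext0 J l.succ = J l := rfl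

theorem sum_ext0 {n : ℕ} (J : Fin n → ℕ) : ∑ r, (ext0 J r : ℤ) = ∑ l, (J l : ℤ) := by
  rw [Fin.sum_univ_succ]; simp

section Main

variable [IsAlgClosed k] (hK : IsFunctionField k K) (P : Place k K) {t : K}
  (ht : P.1 t = WithZero.exp (-1)) {Ht : K →ₐ[k] PowerSeries K}
  (hHt : LocRes.IsHasseFamily t Ht) (τ : K →ₐ[k] K) (hP : IsFixedPt τ P)
  {n : ℕ} (ψ : Fin (n + 1) → K) (J I : Fin n → ℕ)
  (hψ : ∀ r, P.1 (ψ r) = WithZero.exp (-(ext0 J r : ℤ)) ∧ evalP P (ψ r / t ^ ext0 J r) = 1)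

/-- The normalized matrix. -/
noncomputable def normMat (t : K) (Ht : K →ₐ[k] PowerSeries K) (τ : K →ₐ[k] K) {n : ℕ}
    (ψ : Fin (n + 1) → K) (J I : Fin n → ℕ) : Matrix (Fin (n + 1)) (Fin (n + 1)) K :=
  Matrix.of fun r s => wrMat τ Ht ψ I r s * t ^ ext0 I s / t ^ ext0 J r

include ht in
theorem det_wrMat_eq_normMat :
    (∏ s, t ^ ext0 I s) * (wrMat τ Ht ψ I).det = (∏ r, t ^ ext0 J r) * (normMat t Ht τ ψ J I).det := by
  have ht0 : t ≠ 0 := Expand.t_ne_zero ht
  rw [← Matrix.det_mul_row, ← Matrix.det_mul_column]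
  congr 1
  ext r s
  simp only [Matrix.of_apply, normMat]
  field_simp

include hK ht hψ in
theorem coeff_psi (r : Fin (n + 1)) : (exp hK P ht (ψ r)).coeff (ext0 J r : ℤ) = 1 := by
  have h1 : P.1 (ψ r / t ^ ext0 J r) ≤ 1 := by
    rw [map_div₀, (hψ r).1, map_pow, ht, ← WithZero.exp_nsmul]
    simp
  have h2 := evalP_eq_exp hK P ht h1
  rw [(hψ r).2, coeff_zero_div_pow] at h2
  have hinj : Function.Injective (algebraMap k (IsLocalRing.ResidueField P.O)) :=
    (algebraMap k (IsLocalRing.ResidueField P.O)).injective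
  exact (hinj (by rw [map_one]; exact h2)).symm

include hK ht hHt hψ in
theorem normMat_succ (r : Fin (n + 1)) (l : Fin n) :
    P.1 (normMat t Ht τ ψ J I r l.succ) ≤ 1 ∧
      evalP P (normMat t Ht τ ψ J I r l.succ) =
        (((ext0 J r).choose (I l) : ℕ) : IsLocalRing.ResidueField P.O) := by
  haveI := isSeparable_var hK hHt
  have hE := isExpansionAt_exp hK P ht
  have hψr : P.1 (ψ r) ≤ 1 := by
    rw [(hψ r).1, ← WithZero.exp_zero, WithZero.exp_le_exp]; omega
  set z : K := LocRes.hasseD Ht (I l) (ψ r) * t ^ I l with hz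
  have hN : normMat t Ht τ ψ J I r l.succ = z / t ^ ext0 J r := by
    simp only [normMat, Matrix.of_apply, wrMat, ext0_succ, hz]
    rfl
  have hzval : P.1 z ≤ WithZero.exp (-(ext0 J r : ℤ)) := by
    rw [hz, map_mul, map_pow, ht, ← WithZero.exp_nsmul]
    have h1 := val_hasseD_le' hK P ht hHt (hψ r).1.le (I l)
    calc P.1 (LocRes.hasseD Ht (I l) (ψ r)) * WithZero.exp (I l • (-1 : ℤ))
        ≤ WithZero.exp (-((ext0 J r : ℤ) - I l)) * WithZero.exp (I l • (-1 : ℤ)) := by gcongr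
      _ = WithZero.exp (-(ext0 J r : ℤ)) := by
        rw [← WithZero.exp_add]; congr 1; simp; ring
  have hNle : P.1 (z / t ^ ext0 J r) ≤ 1 := by
    rw [map_div₀, map_pow, ht, ← WithZero.exp_nsmul, div_le_iff₀ WithZero.exp_pos, one_mul]
    refine hzval.trans (le_of_eq ?_)
    congr 1; simp
  refine ⟨by rw [hN]; exact hNle, ?_⟩
  rw [hN, evalP_eq_exp hK P ht hNle, coeff_zero_div_pow]
  have hEz : exp hK P ht z =
      LaurentSeries.hasseDeriv k (I l) (exp hK P ht (ψ r)) * HahnSeries.single (I l : ℤ) 1 := by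
    rw [hz, map_mul, map_pow, exp_t, HahnSeries.single_pow, one_pow,
      expansion_hasseD _ t (exp_t hK P ht) Ht hHt (ψ r) (by rw [hE.1]; exact hψr) (I l)]
    congr 2
    simp
  have h3 := HahnSeries.coeff_mul_single_add (r := (1 : k))
    (x := LaurentSeries.hasseDeriv k (I l) (exp hK P ht (ψ r)))
    (a := (ext0 J r : ℤ) - I l) (b := (I l : ℤ))
  rw [sub_add_cancel, mul_one] at h3
  rw [hEz, h3, LaurentSeries.hasseDeriv_coeff, sub_add_cancel, coeff_psi hK P ht ψ J hψ r,
    Ring.choose_natCast]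
  simp

include hK ht hP hψ in
theorem normMat_zero (r : Fin (n + 1)) :
    P.1 (normMat t Ht τ ψ J I r 0) ≤ 1 ∧
      evalP P (normMat t Ht τ ψ J I r 0) = evalP P (τ t / t) ^ ext0 J r := by
  have ht0 : t ≠ 0 := Expand.t_ne_zero ht
  have htlt : P.1 t < 1 := by rw [ht, ← WithZero.exp_zero, WithZero.exp_lt_exp]; omega
  have hq : P.1 (τ t / t) ≤ 1 := by
    rw [map_div₀, ht, div_le_iff₀ WithZero.exp_pos, one_mul]
    exact Groth.Agent.Lib.Helper23.FF.le_exp_neg_one_of_lt_one (hP t htlt)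
  set u : K := ψ r / t ^ ext0 J r with hu
  have hu1 : P.1 u ≤ 1 := by
    rw [hu, map_div₀, (hψ r).1, map_pow, ht, ← WithZero.exp_nsmul]
    simp
  have hτu := val_tau_le_one hK P τ hP hu1
  have hN : normMat t Ht τ ψ J I r 0 = τ u * (τ t / t) ^ ext0 J r := by
    simp only [normMat, Matrix.of_apply, wrMat, ext0_zero, pow_zero, mul_one]
    show τ (ψ r) / t ^ ext0 J r = _
    have : ψ r = u * t ^ ext0 J r := by rw [hu]; field_simp
    conv_lhs => rw [this, map_mul, map_pow]
    rw [div_pow]; field_simp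
  have hqpow : P.1 ((τ t / t) ^ ext0 J r) ≤ 1 := by rw [map_pow]; exact pow_le_one' hq _
  refine ⟨?_, ?_⟩
  · rw [hN, map_mul]; exact mul_le_one' hτu hqpow
  · rw [hN, evalP_mul P hτu hqpow, evalP_tau hK P τ hP hu1, (hψ r).2, one_mul, evalP_pow P hq]

end Main

end Groth.Agent.Lib.Helper27.HD
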