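import Mathlib
import Groth.Agent.Lib.Helper27.HD15

/-! Hasse families, part 16: the order of the Wronskian-type determinant at a fixed place. -/

set_option autoImplicit false

namespace Groth.Agent.Lib.Helper27.HD

open FunFld PowerSeries IntermediateField

universe u v
variable {k : Type u} {K : Type v} [Field k] [Field K] [Algebra k K]

theorem det_reduced_of_row {R : Type*} [CommRing R] {n : ℕ}
    (A : Matrix (Fin (n + 1)) (Fin (n + 1)) R) (h00 : A 0 0 = 1)
    (h0 : ∀ l : Fin n, A 0 l.succ = 0) : A.det = (A.submatrix Fin.succ Fin.succ).det := by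
  rw [Matrix.det_succ_row_zero, Fin.sum_univ_succ]
  have : ∑ i : Fin n, (-1 : R) ^ ((i.succ : Fin (n + 1)) : ℕ) * A 0 i.succ *
      (A.submatrix Fin.succ i.succ.succAbove).det = 0 := by
    apply Finset.sum_eq_zero
    intro i _
    rw [h0 i, mul_zero, zero_mul]
  rw [this, add_zero, h00]
  simp

theorem det_reduced_of_col {R : Type*} [CommRing R] {n : ℕ}
    (A : Matrix (Fin (n + 1)) (Fin (n + 1)) R) (h00 : A 0 0 = 1)
    (h0 : ∀ l : Fin n, A l.succ 0 = 0) : A.det = (A.submatrix Fin.succ Fin.succ).det := by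
  rw [Matrix.det_succ_column_zero, Fin.sum_univ_succ]
  have : ∑ i : Fin n, (-1 : R) ^ ((i.succ : Fin (n + 1)) : ℕ) * A i.succ 0 *
      (A.submatrix i.succ.succAbove Fin.succ).det = 0 := by
    apply Finset.sum_eq_zero
    intro i _
    rw [h0 i, mul_zero, zero_mul]
  rw [this, add_zero, h00]
  simp

theorem exists_matrix_of_span_eq {V : Type*} [AddCommGroup V] [Module k V] {m : ℕ}
    (φ ψ : Fin m → V) (hφ : LinearIndependent k φ)
    (hspan : Submodule.span k (Set.range ψ) = Submodule.span k (Set.range φ)) :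
    ∃ A : Matrix (Fin m) (Fin m) k, A.det ≠ 0 ∧ ∀ r, ψ r = ∑ i, A r i • φ i := by
  have h1 : ∀ r, ∃ a : Fin m → k, ∑ i, a i • φ i = ψ r := by
    intro r
    apply (Submodule.mem_span_range_iff_exists_fun k).mp
    rw [← hspan]; exact Submodule.subset_span ⟨r, rfl⟩
  have h2 : ∀ i, ∃ b : Fin m → k, ∑ r, b r • ψ r = φ i := by
    intro i
    apply (Submodule.mem_span_range_iff_exists_fun k).mp
    rw [hspan]; exact Submodule.subset_span ⟨i, rfl⟩
  choose a ha using h1
  choose b hb using h2
  set A : Matrix (Fin m) (Fin m) k := Matrix.of a with hA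
  set B : Matrix (Fin m) (Fin m) k := Matrix.of b with hB
  have hBA : B * A = 1 := by
    ext i j
    have h3 : ∑ j', ((B * A) i j' - (1 : Matrix (Fin m) (Fin m) k) i j') • φ j' = 0 := by
      simp only [sub_smul, Finset.sum_sub_distrib]
      rw [sub_eq_zero]
      have e1 : ∑ j', (1 : Matrix (Fin m) (Fin m) k) i j' • φ j' = φ i := by
        simp [Matrix.one_apply]
      rw [e1]
      conv_rhs => rw [← hb i]
      simp only [Matrix.mul_apply, Finset.sum_smul]
      rw [Finset.sum_comm]
      apply Finset.sum_congr rfl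
      intro r _
      rw [← ha r, Finset.smul_sum]
      apply Finset.sum_congr rfl
      intro j' _
      rw [smul_smul]; rfl
    have := Fintype.linearIndependent_iff.mp hφ _ h3 j
    exact sub_eq_zero.mp this
  refine ⟨A, ?_, fun r => (ha r).symm⟩
  intro h0
  have := congrArg Matrix.det hBA
  rw [Matrix.det_mul, h0, mul_zero, Matrix.det_one] at this
  exact zero_ne_one this

theorem hasseD_smul (H : K →ₐ[k] PowerSeries K) (n : ℕ) (c : k) (y : K) :
    LocRes.hasseD H n (c • y) = c • LocRes.hasseD H n y := by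
  rw [LocRes.hasseD_apply, LocRes.hasseD_apply, map_smul, Algebra.smul_def,
    PowerSeries.algebraMap_apply, PowerSeries.coeff_C_mul, Algebra.smul_def]

/-- The Wronskian-type matrix of a linearly transformed tuple. -/
theorem wrMat_linear {n : ℕ} (τ : K →ₐ[k] K) (H : K →ₐ[k] PowerSeries K)
    (φ ψ : Fin (n + 1) → K) (I : Fin n → ℕ) (A : Matrix (Fin (n + 1)) (Fin (n + 1)) k)
    (hA : ∀ r, ψ r = ∑ i, A r i • φ i) :
    wrMat τ H ψ I = A.map (algebraMap k K) * wrMat τ H φ I := by
  ext r s
  rw [Matrix.mul_apply]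
  simp only [Matrix.map_apply]
  induction s using Fin.cases with
  | zero =>
    show τ (ψ r) = ∑ i, algebraMap k K (A r i) * τ (φ i)
    rw [hA r, map_sum]
    apply Finset.sum_congr rfl
    intro i _
    rw [map_smul, Algebra.smul_def]
  | succ l =>
    show LocRes.hasseD H (I l) (ψ r) = ∑ i, algebraMap k K (A r i) * LocRes.hasseD H (I l) (φ i)
    rw [hA r, hasseD_sum]
    apply Finset.sum_congr rfl
    intro i _
    rw [hasseD_smul, Algebra.smul_def]

theorem val_det_wrMat_linear {n : ℕ} (P : Place k K) (τ : K →ₐ[k] K) (H : K →ₐ[k] PowerSeries K)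
    (φ ψ : Fin (n + 1) → K) (I : Fin n → ℕ) (A : Matrix (Fin (n + 1)) (Fin (n + 1)) k)
    (hA : ∀ r, ψ r = ∑ i, A r i • φ i) (hdet : A.det ≠ 0) :
    P.1 (wrMat τ H ψ I).det = P.1 (wrMat τ H φ I).det := by
  rw [wrMat_linear τ H φ ψ I A hA, Matrix.det_mul, map_mul]
  have : (A.map (algebraMap k K)).det = algebraMap k K A.det := by
    rw [RingHom.map_det]; rfl
  rw [this, FF.val_const P hdet, one_mul]

section Main

variable [IsAlgClosed k] (hK : IsFunctionField k K) (P : Place k K) {t : K}
  (ht : P.1 t = WithZero.exp (-1)) {Ht : K →ₐ[k] PowerSeries K}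
  (hHt : LocRes.IsHasseFamily t Ht) (τ : K →ₐ[k] K) (hP : IsFixedPt τ P)
  {n : ℕ} (ψ : Fin (n + 1) → K) (J I : Fin n → ℕ) (hJ1 : ∀ l, 1 ≤ J l)
  (hψ : ∀ r, P.1 (ψ r) = WithZero.exp (-(ext0 J r : ℤ)) ∧ evalP P (ψ r / t ^ ext0 J r) = 1)

include hK ht hHt hP hJ1 hψ in
theorem val_det_wrMat_adapted :
    P.1 (wrMat τ Ht ψ I).det ≤ WithZero.exp (-(∑ l, ((J l : ℤ) - I l))) ∧
    (((∀ l, 0 < I l) ∨ IsStrongFixedPt τ P) →
      (P.1 (wrMat τ Ht ψ I).det = WithZero.exp (-(∑ l, ((J l : ℤ) - I l))) ↔
        (binomMat k J I).det ≠ 0)) := by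
  have ht0 : t ≠ 0 := Expand.t_ne_zero ht
  set N := normMat t Ht τ ψ J I with hNdef
  have hN : ∀ r s, P.1 (N r s) ≤ 1 := by
    intro r s
    induction s using Fin.cases with
    | zero => exact (normMat_zero hK P ht τ hP ψ J I hψ r).1
    | succ l => exact (normMat_succ hK P ht hHt τ ψ J I hψ r l).1
  obtain ⟨hdetN, hevalN⟩ := evalP_det P N hN
  -- valuation identity
  have hval : WithZero.exp (-(∑ l, (I l : ℤ))) * P.1 (wrMat τ Ht ψ I).det =
      WithZero.exp (-(∑ l, (J l : ℤ))) * P.1 N.det := by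
    have h := congrArg P.1 (det_wrMat_eq_normMat P ht (Ht := Ht) τ ψ J I)
    rw [map_mul, map_mul, map_prod, map_prod] at h
    simp only [map_pow, ht, ← WithZero.exp_nsmul] at h
    rw [prod_exp, prod_exp] at h
    have e1 : ∑ s, ext0 I s • (-1 : ℤ) = -(∑ l, (I l : ℤ)) := by
      rw [← sum_ext0, ← Finset.sum_neg_distrib]; apply Finset.sum_congr rfl; intros; simp
    have e2 : ∑ r, ext0 J r • (-1 : ℤ) = -(∑ l, (J l : ℤ)) := by
      rw [← sum_ext0, ← Finset.sum_neg_distrib]; apply Finset.sum_congr rfl; intros; simp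
    rw [e1, e2] at h
    exact h
  have hsum : -(∑ l, ((J l : ℤ) - I l)) = (∑ l, (I l : ℤ)) + -(∑ l, (J l : ℤ)) := by
    rw [Finset.sum_sub_distrib]; ring
  have hval' : P.1 (wrMat τ Ht ψ I).det =
      WithZero.exp (-(∑ l, ((J l : ℤ) - I l))) * P.1 N.det := by
    rw [hsum, WithZero.exp_add, mul_assoc, ← hval, ← mul_assoc, ← WithZero.exp_add]
    simp
  refine ⟨?_, fun hcase => ?_⟩
  · rw [hval']
    calc WithZero.exp (-(∑ l, ((J l : ℤ) - I l))) * P.1 N.det
        ≤ WithZero.exp (-(∑ l, ((J l : ℤ) - I l))) * 1 := by gcongr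
      _ = _ := mul_one _
  · -- the reduced matrix
    set Nbar : Matrix (Fin (n + 1)) (Fin (n + 1)) (IsLocalRing.ResidueField P.O) :=
      Matrix.of fun r s => evalP P (N r s) with hNbar
    have hsub : Nbar.submatrix Fin.succ Fin.succ =
        (algebraMap k (IsLocalRing.ResidueField P.O)).mapMatrix (binomMat k J I) := by
      ext r s
      simp only [Matrix.submatrix_apply, hNbar, Matrix.of_apply, RingHom.mapMatrix_apply,
        Matrix.map_apply, binomMat]
      rw [(normMat_succ hK P ht hHt τ ψ J I hψ r.succ s).2, ext0_succ, map_natCast]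
    have h00 : Nbar 0 0 = 1 := by
      simp only [hNbar, Matrix.of_apply]
      rw [(normMat_zero hK P ht τ hP ψ J I hψ 0).2, ext0_zero, pow_zero]
    have hred : Nbar.det = (Nbar.submatrix Fin.succ Fin.succ).det := by
      rcases hcase with hI | hstrong
      · apply det_reduced_of_row Nbar h00
        intro l
        simp only [hNbar, Matrix.of_apply]
        rw [(normMat_succ hK P ht hHt τ ψ J I hψ 0 l).2, ext0_zero,
          Nat.choose_eq_zero_of_lt (hI l), Nat.cast_zero]
      · apply det_reduced_of_col Nbar h00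
        intro l
        simp only [hNbar, Matrix.of_apply]
        rw [(normMat_zero hK P ht τ hP ψ J I hψ l.succ).2, ext0_succ]
        have hq : P.1 (τ t / t) < 1 := by
          have htlt : P.1 t < 1 := by rw [ht, ← WithZero.exp_zero, WithZero.exp_lt_exp]; omega
          rw [map_div₀, ht, div_lt_iff₀ WithZero.exp_pos, one_mul]
          refine lt_of_le_of_lt (hstrong t htlt) ?_
          rw [WithZero.exp_lt_exp]; omega
        rw [(evalP_eq_zero_iff P hq.le).mpr hq, zero_pow (by have := hJ1 l; omega)]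
    have hinj : Function.Injective (algebraMap k (IsLocalRing.ResidueField P.O)) :=
      (algebraMap k (IsLocalRing.ResidueField P.O)).injective
    have hdetbar : Nbar.det = algebraMap k (IsLocalRing.ResidueField P.O) (binomMat k J I).det := by
      rw [hred, hsub, ← RingHom.map_det]
    have hunit : P.1 N.det = 1 ↔ (binomMat k J I).det ≠ 0 := by
      rw [← not_iff_not, not_not]
      constructor
      · intro hne
        have hlt : P.1 N.det < 1 := lt_of_le_of_ne hdetN hne
        have := (evalP_eq_zero_iff P hdetN).mpr hlt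
        rw [hevalN, hdetbar] at this
        exact hinj (this.trans (map_zero _).symm)
      · intro h0
        have : evalP P N.det = 0 := by rw [hevalN, hdetbar, h0, map_zero]
        exact ((evalP_eq_zero_iff P hdetN).mp this).ne
    rw [← hunit, hval']
    constructor
    · intro h
      have hpos : (0 : WithZero (Multiplicative ℤ)) <
          WithZero.exp (-(∑ l, ((J l : ℤ) - I l))) := WithZero.exp_pos
      have := mul_left_cancel₀ hpos.ne' (h.trans (mul_one _).symm)
      exact this
    · intro h; rw [h, mul_one]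

end Main

end Groth.Agent.Lib.Helper27.HD
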