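import Mathlib
import Groth.Agent.Lib.Helper27.HD16

/-! Hasse families, part 17: the greedy bound for orders; invariance of the orders under a
`k`-linear change of the tuple and under multiplication by a function. -/

set_option autoImplicit false

namespace Groth.Agent.Lib.Helper27.HD

open FunFld PowerSeries IntermediateField

universe u v

section LA

variable {K : Type*} {V : Type*} [Field K] [AddCommGroup V] [Module K V]

/-- A linearly independent family of columns with indices `< N` has at most as many members as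
there are jumps `< N`. -/
theorem card_le_of_linearIndependent (c : ℕ → V) (N : ℕ) {ι : Type*} [Fintype ι] (f : ι → ℕ)
    (hf : ∀ i, f i < N) (hli : LinearIndependent K (fun i => c (f i))) (U : Finset ℕ)
    (hU : ∀ j, j < N → IsJump K c j → j ∈ U) : Fintype.card ι ≤ U.card := by
  classical
  set W : Submodule K V := Submodule.span K ((U.image c : Finset V) : Set V) with hW
  have hWfin : Module.finrank K W ≤ U.card :=
    (finrank_span_finset_le_card (R := K) (U.image c)).trans Finset.card_image_le
  haveI : FiniteDimensional K W := FiniteDimensional.span_finset K (U.image c)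
  have hmem : ∀ i, c (f i) ∈ W := by
    intro i
    have h1 : c (f i) ∈ Submodule.span K (c '' Set.Iio N) :=
      Submodule.subset_span ⟨f i, hf i, rfl⟩
    have h2 := span_image_Iio_le_span_jumps (K := K) c N h1
    refine Submodule.span_mono ?_ h2
    rintro _ ⟨j, ⟨hjN, hj⟩, rfl⟩
    rw [Finset.coe_image]
    exact ⟨j, Finset.mem_coe.mpr (hU j hjN hj), rfl⟩
  have hli' : LinearIndependent K (fun i => (⟨c (f i), hmem i⟩ : W)) := by
    refine LinearIndependent.of_comp W.subtype ?_
    exact hli
  exact hli'.fintype_card_le_finrank.trans hWfin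

/-- The greedy bound: the orders are termwise at most any strictly increasing index sequence whose
columns (together with the leading column) are linearly independent. -/
theorem orders_le_of_linearIndependent (c : ℕ → V) {n : ℕ} (J : Fin n → ℕ)
    (hJ : IsOrders K c J) (E : Fin n → ℕ) (hE : StrictMono E)
    (hli : LinearIndependent K (fun i : Fin (n + 1) => c (idx E i))) : ∀ l, J l ≤ E l := by
  classical
  intro l
  by_contra hlt
  rw [not_le] at hlt
  obtain ⟨hJmono, hJr⟩ := hJ
  let S : Finset (Fin (n + 1)) := Finset.Iic l.succ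
  have hliS : LinearIndependent K (fun i : S => c (idx E i.1)) :=
    hli.comp (fun i : S => i.1) Subtype.val_injective
  have hidx0 : ∀ i : Fin (n + 1), i ≤ l.succ → idx E i < E l + 2 := by
    intro i
    refine Fin.cases ?_ (fun m => ?_) i
    · intro _
      show 0 < E l + 2
      omega
    · intro hm
      have hm' : m ≤ l := Fin.succ_le_succ_iff.mp hm
      have := hE.monotone hm'
      show E m + 1 < E l + 2
      omega
  have hidx : ∀ i : S, idx E i.1 < E l + 2 := fun i => hidx0 i.1 (Finset.mem_Iic.mp i.2)
  let U : Finset ℕ := insert 0 ((Finset.Iio l).image (fun m => J m + 1))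
  have hU : ∀ j, j < E l + 2 → IsJump K c j → j ∈ U := by
    intro j hj hjump
    cases j with
    | zero => exact Finset.mem_insert_self _ _
    | succ i =>
      obtain ⟨m, rfl⟩ := (hJr i).mpr hjump
      refine Finset.mem_insert_of_mem (Finset.mem_image.mpr ⟨m, ?_, rfl⟩)
      rw [Finset.mem_Iio]
      refine hJmono.lt_iff_lt.mp ?_
      omega
  have hcard := card_le_of_linearIndependent (K := K) c (E l + 2) (fun i : S => idx E i.1)
    hidx hliS U hU
  rw [Fintype.card_coe, Fin.card_Iic] at hcard
  have hUc : U.card ≤ l + 1 := by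
    refine (Finset.card_insert_le _ _).trans ?_
    refine Nat.succ_le_succ ?_
    refine Finset.card_image_le.trans ?_
    rw [Fin.card_Iio]
  simp only [Fin.val_succ] at hcard
  omega

/-- Jumps are preserved by an injective linear map. -/
theorem isJump_map_iff {V' : Type*} [AddCommGroup V'] [Module K V'] (f : V →ₗ[K] V')
    (hf : Function.Injective f) (c : ℕ → V) (j : ℕ) :
    IsJump K (fun i => f (c i)) j ↔ IsJump K c j := by
  unfold IsJump
  rw [not_iff_not]
  have h1 : (fun i => f (c i)) '' Set.Iio j = f '' (c '' Set.Iio j) := by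
    rw [Set.image_image]
  rw [h1, ← Submodule.map_span]
  constructor
  · rintro ⟨y, hy, hfy⟩
    rw [← hf hfy]; exact hy
  · intro h; exact ⟨c j, h, rfl⟩

theorem isOrders_map_iff {V' : Type*} [AddCommGroup V'] [Module K V'] (f : V →ₗ[K] V')
    (hf : Function.Injective f) (c : ℕ → V) {n : ℕ} (J : Fin n → ℕ) :
    IsOrders K (fun i => f (c i)) J ↔ IsOrders K c J := by
  unfold IsOrders
  simp only [isJump_map_iff f hf]

end LA

variable {k : Type u} {K : Type v} [Field k] [Field K] [Algebra k K]

/-- The column sequence of a `k`-linearly transformed tuple. -/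
theorem hcol_linear {n : ℕ} (τ : K →ₐ[k] K) (H : K →ₐ[k] PowerSeries K)
    (φ ψ : Fin (n + 1) → K) (A : Matrix (Fin (n + 1)) (Fin (n + 1)) k)
    (hA : ∀ r, ψ r = ∑ i, A r i • φ i) (j : ℕ) :
    hcol τ H ψ j = (A.map (algebraMap k K)).mulVecLin (hcol τ H φ j) := by
  funext r
  rw [Matrix.mulVecLin_apply, Matrix.mulVec, dotProduct]
  simp only [Matrix.map_apply]
  cases j with
  | zero =>
    show τ (ψ r) = ∑ i, algebraMap k K (A r i) * τ (φ i)
    rw [hA r, map_sum]
    apply Finset.sum_congr rfl
    intro i _
    rw [map_smul, Algebra.smul_def]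
  | succ j =>
    show LocRes.hasseD H j (ψ r) = ∑ i, algebraMap k K (A r i) * LocRes.hasseD H j (φ i)
    rw [hA r, hasseD_sum]
    apply Finset.sum_congr rfl
    intro i _
    rw [hasseD_smul, Algebra.smul_def]

theorem isOrders_linear_iff {n : ℕ} (τ : K →ₐ[k] K) (H : K →ₐ[k] PowerSeries K)
    (φ ψ : Fin (n + 1) → K) (A : Matrix (Fin (n + 1)) (Fin (n + 1)) k)
    (hA : ∀ r, ψ r = ∑ i, A r i • φ i) (hdet : A.det ≠ 0) {m : ℕ} (J : Fin m → ℕ) :
    IsOrders K (hcol τ H ψ) J ↔ IsOrders K (hcol τ H φ) J := by
  have hinj : Function.Injective (A.map (algebraMap k K)).mulVecLin := by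
    rw [Matrix.coe_mulVecLin]
    apply Matrix.mulVec_injective_of_isUnit
    rw [Matrix.isUnit_iff_isUnit_det]
    have : (A.map (algebraMap k K)).det = algebraMap k K A.det := by
      rw [RingHom.map_det]; rfl
    rw [this]
    exact (hdet.isUnit).map _
  have h := isOrders_map_iff (K := K) _ hinj (hcol τ H φ) J
  rw [← h]
  have : hcol τ H ψ = fun i => (A.map (algebraMap k K)).mulVecLin (hcol τ H φ i) :=
    funext (hcol_linear τ H φ ψ A hA)
  rw [this]

/-- The column sequence of a tuple multiplied by a function. -/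
theorem hcol_scale {ι : Type*} (τ : K →ₐ[k] K) (H : K →ₐ[k] PowerSeries K) (φ : ι → K) (h : K)
    (N : ℕ) :
    hcol τ H (fun i => h * φ i) N -
        (Nat.casesOn (motive := fun _ => K) N (τ h) (fun _ => LocRes.hasseD H 0 h)) •
          hcol τ H φ N ∈
      Submodule.span K (hcol τ H φ '' Set.Iio N) := by
  cases N with
  | zero =>
    have : hcol τ H (fun i => h * φ i) 0 - τ h • hcol τ H φ 0 = 0 := by
      funext i
      show τ (h * φ i) - τ h * τ (φ i) = 0
      rw [map_mul, sub_self]
    show hcol τ H (fun i => h * φ i) 0 - τ h • hcol τ H φ 0 ∈ _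
    rw [this]; exact Submodule.zero_mem _
  | succ j =>
    show hcol τ H (fun i => h * φ i) (j + 1) - LocRes.hasseD H 0 h • hcol τ H φ (j + 1) ∈ _
    have : hcol τ H (fun i => h * φ i) (j + 1) - LocRes.hasseD H 0 h • hcol τ H φ (j + 1) =
        ∑ l ∈ Finset.range j, LocRes.hasseD H (j - l) h • hcol τ H φ (l + 1) := by
      funext i
      rw [Pi.sub_apply, Finset.sum_apply]
      show LocRes.hasseD H j (h * φ i) - LocRes.hasseD H 0 h * LocRes.hasseD H j (φ i) =
        ∑ l ∈ Finset.range j, LocRes.hasseD H (j - l) h * LocRes.hasseD H l (φ i)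
      rw [mul_comm h (φ i), hasseD_mul, Finset.Nat.sum_antidiagonal_eq_sum_range_succ
        (fun a b => LocRes.hasseD H a (φ i) * LocRes.hasseD H b h) j, Finset.sum_range_succ,
        Nat.sub_self, mul_comm (LocRes.hasseD H j (φ i)), add_sub_cancel_right]
      apply Finset.sum_congr rfl
      intro l _
      rw [mul_comm]
    rw [this]
    apply Submodule.sum_mem
    intro l hl
    apply Submodule.smul_mem
    apply Submodule.subset_span
    refine ⟨l + 1, ?_, rfl⟩
    rw [Set.mem_Iio]
    have := Finset.mem_range.mp hl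
    omega

theorem isOrders_scale_iff {ι : Type*} (τ : K →ₐ[k] K) {t : K} {H : K →ₐ[k] PowerSeries K}
    (hH : LocRes.IsHasseFamily t H) (φ : ι → K) (h : K) (hh : h ≠ 0) {m : ℕ} (J : Fin m → ℕ) :
    IsOrders K (hcol τ H (fun i => h * φ i)) J ↔ IsOrders K (hcol τ H φ) J := by
  have htri : ∀ N, ∃ u : K, u ≠ 0 ∧ hcol τ H (fun i => h * φ i) N - u • hcol τ H φ N ∈
      Submodule.span K (hcol τ H φ '' Set.Iio N) := by
    intro N
    refine ⟨_, ?_, hcol_scale τ H φ h N⟩
    cases N with
    | zero =>
      show τ h ≠ 0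
      exact (map_ne_zero_iff τ τ.toRingHom.injective).mpr hh
    | succ j =>
      show LocRes.hasseD H 0 h ≠ 0
      rw [hasseD_zero hH]; exact hh
  unfold IsOrders
  simp only [isJump_iff_of_tri _ _ htri]

end Groth.Agent.Lib.Helper27.HD
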