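import Mathlib
import Groth.Agent.Lib.Helper27.HD17

/-! Hasse families, part 18: nonvanishing of the Wronskian-type determinant of a rescaled adapted
tuple at a strong fixed point. -/

set_option autoImplicit false

namespace Groth.Agent.Lib.Helper27.HD

open FunFld PowerSeries IntermediateField

universe u v
variable {k : Type u} {K : Type v} [Field k] [Field K] [Algebra k K]

theorem evalP_zero' (P : Place k K) : evalP P (0 : K) = 0 := by
  rw [evalP_eq_zero_iff P (by rw [map_zero]; exact zero_le_one)]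
  rw [map_zero]; exact zero_lt_one

/-- A matrix whose normalization has entries in the valuation ring and nonsingular reduction is
nonsingular. -/
theorem det_ne_zero_of_normalized (P : Place k K) {m : ℕ} (M : Matrix (Fin m) (Fin m) K)
    (x y : Fin m → K)
    (hN : ∀ r s, P.1 (M r s * y s / x r) ≤ 1)
    (hdet : (Matrix.of fun r s => evalP P (M r s * y s / x r)).det ≠ 0) : M.det ≠ 0 := by
  intro h0
  set N : Matrix (Fin m) (Fin m) K := Matrix.of fun r s => M r s * y s / x r with hNdef
  have hNdet : N.det = 0 := by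
    have : N = Matrix.of fun r s => (x r)⁻¹ * (Matrix.of fun r s => y s * M r s) r s := by
      ext r s
      simp only [hNdef, Matrix.of_apply]
      rw [div_eq_inv_mul, mul_comm (M r s)]
    rw [this, Matrix.det_mul_column, Matrix.det_mul_row, h0, mul_zero, mul_zero]
  obtain ⟨_, h2⟩ := evalP_det P N hN
  rw [hNdet, evalP_zero'] at h2
  exact hdet h2.symm

theorem det_binomMat_self (R : Type*) [CommRing R] {n : ℕ} (E : Fin n → ℕ) (hE : StrictMono E) :
    (binomMat R E E).det = 1 := by
  rw [Matrix.det_of_isLowerTriangular]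
  · apply Finset.prod_eq_one
    intro i _
    simp [binomMat]
  · intro i j hij
    simp only [binomMat, Matrix.of_apply]
    have : E i < E j := hE hij
    rw [Nat.choose_eq_zero_of_lt this, Nat.cast_zero]

section Main

variable [IsAlgClosed k] (hK : IsFunctionField k K) (P : Place k K) {t : K}
  (ht : P.1 t = WithZero.exp (-1)) {Ht : K →ₐ[k] PowerSeries K}
  (hHt : LocRes.IsHasseFamily t Ht)

include hK ht hHt in
theorem val_hasseD_pole (x : K) (c : ℕ) (hx : P.1 (x * t ^ c) ≤ 1) (i : ℕ) :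
    P.1 (LocRes.hasseD Ht i x) ≤ WithZero.exp ((c : ℤ) + i) := by
  have ht0 : t ≠ 0 := Expand.t_ne_zero ht
  induction i using Nat.strong_induction_on with
  | _ i ih =>
    have h1 : P.1 (LocRes.hasseD Ht i (x * t ^ c)) ≤ WithZero.exp (i : ℤ) := by
      have := val_hasseD_le' hK P ht hHt (x := x * t ^ c) (m := 0) (by simpa using hx) i
      simpa using this
    have htc : ∀ b, P.1 (LocRes.hasseD Ht b (t ^ c)) ≤ WithZero.exp (-((c : ℤ) - b)) := by
      intro b
      apply val_hasseD_le' hK P ht hHt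
      rw [map_pow, ht, ← WithZero.exp_nsmul]; simp
    have h2 : LocRes.hasseD Ht i x * t ^ c = LocRes.hasseD Ht i (x * t ^ c) -
        ∑ a ∈ Finset.range i, LocRes.hasseD Ht a x * LocRes.hasseD Ht (i - a) (t ^ c) := by
      rw [hasseD_mul, Finset.Nat.sum_antidiagonal_eq_sum_range_succ
        (fun a b => LocRes.hasseD Ht a x * LocRes.hasseD Ht b (t ^ c)) i, Finset.sum_range_succ,
        Nat.sub_self, hasseD_zero hHt]
      ring
    have h3 : P.1 (LocRes.hasseD Ht i x * t ^ c) ≤ WithZero.exp (i : ℤ) := by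
      rw [h2]
      refine (Valuation.map_sub _ _ _).trans (max_le h1 ?_)
      apply Valuation.map_sum_le
      intro a ha
      rw [map_mul]
      have ha' := Finset.mem_range.mp ha
      calc P.1 (LocRes.hasseD Ht a x) * P.1 (LocRes.hasseD Ht (i - a) (t ^ c))
          ≤ WithZero.exp ((c : ℤ) + a) * WithZero.exp (-((c : ℤ) - (i - a : ℕ))) :=
            mul_le_mul' (ih a ha') (htc (i - a))
        _ = WithZero.exp (i : ℤ) := by
            rw [← WithZero.exp_add]; congr 1; push_cast [Nat.cast_sub ha'.le]; ring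
    have h4 : P.1 (LocRes.hasseD Ht i x * t ^ c) =
        P.1 (LocRes.hasseD Ht i x) * WithZero.exp (-(c : ℤ)) := by
      rw [map_mul, map_pow, ht, ← WithZero.exp_nsmul]; simp
    rw [h4] at h3
    calc P.1 (LocRes.hasseD Ht i x)
        = P.1 (LocRes.hasseD Ht i x) * WithZero.exp (-(c : ℤ)) * WithZero.exp (c : ℤ) := by
          rw [mul_assoc, ← WithZero.exp_add]; simp
      _ ≤ WithZero.exp (i : ℤ) * WithZero.exp (c : ℤ) := mul_le_mul' h3 le_rfl
      _ = _ := by rw [← WithZero.exp_add, add_comm]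

variable (τ : K →ₐ[k] K)

include hK in
theorem val_tau_eq_one (hP : IsFixedPt τ P) {w : K} (hw : P.1 w = 1) : P.1 (τ w) = 1 := by
  have hw0 : w ≠ 0 := by
    intro h; rw [h, map_zero] at hw; exact zero_ne_one hw
  have h1 := val_tau_le_one hK P τ hP hw.le
  have h2 : P.1 (τ w⁻¹) ≤ 1 := by
    apply val_tau_le_one hK P τ hP
    rw [map_inv₀, hw, inv_one]
  rw [map_inv₀, map_inv₀] at h2
  have hpos : 0 < P.1 (τ w) := by
    rw [Valuation.pos_iff]
    exact (map_ne_zero_iff τ τ.toRingHom.injective).mpr hw0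
  have h3 : 1 ≤ P.1 (τ w) := by
    rw [inv_le_one₀ hpos] at h2
    exact h2
  exact le_antisymm h1 h3

include hK ht hHt in
theorem det_wrMat_scaled_ne_zero (hP : IsStrongFixedPt τ P) {n : ℕ} (χ : Fin (n + 1) → K)
    (c : ℕ) (hc : 1 ≤ c) (E : Fin n → ℕ) (hE : StrictMono E)
    (hχ0 : P.1 (χ 0 * t ^ c) = 1)
    (hχ : ∀ l : Fin n, P.1 (χ l.succ) = WithZero.exp (-(E l : ℤ)) ∧
      evalP P (χ l.succ / t ^ E l) = 1) :
    (wrMat τ Ht χ E).det ≠ 0 := by
  have ht0 : t ≠ 0 := Expand.t_ne_zero ht
  have htlt : P.1 t < 1 := by rw [ht, ← WithZero.exp_zero, WithZero.exp_lt_exp]; omega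
  have hP' : IsFixedPt τ P := by
    intro z hz
    refine lt_of_le_of_lt (hP z hz) ?_
    rw [← WithZero.exp_zero, WithZero.exp_lt_exp]; omega
  -- auxiliary adapted tuple
  set ξ : Fin (n + 1) → K := fun r => Fin.cases (motive := fun _ => K) 1 (fun l => χ l.succ) r
    with hξdef
  have hξ : ∀ r, P.1 (ξ r) = WithZero.exp (-(ext0 E r : ℤ)) ∧
      evalP P (ξ r / t ^ ext0 E r) = 1 := by
    intro r
    induction r using Fin.cases with
    | zero =>
      simp only [hξdef, Fin.cases_zero, ext0_zero, pow_zero, div_one]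
      exact ⟨by simp, evalP_one' P⟩
    | succ l =>
      simp only [hξdef, Fin.cases_succ, ext0_succ]
      exact hχ l
  -- the pole row
  have hτχ0 : WithZero.exp (2 * (c : ℤ)) ≤ P.1 (τ (χ 0)) := by
    have hw := val_tau_eq_one hK P τ hP' hχ0
    rw [map_mul, map_mul, map_pow, map_pow] at hw
    have hτt : P.1 (τ t) ≤ WithZero.exp (-2) := hP t htlt
    have hτt0 : 0 < P.1 (τ t) := by
      rw [Valuation.pos_iff]
      exact (map_ne_zero_iff τ τ.toRingHom.injective).mpr ht0
    have hpow : P.1 (τ t) ^ c ≤ WithZero.exp (-(2 * (c : ℤ))) := by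
      calc P.1 (τ t) ^ c ≤ WithZero.exp (-2) ^ c := pow_le_pow_left' hτt c
        _ = _ := by rw [← WithZero.exp_nsmul]; congr 1; simp; ring
    have e1 : P.1 (τ (χ 0)) = (P.1 (τ t) ^ c)⁻¹ := by
      exact eq_inv_of_mul_eq_one_left hw
    rw [e1, le_inv_comm₀ WithZero.exp_pos (pow_pos hτt0 c), ← WithZero.exp_neg]
    exact hpow
  have hτχ0pos : 0 < P.1 (τ (χ 0)) := lt_of_lt_of_le WithZero.exp_pos hτχ0
  have hτχ0ne : τ (χ 0) ≠ 0 := by
    intro h; rw [h, map_zero] at hτχ0pos; exact lt_irrefl _ hτχ0pos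
  set x : Fin (n + 1) → K := fun r => Fin.cases (motive := fun _ => K) (τ (χ 0))
    (fun l => t ^ E l) r with hxdef
  set y : Fin (n + 1) → K := fun s => t ^ ext0 E s with hydef
  have hrow : ∀ (l : Fin n) (s : Fin (n + 1)),
      wrMat τ Ht χ E l.succ s * y s / x l.succ = normMat t Ht τ ξ E E l.succ s := by
    intro l s
    simp only [normMat, Matrix.of_apply, hxdef, hydef, Fin.cases_succ, ext0_succ]
    congr 2
  have hrow0 : ∀ l' : Fin n, P.1 (wrMat τ Ht χ E 0 l'.succ * y l'.succ / x 0) < 1 := by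
    intro l'
    have h1 : wrMat τ Ht χ E 0 l'.succ = LocRes.hasseD Ht (E l') (χ 0) := rfl
    simp only [hxdef, hydef, Fin.cases_zero, ext0_succ]
    rw [h1, map_div₀, div_lt_iff₀ hτχ0pos, one_mul, map_mul, map_pow, ht, ← WithZero.exp_nsmul]
    have h2 := val_hasseD_pole hK P ht hHt (χ 0) c hχ0.le (E l')
    calc P.1 (LocRes.hasseD Ht (E l') (χ 0)) * WithZero.exp (E l' • (-1 : ℤ))
        ≤ WithZero.exp ((c : ℤ) + E l') * WithZero.exp (E l' • (-1 : ℤ)) :=
          mul_le_mul' h2 le_rfl
      _ = WithZero.exp (c : ℤ) := by rw [← WithZero.exp_add]; congr 1; simp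
      _ < WithZero.exp (2 * (c : ℤ)) := by rw [WithZero.exp_lt_exp]; omega
      _ ≤ _ := hτχ0
  have h00 : wrMat τ Ht χ E 0 0 * y 0 / x 0 = 1 := by
    have h1 : wrMat τ Ht χ E 0 0 = τ (χ 0) := rfl
    simp only [hxdef, hydef, Fin.cases_zero, ext0_zero, pow_zero, mul_one]
    rw [h1, div_self hτχ0ne]
  have hN : ∀ r s, P.1 (wrMat τ Ht χ E r s * y s / x r) ≤ 1 := by
    intro r s
    induction r using Fin.cases with
    | zero =>
      induction s using Fin.cases with
      | zero => rw [h00, map_one]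
      | succ l' => exact (hrow0 l').le
    | succ l =>
      rw [hrow l s]
      induction s using Fin.cases with
      | zero => exact (normMat_zero hK P ht τ hP' ξ E E hξ l.succ).1
      | succ l' => exact (normMat_succ hK P ht hHt τ ξ E E hξ l.succ l').1
  apply det_ne_zero_of_normalized P _ x y hN
  set Nbar : Matrix (Fin (n + 1)) (Fin (n + 1)) (IsLocalRing.ResidueField P.O) :=
    Matrix.of fun r s => evalP P (wrMat τ Ht χ E r s * y s / x r) with hNbar
  have hb00 : Nbar 0 0 = 1 := by
    simp only [hNbar, Matrix.of_apply]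
    rw [h00, evalP_one' P]
  have hb0 : ∀ l' : Fin n, Nbar 0 l'.succ = 0 := by
    intro l'
    simp only [hNbar, Matrix.of_apply]
    exact (evalP_eq_zero_iff P (hrow0 l').le).mpr (hrow0 l')
  rw [det_reduced_of_row Nbar hb00 hb0]
  have hsub : Nbar.submatrix Fin.succ Fin.succ =
      (algebraMap k (IsLocalRing.ResidueField P.O)).mapMatrix (binomMat k E E) := by
    ext r s
    simp only [Matrix.submatrix_apply, hNbar, Matrix.of_apply, RingHom.mapMatrix_apply,
      Matrix.map_apply, binomMat]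
    rw [hrow r s.succ, (normMat_succ hK P ht hHt τ ξ E E hξ r.succ s).2, ext0_succ, map_natCast]
  rw [hsub, ← RingHom.map_det, det_binomMat_self k E hE, map_one]
  exact one_ne_zero

end Main

end Groth.Agent.Lib.Helper27.HD
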