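import Mathlib
import Groth.Agent.Lib.Helper27.HD18
import Groth.Agent.Lib.Helper27.LR1
import Groth.Agent.Lib.Helper27.FunFld8

/-! Hasse families, part 19: the coefficient of the Weierstrass divisor at a place. -/

set_option autoImplicit false

namespace Groth.Agent.Lib.Helper27.HD

open FunFld PowerSeries IntermediateField

universe u v
variable {k : Type u} {K : Type v} [Field k] [Field K] [Algebra k K]

theorem mapDiv_apply_eq_zero {ι : Type*} [Fintype ι] [Nonempty ι] (P : Place k K) (φ : ι → K)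
    (hnorm : ∀ i, P.1 (φ i) ≤ 1) (hunit : ∃ i, P.1 (φ i) = 1) : mapDiv k φ P = 0 := by
  classical
  unfold mapDiv
  split_ifs with h
  · show -Finset.univ.inf' Finset.univ_nonempty (fun i => P.ord (φ i)) = 0
    rw [neg_eq_zero]
    apply le_antisymm
    · obtain ⟨i, hi⟩ := hunit
      refine (Finset.inf'_le _ (Finset.mem_univ i)).trans ?_
      show P.ord (φ i) ≤ 0
      unfold Place.ord
      rw [hi]; simp
    · rw [Finset.le_inf'_iff]
      intro i _
      show 0 ≤ P.ord (φ i)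
      unfold Place.ord
      by_cases h0 : P.1 (φ i) = 0
      · rw [h0]; simp
      · rw [neg_nonneg, WithZero.log_le_iff_le_exp h0, WithZero.exp_zero]
        exact hnorm i
  · rfl

theorem divDiff_apply_eq_zero (Φ : Place k K → (K →ₐ[k] LaurentSeries k)) (P : Place k K)
    (hΦ : LocRes.IsExpansionAt P.1 (Φ P)) {t : K} (ht : P.1 t = WithZero.exp (-1)) :
    divDiff Φ 1 t P = 0 := by
  classical
  unfold divDiff
  split_ifs with h
  · show LocRes.ordDiff (Φ P) 1 t = 0
    unfold LocRes.ordDiff LocRes.vDiff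
    rw [map_one, one_mul]
    have h1 : Valued.v (Φ P t) = WithZero.exp (-(1 : ℤ)) := by rw [hΦ.1]; exact ht
    have h2 := LR.val_D_eq h1 (by simp)
    rw [h2]; simp
  · rfl

theorem exists_unit_of_eff {n : ℕ} (P : Place k K) (φ : Fin (n + 1) → K)
    (heff : (1 : K) ∈ Submodule.span k (Set.range φ)) (hnorm : ∀ i, P.1 (φ i) ≤ 1) :
    ∃ i, P.1 (φ i) = 1 := by
  by_contra hcon
  push Not at hcon
  have hlt : ∀ i, P.1 (φ i) < 1 := fun i => lt_of_le_of_ne (hnorm i) (hcon i)
  obtain ⟨a, ha⟩ := (Submodule.mem_span_range_iff_exists_fun k).mp heff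
  have : P.1 (1 : K) < 1 := by
    rw [← ha]
    apply Valuation.map_sum_lt _ one_ne_zero
    intro i _
    rw [Algebra.smul_def, map_mul]
    calc P.1 (algebraMap k K (a i)) * P.1 (φ i) ≤ 1 * P.1 (φ i) :=
          mul_le_mul' (P.2.1 (a i)) le_rfl
      _ = P.1 (φ i) := one_mul _
      _ < 1 := hlt i
  rw [map_one] at this
  exact lt_irrefl _ this

section Main

variable [IsAlgClosed k] (hK : IsFunctionField k K) (τ : K →ₐ[k] K) (P : Place k K)
  (hP : IsFixedPt τ P) {n : ℕ} (φ : Fin (n + 1) → K)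
  (heff : (1 : K) ∈ Submodule.span k (Set.range φ)) (hnorm : ∀ i, P.1 (φ i) ≤ 1)
  {t : K} (ht : P.1 t = WithZero.exp (-1)) (Ht : K →ₐ[k] PowerSeries K)
  (Φ : Place k K → (K →ₐ[k] LaurentSeries k))
  (hΦ : LocRes.IsExpansionAt P.1 (Φ P)) (J : Fin n → ℕ)

include hK hP heff hnorm ht hΦ in
theorem wDiv_apply : wDiv τ Ht Φ t φ J P = P.ord (wrMat τ Ht φ J).det := by
  unfold wDiv
  rw [Finsupp.add_apply, Finsupp.add_apply, Finsupp.add_apply, Finsupp.smul_apply,
    Finsupp.smul_apply, divDiff_apply_eq_zero Φ P hΦ ht,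
    mapDiv_apply_eq_zero P φ hnorm (exists_unit_of_eff P φ heff hnorm), FF.div_apply' hK]
  have h1 : mapDiv k (τ ∘ φ) P = 0 := by
    apply mapDiv_apply_eq_zero
    · intro i; exact val_tau_le_one hK P τ hP (hnorm i)
    · obtain ⟨i, hi⟩ := exists_unit_of_eff P φ heff hnorm
      exact ⟨i, val_tau_eq_one hK P τ hP hi⟩
  rw [h1]; simp

end Main

theorem isFixedPt_id (P : Place k K) : IsFixedPt (AlgHom.id k K) P := fun _ hz => hz

/-- The orders (for `τ = id`) are positive. -/
theorem orders_id_pos {n m : ℕ} (H : K →ₐ[k] PowerSeries K) {t : K}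
    (hH : LocRes.IsHasseFamily t H) (φ : Fin (n + 1) → K) (J : Fin m → ℕ)
    (hJ : IsOrders K (hcol (AlgHom.id k K) H φ) J) : ∀ l, 0 < J l := by
  intro l
  by_contra h0
  have h0' : J l = 0 := by omega
  have hjump := (hJ.2 0).mp ⟨l, h0'⟩
  apply hjump
  apply Submodule.subset_span
  refine ⟨0, by simp, ?_⟩
  funext i
  show (AlgHom.id k K) (φ i) = LocRes.hasseD H 0 (φ i)
  rw [hasseD_zero hH]; rfl

end Groth.Agent.Lib.Helper27.HD
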