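import Mathlib
import Groth.Agent.Lib.Helper27.HD19

/-! Hasse families, part 20: the order of the Wronskian at a place (general tuple), and the
coefficient of the Weierstrass divisor. -/

set_option autoImplicit false

namespace Groth.Agent.Lib.Helper27.HD

open FunFld PowerSeries IntermediateField

universe u v
variable {k : Type u} {K : Type v} [Field k] [Field K] [Algebra k K]

section Main

variable [IsAlgClosed k] (hK : IsFunctionField k K) (τ : K →ₐ[k] K) (P : Place k K)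
  (hP : IsFixedPt τ P) {n : ℕ} (φ : Fin (n + 1) → K) (hφ : LinearIndependent k φ)
  (heff : (1 : K) ∈ Submodule.span k (Set.range φ)) (hnorm : ∀ i, P.1 (φ i) ≤ 1)
  {t : K} (ht : P.1 t = WithZero.exp (-1)) {Ht : K →ₐ[k] PowerSeries K}
  (hHt : LocRes.IsHasseFamily t Ht)
  {J' : Fin n → ℕ} (hJ' : IsOrders (IsLocalRing.ResidueField P.O) (hcolAt P Ht φ) J')
  (I : Fin n → ℕ)

include hK hP hφ heff hnorm ht hHt hJ' in
/-- S12605 as a library lemma. -/
theorem val_det_wrMat :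
    P.1 (wrMat τ Ht φ I).det ≤ WithZero.exp (-(∑ l, ((J' l : ℤ) - I l))) ∧
    (((∀ l, 0 < I l) ∨ IsStrongFixedPt τ P) →
      (P.1 (wrMat τ Ht φ I).det = WithZero.exp (-(∑ l, ((J' l : ℤ) - I l))) ↔
        (binomMat k J' I).det ≠ 0)) := by
  obtain ⟨φ', hspan, h0v, h0e, hl⟩ := exists_adapted_basis hK P ht hHt φ hφ heff hnorm hJ'
  have hJ1 : ∀ l, 1 ≤ J' l := one_le_orders hK P ht hHt φ hnorm hJ'
  have hψ : ∀ r, P.1 (φ' r) = WithZero.exp (-(ext0 J' r : ℤ)) ∧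
      evalP P (φ' r / t ^ ext0 J' r) = 1 := by
    intro r
    induction r using Fin.cases with
    | zero =>
      rw [ext0_zero, pow_zero, div_one]
      exact ⟨by simpa using h0v, h0e⟩
    | succ l =>
      rw [ext0_succ]
      exact hl l
  obtain ⟨A, hAdet, hA⟩ := exists_matrix_of_span_eq φ φ' hφ hspan
  rw [← val_det_wrMat_linear P τ Ht φ φ' I A hA hAdet]
  exact val_det_wrMat_adapted hK P ht hHt τ hP φ' J' I hJ1 hψ

variable (Φ : Place k K → (K →ₐ[k] LaurentSeries k))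
  (hΦ : LocRes.IsExpansionAt P.1 (Φ P)) {J : Fin n → ℕ} (hJ : IsOrders K (hcol τ Ht φ) J)

include hK hP hφ heff hnorm ht hHt hJ' hΦ hJ in
/-- S12615 as a library lemma. -/
theorem wDiv_ge_and_eq_iff :
    (∑ l, ((J' l : ℤ) - J l)) ≤ wDiv τ Ht Φ t φ J P ∧
    (((∀ l, 0 < J l) ∨ IsStrongFixedPt τ P) →
      (wDiv τ Ht Φ t φ J P = ∑ l, ((J' l : ℤ) - J l) ↔ (binomMat k J' J).det ≠ 0)) := by
  have hw : (wrMat τ Ht φ J).det ≠ 0 := det_wrMat_ne_zero_of_isOrders φ hφ τ hJ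
  rw [wDiv_apply hK τ P hP φ heff hnorm ht Ht Φ hΦ J]
  obtain ⟨h1, h2⟩ := val_det_wrMat hK τ P hP φ hφ heff hnorm ht hHt hJ' J
  have hv := FF.val_eq_exp_neg_ord P hw
  rw [hv, WithZero.exp_le_exp, neg_le_neg_iff] at h1
  refine ⟨h1, fun hc => ?_⟩
  rw [← h2 hc, hv, WithZero.exp_inj, neg_inj]

end Main

end Groth.Agent.Lib.Helper27.HD
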