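import Mathlib
import Groth.Agent.Lib.Helper27.HD20

/-! Hasse families, part 23: a map nonsingular at `P` has first order `1` at `P`. -/

set_option autoImplicit false

namespace Groth.Agent.Lib.Helper27.HD

open FunFld PowerSeries IntermediateField

universe u v
variable {k : Type u} {K : Type v} [Field k] [Field K] [Algebra k K]

/-- The subalgebra `k + 𝔪_P²`. -/
def sqAlg (P : Place k K) : Subalgebra k K where
  carrier := {z | ∃ c : k, P.1 (z - algebraMap k K c) ≤ WithZero.exp (-2)}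
  mul_mem' := by
    rintro z₁ z₂ ⟨c₁, h₁⟩ ⟨c₂, h₂⟩
    refine ⟨c₁ * c₂, ?_⟩
    have hz₂ : P.1 z₂ ≤ 1 := by
      have : z₂ = (z₂ - algebraMap k K c₂) + algebraMap k K c₂ := by ring
      rw [this]
      refine (P.1.map_add _ _).trans (max_le (h₂.trans ?_) (P.2.1 c₂))
      rw [← WithZero.exp_zero, WithZero.exp_le_exp]; omega
    have e : z₁ * z₂ - algebraMap k K (c₁ * c₂) =
        (z₁ - algebraMap k K c₁) * z₂ + algebraMap k K c₁ * (z₂ - algebraMap k K c₂) := by
      rw [map_mul]; ring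
    rw [e]
    refine (P.1.map_add _ _).trans (max_le ?_ ?_)
    · rw [map_mul]
      calc P.1 (z₁ - algebraMap k K c₁) * P.1 z₂ ≤ WithZero.exp (-2) * 1 := mul_le_mul' h₁ hz₂
        _ = _ := mul_one _
    · rw [map_mul]
      calc P.1 (algebraMap k K c₁) * P.1 (z₂ - algebraMap k K c₂) ≤ 1 * WithZero.exp (-2) :=
            mul_le_mul' (P.2.1 c₁) h₂
        _ = _ := one_mul _
  add_mem' := by
    rintro z₁ z₂ ⟨c₁, h₁⟩ ⟨c₂, h₂⟩
    refine ⟨c₁ + c₂, ?_⟩
    have e : z₁ + z₂ - algebraMap k K (c₁ + c₂) =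
        (z₁ - algebraMap k K c₁) + (z₂ - algebraMap k K c₂) := by
      rw [map_add]; ring
    rw [e]
    exact (P.1.map_add _ _).trans (max_le h₁ h₂)
  algebraMap_mem' := by
    intro c
    exact ⟨c, by rw [sub_self, map_zero]; exact zero_le⟩

section AC

variable [IsAlgClosed k] (hK : IsFunctionField k K)

include hK in
theorem first_order_eq_one_of_nonsingular (P : Place k K) {n : ℕ} (hn : 0 < n)
    (φ : Fin (n + 1) → K)
    (heff : (1 : K) ∈ Submodule.span k (Set.range φ)) (hnorm : ∀ i, P.1 (φ i) ≤ 1)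
    (hns : IsNonsingularAt φ P)
    (t : K) (ht : P.1 t = WithZero.exp (-1))
    (Ht : K →ₐ[k] PowerSeries K) (hHt : LocRes.IsHasseFamily t Ht)
    (J' : Fin n → ℕ) (hJ' : IsOrders (IsLocalRing.ResidueField P.O) (hcolAt P Ht φ) J') :
    J' ⟨0, hn⟩ = 1 := by
  have hP1 := Groth.Agent.Lib.Helper23.FF.deg_eq_one hK P
  have h1le : ∀ l, 1 ≤ J' l := one_le_orders hK P ht hHt φ hnorm hJ'
  by_contra hne
  have h2le : ∀ l, 2 ≤ J' l := by
    intro l
    have h1 := h1le ⟨0, hn⟩
    have h2 : J' ⟨0, hn⟩ ≤ J' l := by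
      apply hJ'.1.monotone
      rw [Fin.le_def]; simp
    omega
  -- no function of order one in the span
  have hno : ¬ ∃ f ∈ Submodule.span k (Set.range φ), P.1 f = WithZero.exp (-((1 : ℕ) : ℤ)) := by
    rw [← mem_orders_iff hK P ht hHt φ heff hnorm hJ' 1]
    rintro (h | ⟨l, hl⟩)
    · exact one_ne_zero h
    · have := h2le l; omega
  have hsq : ∀ f ∈ Submodule.span k (Set.range φ), P.1 f < 1 → P.1 f ≤ WithZero.exp (-2) := by
    intro f hf hlt
    by_cases hf0 : f = 0
    · rw [hf0, map_zero]; exact zero_le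
    rw [FF.val_eq_exp_neg_ord P hf0, WithZero.exp_le_exp]
    rw [FF.val_eq_exp_neg_ord P hf0, ← WithZero.exp_zero, WithZero.exp_lt_exp] at hlt
    have hne1 : P.ord f ≠ 1 := by
      intro h1
      apply hno
      refine ⟨f, hf, ?_⟩
      rw [FF.val_eq_exp_neg_ord P hf0, h1]; rfl
    omega
  have htle : P.1 t ≤ 1 := by rw [ht, ← WithZero.exp_zero, WithZero.exp_le_exp]; omega
  obtain ⟨j, hj0, hjmax, u, hu, w, hw, hw1, htw⟩ := hns t htle
  obtain ⟨i0, hi0⟩ := exists_unit_of_eff P φ heff hnorm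
  have hφj : P.1 (φ j) = 1 := le_antisymm (hnorm j) (by have := hjmax i0; rwa [hi0] at this)
  have hadj : Algebra.adjoin k (Set.range fun i => φ i / φ j) ≤ sqAlg P := by
    rw [Algebra.adjoin_le_iff]
    rintro _ ⟨i, rfl⟩
    have hint : P.1 (φ i / φ j) ≤ 1 := by
      rw [map_div₀, hφj, div_one]; exact hnorm i
    obtain ⟨c, hc⟩ := Groth.Agent.Lib.Helper23.FF.exists_const_val_sub_lt_one P hP1 hint
    refine ⟨c, ?_⟩
    set f : K := φ i - c • φ j with hf
    have hfmem : f ∈ Submodule.span k (Set.range φ) :=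
      Submodule.sub_mem _ (Submodule.subset_span ⟨i, rfl⟩)
        (Submodule.smul_mem _ _ (Submodule.subset_span ⟨j, rfl⟩))
    have hfe : φ i / φ j - algebraMap k K c = f / φ j := by
      rw [hf, Algebra.smul_def]; field_simp
    rw [hfe, map_div₀, hφj, div_one] at hc ⊢
    exact hsq f hfmem hc
  obtain ⟨cu, hcu⟩ := hadj hu
  obtain ⟨cw, hcw⟩ := hadj hw
  have hval : P.1 u = WithZero.exp (-1) := by
    rw [← htw, map_mul, hw1, mul_one, ht]
  have hlt21 : (WithZero.exp (-2) : WithZero (Multiplicative ℤ)) < WithZero.exp (-1) := by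
    rw [WithZero.exp_lt_exp]; omega
  by_cases hcu0 : cu = 0
  · rw [hcu0, map_zero, sub_zero, hval] at hcu
    exact not_le.mpr hlt21 hcu
  · have h1 : P.1 (algebraMap k K cu) = 1 := FF.val_const P hcu0
    have h2 : P.1 u = 1 := by
      have : u = (u - algebraMap k K cu) + algebraMap k K cu := by ring
      rw [this, Valuation.map_add_eq_of_lt_right]
      · exact h1
      · rw [h1]
        refine lt_of_le_of_lt hcu ?_
        rw [← WithZero.exp_zero, WithZero.exp_lt_exp]; omega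
    rw [h2] at hval
    have : (1 : WithZero (Multiplicative ℤ)) = WithZero.exp 0 := WithZero.exp_zero.symm
    rw [this, WithZero.exp_inj] at hval
    omega

end AC

end Groth.Agent.Lib.Helper27.HD
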