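import Mathlib
import Groth.Agent.Lib.Helper27.HD23
import Groth.Agent.Lib.Helper27.Unr3

/-! Hasse families, part 24: the divisor of `ds` has finite support. -/

set_option autoImplicit false

namespace Groth.Agent.Lib.Helper27.HD

open FunFld PowerSeries IntermediateField

universe u v
variable {k : Type u} {K : Type v} [Field k] [Field K] [Algebra k K]

/-- `k(s)` is a function field when `s` is transcendental. -/
theorem isFunctionField_adjoin_simple (hK : IsFunctionField k K) {s : K}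
    (hs : Transcendental k s) : IsFunctionField k k⟮s⟯ := by
  set x : k⟮s⟯ := ⟨s, mem_adjoin_simple_self k s⟩ with hx
  refine ⟨⟨x, ?_, ?_⟩, ?_⟩
  · intro halg
    apply hs
    have := halg.algebraMap (A := K)
    exact this
  · have htop : k⟮x⟯ = ⊤ := by
      apply IntermediateField.map_injective (k⟮s⟯.val)
      rw [IntermediateField.adjoin_map, Set.image_singleton]
      have h1 : (k⟮s⟯.val) x = s := rfl
      rw [h1, ← AlgHom.fieldRange_eq_map, IntermediateField.fieldRange_val]
    rw [htop]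
    apply Module.finite_of_finrank_pos
    rw [IntermediateField.finrank_top]
    exact one_pos
  · intro y hy
    have h1 : IsAlgebraic k (y : K) := hy.algebraMap (A := K)
    obtain ⟨c, hc⟩ := hK.2 (y : K) h1
    refine ⟨c, ?_⟩
    apply Subtype.ext
    exact hc

/-- The value of a polynomial in `s` at a place where `s ≡ a`: a power of the value of `s - a`. -/
theorem val_aeval_eq_pow (Q : Place k K) {s : K} (hs1 : Q.1 s ≤ 1) {a : k}
    (ha : Q.1 (s - algebraMap k K a) < 1) (r : Polynomial k) (hr : r ≠ 0) :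
    ∃ m : ℕ, Q.1 (Polynomial.aeval s r) = Q.1 (s - algebraMap k K a) ^ m := by
  obtain ⟨r₁, hr₁, hnd⟩ := Polynomial.exists_eq_pow_rootMultiplicity_mul_and_not_dvd r hr a
  refine ⟨r.rootMultiplicity a, ?_⟩
  have hc : r₁.eval a ≠ 0 := by
    intro h0
    exact hnd (Polynomial.dvd_iff_isRoot.mpr h0)
  obtain ⟨q, hq⟩ := Polynomial.X_sub_C_dvd_sub_C_eval (a := a) (p := r₁)
  have hr₁' : r₁ = Polynomial.C (r₁.eval a) + (Polynomial.X - Polynomial.C a) * q := by
    rw [← hq]; ring
  have h1 : Q.1 (Polynomial.aeval s r₁) = 1 := by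
    rw [hr₁', map_add, map_mul, map_sub, Polynomial.aeval_X, Polynomial.aeval_C,
      Polynomial.aeval_C]
    have h2 : Q.1 (algebraMap k K (r₁.eval a)) = 1 := FF.val_const Q hc
    have h3 : Q.1 ((s - algebraMap k K a) * Polynomial.aeval s q) < 1 := by
      rw [map_mul]
      calc Q.1 (s - algebraMap k K a) * Q.1 (Polynomial.aeval s q)
          ≤ Q.1 (s - algebraMap k K a) * 1 :=
            mul_le_mul' le_rfl (Groth.Agent.Lib.Helper23.FF.val_aeval_le_one Q.1 Q.2.1 hs1 q)
        _ = Q.1 (s - algebraMap k K a) := mul_one _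
        _ < 1 := ha
    rw [Valuation.map_add_eq_of_lt_left Q.1 (by rw [h2]; exact h3), h2]
  conv_lhs => rw [hr₁]
  rw [map_mul, map_pow, map_sub, Polynomial.aeval_X, Polynomial.aeval_C, map_mul, map_pow, h1,
    mul_one]

/-- At a place unramified over `k(s)` where `s ≡ a`, the function `s - a` is a local parameter. -/
theorem val_sub_const_eq_of_unramified (Q : Place k K) {s : K} (hs : Transcendental k s)
    (hsurj : Function.Surjective (Q.1.comap (algebraMap k⟮s⟯ K))) (hs1 : Q.1 s ≤ 1) {a : k}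
    (ha : Q.1 (s - algebraMap k K a) < 1) :
    Q.1 (s - algebraMap k K a) = WithZero.exp (-1) := by
  have hπ0 : s - algebraMap k K a ≠ 0 := by
    intro h0
    apply hs
    rw [sub_eq_zero.mp h0]
    exact isAlgebraic_algebraMap a
  obtain ⟨e, he⟩ : ∃ e : ℤ, Q.1 (s - algebraMap k K a) = WithZero.exp (-e) :=
    ⟨Q.ord (s - algebraMap k K a), FF.val_eq_exp_neg_ord Q hπ0⟩
  have he1 : 1 ≤ e := by
    rw [he, ← WithZero.exp_zero, WithZero.exp_lt_exp] at ha
    omega
  obtain ⟨x, hx⟩ := hsurj (WithZero.exp (-1))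
  have hx' : Q.1 (x : K) = WithZero.exp (-1) := hx
  obtain ⟨r, q, hrq⟩ := (IntermediateField.mem_adjoin_simple_iff k (x : K)).mp x.2
  have hx0 : (x : K) ≠ 0 := by
    intro h0; rw [h0, map_zero] at hx'; exact WithZero.exp_ne_zero hx'.symm
  have hr0 : r ≠ 0 := by
    intro h0; rw [h0, map_zero, zero_div] at hrq; exact hx0 hrq
  have hq0 : q ≠ 0 := by
    intro h0; rw [h0, map_zero, div_zero] at hrq; exact hx0 hrq
  obtain ⟨m₁, hm₁⟩ := val_aeval_eq_pow Q hs1 ha r hr0
  obtain ⟨m₂, hm₂⟩ := val_aeval_eq_pow Q hs1 ha q hq0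
  rw [hrq, map_div₀, hm₁, hm₂, he, ← WithZero.exp_nsmul, ← WithZero.exp_nsmul,
    ← WithZero.exp_sub, WithZero.exp_inj] at hx'
  simp only [nsmul_eq_mul] at hx'
  have h1 : e * ((m₂ : ℤ) - m₁) = -1 + 0 * e := by linarith
  have h2 : e ∣ 1 := by
    refine ⟨(m₁ : ℤ) - m₂, ?_⟩
    linarith
  have h3 : e = 1 := Int.eq_one_of_dvd_one (by omega) h2
  rw [he, h3]

theorem ordDiff_eq_zero_of_unif {P : Place k K} {φ : K →ₐ[k] LaurentSeries k}
    (hφ : LocRes.IsExpansionAt P.1 φ) {t : K} (ht : P.1 t = WithZero.exp (-1)) :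
    LocRes.ordDiff φ 1 t = 0 := by
  unfold LocRes.ordDiff LocRes.vDiff
  rw [map_one, one_mul]
  have h1 : Valued.v (φ t) = WithZero.exp (-(1 : ℤ)) := by rw [hφ.1]; exact ht
  have h2 := LR.val_D_eq h1 (by simp)
  rw [h2]; simp

theorem D_sub_const (φ : K →ₐ[k] LaurentSeries k) (s : K) (a : k) :
    LocRes.D k (φ (s - algebraMap k K a)) = LocRes.D k (φ s) := by
  rw [map_sub, map_sub, LocRes.map_algebraMap, LocRes.D_apply k (HahnSeries.C _),
    LocRes.derivative_C, sub_zero]

theorem ordDiff_sub_const (φ : K →ₐ[k] LaurentSeries k) (s : K) (a : k) :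
    LocRes.ordDiff φ 1 (s - algebraMap k K a) = LocRes.ordDiff φ 1 s := by
  unfold LocRes.ordDiff LocRes.vDiff
  rw [D_sub_const]

section AC

variable [IsAlgClosed k] (hK : IsFunctionField k K)

include hK in
/-- The divisor of `ds` has finite support, for `s` with `K/k(s)` finite separable. -/
theorem finite_support_ordDiff (Φ : Place k K → (K →ₐ[k] LaurentSeries k))
    (hΦ : ∀ P : Place k K, LocRes.IsExpansionAt P.1 (Φ P)) {s : K} (hs : Transcendental k s)
    [FiniteDimensional k⟮s⟯ K] [Algebra.IsSeparable k⟮s⟯ K] :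
    (Function.support fun P : Place k K => LocRes.ordDiff (Φ P) 1 s).Finite := by
  have hF := isFunctionField_adjoin_simple hK hs
  have h1 := FF.finite_ramified (K := k⟮s⟯) (K' := K) hF
  have h2 := FF.finite_support_ord hK s
  apply (h1.union h2).subset
  intro P hP
  rw [Function.mem_support] at hP
  by_contra hnot
  rw [Set.mem_union, not_or] at hnot
  obtain ⟨hn1, hn2⟩ := hnot
  have hsurj : Function.Surjective (P.1.comap (algebraMap k⟮s⟯ K)) := not_not.mp hn1
  have hord : P.ord s = 0 := by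
    by_contra h; exact hn2 h
  have hs0 : s ≠ 0 := fun h0 => hs (h0 ▸ isAlgebraic_zero)
  have hs1 : P.1 s ≤ 1 := by
    rw [FF.val_eq_exp_neg_ord P hs0, hord]; simp
  obtain ⟨a, ha⟩ := Groth.Agent.Lib.Helper23.FF.exists_const_val_sub_lt_one P
    (Groth.Agent.Lib.Helper23.FF.deg_eq_one hK P) hs1
  have hunif := val_sub_const_eq_of_unramified P hs hsurj hs1 ha
  apply hP
  rw [← ordDiff_sub_const (Φ P) s a]
  exact ordDiff_eq_zero_of_unif (hΦ P) hunif

include hK in
theorem divDiff_apply (Φ : Place k K → (K →ₐ[k] LaurentSeries k))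
    (hΦ : ∀ P : Place k K, LocRes.IsExpansionAt P.1 (Φ P)) {s : K} (hs : Transcendental k s)
    [FiniteDimensional k⟮s⟯ K] [Algebra.IsSeparable k⟮s⟯ K] (P : Place k K) :
    divDiff Φ 1 s P = LocRes.ordDiff (Φ P) 1 s := by
  classical
  unfold divDiff
  rw [dif_pos (finite_support_ordDiff hK Φ hΦ hs)]
  rfl

end AC

end Groth.Agent.Lib.Helper27.HD
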