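import Mathlib
import Groth.Agent.Lib.Helper27.HD24
import Groth.Agent.Lib.Helper27.LR2

/-! Hasse families, part 25: the chain rule for the divisor of `ds`. -/

set_option autoImplicit false

namespace Groth.Agent.Lib.Helper27.HD

open FunFld PowerSeries IntermediateField

universe u v
variable {k : Type u} {K : Type v} [Field k] [Field K] [Algebra k K]

theorem kaehler_D_ne_zero {t : K} {Ht : K →ₐ[k] PowerSeries K}
    (hHt : LocRes.IsHasseFamily t Ht) : KaehlerDifferential.D k K t ≠ 0 := by
  intro h0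
  have h1 := congrArg (deriv1 hHt).liftKaehlerDifferential h0
  rw [Derivation.liftKaehlerDifferential_comp_D, map_zero, deriv1_var] at h1
  exact one_ne_zero h1

section AC

variable [IsAlgClosed k] (hK : IsFunctionField k K)

include hK in
theorem kaehler_D_eq_smul {t : K} {Ht : K →ₐ[k] PowerSeries K}
    (hHt : LocRes.IsHasseFamily t Ht) (z : K) :
    KaehlerDifferential.D k K z = LocRes.hasseD Ht 1 z • KaehlerDifferential.D k K t := by
  obtain ⟨g, hg⟩ := LR.exists_smul_D hK isGeometric_of_isAlgClosed (kaehler_D_ne_zero hHt) z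
  have h1 := congrArg (deriv1 hHt).liftKaehlerDifferential hg
  rw [map_smul, Derivation.liftKaehlerDifferential_comp_D,
    Derivation.liftKaehlerDifferential_comp_D, deriv1_var, deriv1_apply, smul_eq_mul, mul_one]
    at h1
  rw [hg, h1]

include hK in
/-- The differential of a separating variable has nonzero expansion at every place. -/
theorem vDiff_ne_zero {t : K} {Ht : K →ₐ[k] PowerSeries K} (hHt : LocRes.IsHasseFamily t Ht)
    (P : Place k K) {φ : K →ₐ[k] LaurentSeries k} (hφ : LocRes.IsExpansionAt P.1 φ) :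
    LocRes.vDiff φ 1 t ≠ 0 := by
  obtain ⟨π, hπ, -, -⟩ := Groth.Agent.Lib.Helper23.FF.exists_uniformizer P
  have h1 : Valued.v (φ π) = WithZero.exp (-(1 : ℤ)) := by rw [hφ.1]; exact hπ
  have h2 := LR.val_D_eq h1 (by simp)
  have h3 := LR.D_map_of_smul φ (kaehler_D_eq_smul hK hHt π)
  rw [LR.vDiff_one]
  intro h0
  rw [_root_.map_eq_zero] at h0
  rw [h3, h0, mul_zero, map_zero] at h2
  exact WithZero.exp_ne_zero h2.symm

include hK in
/-- The chain rule at a place: `ord_P(ds) = ord_P(ds/dt) + ord_P(dt)`. -/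
theorem ordDiff_chain {s t : K} {Hs Ht : K →ₐ[k] PowerSeries K}
    (hHs : LocRes.IsHasseFamily s Hs) (hHt : LocRes.IsHasseFamily t Ht)
    (P : Place k K) {φ : K →ₐ[k] LaurentSeries k} (hφ : LocRes.IsExpansionAt P.1 φ) :
    LocRes.ordDiff φ 1 s = P.ord (LocRes.hasseD Ht 1 s) + LocRes.ordDiff φ 1 t := by
  rw [LR.ordDiff_of_smul φ (kaehler_D_eq_smul hK hHt s) (vDiff_ne_zero hK hHs P hφ), hφ.1]
  rfl

end AC

end Groth.Agent.Lib.Helper27.HD
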