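import Mathlib
import Groth.Agent.Lib.Helper27.HD25
import Groth.Agent.Lib.Helper27.FFExt5
import Groth.Agent.Lib.Helper27.FunFld17
import Groth.Agent.Lib.Helper23.FF4c

/-! Hasse families, part 26: the Wronskian of a rescaled tuple; divisors of equivalent maps. -/

set_option autoImplicit false

namespace Groth.Agent.Lib.Helper27.HD

open FunFld PowerSeries IntermediateField

universe u v
variable {k : Type u} {K : Type v} [Field k] [Field K] [Algebra k K]

/-- The Wronskian of `h • φ` at the order sequence of `φ`. -/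
theorem det_wrMat_scale {n : ℕ} (τ : K →ₐ[k] K) {t : K} {H : K →ₐ[k] PowerSeries K}
    (hH : LocRes.IsHasseFamily t H) (φ : Fin (n + 1) → K) (h : K)
    (J : Fin n → ℕ) (hJ : IsOrders K (hcol τ H φ) J) :
    (wrMat τ H (fun i => h * φ i) J).det = τ h * h ^ n * (wrMat τ H φ J).det := by
  have hmono := strictMono_idx hJ.1
  have hd := det_eq_prod_mul_det_of_tri (wrMat τ H φ J) (wrMat τ H (fun i => h * φ i) J)
    (fun i => Nat.casesOn (motive := fun _ => K) (idx J i) (τ h)
      (fun _ => LocRes.hasseD H 0 h)) ?_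
  · rw [hd, Fin.prod_univ_succ]
    congr 1
    simp only [idx, Fin.cases_zero, Fin.cases_succ]
    rw [Finset.prod_const, Finset.card_univ, Fintype.card_fin, hasseD_zero hH]
    rfl
  · intro i
    rw [wrMat_col, wrMat_col]
    have h1 := hcol_scale τ H φ h (idx J i)
    refine Submodule.span_mono ?_ (span_image_Iio_le_span_jumps (K := K) _ _ h1)
    rintro _ ⟨j, ⟨hj, hjump⟩, rfl⟩
    have hj' : ∃ i', idx J i' = j := by
      cases j with
      | zero => exact ⟨0, rfl⟩
      | succ j' =>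
        obtain ⟨l, hl⟩ := (hJ.2 j').mpr hjump
        exact ⟨l.succ, by simp [idx, hl]⟩
    obtain ⟨i', rfl⟩ := hj'
    refine ⟨i', ?_, (wrMat_col τ H φ J i')⟩
    exact hmono.lt_iff_lt.mp hj

/-- The Wronskian of a `k`-linearly transformed tuple. -/
theorem det_wrMat_linear {n : ℕ} (τ : K →ₐ[k] K) (H : K →ₐ[k] PowerSeries K)
    (φ ψ : Fin (n + 1) → K) (I : Fin n → ℕ) (A : Matrix (Fin (n + 1)) (Fin (n + 1)) k)
    (hA : ∀ r, ψ r = ∑ i, A r i • φ i) :
    (wrMat τ H ψ I).det = algebraMap k K A.det * (wrMat τ H φ I).det := by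
  rw [wrMat_linear τ H φ ψ I A hA, Matrix.det_mul]
  congr 1
  rw [RingHom.map_det]; rfl

section Div

/-- The least order of a nonzero element of the span is at least the least order of the
generators. -/
theorem inf_ord_le_of_mem_span {ι : Type*} [Fintype ι] [Nonempty ι] (P : Place k K)
    (φ : ι → K) (hφ : ∀ i, φ i ≠ 0) {f : K} (hf : f ∈ Submodule.span k (Set.range φ))
    (hf0 : f ≠ 0) :
    Finset.univ.inf' Finset.univ_nonempty (fun i => P.ord (φ i)) ≤ P.ord f := by
  set m := Finset.univ.inf' Finset.univ_nonempty (fun i => P.ord (φ i)) with hm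
  have h1 : ∀ i, P.1 (φ i) ≤ WithZero.exp (-m) := by
    intro i
    rw [FF.val_eq_exp_neg_ord P (hφ i), WithZero.exp_le_exp, neg_le_neg_iff]
    exact Finset.inf'_le _ (Finset.mem_univ i)
  obtain ⟨a, ha⟩ := (Submodule.mem_span_range_iff_exists_fun k).mp hf
  have h2 : P.1 f ≤ WithZero.exp (-m) := by
    rw [← ha]
    apply Valuation.map_sum_le
    intro i _
    rw [Algebra.smul_def, map_mul]
    calc P.1 (algebraMap k K (a i)) * P.1 (φ i) ≤ 1 * WithZero.exp (-m) :=
          mul_le_mul' (P.2.1 (a i)) (h1 i)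
      _ = _ := one_mul _
  rw [FF.val_eq_exp_neg_ord P hf0, WithZero.exp_le_exp, neg_le_neg_iff] at h2
  exact h2

variable (hK : IsFunctionField k K)

include hK in
theorem mapDiv_eq_of_span_eq {ι ι' : Type*} [Fintype ι] [Nonempty ι] [Fintype ι'] [Nonempty ι']
    (φ : ι → K) (ψ : ι' → K) (hφ : ∀ i, φ i ≠ 0) (hψ : ∀ i, ψ i ≠ 0)
    (hspan : Submodule.span k (Set.range ψ) = Submodule.span k (Set.range φ)) :
    mapDiv k ψ = mapDiv k φ := by
  ext P
  rw [FF.mapDiv_apply' hK, FF.mapDiv_apply' hK, neg_inj]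
  apply le_antisymm
  · rw [Finset.le_inf'_iff]
    intro i _
    apply inf_ord_le_of_mem_span P ψ hψ _ (hφ i)
    rw [hspan]; exact Submodule.subset_span ⟨i, rfl⟩
  · rw [Finset.le_inf'_iff]
    intro i _
    apply inf_ord_le_of_mem_span P φ hφ _ (hψ i)
    rw [← hspan]; exact Submodule.subset_span ⟨i, rfl⟩

include hK in
theorem mapDiv_scale {ι : Type*} [Fintype ι] [Nonempty ι] (φ : ι → K) (hφ : ∀ i, φ i ≠ 0)
    {y : K} (hy : y ≠ 0) : mapDiv k (fun i => y * φ i) = mapDiv k φ - FunFld.div k y := by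
  ext P
  rw [Finsupp.sub_apply, FF.mapDiv_apply' hK, FF.mapDiv_apply' hK, FF.div_apply' hK]
  have : (fun i => P.ord (y * φ i)) = fun i => P.ord y + P.ord (φ i) := by
    funext i; exact FF.ord_mul P hy (hφ i)
  rw [this]
  have h2 : Finset.univ.inf' Finset.univ_nonempty (fun i => P.ord y + P.ord (φ i)) =
      P.ord y + Finset.univ.inf' Finset.univ_nonempty (fun i => P.ord (φ i)) := by
    apply le_antisymm
    · obtain ⟨i, -, hi⟩ := Finset.exists_mem_eq_inf' Finset.univ_nonempty (fun i => P.ord (φ i))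
      rw [hi]
      exact Finset.inf'_le (fun i => P.ord y + P.ord (φ i)) (Finset.mem_univ i)
    · rw [Finset.le_inf'_iff]
      intro i _
      have := Finset.inf'_le (fun i => P.ord (φ i)) (Finset.mem_univ i)
      linarith
  rw [h2]; ring

end Div

end Groth.Agent.Lib.Helper27.HD
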