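import Mathlib
import Groth.Agent.Lib.Helper27.HD26
import Groth.Agent.Lib.Helper27.FunFld11

/-! Hasse families, part 27: invariance of the Weierstrass divisor. -/

set_option autoImplicit false

namespace Groth.Agent.Lib.Helper27.HD

open FunFld PowerSeries IntermediateField

universe u v
variable {k : Type u} {K : Type v} [Field k] [Field K] [Algebra k K]

/-- A `k`-linear transform by an invertible matrix has the same span. -/
theorem span_eq_of_matrix {V : Type*} [AddCommGroup V] [Module k V] {m : ℕ}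
    (φ ψ : Fin m → V) (A : Matrix (Fin m) (Fin m) k) (hdet : A.det ≠ 0)
    (hA : ∀ r, ψ r = ∑ i, A r i • φ i) :
    Submodule.span k (Set.range ψ) = Submodule.span k (Set.range φ) := by
  apply le_antisymm
  · rw [Submodule.span_le]
    rintro _ ⟨r, rfl⟩
    rw [hA r]
    exact Submodule.sum_mem _ fun i _ => Submodule.smul_mem _ _ (Submodule.subset_span ⟨i, rfl⟩)
  · rw [Submodule.span_le]
    rintro _ ⟨j, rfl⟩
    have hinv : A⁻¹ * A = 1 := Matrix.nonsing_inv_mul A ((isUnit_iff_ne_zero).mpr hdet)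
    have : φ j = ∑ r, A⁻¹ j r • ψ r := by
      have h1 : ∑ r, A⁻¹ j r • ψ r = ∑ i, (∑ r, A⁻¹ j r * A r i) • φ i := by
        simp only [hA, Finset.smul_sum, smul_smul, Finset.sum_smul]
        rw [Finset.sum_comm]
      rw [h1]
      have h2 : ∀ i, ∑ r, A⁻¹ j r * A r i = (1 : Matrix (Fin m) (Fin m) k) j i := by
        intro i
        rw [← hinv, Matrix.mul_apply]
      simp only [h2, Matrix.one_apply]
      simp
    rw [SetLike.mem_coe, this]
    exact Submodule.sum_mem _ fun i _ => Submodule.smul_mem _ _ (Submodule.subset_span ⟨i, rfl⟩)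

theorem ne_zero_of_matrix {V : Type*} [AddCommGroup V] [Module k V] {m : ℕ}
    (φ ψ : Fin m → V) (hφ : LinearIndependent k φ) (A : Matrix (Fin m) (Fin m) k)
    (hdet : A.det ≠ 0) (hA : ∀ r, ψ r = ∑ i, A r i • φ i) (r : Fin m) : ψ r ≠ 0 := by
  intro h0
  rw [hA r] at h0
  have := Fintype.linearIndependent_iff.mp hφ _ h0
  exact hdet (Matrix.det_eq_zero_of_row_eq_zero r this)

theorem mapDiv_equiv (hK : IsFunctionField k K) {n : ℕ} (φ : Fin (n + 1) → K)
    (hφ : LinearIndependent k φ) (A : Matrix (Fin (n + 1)) (Fin (n + 1)) k) (hdet : A.det ≠ 0)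
    {y : K} (hy : y ≠ 0) (φ' : Fin (n + 1) → K) (hφ' : ∀ i, φ' i = y * ∑ j, A i j • φ j) :
    mapDiv k φ' = mapDiv k φ - FunFld.div k y := by
  set ψ : Fin (n + 1) → K := fun i => ∑ j, A i j • φ j with hψ
  have hψ0 := ne_zero_of_matrix φ ψ hφ A hdet (fun r => rfl)
  have h1 : φ' = fun i => y * ψ i := funext hφ'
  rw [h1, mapDiv_scale hK ψ hψ0 hy,
    mapDiv_eq_of_span_eq hK φ ψ (fun i => hφ.ne_zero i) hψ0
      (span_eq_of_matrix φ ψ A hdet (fun r => rfl))]

section AC

variable [IsAlgClosed k] (hK : IsFunctionField k K)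

include hK in
/-- S12614: the Weierstrass divisor does not depend on the separating variable nor on the
representative of the map. -/
theorem wDiv_invariant {n : ℕ} (φ : Fin (n + 1) → K) (hφ : LinearIndependent k φ)
    (τ : K →ₐ[k] K) (s : K) (Hs : K →ₐ[k] PowerSeries K) (hHs : LocRes.IsHasseFamily s Hs)
    (t : K) (Ht : K →ₐ[k] PowerSeries K) (hHt : LocRes.IsHasseFamily t Ht)
    (J : Fin n → ℕ) (hJ : IsOrders K (hcol τ Hs φ) J)
    (A : Matrix (Fin (n + 1)) (Fin (n + 1)) k) (hA : A.det ≠ 0) (y : K) (hy : y ≠ 0)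
    (φ' : Fin (n + 1) → K) (hφ' : ∀ i, φ' i = y * ∑ j, A i j • φ j)
    (Φ : Place k K → (K →ₐ[k] LaurentSeries k))
    (hΦ : ∀ P : Place k K, LocRes.IsExpansionAt P.1 (Φ P)) :
    wDiv τ Ht Φ t φ' J = wDiv τ Hs Φ s φ J := by
  set ψ : Fin (n + 1) → K := fun i => ∑ j, A i j • φ j with hψ
  have hφ'eq : φ' = fun i => y * ψ i := funext hφ'
  have hJt : IsOrders K (hcol τ Ht φ) J := (isOrders_iff_change φ τ hK hHs hHt J).mpr hJ
  have hJψ : IsOrders K (hcol τ Ht ψ) J :=
    (isOrders_linear_iff τ Ht φ ψ A (fun r => rfl) hA J).mpr hJt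
  -- the Wronskian
  have hw : (wrMat τ Ht φ' J).det = τ y * y ^ n * (algebraMap k K A.det *
      (LocRes.hasseD Ht 1 s ^ (∑ l, J l) * (wrMat τ Hs φ J).det)) := by
    rw [hφ'eq, det_wrMat_scale τ hHt ψ y J hJψ, det_wrMat_linear τ Ht φ ψ J A (fun r => rfl),
      det_wrMat_change φ τ hK hHs hHt J hJ]
  have hτy : τ y ≠ 0 := (map_ne_zero_iff τ τ.toRingHom.injective).mpr hy
  have hyn : y ^ n ≠ 0 := pow_ne_zero _ hy
  have hdetA : algebraMap k K A.det ≠ 0 :=
    (map_ne_zero_iff _ (algebraMap k K).injective).mpr hA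
  have hDs : LocRes.hasseD Ht 1 s ≠ 0 := hasseD_one_var_ne_zero hK hHs hHt
  have hDsn : LocRes.hasseD Ht 1 s ^ (∑ l, J l) ≠ 0 := pow_ne_zero _ hDs
  have hws : (wrMat τ Hs φ J).det ≠ 0 := det_wrMat_ne_zero_of_isOrders φ hφ τ hJ
  have hdivw : FunFld.div k (wrMat τ Ht φ' J).det = FunFld.div k (τ y) + (n : ℤ) • FunFld.div k y +
      ((∑ l, J l : ℕ) : ℤ) • FunFld.div k (LocRes.hasseD Ht 1 s) +
      FunFld.div k (wrMat τ Hs φ J).det := by
    rw [hw, FF.div_mul' hK (mul_ne_zero hτy hyn) (mul_ne_zero hdetA (mul_ne_zero hDsn hws)),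
      FF.div_mul' hK hτy hyn, FF.div_mul' hK hdetA (mul_ne_zero hDsn hws),
      FF.div_mul' hK hDsn hws, FF.div_pow' hK hy, FF.div_pow' hK hDs,
      Groth.Agent.Lib.Helper23.FF.div_const hK]
    abel
  -- the divisors of the maps
  have hm1 : mapDiv k φ' = mapDiv k φ - FunFld.div k y := mapDiv_equiv hK φ hφ A hA hy φ' hφ'
  have hτφ : LinearIndependent k (τ ∘ φ) :=
    hφ.map' τ.toLinearMap (LinearMap.ker_eq_bot.mpr τ.toRingHom.injective)
  have hm2 : mapDiv k (τ ∘ φ') = mapDiv k (τ ∘ φ) - FunFld.div k (τ y) := by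
    apply mapDiv_equiv hK (τ ∘ φ) hτφ A hA hτy
    intro i
    show τ (φ' i) = τ y * ∑ j, A i j • τ (φ j)
    rw [hφ' i, map_mul, map_sum]
    congr 1
    apply Finset.sum_congr rfl
    intro j _
    rw [map_smul]
  -- the divisors of the differentials
  have hstr := transcendental_var hK hHs
  have httr := transcendental_var hK hHt
  haveI := Groth.Agent.Lib.Helper23.FF.finiteDimensional_adjoin hK hstr
  haveI := Groth.Agent.Lib.Helper23.FF.finiteDimensional_adjoin hK httr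
  haveI := isSeparable_var hK hHs
  haveI := isSeparable_var hK hHt
  have hdd : divDiff Φ 1 s = FunFld.div k (LocRes.hasseD Ht 1 s) + divDiff Φ 1 t := by
    ext P
    rw [Finsupp.add_apply, divDiff_apply hK Φ hΦ hstr, divDiff_apply hK Φ hΦ httr,
      FF.div_apply' hK, ordDiff_chain hK hHs hHt P (hΦ P)]
  unfold wDiv
  rw [hdivw, hm1, hm2, hdd]
  have hcast : ((∑ l, J l : ℕ) : ℤ) = ∑ l, (J l : ℤ) := by push_cast; rfl
  rw [hcast]
  simp only [smul_sub, smul_add]
  abel

end AC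

end Groth.Agent.Lib.Helper27.HD
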