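import Mathlib
import Groth.Agent.Lib.Helper27.HD27

/-! Hasse families, part 28: existence of the total Hasse derivative with respect to another
separating variable. -/

set_option autoImplicit false

namespace Groth.Agent.Lib.Helper27.HD

open FunFld PowerSeries IntermediateField

universe u v
variable {k : Type u} {K : Type v} [Field k] [Field K] [Algebra k K]

theorem constantCoeff_subst_of_constantCoeff_zero {g : K⟦X⟧} (hg : constantCoeff g = 0)
    (f : K⟦X⟧) : constantCoeff (subst g f : K⟦X⟧) = constantCoeff f := by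
  have hg' : HasSubst g := HasSubst.of_constantCoeff_zero' hg
  have hf : f = C (constantCoeff f) + (f - C (constantCoeff f)) := by ring
  have h1 : constantCoeff (f - C (constantCoeff f)) = 0 := by
    rw [map_sub, constantCoeff_C, sub_self]
  conv_lhs => rw [hf, subst_add hg', subst_C]
  have h2 := constantCoeff_subst_eq_zero (R := K) (S := K) (τ := Unit) (a := g) hg
    (f - C (constantCoeff f)) h1
  rw [map_add]
  have h3 : constantCoeff (subst g (f - C (constantCoeff f)) : K⟦X⟧) = 0 := h2
  rw [h3, add_zero]
  exact constantCoeff_C _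

/-- Existence of the total Hasse derivative with respect to `t`, given one with respect to `s`
and `D_s t ≠ 0`. -/
theorem exists_hasseFamily {s : K} {Hs : K →ₐ[k] PowerSeries K}
    (hHs : LocRes.IsHasseFamily s Hs) (t : K) (hDt : LocRes.hasseD Hs 1 t ≠ 0) :
    ∃ Ht : K →ₐ[k] PowerSeries K, LocRes.IsHasseFamily t Ht := by
  set h : K⟦X⟧ := Hs t - C t with hh
  have hh0 : constantCoeff h = 0 := by
    rw [hh, map_sub, hHs.2 t, constantCoeff_C, sub_self]
  have hh1 : IsUnit (coeff 1 h) := by
    rw [hh, map_sub, coeff_C, if_neg one_ne_zero, sub_zero]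
    exact (isUnit_iff_ne_zero).mpr hDt
  set g : K⟦X⟧ := h.substInvOfIsUnit hh1 with hgdef
  have hg0 : constantCoeff g = 0 := constantCoeff_substInvOfIsUnit h hh1
  have hg : HasSubst g := HasSubst.of_constantCoeff_zero' hg0
  let S : K⟦X⟧ →ₐ[K] K⟦X⟧ := substAlgHom (R := K) (S := K) (τ := Unit) hg
  have hS : ∀ f : K⟦X⟧, S f = subst g f := fun f => by
    show substAlgHom (R := K) (S := K) (τ := Unit) hg f = subst g f
    rw [coe_substAlgHom]
  refine ⟨(S.restrictScalars k).comp Hs, ?_, ?_⟩
  · show S (Hs t) = C t + X
    have : Hs t = C t + h := by rw [hh]; ring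
    rw [this, map_add, hS, hS, subst_C]
    congr 1
    exact subst_substInvOfIsUnit_right h hh0 hh1
  · intro y
    show constantCoeff (S (Hs y)) = y
    rw [hS, constantCoeff_subst_of_constantCoeff_zero hg0, hHs.2 y]

end Groth.Agent.Lib.Helper27.HD
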