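import Mathlib
import Groth.Agent.Lib.Helper27.HD28

/-! Hasse families, part 29: fixed points of `τ ≠ 1` are Weierstrass points (S12610). -/

set_option autoImplicit false

namespace Groth.Agent.Lib.Helper27.HD

open FunFld PowerSeries IntermediateField

universe u v
variable {k : Type u} {K : Type v} [Field k] [Field K] [Algebra k K]

/-- An endomorphism fixing generators of `K` is the identity. -/
theorem algHom_eq_id_of_adjoin_eq_top (τ : K →ₐ[k] K) (S : Set K)
    (hS : IntermediateField.adjoin k S = ⊤) (h : ∀ x ∈ S, τ x = x) : τ = AlgHom.id k K := by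
  let F : IntermediateField k K :=
    { carrier := {x | τ x = x}
      mul_mem' := fun {a b} ha hb => by
        show τ (a * b) = a * b
        rw [map_mul, ha, hb]
      add_mem' := fun {a b} ha hb => by
        show τ (a + b) = a + b
        rw [map_add, ha, hb]
      algebraMap_mem' := fun c => τ.commutes c
      inv_mem' := fun a ha => by
        show τ a⁻¹ = a⁻¹
        rw [map_inv₀, ha] }
  have hle : IntermediateField.adjoin k S ≤ F := by
    rw [IntermediateField.adjoin_le_iff]
    exact h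
  rw [hS] at hle
  ext x
  exact hle (IntermediateField.mem_top : x ∈ (⊤ : IntermediateField k K))

section AC

variable [IsAlgClosed k] (hK : IsFunctionField k K)

include hK in
theorem wDiv_pos_of_fixedPt {n : ℕ} (φ : Fin (n + 1) → K) (hφ : LinearIndependent k φ)
    (h0 : φ 0 ≠ 0) (hbir : IntermediateField.adjoin k (Set.range fun i => φ i / φ 0) = ⊤)
    (τ : K →ₐ[k] K) (hτ : τ ≠ AlgHom.id k K) (P : Place k K) (hP : IsFixedPt τ P)
    (s : K) (H : K →ₐ[k] PowerSeries K) (hH : LocRes.IsHasseFamily s H)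
    (J : Fin n → ℕ) (hJ : IsOrders K (hcol τ H φ) J)
    (Φ : Place k K → (K →ₐ[k] LaurentSeries k))
    (hΦ : ∀ P : Place k K, LocRes.IsExpansionAt P.1 (Φ P)) :
    0 < wDiv τ H Φ s φ J P := by
  classical
  -- a local parameter and its Hasse family
  obtain ⟨t, ht, ht0, htlt⟩ := Groth.Agent.Lib.Helper23.FF.exists_uniformizer P
  have hDKt : KaehlerDifferential.D k K t ≠ 0 := by
    apply LR.D_ne_zero_of_map (Φ P)
    have h1 : Valued.v (Φ P t) = WithZero.exp (-(1 : ℤ)) := by rw [(hΦ P).1]; exact ht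
    have h2 := LR.val_D_eq h1 (by simp)
    intro h3
    rw [h3, map_zero] at h2
    exact WithZero.exp_ne_zero h2.symm
  have hDt : LocRes.hasseD H 1 t ≠ 0 := by
    intro h3
    apply hDKt
    rw [kaehler_D_eq_smul hK hH t, h3, zero_smul]
  obtain ⟨Ht, hHt⟩ := exists_hasseFamily hH t hDt
  -- normalization at `P`
  obtain ⟨i0, -, hi0⟩ := Finset.exists_mem_eq_inf' Finset.univ_nonempty (fun i => P.ord (φ i))
  have hφ0 : ∀ i, φ i ≠ 0 := fun i => hφ.ne_zero i
  set y : K := (φ i0)⁻¹ with hy
  have hy0 : y ≠ 0 := inv_ne_zero (hφ0 i0)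
  set φ' : Fin (n + 1) → K := fun i => y * φ i with hφ'def
  have hφ'i0 : φ' i0 = 1 := inv_mul_cancel₀ (hφ0 i0)
  have hnorm : ∀ i, P.1 (φ' i) ≤ 1 := by
    intro i
    have h1 : P.ord (φ i0) ≤ P.ord (φ i) := by
      rw [← hi0]; exact Finset.inf'_le _ (Finset.mem_univ i)
    show P.1 ((φ i0)⁻¹ * φ i) ≤ 1
    rw [map_mul, map_inv₀, FF.val_eq_exp_neg_ord P (hφ0 i0), FF.val_eq_exp_neg_ord P (hφ0 i),
      ← WithZero.exp_neg, ← WithZero.exp_add, ← WithZero.exp_zero, WithZero.exp_le_exp]
    omega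
  have heff : (1 : K) ∈ Submodule.span k (Set.range φ') := by
    rw [← hφ'i0]; exact Submodule.subset_span ⟨i0, rfl⟩
  have hφ'li : LinearIndependent k φ' :=
    hφ.map' (LinearMap.mulLeft k y) (LinearMap.ker_eq_bot.mpr (mul_right_injective₀ hy0))
  -- invariance
  have hinv := wDiv_invariant hK φ hφ τ s H hH t Ht hHt J hJ (1 : Matrix _ _ k)
    (by rw [Matrix.det_one]; exact one_ne_zero) y hy0 φ'
    (by
      intro i
      show y * φ i = y * ∑ j, (1 : Matrix (Fin (n + 1)) (Fin (n + 1)) k) i j • φ j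
      congr 1
      simp [Matrix.one_apply]) Φ hΦ
  rw [← hinv]
  have hJ' : IsOrders K (hcol τ Ht φ') J :=
    (isOrders_scale_iff τ hHt φ y hy0 J).mpr ((isOrders_iff_change φ τ hK hH hHt J).mpr hJ)
  rw [wDiv_apply hK τ P hP φ' heff hnorm ht Ht Φ (hΦ P) J]
  have hdet0 : (wrMat τ Ht φ' J).det ≠ 0 := det_wrMat_ne_zero_of_isOrders φ' hφ'li τ hJ'
  -- column `1` is a jump
  have hjump : IsJump K (hcol τ Ht φ') 1 := by
    unfold IsJump
    have h1 : (Set.Iio 1 : Set ℕ) = {0} := by ext x; simp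
    rw [h1, Set.image_singleton, Submodule.mem_span_singleton]
    rintro ⟨c, hc⟩
    apply hτ
    have hc' : ∀ i, c * τ (φ' i) = φ' i := by
      intro i
      have := congrFun hc i
      simp only [Pi.smul_apply, smul_eq_mul] at this
      rw [show hcol τ Ht φ' 1 i = LocRes.hasseD Ht 0 (φ' i) from rfl, hasseD_zero hHt] at this
      exact this
    have hc1 : c = 1 := by
      have := hc' i0
      rw [hφ'i0, map_one, mul_one] at this
      exact this
    have hfix : ∀ i, τ (φ' i) = φ' i := by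
      intro i
      have := hc' i
      rwa [hc1, one_mul] at this
    apply algHom_eq_id_of_adjoin_eq_top τ _ hbir
    rintro _ ⟨i, rfl⟩
    have e : φ i / φ 0 = φ' i / φ' 0 := by
      show φ i / φ 0 = (y * φ i) / (y * φ 0)
      field_simp
    show τ (φ i / φ 0) = φ i / φ 0
    rw [e, map_div₀, hfix i, hfix 0]
  obtain ⟨l, hl⟩ := (hJ'.2 0).mpr hjump
  -- the reduced matrix has two equal columns
  have hM : ∀ r s', P.1 (wrMat τ Ht φ' J r s') ≤ 1 := by
    intro r s'
    induction s' using Fin.cases with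
    | zero => exact val_tau_le_one hK P τ hP (hnorm r)
    | succ l' => exact val_hasseD_le_one' hK P ht hHt (hnorm r) (J l')
  obtain ⟨hle, hev⟩ := evalP_det P (wrMat τ Ht φ' J) hM
  have hzero : (Matrix.of fun r s' => evalP P (wrMat τ Ht φ' J r s')).det = 0 := by
    apply Matrix.det_zero_of_column_eq (i := (0 : Fin (n + 1))) (j := l.succ) (Fin.succ_ne_zero l).symm
    intro r
    simp only [Matrix.of_apply]
    show evalP P (τ (φ' r)) = evalP P (LocRes.hasseD Ht (J l) (φ' r))
    rw [hl, hasseD_zero hHt, evalP_tau hK P τ hP (hnorm r)]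
  rw [hzero] at hev
  have hlt : P.1 (wrMat τ Ht φ' J).det < 1 := (evalP_eq_zero_iff P hle).mp hev
  rw [FF.val_eq_exp_neg_ord P hdet0, ← WithZero.exp_zero, WithZero.exp_lt_exp] at hlt
  omega

end AC

end Groth.Agent.Lib.Helper27.HD
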