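import Mathlib
import Groth.Agent.Lib.Helper27.HD29

/-! Hasse families, part 30: a local parameter with its Hasse family at every place; existence of
the order sequence at a place. -/

set_option autoImplicit false

namespace Groth.Agent.Lib.Helper27.HD

open FunFld PowerSeries IntermediateField

universe u v
variable {k : Type u} {K : Type v} [Field k] [Field K] [Algebra k K]

/-- General existence of an order sequence for a spanning sequence of columns with nonzero leading
column. -/
theorem exists_isOrders_of_span {F : Type*} [Field F] {n : ℕ} (c : ℕ → Fin (n + 1) → F)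
    (hspan : Submodule.span F (Set.range c) = ⊤) (hc0 : c 0 ≠ 0) :
    ∃ J : Fin n → ℕ, IsOrders F c J := by
  classical
  have hj0 : IsJump F c 0 := by
    unfold IsJump
    have : (Set.Iio 0 : Set ℕ) = ∅ := by ext x; simp
    rw [this, Set.image_empty, Submodule.span_empty, Submodule.mem_bot]
    exact hc0
  obtain ⟨S, hS, hcard, -⟩ := exists_jumps_finset (K := F) c hspan
  rw [Module.finrank_fintype_fun_eq_card, Fintype.card_fin] at hcard
  have h0 : 0 ∈ S := (hS 0).mpr hj0
  set T : Finset ℕ := (S.erase 0).image Nat.pred with hT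
  have hTcard : T.card = n := by
    rw [hT, Finset.card_image_of_injOn, Finset.card_erase_of_mem h0, hcard]
    · rfl
    · intro a ha b hb hab
      have ha' : a ≠ 0 := (Finset.mem_erase.mp ha).1
      have hb' : b ≠ 0 := (Finset.mem_erase.mp hb).1
      simp only [Nat.pred_eq_sub_one] at hab
      omega
  have hTmem : ∀ j, j ∈ T ↔ IsJump F c (j + 1) := by
    intro j
    rw [hT, Finset.mem_image]
    constructor
    · rintro ⟨a, ha, rfl⟩
      have ha' : a ≠ 0 := (Finset.mem_erase.mp ha).1
      have : a.pred + 1 = a := by simp only [Nat.pred_eq_sub_one]; omega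
      rw [this]
      exact (hS a).mp (Finset.mem_erase.mp ha).2
    · intro hj
      exact ⟨j + 1, Finset.mem_erase.mpr ⟨by omega, (hS _).mpr hj⟩, rfl⟩
  refine ⟨fun l => T.orderEmbOfFin hTcard l, (T.orderEmbOfFin hTcard).strictMono, ?_⟩
  intro j
  rw [← hTmem j]
  have := Finset.range_orderEmbOfFin T hTcard
  rw [← Finset.mem_coe, ← this]

section AC

variable [IsAlgClosed k] (hK : IsFunctionField k K)

include hK in
/-- At every place there is a local parameter admitting a total Hasse derivative. -/
theorem exists_hasseFamily_at {s : K} {H : K →ₐ[k] PowerSeries K}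
    (hH : LocRes.IsHasseFamily s H) (P : Place k K) :
    ∃ (t : K) (Ht : K →ₐ[k] PowerSeries K), P.1 t = WithZero.exp (-1) ∧
      LocRes.IsHasseFamily t Ht := by
  obtain ⟨t, ht, ht0, htlt⟩ := Groth.Agent.Lib.Helper23.FF.exists_uniformizer P
  have hΦ := isExpansionAt_exp hK P ht
  have hDKt : KaehlerDifferential.D k K t ≠ 0 := by
    apply LR.D_ne_zero_of_map (exp hK P ht)
    have h1 : Valued.v (exp hK P ht t) = WithZero.exp (-(1 : ℤ)) := by rw [hΦ.1]; exact ht
    have h2 := LR.val_D_eq h1 (by simp)
    intro h3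
    rw [h3, map_zero] at h2
    exact WithZero.exp_ne_zero h2.symm
  have hDt : LocRes.hasseD H 1 t ≠ 0 := by
    intro h3
    apply hDKt
    rw [kaehler_D_eq_smul hK hH t, h3, zero_smul]
  obtain ⟨Ht, hHt⟩ := exists_hasseFamily hH t hDt
  exact ⟨t, Ht, ht, hHt⟩

variable (P : Place k K) {t : K} (ht : P.1 t = WithZero.exp (-1))
  {Ht : K →ₐ[k] PowerSeries K} (hHt : LocRes.IsHasseFamily t Ht)
  {n : ℕ} (φ : Fin (n + 1) → K) (hφ : LinearIndependent k φ) (hnorm : ∀ i, P.1 (φ i) ≤ 1)

include hK ht hHt hφ hnorm in
/-- S12599 as a library lemma: the rows of the local Hasse matrix are independent. -/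
theorem rows_independent_at :
    LinearIndependent (IsLocalRing.ResidueField P.O)
      (fun i : Fin (n + 1) => fun j : ℕ => evalP P (LocRes.hasseD Ht j (φ i))) := by
  classical
  have hP1 := Groth.Agent.Lib.Helper23.FF.deg_eq_one hK P
  have hsurj := surjective_algebraMap_residue P hP1
  have hinj : Function.Injective (algebraMap k (IsLocalRing.ResidueField P.O)) :=
    (algebraMap k (IsLocalRing.ResidueField P.O)).injective
  rw [Fintype.linearIndependent_iff]
  intro g hg
  choose c hc using fun i => hsurj (g i)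
  set x : K := ∑ i, c i • φ i with hx
  have hx1 : P.1 x ≤ 1 := by
    rw [hx]
    apply P.1.map_sum_le
    intro i _
    rw [Algebra.smul_def, map_mul]
    exact mul_le_one' (P.2.1 _) (hnorm i)
  have hcoef : ∀ j : ℕ, (exp hK P ht x).coeff j = 0 := by
    intro j
    have h1 := congrFun hg j
    simp only [Finset.sum_apply, Pi.smul_apply, Pi.zero_apply] at h1
    have h2 : ∀ i, g i • evalP P (LocRes.hasseD Ht j (φ i)) =
        algebraMap k (IsLocalRing.ResidueField P.O) (c i * (exp hK P ht (φ i)).coeff j) := by
      intro i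
      rw [evalP_hasseD hK P ht hHt (hnorm i) j, ← hc i, smul_eq_mul, ← map_mul]
    rw [Finset.sum_congr rfl (fun i _ => h2 i), ← map_sum] at h1
    have h3 := hinj (h1.trans (map_zero _).symm)
    rw [hx, map_sum, HahnSeries.coeff_sum]
    rw [← h3]
    apply Finset.sum_congr rfl
    intro i _
    rw [Algebra.smul_def, map_mul, AlgHom.commutes, LocRes.algebraMap_eq_C,
      HahnSeries.C_mul_eq_smul, HahnSeries.coeff_smul, smul_eq_mul]
  have hx0 : x = 0 := by
    have hexp := isExpansionAt_exp hK P ht
    have h1 : Valued.v (exp hK P ht x) ≤ 1 := by rw [hexp.1]; exact hx1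
    obtain ⟨f, hf⟩ := (LaurentSeries.val_le_one_iff_eq_coe k _).mp h1
    have hf0 : f = 0 := by
      ext j
      have := hcoef j
      rw [← hf, PowerSeries.coeff_coe, if_neg (by omega), Int.natAbs_natCast] at this
      rw [this, map_zero]
    rw [hf0] at hf
    have h2 : exp hK P ht x = 0 := by rw [← hf]; simp
    have h3 : P.1 x = 0 := by rw [← hexp.1, h2, map_zero]
    exact (P.1.zero_iff).mp h3
  have hc0 := Fintype.linearIndependent_iff.mp hφ c hx0
  intro i
  rw [← hc i, hc0 i, map_zero]

include hK ht hHt hφ hnorm in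
theorem span_hcolAt_eq_top :
    Submodule.span (IsLocalRing.ResidueField P.O) (Set.range (hcolAt P Ht φ)) = ⊤ := by
  by_contra hne
  obtain ⟨f, hf0, hle⟩ := Submodule.exists_le_ker_of_lt_top _ (lt_top_iff_ne_top.mpr hne)
  apply hf0
  set a : Fin (n + 1) → IsLocalRing.ResidueField P.O :=
    fun i => f (fun j => if i = j then 1 else 0) with ha
  have hfa : ∀ v : Fin (n + 1) → IsLocalRing.ResidueField P.O, f v = ∑ i, v i * a i := by
    intro v
    rw [LinearMap.pi_apply_eq_sum_univ f v]
    rfl
  have ha0 : a = 0 := by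
    have hli := rows_independent_at hK P ht hHt φ hφ hnorm
    rw [Fintype.linearIndependent_iff] at hli
    funext i
    apply hli a
    funext j
    have h1 : hcolAt P Ht φ (j + 1) ∈ LinearMap.ker f := hle (Submodule.subset_span ⟨j + 1, rfl⟩)
    rw [LinearMap.mem_ker, hfa] at h1
    simp only [Finset.sum_apply, Pi.smul_apply, Pi.zero_apply, smul_eq_mul]
    rw [← h1]
    apply Finset.sum_congr rfl
    intro i _
    show a i * evalP P (LocRes.hasseD Ht j (φ i)) = evalP P (LocRes.hasseD Ht j (φ i)) * a i
    ring
  refine LinearMap.ext fun v => ?_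
  rw [hfa, ha0]
  simp

include hK ht hHt hφ hnorm in
/-- Existence of the order sequence at a place. -/
theorem exists_isOrdersAt (heff : (1 : K) ∈ Submodule.span k (Set.range φ)) :
    ∃ J' : Fin n → ℕ, IsOrders (IsLocalRing.ResidueField P.O) (hcolAt P Ht φ) J' := by
  apply exists_isOrders_of_span _ (span_hcolAt_eq_top hK P ht hHt φ hφ hnorm)
  obtain ⟨i, hi⟩ := exists_unit_of_eff P φ heff hnorm
  intro h0
  have h1 : evalP P (φ i) = 0 := congrFun h0 i
  have h2 := (evalP_eq_zero_iff P hi.le).mp h1
  rw [hi] at h2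
  exact lt_irrefl _ h2

end AC

end Groth.Agent.Lib.Helper27.HD
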