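import Mathlib
import Groth.Agent.Lib.Helper27.HD30

/-! Hasse families, part 31: determinants of binomial matrices at distinct small arguments. -/

set_option autoImplicit false

namespace Groth.Agent.Lib.Helper27.HD

open FunFld

/-- The matrix `(x r choose s)` with distinct `x r` below the characteristic is invertible. -/
theorem det_choose_ne_zero (R : Type*) [Field R] {m : ℕ} (x : Fin m → ℕ)
    (hx : Function.Injective x) (hchar : ringChar R = 0 ∨ ∀ r, x r < ringChar R) :
    (Matrix.of fun r s : Fin m => (((x r).choose (s : ℕ) : ℕ) : R)).det ≠ 0 := by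
  classical
  have hinj : Function.Injective (fun r => ((x r : ℕ) : R)) := by
    intro a b hab
    apply hx
    rcases hchar with h0 | hlt
    · haveI : CharP R 0 := by
        have := ringChar.charP R
        rwa [h0] at this
      haveI : CharZero R := CharP.charP_to_charZero R
      exact Nat.cast_injective hab
    · haveI := ringChar.charP R
      exact CharP.natCast_injOn_Iio R (ringChar R) (hlt a) (hlt b) hab
  have h1 := Matrix.det_eval_matrixOfPolynomials_eq_det_vandermonde (fun r => ((x r : ℕ) : R))
    (fun i : Fin m => descPochhammer R i) (fun i => descPochhammer_natDegree R i)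
    (fun i => monic_descPochhammer R i)
  have h2 : (Matrix.vandermonde fun r => ((x r : ℕ) : R)).det ≠ 0 :=
    Matrix.det_vandermonde_ne_zero_iff.mpr hinj
  rw [h1] at h2
  have h3 : (Matrix.of fun i j : Fin m => (descPochhammer R j).eval ((x i : ℕ) : R)) =
      Matrix.of fun i j : Fin m =>
        (((j : ℕ).factorial : ℕ) : R) * (((x i).choose (j : ℕ) : ℕ) : R) := by
    ext i j
    simp only [Matrix.of_apply]
    rw [descPochhammer_eval_eq_descFactorial, Nat.descFactorial_eq_factorial_mul_choose,
      Nat.cast_mul]
  rw [h3, Matrix.det_mul_row] at h2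
  exact right_ne_zero_of_mul h2

/-- `binomMat` against `(0, 1, …, n-1)`. -/
theorem det_binomMat_id_ne_zero (R : Type*) [Field R] {n : ℕ} (J : Fin n → ℕ)
    (hJ : Function.Injective J) (hchar : ringChar R = 0 ∨ ∀ r, J r < ringChar R) :
    (binomMat R J (fun l : Fin n => (l : ℕ))).det ≠ 0 :=
  det_choose_ne_zero R J hJ hchar

end Groth.Agent.Lib.Helper27.HD

namespace Groth.Agent.Lib.Helper27.HD

open FunFld

/-- `binomMat` against `(1, 2, …, n)`. -/
theorem det_binomMat_succ_ne_zero (R : Type*) [Field R] {n : ℕ} (J : Fin n → ℕ)
    (hJ : Function.Injective J) (hJ1 : ∀ l, 1 ≤ J l)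
    (hchar : ringChar R = 0 ∨ ∀ r, J r < ringChar R) :
    (binomMat R J (fun l : Fin n => (l : ℕ) + 1)).det ≠ 0 := by
  have hinj : Function.Injective (ext0 J) := by
    intro a b hab
    induction a using Fin.cases with
    | zero =>
      induction b using Fin.cases with
      | zero => rfl
      | succ b =>
        rw [ext0_zero, ext0_succ] at hab
        have := hJ1 b
        omega
    | succ a =>
      induction b using Fin.cases with
      | zero =>
        rw [ext0_zero, ext0_succ] at hab
        have := hJ1 a
        omega
      | succ b =>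
        rw [ext0_succ, ext0_succ] at hab
        rw [hJ hab]
  have hchar' : ringChar R = 0 ∨ ∀ r, ext0 J r < ringChar R := by
    by_cases h0 : ringChar R = 0
    · exact Or.inl h0
    rcases hchar with h | h
    · exact Or.inl h
    · right
      intro r
      induction r using Fin.cases with
      | zero => rw [ext0_zero]; omega
      | succ l => rw [ext0_succ]; exact h l
  have h1 := det_choose_ne_zero R (ext0 J) hinj hchar'
  rw [det_reduced_of_row _ (by simp) (by
    intro l
    simp only [Matrix.of_apply, ext0_zero, Fin.val_succ]
    rw [Nat.choose_zero_succ, Nat.cast_zero])] at h1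
  convert h1 using 2
  ext r s
  simp [binomMat]

end Groth.Agent.Lib.Helper27.HD
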