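import Mathlib
import Groth.Prelude.Def_W4bk4goldsch23FF
import Groth.Prelude.Def_W4bk4goldsch23Ext
import Groth.Agent.Lib.Helper27.Geo2
import Groth.Agent.Lib.Helper27.FFExt1

/-! The rational function field as a function field of one variable; ramification index bounded
by the degree. -/

namespace Groth.Agent.Lib.Helper27.Rat
open FunFld WithZero IntermediateField

section RatFunc
universe u
variable (k : Type u) [Field k]

theorem surjective_algebraMap_adjoin_X :
    Function.Surjective (algebraMap k⟮(RatFunc.X : RatFunc k)⟯ (RatFunc k)) := by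
  intro z
  exact ⟨⟨z, by rw [RatFunc.adjoin_X]; exact IntermediateField.mem_top⟩, rfl⟩

theorem isFunctionField_ratFunc : IsFunctionField k (RatFunc k) := by
  refine ⟨⟨RatFunc.X, RatFunc.transcendental_X, ?_⟩, fun y hy => ?_⟩
  · exact Module.Finite.of_surjective
      (Algebra.linearMap k⟮(RatFunc.X : RatFunc k)⟯ (RatFunc k))
      (surjective_algebraMap_adjoin_X k)
  · by_contra h
    refine RatFunc.transcendental_of_ne_C y (fun hc => h ?_) hy
    obtain ⟨c, hc⟩ := hc
    exact ⟨c, by rw [hc]; rfl⟩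

instance isSeparable_adjoin_X : Algebra.IsSeparable k⟮(RatFunc.X : RatFunc k)⟯ (RatFunc k) := by
  refine ⟨fun z => ?_⟩
  obtain ⟨w, rfl⟩ := surjective_algebraMap_adjoin_X k z
  exact isSeparable_algebraMap w

theorem finrank_kaehler_ratFunc : Module.finrank (RatFunc k) (Ω[RatFunc k⁄k]) = 1 :=
  (Geo.kaehler_aux (RatFunc.X : RatFunc k) RatFunc.transcendental_X).1

theorem two_eq_zero_of_ringChar (h2 : ringChar k = 2) : (2 : RatFunc k) = 0 := by
  have h : ((2 : ℕ) : k) = 0 := by
    rw [← h2]; exact ringChar.Nat.cast_ringChar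
  have : (2 : RatFunc k) = algebraMap k (RatFunc k) ((2 : ℕ) : k) := by
    rw [map_natCast]; rfl
  rw [this, h, map_zero]

end RatFunc

section Ram
variable {k : Type*} {K : Type*} {K' : Type*} [Field k] [Field K] [Field K'] [Algebra k K]
  [Algebra K K'] [Algebra k K']

theorem ramIdx_le_finrank [FiniteDimensional K K'] {Q : Place k K'} {P : Place k K} {e : ℕ}
    (he : IsOverWith Q P e) : e ≤ Module.finrank K K' := by
  classical
  obtain ⟨s, hs⟩ := Q.2.2 (exp (-1))
  have hli : LinearIndependent K (fun i : Fin e => s ^ (i : ℕ)) := by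
    rw [Fintype.linearIndependent_iff]
    intro g hsum
    by_contra hcon
    push Not at hcon
    obtain ⟨i₁, hi₁⟩ := hcon
    let c : Fin e → K' := fun i => g i • s ^ (i : ℕ)
    have hval : ∀ i, Q.1 (c i) = P.1 (g i) ^ e * exp (-((i : ℕ) : ℤ)) := by
      intro i
      simp only [c, Algebra.smul_def, map_mul, map_pow, he _, hs, ← exp_nsmul]
      congr 2
      simp
    obtain ⟨j₀, -, hj₀max⟩ := Finset.exists_max_image Finset.univ (fun i => Q.1 (c i))
      ⟨i₁, Finset.mem_univ _⟩
    have hj₀ne : Q.1 (c j₀) ≠ 0 := by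
      have h1 := hj₀max i₁ (Finset.mem_univ _)
      have h2 : Q.1 (c i₁) ≠ 0 := by
        rw [hval]
        exact mul_ne_zero (pow_ne_zero _ ((map_ne_zero _).mpr hi₁)) exp_ne_zero
      exact (lt_of_lt_of_le (zero_lt_iff.mpr h2) h1).ne'
    have hlt : ∀ i ∈ Finset.univ \ {j₀}, Q.1 (c i) < Q.1 (c j₀) := by
      intro i hi
      have hij : i ≠ j₀ := by simpa using hi
      refine lt_of_le_of_ne (hj₀max i (Finset.mem_univ _)) fun heq => ?_
      have hnei : Q.1 (c i) ≠ 0 := heq ▸ hj₀ne
      have hnej := hj₀ne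
      rw [hval] at hnei hnej
      rw [hval, hval] at heq
      have hai : P.1 (g i) ≠ 0 := fun h => by
        rw [h, zero_pow (by have := i.2; omega), zero_mul] at hnei; exact hnei rfl
      have haj : P.1 (g j₀) ≠ 0 := fun h => by
        rw [h, zero_pow (by have := i.2; omega), zero_mul] at hnej; exact hnej rfl
      obtain ⟨a, ha⟩ : ∃ a : ℤ, P.1 (g i) = exp a := ⟨_, (exp_log hai).symm⟩
      obtain ⟨b, hb⟩ : ∃ b : ℤ, P.1 (g j₀) = exp b := ⟨_, (exp_log haj).symm⟩
      rw [ha, hb, ← exp_nsmul, ← exp_nsmul, ← exp_add, ← exp_add, exp_inj] at heq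
      simp only [nsmul_eq_mul] at heq
      have hdvd : (e : ℤ) ∣ (((i : ℕ) : ℤ) - ((j₀ : ℕ) : ℤ)) := ⟨a - b, by linarith⟩
      have hi2 := i.2
      have hj2 := j₀.2
      have h0 : ((i : ℕ) : ℤ) - ((j₀ : ℕ) : ℤ) = 0 := by
        apply Int.eq_zero_of_abs_lt_dvd hdvd
        rw [abs_lt]
        constructor <;> omega
      exact hij (Fin.ext (by omega))
    have := Q.1.map_sum_eq_of_lt (Finset.mem_univ j₀) hlt
    rw [show ∑ i, c i = 0 from hsum, map_zero] at this
    exact hj₀ne this.symm
  have := hli.fintype_card_le_finrank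
  simpa using this

end Ram

end Groth.Agent.Lib.Helper27.Rat
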