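import Mathlib
import Groth.Prelude.Def_W4bk4goldsch23FF
import Groth.Prelude.Def_W4bk4goldsch23Ext
import Groth.Agent.Lib.Helper27.Rat1
import Groth.Agent.Lib.Helper27.FFExt4
import Groth.Agent.Lib.Helper23.FF1

/-! Places of the rational function field; residue degree inequality; quadratic extensions. -/

namespace Groth.Agent.Lib.Helper27.Rat
open FunFld WithZero Polynomial

section Places
universe u
variable {k : Type u} [Field k] (P : Place k (RatFunc k))

theorem val_poly_le_one (h : P.1 RatFunc.X ≤ 1) (q : k[X]) :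
    P.1 (algebraMap k[X] (RatFunc k) q) ≤ 1 := by
  rw [← RatFunc.aeval_X_left_eq_algebraMap]
  exact Helper23.FF.val_aeval_le_one P.1 P.2.1 h q

theorem val_poly_of_one_lt (h : 1 < P.1 RatFunc.X) {q : k[X]} (hq : q ≠ 0) :
    P.1 (algebraMap k[X] (RatFunc k) q) = P.1 RatFunc.X ^ q.natDegree := by
  have hX0 : (RatFunc.X : RatFunc k) ≠ 0 := RatFunc.X_ne_zero
  letI : Invertible (RatFunc.X : RatFunc k) := invertibleOfNonzero hX0
  have h1 := eval₂_reverse_mul_pow (algebraMap k (RatFunc k)) (RatFunc.X : RatFunc k) q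
  rw [invOf_eq_inv] at h1
  have hinv : P.1 ((RatFunc.X : RatFunc k)⁻¹) < 1 := by
    rw [map_inv₀]; exact inv_lt_one_of_one_lt₀ h
  have h2 := Helper23.FF.val_aeval_eq_one P.1 (fun c hc => FF.val_const P hc) hinv q.reverse
    (by rw [coeff_zero_reverse]; exact leadingCoeff_ne_zero.mpr hq)
  rw [aeval_def] at h2
  rw [← RatFunc.aeval_X_left_eq_algebraMap, aeval_def, ← h1, map_mul, map_pow, h2, one_mul]

theorem val_X_le_one_of_poly_lt {q : k[X]} (hq : q ≠ 0)
    (h : P.1 (algebraMap k[X] (RatFunc k) q) < 1) : P.1 RatFunc.X ≤ 1 := by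
  by_contra hX
  rw [not_le] at hX
  rw [val_poly_of_one_lt P hX hq] at h
  exact absurd h (not_lt.mpr (one_le_pow₀ hX.le))

theorem val_poly_eq_one_of_not_dvd {p : k[X]} (hp : Irreducible p)
    (hlt : P.1 (algebraMap k[X] (RatFunc k) p) < 1) {q : k[X]} (hq : ¬ p ∣ q) :
    P.1 (algebraMap k[X] (RatFunc k) q) = 1 := by
  have hX := val_X_le_one_of_poly_lt P hp.ne_zero hlt
  obtain ⟨a, b, hab⟩ := (hp.coprime_iff_not_dvd).mpr hq
  have h1 : P.1 (algebraMap k[X] (RatFunc k) (a * p)) < 1 := by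
    rw [map_mul, map_mul]
    exact lt_of_le_of_lt (mul_le_of_le_one_left zero_le (val_poly_le_one P hX a)) hlt
  have h2 : P.1 (algebraMap k[X] (RatFunc k) (b * q)) = 1 := by
    have : algebraMap k[X] (RatFunc k) (b * q) = 1 - algebraMap k[X] (RatFunc k) (a * p) := by
      rw [← map_one (algebraMap k[X] (RatFunc k)), ← hab, map_add]; ring
    rw [this]
    exact Valuation.map_one_sub_of_lt _ h1
  rw [map_mul, map_mul] at h2
  by_contra hne
  have hlt' : P.1 (algebraMap k[X] (RatFunc k) q) < 1 :=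
    lt_of_le_of_ne (val_poly_le_one P hX q) hne
  have : P.1 (algebraMap k[X] (RatFunc k) b) * P.1 (algebraMap k[X] (RatFunc k) q) < 1 :=
    lt_of_le_of_lt (mul_le_of_le_one_left zero_le (val_poly_le_one P hX b)) hlt'
  rw [h2] at this
  exact lt_irrefl _ this

theorem val_poly_eq_pow {p : k[X]} (hp : Irreducible p)
    (hlt : P.1 (algebraMap k[X] (RatFunc k) p) < 1) {q : k[X]} (hq : q ≠ 0) :
    ∃ n : ℕ, P.1 (algebraMap k[X] (RatFunc k) q) = P.1 (algebraMap k[X] (RatFunc k) p) ^ n := by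
  obtain ⟨c, hc, hnd⟩ :=
    (FiniteMultiplicity.of_not_isUnit hp.not_isUnit hq).exists_eq_pow_mul_and_not_dvd
  refine ⟨multiplicity p q, ?_⟩
  conv_lhs => rw [hc]
  rw [map_mul, map_mul, map_pow, map_pow, val_poly_eq_one_of_not_dvd P hp hlt hnd, mul_one]

theorem val_irreducible_eq {p : k[X]} (hp : Irreducible p)
    (hlt : P.1 (algebraMap k[X] (RatFunc k) p) < 1) :
    P.1 (algebraMap k[X] (RatFunc k) p) = exp (-1) := by
  have hp0 : P.1 (algebraMap k[X] (RatFunc k) p) ≠ 0 :=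
    (_root_.map_ne_zero _).mpr (RatFunc.algebraMap_ne_zero hp.ne_zero)
  obtain ⟨m, hm⟩ : ∃ m : ℤ, P.1 (algebraMap k[X] (RatFunc k) p) = exp m :=
    ⟨_, (exp_log hp0).symm⟩
  have hm0 : m < 0 := by
    rw [hm, ← exp_zero, exp_lt_exp] at hlt
    exact hlt
  obtain ⟨r, hr⟩ := P.2.2 (exp (-1))
  have hr0 : r ≠ 0 := by
    rintro rfl
    rw [map_zero] at hr
    exact exp_ne_zero hr.symm
  have hnum0 : r.num ≠ 0 := RatFunc.num_ne_zero hr0
  obtain ⟨a, ha⟩ := val_poly_eq_pow P hp hlt hnum0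
  obtain ⟨b, hb⟩ := val_poly_eq_pow P hp hlt r.denom_ne_zero
  have hdiv := RatFunc.num_div_denom r
  rw [← hdiv, map_div₀, ha, hb, hm, ← exp_nsmul, ← exp_nsmul, ← exp_sub, exp_inj] at hr
  simp only [nsmul_eq_mul] at hr
  have h1 : (-m) * ((a : ℤ) - b) = 1 := by linarith
  have h2 : -m = 1 := Int.eq_one_of_mul_eq_one_right (by omega) h1
  rw [hm]
  congr 1
  omega

theorem val_X_eq_of_one_lt (h : 1 < P.1 RatFunc.X) : P.1 RatFunc.X = exp 1 := by
  have hX0 : P.1 (RatFunc.X : RatFunc k) ≠ 0 := (_root_.map_ne_zero _).mpr RatFunc.X_ne_zero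
  obtain ⟨m, hm⟩ : ∃ m : ℤ, P.1 (RatFunc.X : RatFunc k) = exp m := ⟨_, (exp_log hX0).symm⟩
  have hm0 : 0 < m := by
    rw [hm, ← exp_zero, exp_lt_exp] at h
    exact h
  obtain ⟨r, hr⟩ := P.2.2 (exp 1)
  have hr0 : r ≠ 0 := by
    rintro rfl
    rw [map_zero] at hr
    exact exp_ne_zero hr.symm
  have hdiv := RatFunc.num_div_denom r
  rw [← hdiv, map_div₀, val_poly_of_one_lt P h (RatFunc.num_ne_zero hr0),
    val_poly_of_one_lt P h r.denom_ne_zero, hm, ← exp_nsmul, ← exp_nsmul, ← exp_sub, exp_inj] at hr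
  simp only [nsmul_eq_mul] at hr
  have h1 : m * ((r.num.natDegree : ℤ) - r.denom.natDegree) = 1 := by linarith
  have h2 : m = 1 := Int.eq_one_of_mul_eq_one_right (by omega) h1
  rw [hm, h2]

end Places

end Groth.Agent.Lib.Helper27.Rat
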