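import Mathlib
import Groth.Prelude.Def_W4bk4goldsch23FF
import Groth.Prelude.Def_W4bk4goldsch23Ext
import Groth.Agent.Lib.Helper27.Rat2
import Groth.Agent.Lib.Helper27.FFExt4
import Groth.Agent.Lib.Helper23.FF3b

/-! Degree of the infinite place of `k(x)`; residue degree inequality; totally ramified places;
quadratic extensions by a square root of a unit are not ramified. -/

namespace Groth.Agent.Lib.Helper27.Rat
open FunFld WithZero Polynomial

section Div
variable {k : Type*} {K : Type*} [Field k] [Field K] [Algebra k K]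

theorem apply_mul_deg_le_deg {D : Divisor k K} (hD : 0 ≤ D) (P : Place k K) :
    D P * (P.deg : ℤ) ≤ D.deg := by
  classical
  unfold Divisor.deg Finsupp.sum
  have hnn : ∀ Q ∈ D.support, 0 ≤ D Q * (Q.deg : ℤ) := fun Q _ =>
    mul_nonneg (hD Q) (Int.natCast_nonneg _)
  by_cases hP : P ∈ D.support
  · exact Finset.single_le_sum (f := fun Q => D Q * (Q.deg : ℤ)) hnn hP
  · rw [Finsupp.notMem_support_iff.mp hP, zero_mul]
    exact Finset.sum_nonneg hnn

end Div

section Inf
universe u
variable {k : Type u} [Field k] (P : Place k (RatFunc k))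

theorem finrank_adjoin_X : Module.finrank (IntermediateField.adjoin k {(RatFunc.X : RatFunc k)})
    (RatFunc k) = 1 := by
  have : ∀ E : IntermediateField k (RatFunc k), E = ⊤ → Module.finrank E (RatFunc k) = 1 := by
    rintro _ rfl
    exact IntermediateField.finrank_top
  exact this _ RatFunc.adjoin_X

theorem deg_of_one_lt (h : 1 < P.1 RatFunc.X) : P.deg = 1 := by
  have hK := isFunctionField_ratFunc k
  have h1 := FF.deg_poleDiv_eq hK (RatFunc.transcendental_X (K := k))
  rw [finrank_adjoin_X] at h1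
  have h2 := apply_mul_deg_le_deg (FF.poleDiv_nonneg (k := k) (RatFunc.X : RatFunc k)) P
  rw [h1, FF.poleDiv_apply hK] at h2
  have h3 : P.ord (RatFunc.X : RatFunc k) = -1 := by
    unfold Place.ord
    rw [val_X_eq_of_one_lt P h, log_exp]
  rw [h3] at h2
  have h4 := Helper23.FF.deg_pos hK P
  have h5 : ((P.deg : ℕ) : ℤ) ≤ 1 := by simpa using h2
  omega

end Inf

section ResidueMap
variable {k : Type*} {K : Type*} {K' : Type*} [Field k] [Field K] [Field K'] [Algebra k K]
  [Algebra K K'] [Algebra k K'] [IsScalarTower k K K']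

theorem deg_le_deg_of_isOverWith {Q : Place k K'} {P : Place k K} {e : ℕ} (he : IsOverWith Q P e)
    [FiniteDimensional k (IsLocalRing.ResidueField Q.O)] : P.deg ≤ Q.deg := by
  have he1 := FF.isOverWith_pos he
  have hle : ∀ x : P.O, algebraMap K K' x.1 ∈ Q.O := fun x => by
    rw [Valuation.mem_valuationSubring_iff, he x.1]
    exact pow_le_one₀ zero_le ((Valuation.mem_valuationSubring_iff _ _).mp x.2)
  let f : P.O →+* Q.O := ((algebraMap K K').comp P.O.subtype).codRestrict Q.O hle
  have hf : ∀ x : P.O, ((f x : Q.O) : K') = algebraMap K K' x.1 := fun x => rfl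
  haveI : IsLocalHom f := by
    refine ⟨fun a ha => ?_⟩
    obtain ⟨b, hb⟩ := isUnit_iff_exists_inv.mp ha
    have hb' : algebraMap K K' a.1 * b.1 = 1 := by
      have := congrArg (Subtype.val) hb
      simpa [hf] using this
    have h1 : Q.1 (algebraMap K K' a.1) * Q.1 b.1 = 1 := by rw [← map_mul, hb', map_one]
    have ha1 : Q.1 (algebraMap K K' a.1) ≤ 1 := hle a
    have hb1 : Q.1 b.1 ≤ 1 := (Valuation.mem_valuationSubring_iff _ _).mp b.2
    have h2 : Q.1 (algebraMap K K' a.1) = 1 := by
      by_contra hne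
      have hlt : Q.1 (algebraMap K K' a.1) < 1 := lt_of_le_of_ne ha1 hne
      have : Q.1 (algebraMap K K' a.1) * Q.1 b.1 < 1 :=
        lt_of_le_of_lt (mul_le_of_le_one_right zero_le hb1) hlt
      rw [h1] at this
      exact lt_irrefl _ this
    rw [he a.1] at h2
    have h3 : P.1 a.1 = 1 := (pow_eq_one_iff_of_nonneg zero_le (by omega)).mp h2
    have ha0 : a.1 ≠ 0 := by
      intro h0
      rw [h0, map_zero] at h3
      exact zero_ne_one h3
    refine isUnit_iff_exists_inv.mpr ⟨⟨a.1⁻¹, ?_⟩, ?_⟩
    · rw [Valuation.mem_valuationSubring_iff, map_inv₀, h3, inv_one]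
    · ext
      simp [ha0]
  let g := IsLocalRing.ResidueField.map f
  let g' : IsLocalRing.ResidueField P.O →ₗ[k] IsLocalRing.ResidueField Q.O :=
    { toFun := g
      map_add' := map_add g
      map_smul' := fun c r => by
        show g (c • r) = c • g r
        rw [Algebra.smul_def, map_mul, Algebra.smul_def]
        congr 1
        show g (IsLocalRing.residue P.O (algebraMap k P.O c)) =
          IsLocalRing.residue Q.O (algebraMap k Q.O c)
        rw [IsLocalRing.ResidueField.map_residue]
        congr 1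
        ext
        exact (IsScalarTower.algebraMap_apply k K K' c).symm }
  exact LinearMap.finrank_le_finrank_of_injective (f := g') g.injective

end ResidueMap

section Tot
universe u v w
variable {k : Type u} {K : Type v} {K' : Type w} [Field k] [Field K] [Field K'] [Algebra k K]
  [Algebra K K'] [Algebra k K'] [IsScalarTower k K K']

/-- If every place above `P` has ramification index `[K' : K]`, there is exactly one place above
`P`, and it has the degree of `P`. -/
theorem unique_of_totally_ramified (hK : IsFunctionField k K) (hK' : IsFunctionField k K')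
    [FiniteDimensional K K'] (P : Place k K)
    (hall : ∀ Q : Place k K', IsOver Q P → IsOverWith Q P (Module.finrank K K')) :
    (∃! Q : Place k K', IsOver Q P) ∧ ∀ Q : Place k K', IsOver Q P → Q.deg = P.deg := by
  classical
  obtain ⟨hfin, hsum⟩ := FF.sum_ramIdx_mul_deg (K' := K') hK P
  have hn0 : 0 < Module.finrank K K' := Module.finrank_pos
  have h1 := hsum hfin.toFinset (fun Q => hfin.mem_toFinset)
  have h2 : ∑ Q ∈ hfin.toFinset, ramIdx Q P * Q.deg =
      Module.finrank K K' * ∑ Q ∈ hfin.toFinset, Q.deg := by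
    rw [Finset.mul_sum]
    refine Finset.sum_congr rfl fun Q hQ => ?_
    rw [FF.ramIdx_eq (hall Q (hfin.mem_toFinset.mp hQ))]
  rw [h2] at h1
  have h3 : ∑ Q ∈ hfin.toFinset, Q.deg = P.deg := Nat.eq_of_mul_eq_mul_left hn0 h1
  have hPpos := Helper23.FF.deg_pos hK P
  have hge : ∀ Q ∈ hfin.toFinset, P.deg ≤ Q.deg := fun Q hQ => by
    haveI := Helper23.FF.finiteDimensional_residueField hK' Q
    exact deg_le_deg_of_isOverWith (hall Q (hfin.mem_toFinset.mp hQ))
  have hcard : hfin.toFinset.card * P.deg ≤ P.deg := by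
    calc hfin.toFinset.card * P.deg = ∑ _Q ∈ hfin.toFinset, P.deg := by
          rw [Finset.sum_const, smul_eq_mul]
      _ ≤ ∑ Q ∈ hfin.toFinset, Q.deg := Finset.sum_le_sum hge
      _ = P.deg := h3
  have hcard1 : hfin.toFinset.card ≤ 1 := by
    by_contra hlt
    rw [not_le] at hlt
    have : 2 * P.deg ≤ hfin.toFinset.card * P.deg := Nat.mul_le_mul_right _ hlt
    omega
  have hne : hfin.toFinset.Nonempty := by
    rw [Finset.nonempty_iff_ne_empty]
    intro hempty
    rw [hempty, Finset.sum_empty] at h3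
    omega
  obtain ⟨Q₁, hQ₁⟩ := hne
  have huniq : ∀ Q : Place k K', IsOver Q P → Q = Q₁ := fun Q hQ =>
    Finset.card_le_one.mp hcard1 Q (hfin.mem_toFinset.mpr hQ) Q₁ hQ₁
  have hset : hfin.toFinset = {Q₁} := by
    ext Q
    rw [Finset.mem_singleton]
    exact ⟨fun h => huniq Q (hfin.mem_toFinset.mp h), fun h => h ▸ hQ₁⟩
  rw [hset, Finset.sum_singleton] at h3
  refine ⟨⟨Q₁, hfin.mem_toFinset.mp hQ₁, huniq⟩, fun Q hQ => ?_⟩
  rw [huniq Q hQ, h3]

theorem even_of_sq {Q : Place k K'} {P : Place k K} {e : ℕ} (he : IsOverWith Q P e) {y : K'}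
    {g : K} (hy : y ^ 2 = algebraMap K K' g) (hodd : Odd (P.ord g)) : Even e := by
  have hg0 : g ≠ 0 := by
    rintro rfl
    rw [FF.ord_zero] at hodd
    simp at hodd
  have hy0 : y ≠ 0 := by
    rintro rfl
    rw [zero_pow two_ne_zero] at hy
    exact hg0 ((map_eq_zero (algebraMap K K')).mp hy.symm)
  have h1 : Q.1 y ^ 2 = P.1 g ^ e := by rw [← map_pow, hy, he g]
  obtain ⟨m, hm⟩ : ∃ m : ℤ, P.1 g = exp m := ⟨_, (exp_log ((_root_.map_ne_zero _).mpr hg0)).symm⟩
  obtain ⟨n, hn⟩ : ∃ n : ℤ, Q.1 y = exp n := ⟨_, (exp_log ((_root_.map_ne_zero _).mpr hy0)).symm⟩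
  have hord : P.ord g = -m := by
    unfold Place.ord
    rw [hm, log_exp]
  rw [hord] at hodd
  rw [hm, hn, ← exp_nsmul, ← exp_nsmul, exp_inj] at h1
  simp only [nsmul_eq_mul] at h1
  have hmo : Odd m := by simpa using hodd.neg
  have h2 : Even ((e : ℤ) * m) := ⟨n, by rw [← h1]; push_cast; ring⟩
  rcases Int.even_mul.mp h2 with h | h
  · exact (Int.even_coe_nat e).mp h
  · exact absurd h (Int.not_even_iff_odd.mpr hmo)

end Tot

section Quad
variable {k : Type*} {K : Type*} {K' : Type*} [Field k] [Field K] [Field K'] [Algebra k K]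
  [Algebra K K'] [Algebra k K']

theorem exists_pair (hrank : Module.finrank K K' = 2) {u : K'}
    (hu : u ∉ Set.range (algebraMap K K')) (z : K') :
    ∃ a b : K, z = algebraMap K K' a + algebraMap K K' b * u := by
  haveI : FiniteDimensional K K' := Module.finite_of_finrank_pos (by omega)
  have hli : LinearIndependent K ![(1 : K'), u] := by
    rw [LinearIndependent.pair_iff' one_ne_zero]
    intro a ha
    apply hu
    exact ⟨a, by rw [← ha, Algebra.smul_def, mul_one]⟩
  have hspan := hli.span_eq_top_of_card_eq_finrank' (by simp [hrank])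
  have hz : z ∈ Submodule.span K (Set.range ![(1 : K'), u]) := by
    rw [hspan]
    trivial
  have hrange : Set.range ![(1 : K'), u] = {1, u} := by
    ext v
    simp only [Matrix.range_cons, Matrix.range_empty, Set.union_empty, Set.mem_union,
      Set.mem_singleton_iff, Set.mem_insert_iff]
  rw [hrange, Submodule.mem_span_pair] at hz
  obtain ⟨a, b, hab⟩ := hz
  refine ⟨a, b, ?_⟩
  rw [← hab, Algebra.smul_def, Algebra.smul_def, mul_one]

/-- A quadratic extension generated by a square root of a unit at `P` (with `2` a unit) has no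
place of ramification index `2` above `P`. -/
theorem not_isOverWith_two_of_sq_unit (hrank : Module.finrank K K' = 2) {Q : Place k K'}
    {P : Place k K} (he : IsOverWith Q P 2) (h2 : Q.1 (2 : K') = 1) {u : K'} {h : K}
    (hu : u ^ 2 = algebraMap K K' h) (hur : u ∉ Set.range (algebraMap K K'))
    (hh : P.1 h = 1) : False := by
  -- values on `K` are even
  have heven : ∀ r : K, r ≠ 0 → ∃ n : ℤ, Q.1 (algebraMap K K' r) = exp (2 * n) := by
    intro r hr
    obtain ⟨n, hn⟩ : ∃ n : ℤ, P.1 r = exp n := ⟨_, (exp_log ((_root_.map_ne_zero _).mpr hr)).symm⟩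
    refine ⟨n, ?_⟩
    rw [he r, hn, ← exp_nsmul]
    simp
  have hvu : Q.1 u = 1 := by
    have : Q.1 u ^ 2 = 1 := by rw [← map_pow, hu, he h, hh, one_pow]
    exact (pow_eq_one_iff_of_nonneg zero_le two_ne_zero).mp this
  obtain ⟨s, hs⟩ := Q.2.2 (exp (-1))
  obtain ⟨α, β, hsαβ⟩ := exists_pair hrank hur s
  have hβ0 : β ≠ 0 := by
    rintro rfl
    rw [map_zero, zero_mul, add_zero] at hsαβ
    by_cases hα0 : α = 0
    · rw [hα0, map_zero] at hsαβ
      rw [hsαβ, map_zero] at hs
      exact exp_ne_zero hs.symm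
    · obtain ⟨n, hn⟩ := heven α hα0
      rw [hsαβ, hn, exp_inj] at hs
      omega
  -- normalise
  set s' : K' := algebraMap K K' (α / β) + u with hs'
  have hss' : s = algebraMap K K' β * s' := by
    rw [hs', hsαβ, mul_add, ← map_mul, mul_div_cancel₀ _ hβ0]
  obtain ⟨b, hb⟩ := heven β hβ0
  have hs'val : Q.1 s' = exp (-1 - 2 * b) := by
    have : Q.1 s = exp (2 * b) * Q.1 s' := by rw [hss', map_mul, hb]
    rw [hs] at this
    have h3 : Q.1 s' = exp (-(2 * b)) * exp (-1) := by
      rw [this, ← mul_assoc, ← exp_add]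
      simp
    rw [h3, ← exp_add]
    congr 1
    ring
  have hα'le : Q.1 (algebraMap K K' (α / β)) = 1 := by
    by_cases hα0 : α / β = 0
    · exfalso
      rw [hs', hα0, map_zero, zero_add] at hs'val
      rw [hvu, ← exp_zero, exp_inj] at hs'val
      omega
    · obtain ⟨a, ha⟩ := heven _ hα0
      rw [ha, ← exp_zero, exp_inj]
      by_contra hne
      have hne' : Q.1 (algebraMap K K' (α / β)) ≠ Q.1 u := by
        rw [ha, hvu, ← exp_zero, Ne, exp_inj]
        exact hne
      rcases lt_or_gt_of_ne hne' with hlt | hgt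
      · have := Q.1.map_add_eq_of_lt_right hlt
        rw [← hs', hs'val, hvu, ← exp_zero, exp_inj] at this
        omega
      · have := Q.1.map_add_eq_of_lt_left hgt
        rw [← hs', hs'val, ha, exp_inj] at this
        omega
  have hs'lt : Q.1 s' < 1 := by
    have hle : Q.1 s' ≤ 1 := by
      rw [hs']
      exact Q.1.map_add_le hα'le.le hvu.le
    rw [hs'val, ← exp_zero, exp_le_exp] at hle
    rw [hs'val, ← exp_zero, exp_lt_exp]
    omega
  set w : K' := algebraMap K K' (α / β) - u with hw
  have hwval : Q.1 w = 1 := by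
    have hw2 : w = 2 * algebraMap K K' (α / β) - s' := by rw [hw, hs']; ring
    have h2α : Q.1 (2 * algebraMap K K' (α / β)) = 1 := by rw [map_mul, h2, hα'le, one_mul]
    rw [hw2, Q.1.map_sub_eq_of_lt_left (by rw [h2α]; exact hs'lt), h2α]
  have hprod : s' * w = algebraMap K K' ((α / β) ^ 2 - h) := by
    rw [hs', hw, map_sub, map_pow, ← hu]; ring
  have hprodval : Q.1 (algebraMap K K' ((α / β) ^ 2 - h)) = exp (-1 - 2 * b) := by
    rw [← hprod, map_mul, hwval, mul_one, hs'val]
  by_cases h0 : (α / β) ^ 2 - h = 0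
  · rw [h0, map_zero, map_zero] at hprodval
    exact exp_ne_zero hprodval.symm
  · obtain ⟨n, hn⟩ := heven _ h0
    rw [hn, exp_inj] at hprodval
    omega

end Quad

end Groth.Agent.Lib.Helper27.Rat
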