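import Mathlib
import Groth.Agent.Lib.Helper27.HD31
import Groth.Agent.Lib.Helper27.Rat3

/-! Hasse families, part 32: orders at a place are bounded by the degree of the map; classical
orders in large characteristic (S12611). -/

set_option autoImplicit false

namespace Groth.Agent.Lib.Helper27.HD

open FunFld PowerSeries IntermediateField

universe u v
variable {k : Type u} {K : Type v} [Field k] [Field K] [Algebra k K]

section AC

variable [IsAlgClosed k] (hK : IsFunctionField k K)

variable (P : Place k K) {t : K} (ht : P.1 t = WithZero.exp (-1))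
  {Ht : K →ₐ[k] PowerSeries K} (hHt : LocRes.IsHasseFamily t Ht)
  {n : ℕ} (φ : Fin (n + 1) → K) (hφ : LinearIndependent k φ) (hnorm : ∀ i, P.1 (φ i) ≤ 1)
  (heff : (1 : K) ∈ Submodule.span k (Set.range φ))
  {J' : Fin n → ℕ} (hJ' : IsOrders (IsLocalRing.ResidueField P.O) (hcolAt P Ht φ) J')

include hK ht hHt hφ hnorm heff hJ' in
/-- Orders at a place are at most the degree of the map. -/
theorem orders_at_le_deg (l : Fin n) : (J' l : ℤ) ≤ (mapDiv k φ).deg := by
  classical
  obtain ⟨f, hf, hval⟩ := (mem_orders_iff hK P ht hHt φ heff hnorm hJ' (J' l)).mp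
    (Or.inr ⟨l, rfl⟩)
  have hf0 : f ≠ 0 := by
    rintro rfl
    rw [map_zero] at hval
    exact WithZero.exp_ne_zero hval.symm
  have hφ0 : ∀ i, φ i ≠ 0 := fun i => hφ.ne_zero i
  set E : Divisor k K := FunFld.div k f + mapDiv k φ with hE
  have hEnn : 0 ≤ E := by
    intro Q
    rw [hE, Finsupp.add_apply, FF.div_apply' hK, FF.mapDiv_apply' hK]
    have := inf_ord_le_of_mem_span Q φ hφ0 hf hf0
    simp only [Finsupp.coe_zero, Pi.zero_apply]
    omega
  have hEdeg : E.deg = (mapDiv k φ).deg := by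
    rw [hE, FF.deg_add, FF.deg_div hK, zero_add]
  have hordf : P.ord f = J' l := by
    have h1 := FF.val_eq_exp_neg_ord P hf0
    rw [hval, WithZero.exp_inj] at h1
    omega
  have hmapP : mapDiv k φ P = 0 := by
    rw [FF.mapDiv_apply' hK, neg_eq_zero]
    obtain ⟨i, hi⟩ := exists_unit_of_eff P φ heff hnorm
    apply le_antisymm
    · have h1 : P.ord (φ i) = 0 := by
        have h2 := FF.val_eq_exp_neg_ord P (hφ0 i)
        rw [hi, ← WithZero.exp_zero, WithZero.exp_inj] at h2
        omega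
      rw [← h1]
      exact Finset.inf'_le _ (Finset.mem_univ i)
    · apply Finset.le_inf'
      intro j _
      have h2 := FF.val_eq_exp_neg_ord P (hφ0 j)
      have h3 := hnorm j
      rw [h2, ← WithZero.exp_zero, WithZero.exp_le_exp] at h3
      omega
  have hEP : E P = J' l := by
    rw [hE, Finsupp.add_apply, FF.div_apply' hK, hordf, hmapP, add_zero]
  have h1 := Rat.apply_mul_deg_le_deg hEnn P
  rw [Groth.Agent.Lib.Helper23.FF.deg_eq_one hK P, hEP, hEdeg] at h1
  simpa using h1

/-- Linear independence of the selected columns from a nonvanishing determinant. -/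
theorem linearIndependent_cols_of_det_ne_zero {n : ℕ} (τ : K →ₐ[k] K)
    (H : K →ₐ[k] PowerSeries K) (φ : Fin (n + 1) → K) (I : Fin n → ℕ)
    (hdet : (wrMat τ H φ I).det ≠ 0) :
    LinearIndependent K (fun i : Fin (n + 1) => hcol τ H φ (idx I i)) := by
  have h3 : IsUnit (wrMat τ H φ I) :=
    (Matrix.isUnit_iff_isUnit_det _).mpr (isUnit_iff_ne_zero.mpr hdet)
  have h2 := Matrix.linearIndependent_cols_iff_isUnit.mpr h3
  have : (wrMat τ H φ I).col = fun i => hcol τ H φ (idx I i) := funext (wrMat_col τ H φ I)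
  rw [this] at h2
  exact h2

theorem strictMono_nat_le {n : ℕ} (J : Fin n → ℕ) (hJ : StrictMono J) (l : Fin n) :
    (l : ℕ) ≤ J l := by
  obtain ⟨l, hl⟩ := l
  induction l with
  | zero => exact Nat.zero_le _
  | succ m ih =>
    have h1 := ih (by omega)
    have h2 : J ⟨m, by omega⟩ < J ⟨m + 1, hl⟩ := hJ (by simp [Fin.lt_def])
    show m + 1 ≤ J ⟨m + 1, hl⟩
    simp only at h1
    omega

theorem strictMono_nat_succ_le {n : ℕ} (J : Fin n → ℕ) (hJ : StrictMono J)
    (hpos : ∀ l, 0 < J l) (l : Fin n) : (l : ℕ) + 1 ≤ J l := by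
  obtain ⟨l, hl⟩ := l
  induction l with
  | zero => exact hpos _
  | succ m ih =>
    have h1 := ih (by omega)
    have h2 : J ⟨m, by omega⟩ < J ⟨m + 1, hl⟩ := hJ (by simp [Fin.lt_def])
    show m + 1 + 1 ≤ J ⟨m + 1, hl⟩
    simp only at h1
    omega

include hK in
/-- The common core of S12611: at a fixed place `P` of `τ`, if the index sequence `I` is either
positive or `P` is a strong fixed point, and the binomial determinants against `I` are nonzero for
all small strictly increasing sequences, then the `τ`-orders are bounded by `I`. -/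
theorem orders_le_of_place {n : ℕ} (φ : Fin (n + 1) → K) (hφ : LinearIndependent k φ)
    (hchar : ringChar k = 0 ∨ (mapDiv k φ).deg < ringChar k)
    (τ : K →ₐ[k] K) {s : K} {H : K →ₐ[k] PowerSeries K} (hH : LocRes.IsHasseFamily s H)
    (P : Place k K) (hP : IsFixedPt τ P) (I : Fin n → ℕ) (hI : StrictMono I)
    (hcond : (∀ l, 0 < I l) ∨ IsStrongFixedPt τ P)
    (hbin : ∀ J' : Fin n → ℕ, StrictMono J' → (∀ l, 1 ≤ J' l) →
      (ringChar k = 0 ∨ ∀ r, J' r < ringChar k) → (binomMat k J' I).det ≠ 0)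
    {J : Fin n → ℕ} (hJ : IsOrders K (hcol τ H φ) J) : ∀ l, J l ≤ I l := by
  classical
  obtain ⟨t, Ht, ht, hHt⟩ := exists_hasseFamily_at hK hH P
  -- normalization at `P`
  obtain ⟨i0, -, hi0⟩ := Finset.exists_mem_eq_inf' Finset.univ_nonempty (fun i => P.ord (φ i))
  have hφ0 : ∀ i, φ i ≠ 0 := fun i => hφ.ne_zero i
  set y : K := (φ i0)⁻¹ with hy
  have hy0 : y ≠ 0 := inv_ne_zero (hφ0 i0)
  set φ' : Fin (n + 1) → K := fun i => y * φ i with hφ'def
  have hφ'i0 : φ' i0 = 1 := inv_mul_cancel₀ (hφ0 i0)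
  have hnorm : ∀ i, P.1 (φ' i) ≤ 1 := by
    intro i
    have h1 : P.ord (φ i0) ≤ P.ord (φ i) := by
      rw [← hi0]; exact Finset.inf'_le _ (Finset.mem_univ i)
    show P.1 ((φ i0)⁻¹ * φ i) ≤ 1
    rw [map_mul, map_inv₀, FF.val_eq_exp_neg_ord P (hφ0 i0), FF.val_eq_exp_neg_ord P (hφ0 i),
      ← WithZero.exp_neg, ← WithZero.exp_add, ← WithZero.exp_zero, WithZero.exp_le_exp]
    omega
  have heff : (1 : K) ∈ Submodule.span k (Set.range φ') := by
    rw [← hφ'i0]; exact Submodule.subset_span ⟨i0, rfl⟩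
  have hφ'li : LinearIndependent k φ' :=
    hφ.map' (LinearMap.mulLeft k y) (LinearMap.ker_eq_bot.mpr (mul_right_injective₀ hy0))
  have hJt : IsOrders K (hcol τ Ht φ') J :=
    (isOrders_scale_iff τ hHt φ y hy0 J).mpr ((isOrders_iff_change φ τ hK hH hHt J).mpr hJ)
  obtain ⟨J', hJ'⟩ := exists_isOrdersAt hK P ht hHt φ' hφ'li hnorm heff
  have hdeg : (mapDiv k φ').deg = (mapDiv k φ).deg := by
    rw [hφ'def, mapDiv_scale hK φ hφ0 hy0, FF.deg_sub, FF.deg_div hK, sub_zero]
  have hbound : ∀ l, (J' l : ℤ) ≤ (mapDiv k φ).deg := fun l => by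
    rw [← hdeg]; exact orders_at_le_deg hK P ht hHt φ' hφ'li hnorm heff hJ' l
  have hchar' : ringChar k = 0 ∨ ∀ r, J' r < ringChar k := by
    rcases hchar with h | h
    · exact Or.inl h
    · right
      intro r
      have := hbound r
      omega
  have hJ1 : ∀ l, 1 ≤ J' l := one_le_orders hK P ht hHt φ' hnorm hJ'
  have hb := hbin J' hJ'.1 hJ1 hchar'
  obtain ⟨-, h2⟩ := val_det_wrMat hK τ P hP φ' hφ'li heff hnorm ht hHt hJ' I
  have hval := (h2 hcond).mpr hb
  have hdet : (wrMat τ Ht φ' I).det ≠ 0 := by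
    intro h0
    rw [h0, map_zero] at hval
    exact WithZero.exp_ne_zero hval.symm
  exact orders_le_of_linearIndependent (hcol τ Ht φ') J hJt I hI
    (linearIndependent_cols_of_det_ne_zero τ Ht φ' I hdet)

end AC

end Groth.Agent.Lib.Helper27.HD
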