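import Mathlib
import Groth.Agent.Lib.Helper27.HD20
import Groth.Agent.Lib.Helper27.FunFldCore
import Groth.Agent.Lib.Helper27.FunFld9
import Groth.Agent.Lib.Helper23.FFOrd

/-! Hasse families, part 21: canonical orders and gaps. -/

set_option autoImplicit false

namespace Groth.Agent.Lib.Helper27.HD

open FunFld PowerSeries IntermediateField

universe u v
variable {k : Type u} {K : Type v} [Field k] [Field K] [Algebra k K]

theorem isCanonical_add_div (hK : IsFunctionField k K) {C : Divisor k K}
    (hC : IsCanonical k K C) {x : K} (hx : x ≠ 0) : IsCanonical k K (C + FunFld.div k x) := by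
  obtain ⟨ω, hω0, hω⟩ := hC
  have Co := FF.core_of hK
  exact ⟨mulW x (Co.hmul x) ω, fun h => hx (Co.mulW_eq_zero hω0 h), Co.isDivOf_mulW hx hω (Co.hmul x)⟩

/-- A nonzero value between two consecutive powers. -/
theorem val_eq_of_lt_of_le (P : Place k K) {f : K} {j : ℤ}
    (h1 : WithZero.exp (-(j + 1)) < P.1 f) (h2 : P.1 f ≤ WithZero.exp (-j)) :
    P.1 f = WithZero.exp (-j) := by
  have hf : f ≠ 0 := by
    intro h; rw [h, map_zero] at h1; exact not_lt.mpr zero_le h1
  rw [FF.val_eq_exp_neg_ord P hf] at h1 h2 ⊢
  rw [WithZero.exp_lt_exp] at h1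
  rw [WithZero.exp_le_exp] at h2
  congr 1
  omega

section AC

variable [IsAlgClosed k] (hK : IsFunctionField k K)

include hK in
/-- A function field with a place `P` such that `ℓ(P) ≥ 2` has genus `0`. -/
theorem genus_eq_zero_of_two_le_ell (P : Place k K)
    (h : 2 ≤ ell (Finsupp.single P (1 : ℤ) : Divisor k K)) : genus k K = 0 := by
  classical
  have Co := FF.core_of hK
  have hdegP : P.deg = 1 := Groth.Agent.Lib.Helper23.FF.deg_eq_one hK P
  -- a function with a simple pole at `P`
  have hex : ∃ x ∈ L (Finsupp.single P (1 : ℤ) : Divisor k K), 1 < P.1 x := by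
    by_contra hcon
    push Not at hcon
    have hle : L (Finsupp.single P (1 : ℤ) : Divisor k K) ≤ L (0 : Divisor k K) := by
      intro x hx Q
      rw [Finsupp.zero_apply, WithZero.exp_zero]
      by_cases hQ : Q = P
      · rw [hQ]; exact hcon x hx
      · have := hx Q
        rwa [Finsupp.single_apply, if_neg (Ne.symm hQ), WithZero.exp_zero] at this
    haveI := FF.finiteDimensional_L hK (0 : Divisor k K)
    have := Submodule.finrank_mono hle
    have h0 : Module.finrank k (L (0 : Divisor k K)) = 1 := FF.ell_zero' hK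
    unfold ell at h
    omega
  obtain ⟨x, hxL, hx1⟩ := hex
  have hxP : P.1 x = WithZero.exp (1 : ℤ) := by
    have h2 := hxL P
    rw [Finsupp.single_eq_same] at h2
    have := val_eq_of_lt_of_le P (f := x) (j := -1) (by simpa using hx1) (by simpa using h2)
    simpa using this
  have hx0 : x ≠ 0 := by
    intro h0; rw [h0, map_zero] at hx1; exact not_lt.mpr zero_le hx1
  set g := genus k K with hg
  set m : ℕ := 2 * g with hm
  have hmem : ∀ i : Fin (m + 1), x ^ (i : ℕ) ∈ L (Finsupp.single P (m : ℤ) : Divisor k K) := by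
    intro i Q
    rw [map_pow]
    by_cases hQ : Q = P
    · rw [hQ, Finsupp.single_eq_same, hxP, ← WithZero.exp_nsmul, WithZero.exp_le_exp]
      have := i.2
      simp only [nsmul_eq_mul, mul_one]
      omega
    · rw [Finsupp.single_apply, if_neg (Ne.symm hQ), WithZero.exp_zero]
      have := hxL Q
      rw [Finsupp.single_apply, if_neg (Ne.symm hQ), WithZero.exp_zero] at this
      exact pow_le_one' this _
  have hli : LinearIndependent k (fun i : Fin (m + 1) => x ^ (i : ℕ)) := by
    apply Groth.Agent.Lib.Helper23.FF.li_of_ord_injective P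
    · intro i; exact pow_ne_zero _ hx0
    · intro a b hab
      simp only at hab
      unfold Place.ord at hab
      rw [map_pow, map_pow, hxP, ← WithZero.exp_nsmul, ← WithZero.exp_nsmul, WithZero.log_exp,
        WithZero.log_exp] at hab
      simp only [nsmul_eq_mul, mul_one, neg_inj, Nat.cast_inj] at hab
      exact Fin.ext hab
  haveI := FF.finiteDimensional_L hK (Finsupp.single P (m : ℤ) : Divisor k K)
  have hli' : LinearIndependent k (fun i : Fin (m + 1) =>
      (⟨x ^ (i : ℕ), hmem i⟩ : L (Finsupp.single P (m : ℤ) : Divisor k K))) := by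
    refine LinearIndependent.of_comp (L (Finsupp.single P (m : ℤ) : Divisor k K)).subtype ?_
    exact hli
  have hcard := hli'.fintype_card_le_finrank
  rw [Fintype.card_fin] at hcard
  have hdeg : Divisor.deg (Finsupp.single P (m : ℤ) : Divisor k K) = m := by
    rw [FF.deg_single, hdegP]; simp
  have hell := Co.ell_eq_of_deg_ge (D := (Finsupp.single P (m : ℤ) : Divisor k K))
    (by rw [hdeg, hm]; push_cast; omega)
  rw [hdeg] at hell
  unfold ell at hell
  omega

end AC

end Groth.Agent.Lib.Helper27.HD
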