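import Mathlib
import Groth.Agent.Lib.Helper27.HD21

/-! Hasse families, part 22: canonical orders and gaps (main statement). -/

set_option autoImplicit false

namespace Groth.Agent.Lib.Helper27.HD

open FunFld PowerSeries IntermediateField

universe u v
variable {k : Type u} {K : Type v} [Field k] [Field K] [Algebra k K]

section AC

variable [IsAlgClosed k] (hK : IsFunctionField k K)

include hK in
theorem canonical_isJump_iff (C : Divisor k K) (hC : IsCanonical k K C)
    {n : ℕ} (φ : Fin (n + 1) → K) (hφ : LinearIndependent k φ)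
    (hspan : Submodule.span k (Set.range φ) = L C)
    (P : Place k K) (y : K) (hy : y ≠ 0)
    (heff : (1 : K) ∈ Submodule.span k (Set.range (y • φ))) (hnorm : ∀ i, P.1 (y * φ i) ≤ 1)
    (t : K) (ht : P.1 t = WithZero.exp (-1))
    (Ht : K →ₐ[k] PowerSeries K) (hHt : LocRes.IsHasseFamily t Ht) (j : ℕ) (hj : 1 ≤ j) :
    IsJump (IsLocalRing.ResidueField P.O) (hcolAt P Ht (y • φ)) (j + 1) ↔
      L (Finsupp.single P ((j : ℤ) + 1)) = L (Finsupp.single P (j : ℤ)) := by
  classical
  have Co := FF.core_of hK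
  have hdegP : P.deg = 1 := Groth.Agent.Lib.Helper23.FF.deg_eq_one hK P
  set C' : Divisor k K := C + FunFld.div k y⁻¹ with hC'def
  have hC' : IsCanonical k K C' := isCanonical_add_div hK hC (inv_ne_zero hy)
  -- the span of `y • φ` is `L(C')`
  have hV : ∀ f : K, f ∈ Submodule.span k (Set.range (y • φ)) ↔ f ∈ L C' := by
    intro f
    have h1 : Set.range (y • φ) = (LinearMap.mulLeft k y) '' Set.range φ := by
      rw [← Set.range_comp]; rfl
    rw [h1, ← Submodule.map_span, hspan, ← FF.mul_mem_L_iff hK C y⁻¹ f (inv_ne_zero hy)]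
    constructor
    · rintro ⟨g, hg, rfl⟩
      rw [LinearMap.mulLeft_apply, ← mul_assoc, inv_mul_cancel₀ hy, one_mul]
      exact hg
    · intro hf
      refine ⟨y⁻¹ * f, hf, ?_⟩
      rw [LinearMap.mulLeft_apply, ← mul_assoc, mul_inv_cancel₀ hy, one_mul]
  have hnorm' : ∀ i, P.1 ((y • φ) i) ≤ 1 := fun i => hnorm i
  have hint : ∀ f ∈ L C', P.1 f ≤ 1 := by
    intro f hf
    obtain ⟨a, ha⟩ := (Submodule.mem_span_range_iff_exists_fun k).mp ((hV f).mpr hf)
    rw [← ha]
    apply Valuation.map_sum_le
    intro i _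
    rw [Algebra.smul_def, map_mul]
    calc P.1 (algebraMap k K (a i)) * P.1 ((y • φ) i) ≤ 1 * 1 :=
          mul_le_mul' (P.2.1 (a i)) (hnorm' i)
      _ = 1 := one_mul _
  have h1mem : (1 : K) ∈ L C' := (hV 1).mp heff
  -- the genus is positive
  have hgenus : genus k K = n + 1 := by
    rw [← Co.ell_canonical hC]
    unfold ell
    rw [← hspan, finrank_span_eq_card hφ, Fintype.card_fin]
  -- `P` is not a base point
  have hC'P : C' P = 0 := by
    have h0 : 0 ≤ C' P := by
      have := h1mem P
      rw [map_one, ← WithZero.exp_zero, WithZero.exp_le_exp] at this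
      exact this
    by_contra hne
    have hpos : 1 ≤ C' P := by omega
    have hLeq : L (C' - Finsupp.single P (1 : ℤ)) = L C' := by
      apply le_antisymm
      · apply FF.L_mono
        intro Q
        rw [Finsupp.sub_apply]
        by_cases hQ : Q = P
        · rw [hQ, Finsupp.single_eq_same]; omega
        · rw [Finsupp.single_apply, if_neg (Ne.symm hQ)]; omega
      · intro f hf Q
        rw [Finsupp.sub_apply]
        by_cases hQ : Q = P
        · rw [hQ, Finsupp.single_eq_same]
          refine (hint f hf).trans ?_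
          rw [← WithZero.exp_zero, WithZero.exp_le_exp]; omega
        · rw [Finsupp.single_apply, if_neg (Ne.symm hQ), sub_zero]
          exact hf Q
    have hrr := Co.riemann_roch hC' (Finsupp.single P (1 : ℤ) : Divisor k K)
    have hell : ell (C' - Finsupp.single P (1 : ℤ)) = genus k K := by
      unfold ell; rw [hLeq]; exact Co.ell_canonical hC'
    rw [hell, FF.deg_single, hdegP] at hrr
    have h2 : 2 ≤ ell (Finsupp.single P (1 : ℤ) : Divisor k K) := by
      have : (ell (Finsupp.single P (1 : ℤ) : Divisor k K) : ℤ) = 2 := by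
        rw [hrr]; push_cast; ring
      omega
    have := genus_eq_zero_of_two_le_ell hK P h2
    omega
  -- membership in `L(C' - mP)`
  have hmemL : ∀ (m : ℕ) (f : K), f ∈ L (C' - Finsupp.single P (m : ℤ)) ↔
      f ∈ L C' ∧ P.1 f ≤ WithZero.exp (-(m : ℤ)) := by
    intro m f
    constructor
    · intro hf
      refine ⟨?_, ?_⟩
      · refine FF.L_mono ?_ hf
        intro Q
        rw [Finsupp.sub_apply]
        by_cases hQ : Q = P
        · rw [hQ, Finsupp.single_eq_same]; omega
        · rw [Finsupp.single_apply, if_neg (Ne.symm hQ)]; omega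
      · have := hf P
        rwa [Finsupp.sub_apply, Finsupp.single_eq_same, hC'P, zero_sub] at this
    · rintro ⟨hf, hfP⟩ Q
      rw [Finsupp.sub_apply]
      by_cases hQ : Q = P
      · rw [hQ, Finsupp.single_eq_same, hC'P, zero_sub]; exact hfP
      · rw [Finsupp.single_apply, if_neg (Ne.symm hQ), sub_zero]
        exact hf Q
  -- step 1: jumps and orders of functions
  rw [isJump_succ_iff hK P ht hHt (y • φ) hnorm' hj]
  have hstep1 : (∃ x : Fin (n + 1) → k, P.1 (∑ i, x i • (y • φ) i) = WithZero.exp (-(j : ℤ))) ↔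
      ∃ f ∈ L C', P.1 f = WithZero.exp (-(j : ℤ)) := by
    constructor
    · rintro ⟨x, hx⟩
      refine ⟨_, (hV _).mp ?_, hx⟩
      exact Submodule.sum_mem _ fun i _ => Submodule.smul_mem _ _ (Submodule.subset_span ⟨i, rfl⟩)
    · rintro ⟨f, hf, hfP⟩
      obtain ⟨a, ha⟩ := (Submodule.mem_span_range_iff_exists_fun k).mp ((hV f).mpr hf)
      exact ⟨a, by rw [ha]; exact hfP⟩
  rw [hstep1]
  set A := L (C' - Finsupp.single P ((j : ℕ) : ℤ)) with hA
  set B := L (C' - Finsupp.single P ((j + 1 : ℕ) : ℤ)) with hB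
  have hBA : B ≤ A := by
    intro f hf
    rw [hB, hmemL] at hf
    rw [hA, hmemL]
    refine ⟨hf.1, hf.2.trans ?_⟩
    rw [WithZero.exp_le_exp]; push_cast; omega
  have hstep2 : (∃ f ∈ L C', P.1 f = WithZero.exp (-(j : ℤ))) ↔ B ≠ A := by
    constructor
    · rintro ⟨f, hf, hfP⟩ hEq
      have hfA : f ∈ A := by rw [hA, hmemL]; exact ⟨hf, hfP.le⟩
      rw [← hEq, hB, hmemL, hfP, WithZero.exp_le_exp] at hfA
      have := hfA.2
      push_cast at this
      omega
    · intro hne
      obtain ⟨f, hfA, hfB⟩ := SetLike.exists_of_lt (lt_of_le_of_ne hBA hne)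
      rw [hA, hmemL] at hfA
      rw [hB, hmemL] at hfB
      refine ⟨f, hfA.1, ?_⟩
      have h1 : WithZero.exp (-((j : ℤ) + 1)) < P.1 f := by
        by_contra hcon
        rw [not_lt] at hcon
        apply hfB
        refine ⟨hfA.1, hcon.trans (le_of_eq ?_)⟩
        push_cast; rfl
      exact val_eq_of_lt_of_le P h1 hfA.2
  rw [hstep2]
  -- Riemann–Roch
  have hrr1 := Co.riemann_roch hC' (Finsupp.single P ((j : ℕ) : ℤ) : Divisor k K)
  have hrr2 := Co.riemann_roch hC' (Finsupp.single P ((j + 1 : ℕ) : ℤ) : Divisor k K)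
  rw [FF.deg_single, hdegP] at hrr1 hrr2
  haveI := FF.finiteDimensional_L hK (C' - Finsupp.single P ((j : ℕ) : ℤ))
  haveI := FF.finiteDimensional_L hK (Finsupp.single P ((j + 1 : ℕ) : ℤ) : Divisor k K)
  have hmono1 : Module.finrank k B ≤ Module.finrank k A := Submodule.finrank_mono hBA
  have hLle : L (Finsupp.single P ((j : ℕ) : ℤ) : Divisor k K) ≤
      L (Finsupp.single P ((j + 1 : ℕ) : ℤ) : Divisor k K) := by
    apply FF.L_mono
    intro Q
    by_cases hQ : Q = P
    · rw [hQ, Finsupp.single_eq_same, Finsupp.single_eq_same]; push_cast; omega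
    · rw [Finsupp.single_apply, if_neg (Ne.symm hQ), Finsupp.single_apply, if_neg (Ne.symm hQ)]
  have hmono2 := Submodule.finrank_mono hLle
  have hcast : ((j : ℤ) + 1) = ((j + 1 : ℕ) : ℤ) := by push_cast; rfl
  rw [hcast]
  unfold ell at hrr1 hrr2
  rw [← hA] at hrr1
  rw [← hB] at hrr2
  have key : (Module.finrank k A : ℤ) +
      Module.finrank k (L (Finsupp.single P ((j + 1 : ℕ) : ℤ) : Divisor k K)) =
      Module.finrank k B + Module.finrank k (L (Finsupp.single P ((j : ℕ) : ℤ) : Divisor k K))
        + 1 := by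
    have hc : ((j + 1 : ℕ) : ℤ) * ((1 : ℕ) : ℤ) = (j : ℤ) * ((1 : ℕ) : ℤ) + 1 := by
      push_cast; ring
    rw [hc] at hrr2
    linarith
  constructor
  · intro hne
    have hlt : Module.finrank k B < Module.finrank k A := by
      by_contra hcon
      rw [not_lt] at hcon
      exact hne (Submodule.eq_of_le_of_finrank_le hBA hcon)
    symm
    apply Submodule.eq_of_le_of_finrank_le hLle
    omega
  · intro hEq hBAeq
    rw [hEq, hBAeq] at key
    omega

end AC

end Groth.Agent.Lib.Helper27.HD
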