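import Mathlib

/-!
Small utilities on adic completeness: principal ideals, products, sub- and quotient modules.
-/

set_option autoImplicit false

namespace Groth.Agent.Lib.Helper27.AdicUtil

variable {R : Type*} [CommRing R]

lemma mem_pow_smul_top_iff {M : Type*} [AddCommGroup M] [Module R M] (t : R) (k : ℕ) (x : M) :
    x ∈ (Ideal.span {t}) ^ k • (⊤ : Submodule R M) ↔ ∃ y : M, x = t ^ k • y := by
  rw [Ideal.span_singleton_pow, Submodule.ideal_span_singleton_smul,
    Submodule.mem_smul_pointwise_iff_exists]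
  constructor
  · rintro ⟨b, -, rfl⟩; exact ⟨b, rfl⟩
  · rintro ⟨y, rfl⟩; exact ⟨y, trivial, rfl⟩

lemma isHausdorff_pi (t : R) {ι : Type*} (M : Type*) [AddCommGroup M] [Module R M]
    [IsHausdorff (Ideal.span {t}) M] : IsHausdorff (Ideal.span {t}) (ι → M) := by
  rw [isHausdorff_iff]
  intro x hx
  funext i
  apply (isHausdorff_iff.mp (inferInstance : IsHausdorff (Ideal.span {t}) M))
  intro n
  have h1 := hx n
  rw [SModEq.zero, mem_pow_smul_top_iff] at h1 ⊢
  obtain ⟨y, rfl⟩ := h1
  exact ⟨y i, rfl⟩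

lemma isPrecomplete_pi (t : R) {ι : Type*} (M : Type*) [AddCommGroup M] [Module R M]
    [IsPrecomplete (Ideal.span {t}) M] : IsPrecomplete (Ideal.span {t}) (ι → M) := by
  rw [isPrecomplete_iff]
  intro f hf
  have h1 : ∀ i, ∃ L : M, ∀ n, f n i ≡ L [SMOD ((Ideal.span {t}) ^ n • ⊤ : Submodule R M)] := by
    intro i
    apply (isPrecomplete_iff.mp (inferInstance : IsPrecomplete (Ideal.span {t}) M))
    intro m n hmn
    have h2 := hf hmn
    rw [SModEq.sub_mem, mem_pow_smul_top_iff] at h2 ⊢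
    obtain ⟨y, hy⟩ := h2
    exact ⟨y i, by rw [← Pi.sub_apply, hy]; rfl⟩
  choose L hL using h1
  refine ⟨L, fun n => ?_⟩
  have h3 : ∀ i, ∃ y : M, f n i - L i = t ^ n • y := fun i => by
    have := hL i n
    rwa [SModEq.sub_mem, mem_pow_smul_top_iff] at this
  choose y hy using h3
  rw [SModEq.sub_mem, mem_pow_smul_top_iff]
  exact ⟨y, funext fun i => by rw [Pi.sub_apply, hy i]; rfl⟩

variable (I : Ideal R) {M N : Type*} [AddCommGroup M] [Module R M] [AddCommGroup N] [Module R N]

lemma isHausdorff_of_injective (f : N →ₗ[R] M) (hf : Function.Injective f) [IsHausdorff I M] :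
    IsHausdorff I N := by
  rw [isHausdorff_iff]
  intro x hx
  apply hf
  rw [map_zero]
  apply (isHausdorff_iff.mp (inferInstance : IsHausdorff I M))
  intro n
  have h1 := hx n
  rw [SModEq.zero] at h1 ⊢
  have h2 : f x ∈ (I ^ n • (⊤ : Submodule R N)).map f := Submodule.mem_map_of_mem h1
  rw [Submodule.map_smul''] at h2
  exact Submodule.smul_mono le_rfl le_top h2

lemma isPrecomplete_of_surjective (f : M →ₗ[R] N) (hf : Function.Surjective f)
    [IsPrecomplete I M] : IsPrecomplete I N := by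
  rw [isPrecomplete_iff]
  intro g hg
  have hmap : ∀ n : ℕ, (I ^ n • (⊤ : Submodule R N)) = (I ^ n • (⊤ : Submodule R M)).map f := by
    intro n
    rw [Submodule.map_smul'', Submodule.map_top, LinearMap.range_eq_top.mpr hf]
  have h1 : ∀ n : ℕ, ∃ δ ∈ (I ^ n • (⊤ : Submodule R M)), f δ = g (n + 1) - g n := by
    intro n
    have h2 := hg (Nat.le_succ n)
    rw [SModEq.sub_mem, hmap] at h2
    obtain ⟨δ, hδ, hδ'⟩ := h2
    exact ⟨-δ, Submodule.neg_mem _ hδ, by rw [map_neg, hδ']; abel⟩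
  choose δ hδ hδ' using h1
  obtain ⟨h₀, hh₀⟩ := hf (g 0)
  let h : ℕ → M := fun n => h₀ + ∑ k ∈ Finset.range n, δ k
  have hfh : ∀ n, f (h n) = g n := by
    intro n
    induction n with
    | zero => simp [h, hh₀]
    | succ n ih =>
      have : h (n + 1) = h n + δ n := by
        simp only [h, Finset.sum_range_succ]; abel
      rw [this, map_add, ih, hδ']; abel
  have hcauchy : ∀ {m n : ℕ}, m ≤ n → h m ≡ h n [SMOD (I ^ m • ⊤ : Submodule R M)] := by
    intro m n hmn
    rw [SModEq.sub_mem]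
    have : h m - h n = -∑ k ∈ Finset.Ico m n, δ k := by
      simp only [h]
      rw [Finset.sum_Ico_eq_sub _ hmn]; abel
    rw [this]
    refine Submodule.neg_mem _ (Submodule.sum_mem _ fun k hk => ?_)
    exact Submodule.smul_mono_left (Ideal.pow_le_pow_right (Finset.mem_Ico.mp hk).1) (hδ k)
  obtain ⟨L, hL⟩ := (isPrecomplete_iff.mp (inferInstance : IsPrecomplete I M)) h hcauchy
  refine ⟨f L, fun n => ?_⟩
  have h3 := hL n
  rw [SModEq.sub_mem] at h3 ⊢
  rw [hmap, ← hfh n, ← map_sub]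
  exact Submodule.mem_map_of_mem h3

end Groth.Agent.Lib.Helper27.AdicUtil
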