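import Mathlib

/-!
Division with remainder for elements of a free module `τ → MvPolynomial σ S`,
encoded as `y`-linear polynomials in `MvPolynomial (σ ⊕ τ) S` (module Gröbner division).
-/

set_option autoImplicit false

namespace Groth.Agent.Lib.Helper27.ModDiv

open MvPolynomial
open scoped MonomialOrder

variable {σ τ : Type*} {S : Type*} [CommRing S]

/-- exponent of the module monomial `ζ^e · y_i`. -/
noncomputable def emb (e : σ →₀ ℕ) (i : τ) : (σ ⊕ τ) →₀ ℕ :=
  e.mapDomain Sum.inl + Finsupp.single (Sum.inr i) 1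

lemma emb_inl (e : σ →₀ ℕ) (i : τ) (a : σ) : emb e i (Sum.inl a) = e a := by
  simp [emb, Finsupp.mapDomain_apply Sum.inl_injective]

lemma emb_inr [DecidableEq τ] (e : σ →₀ ℕ) (i j : τ) :
    emb e i (Sum.inr j) = if i = j then 1 else 0 := by
  have h : (Sum.inr j : σ ⊕ τ) ∉ Set.range (Sum.inl : σ → σ ⊕ τ) := by simp
  classical
  rw [emb, Finsupp.add_apply, Finsupp.mapDomain_notin_range _ _ h, zero_add, Finsupp.single_apply]
  simp

lemma emb_ne_zero (e : σ →₀ ℕ) (i : τ) : emb e i ≠ 0 := by
  classical
  intro h
  have := congrArg (fun f => f (Sum.inr i)) h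
  simp [emb_inr] at this

lemma emb_le_emb_iff {e e' : σ →₀ ℕ} {i i' : τ} : emb e i ≤ emb e' i' ↔ i = i' ∧ e ≤ e' := by
  classical
  constructor
  · intro h
    have h' := Finsupp.le_def.mp h
    have hi : i = i' := by
      by_contra hne
      have := h' (Sum.inr i)
      rw [emb_inr, emb_inr, if_pos rfl, if_neg (Ne.symm hne)] at this
      omega
    subst hi
    refine ⟨rfl, Finsupp.le_def.mpr fun a => ?_⟩
    have := h' (Sum.inl a)
    rwa [emb_inl, emb_inl] at this
  · rintro ⟨rfl, h⟩
    refine Finsupp.le_def.mpr fun x => ?_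
    rcases x with a | j
    · rw [emb_inl, emb_inl]; exact Finsupp.le_def.mp h a
    · rw [emb_inr, emb_inr]

lemma emb_sub (e e' : σ →₀ ℕ) (i : τ) (h : e ≤ e') :
    emb e' i - emb e i = (e' - e).mapDomain Sum.inl := by
  classical
  ext x
  rcases x with a | j
  · rw [Finsupp.tsub_apply, emb_inl, emb_inl, Finsupp.mapDomain_apply Sum.inl_injective,
      Finsupp.tsub_apply]
  · have hj : (Sum.inr j : σ ⊕ τ) ∉ Set.range (Sum.inl : σ → σ ⊕ τ) := by simp
    rw [Finsupp.tsub_apply, emb_inr, emb_inr, Finsupp.mapDomain_notin_range _ _ hj]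
    simp

lemma emb_injective {e e' : σ →₀ ℕ} {i i' : τ} (h : emb e i = emb e' i') : e = e' ∧ i = i' := by
  have h1 := emb_le_emb_iff.mp (le_of_eq h)
  have h2 := emb_le_emb_iff.mp (le_of_eq h.symm)
  exact ⟨le_antisymm h1.2 h2.2, h1.1⟩

variable [Fintype τ]

/-- encode a vector of polynomials as a `y`-linear polynomial. -/
noncomputable def iota (x : τ → MvPolynomial σ S) : MvPolynomial (σ ⊕ τ) S :=
  ∑ i, rename Sum.inl (x i) * X (Sum.inr i)

@[simp] lemma iota_zero : iota (0 : τ → MvPolynomial σ S) = 0 := by simp [iota]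

lemma iota_add (x y : τ → MvPolynomial σ S) : iota (x + y) = iota x + iota y := by
  simp [iota, add_mul, Finset.sum_add_distrib]

lemma iota_neg (x : τ → MvPolynomial σ S) : iota (-x) = -iota x := by
  simp [iota]

lemma iota_sub (x y : τ → MvPolynomial σ S) : iota (x - y) = iota x - iota y := by
  rw [sub_eq_add_neg, iota_add, iota_neg, sub_eq_add_neg]

lemma iota_smul (p : MvPolynomial σ S) (x : τ → MvPolynomial σ S) :
    iota (p • x) = rename Sum.inl p * iota x := by
  simp [iota, Finset.mul_sum, mul_assoc]

lemma iota_single_monomial [DecidableEq τ] (i : τ) (e : σ →₀ ℕ) (c : S) :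
    iota (Pi.single i (monomial e c) : τ → MvPolynomial σ S) = monomial (emb e i) c := by
  rw [iota, Finset.sum_eq_single i]
  · rw [Pi.single_eq_same, rename_monomial, X, monomial_mul, mul_one, emb]
  · intro j _ hj
    rw [Pi.single_eq_of_ne hj]; simp
  · intro h; exact absurd (Finset.mem_univ i) h

lemma coeff_emb_iota (x : τ → MvPolynomial σ S) (e : σ →₀ ℕ) (i : τ) :
    coeff (emb e i) (iota x) = coeff e (x i) := by
  classical
  rw [iota, coeff_sum, Finset.sum_eq_single i]
  · rw [coeff_mul_X', if_pos]
    · have : emb e i - Finsupp.single (Sum.inr i) 1 = e.mapDomain Sum.inl := by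
        rw [emb, add_tsub_cancel_right]
      rw [this, coeff_rename_mapDomain _ Sum.inl_injective]
    · rw [Finsupp.mem_support_iff, emb_inr, if_pos rfl]; exact one_ne_zero
  · intro j _ hj
    rw [coeff_mul_X', if_neg]
    rw [Finsupp.mem_support_iff, emb_inr, if_neg (Ne.symm hj)]; simp
  · intro h; exact absurd (Finset.mem_univ i) h

lemma exists_of_mem_support_iota {x : τ → MvPolynomial σ S} {d : (σ ⊕ τ) →₀ ℕ}
    (hd : d ∈ (iota x).support) : ∃ e i, d = emb e i ∧ coeff e (x i) ≠ 0 := by
  classical
  rw [mem_support_iff, iota, coeff_sum] at hd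
  obtain ⟨i, _, hi⟩ := Finset.exists_ne_zero_of_sum_ne_zero hd
  rw [coeff_mul_X'] at hi
  split_ifs at hi with hs
  · obtain ⟨u, hu, hu'⟩ := coeff_rename_ne_zero _ _ _ hi
    have hle : Finsupp.single (Sum.inr i) 1 ≤ d := by
      rw [Finsupp.single_le_iff]
      have := Finsupp.mem_support_iff.mp hs
      omega
    refine ⟨u, i, ?_, hu'⟩
    rw [emb, hu, tsub_add_cancel_of_le hle]
  · exact absurd rfl hi

lemma iota_eq_zero_iff {x : τ → MvPolynomial σ S} : iota x = 0 ↔ x = 0 := by
  constructor
  · intro h
    funext i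
    ext e
    rw [← coeff_emb_iota, h]; simp
  · rintro rfl; exact iota_zero

/-- support comparison through coefficients. -/
lemma support_iota_subset {S' : Type*} [CommRing S'] {x : τ → MvPolynomial σ S}
    {x' : τ → MvPolynomial σ S'}
    (h : ∀ e i, coeff e (x i) ≠ 0 → coeff e (x' i) ≠ 0) :
    ∀ d, d ∈ (iota x).support → d ∈ (iota x').support := by
  intro d hd
  obtain ⟨e, i, rfl, hne⟩ := exists_of_mem_support_iota hd
  rw [mem_support_iff, coeff_emb_iota]
  exact h e i hne

/-- Division with remainder in the free module `τ → MvPolynomial σ S` by a family whose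
(encoded) leading coefficients are units. -/
theorem modDiv [DecidableEq τ] (m : MonomialOrder (σ ⊕ τ)) {J : Type*}
    (u : J → τ → MvPolynomial σ S)
    (hu : ∀ j, IsUnit (m.leadingCoeff (iota (u j)))) (x : τ → MvPolynomial σ S) :
    ∃ (q : J →₀ MvPolynomial σ S) (x' : τ → MvPolynomial σ S),
      x = (q.sum fun j p => p • u j) + x' ∧
      ∀ d ∈ (iota x').support, ∀ j, ¬ m.degree (iota (u j)) ≤ d := by
  classical
  suffices H : ∀ (s : m.syn) (x : τ → MvPolynomial σ S), m.toSyn (m.degree (iota x)) = s →
      ∃ (q : J →₀ MvPolynomial σ S) (x' : τ → MvPolynomial σ S),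
      x = (q.sum fun j p => p • u j) + x' ∧
      ∀ d ∈ (iota x').support, ∀ j, ¬ m.degree (iota (u j)) ≤ d from H _ x rfl
  intro s
  induction s using WellFoundedLT.induction with
  | ind s ih =>
    intro x hs
    by_cases hx : iota x = 0
    · have hx0 : x = 0 := iota_eq_zero_iff.mp hx
      subst hx0
      exact ⟨0, 0, by simp, by simp⟩
    · obtain ⟨e, i, hd, -⟩ := exists_of_mem_support_iota (m.degree_mem_support hx)
      by_cases hj : ∃ j, m.degree (iota (u j)) ≤ m.degree (iota x)
      · obtain ⟨j, hj⟩ := hj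
        have huj : iota (u j) ≠ 0 := by
          intro h0
          have h1 := hu j
          rw [h0, MonomialOrder.leadingCoeff_zero] at h1
          haveI : Subsingleton S := subsingleton_of_zero_eq_one (isUnit_zero_iff.mp h1)
          exact hx (Subsingleton.elim _ _)
        obtain ⟨ej, ij, hdj, -⟩ := exists_of_mem_support_iota (m.degree_mem_support huj)
        have hj' := hj
        rw [hd, hdj, emb_le_emb_iff] at hj'
        obtain ⟨hij, hle⟩ := hj'
        subst hij
        let c : S := ((hu j).unit⁻¹ : Sˣ) * m.leadingCoeff (iota x)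
        let x₁ : τ → MvPolynomial σ S := x - (monomial (e - ej) c) • u j
        have hx₁ : iota x₁ = m.reduce (hu j) (iota x) := by
          simp only [x₁, iota_sub, iota_smul, MonomialOrder.reduce, rename_monomial, hd, hdj,
            emb_sub _ _ _ hle, c]
        have hlt : m.degree (iota x₁) ≺[m] m.degree (iota x) := by
          rw [hx₁]
          exact MonomialOrder.degree_reduce_lt (hu j) hj (by rw [hd]; exact emb_ne_zero _ _)
        obtain ⟨q₁, x', h1, h2⟩ := ih _ (hs ▸ hlt) x₁ rfl
        refine ⟨q₁ + Finsupp.single j (monomial (e - ej) c), x', ?_, h2⟩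
        rw [Finsupp.sum_add_index' (by intro a; simp) (by intro a b₁ b₂; simp [add_smul]),
          Finsupp.sum_single_index (by simp)]
        have hx' : x = x₁ + (monomial (e - ej) c) • u j := by simp [x₁]
        rw [add_right_comm, ← h1]
        exact hx'
      · push Not at hj
        let c : S := m.leadingCoeff (iota x)
        let x₂ : τ → MvPolynomial σ S := x - Pi.single i (monomial e c)
        have hx₂ : iota x₂ = m.subLTerm (iota x) := by
          simp only [x₂, iota_sub, iota_single_monomial, MonomialOrder.subLTerm, hd, c]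
        have hlt : m.degree (iota x₂) ≺[m] m.degree (iota x) := by
          rw [hx₂]
          exact MonomialOrder.degree_sub_LTerm_lt (by rw [hd]; exact emb_ne_zero _ _)
        obtain ⟨q, x'₂, h1, h2⟩ := ih _ (hs ▸ hlt) x₂ rfl
        refine ⟨q, x'₂ + Pi.single i (monomial e c), ?_, ?_⟩
        · have hx' : x = x₂ + Pi.single i (monomial e c) := by simp [x₂]
          rw [← add_assoc, ← h1]
          exact hx'
        · intro d hd' j
          rw [iota_add, iota_single_monomial] at hd'
          have h3 := MvPolynomial.support_add hd'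
          rcases Finset.mem_union.mp h3 with h | h
          · exact h2 d h j
          · have h4 := support_monomial_subset h
            rw [Finset.mem_singleton] at h4
            rw [h4, ← hd]
            exact hj j

end Groth.Agent.Lib.Helper27.ModDiv
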