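import Mathlib

/-!
Coefficientwise lemmas for vectors of polynomials over a valuation domain:
primitive parts, reduction to the residue field, unit lifts.
-/

set_option autoImplicit false

namespace Groth.Agent.Lib.Helper27.ValPoly

open MvPolynomial IsLocalRing

variable {R : Type*} [CommRing R] [IsDomain R] [ValuationRing R]

lemma exists_dvd_all {ι : Type*} (s : Finset ι) (hs : s.Nonempty) (f : ι → R) :
    ∃ i ∈ s, ∀ j ∈ s, f i ∣ f j := by
  classical
  induction hs using Finset.Nonempty.cons_induction with
  | singleton a =>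
    exact ⟨a, Finset.mem_singleton_self a, fun j hj => by rw [Finset.mem_singleton.mp hj]⟩
  | cons a s ha hs ih =>
    obtain ⟨i, hi, hdiv⟩ := ih
    rcases ValuationRing.dvd_total (f a) (f i) with h | h
    · refine ⟨a, Finset.mem_cons_self a s, fun j hj => ?_⟩
      rcases Finset.mem_cons.mp hj with rfl | hj
      · exact dvd_rfl
      · exact h.trans (hdiv j hj)
    · refine ⟨i, Finset.mem_cons.mpr (Or.inr hi), fun j hj => ?_⟩
      rcases Finset.mem_cons.mp hj with rfl | hj
      · exact h
      · exact hdiv j hj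

variable {σ τ : Type*}

lemma exists_coeff_dvd_all [Fintype τ] (x : τ → MvPolynomial σ R) (hx : x ≠ 0) :
    ∃ i e, coeff e (x i) ≠ 0 ∧ ∀ i' e', coeff e (x i) ∣ coeff e' (x i') := by
  classical
  let s : Finset (Σ _ : τ, σ →₀ ℕ) := Finset.univ.sigma (fun i => (x i).support)
  have hs : s.Nonempty := by
    obtain ⟨i, hi⟩ := Function.ne_iff.mp hx
    obtain ⟨e, he⟩ := MvPolynomial.ne_zero_iff.mp hi
    exact ⟨⟨i, e⟩, by simpa [s] using he⟩
  obtain ⟨⟨i, e⟩, hie, hdiv⟩ := exists_dvd_all s hs (fun p => coeff p.2 (x p.1))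
  refine ⟨i, e, ?_, fun i' e' => ?_⟩
  · simpa [s] using hie
  · by_cases h : coeff e' (x i') = 0
    · rw [h]; exact dvd_zero _
    · exact hdiv ⟨i', e'⟩ (by simpa [s] using h)

/-- A nonzero vector is a nonzero scalar times a vector having a coefficient equal to `1`. -/
lemma exists_primitive [Fintype τ] (x : τ → MvPolynomial σ R) (hx : x ≠ 0) :
    ∃ (a : R) (x₁ : τ → MvPolynomial σ R), a ≠ 0 ∧ x = (C a : MvPolynomial σ R) • x₁ ∧ ∃ i e, coeff e (x₁ i) = 1 := by
  obtain ⟨i, e, hne, hdiv⟩ := exists_coeff_dvd_all x hx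
  have h1 : ∀ i', C (coeff e (x i)) ∣ x i' := fun i' => (C_dvd_iff_dvd_coeff _ _).mpr (hdiv i')
  choose x₁ hx₁ using h1
  refine ⟨coeff e (x i), x₁, hne, funext fun i' => ?_, i, e, ?_⟩
  · rw [Pi.smul_apply, smul_eq_mul]; exact hx₁ i'
  · have h2 := congrArg (coeff e) (hx₁ i)
    rw [coeff_C_mul] at h2
    exact mul_left_cancel₀ hne (by rw [← h2, mul_one])

/-- reduction of a vector of polynomials to the residue field. -/
noncomputable def red (x : τ → MvPolynomial σ R) : τ → MvPolynomial σ (ResidueField R) :=
  fun i => map (residue R) (x i)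

lemma coeff_red (x : τ → MvPolynomial σ R) (i : τ) (e : σ →₀ ℕ) :
    coeff e (red x i) = residue R (coeff e (x i)) := by
  rw [red, coeff_map]

@[simp] lemma red_zero : red (0 : τ → MvPolynomial σ R) = 0 := by
  funext i; simp [red]

lemma red_add (x y : τ → MvPolynomial σ R) : red (x + y) = red x + red y := by
  funext i; simp [red]

lemma red_sub (x y : τ → MvPolynomial σ R) : red (x - y) = red x - red y := by
  funext i; simp [red]

lemma red_smul (p : MvPolynomial σ R) (x : τ → MvPolynomial σ R) :
    red (p • x) = map (residue R) p • red x := by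
  funext i; simp [red]

lemma red_C_smul_of_mem {a : R} (ha : a ∈ maximalIdeal R) (x : τ → MvPolynomial σ R) :
    red ((C a : MvPolynomial σ R) • x) = 0 := by
  rw [red_smul, map_C, (residue_eq_zero_iff a).mpr ha, map_zero, zero_smul]

/-- A vector reducing to zero is divisible by an element of the maximal ideal. -/
lemma exists_of_red_eq_zero [Fintype τ] (x : τ → MvPolynomial σ R) (hx : red x = 0) :
    ∃ c ∈ maximalIdeal R, ∃ z : τ → MvPolynomial σ R, x = (C c : MvPolynomial σ R) • z := by
  by_cases h0 : x = 0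
  · exact ⟨0, Ideal.zero_mem _, 0, by simp [h0]⟩
  · obtain ⟨a, x₁, ha, hx₁, i, e, hie⟩ := exists_primitive x h0
    refine ⟨a, ?_, x₁, hx₁⟩
    have h1 : coeff e (red x i) = 0 := by rw [hx]; simp
    rw [coeff_red, hx₁, Pi.smul_apply, smul_eq_mul, coeff_C_mul, hie, mul_one] at h1
    exact (residue_eq_zero_iff a).mp h1

/-- a set-theoretic section of the residue map sending `0` to `0`. -/
noncomputable def sec (a : ResidueField R) : R := by
  classical
  exact if a = 0 then 0 else Function.surjInv (residue_surjective (R := R)) a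

lemma residue_sec (a : ResidueField R) : residue R (sec a) = a := by
  classical
  unfold sec
  split_ifs with h
  · rw [map_zero, h]
  · exact Function.surjInv_eq _ a

@[simp] lemma sec_zero : sec (0 : ResidueField R) = 0 := by
  classical
  unfold sec
  rw [if_pos rfl]

lemma isUnit_sec {a : ResidueField R} (ha : a ≠ 0) : IsUnit (sec a) := by
  by_contra h
  have h1 : sec a ∈ maximalIdeal R := (mem_maximalIdeal _).mpr h
  have h2 := (residue_eq_zero_iff _).mpr h1
  rw [residue_sec] at h2
  exact ha h2

/-- coefficientwise lift of a polynomial over the residue field, with unit-or-zero coefficients. -/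
noncomputable def liftPoly (p : MvPolynomial σ (ResidueField R)) : MvPolynomial σ R :=
  ∑ e ∈ p.support, monomial e (sec (coeff e p))

lemma coeff_liftPoly (p : MvPolynomial σ (ResidueField R)) (e : σ →₀ ℕ) :
    coeff e (liftPoly p) = sec (coeff e p) := by
  classical
  rw [liftPoly, coeff_sum]
  simp only [coeff_monomial]
  rw [Finset.sum_ite_eq' p.support e]
  split_ifs with h
  · rfl
  · rw [notMem_support_iff.mp h, sec_zero]

lemma map_liftPoly (p : MvPolynomial σ (ResidueField R)) : map (residue R) (liftPoly p) = p := by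
  ext e
  rw [coeff_map, coeff_liftPoly, residue_sec]

/-- lift of a vector -/
noncomputable def liftVec (x : τ → MvPolynomial σ (ResidueField R)) : τ → MvPolynomial σ R :=
  fun i => liftPoly (x i)

lemma red_liftVec (x : τ → MvPolynomial σ (ResidueField R)) : red (liftVec x) = x := by
  funext i; exact map_liftPoly (x i)

lemma coeff_liftVec (x : τ → MvPolynomial σ (ResidueField R)) (i : τ) (e : σ →₀ ℕ) :
    coeff e (liftVec x i) = sec (coeff e (x i)) := coeff_liftPoly _ _

lemma coeff_liftVec_ne_zero_iff (x : τ → MvPolynomial σ (ResidueField R)) (i : τ) (e : σ →₀ ℕ) :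
    coeff e (liftVec x i) ≠ 0 ↔ coeff e (x i) ≠ 0 := by
  rw [coeff_liftVec]
  constructor
  · intro h h0; rw [h0, sec_zero] at h; exact h rfl
  · intro h; exact (isUnit_sec h).ne_zero

lemma isUnit_coeff_liftVec (x : τ → MvPolynomial σ (ResidueField R)) (i : τ) (e : σ →₀ ℕ)
    (h : coeff e (x i) ≠ 0) : IsUnit (coeff e (liftVec x i)) := by
  rw [coeff_liftVec]; exact isUnit_sec h

end Groth.Agent.Lib.Helper27.ValPoly
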