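import Mathlib
import Groth.Agent.Lib.Helper27.ModDiv
import Groth.Agent.Lib.Helper27.ValPoly

/-!
Polynomial-level key lemma over a valuation domain `R` of rank one (relative to `t`):
a "relatively saturated" submodule of `R[ζ]^r` is generated modulo `t` by finitely many elements.
-/

set_option autoImplicit false

namespace Groth.Agent.Lib.Helper27.KeyPoly

open MvPolynomial IsLocalRing
open Groth.Agent.Lib.Helper27.ModDiv Groth.Agent.Lib.Helper27.ValPoly
open scoped MonomialOrder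

variable {R : Type*} [CommRing R] [IsDomain R] [ValuationRing R]
variable {σ τ : Type*} [Finite σ] [Fintype τ]

lemma support_iota_liftVec (x : τ → MvPolynomial σ (ResidueField R)) :
    (iota (liftVec x)).support = (iota x).support := by
  ext d
  constructor
  · exact support_iota_subset (fun e i h => (coeff_liftVec_ne_zero_iff x i e).mp h) d
  · exact support_iota_subset (fun e i h => (coeff_liftVec_ne_zero_iff x i e).mpr h) d

lemma degree_iota_liftVec (m : MonomialOrder (σ ⊕ τ)) (x : τ → MvPolynomial σ (ResidueField R)) :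
    m.degree (iota (liftVec x)) = m.degree (iota x) := by
  simp only [MonomialOrder.degree, support_iota_liftVec]

lemma isUnit_leadingCoeff_iota_liftVec (m : MonomialOrder (σ ⊕ τ))
    (x : τ → MvPolynomial σ (ResidueField R)) (hx : x ≠ 0) :
    IsUnit (m.leadingCoeff (iota (liftVec x))) := by
  have h0 : iota (liftVec x) ≠ 0 := by
    intro h
    have h1 : liftVec x = 0 := iota_eq_zero_iff.mp h
    apply hx
    rw [← red_liftVec x, h1, red_zero]
  obtain ⟨e, i, hd, hne⟩ := exists_of_mem_support_iota (m.degree_mem_support h0)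
  rw [MonomialOrder.leadingCoeff, hd, coeff_emb_iota]
  exact isUnit_coeff_liftVec x i e ((coeff_liftVec_ne_zero_iff x i e).mp hne)

/-- Gröbner data for the reduction of a set of vectors. -/
lemma exists_groebner (m : MonomialOrder (σ ⊕ τ)) (N : Set (τ → MvPolynomial σ R)) :
    ∃ G : Finset (τ → MvPolynomial σ R), (∀ g ∈ G, g ∈ N ∧ red g ≠ 0) ∧
      ∀ x ∈ N, red x ≠ 0 → ∃ g ∈ G, m.degree (iota (red g)) ≤ m.degree (iota (red x)) := by
  classical
  let D : Set ((σ ⊕ τ) →₀ ℕ) := {d | ∃ x ∈ N, red x ≠ 0 ∧ m.degree (iota (red x)) = d}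
  have hPWO : D.IsPWO := Set.isPWO_of_wellQuasiOrderedLE D
  let D₀ : Set ((σ ⊕ τ) →₀ ℕ) := {d | Minimal (· ∈ D) d}
  have hsub : D₀ ⊆ D := fun d hd => hd.1
  have hfin : D₀.Finite :=
    IsAntichain.finite_of_partiallyWellOrderedOn (setOfPred_minimal_antichain _) (hPWO.mono hsub)
  haveI : Fintype D₀ := hfin.fintype
  have hch : ∀ d : D₀, ∃ x ∈ N, red x ≠ 0 ∧ m.degree (iota (red x)) = d.1 := fun d => hsub d.2
  choose f hf1 hf2 hf3 using hch
  refine ⟨Finset.univ.image f, ?_, ?_⟩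
  · intro g hg
    obtain ⟨d, -, rfl⟩ := Finset.mem_image.mp hg
    exact ⟨hf1 d, hf2 d⟩
  · intro x hx hx0
    have hd : m.degree (iota (red x)) ∈ D := ⟨x, hx, hx0, rfl⟩
    obtain ⟨b, hb, hbmin⟩ := hPWO.exists_le_minimal hd
    refine ⟨f ⟨b, hbmin⟩, Finset.mem_image_of_mem _ (Finset.mem_univ _), ?_⟩
    rw [hf3 ⟨b, hbmin⟩]
    exact hb

lemma exists_common (G : Finset (τ → MvPolynomial σ R)) (t : R) (ht : t ∈ maximalIdeal R) :
    ∃ c ∈ maximalIdeal R, c ∣ t ∧ ∀ g ∈ G, ∃ z : τ → MvPolynomial σ R,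
      g - liftVec (red g) = (C c : MvPolynomial σ R) • z := by
  classical
  have h1 : ∀ g : τ → MvPolynomial σ R, ∃ c ∈ maximalIdeal R, ∃ z : τ → MvPolynomial σ R,
      g - liftVec (red g) = (C c : MvPolynomial σ R) • z := fun g =>
    exists_of_red_eq_zero _ (by rw [red_sub, red_liftVec, sub_self])
  choose cf hcf zf hzf using h1
  obtain ⟨i, hi, hdiv⟩ := exists_dvd_all (insert none (G.image some)) (Finset.insert_nonempty _ _)
    (fun o : Option (τ → MvPolynomial σ R) => o.elim t cf)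
  refine ⟨i.elim t cf, ?_, hdiv none (Finset.mem_insert_self _ _), fun g hg => ?_⟩
  · cases i with
    | none => exact ht
    | some g => exact hcf g
  · obtain ⟨b, hb⟩ := hdiv (some g) (Finset.mem_insert_of_mem (Finset.mem_image_of_mem _ hg))
    refine ⟨(C b : MvPolynomial σ R) • zf g, ?_⟩
    have hb' : cf g = i.elim t cf * b := hb
    rw [hzf g, smul_smul, ← C_mul, ← hb']

/-- The key containment: modulo a suitable `c ∈ 𝔪` dividing `t`, the submodule is generated by a
finite Gröbner-type family. -/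
theorem exists_finset_span_add_c (t : R) (ht : t ∈ maximalIdeal R)
    (N : Submodule (MvPolynomial σ R) (τ → MvPolynomial σ R))
    (hsat : ∀ a b : R, a * b = t → ∀ x : τ → MvPolynomial σ R,
      (C a : MvPolynomial σ R) • x ∈ N → ∃ y : τ → MvPolynomial σ R,
        x - (C b : MvPolynomial σ R) • y ∈ N) :
    ∃ G : Finset (τ → MvPolynomial σ R), (∀ g ∈ G, g ∈ N) ∧ ∃ c ∈ maximalIdeal R, c ∣ t ∧
      ∀ x ∈ N, ∃ y ∈ Submodule.span (MvPolynomial σ R) (G : Set (τ → MvPolynomial σ R)),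
        ∃ z : τ → MvPolynomial σ R, x = y + (C c : MvPolynomial σ R) • z := by
  classical
  obtain ⟨lo, hwf⟩ := exists_wellFoundedGT (σ ⊕ τ)
  letI := lo
  let m : MonomialOrder (σ ⊕ τ) := MonomialOrder.lex
  obtain ⟨G, hG1, hG2⟩ := exists_groebner m (N : Set (τ → MvPolynomial σ R))
  obtain ⟨c, hc, hct, hcG⟩ := exists_common G t ht
  refine ⟨G, fun g hg => (hG1 g hg).1, c, hc, hct, ?_⟩
  choose! zg hzg using hcG
  let u : G → τ → MvPolynomial σ R := fun g => liftVec (red g.1)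
  have hu : ∀ g : G, IsUnit (m.leadingCoeff (iota (u g))) := fun g =>
    isUnit_leadingCoeff_iota_liftVec m _ (hG1 g.1 g.2).2
  have hspanN : Submodule.span (MvPolynomial σ R) (G : Set (τ → MvPolynomial σ R)) ≤ N :=
    Submodule.span_le.mpr fun g hg => (hG1 g hg).1
  intro x hx
  obtain ⟨q, ρ, hxq, hρ⟩ := modDiv m u hu x
  rw [Finsupp.sum_fintype q (fun j p => p • u j) (fun _ => zero_smul _ _)] at hxq
  let y : τ → MvPolynomial σ R := ∑ g : G, q g • g.1
  let w : τ → MvPolynomial σ R := ∑ g : G, q g • zg g.1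
  have hy : y ∈ Submodule.span (MvPolynomial σ R) (G : Set (τ → MvPolynomial σ R)) :=
    Submodule.sum_mem _ fun g _ => Submodule.smul_mem _ _ (Submodule.subset_span g.2)
  have hxy : x = y + (ρ - (C c : MvPolynomial σ R) • w) := by
    have h1 : y = (∑ g : G, q g • u g) + (C c : MvPolynomial σ R) • w := by
      simp only [y, w, Finset.smul_sum, ← Finset.sum_add_distrib]
      refine Finset.sum_congr rfl fun g _ => ?_
      have h2 := hzg g.1 g.2
      rw [smul_comm, ← smul_add, ← h2]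
      simp [u]
    rw [h1, hxq]; abel
  by_cases hρ0 : ρ = 0
  · refine ⟨y, hy, -w, ?_⟩
    rw [hxy, hρ0, zero_sub, smul_neg]
  obtain ⟨a, ρ₁, ha, hρ₁, i, e, hie⟩ := exists_primitive ρ hρ0
  by_cases hca : c ∣ a
  · obtain ⟨a', rfl⟩ := hca
    refine ⟨y, hy, (C a' : MvPolynomial σ R) • ρ₁ - w, ?_⟩
    rw [hxy, hρ₁, smul_sub, smul_smul, ← C_mul]
  exfalso
  obtain ⟨a', ha'⟩ := (ValuationRing.dvd_total c a).resolve_left hca
  have ha'm : a' ∈ maximalIdeal R := by
    rw [mem_maximalIdeal, mem_nonunits_iff]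
    intro hun
    apply hca
    obtain ⟨v, rfl⟩ := hun
    exact ⟨(v⁻¹ : Rˣ), by rw [ha', mul_assoc, Units.mul_inv, mul_one]⟩
  obtain ⟨c', hc'⟩ := hct
  set b := a' * c' with hb
  have hab : a * b = t := by rw [hb, ← mul_assoc, ← ha', hc']
  have hbm : b ∈ maximalIdeal R := Ideal.mul_mem_right _ _ ha'm
  let ρ₂ : τ → MvPolynomial σ R := ρ₁ - (C a' : MvPolynomial σ R) • w
  have hmem : (C a : MvPolynomial σ R) • ρ₂ ∈ N := by
    have h1 : (C a : MvPolynomial σ R) • ρ₂ = x - y := by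
      rw [hxy, add_sub_cancel_left, hρ₁, ha']
      simp only [ρ₂, smul_sub, smul_smul, C_mul]
    rw [h1]
    exact N.sub_mem hx (hspanN hy)
  obtain ⟨y₂, hy₂⟩ := hsat a b hab ρ₂ hmem
  have hred : red (ρ₂ - (C b : MvPolynomial σ R) • y₂) = red ρ₁ := by
    rw [red_sub, red_C_smul_of_mem hbm, sub_zero]
    simp only [ρ₂]
    rw [red_sub, red_C_smul_of_mem ha'm, sub_zero]
  have hρ₁0 : red ρ₁ ≠ 0 := by
    intro h0
    have h1 : coeff e (red ρ₁ i) = 0 := by rw [h0]; simp
    rw [coeff_red, hie, map_one] at h1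
    exact one_ne_zero h1
  obtain ⟨g, hg, hgle⟩ := hG2 _ hy₂ (by rw [hred]; exact hρ₁0)
  rw [hred] at hgle
  have hi0 : iota (red ρ₁) ≠ 0 := fun h => hρ₁0 (iota_eq_zero_iff.mp h)
  have hd1 := m.degree_mem_support hi0
  have hd2 : m.degree (iota (red ρ₁)) ∈ (iota ρ).support := by
    refine support_iota_subset (fun e' i' h => ?_) _ hd1
    rw [hρ₁, Pi.smul_apply, smul_eq_mul, coeff_C_mul]
    refine mul_ne_zero ha ?_
    intro h0
    rw [coeff_red, h0, map_zero] at h
    exact h rfl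
  refine hρ _ hd2 ⟨g, hg⟩ ?_
  show m.degree (iota (liftVec (red g))) ≤ _
  rw [degree_iota_liftVec]
  exact hgle

/-- The polynomial-level key lemma. -/
theorem exists_finset_span_add (t : R) (ht : t ∈ maximalIdeal R)
    (hrank : ∀ c ∈ maximalIdeal R, ∃ i : ℕ, t ∣ c ^ i)
    (N : Submodule (MvPolynomial σ R) (τ → MvPolynomial σ R))
    (hsat : ∀ a b : R, a * b = t → ∀ x : τ → MvPolynomial σ R,
      (C a : MvPolynomial σ R) • x ∈ N → ∃ y : τ → MvPolynomial σ R,
        x - (C b : MvPolynomial σ R) • y ∈ N) :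
    ∃ G : Finset (τ → MvPolynomial σ R), (∀ g ∈ G, g ∈ N) ∧
      ∀ x ∈ N, ∃ y ∈ Submodule.span (MvPolynomial σ R) (G : Set (τ → MvPolynomial σ R)),
        ∃ z : τ → MvPolynomial σ R, x = y + (C t : MvPolynomial σ R) • z := by
  obtain ⟨G, hGN, c, hc, ⟨c', hc'⟩, hkey⟩ := exists_finset_span_add_c t ht N hsat
  refine ⟨G, hGN, ?_⟩
  have hspanN : Submodule.span (MvPolynomial σ R) (G : Set (τ → MvPolynomial σ R)) ≤ N :=
    Submodule.span_le.mpr fun g hg => hGN g hg
  -- one step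
  have step : ∀ x ∈ N, ∃ y ∈ Submodule.span (MvPolynomial σ R) (G : Set (τ → MvPolynomial σ R)),
      ∃ n ∈ N, ∃ z : τ → MvPolynomial σ R,
        x = y + (C c : MvPolynomial σ R) • n + (C t : MvPolynomial σ R) • z := by
    intro x hx
    obtain ⟨y, hy, z₀, hz₀⟩ := hkey x hx
    have h1 : (C c : MvPolynomial σ R) • z₀ ∈ N := by
      have : (C c : MvPolynomial σ R) • z₀ = x - y := by rw [hz₀, add_sub_cancel_left]
      rw [this]; exact N.sub_mem hx (hspanN hy)
    obtain ⟨y₂, hy₂⟩ := hsat c c' hc'.symm z₀ h1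
    refine ⟨y, hy, _, hy₂, y₂, ?_⟩
    rw [hz₀, hc', C_mul, smul_sub, smul_smul]
    abel
  have iter : ∀ i : ℕ, ∀ x ∈ N,
      ∃ y ∈ Submodule.span (MvPolynomial σ R) (G : Set (τ → MvPolynomial σ R)),
      ∃ n ∈ N, ∃ z : τ → MvPolynomial σ R,
        x = y + (C (c ^ i) : MvPolynomial σ R) • n + (C t : MvPolynomial σ R) • z := by
    intro i
    induction i with
    | zero =>
      intro x hx
      exact ⟨0, Submodule.zero_mem _, x, hx, 0, by simp⟩
    | succ i ih =>
      intro x hx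
      obtain ⟨y, hy, n, hn, z, hxz⟩ := ih x hx
      obtain ⟨y', hy', n', hn', z', hnz⟩ := step n hn
      refine ⟨y + (C (c ^ i) : MvPolynomial σ R) • y',
        Submodule.add_mem _ hy (Submodule.smul_mem _ _ hy'), n', hn',
        z + (C (c ^ i) : MvPolynomial σ R) • z', ?_⟩
      rw [hxz, hnz, pow_succ, C_mul]
      simp only [smul_add, smul_smul]
      rw [mul_comm (C t) (C (c ^ i))]
      abel
  obtain ⟨i, s, hs⟩ := hrank c hc
  intro x hx
  obtain ⟨y, hy, n, hn, z, hxz⟩ := iter i x hx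
  refine ⟨y, hy, (C s : MvPolynomial σ R) • n + z, ?_⟩
  rw [hxz, hs, C_mul, smul_add, smul_smul, add_assoc]

end Groth.Agent.Lib.Helper27.KeyPoly
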