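import Mathlib
import Groth.Agent.Lib.Helper27.KeyPoly
import Groth.Agent.Lib.Helper27.AdicUtil

/-!
Lifting the polynomial-level key lemma to a `t`-adically complete algebra `A` in which the
polynomial ring is dense modulo `t`: saturated submodules of `A^r` are finitely generated.
-/

set_option autoImplicit false

namespace Groth.Agent.Lib.Helper27.KeyCompl

open MvPolynomial IsLocalRing
open Groth.Agent.Lib.Helper27.AdicUtil

section Nakayama

variable {R : Type*} [CommRing R] {A : Type*} [CommRing A] [Algebra R A]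
  {M : Type*} [AddCommGroup M] [Module R M] [Module A M] [IsScalarTower R A M]

/-- Complete Nakayama: if `N ⊆ span v + t N`, `A` is `t`-adically precomplete and `M` is
`t`-adically separated, then `N ⊆ span v`. -/
theorem le_span_of_complete (t : R) [IsPrecomplete (Ideal.span {t}) A]
    [IsHausdorff (Ideal.span {t}) M] (N : Submodule A M) {ι : Type*} [Fintype ι] (v : ι → M)
    (hv : ∀ i, v i ∈ N)
    (h : ∀ x ∈ N, ∃ y ∈ Submodule.span A (Set.range v), ∃ z ∈ N, x = y + t • z) :
    N ≤ Submodule.span A (Set.range v) := by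
  classical
  let v' : ι → N := fun i => ⟨v i, hv i⟩
  let f : (ι → A) →ₗ[R] N := (Fintype.linearCombination A v').restrictScalars R
  haveI : IsPrecomplete (Ideal.span {t}) (ι → A) := isPrecomplete_pi t A
  haveI : IsHausdorff (Ideal.span {t}) N :=
    isHausdorff_of_injective (Ideal.span {t}) (N.subtype.restrictScalars R)
      (by intro a b hab; exact Subtype.ext hab)
  have hsurj : Function.Surjective f := by
    apply surjective_of_mkQ_comp_surjective (I := Ideal.span {t})
    intro q
    obtain ⟨x, rfl⟩ := Submodule.mkQ_surjective _ q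
    obtain ⟨y, hy, z, hz, hxyz⟩ := h x.1 x.2
    rw [← Fintype.range_linearCombination] at hy
    obtain ⟨a, ha⟩ := hy
    refine ⟨a, ?_⟩
    rw [LinearMap.comp_apply, Submodule.mkQ_apply, Submodule.mkQ_apply, Submodule.Quotient.eq]
    have h1 : f a - x = t • (-(⟨z, hz⟩ : N)) := by
      apply Subtype.ext
      have h2 : ((f a : N) : M) = y := by
        rw [← ha]
        simp [f, Fintype.linearCombination_apply, v']
      rw [Submodule.coe_sub, h2, hxyz]
      simp
    rw [h1]
    exact Submodule.smul_mem_smul (Ideal.mem_span_singleton_self t) Submodule.mem_top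
  intro x hx
  obtain ⟨a, ha⟩ := hsurj ⟨x, hx⟩
  have h2 : x = ∑ i, a i • v i := by
    have := congrArg (fun n : N => (n : M)) ha
    simp only [f, LinearMap.restrictScalars_apply, Fintype.linearCombination_apply, v'] at this
    rw [← this]
    simp
  rw [h2]
  exact Submodule.sum_mem _ fun i _ => Submodule.smul_mem _ _ (Submodule.subset_span ⟨i, rfl⟩)

end Nakayama

variable {R : Type*} [CommRing R] [IsDomain R] [ValuationRing R]
variable {σ τ : Type*} [Finite σ] [Fintype τ]
variable {A : Type*} [CommRing A] [Algebra R A] [Algebra (MvPolynomial σ R) A]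
  [IsScalarTower R (MvPolynomial σ R) A]

/-- componentwise structure map -/
noncomputable def ofF (A : Type*) [CommRing A] [Algebra (MvPolynomial σ R) A] (x : τ → MvPolynomial σ R) :
    τ → A := fun i => algebraMap (MvPolynomial σ R) A (x i)

@[simp] lemma ofF_zero : ofF A (0 : τ → MvPolynomial σ R) = 0 := by
  funext i; simp [ofF]

lemma ofF_add (x y : τ → MvPolynomial σ R) : ofF A (x + y) = ofF A x + ofF A y := by
  funext i; simp [ofF]

lemma ofF_sub (x y : τ → MvPolynomial σ R) : ofF A (x - y) = ofF A x - ofF A y := by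
  funext i; simp [ofF]

lemma ofF_smul (p : MvPolynomial σ R) (x : τ → MvPolynomial σ R) :
    ofF A (p • x) = algebraMap (MvPolynomial σ R) A p • ofF A x := by
  funext i; simp [ofF]

omit [IsDomain R] [ValuationRing R] [Finite σ] [Fintype τ] in
lemma ofF_C_smul (a : R) (x : τ → MvPolynomial σ R) :
    ofF A ((C a : MvPolynomial σ R) • x) = a • ofF A x := by
  funext i
  simp only [ofF, Pi.smul_apply, smul_eq_mul, map_mul]
  rw [← MvPolynomial.algebraMap_eq, ← IsScalarTower.algebraMap_apply, Algebra.smul_def]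

/-- Saturated submodules of `A^r` are finitely generated. -/
theorem fg_of_saturated (t : R) (ht : t ∈ maximalIdeal R) (ht0 : t ≠ 0)
    (hrank : ∀ c ∈ maximalIdeal R, ∃ i : ℕ, t ∣ c ^ i)
    (hdiv : ∀ a : R, a ≠ 0 → ∃ j : ℕ, a ∣ t ^ j)
    (hdense : ∀ z : A, ∃ p : MvPolynomial σ R, ∃ z' : A,
      z = algebraMap (MvPolynomial σ R) A p + t • z')
    [IsPrecomplete (Ideal.span {t}) A] [IsHausdorff (Ideal.span {t}) A]
    (N : Submodule A (τ → A)) (hsat : ∀ x : τ → A, t • x ∈ N → x ∈ N) : N.FG := by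
  classical
  -- saturation w.r.t. all nonzero scalars
  have sat_pow : ∀ (j : ℕ) (x : τ → A), t ^ j • x ∈ N → x ∈ N := by
    intro j
    induction j with
    | zero => intro x hx; simpa using hx
    | succ j ih =>
      intro x hx
      rw [pow_succ', mul_smul] at hx
      exact ih x (hsat _ hx)
  have sat' : ∀ a : R, a ≠ 0 → ∀ x : τ → A, a • x ∈ N → x ∈ N := by
    intro a ha x hx
    obtain ⟨j, b, hb⟩ := hdiv a ha
    apply sat_pow j
    rw [hb, mul_comm, mul_smul]
    exact N.smul_of_tower_mem b hx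
  -- density, componentwise
  have hdenseF : ∀ z : τ → A, ∃ p : τ → MvPolynomial σ R, ∃ z' : τ → A,
      z = ofF A p + t • z' := by
    intro z
    choose p z' hz using fun i => hdense (z i)
    exact ⟨p, z', funext fun i => by simp [ofF, hz i]⟩
  let N0 : Submodule (MvPolynomial σ R) (τ → MvPolynomial σ R) :=
    { carrier := {x | ∃ n ∈ N, ∃ z : τ → A, ofF A x = n + t • z}
      zero_mem' := ⟨0, N.zero_mem, 0, by simp⟩
      add_mem' := by
        rintro x y ⟨n, hn, z, hz⟩ ⟨n', hn', z', hz'⟩
        exact ⟨n + n', N.add_mem hn hn', z + z', by rw [ofF_add, hz, hz', smul_add]; abel⟩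
      smul_mem' := by
        rintro p x ⟨n, hn, z, hz⟩
        exact ⟨algebraMap _ A p • n, N.smul_mem _ hn, algebraMap _ A p • z, by
          rw [ofF_smul, hz, smul_add, smul_comm]⟩ }
  have hN0 : ∀ x, x ∈ N0 ↔ ∃ n ∈ N, ∃ z : τ → A, ofF A x = n + t • z := fun x => Iff.rfl
  have hsat0 : ∀ a b : R, a * b = t → ∀ x : τ → MvPolynomial σ R,
      (C a : MvPolynomial σ R) • x ∈ N0 → ∃ y : τ → MvPolynomial σ R,
        x - (C b : MvPolynomial σ R) • y ∈ N0 := by
    intro a b hab x hx
    obtain ⟨n, hn, z, hz⟩ := (hN0 _).mp hx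
    have ha : a ≠ 0 := by rintro rfl; rw [zero_mul] at hab; exact ht0 hab.symm
    rw [ofF_C_smul] at hz
    have h1 : ofF A x - b • z ∈ N := by
      apply sat' a ha
      have : a • (ofF A x - b • z) = n := by
        rw [smul_sub, hz, smul_smul, hab, add_sub_cancel_right]
      rw [this]; exact hn
    obtain ⟨y, z', hyz⟩ := hdenseF z
    refine ⟨y, (hN0 _).mpr ⟨ofF A x - b • z, h1, b • z', ?_⟩⟩
    rw [ofF_sub, ofF_C_smul, hyz, smul_add, smul_comm b t z']
    abel
  obtain ⟨G, hGN, hkey⟩ := KeyPoly.exists_finset_span_add t ht hrank N0 hsat0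
  have hGN' : ∀ g ∈ G, ∃ n ∈ N, ∃ z : τ → A, ofF A g = n + t • z := fun g hg =>
    (hN0 g).mp (hGN g hg)
  choose! ng hng zg hzg using hGN'
  let v : G → τ → A := fun g => ng g.1
  have hv : ∀ g : G, v g ∈ N := fun g => hng g.1 g.2
  have claim1 : ∀ y0 ∈ Submodule.span (MvPolynomial σ R) (G : Set (τ → MvPolynomial σ R)),
      ∃ y ∈ Submodule.span A (Set.range v), ∃ z : τ → A, ofF A y0 = y + t • z := by
    intro y0 hy0
    induction hy0 using Submodule.span_induction with
    | mem g hg =>
      exact ⟨ng g, Submodule.subset_span ⟨⟨g, hg⟩, rfl⟩, zg g, hzg g hg⟩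
    | zero => exact ⟨0, Submodule.zero_mem _, 0, by simp⟩
    | add x y _ _ hx hy =>
      obtain ⟨y1, hy1, z1, h1⟩ := hx
      obtain ⟨y2, hy2, z2, h2⟩ := hy
      exact ⟨y1 + y2, Submodule.add_mem _ hy1 hy2, z1 + z2, by
        rw [ofF_add, h1, h2, smul_add]; abel⟩
    | smul p x _ hx =>
      obtain ⟨y1, hy1, z1, h1⟩ := hx
      exact ⟨algebraMap _ A p • y1, Submodule.smul_mem _ _ hy1, algebraMap _ A p • z1, by
        rw [ofF_smul, h1, smul_add, smul_comm]⟩
  have hspanN : Submodule.span A (Set.range v) ≤ N :=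
    Submodule.span_le.mpr (by rintro _ ⟨g, rfl⟩; exact hv g)
  have claim2 : ∀ x ∈ N, ∃ y ∈ Submodule.span A (Set.range v), ∃ z ∈ N, x = y + t • z := by
    intro x hx
    obtain ⟨p, z', hp⟩ := hdenseF x
    have hpN0 : p ∈ N0 := (hN0 p).mpr ⟨x, hx, -z', by rw [hp]; simp⟩
    obtain ⟨y0, hy0, p', hp'⟩ := hkey p hpN0
    obtain ⟨y, hy, z, hyz⟩ := claim1 y0 hy0
    have hx' : x = y + t • (z + ofF A p' + z') := by
      rw [hp, hp', ofF_add, ofF_C_smul, hyz]
      simp only [smul_add]; abel
    refine ⟨y, hy, z + ofF A p' + z', ?_, hx'⟩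
    apply hsat
    have : t • (z + ofF A p' + z') = x - y := by rw [hx']; abel
    rw [this]
    exact N.sub_mem hx (hspanN hy)
  haveI : IsHausdorff (Ideal.span {t}) (τ → A) := isHausdorff_pi t A
  have hle := le_span_of_complete t N v hv claim2
  have heq : N = Submodule.span A (Set.range v) := le_antisymm hle hspanN
  rw [heq]
  exact Submodule.fg_span (Set.finite_range v)

end Groth.Agent.Lib.Helper27.KeyCompl
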