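import Mathlib
import Groth.Prelude.Def_W4bk4boschfrg79
import Groth.Agent.Lib.Helper27.KeyCompl

/-!
Class (V) key lemma for restricted power series `RPow R (t) n` and algebras topologically of
finite type: saturated submodules of finite modules are finitely generated.
-/

set_option autoImplicit false
universe u

namespace Groth.Agent.Lib.Helper27.RPowKey

open MvPolynomial IsLocalRing AdicRing
open Groth.Agent.Lib.Helper27.AdicUtil

section facts

variable {R : Type*} [CommRing R] [IsDomain R] [ValuationRing R] (t : R)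

lemma mem_maximalIdeal_of_isHausdorff [IsHausdorff (Ideal.span {t}) R] :
    t ∈ maximalIdeal R := by
  rw [mem_maximalIdeal, mem_nonunits_iff]
  intro hu
  have h1 : Ideal.span {t} = ⊤ := Ideal.span_singleton_eq_top.mpr hu
  have h2 : IsHausdorff (⊤ : Ideal R) R := h1 ▸ (inferInstance : IsHausdorff (Ideal.span {t}) R)
  haveI := h2.subsingleton
  exact not_subsingleton R this

lemma exists_dvd_pow [IsHausdorff (Ideal.span {t}) R] (a : R) (ha : a ≠ 0) :
    ∃ j : ℕ, a ∣ t ^ j := by
  by_contra hcon
  push Not at hcon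
  apply ha
  apply (inferInstance : IsHausdorff (Ideal.span {t}) R).haus
  intro m
  rw [SModEq.zero, smul_eq_mul, Ideal.mul_top, Ideal.span_singleton_pow, Ideal.mem_span_singleton]
  exact (ValuationRing.dvd_total (t ^ m) a).resolve_right (hcon m)

lemma exists_dvd_pow_of_mem [Ring.KrullDimLE 1 R] (ht0 : t ≠ 0) (c : R)
    (hc : c ∈ maximalIdeal R) : ∃ i : ℕ, t ∣ c ^ i := by
  have h1 : c ∈ (Ideal.span {t}).radical := by
    rw [Ideal.radical_eq_sInf, Ideal.mem_sInf]
    rintro J ⟨hJ, hJp⟩
    have hne : J ≠ ⊥ := by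
      intro h
      apply ht0
      have : t ∈ J := hJ (Ideal.mem_span_singleton_self t)
      rwa [h, Ideal.mem_bot] at this
    have hmax := hJp.isMaximal_of_ne_bot hne
    rw [IsLocalRing.eq_maximalIdeal hmax]
    exact hc
  obtain ⟨i, hi⟩ := h1
  exact ⟨i, Ideal.mem_span_singleton.mp hi⟩

end facts

section rpow

variable (R : Type u) [CommRing R] (t : R) (n : ℕ)

lemma J_fg : ((Ideal.span {t}).map (MvPolynomial.C : R →+* MvPolynomial (Fin n) R)).FG :=
  Ideal.FG.map ⟨{t}, by simp⟩ _

instance isScalarTower_rpow (I : Ideal R) :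
    IsScalarTower R (MvPolynomial (Fin n) R) (RPow R I n) :=
  IsScalarTower.of_algebraMap_eq (fun _ => rfl)

lemma isAdicComplete_rpow (I : Ideal R) (hI : I.FG) : IsAdicComplete I (RPow R I n) := by
  have h : IsAdicComplete (I.map (MvPolynomial.C : R →+* MvPolynomial (Fin n) R)) (RPow R I n) :=
    AdicCompletion.isAdicComplete (hI.map _)
  exact (IsAdicComplete.map_algebraMap_iff (S := MvPolynomial (Fin n) R) I (RPow R I n)).mp h

lemma dense_rpow (z : RPow R (Ideal.span {t}) n) :
    ∃ p : MvPolynomial (Fin n) R, ∃ z' : RPow R (Ideal.span {t}) n,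
      z = algebraMap (MvPolynomial (Fin n) R) (RPow R (Ideal.span {t}) n) p + t • z' := by
  obtain ⟨f, rfl⟩ := AdicCompletion.mk_surjective
    ((Ideal.span {t}).map (MvPolynomial.C : R →+* MvPolynomial (Fin n) R))
    (MvPolynomial (Fin n) R) z
  refine ⟨f 1, ?_⟩
  have h1 : AdicCompletion.mk ((Ideal.span {t}).map (MvPolynomial.C : R →+* MvPolynomial (Fin n) R))
      (MvPolynomial (Fin n) R) f -
      AdicCompletion.of ((Ideal.span {t}).map (MvPolynomial.C : R →+* MvPolynomial (Fin n) R))
        (MvPolynomial (Fin n) R) (f 1) ∈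
      (((Ideal.span {t}).map (MvPolynomial.C : R →+* MvPolynomial (Fin n) R)) ^ 1 • ⊤ :
        Submodule (MvPolynomial (Fin n) R) (RPow R (Ideal.span {t}) n)) := by
    rw [AdicCompletion.pow_smul_top_eq_ker_eval (J_fg R t n), LinearMap.mem_ker, map_sub,
      AdicCompletion.eval_of, AdicCompletion.eval_apply, AdicCompletion.mk_apply_coe, sub_self]
  have hJ' : (Ideal.span {t}).map (MvPolynomial.C : R →+* MvPolynomial (Fin n) R) =
      Ideal.span {(MvPolynomial.C t : MvPolynomial (Fin n) R)} := by
    rw [Ideal.map_span, Set.image_singleton]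
  have h2 : AdicCompletion.mk ((Ideal.span {t}).map (MvPolynomial.C : R →+* MvPolynomial (Fin n) R))
      (MvPolynomial (Fin n) R) f -
      AdicCompletion.of ((Ideal.span {t}).map (MvPolynomial.C : R →+* MvPolynomial (Fin n) R))
        (MvPolynomial (Fin n) R) (f 1) ∈
      ((Ideal.span {(MvPolynomial.C t : MvPolynomial (Fin n) R)}) ^ 1 • ⊤ :
        Submodule (MvPolynomial (Fin n) R) (RPow R (Ideal.span {t}) n)) := by
    rw [← hJ']; exact h1
  rw [mem_pow_smul_top_iff] at h2
  obtain ⟨y, hy⟩ := h2
  refine ⟨y, ?_⟩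
  rw [AdicCompletion.algebraMap_apply, Algebra.algebraMap_self, RingHom.id_apply]
  rw [sub_eq_iff_eq_add'] at hy
  rw [hy, pow_one]
  congr 1
  exact algebraMap_smul (MvPolynomial (Fin n) R) t y

end rpow

section key

variable (R : Type u) [CommRing R] [IsDomain R] [ValuationRing R] [Ring.KrullDimLE 1 R]
  (t : R) (ht0 : t ≠ 0) [IsAdicComplete (Ideal.span {t}) R]

include ht0 in
/-- Class (V): saturated submodules of `R⟨ζ⟩^τ` are finitely generated. -/
theorem fg_of_saturated_rpow (n : ℕ) {τ : Type*} [Fintype τ]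
    (N : Submodule (RPow R (Ideal.span {t}) n) (τ → RPow R (Ideal.span {t}) n))
    (hsat : ∀ x : τ → RPow R (Ideal.span {t}) n, t • x ∈ N → x ∈ N) : N.FG := by
  haveI := isAdicComplete_rpow R n (Ideal.span {t}) (Submodule.fg_span_singleton t)
  exact KeyCompl.fg_of_saturated (σ := Fin n) t (mem_maximalIdeal_of_isHausdorff t) ht0
    (exists_dvd_pow_of_mem t ht0) (exists_dvd_pow t) (dense_rpow R t n) N hsat

include ht0 in
/-- Class (V): saturated submodules of finite modules over an algebra topologically of finite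
type are finitely generated. -/
theorem fg_of_saturated_tft (A : Type u) [CommRing A] [Algebra R A]
    (hA : TopFiniteType R (Ideal.span {t}) A)
    (M : Type*) [AddCommGroup M] [Module A M] [Module R M] [IsScalarTower R A M]
    [Module.Finite A M] (N : Submodule A M) (hsat : ∀ x : M, t • x ∈ N → x ∈ N) : N.FG := by
  classical
  obtain ⟨n, φ, hφ⟩ := hA
  obtain ⟨r, π, hπ⟩ := Module.Finite.exists_fin' A M
  let ψ : (Fin r → RPow R (Ideal.span {t}) n) → M := fun x => π (fun i => φ (x i))
  have ψ_add : ∀ x y, ψ (x + y) = ψ x + ψ y := by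
    intro x y
    simp only [ψ]
    rw [← map_add]
    congr 1
    funext i
    simp
  have ψ_smul : ∀ (a : RPow R (Ideal.span {t}) n) x, ψ (a • x) = φ a • ψ x := by
    intro a x
    simp only [ψ]
    rw [← map_smul]
    congr 1
    funext i
    simp
  have ψ_tsmul : ∀ x, ψ (t • x) = t • ψ x := by
    intro x
    simp only [ψ]
    rw [← LinearMap.map_smul_of_tower]
    congr 1
    funext i
    simp
  have ψ_zero : ψ 0 = 0 := by
    simp only [ψ]
    rw [← map_zero π]
    congr 1
    funext i
    simp
  have ψ_surj : Function.Surjective ψ := by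
    intro y
    obtain ⟨x, rfl⟩ := hπ y
    choose x' hx' using fun i => hφ (x i)
    exact ⟨x', by simp only [ψ, hx']⟩
  let N0 : Submodule (RPow R (Ideal.span {t}) n) (Fin r → RPow R (Ideal.span {t}) n) :=
    { carrier := {x | ψ x ∈ N}
      zero_mem' := by
        show ψ 0 ∈ N
        rw [ψ_zero]; exact N.zero_mem
      add_mem' := by
        intro x y hx hy
        show ψ (x + y) ∈ N
        rw [ψ_add]; exact N.add_mem hx hy
      smul_mem' := by
        intro a x hx
        show ψ (a • x) ∈ N
        rw [ψ_smul]; exact N.smul_mem _ hx }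
  have hN0 : N0.FG := by
    apply fg_of_saturated_rpow R t ht0 n N0
    intro x hx
    show ψ x ∈ N
    apply hsat
    rw [← ψ_tsmul]
    exact hx
  obtain ⟨S, hS⟩ := hN0
  refine ⟨S.image ψ, ?_⟩
  apply le_antisymm
  · rw [Submodule.span_le]
    intro y hy
    rw [Finset.coe_image] at hy
    obtain ⟨x, hx, rfl⟩ := hy
    have : x ∈ N0 := hS ▸ Submodule.subset_span hx
    exact this
  · have key : ∀ x ∈ Submodule.span (RPow R (Ideal.span {t}) n) (S : Set _),
        ψ x ∈ Submodule.span A ((S.image ψ : Finset M) : Set M) := by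
      intro x hx
      induction hx using Submodule.span_induction with
      | mem x hx => exact Submodule.subset_span (by rw [Finset.coe_image]; exact ⟨x, hx, rfl⟩)
      | zero => rw [ψ_zero]; exact Submodule.zero_mem _
      | add x y _ _ hx hy => rw [ψ_add]; exact Submodule.add_mem _ hx hy
      | smul a x _ hx => rw [ψ_smul]; exact Submodule.smul_mem _ _ hx
    intro y hy
    obtain ⟨x, rfl⟩ := ψ_surj y
    have hx : x ∈ N0 := hy
    rw [← hS] at hx
    exact key x hx

end key

end Groth.Agent.Lib.Helper27.RPowKey
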