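import Mathlib
import Groth.Prelude.Def_W4bk4boschfrg79
import Groth.Agent.S0543
import Groth.Agent.Lib.Helper27.RPowKey

/-!
Common material for the adic base rings of classes (N) and (V).
-/

set_option autoImplicit false
universe u

namespace Groth.Agent.Lib.Helper27.AdicBase

open AdicRing

theorem isNoetherianRing_rpow (R : Type u) [CommRing R] [IsNoetherianRing R] (I : Ideal R)
    (n : ℕ) : IsNoetherianRing (RPow R I n) :=
  Groth.Agent.S0543.result _ _

theorem isNoetherianRing_of_tft (R : Type u) [CommRing R] [IsNoetherianRing R] (I : Ideal R)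
    (A : Type u) [CommRing A] [Algebra R A] (hA : TopFiniteType R I A) : IsNoetherianRing A := by
  obtain ⟨n, φ, hφ⟩ := hA
  haveI := isNoetherianRing_rpow R I n
  exact isNoetherianRing_of_surjective _ _ φ.toRingHom hφ

theorem tft_of_tfp {R : Type u} [CommRing R] {I : Ideal R}
    {A : Type u} [CommRing A] [Algebra R A] (hA : TopFinitePresentation R I A) :
    TopFiniteType R I A := by
  obtain ⟨n, φ, h, _⟩ := hA
  exact ⟨n, φ, h⟩

theorem tft_rpow (R : Type u) [CommRing R] (I : Ideal R) (n : ℕ) :
    TopFiniteType R I (RPow R I n) :=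
  ⟨n, AlgHom.id R _, Function.surjective_id⟩

/-- saturation hypothesis in the form used by the statements implies `t`-saturation. -/
theorem sat_of_hsat {R : Type u} [CommRing R] (t : R) {A : Type*} [CommRing A] [Algebra R A]
    {M : Type*} [AddCommGroup M] [Module A M] [Module R M] [IsScalarTower R A M]
    (N : Submodule A M)
    (hsat : ∀ (x : M) (n : ℕ), (∀ a ∈ (Ideal.span {t}) ^ n, a • x ∈ N) → x ∈ N) :
    ∀ x : M, t • x ∈ N → x ∈ N := by
  intro x hx
  apply hsat x 1
  intro a ha
  rw [pow_one, Ideal.mem_span_singleton] at ha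
  obtain ⟨b, rfl⟩ := ha
  rw [mul_comm, mul_smul]
  exact N.smul_of_tower_mem b hx

section sat

variable {R : Type*} [CommRing R] (t : R) {A : Type*} [CommRing A] [Algebra R A]
  {M : Type*} [AddCommGroup M] [Module A M] [Module R M] [IsScalarTower R A M]

/-- the `t`-saturation of a submodule. -/
def satSubmodule (N : Submodule A M) : Submodule A M where
  carrier := {x | ∃ j : ℕ, t ^ j • x ∈ N}
  zero_mem' := ⟨0, by simp⟩
  add_mem' := by
    rintro x y ⟨j, hj⟩ ⟨j', hj'⟩
    refine ⟨j + j', ?_⟩
    rw [smul_add]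
    refine N.add_mem ?_ ?_
    · rw [pow_add, mul_comm, mul_smul]; exact N.smul_of_tower_mem _ hj
    · rw [pow_add, mul_smul]; exact N.smul_of_tower_mem _ hj'
  smul_mem' := by
    rintro a x ⟨j, hj⟩
    exact ⟨j, by rw [smul_comm]; exact N.smul_mem a hj⟩

lemma mem_satSubmodule {N : Submodule A M} {x : M} :
    x ∈ satSubmodule t N ↔ ∃ j : ℕ, t ^ j • x ∈ N := Iff.rfl

lemma le_satSubmodule (N : Submodule A M) : N ≤ satSubmodule t N :=
  fun x hx => ⟨0, by simpa using hx⟩

lemma satSubmodule_sat (N : Submodule A M) (x : M) (hx : t • x ∈ satSubmodule t N) :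
    x ∈ satSubmodule t N := by
  obtain ⟨j, hj⟩ := hx
  exact ⟨j + 1, by rw [pow_succ, mul_smul]; exact hj⟩

lemma exists_pow_smul_mem_of_fg (N : Submodule A M) (h : (satSubmodule t N).FG) :
    ∃ e : ℕ, ∀ x ∈ satSubmodule t N, t ^ e • x ∈ N := by
  classical
  obtain ⟨S, hS⟩ := h
  have h1 : ∀ s ∈ S, ∃ j : ℕ, t ^ j • s ∈ N := fun s hs =>
    (hS ▸ Submodule.subset_span hs : s ∈ satSubmodule t N)
  choose! j hj using h1
  refine ⟨S.sup j, fun x hx => ?_⟩
  rw [← hS] at hx
  induction hx using Submodule.span_induction with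
  | mem s hs =>
    have hle : j s ≤ S.sup j := Finset.le_sup hs
    obtain ⟨d, hd⟩ := Nat.exists_eq_add_of_le hle
    rw [hd, pow_add, mul_comm, mul_smul]
    exact N.smul_of_tower_mem _ (hj s hs)
  | zero => rw [smul_zero]; exact N.zero_mem
  | add x y _ _ hx hy => rw [smul_add]; exact N.add_mem hx hy
  | smul a x _ hx => rw [smul_comm]; exact N.smul_mem a hx

end sat

/-- Class (V): the saturation of a submodule of a finite module over a tft algebra is reached
after multiplying by a fixed power of `t`. -/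
theorem exists_sat_bound (R : Type u) [CommRing R] [IsDomain R] [ValuationRing R]
    [Ring.KrullDimLE 1 R] (t : R) (ht0 : t ≠ 0) [IsAdicComplete (Ideal.span {t}) R]
    (A : Type u) [CommRing A] [Algebra R A] (hA : TopFiniteType R (Ideal.span {t}) A)
    (M : Type*) [AddCommGroup M] [Module A M] [Module R M] [IsScalarTower R A M]
    [Module.Finite A M] (N : Submodule A M) :
    (satSubmodule t N).FG ∧ ∃ e : ℕ, ∀ x ∈ satSubmodule t N, t ^ e • x ∈ N := by
  have h := RPowKey.fg_of_saturated_tft R t ht0 A hA M (satSubmodule t N) (satSubmodule_sat t N)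
  exact ⟨h, exists_pow_smul_mem_of_fg t N h⟩

end Groth.Agent.Lib.Helper27.AdicBase
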