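import Mathlib
import Groth.Prelude.Def_EGA41
import Groth.Agent.S4542
import Groth.Agent.S0545
import Groth.Agent.Lib.Helper27.CplTensorA
import Groth.Agent.Lib.Helper27.CplTensorC
import Groth.Agent.Lib.Helper7.AdicFlat
import Groth.Agent.Lib.Helper15.FiniteComplete
import Groth.Agent.Lib.Helper15.ComplSurj

/-!
# A complete formally smooth local algebra over a complete local ring with coefficient field is a
completed tensor product (helper27)
-/

set_option autoImplicit false
universe u
attribute [local instance] Algebra.TensorProduct.rightAlgebra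
open TensorProduct IsLocalRing

namespace Groth.Agent.Lib.Helper27.CplTensorD

open Groth.Agent.Lib.Helper27.CplTensor Groth.Agent.Lib.Helper15

section General

theorem isAdicComplete_of_le {R : Type*} [CommRing R] [IsNoetherianRing R] (I J : Ideal R)
    [IsAdicComplete I R] (hJI : J ≤ I) : IsAdicComplete J R := by
  have hjac : I ≤ Ideal.jacobson ⊥ := IsAdicComplete.le_jacobson_bot I
  haveI : IsHausdorff J R := IsHausdorff.of_le_jacobson J R (hJI.trans hjac)
  refine { toIsHausdorff := inferInstance, toIsPrecomplete := ⟨?_⟩ }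
  intro f hf
  have hf' : ∀ {m n}, m ≤ n → f m ≡ f n [SMOD (I ^ m • ⊤ : Submodule R R)] := by
    intro m n hmn
    have := hf hmn
    rw [SModEq.sub_mem, smul_eq_mul, Ideal.mul_top] at this ⊢
    exact Ideal.pow_right_mono hJI m this
  obtain ⟨L, hL⟩ := IsPrecomplete.prec' (I := I) f hf'
  refine ⟨L, fun n => ?_⟩
  rw [SModEq.sub_mem, smul_eq_mul, Ideal.mul_top]
  haveI : IsHausdorff I (R ⧸ J ^ n) := IsHausdorff.of_le_jacobson I _ hjac
  rw [← Ideal.Quotient.eq_zero_iff_mem]
  apply IsHausdorff.haus' (I := I)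
  intro k
  rw [SModEq.zero]
  have h1 : f n - f (max n k) ∈ J ^ n := by
    have := hf (le_max_left n k)
    rwa [SModEq.sub_mem, smul_eq_mul, Ideal.mul_top] at this
  have h2 : f (max n k) - L ∈ I ^ k := by
    have := hL (max n k)
    rw [SModEq.sub_mem, smul_eq_mul, Ideal.mul_top] at this
    exact Ideal.pow_le_pow_right (le_max_right n k) this
  have h3 : Ideal.Quotient.mk (J ^ n) (f n - L) = Ideal.Quotient.mk (J ^ n) (f (max n k) - L) := by
    rw [Ideal.Quotient.eq]
    have : f n - L - (f (max n k) - L) = f n - f (max n k) := by ring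
    rw [this]
    exact h1
  rw [h3]
  have h4 : (I ^ k • ⊤ : Submodule R (R ⧸ J ^ n)) =
      ((I ^ k).map (Ideal.Quotient.mk (J ^ n))).restrictScalars R := by
    rw [Ideal.smul_top_eq_map]
    rfl
  rw [h4, Submodule.restrictScalars_mem]
  exact Ideal.mem_map_of_mem _ h2

/-- A surjective algebra map onto a flat algebra which is injective modulo `𝔪` is injective
(`B` Noetherian, `𝔪 B` in the radical). -/
theorem injective_of_flat_of_surjective {R B D : Type*} [CommRing R] [CommRing B] [CommRing D]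
    [Algebra R B] [Algebra R D] [IsNoetherianRing B] [Module.Flat R D] (𝔪 : Ideal R)
    (hjac : 𝔪.map (algebraMap R B) ≤ Ideal.jacobson ⊥)
    (v : B →ₐ[R] D) (hv : Function.Surjective v)
    (hmod : ∀ b : B, v b ∈ 𝔪.map (algebraMap R D) → b ∈ 𝔪.map (algebraMap R B)) :
    Function.Injective v := by
  classical
  rw [injective_iff_map_eq_zero]
  have hK : RingHom.ker v.toRingHom = ⊥ := by
    refine Submodule.eq_bot_of_le_smul_of_le_jacobson_bot (𝔪.map (algebraMap R B))
      (RingHom.ker v.toRingHom) (IsNoetherian.noetherian _) ?_ hjac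
    intro x hx
    have hx0 : v x = 0 := hx
    have hxm : x ∈ 𝔪.map (algebraMap R B) := hmod x (by rw [hx0]; exact zero_mem _)
    have hxm' : x ∈ 𝔪 • Submodule.span R (Set.range (id : B → B)) := by
      rw [Set.range_id, Submodule.span_univ, Ideal.smul_top_eq_map]
      exact hxm
    obtain ⟨a, ha, hsum⟩ := (Submodule.mem_ideal_smul_span_iff_exists_sum 𝔪 (id : B → B) x).mp hxm'
    -- relation in `D`
    have h0 : ∑ i : a.support, (fun i : a.support => a i) i •
        (fun i : a.support => v (i : B)) i = 0 := by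
      have h0' : v (a.sum fun i c => c • id i) = 0 := by rw [hsum]; exact hx0
      rw [Finsupp.sum, map_sum v] at h0'
      rw [← h0', ← Finset.sum_coe_sort a.support]
      refine Finset.sum_congr rfl fun i _ => ?_
      rw [map_smul]
      rfl
    obtain ⟨n, r, y, hxy, hr⟩ := Module.Flat.isTrivialRelation_of_sum_smul_eq_zero (R := R)
      (M := D) (f := fun i : a.support => a i) (x := fun i : a.support => v (i : B)) h0
    replace hxy : ∀ i : a.support, v (i : B) = ∑ j, r i j • y j := fun i => hxy i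
    replace hr : ∀ j, ∑ i : a.support, a i * r i j = 0 := fun j => hr j
    choose b' hb' using fun j => hv (y j)
    have hκ : ∀ i : a.support, ((i : B) - ∑ j, r i j • b' j) ∈ RingHom.ker v.toRingHom := by
      intro i
      change v ((i : B) - ∑ j, r i j • b' j) = 0
      rw [map_sub, map_sum, hxy i, sub_eq_zero]
      refine Finset.sum_congr rfl fun j _ => ?_
      rw [map_smul, hb']
    have hx2 : x = ∑ i : a.support, a i • ((i : B) - ∑ j, r i j • b' j) := by
      have h1 : ∑ i : a.support, a i • (∑ j, r i j • b' j) = 0 := by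
        simp_rw [Finset.smul_sum, smul_smul]
        rw [Finset.sum_comm]
        refine Finset.sum_eq_zero fun j _ => ?_
        rw [← Finset.sum_smul, hr j, zero_smul]
      simp_rw [smul_sub]
      rw [Finset.sum_sub_distrib, h1, sub_zero, ← hsum, Finsupp.sum, ← Finset.sum_coe_sort]
      rfl
    rw [hx2]
    refine Submodule.sum_mem _ fun i _ => ?_
    rw [Algebra.smul_def (a (i : B)) ((i : B) - ∑ j, r i j • b' j)]
    exact Submodule.smul_mem_smul (Ideal.mem_map_of_mem _ (ha i)) (hκ i)
  intro x hx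
  have : x ∈ RingHom.ker v.toRingHom := hx
  rw [hK] at this
  exact this

end General

section Tens
variable (k : Type u) [Field k] (R : Type u) [CommRing R] [IsNoetherianRing R] [IsLocalRing R]
  [Algebra k R] (S : Type u) [CommRing S] [Algebra k S]

/-- the completed tensor product `R ⊗̂ S` along `𝔪`. -/
abbrev Dc : Type u := AdicCompletion (mT k R S) (R ⊗[k] S)

/-- the ideal `𝔪 D`. -/
noncomputable abbrev JD : Ideal (Dc k R S) := (mT k R S).map (algebraMap (R ⊗[k] S) (Dc k R S))

lemma JD_eq : JD k R S = (maximalIdeal R).map (algebraMap R (Dc k R S)) := by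
  change ((maximalIdeal R).map (algebraMap R (R ⊗[k] S))).map
    (algebraMap (R ⊗[k] S) (Dc k R S)) = _
  rw [Ideal.map_map]
  rfl

instance isAdicComplete_JD : IsAdicComplete (JD k R S) (Dc k R S) :=
  AdicCompletion.isAdicComplete_self _ (mT_fg k R S)

lemma flat_quot (n : ℕ) :
    Module.Flat (R ⧸ maximalIdeal R ^ n)
      (Dc k R S ⧸ (maximalIdeal R ^ n).map (algebraMap R (Dc k R S))) := by
  rw [← RingHom.flat_algebraMap_iff]
  have hfg := mT_fg k R S
  have h1 : (maximalIdeal R ^ n).map (algebraMap R (Dc k R S)) = (JD k R S) ^ n := by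
    rw [Ideal.map_pow, JD_eq]
  have hI : (mT k R S) ^ n = (maximalIdeal R ^ n).map (algebraMap R (R ⊗[k] S)) := by
    rw [Ideal.map_pow]; rfl
  let e := Algebra.TensorProduct.quotientTensorEquiv (R := k) k S R (maximalIdeal R ^ n)
  let θ : (Dc k R S ⧸ (maximalIdeal R ^ n).map (algebraMap R (Dc k R S))) →+*
      (R ⧸ maximalIdeal R ^ n) ⊗[k] S :=
    (e.symm.toRingEquiv.toRingHom).comp ((Ideal.quotEquivOfEq hI).toRingHom.comp
      ((quotEval (mT k R S) n).comp (Ideal.quotEquivOfEq h1).toRingHom))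
  have hθ : Function.Bijective θ :=
    e.symm.bijective.comp ((Ideal.quotEquivOfEq hI).bijective.comp
      ((quotEval_bijective (mT k R S) hfg n).comp (Ideal.quotEquivOfEq h1).bijective))
  rw [← RingHom.Flat.comp_iff_of_bijective_left hθ]
  have h4 : θ.comp (algebraMap (R ⧸ maximalIdeal R ^ n)
      (Dc k R S ⧸ (maximalIdeal R ^ n).map (algebraMap R (Dc k R S)))) =
      algebraMap (R ⧸ maximalIdeal R ^ n) ((R ⧸ maximalIdeal R ^ n) ⊗[k] S) := by
    apply Ideal.Quotient.ringHom_ext
    refine RingHom.ext fun a => ?_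
    change e.symm (Ideal.quotEquivOfEq hI (quotEval (mT k R S) n (Ideal.quotEquivOfEq h1
      (Ideal.Quotient.mk _ (algebraMap R (Dc k R S) a))))) = _
    rw [Ideal.quotEquivOfEq_mk, quotEval_mk]
    have h5 : algebraMap R (Dc k R S) a =
        algebraMap (R ⊗[k] S) (Dc k R S) (a ⊗ₜ[k] (1 : S)) := rfl
    rw [h5, AlgHom.commutes, Ideal.Quotient.algebraMap_eq, Ideal.quotEquivOfEq_mk]
    exact Algebra.TensorProduct.quotientTensorEquiv_symm_apply_tmul k S R _ a 1
  rw [h4]
  exact RingHom.flat_algebraMap_iff.mpr inferInstance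

theorem flat_left [IsNoetherianRing (Dc k R S)] : Module.Flat R (Dc k R S) := by
  have hJ : (maximalIdeal R).map (algebraMap R (Dc k R S)) ≤ Ideal.jacobson ⊥ := by
    rw [← JD_eq]; exact IsAdicComplete.le_jacobson_bot _
  refine Groth.Agent.Lib.Helper7.flat_of_forall_flat_quotient_pow_of_finite (B := Dc k R S)
    (maximalIdeal R) hJ (Dc k R S) ?_
  intro n _
  haveI := flat_quot k R S n
  exact Module.Flat.of_linearEquiv
    (Groth.Agent.Lib.Helper7.quotTensorEquivQuotMap (maximalIdeal R ^ n))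

section Res
variable (hres : Function.Bijective (algebraMap k (ResidueField R)))
include hres

lemma algebraMap_quot_surjective :
    Function.Surjective (algebraMap S (Dc k R S ⧸ JD k R S)) := by
  intro y
  obtain ⟨c, rfl⟩ := Ideal.Quotient.mk_surjective y
  obtain ⟨t, ht⟩ := exists_sub_mem_map k R S c
  obtain ⟨a, ha⟩ := exists_sub_mem hres t
  refine ⟨a, ?_⟩
  change Ideal.Quotient.mk _ (algebraMap (R ⊗[k] S) _ ((1 : R) ⊗ₜ[k] a)) = _
  rw [eq_comm, Ideal.Quotient.eq]
  have h2 : c - algebraMap (R ⊗[k] S) (Dc k R S) ((1 : R) ⊗ₜ[k] a) =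
      (c - algebraMap _ _ t) + algebraMap _ _ (t - (1 : R) ⊗ₜ[k] a) := by
    rw [map_sub]; ring
  rw [h2]
  exact Ideal.add_mem _ ht (Ideal.mem_map_of_mem _ ha)

/-- the residue map `R → k`. -/
noncomputable def psi : R →ₐ[k] k :=
  ((AlgEquiv.ofBijective (Algebra.ofId k (ResidueField R)) hres).symm : ResidueField R →ₐ[k] k).comp
    (IsScalarTower.toAlgHom k R (ResidueField R))

lemma psi_eq_zero (r : R) (hr : r ∈ maximalIdeal R) : psi k R hres r = 0 := by
  have h1 : (IsScalarTower.toAlgHom k R (ResidueField R)) r = 0 := by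
    change residue R r = 0
    rwa [residue_eq_zero_iff]
  change (AlgEquiv.ofBijective (Algebra.ofId k (ResidueField R)) hres).symm
    ((IsScalarTower.toAlgHom k R (ResidueField R)) r) = 0
  rw [h1, map_zero]

/-- the retraction `R ⊗ S → S`. -/
noncomputable def phi : R ⊗[k] S →ₐ[k] S :=
  Algebra.TensorProduct.lift ((Algebra.ofId k S).comp (psi k R hres)) (AlgHom.id k S)
    (fun _ _ => Commute.all _ _)

lemma mT_le_ker_phi : mT k R S ≤ RingHom.ker (phi k R S hres) := by
  rw [Ideal.map_le_iff_le_comap]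
  intro r hr
  rw [Ideal.mem_comap, RingHom.mem_ker]
  change phi k R S hres (r ⊗ₜ[k] (1 : S)) = 0
  rw [phi, Algebra.TensorProduct.lift_tmul, AlgHom.comp_apply, psi_eq_zero k R hres r hr, map_zero,
    zero_mul]

lemma eq_zero_of_one_tmul_mem (s : S) (hs : (1 : R) ⊗ₜ[k] s ∈ mT k R S) : s = 0 := by
  have h1 := mT_le_ker_phi k R S hres hs
  rw [RingHom.mem_ker, phi, Algebra.TensorProduct.lift_tmul, map_one, one_mul] at h1
  exact h1

lemma algebraMap_quot_injective :
    Function.Injective (algebraMap S (Dc k R S ⧸ JD k R S)) := by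
  rw [injective_iff_map_eq_zero]
  intro s hs
  have h1 : algebraMap (R ⊗[k] S) (Dc k R S) ((1 : R) ⊗ₜ[k] s) ∈ JD k R S := by
    rw [← Ideal.Quotient.eq_zero_iff_mem]
    exact hs
  have h2 := Groth.Agent.Lib.Helper27.CplTensorC.mem_of_algebraMap_mem_map (mT k R S) (mT k R S) 1
    (by rw [pow_one]) _ h1
  exact eq_zero_of_one_tmul_mem k R S hres s h2

end Res

section Cpl
variable [IsNoetherianRing S] [IsLocalRing S] [IsAdicComplete (maximalIdeal S) S]
  (hres : Function.Bijective (algebraMap k (ResidueField R)))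

/-- the ideal `𝔪 D + 𝔪_S D`. -/
noncomputable abbrev nD : Ideal (Dc k R S) :=
  JD k R S ⊔ (maximalIdeal S).map (algebraMap S (Dc k R S))

lemma nD_map : (nD k R S).map (Ideal.Quotient.mk (JD k R S)) =
    (maximalIdeal S).map (algebraMap S (Dc k R S ⧸ JD k R S)) := by
  rw [Ideal.map_sup, Ideal.map_quotient_self, bot_sup_eq, Ideal.map_map]
  rfl

include hres

theorem isAdicComplete_quot :
    IsAdicComplete ((nD k R S).map (Ideal.Quotient.mk (JD k R S))) (Dc k R S ⧸ JD k R S) := by
  rw [nD_map]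
  haveI : Module.Finite S (Dc k R S ⧸ JD k R S) :=
    Module.Finite.of_surjective (Algebra.linearMap S (Dc k R S ⧸ JD k R S))
      (algebraMap_quot_surjective k R S hres)
  exact (IsAdicComplete.map_algebraMap_iff _ _).mpr (FiniteComplete.isAdicComplete_of_finite S _)

theorem isAdicComplete_nD : IsAdicComplete (nD k R S) (Dc k R S) := by
  haveI : IsNoetherianRing (Dc k R S) := isNoetherianRing_completion k R S hres
  haveI := isAdicComplete_quot k R S hres
  exact Groth.Agent.S0545.result (Dc k R S) (JD k R S) (nD k R S)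

end Cpl

end Tens

section Main
variable (k : Type u) [Field k] (R : Type u) [CommRing R] [IsNoetherianRing R] [IsLocalRing R]
  [Algebra k R]
  (B : Type u) [CommRing B] [IsNoetherianRing B] [IsLocalRing B] [Algebra R B]
  [IsLocalHom (algebraMap R B)] [IsAdicComplete (maximalIdeal B) B] [Algebra k B]
  [IsScalarTower k R B]

/-- the ideal `𝔪 B`. -/
abbrev IB : Ideal B := (maximalIdeal R).map (algebraMap R B)

lemma IB_le : IB R B ≤ maximalIdeal B :=
  Ideal.map_le_iff_le_comap.mpr (fun x hx => map_nonunit _ x hx)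

instance : Nontrivial (B ⧸ IB R B) :=
  Ideal.Quotient.nontrivial_iff.mpr
    (ne_top_of_le_ne_top (maximalIdeal.isMaximal _).ne_top (IB_le R B))

instance : IsLocalRing (B ⧸ IB R B) :=
  IsLocalRing.of_surjective' (Ideal.Quotient.mk _) Ideal.Quotient.mk_surjective

lemma maximalIdeal_quot :
    (maximalIdeal B).map (Ideal.Quotient.mk (IB R B)) = maximalIdeal (B ⧸ IB R B) := by
  have hmax : ((maximalIdeal B).map (Ideal.Quotient.mk (IB R B))).IsMaximal := by
    refine (Ideal.map_eq_top_or_isMaximal_of_surjective _ Ideal.Quotient.mk_surjective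
      (maximalIdeal.isMaximal B)).resolve_left ?_
    intro htop
    have h1 := Ideal.comap_map_of_surjective (Ideal.Quotient.mk (IB R B))
      Ideal.Quotient.mk_surjective (maximalIdeal B)
    rw [htop, Ideal.comap_top, ← RingHom.ker_eq_comap_bot, Ideal.mk_ker] at h1
    refine (maximalIdeal.isMaximal B).ne_top ?_
    rw [eq_top_iff, h1]
    exact sup_le le_rfl (IB_le R B)
  exact IsLocalRing.eq_maximalIdeal hmax

instance : IsAdicComplete (maximalIdeal (B ⧸ IB R B)) (B ⧸ IB R B) := by
  rw [← maximalIdeal_quot]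
  exact CS.isAdicComplete_quotient (maximalIdeal B) (IB R B)

variable (hk : Function.Bijective (algebraMap k (ResidueField R)))
include hk

lemma tmul_one_sub_mem (r : R) :
    r ⊗ₜ[k] (1 : B ⧸ IB R B) - (1 : R) ⊗ₜ[k] (Ideal.Quotient.mk (IB R B) (algebraMap R B r)) ∈
      mT k R (B ⧸ IB R B) := by
  obtain ⟨c, hc⟩ := hk.2 (residue R r)
  have hmem : r - algebraMap k R c ∈ maximalIdeal R := by
    rw [← residue_eq_zero_iff, map_sub, ← hc, sub_eq_zero]
    rfl
  have h1 : Ideal.Quotient.mk (IB R B) (algebraMap R B r) = algebraMap k (B ⧸ IB R B) c := by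
    have h11 : algebraMap R B r = algebraMap R B (r - algebraMap k R c) + algebraMap k B c := by
      rw [map_sub, ← IsScalarTower.algebraMap_apply k R B]; ring
    rw [h11, map_add, Ideal.Quotient.eq_zero_iff_mem.mpr (Ideal.mem_map_of_mem _ hmem), zero_add]
    rfl
  rw [h1]
  have h2 : r ⊗ₜ[k] (1 : B ⧸ IB R B) - (1 : R) ⊗ₜ[k] (algebraMap k (B ⧸ IB R B) c) =
      (Algebra.TensorProduct.includeLeftRingHom (r - algebraMap k R c) :
        R ⊗[k] (B ⧸ IB R B)) := by
    rw [Algebra.TensorProduct.includeLeftRingHom_apply, TensorProduct.sub_tmul,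
      Algebra.algebraMap_eq_smul_one, Algebra.algebraMap_eq_smul_one, TensorProduct.tmul_smul,
      TensorProduct.smul_tmul']
  rw [h2]
  exact Ideal.mem_map_of_mem _ hmem

/-- the canonical map `B → B₀ → D/𝔪D`. -/
noncomputable def uHom : B →ₐ[R] (Dc k R (B ⧸ IB R B) ⧸ JD k R (B ⧸ IB R B)) :=
  { toRingHom := (algebraMap (B ⧸ IB R B) (Dc k R (B ⧸ IB R B) ⧸ JD k R (B ⧸ IB R B))).comp
      (Ideal.Quotient.mk (IB R B))
    commutes' := fun r => by
      change Ideal.Quotient.mk _ (algebraMap (R ⊗[k] (B ⧸ IB R B)) (Dc k R (B ⧸ IB R B))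
        ((1 : R) ⊗ₜ[k] (Ideal.Quotient.mk (IB R B) (algebraMap R B r)))) =
        Ideal.Quotient.mk _ (algebraMap (R ⊗[k] (B ⧸ IB R B)) (Dc k R (B ⧸ IB R B))
          (r ⊗ₜ[k] (1 : B ⧸ IB R B)))
      rw [eq_comm, Ideal.Quotient.eq, ← map_sub]
      exact Ideal.mem_map_of_mem _ (tmul_one_sub_mem k R B hk r) }

lemma uHom_apply (b : B) : uHom k R B hk b =
    algebraMap (B ⧸ IB R B) (Dc k R (B ⧸ IB R B) ⧸ JD k R (B ⧸ IB R B))
      (Ideal.Quotient.mk (IB R B) b) := rfl

theorem main (hfs : EGA41.IsFormallySmoothAdic R (maximalIdeal R) B (maximalIdeal B)) :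
    ∃ e : AdicCompletion (IB R B) B ≃+* Dc k R (B ⧸ IB R B),
      ∀ r : R, e (algebraMap B (AdicCompletion (IB R B) B) (algebraMap R B r)) =
        algebraMap (R ⊗[k] (B ⧸ IB R B)) (Dc k R (B ⧸ IB R B))
          ((Algebra.TensorProduct.includeLeftRingHom : R →+* R ⊗[k] (B ⧸ IB R B)) r) := by
  haveI hDN : IsNoetherianRing (Dc k R (B ⧸ IB R B)) :=
    isNoetherianRing_completion k R (B ⧸ IB R B) hk
  haveI hcompl := isAdicComplete_nD k R (B ⧸ IB R B) hk
  haveI hhaus : IsHausdorff ((nD k R (B ⧸ IB R B)).map (Ideal.Quotient.mk (JD k R (B ⧸ IB R B))))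
      (Dc k R (B ⧸ IB R B) ⧸ JD k R (B ⧸ IB R B)) :=
    (isAdicComplete_quot k R (B ⧸ IB R B) hk).toIsHausdorff
  have hAC : ∃ n : ℕ, (maximalIdeal R ^ n).map (algebraMap R (Dc k R (B ⧸ IB R B))) ≤
      nD k R (B ⧸ IB R B) := by
    refine ⟨1, ?_⟩
    rw [pow_one, ← JD_eq]
    exact le_sup_left
  have hJ : ∃ t : ℕ, (JD k R (B ⧸ IB R B)) ^ t ≤ nD k R (B ⧸ IB R B) := ⟨1, by
    rw [pow_one]; exact le_sup_left⟩
  have hu : ∃ n : ℕ, (maximalIdeal B ^ n).map (uHom k R B hk).toRingHom ≤
      (nD k R (B ⧸ IB R B)).map (Ideal.Quotient.mk (JD k R (B ⧸ IB R B))) := by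
    refine ⟨1, ?_⟩
    rw [pow_one, nD_map, Ideal.map_le_iff_le_comap]
    intro b hb
    rw [Ideal.mem_comap]
    change uHom k R B hk b ∈ _
    rw [uHom_apply]
    refine Ideal.mem_map_of_mem _ ?_
    rw [← maximalIdeal_quot]
    exact Ideal.mem_map_of_mem _ hb
  obtain ⟨v, -, hv⟩ := Groth.Agent.S4542.result (maximalIdeal R) (maximalIdeal B)
    (nD k R (B ⧸ IB R B)) hfs hAC (JD k R (B ⧸ IB R B)) hJ (uHom k R B hk) hu
  have hvu : ∀ b : B, Ideal.Quotient.mk (JD k R (B ⧸ IB R B)) (v b) = uHom k R B hk b :=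
    fun b => AlgHom.congr_fun hv b
  -- surjectivity
  haveI hBc : IsAdicComplete (IB R B) B := isAdicComplete_of_le (maximalIdeal B) (IB R B) (IB_le R B)
  have hmapv : (IB R B).map v.toRingHom = JD k R (B ⧸ IB R B) := by
    rw [Ideal.map_map, JD_eq]
    congr 1
    exact v.comp_algebraMap
  have hsurj : Function.Surjective v := by
    haveI : IsHausdorff ((IB R B).map v.toRingHom) (Dc k R (B ⧸ IB R B)) := by
      rw [hmapv]; infer_instance
    apply surjective_of_mk_map_comp_surjective (I := IB R B) v.toRingHom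
    intro y
    obtain ⟨d, rfl⟩ := Ideal.Quotient.mk_surjective y
    obtain ⟨s, hs⟩ := algebraMap_quot_surjective k R (B ⧸ IB R B) hk
      (Ideal.Quotient.mk (JD k R (B ⧸ IB R B)) d)
    obtain ⟨b, rfl⟩ := Ideal.Quotient.mk_surjective s
    refine ⟨b, ?_⟩
    rw [RingHom.comp_apply, Ideal.Quotient.eq, hmapv, ← Ideal.Quotient.eq]
    change Ideal.Quotient.mk _ (v b) = _
    rw [hvu, uHom_apply, hs]
  -- injectivity
  haveI hflat : Module.Flat R (Dc k R (B ⧸ IB R B)) := flat_left k R (B ⧸ IB R B)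
  have hinj : Function.Injective v := by
    refine injective_of_flat_of_surjective (maximalIdeal R) ?_ v hsurj ?_
    · exact (IB_le R B).trans (IsLocalRing.jacobson_eq_maximalIdeal ⊥ bot_ne_top).ge
    · intro b hb
      rw [← JD_eq, ← Ideal.Quotient.eq_zero_iff_mem, hvu, uHom_apply] at hb
      have h1 := (injective_iff_map_eq_zero _).mp
        (algebraMap_quot_injective k R (B ⧸ IB R B) hk) _ hb
      exact Ideal.Quotient.eq_zero_iff_mem.mp h1
  refine ⟨(AdicCompletion.ofAlgEquiv (IB R B)).symm.toRingEquiv.trans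
    (RingEquiv.ofBijective v ⟨hinj, hsurj⟩), fun r => ?_⟩
  change v ((AdicCompletion.ofAlgEquiv (IB R B)).symm
    (algebraMap B (AdicCompletion (IB R B) B) (algebraMap R B r))) = _
  rw [AlgEquiv.commutes]
  exact v.commutes r

end Main

end Groth.Agent.Lib.Helper27.CplTensorD
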