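import Mathlib
import Groth.Prelude.Def_FSRel
import Groth.Agent.S0545
import Groth.Agent.S0542
import Groth.Agent.Lib.Helper27.CplTensorC
import Groth.Agent.Lib.Helper27.CplTensorD

/-!
# Completion of a finite algebra over a semi-local Noetherian ring (helper27)

`Â ≅ A ⊗_{A₀} Â₀` (Jacobson-radical completions), and the resulting relative formal smoothness.
-/

set_option autoImplicit false
universe u
attribute [local instance] Algebra.TensorProduct.rightAlgebra
open TensorProduct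

namespace Groth.Agent.Lib.Helper27.SemiLocTensor

open Groth.Agent.Lib.Helper27.CplTensor Groth.Agent.Lib.Helper27.CplTensorC
  Groth.Agent.Lib.Helper27.CplTensorD

section Gen

/-- a quotient of a Noetherian ring in which every prime is maximal is Artinian. -/
lemma isArtinianRing_quotient_of_forall_isMaximal {A : Type*} [CommRing A] [IsNoetherianRing A]
    (I : Ideal A) (h : ∀ p : Ideal A, p.IsPrime → I ≤ p → p.IsMaximal) : IsArtinianRing (A ⧸ I) := by
  haveI : Ring.KrullDimLE 0 (A ⧸ I) := by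
    rw [Ring.krullDimLE_zero_iff]
    intro J hJ
    have hp : (J.comap (Ideal.Quotient.mk I)).IsPrime := hJ.comap _
    have hle : I ≤ J.comap (Ideal.Quotient.mk I) := by
      intro a ha
      rw [Ideal.mem_comap, Ideal.Quotient.eq_zero_iff_mem.2 ha]
      exact J.zero_mem
    have hmax := h _ hp hle
    rcases Ideal.map_eq_top_or_isMaximal_of_surjective (Ideal.Quotient.mk I)
      Ideal.Quotient.mk_surjective hmax with h1 | h1
    · rw [Ideal.map_comap_of_surjective _ Ideal.Quotient.mk_surjective] at h1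
      exact absurd h1 hJ.ne_top
    · rwa [Ideal.map_comap_of_surjective _ Ideal.Quotient.mk_surjective] at h1
  exact IsNoetherianRing.isArtinianRing_of_krullDimLE_zero

/-- for a semi-local Noetherian ring, the quotient by the Jacobson radical is Artinian. -/
lemma isArtinianRing_quotient_jacobson {A : Type*} [CommRing A] [IsNoetherianRing A]
    [Finite (MaximalSpectrum A)] : IsArtinianRing (A ⧸ Ideal.jacobson (⊥ : Ideal A)) := by
  classical
  apply isArtinianRing_quotient_of_forall_isMaximal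
  intro p hp hle
  haveI := Fintype.ofFinite (MaximalSpectrum A)
  have h1 : (Finset.univ : Finset (MaximalSpectrum A)).inf (fun m => m.asIdeal) ≤ p := by
    refine le_trans ?_ hle
    rw [Ideal.jacobson]
    refine le_sInf ?_
    rintro J ⟨_, hJ⟩
    exact Finset.inf_le (f := fun m : MaximalSpectrum A => m.asIdeal)
      (Finset.mem_univ (⟨J, hJ⟩ : MaximalSpectrum A))
  obtain ⟨m, _, hm⟩ := (Ideal.IsPrime.inf_le' hp).1 h1
  have := m.isMaximal.eq_of_le hp.ne_top hm
  rw [← this]
  exact m.isMaximal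

/-- finite modules over a Noetherian adically complete ring are complete. -/
theorem isAdicComplete_of_finite' {R : Type*} [CommRing R] [IsNoetherianRing R] (I : Ideal R)
    [IsAdicComplete I R] (M : Type*) [AddCommGroup M] [Module R M] [Module.Finite R M] :
    IsAdicComplete I M := by
  classical
  haveI : IsHausdorff I M := IsHausdorff.of_le_jacobson _ _ (IsAdicComplete.le_jacobson_bot I)
  obtain ⟨n, f, hf⟩ := Module.Finite.exists_fin' R M
  haveI : IsPrecomplete I M :=
    Groth.Agent.S0545.isPrecomplete_of_surjective _ f hf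
      (Groth.Agent.S0545.isPrecomplete_pi _ R inferInstance)
  exact {}

lemma factor_evalₐ {R : Type*} [CommRing R] (I : Ideal R) {m n : ℕ} (hle : m ≤ n)
    (x : AdicCompletion I R) :
    Ideal.Quotient.factor (Ideal.pow_le_pow_right hle) (AdicCompletion.evalₐ I n x) =
      AdicCompletion.evalₐ I m x := by
  obtain ⟨c, rfl⟩ := AdicCompletion.mk_surjective I R x
  rw [AdicCompletion.evalₐ_mk, AdicCompletion.evalₐ_mk, Ideal.Quotient.factor_mk, Ideal.Quotient.eq]
  have h1 := c.property hle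
  rw [SModEq.sub_mem, smul_eq_mul, Ideal.mul_top] at h1
  have h2 : c.val n - c.val m = -(c.val m - c.val n) := by ring
  rw [h2]
  exact (I ^ m).neg_mem h1

section Lift
variable {R : Type*} [CommRing R] (I : Ideal R) (S : Type*) [CommRing S] [Algebra R S]

/-- `R/I^n → S/(IS)^n`. -/
noncomputable def qn (n : ℕ) : R ⧸ I ^ n →ₐ[R] S ⧸ (I.map (algebraMap R S)) ^ n :=
  Ideal.Quotient.liftₐ (I ^ n) (Algebra.ofId R _) (fun a ha => by
    rw [Algebra.ofId_apply, IsScalarTower.algebraMap_apply R S, Ideal.Quotient.algebraMap_eq,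
      Ideal.Quotient.eq_zero_iff_mem, ← Ideal.map_pow]
    exact Ideal.mem_map_of_mem _ ha)

/-- the canonical map from the completion of `R` to a complete `R`-algebra. -/
noncomputable def liftC [IsAdicComplete (I.map (algebraMap R S)) S] :
    AdicCompletion I R →ₐ[R] S :=
  IsAdicComplete.liftAlgHom (I.map (algebraMap R S))
    (fun n => (qn I S n).comp (AdicCompletion.evalₐ I n)) (by
      intro m n hle
      refine AlgHom.ext fun x => ?_
      rw [AlgHom.comp_apply, AlgHom.comp_apply, AlgHom.comp_apply, ← factor_evalₐ I hle x]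
      obtain ⟨r, hr⟩ := Ideal.Quotient.mk_surjective (AdicCompletion.evalₐ I n x)
      rw [← hr]
      rfl)

end Lift

lemma finite_right' (k E L : Type u) [CommRing k] [CommRing E] [CommRing L] [Algebra k E]
    [Algebra k L] [Module.Finite k E] : Module.Finite L (E ⊗[k] L) := by
  have h1 : (algebraMap L (L ⊗[k] E)).Finite := RingHom.finite_algebraMap.mpr inferInstance
  have h2 : ((Algebra.TensorProduct.comm k L E : L ⊗[k] E →+* E ⊗[k] L)).Finite :=
    RingHom.Finite.of_surjective _ (Algebra.TensorProduct.comm k L E).surjective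
  have h3 := h2.comp h1
  have h4 : ((Algebra.TensorProduct.comm k L E : L ⊗[k] E →+* E ⊗[k] L)).comp
      (algebraMap L (L ⊗[k] E)) = algebraMap L (E ⊗[k] L) := by
    ext a
    simp [Algebra.TensorProduct.algebraMap_apply, Algebra.TensorProduct.right_algebraMap_apply]
  rw [h4] at h3
  exact RingHom.finite_algebraMap.mp h3

end Gen

section Main
variable (A₀ A : Type u) [CommRing A₀] [IsNoetherianRing A₀] [Finite (MaximalSpectrum A₀)]
  [CommRing A] [Algebra A₀ A] [Module.Finite A₀ A]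

/-- Jacobson radical of `A₀`. -/
abbrev r0 : Ideal A₀ := Ideal.jacobson ⊥
/-- Jacobson radical of `A`. -/
abbrev rA : Ideal A := Ideal.jacobson ⊥
/-- `𝔯₀ A`. -/
abbrev IA : Ideal A := (r0 A₀).map (algebraMap A₀ A)

lemma IA_le : IA A₀ A ≤ rA A := by
  rw [rA, Ideal.jacobson]
  refine le_sInf ?_
  rintro m ⟨-, hm⟩
  rw [Ideal.map_le_iff_le_comap]
  haveI : Algebra.IsIntegral A₀ A := Algebra.IsIntegral.of_finite A₀ A
  haveI := hm
  have h1 : (m.comap (algebraMap A₀ A)).IsMaximal :=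
    Ideal.isMaximal_comap_of_isIntegral_of_isMaximal (R := A₀) m
  rw [r0, Ideal.jacobson]
  exact sInf_le ⟨bot_le, h1⟩

lemma exists_pow_le : ∃ N : ℕ, rA A ^ N ≤ IA A₀ A := by
  haveI : IsNoetherianRing A := IsNoetherianRing.of_finite A₀ A
  haveI : IsArtinianRing (A₀ ⧸ r0 A₀) := isArtinianRing_quotient_jacobson
  haveI : Module.Finite A₀ (A ⧸ IA A₀ A) :=
    Module.Finite.of_surjective (Ideal.Quotient.mkₐ A₀ (IA A₀ A)).toLinearMap
      (Ideal.Quotient.mkₐ_surjective A₀ _)
  haveI : Module.Finite (A₀ ⧸ r0 A₀) (A ⧸ IA A₀ A) :=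
    Module.Finite.of_restrictScalars_finite A₀ _ _
  haveI : IsArtinianRing (A ⧸ IA A₀ A) := IsArtinianRing.of_finite (A₀ ⧸ r0 A₀) _
  obtain ⟨N, hN⟩ := IsArtinianRing.isNilpotent_jacobson_bot (R := A ⧸ IA A₀ A)
  refine ⟨N, ?_⟩
  have h1 : (rA A).map (Ideal.Quotient.mk (IA A₀ A)) ≤ Ideal.jacobson ⊥ :=
    map_jacobson_le _ Ideal.Quotient.mk_surjective
  have h2 : (rA A ^ N).map (Ideal.Quotient.mk (IA A₀ A)) ≤ ⊥ := by
    rw [Ideal.map_pow]
    refine (Ideal.pow_right_mono h1 N).trans (le_of_eq ?_)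
    rw [hN, Ideal.zero_eq_bot]
  intro x hx
  have h3 := h2 (Ideal.mem_map_of_mem _ hx)
  rwa [Ideal.mem_bot, Ideal.Quotient.eq_zero_iff_mem] at h3

/-- completion of `A₀`. -/
abbrev C0 : Type u := AdicCompletion (r0 A₀) A₀
/-- completion of `A`. -/
abbrev CA : Type u := AdicCompletion (rA A) A
/-- `A ⊗ Â₀`. -/
abbrev TT : Type u := A ⊗[A₀] C0 A₀

lemma r0_fg : (r0 A₀).FG := IsNoetherian.noetherian _

instance : IsNoetherianRing (C0 A₀) := Groth.Agent.S0542.result A₀ (r0 A₀) (r0_fg A₀)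

instance isAdicComplete_C0 :
    IsAdicComplete ((r0 A₀).map (algebraMap A₀ (C0 A₀))) (C0 A₀) :=
  AdicCompletion.isAdicComplete_self _ (r0_fg A₀)

instance : Module.Finite (C0 A₀) (TT A₀ A) := finite_right' A₀ A (C0 A₀)

lemma KT_eq (n : ℕ) : (r0 A₀ ^ n).map (algebraMap A₀ (TT A₀ A)) =
    ((r0 A₀ ^ n).map (algebraMap A₀ (C0 A₀))).map (algebraMap (C0 A₀) (TT A₀ A)) := by
  rw [Ideal.map_map, ← IsScalarTower.algebraMap_eq]

instance isAdicComplete_TT :
    IsAdicComplete ((r0 A₀).map (algebraMap A₀ (TT A₀ A))) (TT A₀ A) := by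
  have h := KT_eq A₀ A 1
  rw [pow_one] at h
  rw [h]
  exact (IsAdicComplete.map_algebraMap_iff _ _).mpr (isAdicComplete_of_finite' _ _)

section WithNoeth
variable [IsNoetherianRing A]

lemma rA_fg : (rA A).FG := IsNoetherian.noetherian _

instance : IsNoetherianRing (CA A) := Groth.Agent.S0542.result A (rA A) (rA_fg A)

instance isAdicComplete_CA : IsAdicComplete ((rA A).map (algebraMap A (CA A))) (CA A) :=
  AdicCompletion.isAdicComplete_self _ (rA_fg A)

lemma map_r0_CA (n : ℕ) : (r0 A₀ ^ n).map (algebraMap A₀ (CA A)) =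
    (IA A₀ A ^ n).map (algebraMap A (CA A)) := by
  rw [← Ideal.map_pow, Ideal.map_map, ← IsScalarTower.algebraMap_eq]

lemma map_r0_CA_le : (r0 A₀).map (algebraMap A₀ (CA A)) ≤ (rA A).map (algebraMap A (CA A)) := by
  have h := map_r0_CA A₀ A 1
  rw [pow_one, pow_one] at h
  rw [h]
  exact Ideal.map_mono (IA_le A₀ A)

instance isAdicComplete_CA0 : IsAdicComplete ((r0 A₀).map (algebraMap A₀ (CA A))) (CA A) :=
  isAdicComplete_of_le _ _ (map_r0_CA_le A₀ A)

/-- `Â₀ → Â`. -/
noncomputable def phi0 : C0 A₀ →ₐ[A₀] CA A := liftC (r0 A₀) (CA A)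

/-- `A ⊗ Â₀ → Â`. -/
noncomputable def Phi : TT A₀ A →ₐ[A] CA A :=
  Algebra.TensorProduct.lift (Algebra.ofId A (CA A)) (phi0 A₀ A) (fun _ _ => Commute.all _ _)

lemma Phi_comp : (Phi A₀ A).toRingHom.comp (algebraMap A₀ (TT A₀ A)) = algebraMap A₀ (CA A) := by
  refine RingHom.ext fun a => ?_
  rw [RingHom.comp_apply, IsScalarTower.algebraMap_apply A₀ A (TT A₀ A),
    IsScalarTower.algebraMap_apply A₀ A (CA A)]
  exact (Phi A₀ A).commutes _

lemma map_Phi (n : ℕ) : ((r0 A₀ ^ n).map (algebraMap A₀ (TT A₀ A))).map (Phi A₀ A).toRingHom =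
    (r0 A₀ ^ n).map (algebraMap A₀ (CA A)) := by
  rw [Ideal.map_map, Phi_comp]

theorem Phi_surjective : Function.Surjective (Phi A₀ A) := by
  haveI : IsHausdorff (((r0 A₀).map (algebraMap A₀ (TT A₀ A))).map (Phi A₀ A).toRingHom)
      (CA A) := by
    have h := map_Phi A₀ A 1
    rw [pow_one] at h
    rw [h]
    infer_instance
  apply surjective_of_mk_map_comp_surjective (I := (r0 A₀).map (algebraMap A₀ (TT A₀ A)))
    (Phi A₀ A).toRingHom
  intro y
  obtain ⟨c, rfl⟩ := Ideal.Quotient.mk_surjective y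
  obtain ⟨N, hN⟩ := exists_pow_le A₀ A
  obtain ⟨a, ha⟩ := exists_sub_mem_pow (rA A) (rA_fg A) N c
  refine ⟨algebraMap A (TT A₀ A) a, ?_⟩
  rw [RingHom.comp_apply, Ideal.Quotient.eq]
  have h1 : (Phi A₀ A).toRingHom (algebraMap A (TT A₀ A) a) = algebraMap A (CA A) a :=
    (Phi A₀ A).commutes a
  have h := map_Phi A₀ A 1
  rw [pow_one] at h
  have h2 := map_r0_CA A₀ A 1
  rw [pow_one, pow_one] at h2
  rw [h1, h, h2]
  have h3 : algebraMap A (CA A) a - c = -(c - algebraMap A (CA A) a) := by ring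
  rw [h3]
  exact (Ideal.neg_mem_iff _).mpr (Ideal.map_mono hN ha)

lemma exists_sub_mem_K (n : ℕ) (x : TT A₀ A) :
    ∃ a : A, x - algebraMap A (TT A₀ A) a ∈ (r0 A₀ ^ n).map (algebraMap A₀ (TT A₀ A)) := by
  induction x using TensorProduct.induction_on with
  | zero => exact ⟨0, by simp⟩
  | tmul a' l =>
    obtain ⟨l0, hl0⟩ := exists_sub_mem_pow (r0 A₀) (r0_fg A₀) n l
    refine ⟨l0 • a', ?_⟩
    have h1 : a' ⊗ₜ[A₀] l - algebraMap A (TT A₀ A) (l0 • a') =
        (a' ⊗ₜ[A₀] (1 : C0 A₀)) *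
          algebraMap (C0 A₀) (TT A₀ A) (l - algebraMap A₀ (C0 A₀) l0) := by
      rw [Algebra.TensorProduct.right_algebraMap_apply, Algebra.TensorProduct.tmul_mul_tmul,
        mul_one, one_mul, TensorProduct.tmul_sub, Algebra.TensorProduct.algebraMap_apply,
        Algebra.algebraMap_eq_smul_one l0, TensorProduct.tmul_smul, Algebra.algebraMap_self,
        RingHom.id_apply, TensorProduct.smul_tmul']
    rw [h1, KT_eq]
    exact Ideal.mul_mem_left _ _ (Ideal.mem_map_of_mem _ hl0)
  | add x y hx hy =>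
    obtain ⟨a, ha⟩ := hx
    obtain ⟨b, hb⟩ := hy
    refine ⟨a + b, ?_⟩
    have : x + y - algebraMap A (TT A₀ A) (a + b) =
        (x - algebraMap A (TT A₀ A) a) + (y - algebraMap A (TT A₀ A) b) := by
      rw [map_add]; ring
    rw [this]
    exact Ideal.add_mem _ ha hb

theorem Phi_injective : Function.Injective (Phi A₀ A) := by
  rw [injective_iff_map_eq_zero]
  intro x hx
  obtain ⟨N, hN⟩ := exists_pow_le A₀ A
  have hH := (isAdicComplete_TT A₀ A).toIsHausdorff
  refine IsHausdorff.haus hH x fun n => ?_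
  rw [SModEq.zero, smul_eq_mul, Ideal.mul_top, ← Ideal.map_pow]
  obtain ⟨a, ha⟩ := exists_sub_mem_K A₀ A n x
  have h1 : algebraMap A (CA A) a ∈ (IA A₀ A ^ n).map (algebraMap A (CA A)) := by
    rw [← map_r0_CA, ← map_Phi]
    have h2 := Ideal.mem_map_of_mem (Phi A₀ A).toRingHom ha
    rw [map_sub] at h2
    have h3 : (Phi A₀ A).toRingHom x = 0 := hx
    have h4 : (Phi A₀ A).toRingHom (algebraMap A (TT A₀ A) a) = algebraMap A (CA A) a :=
      (Phi A₀ A).commutes a
    rw [h3, h4, zero_sub] at h2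
    exact (Ideal.neg_mem_iff _).mp h2
  have h5 : a ∈ IA A₀ A ^ n := by
    refine mem_of_algebraMap_mem_map (rA A) (IA A₀ A ^ n) (N * n) ?_ a h1
    rw [pow_mul]
    exact Ideal.pow_right_mono hN n
  have h6 : algebraMap A (TT A₀ A) a ∈ (r0 A₀ ^ n).map (algebraMap A₀ (TT A₀ A)) := by
    have h7 := Ideal.mem_map_of_mem (algebraMap A (TT A₀ A)) h5
    rw [← Ideal.map_pow, Ideal.map_map, ← IsScalarTower.algebraMap_eq] at h7
    exact h7
  have h8 : x = (x - algebraMap A (TT A₀ A) a) + algebraMap A (TT A₀ A) a := by ring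
  rw [h8]
  exact Ideal.add_mem _ ha h6

theorem main : EGA41.IsFormallySmoothRel A₀ A (CA A) := by
  intro C _ _ _ _ J _ u₀ hu
  obtain ⟨u, hu⟩ := hu
  let g : C0 A₀ →ₐ[A₀] C := u.comp (phi0 A₀ A)
  let v' : TT A₀ A →ₐ[A] C :=
    Algebra.TensorProduct.lift (Algebra.ofId A C) g (fun _ _ => Commute.all _ _)
  let e : TT A₀ A ≃ₐ[A] CA A :=
    AlgEquiv.ofBijective (Phi A₀ A) ⟨Phi_injective A₀ A, Phi_surjective A₀ A⟩
  have huu : ∀ y : CA A, Ideal.Quotient.mk J (u y) = u₀ y := fun y => AlgHom.congr_fun hu y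
  have key : ∀ t : TT A₀ A, Ideal.Quotient.mk J (v' t) = u₀ (Phi A₀ A t) := by
    intro t
    induction t using TensorProduct.induction_on with
    | zero => simp
    | tmul a l =>
      change Ideal.Quotient.mk J (Algebra.TensorProduct.lift (Algebra.ofId A C) g
        (fun _ _ => Commute.all _ _) (a ⊗ₜ[A₀] l)) =
        u₀ (Algebra.TensorProduct.lift (Algebra.ofId A (CA A)) (phi0 A₀ A)
          (fun _ _ => Commute.all _ _) (a ⊗ₜ[A₀] l))
      rw [Algebra.TensorProduct.lift_tmul, Algebra.TensorProduct.lift_tmul, map_mul, map_mul,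
        Algebra.ofId_apply, Algebra.ofId_apply, AlgHom.commutes]
      change _ * Ideal.Quotient.mk J (u (phi0 A₀ A l)) = _
      rw [huu]
      rfl
    | add x y hx hy => rw [map_add, map_add, map_add, map_add, hx, hy]
  refine ⟨v'.comp e.symm.toAlgHom, ?_⟩
  refine AlgHom.ext fun y => ?_
  obtain ⟨t, rfl⟩ := e.surjective y
  change Ideal.Quotient.mk J (v' (e.symm (e t))) = u₀ (e t)
  rw [AlgEquiv.symm_apply_apply, key]
  rfl

end WithNoeth

end Main
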