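import Mathlib
import Groth.Agent.Lib.Helper27.AdicBase
import Groth.Agent.Lib.Helper27.SemiLocTensor

/-!
Finite modules over algebras topologically of finite type are adically complete
(classes (N) and (V)).
-/

set_option autoImplicit false
universe u

namespace Groth.Agent.Lib.Helper27.AdicComplete

open AdicRing
open Groth.Agent.Lib.Helper27.AdicUtil Groth.Agent.Lib.Helper27.AdicBase

section closed

variable {R : Type*} [CommRing R] (t : R) {A' : Type*} [CommRing A'] [Algebra R A']
  {F : Type*} [AddCommGroup F] [Module R F] [Module A' F] [IsScalarTower R A' F]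

/-- A saturated submodule which is precomplete for its own `t`-adic topology is closed. -/
theorem mem_of_forall_exists [IsHausdorff (Ideal.span {t}) F] (K : Submodule A' F)
    [IsPrecomplete (Ideal.span {t}) K] (hsat : ∀ x : F, t • x ∈ K → x ∈ K) (x : F)
    (h : ∀ k : ℕ, ∃ κ ∈ K, ∃ y : F, x = κ + t ^ k • y) : x ∈ K := by
  choose κ hκ y hy using h
  have sat_pow : ∀ (j : ℕ) (z : F), t ^ j • z ∈ K → z ∈ K := by
    intro j
    induction j with
    | zero => intro z hz; simpa using hz
    | succ j ih =>
      intro z hz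
      rw [pow_succ', mul_smul] at hz
      exact ih z (hsat _ hz)
  have h1 : ∀ k, ∃ w ∈ K, κ (k + 1) - κ k = t ^ k • w := by
    intro k
    have e0 : κ k + t ^ k • y k = κ (k + 1) + t ^ (k + 1) • y (k + 1) := by
      rw [← hy k, ← hy (k + 1)]
    have e1 : κ (k + 1) - κ k = t ^ k • (y k - t • y (k + 1)) := by
      rw [smul_sub, smul_smul, ← pow_succ]
      calc κ (k + 1) - κ k
          = (κ (k + 1) + t ^ (k + 1) • y (k + 1)) - t ^ (k + 1) • y (k + 1) - κ k := by abel
        _ = (κ k + t ^ k • y k) - t ^ (k + 1) • y (k + 1) - κ k := by rw [e0]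
        _ = t ^ k • y k - t ^ (k + 1) • y (k + 1) := by abel
    refine ⟨y k - t • y (k + 1), sat_pow k _ ?_, e1⟩
    rw [← e1]
    exact K.sub_mem (hκ _) (hκ _)
  let f : ℕ → K := fun k => ⟨κ k, hκ k⟩
  have hf : AdicCompletion.IsAdicCauchy (Ideal.span {t}) K f := by
    rw [AdicCompletion.isAdicCauchy_iff]
    intro k
    rw [SModEq.sub_mem, mem_pow_smul_top_iff]
    obtain ⟨w, hw, hwe⟩ := h1 k
    refine ⟨-⟨w, hw⟩, Subtype.ext ?_⟩
    have : κ k - κ (k + 1) = t ^ k • (-w) := by rw [smul_neg, ← hwe]; abel
    simpa [f] using this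
  obtain ⟨L, hL⟩ := IsPrecomplete.prec (inferInstance : IsPrecomplete (Ideal.span {t}) K) hf
  have hx : x = (L : F) := by
    rw [← sub_eq_zero]
    apply (isHausdorff_iff.mp (inferInstance : IsHausdorff (Ideal.span {t}) F))
    intro k
    rw [SModEq.zero, mem_pow_smul_top_iff]
    have h2 := hL k
    rw [SModEq.sub_mem, mem_pow_smul_top_iff] at h2
    obtain ⟨w, hw⟩ := h2
    refine ⟨y k + (w : F), ?_⟩
    have hw' : κ k - (L : F) = t ^ k • (w : F) := by
      have := congrArg Subtype.val hw
      simpa [f] using this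
    rw [smul_add, ← hw']
    nth_rewrite 1 [hy k]
    abel
  rw [hx]
  exact L.2

end closed

/-- Class (N). -/
theorem isAdicComplete_classN (R : Type u) [CommRing R] [IsNoetherianRing R] (I : Ideal R)
    (A : Type u) [CommRing A] [Algebra R A] (hA : TopFiniteType R I A)
    (M : Type*) [AddCommGroup M] [Module A M] [Module R M] [IsScalarTower R A M]
    [Module.Finite A M] : IsAdicComplete I M := by
  obtain ⟨n, φ, hφ⟩ := hA
  haveI := isNoetherianRing_rpow R I n
  letI : Algebra (RPow R I n) A := φ.toRingHom.toAlgebra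
  letI : Module (RPow R I n) M := Module.compHom M φ.toRingHom
  haveI : IsScalarTower (RPow R I n) A M := ⟨fun p a m => by
    show (φ p * a) • m = φ p • (a • m)
    rw [mul_smul]⟩
  haveI : IsScalarTower R (RPow R I n) M := ⟨fun r p m => by
    show φ (r • p) • m = r • (φ p • m)
    rw [map_smul, smul_assoc]⟩
  haveI : Module.Finite (RPow R I n) A :=
    Module.Finite.of_surjective (Algebra.linearMap (RPow R I n) A) hφ
  haveI : Module.Finite (RPow R I n) M := Module.Finite.trans A M
  haveI hcP : IsAdicComplete I (RPow R I n) :=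
    RPowKey.isAdicComplete_rpow R n I (IsNoetherian.noetherian I)
  haveI : IsAdicComplete (I.map (algebraMap R (RPow R I n))) (RPow R I n) :=
    (IsAdicComplete.map_algebraMap_iff I (RPow R I n)).mpr hcP
  have h := SemiLocTensor.isAdicComplete_of_finite' (I.map (algebraMap R (RPow R I n))) M
  exact (IsAdicComplete.map_algebraMap_iff (S := RPow R I n) I M).mp h

/-- Class (V). -/
theorem isAdicComplete_classV (R : Type u) [CommRing R] [IsDomain R] [ValuationRing R]
    [Ring.KrullDimLE 1 R] (t : R) (ht0 : t ≠ 0) [IsAdicComplete (Ideal.span {t}) R]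
    (A : Type u) [CommRing A] [Algebra R A] (hA : TopFiniteType R (Ideal.span {t}) A)
    (M : Type*) [AddCommGroup M] [Module A M] [Module R M] [IsScalarTower R A M]
    [Module.Finite A M] : IsAdicComplete (Ideal.span {t}) M := by
  classical
  obtain ⟨n, φ, hφ⟩ := hA
  obtain ⟨r, π, hπ⟩ := Module.Finite.exists_fin' A M
  haveI hcP : IsAdicComplete (Ideal.span {t}) (RPow R (Ideal.span {t}) n) :=
    RPowKey.isAdicComplete_rpow R n (Ideal.span {t}) ⟨{t}, by simp⟩
  let ψ : (Fin r → RPow R (Ideal.span {t}) n) →ₗ[R] M :=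
    (π.restrictScalars R).comp (φ.toLinearMap.compLeft (Fin r))
  have hψ : Function.Surjective ψ := by
    intro y
    obtain ⟨x, rfl⟩ := hπ y
    choose x' hx' using fun i => hφ (x i)
    exact ⟨x', by simp only [ψ, LinearMap.comp_apply, LinearMap.restrictScalars_apply]; congr 1; funext i; exact hx' i⟩
  have ψ_smul : ∀ (a : RPow R (Ideal.span {t}) n) x, ψ (a • x) = φ a • ψ x := by
    intro a x
    simp only [ψ, LinearMap.comp_apply, LinearMap.restrictScalars_apply]
    rw [← map_smul]
    congr 1
    funext i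
    simp
  haveI : IsPrecomplete (Ideal.span {t}) (Fin r → RPow R (Ideal.span {t}) n) :=
    isPrecomplete_pi t _
  haveI : IsHausdorff (Ideal.span {t}) (Fin r → RPow R (Ideal.span {t}) n) :=
    isHausdorff_pi t _
  haveI hprec : IsPrecomplete (Ideal.span {t}) M := isPrecomplete_of_surjective _ ψ hψ
  let K : Submodule (RPow R (Ideal.span {t}) n) (Fin r → RPow R (Ideal.span {t}) n) :=
    { carrier := {x | ψ x = 0}
      zero_mem' := map_zero ψ
      add_mem' := by
        intro x y hx hy
        show ψ (x + y) = 0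
        rw [map_add, hx, hy, add_zero]
      smul_mem' := by
        intro a x hx
        show ψ (a • x) = 0
        rw [ψ_smul, hx, smul_zero] }
  obtain ⟨hfg, e, he⟩ := exists_sat_bound R t ht0 (RPow R (Ideal.span {t}) n) (tft_rpow R _ n)
    (Fin r → RPow R (Ideal.span {t}) n) K
  haveI : Module.Finite (RPow R (Ideal.span {t}) n) (satSubmodule t K) :=
    Module.Finite.iff_fg.mpr hfg
  obtain ⟨s, g, hg⟩ := Module.Finite.exists_fin' (RPow R (Ideal.span {t}) n) (satSubmodule t K)
  haveI : IsPrecomplete (Ideal.span {t}) (Fin s → RPow R (Ideal.span {t}) n) :=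
    isPrecomplete_pi t _
  haveI : IsPrecomplete (Ideal.span {t}) (satSubmodule t K) :=
    isPrecomplete_of_surjective _ (g.restrictScalars R) hg
  have sat_pow : ∀ (j : ℕ) (z : Fin r → RPow R (Ideal.span {t}) n),
      t ^ j • z ∈ satSubmodule t K → z ∈ satSubmodule t K := by
    intro j
    induction j with
    | zero => intro z hz; simpa using hz
    | succ j ih =>
      intro z hz
      rw [pow_succ', mul_smul] at hz
      exact ih z (satSubmodule_sat t K _ hz)
  have hH : IsHausdorff (Ideal.span {t}) M := by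
    rw [isHausdorff_iff]
    intro m hm
    obtain ⟨x, rfl⟩ := hψ m
    have hdecomp : ∀ k : ℕ, ∃ κ ∈ K, ∃ y : Fin r → RPow R (Ideal.span {t}) n,
        x = κ + t ^ k • y := by
      intro k
      have h1 := hm k
      rw [SModEq.zero, mem_pow_smul_top_iff] at h1
      obtain ⟨m', hm'⟩ := h1
      obtain ⟨y', rfl⟩ := hψ m'
      refine ⟨x - t ^ k • y', ?_, y', by abel⟩
      show ψ (x - t ^ k • y') = 0
      rw [map_sub, map_smul, hm', sub_self]
    have hxKs : x ∈ satSubmodule t K :=
      mem_of_forall_exists t (satSubmodule t K) (satSubmodule_sat t K) x (fun k => by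
        obtain ⟨κ, hκ, y, hy⟩ := hdecomp k
        exact ⟨κ, le_satSubmodule t K hκ, y, hy⟩)
    obtain ⟨κ, hκ, y, hy⟩ := hdecomp e
    have h2 : t ^ e • y ∈ satSubmodule t K := by
      have : t ^ e • y = x - κ := by rw [hy]; abel
      rw [this]
      exact Submodule.sub_mem _ hxKs (le_satSubmodule t K hκ)
    have h3 : t ^ e • y ∈ K := he y (sat_pow e y h2)
    have h4 : x ∈ K := by rw [hy]; exact K.add_mem hκ h3
    exact h4
  exact {}

end Groth.Agent.Lib.Helper27.AdicComplete
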