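import Mathlib
import Groth.Agent.Lib.Helper27.AdicComplete
import Groth.Agent.Lib.Helper27.RPowKey
import Groth.Agent.Lib.Helper27.KeyCompl

/-!
Class (V): an algebra topologically of finite type without `t`-torsion which is a local
domain of Krull dimension one is a finite module over the base valuation ring.
-/

set_option autoImplicit false
universe u

namespace Groth.Agent.Lib.Helper27.AdicFin

open AdicRing IsLocalRing
open Groth.Agent.Lib.Helper27

section lemmaA

variable {R : Type*} [CommRing R] [IsDomain R] [ValuationRing R] {B : Type*} [CommRing B]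
  [Algebra R B]

/-- Over a valuation ring, elements of `J B` are of the form `c • b` with `c ∈ J`. -/
lemma exists_smul_of_mem_map (J : Ideal R) (x : B) (hx : x ∈ J.map (algebraMap R B)) :
    ∃ c ∈ J, ∃ b : B, x = c • b := by
  unfold Ideal.map at hx
  induction hx using Submodule.span_induction with
  | mem x hx =>
    obtain ⟨c, hc, rfl⟩ := hx
    exact ⟨c, hc, 1, by rw [Algebra.smul_def, mul_one]⟩
  | zero => exact ⟨0, J.zero_mem, 0, by simp⟩
  | add x y _ _ hx hy =>
    obtain ⟨c₁, hc₁, b₁, rfl⟩ := hx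
    obtain ⟨c₂, hc₂, b₂, rfl⟩ := hy
    rcases ValuationRing.dvd_total c₁ c₂ with ⟨d, rfl⟩ | ⟨d, rfl⟩
    · exact ⟨c₁, hc₁, b₁ + d • b₂, by rw [smul_add, mul_smul]⟩
    · exact ⟨c₂, hc₂, d • b₁ + b₂, by rw [smul_add, mul_smul]⟩
  | smul a x _ hx =>
    obtain ⟨c, hc, b, rfl⟩ := hx
    exact ⟨c, hc, a * b, by rw [smul_eq_mul, Algebra.mul_smul_comm]⟩

end lemmaA

section dense

variable (R : Type u) [CommRing R] (t : R) {B : Type u} [CommRing B] [Algebra R B] {n : ℕ}
  (φ : RPow R (Ideal.span {t}) n →ₐ[R] B)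

/-- images of the variables -/
noncomputable def yv : Fin n → B := fun l =>
  φ (algebraMap (MvPolynomial (Fin n) R) (RPow R (Ideal.span {t}) n) (MvPolynomial.X l))

lemma phi_ofP (p : MvPolynomial (Fin n) R) :
    φ (algebraMap (MvPolynomial (Fin n) R) (RPow R (Ideal.span {t}) n) p) =
      MvPolynomial.aeval (yv R t φ) p := by
  have h := MvPolynomial.aeval_unique (φ.comp
    (IsScalarTower.toAlgHom R (MvPolynomial (Fin n) R) (RPow R (Ideal.span {t}) n)))
  exact AlgHom.congr_fun h p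

/-- every element of `B` is a polynomial in the `y` modulo `t`. -/
lemma exists_aeval_add (hφ : Function.Surjective φ) (b : B) :
    ∃ p : MvPolynomial (Fin n) R, ∃ b' : B,
      b = MvPolynomial.aeval (yv R t φ) p + t • b' := by
  obtain ⟨z, rfl⟩ := hφ b
  obtain ⟨p, z', hz⟩ := RPowKey.dense_rpow R t n z
  refine ⟨p, φ z', ?_⟩
  rw [hz, map_add, map_smul, phi_ofP]

/-- For any ideal `𝔞 ∋ t`, `B/𝔞` is generated by the images of the `y`. -/
lemma aeval_mk_surjective (hφ : Function.Surjective φ) (𝔞 : Ideal B)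
    (h𝔞 : algebraMap R B t ∈ 𝔞) :
    Function.Surjective (MvPolynomial.aeval (fun l => Ideal.Quotient.mk 𝔞 (yv R t φ l)) :
      MvPolynomial (Fin n) R →ₐ[R] B ⧸ 𝔞) := by
  intro x
  obtain ⟨b, rfl⟩ := Ideal.Quotient.mk_surjective x
  obtain ⟨p, b', hb⟩ := exists_aeval_add R t φ hφ b
  refine ⟨p, ?_⟩
  have h1 := AlgHom.congr_fun (MvPolynomial.comp_aeval (yv R t φ) (Ideal.Quotient.mkₐ R 𝔞)) p
  rw [hb, map_add]
  have h2 : Ideal.Quotient.mk 𝔞 (t • b') = 0 := by
    rw [Ideal.Quotient.eq_zero_iff_mem, Algebra.smul_def]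
    exact 𝔞.mul_mem_right _ h𝔞
  rw [h2, add_zero]
  exact h1.symm

end dense

/-- **Finiteness**: class (V), a local domain of dimension one, topologically of finite type
and without `t`-torsion, is a finite `R`-module. -/
theorem finite_of_local_dim_one (R : Type u) [CommRing R] [IsDomain R] [ValuationRing R]
    [Ring.KrullDimLE 1 R] (t : R) (ht : t ≠ 0) [IsAdicComplete (Ideal.span {t}) R]
    (B : Type u) [CommRing B] [Algebra R B] [IsDomain B] [IsLocalRing B]
    (hB : TopFiniteType R (Ideal.span {t}) B) (hT : NoPowTorsion (Ideal.span {t}) B)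
    (hdim : ringKrullDim B = 1) : Module.Finite R B := by
  classical
  haveI hcB : IsAdicComplete (Ideal.span {t}) B :=
    AdicComplete.isAdicComplete_classV R t ht B hB B
  obtain ⟨n, φ, hφ⟩ := hB
  have ht_mem : t ∈ maximalIdeal R := RPowKey.mem_maximalIdeal_of_isHausdorff t
  have htB0 : algebraMap R B t ≠ 0 := by
    intro h0
    have : (1 : B) = 0 := hT 1 1 (by
      intro a ha
      rw [pow_one, Ideal.mem_span_singleton] at ha
      obtain ⟨b, rfl⟩ := ha
      rw [mul_comm, mul_smul, Algebra.smul_def t, mul_one, h0, smul_zero])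
    exact one_ne_zero this
  haveI hK1 : Ring.KrullDimLE 1 B := Ring.krullDimLE_iff.mpr (by rw [hdim]; rfl)
  -- the special fibre
  let 𝔪B : Ideal B := (maximalIdeal R).map (algebraMap R B)
  have ht𝔪 : algebraMap R B t ∈ 𝔪B := Ideal.mem_map_of_mem _ ht_mem
  haveI hK0 : Ring.KrullDimLE 0 (B ⧸ 𝔪B) := by
    rw [Ring.krullDimLE_zero_iff]
    intro P hP
    have hQp : (P.comap (Ideal.Quotient.mk 𝔪B)).IsPrime := Ideal.comap_isPrime _ _
    have hQne : P.comap (Ideal.Quotient.mk 𝔪B) ≠ ⊥ := by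
      intro h
      apply htB0
      have : algebraMap R B t ∈ P.comap (Ideal.Quotient.mk 𝔪B) := by
        rw [Ideal.mem_comap, Ideal.Quotient.eq_zero_iff_mem.mpr ht𝔪]
        exact P.zero_mem
      rwa [h, Ideal.mem_bot] at this
    have hQmax := hQp.isMaximal_of_ne_bot hQne
    rcases Ideal.map_eq_top_or_isMaximal_of_surjective (Ideal.Quotient.mk 𝔪B)
      Ideal.Quotient.mk_surjective hQmax with h | h
    · rw [Ideal.map_comap_of_surjective _ Ideal.Quotient.mk_surjective] at h
      exact absurd h hP.ne_top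
    · rwa [Ideal.map_comap_of_surjective _ Ideal.Quotient.mk_surjective] at h
  haveI : Algebra.FiniteType R (B ⧸ 𝔪B) :=
    Algebra.FiniteType.of_surjective _ (aeval_mk_surjective R t φ hφ 𝔪B ht𝔪)
  haveI : Algebra.FiniteType (R ⧸ maximalIdeal R) (B ⧸ 𝔪B) :=
    Algebra.FiniteType.of_restrictScalars_finiteType R _ _
  haveI : IsArtinianRing (R ⧸ maximalIdeal R) := by
    letI : Field (R ⧸ maximalIdeal R) := Ideal.Quotient.field _
    infer_instance
  haveI hfin : Module.Finite (R ⧸ maximalIdeal R) (B ⧸ 𝔪B) :=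
    (Module.finite_iff_krullDimLE_zero _ _).mpr hK0
  haveI : Algebra.IsIntegral (R ⧸ maximalIdeal R) (B ⧸ 𝔪B) := inferInstance
  haveI : Algebra.IsIntegral R (R ⧸ maximalIdeal R) := inferInstance
  haveI : Algebra.IsIntegral R (B ⧸ 𝔪B) := Algebra.IsIntegral.trans (R ⧸ maximalIdeal R)
  have hP : ∀ l, ∃ P : Polynomial R, P.Monic ∧ Polynomial.aeval (yv R t φ l) P ∈ 𝔪B := by
    intro l
    obtain ⟨P, hPm, hP0⟩ :=
      Algebra.IsIntegral.isIntegral (R := R) (Ideal.Quotient.mk 𝔪B (yv R t φ l))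
    refine ⟨P, hPm, ?_⟩
    rw [← Ideal.Quotient.eq_zero_iff_mem]
    have := Polynomial.aeval_algHom_apply (Ideal.Quotient.mkₐ R 𝔪B) (yv R t φ l) P
    rw [← Polynomial.aeval_def] at hP0
    exact this.symm.trans hP0
  choose P hPm hPmem using hP
  -- integrality modulo `t`
  let 𝔱 : Ideal B := Ideal.span {algebraMap R B t}
  have hint : ∀ l, IsIntegral R (Ideal.Quotient.mk 𝔱 (yv R t φ l)) := by
    intro l
    obtain ⟨c, hc, b, hcb⟩ := exists_smul_of_mem_map (maximalIdeal R) _ (hPmem l)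
    obtain ⟨i, e, hi⟩ := RPowKey.exists_dvd_pow_of_mem t ht c hc
    refine ⟨P l ^ i, (hPm l).pow i, ?_⟩
    rw [← Polynomial.aeval_def]
    have h1 := Polynomial.aeval_algHom_apply (Ideal.Quotient.mkₐ R 𝔱) (yv R t φ l) (P l ^ i)
    refine h1.trans ?_
    rw [map_pow, hcb]
    show Ideal.Quotient.mk 𝔱 ((c • b) ^ i) = 0
    rw [Ideal.Quotient.eq_zero_iff_mem, smul_pow, hi, mul_smul, Algebra.smul_def]
    exact 𝔱.mul_mem_right _ (Ideal.mem_span_singleton_self _)
  have hsurj := aeval_mk_surjective R t φ hφ 𝔱 (Ideal.mem_span_singleton_self _)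
  have hadj : Algebra.adjoin R (Set.range fun l => Ideal.Quotient.mk 𝔱 (yv R t φ l)) = ⊤ := by
    rw [Algebra.adjoin_range_eq_range_aeval]
    exact (AlgHom.range_eq_top _).mpr hsurj
  have hfg := fg_adjoin_of_finite (R := R)
    (Set.finite_range fun l => Ideal.Quotient.mk 𝔱 (yv R t φ l))
    (by rintro _ ⟨l, rfl⟩; exact hint l)
  rw [hadj, Algebra.top_toSubmodule] at hfg
  obtain ⟨s, vbar, hvbar⟩ := Submodule.fg_iff_exists_fin_generating_family.mp hfg
  choose v hv using fun i => Ideal.Quotient.mk_surjective (vbar i)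
  have hle : (⊤ : Submodule R B) ≤ Submodule.span R (Set.range v) := by
    apply KeyCompl.le_span_of_complete (A := R) t ⊤ v (fun _ => Submodule.mem_top)
    intro x _
    have hx : Ideal.Quotient.mk 𝔱 x ∈ Submodule.span R (Set.range vbar) := by
      rw [hvbar]; exact Submodule.mem_top
    obtain ⟨r, hr⟩ := (Submodule.mem_span_range_iff_exists_fun R).mp hx
    have h2 : x - ∑ i, r i • v i ∈ 𝔱 := by
      rw [← Ideal.Quotient.eq_zero_iff_mem, map_sub, ← hr, map_sum, sub_eq_zero]
      refine Finset.sum_congr rfl fun i _ => ?_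
      rw [← hv i]
      rfl
    obtain ⟨b', hb'⟩ := Ideal.mem_span_singleton'.mp h2
    refine ⟨∑ i, r i • v i, ?_, b', Submodule.mem_top, ?_⟩
    · exact Submodule.sum_mem _ fun i _ =>
        Submodule.smul_mem _ _ (Submodule.subset_span ⟨i, rfl⟩)
    · rw [Algebra.smul_def, mul_comm, hb']; abel
  have htop : Submodule.span R (Set.range v) = ⊤ := top_le_iff.mp hle
  exact ⟨htop ▸ Submodule.fg_span (Set.finite_range v)⟩

end Groth.Agent.Lib.Helper27.AdicFin
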