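import Mathlib
import Groth.Agent.Lib.Helper27.AdicFin
import Groth.Agent.Lib.Helper27.ValPoly

/-!
Helpers for the mixed key lemma: homogeneous components and coefficient reduction,
divisibility of polynomials whose coefficients lie in `𝔪 B`, homogenization.
-/

set_option autoImplicit false
universe u

namespace Groth.Agent.Lib.Helper27.MixKeyA

open MvPolynomial IsLocalRing
open Groth.Agent.Lib.Helper27

section map
variable {σ : Type*} {B k : Type*} [CommRing B] [CommRing k]

lemma map_homogeneousComponent (f : B →+* k) (n : ℕ) (φ : MvPolynomial σ B) :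
    MvPolynomial.map f (homogeneousComponent n φ) =
      homogeneousComponent n (MvPolynomial.map f φ) := by
  ext s
  rw [coeff_map, coeff_homogeneousComponent, coeff_homogeneousComponent, coeff_map]
  split_ifs
  · rfl
  · exact map_zero f

end map

section divis
variable {R : Type*} [CommRing R] [IsDomain R] [ValuationRing R] {B : Type*} [CommRing B]
  [Algebra R B] {σ : Type*}

/-- A polynomial whose coefficients all lie in `J B` is `c • H'` with `c ∈ J`, without enlarging
the support. -/
lemma exists_smul_of_coeff_mem (J : Ideal R) (H : MvPolynomial σ B)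
    (hH : ∀ s, coeff s H ∈ J.map (algebraMap R B)) :
    ∃ c ∈ J, ∃ H' : MvPolynomial σ B, H = c • H' ∧ H'.support ⊆ H.support := by
  classical
  by_cases h0 : H = 0
  · exact ⟨0, J.zero_mem, 0, by rw [h0, smul_zero], by simp⟩
  have hne : H.support.Nonempty := by
    rw [Finset.nonempty_iff_ne_empty]
    intro h
    exact h0 (MvPolynomial.support_eq_empty.mp h)
  have h1 : ∀ s, ∃ c ∈ J, ∃ b : B, coeff s H = c • b := fun s =>
    AdicFin.exists_smul_of_mem_map J _ (hH s)
  choose cs hcs bs hbs using h1
  obtain ⟨i, hi, hdiv⟩ := ValPoly.exists_dvd_all H.support hne cs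
  choose! d hd using hdiv
  refine ⟨cs i, hcs i, ∑ j ∈ H.support, monomial j (d j • bs j), ?_, ?_⟩
  · rw [Finset.smul_sum]
    conv_lhs => rw [← MvPolynomial.support_sum_monomial_coeff H]
    apply Finset.sum_congr rfl
    intro j hj
    rw [MvPolynomial.smul_monomial, ← mul_smul, ← hd j hj, ← hbs j]
  · intro s hs
    by_contra hns
    rw [MvPolynomial.mem_support_iff] at hs
    apply hs
    rw [MvPolynomial.coeff_sum]
    apply Finset.sum_eq_zero
    intro j hj
    rw [MvPolynomial.coeff_monomial, if_neg]
    rintro rfl
    exact hns hj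

end divis

section homog
variable {B : Type*} [CommRing B] {σ : Type*}

/-- dehomogenization `ξ₀ ↦ 1`. -/
noncomputable def dehom : MvPolynomial (Option σ) B →ₐ[B] MvPolynomial σ B :=
  aeval (fun o : Option σ => Option.elim o 1 X)

lemma dehom_rename (p : MvPolynomial σ B) : dehom (rename some p) = p := by
  rw [dehom, aeval_rename]
  have : ((fun o : Option σ => Option.elim o (1 : MvPolynomial σ B) X) ∘ some) = X := by
    funext i; rfl
  rw [this, aeval_X_left, AlgHom.id_apply]

lemma dehom_X_none : dehom (X none : MvPolynomial (Option σ) B) = 1 := by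
  rw [dehom, aeval_X]; rfl

lemma dehom_surjective : Function.Surjective (dehom : MvPolynomial (Option σ) B →ₐ[B] _) :=
  fun p => ⟨rename some p, dehom_rename p⟩

/-- homogenization of `f` in degree `sup degree`. -/
noncomputable def hom (f : MvPolynomial σ B) : MvPolynomial (Option σ) B :=
  ∑ s ∈ f.support, X none ^ (f.support.sup Finsupp.degree - Finsupp.degree s) *
    rename some (monomial s (coeff s f))

lemma dehom_hom (f : MvPolynomial σ B) : dehom (hom f) = f := by
  rw [hom, map_sum]
  conv_rhs => rw [← MvPolynomial.support_sum_monomial_coeff f]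
  apply Finset.sum_congr rfl
  intro s _
  rw [map_mul, map_pow, dehom_X_none, one_pow, one_mul, dehom_rename]

lemma hom_isHomogeneous (f : MvPolynomial σ B) :
    (hom f).IsHomogeneous (f.support.sup Finsupp.degree) := by
  apply IsHomogeneous.sum
  intro s hs
  have h1 : Finsupp.degree s ≤ f.support.sup Finsupp.degree := Finset.le_sup hs
  have h2 := (isHomogeneous_X_pow (R := B) (none : Option σ)
    (f.support.sup Finsupp.degree - Finsupp.degree s)).mul
    ((isHomogeneous_monomial (coeff s f) (rfl : Finsupp.degree s = _)).rename_isHomogeneous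
      (f := (some : σ → Option σ)))
  rwa [Nat.sub_add_cancel h1] at h2

end homog

end Groth.Agent.Lib.Helper27.MixKeyA
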