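import Mathlib
import Groth.Agent.Lib.Helper27.MixKeyA

/-!
Key lemma over an arbitrary valuation domain `A`: every saturated ideal of `A[ξ]` (finitely many
variables) is finitely generated (Nagata / Raynaud–Gruson).
-/

set_option autoImplicit false
universe u

namespace Groth.Agent.Lib.Helper27.ValMK

open MvPolynomial IsLocalRing
open Groth.Agent.Lib.Helper27

attribute [local instance] MvPolynomial.gradedAlgebra

variable (A : Type u) [CommRing A] [IsDomain A] [ValuationRing A]

/-- a saturated submodule of a finite module over a valuation domain is finitely generated. -/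
theorem fg_of_saturated_module (E : Type*) [AddCommGroup E] [Module A E] [Module.Finite A E]
    (N : Submodule A E) (hsat : ∀ c : A, c ≠ 0 → ∀ x : E, c • x ∈ N → x ∈ N) : N.FG := by
  have htors : Submodule.torsion A (E ⧸ N) = ⊥ := by
    rw [eq_bot_iff]
    rintro q ⟨⟨c, hc⟩, h⟩
    obtain ⟨x, rfl⟩ := N.mkQ_surjective q
    have hc0 : c ≠ 0 := nonZeroDivisors.ne_zero hc
    have h1 : c • x ∈ N := by
      have h' : N.mkQ (c • x) = 0 := by simpa using h
      exact (Submodule.Quotient.mk_eq_zero N).mp h'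
    have h2 := hsat c hc0 x h1
    exact (Submodule.Quotient.mk_eq_zero N).mpr h2
  haveI : Module.Flat A (E ⧸ N) := Module.Flat.flat_iff_torsion_eq_bot_of_isBezout.mpr htors
  haveI : Module.Free A (E ⧸ N) := Module.free_of_flat_of_isLocalRing
  haveI : Module.FinitePresentation A (E ⧸ N) := Module.finitePresentation_of_projective _ _
  have := Module.FinitePresentation.fg_ker N.mkQ N.mkQ_surjective
  rwa [Submodule.ker_mkQ] at this

variable {σ : Type*} [Finite σ]

/-- graded version -/
theorem fg_of_homogeneous_saturated (𝔇 : Ideal (MvPolynomial σ A))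
    (hhom : 𝔇.IsHomogeneous (homogeneousSubmodule σ A))
    (hsat : ∀ c : A, c ≠ 0 → ∀ F : MvPolynomial σ A, c • F ∈ 𝔇 → F ∈ 𝔇) : 𝔇.FG := by
  classical
  have h𝔪jac : maximalIdeal A ≤ (⊥ : Ideal A).jacobson := by
    rw [IsLocalRing.jacobson_eq_maximalIdeal ⊥ bot_ne_top]
  letI : Field (A ⧸ maximalIdeal A) := Ideal.Quotient.field _
  haveI : IsNoetherianRing (MvPolynomial σ (A ⧸ maximalIdeal A)) :=
    MvPolynomial.isNoetherianRing
  set ρ : MvPolynomial σ A →+* MvPolynomial σ (A ⧸ maximalIdeal A) :=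
    MvPolynomial.map (Ideal.Quotient.mk (maximalIdeal A)) with hρdef
  have hρ : Function.Surjective ρ :=
    MvPolynomial.map_surjective _ Ideal.Quotient.mk_surjective
  have hfg : (𝔇.map ρ).FG := IsNoetherian.noetherian _
  obtain ⟨S, hS⟩ := hfg
  have hlift : ∀ s ∈ S, ∃ F ∈ 𝔇, ρ F = s := by
    intro s hs
    have : s ∈ 𝔇.map ρ := hS ▸ Ideal.subset_span hs
    exact (Ideal.mem_map_iff_of_surjective ρ hρ).mp this
  choose! lift hlift_mem hlift_eq using hlift
  set T' : Finset (MvPolynomial σ A) :=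
    S.biUnion (fun s => (Finset.range ((lift s).totalDegree + 1)).image
      (fun e => homogeneousComponent e (lift s))) with hT'
  set 𝔤 : Ideal (MvPolynomial σ A) := Ideal.span (T' : Set (MvPolynomial σ A)) with h𝔤
  have hT'mem : ∀ G ∈ T', G ∈ 𝔇 ∧ ∃ e, G.IsHomogeneous e := by
    intro G hG
    rw [hT', Finset.mem_biUnion] at hG
    obtain ⟨s, hs, hG⟩ := hG
    rw [Finset.mem_image] at hG
    obtain ⟨e, _, rfl⟩ := hG
    exact ⟨homogeneousComponent_mem_of_mem hhom (hlift_mem s hs) e,
      e, homogeneousComponent_isHomogeneous e _⟩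
  have h𝔤le : 𝔤 ≤ 𝔇 := Ideal.span_le.mpr (fun G hG => (hT'mem G hG).1)
  have h𝔤hom : 𝔤.IsHomogeneous (homogeneousSubmodule σ A) := by
    apply Ideal.homogeneous_span
    intro G hG
    obtain ⟨e, he⟩ := (hT'mem G hG).2
    exact ⟨e, he⟩
  have hliftg : ∀ s ∈ S, lift s ∈ 𝔤 := by
    intro s hs
    rw [← sum_homogeneousComponent (lift s)]
    apply Ideal.sum_mem
    intro e he
    apply Ideal.subset_span
    rw [Finset.mem_coe, hT', Finset.mem_biUnion]
    exact ⟨s, hs, Finset.mem_image.mpr ⟨e, he, rfl⟩⟩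
  have hmapg : 𝔇.map ρ ≤ 𝔤.map ρ := by
    rw [← hS, Ideal.span_le]
    intro s hs
    rw [← hlift_eq s hs]
    exact Ideal.mem_map_of_mem _ (hliftg s hs)
  have key : ∀ d : ℕ, ∀ F ∈ 𝔇, F.IsHomogeneous d → F ∈ 𝔤 := by
    intro d
    set E : Submodule A (MvPolynomial σ A) := homogeneousSubmodule σ A d with hE
    set N : Submodule A (MvPolynomial σ A) := E ⊓ 𝔇.restrictScalars A with hN
    set L : Submodule A (MvPolynomial σ A) := E ⊓ 𝔤.restrictScalars A with hL
    have hNfg : N.FG := by
      haveI : Module.Finite A ↥E := Module.Finite.iff_fg.mpr (homogeneousSubmodule_fg σ A d)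
      set N' : Submodule A ↥E := (𝔇.restrictScalars A).comap E.subtype with hN'
      have hN'sat : ∀ c : A, c ≠ 0 → ∀ x : ↥E, c • x ∈ N' → x ∈ N' := by
        intro c hc x hx
        exact hsat c hc x.1 hx
      have hN'fg : N'.FG := fg_of_saturated_module A ↥E N' hN'sat
      have e : N = N'.map E.subtype := by
        rw [hN', Submodule.map_comap_subtype]
      rw [e]
      exact hN'fg.map _
    have hle : N ≤ L ⊔ (maximalIdeal A) • N := by
      rintro F ⟨hFd, hF⟩
      have hFd' : F.IsHomogeneous d := hFd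
      have hF' : F ∈ 𝔇 := hF
      have h1 : ρ F ∈ 𝔤.map ρ := hmapg (Ideal.mem_map_of_mem _ hF')
      obtain ⟨G', hG', hG'F⟩ := (Ideal.mem_map_iff_of_surjective ρ hρ).mp h1
      set G := homogeneousComponent d G' with hG
      have hGg : G ∈ 𝔤 := homogeneousComponent_mem_of_mem h𝔤hom hG' d
      have hGd : G.IsHomogeneous d := homogeneousComponent_isHomogeneous d G'
      have hρG : ρ G = ρ F := by
        rw [hG, hρdef, MixKeyA.map_homogeneousComponent, ← hρdef, hG'F, hρdef,
          ← MixKeyA.map_homogeneousComponent, homogeneousComponent_eq_self hFd']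
      set H := F - G with hH
      have hHd : H.IsHomogeneous d := hFd'.sub hGd
      have hH𝔇 : H ∈ 𝔇 := 𝔇.sub_mem hF' (h𝔤le hGg)
      have hρH : ρ H = 0 := by rw [hH, map_sub, hρG, sub_self]
      have hcoef : ∀ s, coeff s H ∈ (maximalIdeal A).map (algebraMap A A) := by
        intro s
        have := congrArg (coeff s) hρH
        rw [hρdef, coeff_map, coeff_zero, Ideal.Quotient.eq_zero_iff_mem] at this
        rw [show (maximalIdeal A).map (algebraMap A A) = maximalIdeal A from Ideal.map_id _]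
        exact this
      obtain ⟨c, hc, H', hHH', hsupp⟩ :=
        MixKeyA.exists_smul_of_coeff_mem (R := A) (B := A) _ H hcoef
      have hFeq : F = G + H := by rw [hH]; ring
      rw [hFeq]
      refine Submodule.add_mem _ (Submodule.mem_sup_left ⟨hGd, hGg⟩) (Submodule.mem_sup_right ?_)
      by_cases hc0 : c = 0
      · rw [hHH', hc0, zero_smul]
        exact Submodule.zero_mem _
      · have hH'𝔇 : H' ∈ 𝔇 := by
          apply hsat c hc0
          rw [← hHH']
          exact hH𝔇
        have hH'd : H'.IsHomogeneous d := by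
          intro s hs
          apply hHd
          have : s ∈ H.support := hsupp (MvPolynomial.mem_support_iff.mpr hs)
          exact MvPolynomial.mem_support_iff.mp this
        rw [hHH']
        exact Submodule.smul_mem_smul hc ⟨hH'd, hH'𝔇⟩
    have hNL : N ≤ L := Submodule.le_of_le_smul_of_le_jacobson_bot hNfg h𝔪jac hle
    intro F hF hFd
    exact (hNL ⟨hFd, hF⟩).2
  have h𝔇le : 𝔇 ≤ 𝔤 := by
    intro F hF
    rw [← sum_homogeneousComponent F]
    exact Ideal.sum_mem _ (fun e _ => key e _ (homogeneousComponent_mem_of_mem hhom hF e)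
      (homogeneousComponent_isHomogeneous e F))
  have : 𝔇 = 𝔤 := le_antisymm h𝔇le h𝔤le
  rw [this]
  exact ⟨T', rfl⟩

/-- every saturated ideal of `A[ξ]` is finitely generated. -/
theorem fg_of_saturated (𝔡 : Ideal (MvPolynomial σ A))
    (hsat : ∀ c : A, c ≠ 0 → ∀ F : MvPolynomial σ A, c • F ∈ 𝔡 → F ∈ 𝔡) : 𝔡.FG := by
  classical
  set gen : Set (MvPolynomial (Option σ) A) :=
    {F | (∃ e, F.IsHomogeneous e) ∧ MixKeyA.dehom F ∈ 𝔡} with hgen
  set 𝔇 : Ideal (MvPolynomial (Option σ) A) := Ideal.span gen with h𝔇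
  have h𝔇comap : 𝔇 ≤ 𝔡.comap (MixKeyA.dehom : MvPolynomial (Option σ) A →ₐ[A] _).toRingHom := by
    rw [h𝔇, Ideal.span_le]
    intro F hF
    exact hF.2
  have hhom : 𝔇.IsHomogeneous (homogeneousSubmodule (Option σ) A) := by
    apply Ideal.homogeneous_span
    intro F hF
    obtain ⟨e, he⟩ := hF.1
    exact ⟨e, he⟩
  have hsat' : ∀ c : A, c ≠ 0 → ∀ F : MvPolynomial (Option σ) A, c • F ∈ 𝔇 → F ∈ 𝔇 := by
    intro c hc F hF
    rw [← sum_homogeneousComponent F]
    apply Ideal.sum_mem
    intro e _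
    apply Ideal.subset_span
    refine ⟨⟨e, homogeneousComponent_isHomogeneous e F⟩, ?_⟩
    apply hsat c hc
    have h1 : homogeneousComponent e (c • F) ∈ 𝔇 := homogeneousComponent_mem_of_mem hhom hF e
    rw [map_smul] at h1
    have h3 : MixKeyA.dehom (c • homogeneousComponent e F) ∈ 𝔡 := h𝔇comap h1
    rwa [map_smul] at h3
  have hfg := fg_of_homogeneous_saturated A 𝔇 hhom hsat'
  have e : 𝔡 = 𝔇.map (MixKeyA.dehom : MvPolynomial (Option σ) A →ₐ[A] _).toRingHom := by
    apply le_antisymm
    · intro f hf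
      have h1 : MixKeyA.hom f ∈ 𝔇 :=
        Ideal.subset_span ⟨⟨_, MixKeyA.hom_isHomogeneous f⟩, by rwa [MixKeyA.dehom_hom]⟩
      have h2 := Ideal.mem_map_of_mem
        (MixKeyA.dehom : MvPolynomial (Option σ) A →ₐ[A] _).toRingHom h1
      have h3 : (MixKeyA.dehom : MvPolynomial (Option σ) A →ₐ[A] _).toRingHom (MixKeyA.hom f)
          = f := MixKeyA.dehom_hom f
      rwa [h3] at h2
    · exact Ideal.map_le_iff_le_comap.mpr h𝔇comap
  rw [e]
  exact hfg.map _

end Groth.Agent.Lib.Helper27.ValMK
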