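import Mathlib
import Groth.Agent.Lib.Helper27.ValMK

/-!
Module version of the key lemma over a valuation domain `A`: every saturated submodule of a finite
free module over `A[ξ]` is finitely generated (idealization trick).
-/

set_option autoImplicit false
universe u

namespace Groth.Agent.Lib.Helper27.ValMKMod

open MvPolynomial
open Groth.Agent.Lib.Helper27

section lin
variable (P : Type*) [CommRing P] (k : ℕ)

/-- the "constant + linear part" homomorphism `P[y₁..y_k] → P ⊕ P^k`. -/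
noncomputable def lin : MvPolynomial (Fin k) P →+* TrivSqZeroExt P (Fin k → P) :=
  eval₂Hom (TrivSqZeroExt.inlHom P (Fin k → P)) (fun i => TrivSqZeroExt.inr (Pi.single i 1))

lemma lin_C (p : P) : lin P k (C p) = TrivSqZeroExt.inl p := by
  rw [lin, eval₂Hom_C]; rfl

lemma lin_X (i : Fin k) : lin P k (X i) = TrivSqZeroExt.inr (Pi.single i 1) := by
  rw [lin, eval₂Hom_X']

/-- the ideal `0 ⊕ N` of `P ⊕ P^k`. -/
def idealOf (N : Submodule P (Fin k → P)) : Ideal (TrivSqZeroExt P (Fin k → P)) where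
  carrier := {x | x.fst = 0 ∧ x.snd ∈ N}
  add_mem' := by
    rintro x y ⟨hx1, hx2⟩ ⟨hy1, hy2⟩
    refine ⟨?_, ?_⟩
    · rw [TrivSqZeroExt.fst_add, hx1, hy1, add_zero]
    · rw [TrivSqZeroExt.snd_add]; exact N.add_mem hx2 hy2
  zero_mem' := ⟨TrivSqZeroExt.fst_zero, by rw [TrivSqZeroExt.snd_zero]; exact N.zero_mem⟩
  smul_mem' := by
    rintro a x ⟨hx1, hx2⟩
    refine ⟨?_, ?_⟩
    · rw [smul_eq_mul, TrivSqZeroExt.fst_mul, hx1, mul_zero]
    · rw [smul_eq_mul, TrivSqZeroExt.snd_mul, hx1, MulOpposite.op_zero, zero_smul, add_zero]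
      exact N.smul_mem _ hx2

lemma mem_idealOf (N : Submodule P (Fin k → P)) (x : TrivSqZeroExt P (Fin k → P)) :
    x ∈ idealOf P k N ↔ x.fst = 0 ∧ x.snd ∈ N := Iff.rfl

lemma lin_sum (n : Fin k → P) :
    lin P k (∑ i, C (n i) * X i) = TrivSqZeroExt.inr n := by
  rw [map_sum]
  have : ∀ i, lin P k (C (n i) * X i) = TrivSqZeroExt.inr (Pi.single i (n i)) := by
    intro i
    rw [map_mul, lin_C, lin_X, TrivSqZeroExt.inl_mul_inr, ← Pi.single_smul, smul_eq_mul, mul_one]
  simp_rw [this]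
  rw [← TrivSqZeroExt.inr_sum, Finset.univ_sum_single]

end lin

variable (A : Type u) [CommRing A] [IsDomain A] [ValuationRing A]
  {σ : Type*} [Finite σ] (k : ℕ)

/-- every saturated submodule of `A[ξ]^k` is finitely generated. -/
theorem fg_of_saturated_submodule
    (N : Submodule (MvPolynomial σ A) (Fin k → MvPolynomial σ A))
    (hsat : ∀ c : A, c ≠ 0 → ∀ v : Fin k → MvPolynomial σ A, c • v ∈ N → v ∈ N) : N.FG := by
  classical
  set 𝔡' : Ideal (MvPolynomial (Fin k) (MvPolynomial σ A)) :=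
    (idealOf (MvPolynomial σ A) k N).comap (lin (MvPolynomial σ A) k) with h𝔡'
  have hlin_smul : ∀ (c : A) (q : MvPolynomial (Fin k) (MvPolynomial σ A)),
      lin (MvPolynomial σ A) k (c • q) =
        TrivSqZeroExt.inl (C c) * lin (MvPolynomial σ A) k q := by
    intro c q
    rw [← algebraMap_smul (MvPolynomial σ A) c q, smul_eq_C_mul, map_mul, lin_C]
    rfl
  have hsat' : ∀ c : A, c ≠ 0 → ∀ q : MvPolynomial (Fin k) (MvPolynomial σ A),
      c • q ∈ 𝔡' → q ∈ 𝔡' := by
    intro c hc q hq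
    rw [h𝔡', Ideal.mem_comap, hlin_smul, mem_idealOf] at hq
    obtain ⟨h1, h2⟩ := hq
    rw [TrivSqZeroExt.fst_mul, TrivSqZeroExt.fst_inl] at h1
    have hCc : (C c : MvPolynomial σ A) ≠ 0 := by
      intro h
      exact hc (C_injective σ A (by rw [h, C_0]))
    have h1' : (lin (MvPolynomial σ A) k q).fst = 0 := by
      rcases mul_eq_zero.mp h1 with h | h
      · exact absurd h hCc
      · exact h
    rw [TrivSqZeroExt.snd_mul, TrivSqZeroExt.fst_inl, TrivSqZeroExt.snd_inl, smul_zero,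
      add_zero] at h2
    rw [h𝔡', Ideal.mem_comap, mem_idealOf]
    refine ⟨h1', hsat c hc _ ?_⟩
    have : c • (lin (MvPolynomial σ A) k q).snd = (C c : MvPolynomial σ A) •
        (lin (MvPolynomial σ A) k q).snd := by
      rw [← algebraMap_smul (MvPolynomial σ A) c]
      rfl
    rwa [this]
  -- transfer to a polynomial ring over `A`
  set e := sumAlgEquiv A (Fin k) σ with he
  set er : MvPolynomial (Fin k ⊕ σ) A →+* MvPolynomial (Fin k) (MvPolynomial σ A) :=
    e.toRingEquiv.toRingHom with her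
  have her_apply : ∀ F, er F = e F := fun _ => rfl
  have her_surj : Function.Surjective er := fun y => ⟨e.symm y, by rw [her_apply, e.apply_symm_apply]⟩
  set 𝔡 : Ideal (MvPolynomial (Fin k ⊕ σ) A) := 𝔡'.comap er with h𝔡
  have hsat'' : ∀ c : A, c ≠ 0 → ∀ F : MvPolynomial (Fin k ⊕ σ) A, c • F ∈ 𝔡 → F ∈ 𝔡 := by
    intro c hc F hF
    rw [h𝔡, Ideal.mem_comap] at hF ⊢
    apply hsat' c hc
    have : er (c • F) = c • er F := by
      rw [her_apply, her_apply]; exact map_smul e c F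
    rwa [this] at hF
  have hfg : 𝔡.FG := ValMK.fg_of_saturated A 𝔡 hsat''
  have hmap : 𝔡' = 𝔡.map er := by
    rw [h𝔡, Ideal.map_comap_of_surjective _ her_surj]
  have hfg' : 𝔡'.FG := by rw [hmap]; exact hfg.map _
  obtain ⟨S, hS⟩ := hfg'
  set N' : Submodule (MvPolynomial σ A) (Fin k → MvPolynomial σ A) :=
    Submodule.span _ ((fun q => (lin (MvPolynomial σ A) k q).snd) '' (S : Set _)) with hN'
  have hSmem : ∀ q ∈ S, q ∈ 𝔡' := fun q hq => hS ▸ Ideal.subset_span hq
  have hN'le : N' ≤ N := by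
    rw [hN', Submodule.span_le]
    rintro _ ⟨q, hq, rfl⟩
    exact (hSmem q hq).2
  have hind : ∀ q ∈ Ideal.span (S : Set (MvPolynomial (Fin k) (MvPolynomial σ A))),
      (lin (MvPolynomial σ A) k q).fst = 0 ∧ (lin (MvPolynomial σ A) k q).snd ∈ N' := by
    intro q hq
    refine Submodule.span_induction ?_ ?_ ?_ ?_ hq
    · intro q hq
      exact ⟨(hSmem q hq).1, Submodule.subset_span ⟨q, hq, rfl⟩⟩
    · rw [map_zero]
      exact ⟨TrivSqZeroExt.fst_zero, by rw [TrivSqZeroExt.snd_zero]; exact N'.zero_mem⟩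
    · rintro x y _ _ ⟨hx1, hx2⟩ ⟨hy1, hy2⟩
      rw [map_add]
      refine ⟨?_, ?_⟩
      · rw [TrivSqZeroExt.fst_add, hx1, hy1, add_zero]
      · rw [TrivSqZeroExt.snd_add]; exact N'.add_mem hx2 hy2
    · rintro h x _ ⟨hx1, hx2⟩
      rw [smul_eq_mul, map_mul]
      refine ⟨?_, ?_⟩
      · rw [TrivSqZeroExt.fst_mul, hx1, mul_zero]
      · rw [TrivSqZeroExt.snd_mul, hx1, MulOpposite.op_zero, zero_smul, add_zero]
        exact N'.smul_mem _ hx2
  have hNle : N ≤ N' := by
    intro n hn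
    have h1 : (∑ i, C (n i) * X i : MvPolynomial (Fin k) (MvPolynomial σ A)) ∈ 𝔡' := by
      rw [h𝔡', Ideal.mem_comap, lin_sum, mem_idealOf]
      exact ⟨TrivSqZeroExt.fst_inr _ _, by rw [TrivSqZeroExt.snd_inr]; exact hn⟩
    rw [← hS] at h1
    have h2 := (hind _ h1).2
    rwa [lin_sum, TrivSqZeroExt.snd_inr] at h2
  have : N = N' := le_antisymm hNle hN'le
  rw [this, hN']
  exact Submodule.fg_span ((S.finite_toSet).image _)

end Groth.Agent.Lib.Helper27.ValMKMod
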