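import Mathlib
import Groth.Agent.Lib.Helper27.ValMKMod

/-!
Over a valuation domain `A`: finite modules over essentially finite type `A`-algebras which are flat
over `A` are finitely presented (no locality hypotheses). Flatness helpers for valuation domains.
-/

set_option autoImplicit false
universe u

namespace Groth.Agent.Lib.Helper27.ValFP

open Groth.Agent.Lib.Helper27

/-- finite + `A`-flat implies finitely presented, over any essentially finite type algebra over a
valuation domain. -/
theorem finitePresentation_of_flat (A B M : Type u) [CommRing A] [IsDomain A]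
    [ValuationRing A] [CommRing B] [Algebra A B]
    [Algebra.EssFiniteType A B] [AddCommGroup M] [Module B M] [Module A M] [IsScalarTower A B M]
    [Module.Finite B M] [Module.Flat A M] : Module.FinitePresentation B M := by
  classical
  obtain ⟨s, hs⟩ := (Algebra.essFiniteType_iff A B).mp inferInstance
  obtain ⟨k, m, hm⟩ := Module.Finite.exists_fin (R := B) (M := M)
  set φ : MvPolynomial s A →ₐ[A] B := MvPolynomial.aeval (fun x : s => (x : B)) with hφ
  have hrange : ∀ b ∈ Algebra.adjoin A (s : Set B), ∃ p, φ p = b := by
    intro b hb
    have : Algebra.adjoin A (s : Set B) = φ.range := by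
      rw [hφ, ← Algebra.adjoin_range_eq_range_aeval, Subtype.range_coe_subtype]
      rfl
    rw [this] at hb
    exact hb
  -- the kernel submodule
  set N : Submodule (MvPolynomial s A) (Fin k → MvPolynomial s A) :=
    { carrier := {v | ∑ i, φ (v i) • m i = 0}
      add_mem' := by
        intro x y hx hy
        have hx' : ∑ i, φ (x i) • m i = 0 := hx
        have hy' : ∑ i, φ (y i) • m i = 0 := hy
        show ∑ i, φ ((x + y) i) • m i = 0
        simp_rw [Pi.add_apply, map_add, add_smul]
        rw [Finset.sum_add_distrib, hx', hy', add_zero]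
      zero_mem' := by
        show ∑ i, φ ((0 : Fin k → MvPolynomial s A) i) • m i = 0
        simp
      smul_mem' := by
        intro p x hx
        have hx' : ∑ i, φ (x i) • m i = 0 := hx
        show ∑ i, φ ((p • x) i) • m i = 0
        simp_rw [Pi.smul_apply, smul_eq_mul, map_mul, mul_smul]
        rw [← Finset.smul_sum, hx', smul_zero] } with hN
  have hNmem : ∀ v, v ∈ N ↔ ∑ i, φ (v i) • m i = 0 := fun v => Iff.rfl
  have hNsat : ∀ c : A, c ≠ 0 → ∀ v : Fin k → MvPolynomial s A, c • v ∈ N → v ∈ N := by
    intro c hc v hv
    rw [hNmem] at hv ⊢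
    have h2 : ∑ i, φ ((c • v) i) • m i = c • ∑ i, φ (v i) • m i := by
      rw [Finset.smul_sum]
      apply Finset.sum_congr rfl
      intro i _
      rw [Pi.smul_apply, map_smul, smul_assoc]
    rw [h2] at hv
    have hreg : IsSMulRegular M c :=
      Module.Flat.isSMulRegular_of_nonZeroDivisors (mem_nonZeroDivisors_of_ne_zero hc)
    apply hreg
    show c • ∑ i, φ (v i) • m i = c • 0
    rw [hv, smul_zero]
  have hNfg : N.FG := ValMKMod.fg_of_saturated_submodule A k N hNsat
  obtain ⟨S, hS⟩ := hNfg
  -- presentation
  set l : (Fin k → B) →ₗ[B] M := Fintype.linearCombination B m with hl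
  have hlsurj : Function.Surjective l := by
    rw [← LinearMap.range_eq_top, hl, Fintype.range_linearCombination, hm]
  apply Module.finitePresentation_of_surjective l hlsurj
  set S' : Set (Fin k → B) :=
    (fun v : Fin k → MvPolynomial s A => fun i => φ (v i)) '' (S : Set _) with hS'
  have hspan : ∀ w ∈ Submodule.span (MvPolynomial s A) (S : Set (Fin k → MvPolynomial s A)),
      (fun i => φ (w i)) ∈ Submodule.span B S' := by
    intro w hw
    refine Submodule.span_induction ?_ ?_ ?_ ?_ hw
    · intro v hv
      exact Submodule.subset_span ⟨v, hv, rfl⟩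
    · have : (fun i => φ ((0 : Fin k → MvPolynomial s A) i)) = (0 : Fin k → B) := by
        funext i; simp
      rw [this]
      exact Submodule.zero_mem _
    · intro x y _ _ hx hy
      have : (fun i => φ ((x + y) i)) = (fun i => φ (x i)) + (fun i => φ (y i)) := by
        funext i; simp
      rw [this]
      exact Submodule.add_mem _ hx hy
    · intro p x _ hx
      have : (fun i => φ ((p • x) i)) = φ p • (fun i => φ (x i)) := by
        funext i; simp
      rw [this]
      exact Submodule.smul_mem _ _ hx
  have hker : LinearMap.ker l = Submodule.span B S' := by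
    apply le_antisymm
    · intro κ hκ
      rw [LinearMap.mem_ker, hl, Fintype.linearCombination_apply] at hκ
      choose t ht1 ht2 ht3 using fun i => hs (κ i)
      set T := ∏ i, t i with hT
      have hTu : IsUnit T :=
        Finset.prod_induction _ IsUnit (fun _ _ => IsUnit.mul) isUnit_one (fun i _ => ht2 i)
      have hTmem : T ∈ Algebra.adjoin A (s : Set B) :=
        Subalgebra.prod_mem _ (fun i _ => ht1 i)
      have hκT : ∀ i, κ i * T ∈ Algebra.adjoin A (s : Set B) := by
        intro i
        have e : κ i * T = (κ i * t i) * ∏ j ∈ Finset.univ.erase i, t j := by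
          rw [hT, ← Finset.mul_prod_erase Finset.univ t (Finset.mem_univ i), mul_assoc]
        rw [e]
        exact Subalgebra.mul_mem _ (ht3 i) (Subalgebra.prod_mem _ (fun j _ => ht1 j))
      choose w hw using fun i => hrange _ (hκT i)
      have hwN : w ∈ N := by
        rw [hNmem]
        have : ∀ i, φ (w i) • m i = T • (κ i • m i) := by
          intro i
          rw [hw i, mul_comm, mul_smul]
        simp_rw [this]
        rw [← Finset.smul_sum, hκ, smul_zero]
      rw [← hS] at hwN
      have h1 := hspan w hwN
      have h2 : κ = (↑(hTu.unit⁻¹) : B) • (fun i => φ (w i)) := by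
        funext i
        rw [Pi.smul_apply, hw i, smul_eq_mul, mul_comm (κ i) T, ← mul_assoc,
          IsUnit.val_inv_mul, one_mul]
      rw [h2]
      exact Submodule.smul_mem _ _ h1
    · rw [Submodule.span_le]
      rintro _ ⟨v, hv, rfl⟩
      have hvN : v ∈ N := hS ▸ Submodule.subset_span hv
      rw [hNmem] at hvN
      rw [SetLike.mem_coe, LinearMap.mem_ker, hl, Fintype.linearCombination_apply]
      exact hvN
  rw [hker]
  exact Submodule.fg_span (S.finite_toSet.image _)

section flat
variable (V : Type*) [CommRing V] [IsDomain V] [ValuationRing V]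

/-- torsion-free modules over a valuation domain are flat. -/
theorem flat_of_torsionFree (M : Type*) [AddCommGroup M] [Module V M]
    (h : ∀ c : V, c ≠ 0 → ∀ x : M, c • x = 0 → x = 0) : Module.Flat V M := by
  rw [Module.Flat.flat_iff_torsion_eq_bot_of_isBezout, eq_bot_iff]
  rintro x ⟨⟨c, hc⟩, hx⟩
  exact h c (nonZeroDivisors.ne_zero hc) x hx

/-- flat modules over a domain are torsion-free (elementwise form). -/
theorem eq_zero_of_smul_eq_zero (M : Type*) [AddCommGroup M] [Module V M] [Module.Flat V M]
    (c : V) (hc : c ≠ 0) (x : M) (hx : c • x = 0) : x = 0 := by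
  have hreg : IsSMulRegular M c :=
    Module.Flat.isSMulRegular_of_nonZeroDivisors (mem_nonZeroDivisors_of_ne_zero hc)
  apply hreg
  show c • x = c • 0
  rw [hx, smul_zero]

/-- a module injecting additively and `V`-equivariantly into a flat module is flat. -/
theorem flat_of_injective (L F : Type*) [AddCommGroup L] [Module V L] [AddCommGroup F] [Module V F]
    [Module.Flat V F] (g : L →ₗ[V] F) (hg : Function.Injective g) : Module.Flat V L := by
  apply flat_of_torsionFree
  intro c hc x hx
  apply hg
  rw [map_zero]
  apply eq_zero_of_smul_eq_zero V F c hc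
  rw [← map_smul, hx, map_zero]

end flat

end Groth.Agent.Lib.Helper27.ValFP
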