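import Groth.Agent.Lib.Helper27.NagAU4

/-!
# Finiteness of the integral closure of a reduced Noetherian ring with N-2 quotients
-/

set_option autoImplicit false
set_option linter.style.haveILetI false
set_option linter.unusedSectionVars false
universe u
open TensorProduct

namespace Groth.Agent.Lib.Helper27.NagAU

/-- For a reduced Noetherian ring whose quotients by (minimal) primes are N-2, the integral closure
in the total ring of fractions is finite. -/
theorem finite_integralClosure_fractionRing (A : Type u) [CommRing A] [IsNoetherianRing A]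
    [IsReduced A] (hN : ∀ (p : Ideal A) [p.IsPrime], CAlg.IsN2 (A ⧸ p)) :
    Module.Finite A (integralClosure A (FractionRing A)) := by
  classical
  have hfin : (minimalPrimes A).Finite := minimalPrimes.finite_of_isNoetherianRing A
  let ι := {P : Ideal A // P ∈ minimalPrimes A}
  haveI : Finite ι := hfin.to_subtype
  haveI : Fintype ι := Fintype.ofFinite ι
  haveI hprime : ∀ P : ι, P.1.IsPrime := fun P => Ideal.IsMinimalPrime.isPrime P.2
  have hnzd : ∀ (P : ι), nonZeroDivisors A ≤
      (nonZeroDivisors (A ⧸ P.1)).comap (Ideal.Quotient.mk P.1) := by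
    intro P s hs
    rw [Submonoid.mem_comap]
    apply mem_nonZeroDivisors_of_ne_zero
    intro h0
    rw [Ideal.Quotient.eq_zero_iff_mem] at h0
    exact Set.disjoint_left.mp (Ideal.disjoint_nonZeroDivisors_of_mem_minimalPrimes P.2) h0 hs
  let ψ : (P : ι) → FractionRing A →+* FractionRing (A ⧸ P.1) := fun P =>
    IsLocalization.map (FractionRing (A ⧸ P.1)) (Ideal.Quotient.mk P.1) (hnzd P)
  have hψ : ∀ (P : ι) (a : A), ψ P (algebraMap A (FractionRing A) a) =
      algebraMap (A ⧸ P.1) (FractionRing (A ⧸ P.1)) (Ideal.Quotient.mk P.1 a) := fun P a =>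
    IsLocalization.map_eq (hnzd P) a
  have hint : ∀ (P : ι) (x : FractionRing A), IsIntegral A x → IsIntegral (A ⧸ P.1) (ψ P x) := by
    intro P x hx
    refine IsIntegral.map_of_comp_eq (Ideal.Quotient.mk P.1) (ψ P) ?_ hx
    ext a
    exact (hψ P a).symm
  let Ψ : integralClosure A (FractionRing A) →ₗ[A]
      ((P : ι) → integralClosure (A ⧸ P.1) (FractionRing (A ⧸ P.1))) :=
    { toFun := fun x P => ⟨ψ P x.1, hint P x.1 x.2⟩
      map_add' := fun x y => by
        funext P
        apply Subtype.ext
        simp
      map_smul' := fun a x => by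
        funext P
        apply Subtype.ext
        simp only [RingHom.id_apply, Pi.smul_apply]
        show ψ P (a • x.1) = a • ψ P x.1
        rw [Algebra.smul_def, map_mul, hψ, Algebra.smul_def,
          IsScalarTower.algebraMap_apply A (A ⧸ P.1) (FractionRing (A ⧸ P.1))]
        rfl }
  have hΨ : Function.Injective Ψ := by
    rw [injective_iff_map_eq_zero]
    intro x hx
    apply Subtype.ext
    obtain ⟨⟨a, s⟩, has⟩ := IsLocalization.surj (nonZeroDivisors A) x.1
    have ha : a = 0 := by
      have h1 : ∀ P : ι, a ∈ P.1 := by
        intro P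
        have h2 : ψ P x.1 = 0 := congrArg Subtype.val (congrFun hx P)
        have h3 : ψ P (algebraMap A (FractionRing A) a) = 0 := by
          rw [← has, map_mul, h2, zero_mul]
        rw [hψ] at h3
        have h4 := (IsFractionRing.injective (A ⧸ P.1) (FractionRing (A ⧸ P.1)))
          (h3.trans (map_zero _).symm)
        exact Ideal.Quotient.eq_zero_iff_mem.mp h4
      have h2 : a ∈ sInf (minimalPrimes A) := by
        rw [Ideal.mem_sInf]
        intro P hP
        exact h1 ⟨P, hP⟩
      have h3 : sInf (minimalPrimes A) = (⊥ : Ideal A).radical := Ideal.sInf_minimalPrimes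
      rw [h3] at h2
      have h4 : (⊥ : Ideal A).radical = nilradical A := rfl
      rw [h4, nilradical_eq_zero] at h2
      exact h2
    have hsu : IsUnit (algebraMap A (FractionRing A) s) := IsLocalization.map_units _ s
    have : x.1 * algebraMap A (FractionRing A) s = 0 := by
      rw [has]; simp [ha]
    exact (hsu.mul_left_eq_zero).mp this
  haveI : ∀ P : ι, Module.Finite A (integralClosure (A ⧸ P.1) (FractionRing (A ⧸ P.1))) := by
    intro P
    haveI : Module.Finite (A ⧸ P.1) (integralClosure (A ⧸ P.1) (FractionRing (A ⧸ P.1))) :=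
      hN P.1 (FractionRing (A ⧸ P.1)) inferInstance
    exact Module.Finite.trans (A ⧸ P.1) _
  exact Module.Finite.of_injective Ψ hΨ

end Groth.Agent.Lib.Helper27.NagAU
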