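import Groth.Agent.Lib.Helper27.FFExt4

/-! Function fields of one variable (helper27): finite extensions `K'/K`, part 7.
Galois extensions: the Galois group acts transitively on the places above a place. -/

set_option autoImplicit false

namespace Groth.Agent.Lib.Helper27.FF

open FunFld Polynomial IntermediateField
open Groth.Agent.Lib.Helper23.FF (Place.comapEquiv Place.comapEquiv_apply weak_approx)

universe u v w

variable {k : Type u} {K : Type v} {K' : Type w} [Field k] [Field K] [Field K'] [Algebra k K]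
  [Algebra K K'] [Algebra k K'] [IsScalarTower k K K']

/-- the action of `Gal(K'/K)` on places of `K'`: `σ • Q = Q ∘ σ`. -/
def actP (σ : K' ≃ₐ[K] K') (Q : Place k K') : Place k K' :=
  Place.comapEquiv (σ.restrictScalars k) Q

theorem actP_apply (σ : K' ≃ₐ[K] K') (Q : Place k K') (z : K') :
    (actP (k := k) σ Q).1 z = Q.1 (σ z) := rfl

theorem actP_one (Q : Place k K') : actP (k := k) (1 : K' ≃ₐ[K] K') Q = Q := by
  apply Subtype.ext
  ext z
  rfl

theorem actP_mul (σ τ : K' ≃ₐ[K] K') (Q : Place k K') :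
    actP (k := k) (σ * τ) Q = actP τ (actP σ Q) := by
  apply Subtype.ext
  ext z
  rfl

theorem isOverWith_actP {Q : Place k K'} {P : Place k K} {e : ℕ} (h : IsOverWith Q P e)
    (σ : K' ≃ₐ[K] K') : IsOverWith (actP σ Q) P e := by
  intro x
  rw [actP_apply, σ.commutes]
  exact h x

theorem isOver_of_isEquiv (hK : IsFunctionField k K) [Algebra.IsAlgebraic K K']
    {Q₁ Q₂ : Place k K'} {P : Place k K}
    (h₁ : IsOver Q₁ P)
    (h : (Q₁.1.comap (algebraMap K K')).IsEquiv (Q₂.1.comap (algebraMap K K'))) :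
    IsOver Q₂ P := by
  obtain ⟨e₁, he₁⟩ := h₁
  obtain ⟨P₂, e₂, he₂⟩ := exists_isOverWith hK Q₂
  have : P = P₂ := by
    apply Groth.Agent.Lib.Helper23.FF.place_eq_of_lt_one_imp
    intro x hx
    have h1 := (isOverWith_val_lt_one_iff he₁ x).mpr hx
    have h2 : Q₂.1 (algebraMap K K' x) < 1 := (Valuation.isEquiv_iff_val_lt_one.mp h).mp h1
    exact (isOverWith_val_lt_one_iff he₂ x).mp h2
  subst this
  exact ⟨e₂, he₂⟩

/-- the Galois group acts transitively on the places above `P`. -/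
theorem exists_actP_eq (hK : IsFunctionField k K) [FiniteDimensional K K'] [IsGalois K K']
    {Q₁ Q₂ : Place k K'} {P : Place k K} (h₁ : IsOver Q₁ P) (h₂ : IsOver Q₂ P) :
    ∃ σ : K' ≃ₐ[K] K', actP σ Q₁ = Q₂ := by
  classical
  by_contra hcon
  push Not at hcon
  have hfin := (sum_ramIdx_mul_deg (K' := K') hK P).1
  set S : Finset (Place k K') := hfin.toFinset with hS
  have hmemS : ∀ Q, Q ∈ S ↔ IsOver Q P := fun Q => hfin.mem_toFinset
  obtain ⟨z, hz⟩ := weak_approx (fun Q : ↥S => (Q : Place k K')) Subtype.coe_injective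
    (fun Q => if (Q : Place k K') = Q₂ then 0 else 1) 1
  have hlt : (WithZero.exp (-((1 : ℕ) : ℤ)) : WithZero (Multiplicative ℤ)) < 1 := by
    rw [← WithZero.exp_zero, WithZero.exp_lt_exp]; norm_num
  have hz2 : Q₂.1 z < 1 := by
    have := hz ⟨Q₂, (hmemS _).mpr h₂⟩
    rw [if_pos rfl, sub_zero] at this
    exact lt_of_le_of_lt this hlt
  have hz1 : ∀ Q, IsOver Q P → Q ≠ Q₂ → Q.1 z = 1 := by
    intro Q hQ hne
    have := hz ⟨Q, (hmemS _).mpr hQ⟩
    rw [if_neg hne] at this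
    have h3 : Q.1 (z - 1) < Q.1 1 := by
      rw [map_one]; exact lt_of_le_of_lt this hlt
    have h4 : z = 1 + (z - 1) := by ring
    rw [h4, Valuation.map_add_eq_of_lt_left _ h3, map_one]
  have hnorm := Algebra.norm_eq_prod_automorphisms K z
  set n := Algebra.norm K z with hn
  -- value at Q₂
  have hQ2 : Q₂.1 (algebraMap K K' n) < 1 := by
    rw [hnorm, map_prod, ← Finset.mul_prod_erase Finset.univ _ (Finset.mem_univ (1 : K' ≃ₐ[K] K'))]
    have h5 : ∏ σ ∈ Finset.univ.erase (1 : K' ≃ₐ[K] K'), Q₂.1 (σ z) ≤ 1 := by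
      apply Finset.prod_le_one'
      intro σ _
      obtain ⟨e₂, he₂⟩ := h₂
      have hover : IsOver (actP σ Q₂) P := ⟨e₂, isOverWith_actP he₂ σ⟩
      by_cases heq : actP σ Q₂ = Q₂
      · have : (actP (k := k) σ Q₂).1 z < 1 := by rw [heq]; exact hz2
        exact this.le
      · exact (hz1 _ hover heq).le
    calc Q₂.1 ((1 : K' ≃ₐ[K] K') z) * ∏ σ ∈ Finset.univ.erase (1 : K' ≃ₐ[K] K'), Q₂.1 (σ z)
        ≤ Q₂.1 ((1 : K' ≃ₐ[K] K') z) * 1 := mul_le_mul' le_rfl h5
      _ = Q₂.1 z := by rw [mul_one]; rfl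
      _ < 1 := hz2
  -- value at Q₁
  have hQ1 : Q₁.1 (algebraMap K K' n) = 1 := by
    rw [hnorm, map_prod]
    apply Finset.prod_eq_one
    intro σ _
    obtain ⟨e₁, he₁⟩ := h₁
    exact hz1 (actP σ Q₁) ⟨e₁, isOverWith_actP he₁ σ⟩ (hcon σ)
  obtain ⟨e₁, he₁⟩ := h₁
  obtain ⟨e₂, he₂⟩ := h₂
  have h6 := (isOverWith_val_lt_one_iff he₂ n).mp hQ2
  have h7 := (isOverWith_val_lt_one_iff he₁ n).mpr h6
  rw [hQ1] at h7
  exact lt_irrefl _ h7

end Groth.Agent.Lib.Helper27.FF
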