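import Mathlib
import Groth.Prelude.Def_W4bk4goldsch23FF

/-! Quadratic extensions `y² = f(x)` of `k(x)`: constants. -/

namespace Groth.Agent.Lib.Helper27.Hyper
open Polynomial IntermediateField

variable {k : Type*} [Field k]

theorem no_square_mul (f : k[X]) (hf : Squarefree f) (hd : 1 ≤ f.natDegree) (p q : k[X])
    (hpq : IsCoprime p q) (c : k) (hc : c ≠ 0) (h : p ^ 2 * f = C c * q ^ 2) : False := by
  have hf0 : f ≠ 0 := by
    rintro rfl
    simp at hd
  have hfu : ¬ IsUnit f := by
    intro hu
    have := natDegree_eq_zero_of_isUnit hu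
    omega
  obtain ⟨π, hπ, hπf⟩ := WfDvdMonoid.exists_irreducible_factor hfu hf0
  have hπp : Prime π := hπ.prime
  obtain ⟨g, rfl⟩ := hπf
  have hcu : IsUnit (C c : k[X]) := isUnit_C.mpr (IsUnit.mk0 c hc)
  have h1 : π ∣ C c * q ^ 2 := ⟨p ^ 2 * g, by rw [← h]; ring⟩
  have h2 : π ∣ q := by
    rcases hπp.dvd_or_dvd h1 with h3 | h3
    · exact absurd (isUnit_of_dvd_unit h3 hcu) hπ.not_isUnit
    · exact hπp.dvd_of_dvd_pow h3
  obtain ⟨q', rfl⟩ := h2
  have h4 : p ^ 2 * g = C c * π * q' ^ 2 := by
    have : π * (p ^ 2 * g) = π * (C c * π * q' ^ 2) := by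
      rw [show π * (p ^ 2 * g) = p ^ 2 * (π * g) by ring, h]
      ring
    exact mul_left_cancel₀ hπp.ne_zero this
  have h5 : π ∣ p ^ 2 * g := ⟨C c * q' ^ 2, by rw [h4]; ring⟩
  rcases hπp.dvd_or_dvd h5 with h6 | h6
  · have h7 : π ∣ p := hπp.dvd_of_dvd_pow h6
    have h8 : IsUnit π := hpq.isUnit_of_dvd' h7 (dvd_mul_right π q')
    exact hπ.not_isUnit h8
  · obtain ⟨g', rfl⟩ := h6
    exact hπ.not_isUnit (hf π ⟨g', by ring⟩)

theorem ratFunc_sq_mul_ne_C (f : k[X]) (hf : Squarefree f) (hd : 1 ≤ f.natDegree)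
    (b : RatFunc k) (c : k) (hc : c ≠ 0) :
    b ^ 2 * algebraMap k[X] (RatFunc k) f ≠ RatFunc.C c := by
  intro h
  have hden : algebraMap k[X] (RatFunc k) b.denom ≠ 0 := RatFunc.algebraMap_ne_zero b.denom_ne_zero
  have hb := RatFunc.num_div_denom b
  have h1 : algebraMap k[X] (RatFunc k) (b.num ^ 2 * f) =
      algebraMap k[X] (RatFunc k) (C c * b.denom ^ 2) := by
    have h' : (algebraMap k[X] (RatFunc k) b.num / algebraMap k[X] (RatFunc k) b.denom) ^ 2 *
        algebraMap k[X] (RatFunc k) f = RatFunc.C c := by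
      rw [hb]
      exact h
    rw [map_mul, map_mul, map_pow, map_pow, RatFunc.algebraMap_C, ← h']
    field_simp
  have h2 := (IsFractionRing.injective k[X] (RatFunc k)) h1
  exact no_square_mul f hf hd _ _ (RatFunc.isCoprime_num_denom b) c hc h2


theorem ratFunc_algebraic (r : RatFunc k) (hr : IsAlgebraic k r) : ∃ c : k, r = RatFunc.C c := by
  by_contra h
  exact RatFunc.transcendental_of_ne_C r h hr

section Quad
variable {K : Type*} [Field K] [Algebra k K] [Algebra (RatFunc k) K]
  [IsScalarTower k (RatFunc k) K]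

theorem not_mem_range_of_sq (y : K) (f : k[X]) (hf : Squarefree f) (hd : 1 ≤ f.natDegree)
    (heq : y ^ 2 = algebraMap (RatFunc k) K (algebraMap k[X] (RatFunc k) f)) :
    y ∉ Set.range (algebraMap (RatFunc k) K) := by
  rintro ⟨b, rfl⟩
  rw [← map_pow] at heq
  have hb2 : b ^ 2 = algebraMap k[X] (RatFunc k) f := (algebraMap (RatFunc k) K).injective heq
  have hf0 : f ≠ 0 := by
    rintro rfl
    simp at hd
  have hF0 : algebraMap k[X] (RatFunc k) f ≠ 0 := RatFunc.algebraMap_ne_zero hf0
  have hb0 : b ≠ 0 := by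
    rintro rfl
    rw [zero_pow two_ne_zero] at hb2
    exact hF0 hb2.symm
  refine ratFunc_sq_mul_ne_C f hf hd b⁻¹ 1 one_ne_zero ?_
  rw [← hb2, map_one]
  field_simp

/-- In a quadratic extension `y² = f(x)` of `k(x)` with `f` squarefree nonconstant (`char ≠ 2`),
the elements algebraic over `k` are the constants. -/
theorem constants_of_quadratic (h2 : (2 : k) ≠ 0) (y : K) (f : k[X]) (hf : Squarefree f)
    (hd : 1 ≤ f.natDegree)
    (heq : y ^ 2 = algebraMap (RatFunc k) K (algebraMap k[X] (RatFunc k) f))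
    (hrank : Module.finrank (RatFunc k) K = 2) (z : K) (hz : IsAlgebraic k z) :
    z ∈ Set.range (algebraMap k K) := by
  haveI : FiniteDimensional (RatFunc k) K := Module.finite_of_finrank_pos (by omega)
  have hyR := not_mem_range_of_sq y f hf hd heq
  have hf0 : f ≠ 0 := by
    rintro rfl
    simp at hd
  have hF0 : algebraMap k[X] (RatFunc k) f ≠ 0 := RatFunc.algebraMap_ne_zero hf0
  by_cases hzR : z ∈ Set.range (algebraMap (RatFunc k) K)
  · obtain ⟨r, rfl⟩ := hzR
    have : IsAlgebraic k r := (isAlgebraic_algebraMap_iff (algebraMap (RatFunc k) K).injective).mp hz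
    obtain ⟨c, rfl⟩ := ratFunc_algebraic r this
    exact ⟨c, by rw [IsScalarTower.algebraMap_apply k (RatFunc k) K, RatFunc.algebraMap_eq_C]⟩
  · exfalso
    have hzint : IsIntegral (RatFunc k) z := .of_finite (RatFunc k) z
    have hμmonic : (minpoly (RatFunc k) z).Monic := minpoly.monic hzint
    have hzk : IsIntegral k z := hz.isIntegral
    have hdvd : minpoly (RatFunc k) z ∣ (minpoly k z).map (algebraMap k (RatFunc k)) :=
      minpoly.dvd_map_of_isScalarTower k (RatFunc k) z
    have hcoef : ∀ i, ∃ c : k, (minpoly (RatFunc k) z).coeff i = RatFunc.C c := fun i => by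
      have := Polynomial.isIntegral_coeff_of_dvd (minpoly k z) (minpoly (RatFunc k) z)
        (minpoly.monic hzk) hμmonic hdvd i
      exact ratFunc_algebraic _ this.isAlgebraic
    have hdeg : (minpoly (RatFunc k) z).natDegree = 2 := by
      have hle : (minpoly (RatFunc k) z).natDegree ≤ 2 := hrank ▸ minpoly.natDegree_le z
      have h2le := (minpoly.two_le_natDegree_iff hzint).mpr (by simpa using hzR)
      omega
    obtain ⟨c1, hc1⟩ := hcoef 1
    obtain ⟨c0, hc0⟩ := hcoef 0
    have hroot : z ^ 2 + algebraMap k K c1 * z + algebraMap k K c0 = 0 := by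
      have h := minpoly.aeval (RatFunc k) z
      rw [Polynomial.aeval_eq_sum_range, hdeg, Finset.sum_range_succ, Finset.sum_range_succ,
        Finset.sum_range_one, hc0, hc1] at h
      have hlead : (minpoly (RatFunc k) z).coeff 2 = 1 := by
        have := hμmonic.coeff_natDegree
        rwa [hdeg] at this
      rw [hlead, one_smul, pow_zero, pow_one, Algebra.smul_def, Algebra.smul_def, mul_one,
        ← RatFunc.algebraMap_eq_C, ← IsScalarTower.algebraMap_apply,
        ← IsScalarTower.algebraMap_apply] at h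
      rw [← h]
      ring
    have h2K : (2 : K) ≠ 0 := by
      have : algebraMap k K 2 ≠ 0 := (_root_.map_ne_zero _).mpr h2
      rwa [map_ofNat] at this
    set w : K := z + algebraMap k K (c1 / 2) with hw
    have hw2 : w ^ 2 = algebraMap k K (c1 ^ 2 / 4 - c0) := by
      have h4K : (4 : K) ≠ 0 := by
        have : (4 : K) = 2 * 2 := by norm_num
        rw [this]
        exact mul_ne_zero h2K h2K
      rw [hw, map_sub, map_div₀, map_div₀, map_pow, map_ofNat, map_ofNat]
      have e2 : (z + algebraMap k K c1 / 2) ^ 2 - (algebraMap k K c1 ^ 2 / 4 - algebraMap k K c0) =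
          z ^ 2 + algebraMap k K c1 * z + algebraMap k K c0 := by
        field_simp
        ring
      rw [hroot, sub_eq_zero] at e2
      exact e2
    have hwR : w ∉ Set.range (algebraMap (RatFunc k) K) := by
      rintro ⟨r, hr⟩
      apply hzR
      refine ⟨r - RatFunc.C (c1 / 2), ?_⟩
      rw [map_sub, hr, hw, ← RatFunc.algebraMap_eq_C, ← IsScalarTower.algebraMap_apply]
      ring
    have hli : LinearIndependent (RatFunc k) ![(1 : K), w] := by
      rw [LinearIndependent.pair_iff' one_ne_zero]
      intro a ha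
      apply hwR
      exact ⟨a, by rw [← ha, Algebra.smul_def, mul_one]⟩
    have hspan := hli.span_eq_top_of_card_eq_finrank' (by simp [hrank])
    have hy : y ∈ Submodule.span (RatFunc k) (Set.range ![(1 : K), w]) := by
      rw [hspan]
      trivial
    have hrange : Set.range ![(1 : K), w] = {1, w} := by
      ext v
      simp only [Matrix.range_cons, Matrix.range_empty, Set.union_empty, Set.mem_union,
        Set.mem_singleton_iff, Set.mem_insert_iff]
    rw [hrange, Submodule.mem_span_pair] at hy
    obtain ⟨a, b, hab⟩ := hy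
    rw [Algebra.smul_def, Algebra.smul_def, mul_one] at hab
    set c : k := c1 ^ 2 / 4 - c0 with hc
    have hexp : (a ^ 2 + b ^ 2 * RatFunc.C c - algebraMap k[X] (RatFunc k) f) • (1 : K) +
        (2 * a * b) • w = 0 := by
      rw [Algebra.smul_def, Algebra.smul_def, mul_one, map_sub, map_add, map_mul, map_mul,
        map_mul, map_pow, map_pow, ← heq, ← hab, ← RatFunc.algebraMap_eq_C,
        ← IsScalarTower.algebraMap_apply, map_ofNat]
      have : (algebraMap (RatFunc k) K a + algebraMap (RatFunc k) K b * w) ^ 2 =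
          algebraMap (RatFunc k) K a ^ 2 + 2 * algebraMap (RatFunc k) K a *
            algebraMap (RatFunc k) K b * w + algebraMap (RatFunc k) K b ^ 2 * w ^ 2 := by ring
      rw [this, hw2]
      ring
    have hcoefs := LinearIndependent.pair_iff.mp hli _ _ hexp
    obtain ⟨hA, hB⟩ := hcoefs
    have h2R : (2 : RatFunc k) ≠ 0 := by
      have : algebraMap k (RatFunc k) 2 ≠ 0 := (_root_.map_ne_zero _).mpr h2
      rwa [map_ofNat] at this
    rcases mul_eq_zero.mp hB with h3 | hb0
    · rcases mul_eq_zero.mp h3 with h4 | ha0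
      · exact h2R h4
      · -- a = 0
        rw [ha0, zero_pow two_ne_zero, zero_add, sub_eq_zero] at hA
        have hb0 : b ≠ 0 := by
          rintro rfl
          rw [zero_pow two_ne_zero, zero_mul] at hA
          exact hF0 hA.symm
        have hc0' : c ≠ 0 := by
          intro h0
          rw [h0, map_zero, mul_zero] at hA
          exact hF0 hA.symm
        refine ratFunc_sq_mul_ne_C f hf hd b⁻¹ c hc0' ?_
        rw [← hA]
        field_simp
    · apply hyR
      refine ⟨a, ?_⟩
      rw [← hab, hb0, map_zero, zero_mul, add_zero]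

end Quad

end Groth.Agent.Lib.Helper27.Hyper
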