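import Mathlib
import Groth.Prelude.Def_W4bk4goldsch23FF
import Groth.Prelude.Def_W4bk4goldsch23Ext
import Groth.Agent.Lib.Helper27.Hyper1
import Groth.Agent.Lib.Helper27.Rat3
import Groth.Agent.Lib.Helper27.FFExt2

/-! Hyperelliptic function fields `y² = f(x)` as extensions of `k(x)`: ramification. -/

namespace Groth.Agent.Lib.Helper27.Hyper
open FunFld WithZero Polynomial

universe u v
variable {k : Type u} {K : Type v} [Field k] [Field K] [Algebra k K] [Algebra (RatFunc k) K]
  [IsScalarTower k (RatFunc k) K]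

theorem isFunctionField_of_quadratic (h2 : (2 : k) ≠ 0) (y : K) (f : k[X]) (hf : Squarefree f)
    (hd : 1 ≤ f.natDegree)
    (heq : y ^ 2 = algebraMap (RatFunc k) K (algebraMap k[X] (RatFunc k) f))
    (hrank : Module.finrank (RatFunc k) K = 2) : IsFunctionField k K := by
  haveI : FiniteDimensional (RatFunc k) K := Module.finite_of_finrank_pos (by omega)
  refine ⟨⟨algebraMap (RatFunc k) K RatFunc.X, ?_, ?_⟩,
    constants_of_quadratic h2 y f hf hd heq hrank⟩
  · exact (transcendental_algebraMap_iff (algebraMap (RatFunc k) K).injective).mpr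
      RatFunc.transcendental_X
  · haveI : FiniteDimensional (IntermediateField.adjoin k {(RatFunc.X : RatFunc k)})
        (RatFunc k) :=
      Module.Finite.of_surjective
        (Algebra.linearMap (IntermediateField.adjoin k {(RatFunc.X : RatFunc k)}) (RatFunc k))
        (Rat.surjective_algebraMap_adjoin_X k)
    exact FF.finiteDimensional_adjoin_algebraMap (RatFunc.X : RatFunc k)

/-- If `ord_P(f)` is odd, every place above `P` has ramification index `2`, there is exactly one,
and it has the degree of `P`. -/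
theorem ramified_of_odd (h2 : (2 : k) ≠ 0) (y : K) (f : k[X]) (hf : Squarefree f)
    (hd : 1 ≤ f.natDegree)
    (heq : y ^ 2 = algebraMap (RatFunc k) K (algebraMap k[X] (RatFunc k) f))
    (hrank : Module.finrank (RatFunc k) K = 2) (P₀ : Place k (RatFunc k))
    (hodd : Odd (P₀.ord (algebraMap k[X] (RatFunc k) f))) :
    (∃! P : Place k K, IsOver P P₀) ∧
      ∀ P : Place k K, IsOver P P₀ → IsOverWith P P₀ 2 ∧ P.deg = P₀.deg := by
  haveI : FiniteDimensional (RatFunc k) K := Module.finite_of_finrank_pos (by omega)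
  have hK₀ := Rat.isFunctionField_ratFunc k
  have hK := isFunctionField_of_quadratic h2 y f hf hd heq hrank
  have hall : ∀ Q : Place k K, IsOver Q P₀ → IsOverWith Q P₀ 2 := by
    rintro Q ⟨e, he⟩
    have h1 := Rat.even_of_sq he heq hodd
    have h2 : e ≤ 2 := hrank ▸ Rat.ramIdx_le_finrank he
    have h3 := FF.isOverWith_pos he
    obtain ⟨c, hc⟩ := h1
    have : e = 2 := by omega
    rwa [this] at he
  obtain ⟨hu, hdeg⟩ := Rat.unique_of_totally_ramified hK₀ hK P₀ (by rw [hrank]; exact hall)
  exact ⟨hu, fun P hP => ⟨hall P hP, hdeg P hP⟩⟩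

end Groth.Agent.Lib.Helper27.Hyper
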