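import Mathlib
import Groth.Prelude.Def_W4bk4goldsch23FF
import Groth.Prelude.Def_W4bk4goldsch23Ext
import Groth.Agent.Lib.Helper27.Hyper2
import Groth.Agent.Lib.Helper27.FFExt7
import Groth.Agent.Lib.Helper27.FunFld22

/-! `L`-spaces of conorm divisors in a finite extension; `L`-spaces of `k(x)`. -/

namespace Groth.Agent.Lib.Helper27.Hyper
open FunFld WithZero Polynomial

section General
universe u v w
variable {k : Type u} {K : Type v} {K' : Type w} [Field k] [Field K] [Field K'] [Algebra k K]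
  [Algebra K K'] [Algebra k K'] [IsScalarTower k K K']

theorem exists_isOver (hK : IsFunctionField k K) [FiniteDimensional K K'] (P : Place k K) :
    ∃ Q : Place k K', IsOver Q P := by
  classical
  obtain ⟨hfin, hsum⟩ := FF.sum_ramIdx_mul_deg (K' := K') hK P
  have h1 := hsum hfin.toFinset (fun Q => hfin.mem_toFinset)
  by_contra hcon
  push Not at hcon
  have hempty : hfin.toFinset = ∅ := by
    rw [Finset.eq_empty_iff_forall_notMem]
    intro Q hQ
    exact hcon Q (hfin.mem_toFinset.mp hQ)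
  rw [hempty, Finset.sum_empty] at h1
  have h2 : 0 < Module.finrank K K' * P.deg :=
    Nat.mul_pos Module.finrank_pos (Helper23.FF.deg_pos hK P)
  omega

theorem conorm_apply_of_isOverWith (hK : IsFunctionField k K) [FiniteDimensional K K']
    (D : Divisor k K) {Q : Place k K'} {P : Place k K} {e : ℕ} (he : IsOverWith Q P e) :
    conorm K' D Q = D P * e := by
  rw [FF.conorm_apply hK D ⟨e, he⟩, FF.ramIdx_eq he]

theorem algebraMap_mem_L_conorm_iff (hK : IsFunctionField k K) [FiniteDimensional K K']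
    (D : Divisor k K) (r : K) : algebraMap K K' r ∈ L (conorm K' D) ↔ r ∈ L D := by
  constructor
  · intro h P
    obtain ⟨Q, e, he⟩ := exists_isOver (K' := K') hK P
    have h1 := h Q
    rw [conorm_apply_of_isOverWith hK D he, he r] at h1
    have he1 := FF.isOverWith_pos he
    have h2 : exp (D P * (e : ℤ)) = exp (D P) ^ e := by
      rw [← exp_nsmul]; congr 1; simp [mul_comm]
    rw [h2] at h1
    exact (pow_le_pow_iff_left₀ zero_le zero_le (by omega)).mp h1
  · intro h Q
    obtain ⟨P, e, he⟩ := FF.exists_isOverWith hK Q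
    rw [conorm_apply_of_isOverWith hK D he, he r]
    have h2 : exp (D P * (e : ℤ)) = exp (D P) ^ e := by
      rw [← exp_nsmul]; congr 1; simp [mul_comm]
    rw [h2]
    exact pow_le_pow_left₀ zero_le (h P) e

theorem map_mem_L_conorm (hK : IsFunctionField k K) [FiniteDimensional K K']
    (D : Divisor k K) (σ : K' ≃ₐ[K] K') {z : K'} (hz : z ∈ L (conorm K' D)) :
    σ z ∈ L (conorm K' D) := by
  intro Q
  obtain ⟨P, e, he⟩ := FF.exists_isOverWith hK Q
  have h1 := hz (FF.actP σ Q)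
  rw [FF.actP_apply, conorm_apply_of_isOverWith hK D (FF.isOverWith_actP he σ)] at h1
  rw [conorm_apply_of_isOverWith hK D he]
  exact h1

end General

section RatL
universe u
variable {k : Type u} [Field k]

theorem exists_inf : ∃ P : Place k (RatFunc k), 1 < P.1 RatFunc.X := by
  have hK := Rat.isFunctionField_ratFunc k
  have h1 := FF.deg_poleDiv_eq hK (RatFunc.transcendental_X (K := k))
  rw [Rat.finrank_adjoin_X] at h1
  have hne : FF.poleDiv k (RatFunc.X : RatFunc k) ≠ 0 := by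
    intro h0
    rw [h0] at h1
    simp [Divisor.deg] at h1
  obtain ⟨P, hP⟩ := Finsupp.ne_iff.mp hne
  refine ⟨P, ?_⟩
  rw [FF.poleDiv_apply hK, Finsupp.zero_apply] at hP
  have hord : P.ord (RatFunc.X : RatFunc k) < 0 := by
    by_contra hge
    rw [not_lt] at hge
    exact hP (max_eq_right (by omega))
  have hX0 : P.1 (RatFunc.X : RatFunc k) ≠ 0 := (_root_.map_ne_zero _).mpr RatFunc.X_ne_zero
  obtain ⟨m, hm⟩ : ∃ m : ℤ, P.1 (RatFunc.X : RatFunc k) = exp m := ⟨_, (exp_log hX0).symm⟩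
  unfold Place.ord at hord
  rw [hm, log_exp] at hord
  rw [hm, ← exp_zero, exp_lt_exp]
  omega

theorem inf_unique {P Q : Place k (RatFunc k)} (hP : 1 < P.1 RatFunc.X)
    (hQ : 1 < Q.1 RatFunc.X) : P = Q := by
  apply Subtype.ext
  ext r
  by_cases hr : r = 0
  · rw [hr, map_zero, map_zero]
  · have hdiv := RatFunc.num_div_denom r
    rw [← hdiv, map_div₀, map_div₀, Rat.val_poly_of_one_lt P hP (RatFunc.num_ne_zero hr),
      Rat.val_poly_of_one_lt P hP r.denom_ne_zero,
      Rat.val_poly_of_one_lt Q hQ (RatFunc.num_ne_zero hr),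
      Rat.val_poly_of_one_lt Q hQ r.denom_ne_zero, Rat.val_X_eq_of_one_lt P hP,
      Rat.val_X_eq_of_one_lt Q hQ]

theorem ord_X_of_one_lt {P : Place k (RatFunc k)} (hP : 1 < P.1 RatFunc.X) :
    P.ord (RatFunc.X : RatFunc k) = -1 := by
  unfold Place.ord
  rw [Rat.val_X_eq_of_one_lt P hP, log_exp]

theorem ord_X_nonneg_of_ne {P Q : Place k (RatFunc k)} (hP : 1 < P.1 RatFunc.X) (hQ : Q ≠ P) :
    0 ≤ Q.ord (RatFunc.X : RatFunc k) := by
  by_contra hlt
  rw [not_le] at hlt
  apply hQ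
  apply inf_unique _ hP
  have hX0 : Q.1 (RatFunc.X : RatFunc k) ≠ 0 := (_root_.map_ne_zero _).mpr RatFunc.X_ne_zero
  obtain ⟨m, hm⟩ : ∃ m : ℤ, Q.1 (RatFunc.X : RatFunc k) = exp m := ⟨_, (exp_log hX0).symm⟩
  unfold Place.ord at hlt
  rw [hm, log_exp] at hlt
  rw [hm, ← exp_zero, exp_lt_exp]
  omega

theorem val_X_le_one_of_ne {P Q : Place k (RatFunc k)} (hP : 1 < P.1 RatFunc.X) (hQ : Q ≠ P) :
    Q.1 (RatFunc.X : RatFunc k) ≤ 1 := by
  by_contra hlt
  rw [not_le] at hlt
  exact hQ (inf_unique hlt hP)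

theorem genus_ratFunc : genus k (RatFunc k) = 0 := by
  obtain ⟨P, hP⟩ := exists_inf (k := k)
  exact FF.genus_eq_zero_of_simple_pole (Rat.isFunctionField_ratFunc k) (Rat.deg_of_one_lt P hP)
    (ord_X_of_one_lt hP) (fun Q hQ => ord_X_nonneg_of_ne hP hQ)

theorem poly_mem_L {P : Place k (RatFunc k)} (hP : 1 < P.1 RatFunc.X) {n : ℕ} {p : k[X]}
    (hp : p.natDegree ≤ n) :
    algebraMap k[X] (RatFunc k) p ∈ L (Finsupp.single P (n : ℤ) : Divisor k (RatFunc k)) := by
  intro Q
  by_cases hQ : Q = P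
  · subst hQ
    rw [Finsupp.single_eq_same]
    by_cases hp0 : p = 0
    · rw [hp0, map_zero, map_zero]; exact zero_le
    · rw [Rat.val_poly_of_one_lt Q hP hp0, Rat.val_X_eq_of_one_lt Q hP, ← exp_nsmul, exp_le_exp]
      simp only [nsmul_eq_mul, mul_one]
      exact_mod_cast hp
  · rw [Finsupp.single_eq_of_ne hQ, exp_zero]
    exact Rat.val_poly_le_one Q (val_X_le_one_of_ne hP hQ) p

theorem exists_poly_of_mem_L {P : Place k (RatFunc k)} (hP : 1 < P.1 RatFunc.X) {n : ℕ}
    {r : RatFunc k} (hr : r ∈ L (Finsupp.single P (n : ℤ) : Divisor k (RatFunc k))) :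
    ∃ p : k[X], p.natDegree ≤ n ∧ algebraMap k[X] (RatFunc k) p = r := by
  have hr' : r ∈ L ((n : ℤ) • (Finsupp.single P 1 : Divisor k (RatFunc k))) := by
    rwa [Finsupp.smul_single, smul_eq_mul, mul_one]
  obtain ⟨p, hp, hpr⟩ := FF.exists_aeval_eq_of_mem_L (Rat.isFunctionField_ratFunc k) genus_ratFunc
    (Rat.deg_of_one_lt P hP) (ord_X_of_one_lt hP) (fun Q hQ => ord_X_nonneg_of_ne hP hQ) n hr'
  refine ⟨p, ?_, ?_⟩
  · rw [Polynomial.mem_degreeLT] at hp
    by_cases hp0 : p = 0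
    · rw [hp0]; simp
    · rw [Polynomial.degree_eq_natDegree hp0] at hp
      have : p.natDegree < n + 1 := by exact_mod_cast hp
      omega
  · rw [← hpr, RatFunc.aeval_X_left_eq_algebraMap]

/-- `b² f` a polynomial with `f` squarefree forces `b` to be a polynomial. -/
theorem isPoly_of_sq_mul {f : k[X]} (hf : Squarefree f) {b : RatFunc k} {c : k[X]}
    (h : b ^ 2 * algebraMap k[X] (RatFunc k) f = algebraMap k[X] (RatFunc k) c) :
    ∃ u : k[X], b = algebraMap k[X] (RatFunc k) u := by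
  have hden : algebraMap k[X] (RatFunc k) b.denom ≠ 0 := RatFunc.algebraMap_ne_zero b.denom_ne_zero
  have hb := RatFunc.num_div_denom b
  have hbD : b * algebraMap k[X] (RatFunc k) b.denom = algebraMap k[X] (RatFunc k) b.num :=
    (eq_div_iff hden).mp hb.symm
  have h1 : algebraMap k[X] (RatFunc k) (b.num ^ 2 * f) =
      algebraMap k[X] (RatFunc k) (c * b.denom ^ 2) := by
    rw [map_mul, map_mul, map_pow, map_pow, ← hbD, mul_pow, ← h]
    ring
  have h2 : b.num ^ 2 * f = c * b.denom ^ 2 := IsFractionRing.injective k[X] (RatFunc k) h1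
  have hcop : IsCoprime (b.denom ^ 2) (b.num ^ 2) := (RatFunc.isCoprime_num_denom b).symm.pow
  have hdvd : b.denom ^ 2 ∣ f := hcop.dvd_of_dvd_mul_left ⟨c, by rw [h2]; ring⟩
  have hu : IsUnit b.denom := hf b.denom (by rw [← pow_two]; exact hdvd)
  have h1' : b.denom = 1 := (RatFunc.monic_denom b).eq_one_of_isUnit hu
  refine ⟨b.num, ?_⟩
  conv_lhs => rw [← hb]
  rw [h1', map_one, div_one]

end RatL

end Groth.Agent.Lib.Helper27.Hyper
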