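import Mathlib
import Groth.Prelude.Def_W4bk4goldsch23FF
import Groth.Prelude.Def_W4bk4goldsch23Ext
import Groth.Agent.Lib.Helper27.Rat3
import Groth.Agent.Lib.Helper27.FFExt3

/-! Places of a finite extension of a function field (constants may grow); Artin–Schreier
extensions in characteristic `2`. -/

namespace Groth.Agent.Lib.Helper27.Rat
open FunFld WithZero Polynomial

section Tot
universe u v w
variable {k : Type u} {K : Type v} {K' : Type w} [Field k] [Field K] [Field K'] [Algebra k K]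
  [Algebra K K'] [Algebra k K'] [IsScalarTower k K K']

theorem deg_pos_of_finite (hK : IsFunctionField k K) [FiniteDimensional K K'] (Q : Place k K') :
    0 < Q.deg := by
  obtain ⟨hK', hfin⟩ := FF.isFunctionField_algebraicClosure (K' := K') hK
  haveI := hfin
  have h1 := FF.Place.deg_down (k := k) (FF.Place.up (k' := algebraicClosure k K') Q)
  rw [FF.Place.down_up] at h1
  rw [h1]
  exact Nat.mul_pos Module.finrank_pos (Helper23.FF.deg_pos hK' _)

theorem finiteDimensional_residueField_of_finite (hK : IsFunctionField k K)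
    [FiniteDimensional K K'] (Q : Place k K') :
    FiniteDimensional k (IsLocalRing.ResidueField Q.O) :=
  Module.finite_of_finrank_pos (deg_pos_of_finite hK Q)

/-- If every place above `P` has ramification index `[K' : K]`, there is exactly one place above
`P`, and it has the degree of `P` (no assumption on the constants of `K'`). -/
theorem unique_of_totally_ramified' (hK : IsFunctionField k K)
    [FiniteDimensional K K'] (P : Place k K)
    (hall : ∀ Q : Place k K', IsOver Q P → IsOverWith Q P (Module.finrank K K')) :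
    (∃! Q : Place k K', IsOver Q P) ∧ ∀ Q : Place k K', IsOver Q P → Q.deg = P.deg := by
  classical
  obtain ⟨hfin, hsum⟩ := FF.sum_ramIdx_mul_deg (K' := K') hK P
  have hn0 : 0 < Module.finrank K K' := Module.finrank_pos
  have h1 := hsum hfin.toFinset (fun Q => hfin.mem_toFinset)
  have h2 : ∑ Q ∈ hfin.toFinset, ramIdx Q P * Q.deg =
      Module.finrank K K' * ∑ Q ∈ hfin.toFinset, Q.deg := by
    rw [Finset.mul_sum]
    refine Finset.sum_congr rfl fun Q hQ => ?_
    rw [FF.ramIdx_eq (hall Q (hfin.mem_toFinset.mp hQ))]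
  rw [h2] at h1
  have h3 : ∑ Q ∈ hfin.toFinset, Q.deg = P.deg := Nat.eq_of_mul_eq_mul_left hn0 h1
  have hPpos := Helper23.FF.deg_pos hK P
  have hge : ∀ Q ∈ hfin.toFinset, P.deg ≤ Q.deg := fun Q hQ => by
    haveI := finiteDimensional_residueField_of_finite hK Q
    exact deg_le_deg_of_isOverWith (hall Q (hfin.mem_toFinset.mp hQ))
  have hcard : hfin.toFinset.card * P.deg ≤ P.deg := by
    calc hfin.toFinset.card * P.deg = ∑ _Q ∈ hfin.toFinset, P.deg := by
          rw [Finset.sum_const, smul_eq_mul]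
      _ ≤ ∑ Q ∈ hfin.toFinset, Q.deg := Finset.sum_le_sum hge
      _ = P.deg := h3
  have hcard1 : hfin.toFinset.card ≤ 1 := by
    by_contra hlt
    rw [not_le] at hlt
    have : 2 * P.deg ≤ hfin.toFinset.card * P.deg := Nat.mul_le_mul_right _ hlt
    omega
  have hne : hfin.toFinset.Nonempty := by
    rw [Finset.nonempty_iff_ne_empty]
    intro hempty
    rw [hempty, Finset.sum_empty] at h3
    omega
  obtain ⟨Q₁, hQ₁⟩ := hne
  have huniq : ∀ Q : Place k K', IsOver Q P → Q = Q₁ := fun Q hQ =>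
    Finset.card_le_one.mp hcard1 Q (hfin.mem_toFinset.mpr hQ) Q₁ hQ₁
  have hset : hfin.toFinset = {Q₁} := by
    ext Q
    rw [Finset.mem_singleton]
    exact ⟨fun h => huniq Q (hfin.mem_toFinset.mp h), fun h => h ▸ hQ₁⟩
  rw [hset, Finset.sum_singleton] at h3
  refine ⟨⟨Q₁, hfin.mem_toFinset.mp hQ₁, huniq⟩, fun Q hQ => ?_⟩
  rw [huniq Q hQ, h3]

/-- Artin–Schreier: at an odd pole of `f` the ramification index is even. -/
theorem even_of_as {Q : Place k K'} {P : Place k K} {e : ℕ} (he : IsOverWith Q P e) {y : K'}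
    {f : K} (hy : y ^ 2 + y = algebraMap K K' f) (hneg : P.ord f < 0) (hodd : Odd (P.ord f)) :
    Even e := by
  have he1 := FF.isOverWith_pos he
  have hf0 : f ≠ 0 := by
    rintro rfl
    rw [FF.ord_zero] at hneg
    exact lt_irrefl _ hneg
  have hp : 1 < P.1 f := by
    by_contra hle
    rw [not_lt] at hle
    have := (FF.val_le_one_iff P hf0).mp hle
    omega
  have hPf : Q.1 (algebraMap K K' f) = P.1 f ^ e := he f
  have hPf1 : 1 < Q.1 (algebraMap K K' f) := by
    rw [hPf]; exact one_lt_pow₀ hp (by omega)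
  have hy1 : 1 < Q.1 y := by
    by_contra hle
    rw [not_lt] at hle
    have : Q.1 (y ^ 2 + y) ≤ 1 :=
      Q.1.map_add_le (by rw [map_pow]; exact pow_le_one₀ zero_le hle) hle
    rw [hy] at this
    exact absurd hPf1 (not_lt.mpr this)
  have hy2 : Q.1 (y ^ 2 + y) = Q.1 y ^ 2 := by
    rw [Q.1.map_add_eq_of_lt_left, map_pow]
    rw [map_pow, pow_two]
    exact lt_mul_of_one_lt_left (lt_trans zero_lt_one hy1) hy1
  rw [hy, hPf] at hy2
  have hf0' : P.1 f ≠ 0 := (lt_trans zero_lt_one hp).ne'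
  have hy0 : Q.1 y ≠ 0 := (lt_trans zero_lt_one hy1).ne'
  obtain ⟨m, hm⟩ : ∃ m : ℤ, P.1 f = exp m := ⟨_, (exp_log hf0').symm⟩
  obtain ⟨n, hn⟩ : ∃ n : ℤ, Q.1 y = exp n := ⟨_, (exp_log hy0).symm⟩
  have hord : P.ord f = -m := by
    unfold Place.ord
    rw [hm, log_exp]
  rw [hm, hn, ← exp_nsmul, ← exp_nsmul, exp_inj] at hy2
  simp only [nsmul_eq_mul] at hy2
  rw [hord] at hodd
  have hmo : Odd m := by simpa using hodd.neg
  have h2 : Even ((e : ℤ) * m) := ⟨n, by rw [hy2]; push_cast; ring⟩
  rcases Int.even_mul.mp h2 with h | h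
  · exact (Int.even_coe_nat e).mp h
  · exact absurd h (Int.not_even_iff_odd.mpr hmo)

end Tot

section AS
variable {k : Type*} {K : Type*} {K' : Type*} [Field k] [Field K] [Field K'] [Algebra k K]
  [Algebra K K'] [Algebra k K']

/-- Artin–Schreier in characteristic `2`: no ramification where `f` is integral. -/
theorem not_isOverWith_two_of_as (hrank : Module.finrank K K' = 2) (h20 : (2 : K') = 0)
    {Q : Place k K'} {P : Place k K} (he : IsOverWith Q P 2) {y : K'} {f : K}
    (hy : y ^ 2 + y = algebraMap K K' f) (hyr : y ∉ Set.range (algebraMap K K'))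
    (hf : P.1 f ≤ 1) : False := by
  have heven : ∀ r : K, r ≠ 0 → ∃ n : ℤ, Q.1 (algebraMap K K' r) = exp (2 * n) := by
    intro r hr
    obtain ⟨n, hn⟩ : ∃ n : ℤ, P.1 r = exp n :=
      ⟨_, (exp_log ((_root_.map_ne_zero _).mpr hr)).symm⟩
    refine ⟨n, ?_⟩
    rw [he r, hn, ← exp_nsmul]
    simp
  have hvy : Q.1 y ≤ 1 := by
    by_contra hlt
    rw [not_le] at hlt
    have hy2 : Q.1 (y ^ 2 + y) = Q.1 y ^ 2 := by
      rw [Q.1.map_add_eq_of_lt_left, map_pow]
      rw [map_pow, pow_two]
      exact lt_mul_of_one_lt_left (lt_trans zero_lt_one hlt) hlt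
    rw [hy, he f] at hy2
    have h1 : P.1 f ^ 2 ≤ 1 := pow_le_one₀ zero_le hf
    rw [hy2] at h1
    exact absurd (one_lt_pow₀ hlt two_ne_zero) (not_lt.mpr h1)
  obtain ⟨s, hs⟩ := Q.2.2 (exp (-1))
  obtain ⟨α, β, hsαβ⟩ := exists_pair hrank hyr s
  have hβ0 : β ≠ 0 := by
    rintro rfl
    rw [map_zero, zero_mul, add_zero] at hsαβ
    by_cases hα0 : α = 0
    · rw [hα0, map_zero] at hsαβ
      rw [hsαβ, map_zero] at hs
      exact exp_ne_zero hs.symm
    · obtain ⟨n, hn⟩ := heven α hα0
      rw [hsαβ, hn, exp_inj] at hs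
      omega
  set s' : K' := algebraMap K K' (α / β) + y with hs'
  have hss' : s = algebraMap K K' β * s' := by
    rw [hs', hsαβ, mul_add, ← map_mul, mul_div_cancel₀ _ hβ0]
  obtain ⟨b, hb⟩ := heven β hβ0
  have hs'val : Q.1 s' = exp (-1 - 2 * b) := by
    have : Q.1 s = exp (2 * b) * Q.1 s' := by rw [hss', map_mul, hb]
    rw [hs] at this
    have h3 : Q.1 s' = exp (-(2 * b)) * exp (-1) := by
      rw [this, ← mul_assoc, ← exp_add]
      simp
    rw [h3, ← exp_add]
    congr 1
    ring
  have hα'le : Q.1 (algebraMap K K' (α / β)) ≤ 1 := by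
    by_contra hlt
    rw [not_le] at hlt
    have hα0 : α / β ≠ 0 := by
      intro h0
      rw [h0, map_zero, map_zero] at hlt
      exact absurd hlt (not_lt.mpr zero_le)
    obtain ⟨a, ha⟩ := heven _ hα0
    have := Q.1.map_add_eq_of_lt_left (lt_of_le_of_lt hvy hlt)
    rw [← hs', hs'val, ha, exp_inj] at this
    omega
  have hs'lt : Q.1 s' < 1 := by
    have hle : Q.1 s' ≤ 1 := by
      rw [hs']
      exact Q.1.map_add_le hα'le hvy
    rw [hs'val, ← exp_zero, exp_le_exp] at hle
    rw [hs'val, ← exp_zero, exp_lt_exp]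
    omega
  have hwval : Q.1 (s' + 1) = 1 := by
    rw [Q.1.map_add_eq_of_lt_right (by rw [map_one]; exact hs'lt), map_one]
  have hprod : s' * (s' + 1) = algebraMap K K' ((α / β) ^ 2 + α / β + f) := by
    rw [hs', map_add, map_add, map_pow, ← hy]
    linear_combination (algebraMap K K' (α / β) * y) * h20
  have hprodval : Q.1 (algebraMap K K' ((α / β) ^ 2 + α / β + f)) = exp (-1 - 2 * b) := by
    rw [← hprod, map_mul, hwval, mul_one, hs'val]
  by_cases h0 : (α / β) ^ 2 + α / β + f = 0
  · rw [h0, map_zero, map_zero] at hprodval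
    exact exp_ne_zero hprodval.symm
  · obtain ⟨n, hn⟩ := heven _ h0
    rw [hn, exp_inj] at hprodval
    omega

end AS

end Groth.Agent.Lib.Helper27.Rat
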