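import Mathlib
import Groth.Prelude.Def_W4bk4goldsch23FF
import Groth.Prelude.Def_W4bk4goldsch23Ext
import Groth.Agent.Lib.Helper27.Hyper3
import Groth.Agent.Lib.Helper27.Rat4

/-! Artin–Schreier extensions `y² + y = f(x)` of `k(x)` in characteristic `2`: `L`-spaces of
conorm divisors and the genus. -/

namespace Groth.Agent.Lib.Helper27.AS
open FunFld WithZero Polynomial

universe u v
variable {k : Type u} {K : Type v} [Field k] [Field K] [Algebra k K] [Algebra (RatFunc k) K]
  [IsScalarTower k (RatFunc k) K]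

theorem exists_conj (h20 : (2 : K) = 0) (y : K) (f : RatFunc k)
    (hy : y ∉ Set.range (algebraMap (RatFunc k) K))
    (heq : y ^ 2 + y = algebraMap (RatFunc k) K f)
    (hrank : Module.finrank (RatFunc k) K = 2) : ∃ σ : K ≃ₐ[RatFunc k] K, σ y = y + 1 := by
  haveI : FiniteDimensional (RatFunc k) K := Module.finite_of_finrank_pos (by omega)
  haveI : Algebra.IsQuadraticExtension (RatFunc k) K :=
    { toFree := inferInstance, finrank_eq_two' := hrank }
  have hint : IsIntegral (RatFunc k) y := .of_finite _ y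
  set g : (RatFunc k)[X] := X ^ 2 + X - C f with hg
  have hgmonic : g.Monic := by
    simp only [hg]
    monicity!
  have hgdeg : g.natDegree = 2 := by
    simp only [hg]
    compute_degree!
  have hgy : aeval y g = 0 := by simp [hg, heq]
  have hmin : minpoly (RatFunc k) y = g := by
    have hdvd := minpoly.dvd (RatFunc k) y hgy
    have hmm := minpoly.monic hint
    have h1 : (minpoly (RatFunc k) y).natDegree ≠ 1 := fun h =>
      hy ((minpoly.natDegree_eq_one_iff).mp h)
    have h2' : 0 < (minpoly (RatFunc k) y).natDegree := minpoly.natDegree_pos hint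
    exact (eq_of_monic_of_dvd_of_natDegree_le hmm hgmonic hdvd (by omega)).symm
  have hev : aeval (y + 1) (minpoly (RatFunc k) y) = 0 := by
    rw [hmin]
    simp only [hg, map_sub, map_add, map_pow, aeval_X, aeval_C, ← heq]
    linear_combination (y + 1) * h20
  exact minpoly.exists_algEquiv_of_root' hint.isAlgebraic hev

section Main
variable (h20 : (2 : K) = 0) (y : K) (f : RatFunc k)
  (hy : y ∉ Set.range (algebraMap (RatFunc k) K))
  (heq : y ^ 2 + y = algebraMap (RatFunc k) K f)
  (hrank : Module.finrank (RatFunc k) K = 2)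

/-- the order function `d_P = (1 - ord_P f)/2` at the poles of `f`. -/
noncomputable def dfun (f : RatFunc k) (P : Place k (RatFunc k)) : ℤ :=
  if P.ord f < 0 then (1 - P.ord f) / 2 else 0

include heq in
/-- the value of `y` at a place above a pole of `f`. -/
theorem val_y_of_pole {Q : Place k K} {P : Place k (RatFunc k)} {e : ℕ}
    (he : IsOverWith Q P e) (hneg : P.ord f < 0) : Q.1 y ^ 2 = P.1 f ^ e := by
  have he1 := FF.isOverWith_pos he
  have hf0 : f ≠ 0 := by
    rintro rfl
    rw [FF.ord_zero] at hneg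
    exact lt_irrefl _ hneg
  have hp : 1 < P.1 f := by
    by_contra hle
    rw [not_lt] at hle
    have := (FF.val_le_one_iff P hf0).mp hle
    omega
  have hPf1 : 1 < Q.1 (algebraMap (RatFunc k) K f) := by
    rw [he f]; exact one_lt_pow₀ hp (by omega)
  have hy1 : 1 < Q.1 y := by
    by_contra hle
    rw [not_lt] at hle
    have : Q.1 (y ^ 2 + y) ≤ 1 :=
      Q.1.map_add_le (by rw [map_pow]; exact pow_le_one₀ zero_le hle) hle
    rw [heq] at this
    exact absurd hPf1 (not_lt.mpr this)
  have hy2 : Q.1 (y ^ 2 + y) = Q.1 y ^ 2 := by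
    rw [Q.1.map_add_eq_of_lt_left, map_pow]
    rw [map_pow, pow_two]
    exact lt_mul_of_one_lt_left (lt_trans zero_lt_one hy1) hy1
  rw [heq, he f] at hy2
  exact hy2.symm

include heq in
theorem val_y_le_one {Q : Place k K} {P : Place k (RatFunc k)} {e : ℕ}
    (he : IsOverWith Q P e) (hnn : 0 ≤ P.ord f) : Q.1 y ≤ 1 := by
  have hf : P.1 f ≤ 1 := by
    by_cases hf0 : f = 0
    · rw [hf0, map_zero]; exact zero_le
    · exact (FF.val_le_one_iff P hf0).mpr hnn
  by_contra hlt
  rw [not_le] at hlt
  have hy2 : Q.1 (y ^ 2 + y) = Q.1 y ^ 2 := by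
    rw [Q.1.map_add_eq_of_lt_left, map_pow]
    rw [map_pow, pow_two]
    exact lt_mul_of_one_lt_left (lt_trans zero_lt_one hlt) hlt
  rw [heq, he f] at hy2
  have h1 : P.1 f ^ e ≤ 1 := pow_le_one₀ zero_le hf
  rw [hy2] at h1
  exact absurd (one_lt_pow₀ hlt two_ne_zero) (not_lt.mpr h1)

end Main

end Groth.Agent.Lib.Helper27.AS
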