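import Mathlib
import Groth.Prelude.Def_W4bk4goldsch23FF
import Groth.Prelude.Def_W4bk4goldsch23Ext
import Groth.Agent.Lib.Helper27.AS1

/-! Artin–Schreier extensions in characteristic `2`: the decomposition of `L(conorm E)`. -/

namespace Groth.Agent.Lib.Helper27.AS
open FunFld WithZero Polynomial

universe u v
variable {k : Type u} {K : Type v} [Field k] [Field K] [Algebra k K] [Algebra (RatFunc k) K]
  [IsScalarTower k (RatFunc k) K]

theorem dfun_support_finite (f : RatFunc k) : (Function.support (dfun f)).Finite := by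
  refine (FF.finite_support_ord (Rat.isFunctionField_ratFunc k) f).subset ?_
  intro P hP
  rw [Function.mem_support] at hP ⊢
  intro h0
  apply hP
  unfold dfun
  rw [if_neg (by omega)]

/-- the divisor `D = ∑ d_P P`. -/
noncomputable def Ddiv (f : RatFunc k) : Divisor k (RatFunc k) :=
  Finsupp.ofSupportFinite (dfun f) (dfun_support_finite f)

theorem Ddiv_apply (f : RatFunc k) (P : Place k (RatFunc k)) : Ddiv f P = dfun f P := rfl

section Main
variable (h20 : (2 : K) = 0) (y : K) (f : RatFunc k)
  (hy : y ∉ Set.range (algebraMap (RatFunc k) K))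
  (heq : y ^ 2 + y = algebraMap (RatFunc k) K f)
  (hrank : Module.finrank (RatFunc k) K = 2)
  (hodd : ∀ P : Place k (RatFunc k), P.ord f < 0 → Odd (P.ord f))

include heq hrank hodd in
/-- local data above a pole of `f`: `e = 2` and `v_Q(y) = exp (2 d_P - 1)`. -/
theorem pole_data {Q : Place k K} {P : Place k (RatFunc k)} {e : ℕ}
    (he : IsOverWith Q P e) (hneg : P.ord f < 0) :
    e = 2 ∧ Q.1 y = exp (2 * dfun f P - 1) := by
  haveI : FiniteDimensional (RatFunc k) K := Module.finite_of_finrank_pos (by omega)
  have h1 := Rat.even_of_as he heq hneg (hodd P hneg)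
  have h2 : e ≤ 2 := hrank ▸ Rat.ramIdx_le_finrank he
  have h3 := FF.isOverWith_pos he
  obtain ⟨c, hc⟩ := h1
  have he2 : e = 2 := by omega
  refine ⟨he2, ?_⟩
  have hv := val_y_of_pole y f heq he hneg
  rw [he2] at hv
  have hv' : Q.1 y = P.1 f := (pow_left_inj₀ zero_le zero_le two_ne_zero).mp hv
  have hf0 : f ≠ 0 := by
    rintro rfl
    rw [FF.ord_zero] at hneg
    exact lt_irrefl _ hneg
  rw [hv', FF.val_eq_exp_neg_ord P hf0]
  congr 1
  unfold dfun
  rw [if_pos hneg]
  obtain ⟨m, hm⟩ := hodd P hneg
  omega

include h20 hy heq hrank hodd in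
theorem mem_L_conorm_iff (E : Divisor k (RatFunc k)) (a b : RatFunc k) :
    algebraMap (RatFunc k) K a + algebraMap (RatFunc k) K b * y ∈ L (conorm K E) ↔
      a ∈ L E ∧ b ∈ L (E - Ddiv f) := by
  haveI : FiniteDimensional (RatFunc k) K := Module.finite_of_finrank_pos (by omega)
  have hK₀ := Rat.isFunctionField_ratFunc k
  have hpow : ∀ (n : ℤ) (e : ℕ), exp (n * (e : ℤ)) = exp n ^ e := by
    intro n e
    rw [← exp_nsmul]; congr 1; simp [mul_comm]
  constructor
  · intro hz
    obtain ⟨σ, hσ⟩ := exists_conj h20 y f hy heq hrank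
    have hσz := Hyper.map_mem_L_conorm hK₀ E σ hz
    rw [map_add, map_mul, AlgEquiv.commutes, AlgEquiv.commutes, hσ] at hσz
    have hb : algebraMap (RatFunc k) K b ∈ L (conorm K E) := by
      have := (L (conorm K E)).add_mem hz hσz
      have e1 : algebraMap (RatFunc k) K a + algebraMap (RatFunc k) K b * y +
          (algebraMap (RatFunc k) K a + algebraMap (RatFunc k) K b * (y + 1)) =
          algebraMap (RatFunc k) K b := by
        linear_combination (algebraMap (RatFunc k) K a + algebraMap (RatFunc k) K b * y) * h20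
      rwa [e1] at this
    have hbE : b ∈ L E := (Hyper.algebraMap_mem_L_conorm_iff hK₀ E b).mp hb
    have key : ∀ P : Place k (RatFunc k), P.1 a ≤ exp (E P) ∧ P.1 b ≤ exp (E P - Ddiv f P) := by
      intro P
      obtain ⟨Q, e, he⟩ := Hyper.exists_isOver (K' := K) hK₀ P
      have he1 := FF.isOverWith_pos he
      have hzQ := hz Q
      rw [Hyper.conorm_apply_of_isOverWith hK₀ E he] at hzQ
      by_cases hneg : P.ord f < 0
      · obtain ⟨he2, hvy⟩ := pole_data y f heq hrank hodd he hneg
        subst he2
        rw [Ddiv_apply]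
        set δ := dfun f P with hδ
        -- the two terms have distinct valuations unless both vanish
        have hva : Q.1 (algebraMap (RatFunc k) K a) = P.1 a ^ 2 := he a
        have hvb : Q.1 (algebraMap (RatFunc k) K b * y) = P.1 b ^ 2 * exp (2 * δ - 1) := by
          rw [map_mul, he b, hvy]
        by_cases ha0 : a = 0
        · by_cases hb0 : b = 0
          · rw [ha0, hb0, map_zero]
            exact ⟨zero_le, zero_le⟩
          · obtain ⟨β, hβ⟩ : ∃ β : ℤ, P.1 b = exp β :=
              ⟨_, (exp_log ((_root_.map_ne_zero _).mpr hb0)).symm⟩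
            rw [ha0, map_zero, zero_add, hvb, hβ, ← exp_nsmul, ← exp_add, exp_le_exp] at hzQ
            simp only [nsmul_eq_mul] at hzQ
            push_cast at hzQ
            refine ⟨by rw [ha0, map_zero]; exact zero_le, ?_⟩
            rw [hβ, exp_le_exp]
            omega
        · obtain ⟨α, hα⟩ : ∃ α : ℤ, P.1 a = exp α :=
            ⟨_, (exp_log ((_root_.map_ne_zero _).mpr ha0)).symm⟩
          by_cases hb0 : b = 0
          · rw [hb0, map_zero, zero_mul, add_zero, hva, hα, ← exp_nsmul, exp_le_exp] at hzQ
            simp only [nsmul_eq_mul] at hzQ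
            push_cast at hzQ
            refine ⟨?_, by rw [hb0, map_zero]; exact zero_le⟩
            rw [hα, exp_le_exp]
            omega
          · obtain ⟨β, hβ⟩ : ∃ β : ℤ, P.1 b = exp β :=
              ⟨_, (exp_log ((_root_.map_ne_zero _).mpr hb0)).symm⟩
            have hva' : Q.1 (algebraMap (RatFunc k) K a) = exp (2 * α) := by
              rw [hva, hα, ← exp_nsmul]; congr 1
            have hvb' : Q.1 (algebraMap (RatFunc k) K b * y) = exp (2 * β + 2 * δ - 1) := by
              rw [hvb, hβ, ← exp_nsmul, ← exp_add]; congr 1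
              simp only [nsmul_eq_mul]; push_cast; ring
            have hne : Q.1 (algebraMap (RatFunc k) K a) ≠
                Q.1 (algebraMap (RatFunc k) K b * y) := by
              rw [hva', hvb', Ne, exp_inj]
              omega
            rw [Q.1.map_add_of_distinct_val hne, hva', hvb', max_le_iff, exp_le_exp,
              exp_le_exp] at hzQ
            push_cast at hzQ
            refine ⟨?_, ?_⟩
            · rw [hα, exp_le_exp]; omega
            · rw [hβ, exp_le_exp]; omega
      · rw [not_lt] at hneg
        have hD0 : Ddiv f P = 0 := by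
          rw [Ddiv_apply]; unfold dfun; rw [if_neg (by omega)]
        rw [hD0, sub_zero]
        refine ⟨?_, hbE P⟩
        have hvy := val_y_le_one y f heq he hneg
        have hby : Q.1 (algebraMap (RatFunc k) K b * y) ≤ exp (E P * (e : ℤ)) := by
          rw [map_mul, he b, hpow]
          calc P.1 b ^ e * Q.1 y ≤ P.1 b ^ e * 1 := by gcongr
            _ = P.1 b ^ e := mul_one _
            _ ≤ exp (E P) ^ e := pow_le_pow_left₀ zero_le (hbE P) e
        have haQ : Q.1 (algebraMap (RatFunc k) K a) ≤ exp (E P * (e : ℤ)) := by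
          have : algebraMap (RatFunc k) K a = (algebraMap (RatFunc k) K a +
              algebraMap (RatFunc k) K b * y) - algebraMap (RatFunc k) K b * y := by ring
          rw [this]
          exact (Q.1.map_sub _ _).trans (max_le hzQ hby)
        rw [he a, hpow] at haQ
        exact (pow_le_pow_iff_left₀ zero_le zero_le (by omega)).mp haQ
    exact ⟨fun P => (key P).1, fun P => by rw [Finsupp.sub_apply]; exact (key P).2⟩
  · rintro ⟨ha, hb⟩
    refine (L (conorm K E)).add_mem ((Hyper.algebraMap_mem_L_conorm_iff hK₀ E a).mpr ha) ?_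
    intro Q
    obtain ⟨P, e, he⟩ := FF.exists_isOverWith hK₀ Q
    have he1 := FF.isOverWith_pos he
    rw [Hyper.conorm_apply_of_isOverWith hK₀ E he, map_mul, he b]
    have hbP := hb P
    rw [Finsupp.sub_apply, Ddiv_apply] at hbP
    by_cases hneg : P.ord f < 0
    · obtain ⟨he2, hvy⟩ := pole_data y f heq hrank hodd he hneg
      subst he2
      rw [hvy]
      by_cases hb0 : b = 0
      · rw [hb0, map_zero, zero_pow two_ne_zero, zero_mul]; exact zero_le
      · obtain ⟨β, hβ⟩ : ∃ β : ℤ, P.1 b = exp β :=
          ⟨_, (exp_log ((_root_.map_ne_zero _).mpr hb0)).symm⟩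
        rw [hβ, exp_le_exp] at hbP
        rw [hβ, ← exp_nsmul, ← exp_add, exp_le_exp]
        simp only [nsmul_eq_mul]
        push_cast
        omega
    · rw [not_lt] at hneg
      have hD0 : dfun f P = 0 := by unfold dfun; rw [if_neg (by omega)]
      rw [hD0, sub_zero] at hbP
      have hvy := val_y_le_one y f heq he hneg
      rw [hpow]
      calc P.1 b ^ e * Q.1 y ≤ P.1 b ^ e * 1 := by gcongr
        _ = P.1 b ^ e := mul_one _
        _ ≤ exp (E P) ^ e := pow_le_pow_left₀ zero_le hbP e

end Main

end Groth.Agent.Lib.Helper27.AS
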