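import Mathlib
import Groth.Prelude.Def_W4bk4goldsch23FF
import Groth.Prelude.Def_W4bk4goldsch23Ext
import Groth.Agent.Lib.Helper27.AS2

/-! Artin–Schreier extensions in characteristic `2`: the genus. -/

namespace Groth.Agent.Lib.Helper27.AS
open FunFld WithZero Polynomial

universe u v
variable {k : Type u} {K : Type v} [Field k] [Field K] [Algebra k K] [Algebra (RatFunc k) K]
  [IsScalarTower k (RatFunc k) K]

theorem genus_as (hK : IsFunctionField k K) (h20 : (2 : K) = 0) (y : K) (f : RatFunc k)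
    (hy : y ∉ Set.range (algebraMap (RatFunc k) K))
    (heq : y ^ 2 + y = algebraMap (RatFunc k) K f)
    (hrank : Module.finrank (RatFunc k) K = 2)
    (hodd : ∀ P : Place k (RatFunc k), P.ord f < 0 → Odd (P.ord f)) :
    (genus k K : ℤ) = (Ddiv f).deg - 1 := by
  haveI : FiniteDimensional (RatFunc k) K := Module.finite_of_finrank_pos (by omega)
  have hK₀ := Rat.isFunctionField_ratFunc k
  set D := Ddiv f with hD
  have hdpos : ∀ P : Place k (RatFunc k), P.ord f < 0 → 1 ≤ D P := by
    intro P hneg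
    rw [hD, Ddiv_apply]
    unfold dfun
    rw [if_pos hneg]
    obtain ⟨m, hm⟩ := hodd P hneg
    omega
  have hD0 : 0 ≤ D := by
    intro P
    by_cases hneg : P.ord f < 0
    · have := hdpos P hneg
      rw [Finsupp.zero_apply]; omega
    · rw [hD, Ddiv_apply]; unfold dfun; rw [if_neg hneg]; rfl
  -- `f` has a pole
  obtain ⟨P₁, hP₁⟩ : ∃ P₁ : Place k (RatFunc k), P₁.ord f < 0 := by
    by_contra hcon
    push Not at hcon
    have hfL : f ∈ L (0 : Divisor k (RatFunc k)) := by
      intro P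
      rw [Finsupp.zero_apply, exp_zero]
      by_cases hf0 : f = 0
      · rw [hf0, map_zero]; exact zero_le
      · exact (FF.val_le_one_iff P hf0).mpr (hcon P)
    rw [FF.L_zero hK₀, Submodule.mem_one] at hfL
    obtain ⟨c, hc⟩ := hfL
    have halg : IsAlgebraic k y := by
      refine ⟨X ^ 2 + X - C c, ?_, ?_⟩
      · intro h0
        have := congrArg (fun p => p.coeff 2) h0
        simp [coeff_X, coeff_C] at this
      · simp only [map_sub, map_add, map_pow, aeval_X, aeval_C, heq, ← hc,
          ← IsScalarTower.algebraMap_apply, sub_self]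
    obtain ⟨c', hc'⟩ := hK.2 y halg
    apply hy
    exact ⟨algebraMap k (RatFunc k) c', by rw [← IsScalarTower.algebraMap_apply, hc']⟩
  have hDdeg : 1 ≤ D.deg := by
    have h1 := Rat.apply_mul_deg_le_deg hD0 P₁
    have h2 := hdpos P₁ hP₁
    have h3 : (1 : ℤ) ≤ P₁.deg := by exact_mod_cast Helper23.FF.deg_pos hK₀ P₁
    nlinarith
  set g := genus k K with hg
  set E : Divisor k (RatFunc k) := ((g + 1 : ℕ) : ℤ) • D with hE
  have hEdeg : E.deg = ((g + 1 : ℕ) : ℤ) * D.deg := FF.deg_int_smul _ _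
  -- the linear equivalence
  let alg : RatFunc k →ₗ[k] K := (Algebra.linearMap (RatFunc k) K).restrictScalars k
  let ψ₀ : (L E) × (L (E - D)) →ₗ[k] K :=
    (alg ∘ₗ (L E).subtype).coprod ((LinearMap.mulRight k y) ∘ₗ alg ∘ₗ (L (E - D)).subtype)
  have hψ₀ : ∀ c, ψ₀ c = algebraMap (RatFunc k) K c.1.1 + algebraMap (RatFunc k) K c.2.1 * y :=
    fun c => rfl
  have hmem : ∀ c, ψ₀ c ∈ L (conorm K E) := fun c => by
    rw [hψ₀]
    exact (mem_L_conorm_iff h20 y f hy heq hrank hodd E c.1.1 c.2.1).mpr ⟨c.1.2, c.2.2⟩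
  let ψ : (L E) × (L (E - D)) →ₗ[k] L (conorm K E) := LinearMap.codRestrict _ ψ₀ hmem
  have hinj : Function.Injective ψ := by
    rw [← LinearMap.ker_eq_bot, LinearMap.ker_eq_bot']
    intro c hc
    have h0 : ψ₀ c = 0 := congrArg Subtype.val hc
    rw [hψ₀] at h0
    have hq0 : c.2.1 = 0 := by
      by_contra hne
      have hne' : algebraMap (RatFunc k) K c.2.1 ≠ 0 := (_root_.map_ne_zero _).mpr hne
      apply hy
      refine ⟨-c.1.1 / c.2.1, ?_⟩
      rw [map_div₀, map_neg, div_eq_iff hne']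
      linear_combination -h0
    rw [hq0, map_zero, zero_mul, add_zero] at h0
    have hp0 : c.1.1 = 0 := (_root_.map_eq_zero (algebraMap (RatFunc k) K)).mp h0
    exact Prod.ext (Subtype.ext hp0) (Subtype.ext hq0)
  have hsurj : Function.Surjective ψ := by
    rintro ⟨z, hz⟩
    obtain ⟨a, b, hab⟩ := Rat.exists_pair hrank hy z
    rw [hab] at hz
    obtain ⟨ha, hb⟩ := (mem_L_conorm_iff h20 y f hy heq hrank hodd E a b).mp hz
    exact ⟨(⟨a, ha⟩, ⟨b, hb⟩), Subtype.ext hab.symm⟩
  have hfr : Module.finrank k (L (conorm K E)) =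
      Module.finrank k (L E) + Module.finrank k (L (E - D)) := by
    haveI := FF.finiteDimensional_L hK₀ E
    haveI := FF.finiteDimensional_L hK₀ (E - D)
    rw [← Module.finrank_prod]
    exact (LinearEquiv.ofBijective ψ ⟨hinj, hsurj⟩).finrank_eq.symm
  -- Riemann–Roch on both sides
  have hg0 : genus k (RatFunc k) = 0 := Hyper.genus_ratFunc
  have h1 := (FF.core_of hK₀).ell_eq_of_deg_ge (D := E) (by
    rw [hg0, hEdeg]; push_cast; nlinarith)
  have h2 := (FF.core_of hK₀).ell_eq_of_deg_ge (D := E - D) (by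
    rw [hg0, FF.deg_sub, hEdeg]; push_cast; nlinarith)
  have h3 := (FF.core_of hK).ell_eq_of_deg_ge (D := conorm K E) (by
    rw [FF.deg_conorm hK₀, hrank, hEdeg]; push_cast; nlinarith)
  rw [FF.deg_conorm hK₀, hrank] at h3
  rw [FF.deg_sub] at h2
  rw [hg0] at h1 h2
  unfold ell at h1 h2 h3
  rw [hfr] at h3
  push_cast at h1 h2 h3
  linarith

/-- the degree of `D` as a sum over the poles of `f`. -/
theorem deg_Ddiv (f : RatFunc k) :
    (Ddiv f).deg = ∑ P ∈ (FunFld.div k f).support with FunFld.div k f P < 0,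
      (1 - FunFld.div k f P) / 2 * (P.deg : ℤ) := by
  classical
  have hK₀ := Rat.isFunctionField_ratFunc k
  unfold Divisor.deg Finsupp.sum
  have hsupp : (Ddiv f).support =
      (FunFld.div k f).support.filter (fun P => FunFld.div k f P < 0) := by
    ext P
    rw [Finsupp.mem_support_iff, Finset.mem_filter, Finsupp.mem_support_iff, Ddiv_apply,
      FF.div_apply' hK₀]
    unfold dfun
    constructor
    · intro h
      by_cases hneg : P.ord f < 0
      · exact ⟨by omega, hneg⟩
      · rw [if_neg hneg] at h; exact absurd rfl h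
    · rintro ⟨-, hneg⟩
      rw [if_pos hneg]
      omega
  rw [hsupp]
  refine Finset.sum_congr rfl fun P hP => ?_
  rw [Finset.mem_filter] at hP
  rw [Ddiv_apply, FF.div_apply' hK₀]
  unfold dfun
  rw [if_pos (by rw [← FF.div_apply' hK₀]; exact hP.2)]

end Groth.Agent.Lib.Helper27.AS
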