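import Mathlib

/-! Artin–Schreier conductor equals the ramification break for an order-`p` automorphism of
`k⟦u⟧`: elementary order computations. -/

set_option autoImplicit false

namespace Groth.Agent.Lib.Helper27.ASC
open PowerSeries WithZero

universe u

variable {k : Type u} [Field k]

section Sigma
variable (σ : PowerSeries k ≃ₐ[k] PowerSeries k)

theorem sigma_C (c : k) : σ (C c) = C c := σ.commutes c

theorem sigma_sub_decomp (N : ℕ) :
    ∀ h : PowerSeries k, ∃ q r, σ h - h = (σ X - X) * q + X ^ N * r := by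
  induction N with
  | zero => intro h; exact ⟨0, σ h - h, by simp⟩
  | succ N ih =>
    intro h
    obtain ⟨h', c, rfl⟩ : ∃ h' c, h = X * h' + C c := ⟨_, _, eq_X_mul_shift_add_const h⟩
    obtain ⟨q', r', e⟩ := ih h'
    refine ⟨σ h' + X * q', r', ?_⟩
    rw [map_add, map_mul, sigma_C]
    linear_combination X * e

theorem lin_coeff {G : PowerSeries k} (hG : σ X = X * G) (i : ℕ) :
    ∃ r, (σ ^ i) X = C (constantCoeff G ^ i) * X + X ^ 2 * r := by
  obtain ⟨a, ha⟩ : ∃ a, a = constantCoeff G := ⟨_, rfl⟩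
  rw [← ha]
  induction i with
  | zero => exact ⟨0, by simp⟩
  | succ i ih =>
    obtain ⟨r, hr⟩ := ih
    obtain ⟨G', hG'⟩ : ∃ G', G = X * G' + C a := ⟨_, ha ▸ eq_X_mul_shift_add_const G⟩
    refine ⟨C (a ^ i) * G' + G ^ 2 * σ r, ?_⟩
    have e1 : (σ ^ (i + 1)) X = σ ((σ ^ i) X) := by rw [pow_succ', AlgEquiv.mul_apply]
    rw [e1, hr]
    simp only [map_add, map_mul, map_pow, sigma_C, hG]
    linear_combination (C a ^ i * X) * hG'

theorem constCoeff_pow_eq_one {G : PowerSeries k} (hG : σ X = X * G) {p : ℕ}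
    (hσp : σ ^ p = 1) : constantCoeff G ^ p = 1 := by
  obtain ⟨r, hr⟩ := lin_coeff σ hG p
  rw [hσp, AlgEquiv.one_apply] at hr
  have := congrArg (coeff 1) hr
  simpa [coeff_X_pow_mul', coeff_C_mul] using this.symm

theorem sigma_pow_X {G : PowerSeries k} (hG : σ X = X * G) (hGu : IsUnit G) (i : ℕ) :
    ∃ e, IsUnit e ∧ (σ ^ i) X = X * e := by
  induction i with
  | zero => exact ⟨1, isUnit_one, by simp⟩
  | succ i ih =>
    obtain ⟨e, he, h⟩ := ih
    refine ⟨G * σ e, hGu.mul (he.map σ), ?_⟩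
    rw [pow_succ', AlgEquiv.mul_apply, h, map_mul, hG, mul_assoc]

theorem prod_eq {G : PowerSeries k} (hG : σ X = X * G) (hGu : IsUnit G) (n : ℕ) :
    ∃ e, IsUnit e ∧ ∏ i ∈ Finset.range n, (σ ^ i) X = X ^ n * e := by
  induction n with
  | zero => exact ⟨1, isUnit_one, by simp⟩
  | succ n ih =>
    obtain ⟨e, he, h⟩ := ih
    obtain ⟨e', he', h'⟩ := sigma_pow_X σ hG hGu n
    refine ⟨e * e', he.mul he', ?_⟩
    rw [Finset.prod_range_succ, h, h']
    ring

theorem sigma_prod {p : ℕ} (hσp : σ ^ p = 1) :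
    σ (∏ i ∈ Finset.range p, (σ ^ i) X) = ∏ i ∈ Finset.range p, (σ ^ i) X := by
  have h1 : σ (∏ i ∈ Finset.range p, (σ ^ i) X) = ∏ i ∈ Finset.range p, (σ ^ (i + 1)) X := by
    rw [map_prod]
    refine Finset.prod_congr rfl fun i _ => ?_
    rw [pow_succ', AlgEquiv.mul_apply]
  have h2 := Finset.prod_range_succ' (fun i => (σ ^ i) (X : PowerSeries k)) p
  have h3 := Finset.prod_range_succ (fun i => (σ ^ i) (X : PowerSeries k)) p
  rw [h3] at h2
  simp only [hσp, pow_zero, AlgEquiv.one_apply] at h2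
  rw [h1]
  exact (mul_right_cancel₀ X_ne_zero h2).symm

end Sigma

theorem exists_rep {h : PowerSeries k} (h0 : h ≠ 0) :
    ∃ (n : ℕ) (e : PowerSeries k), IsUnit e ∧ h = X ^ n * e := by
  refine ⟨h.order.toNat, divXPowOrder h, ?_, X_pow_order_mul_divXPowOrder.symm⟩
  rw [isUnit_iff_constantCoeff, isUnit_iff_ne_zero, constantCoeff_divXPowOrder]
  exact coeff_order h0

section Val
variable {K : Type*} [Field K] [Algebra (PowerSeries k) K] [IsFractionRing (PowerSeries k) K]
  (v : Valuation K ℤᵐ⁰) (hv1 : ∀ h : PowerSeries k, v (algebraMap _ K h) ≤ 1)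
  (hvX : v (algebraMap _ K (X : PowerSeries k)) = exp (-1 : ℤ))

omit [IsFractionRing (PowerSeries k) K] in
include hv1 in
theorem val_unit {h : PowerSeries k} (hu : IsUnit h) : v (algebraMap _ K h) = 1 := by
  obtain ⟨h', hh'⟩ := hu.exists_right_inv
  have e : v (algebraMap _ K h) * v (algebraMap _ K h') = 1 := by
    rw [← map_mul, ← map_mul, hh', map_one, map_one]
  refine le_antisymm (hv1 h) ?_
  by_contra hlt
  rw [not_le] at hlt
  have : v (algebraMap _ K h) * v (algebraMap _ K h') < 1 :=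
    lt_of_le_of_lt (mul_le_mul' le_rfl (hv1 h')) (by rwa [mul_one])
  exact absurd e this.ne

include hv1 hvX in
theorem exists_unit_rep {z : K} (hz0 : z ≠ 0) {μ : ℕ} (hvz : v z = exp (μ : ℤ)) :
    ∃ w : PowerSeries k, IsUnit w ∧ z * algebraMap _ K (X : PowerSeries k) ^ μ
      = algebraMap _ K w := by
  obtain ⟨α, β, hβ, rfl⟩ := IsFractionRing.div_surjective (A := PowerSeries k) z
  have hβ0 : β ≠ 0 := nonZeroDivisors.ne_zero hβ
  have hα0 : α ≠ 0 := by
    rintro rfl
    simp at hz0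
  obtain ⟨i, a, ha, rfl⟩ := exists_rep hα0
  obtain ⟨j, b, hb, rfl⟩ := exists_rep hβ0
  have hva := val_unit v hv1 ha
  have hvb := val_unit v hv1 hb
  have hij : j = i + μ := by
    simp only [map_div₀, map_mul, map_pow, hva, hvb, hvX, mul_one] at hvz
    rw [← exp_nsmul, ← exp_nsmul, ← exp_sub, exp_inj] at hvz
    simp only [nsmul_eq_mul] at hvz
    omega
  subst hij
  have hU : algebraMap _ K (X : PowerSeries k) ≠ 0 :=
    (map_ne_zero_iff _ (IsFractionRing.injective _ K)).mpr X_ne_zero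
  have hb0 : algebraMap _ K b ≠ 0 :=
    (map_ne_zero_iff _ (IsFractionRing.injective _ K)).mpr hb.ne_zero
  refine ⟨a * ↑hb.unit⁻¹, ha.mul (Units.isUnit _), ?_⟩
  have hb'' : algebraMap _ K (↑hb.unit⁻¹ : PowerSeries k) = (algebraMap _ K b)⁻¹ :=
    eq_inv_of_mul_eq_one_right (by rw [← map_mul, hb.mul_val_inv, map_one])
  rw [map_mul, map_mul, map_mul, map_pow, map_pow, hb'', pow_add]
  field_simp

end Val

end Groth.Agent.Lib.Helper27.ASC
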