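import Mathlib
import Groth.Prelude.Def_W4bk4goldsch23FF
import Groth.Prelude.Def_W4bk4goldsch23Ext
import Groth.Agent.Lib.Helper27.Hyper2

/-! Zeros of `y` in a hyperelliptic function field. -/

namespace Groth.Agent.Lib.Helper27.Hyper
open FunFld WithZero Polynomial

section Rat
universe u
variable {k : Type u} [Field k] (P : Place k (RatFunc k))

theorem exists_irreducible_val_lt (q : k[X]) (hq : q ≠ 0)
    (hlt : P.1 (algebraMap k[X] (RatFunc k) q) < 1) :
    ∃ p : k[X], Irreducible p ∧ p ∣ q ∧ P.1 (algebraMap k[X] (RatFunc k) p) < 1 := by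
  have hX := Rat.val_X_le_one_of_poly_lt P hq hlt
  revert hq hlt
  induction q using UniqueFactorizationMonoid.induction_on_prime with
  | h₁ => intro h; exact absurd rfl h
  | h₂ x hx =>
    intro _ hlt
    exfalso
    obtain ⟨x', hx'⟩ := hx.exists_right_inv
    have h1 : P.1 (algebraMap k[X] (RatFunc k) x) * P.1 (algebraMap k[X] (RatFunc k) x') = 1 := by
      rw [← map_mul, ← map_mul, hx', map_one, map_one]
    have h2 : P.1 (algebraMap k[X] (RatFunc k) x) * P.1 (algebraMap k[X] (RatFunc k) x') < 1 :=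
      lt_of_le_of_lt (mul_le_of_le_one_right zero_le (Rat.val_poly_le_one P hX x')) hlt
    rw [h1] at h2
    exact lt_irrefl _ h2
  | h₃ a p ha hp ih =>
    intro _ hlt
    rw [map_mul, map_mul] at hlt
    by_cases hp1 : P.1 (algebraMap k[X] (RatFunc k) p) < 1
    · exact ⟨p, hp.irreducible, dvd_mul_right p a, hp1⟩
    · have hp1' : P.1 (algebraMap k[X] (RatFunc k) p) = 1 :=
        le_antisymm (Rat.val_poly_le_one P hX p) (not_lt.mp hp1)
      rw [hp1', one_mul] at hlt
      obtain ⟨p', hp', hdvd, hlt'⟩ := ih ha hlt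
      exact ⟨p', hp', hdvd.mul_left p, hlt'⟩

theorem val_squarefree_eq {f : k[X]} (hf : Squarefree f) (hf0 : f ≠ 0)
    (hlt : P.1 (algebraMap k[X] (RatFunc k) f) < 1) :
    P.1 (algebraMap k[X] (RatFunc k) f) = exp (-1) := by
  obtain ⟨p, hp, ⟨f₁, hf₁⟩, hplt⟩ := exists_irreducible_val_lt P f hf0 hlt
  have hnd : ¬ p ∣ f₁ := by
    rintro ⟨c, hc⟩
    have : p * p ∣ f := ⟨c, by rw [hf₁, hc]; ring⟩
    exact hp.not_isUnit (hf p this)
  rw [hf₁, map_mul, map_mul, Rat.val_irreducible_eq P hp hplt,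
    Rat.val_poly_eq_one_of_not_dvd P hp hplt hnd, mul_one]

end Rat

section Zeros
universe u v
variable {k : Type u} {K : Type v} [Field k] [Field K] [Algebra k K] [Algebra (RatFunc k) K]
  [IsScalarTower k (RatFunc k) K]

theorem zeros_of_y (h2 : (2 : k) ≠ 0) (y : K) (f : k[X]) (hf : Squarefree f)
    (hd : 1 ≤ f.natDegree)
    (heq : y ^ 2 = algebraMap (RatFunc k) K (algebraMap k[X] (RatFunc k) f))
    (hrank : Module.finrank (RatFunc k) K = 2) (P : Place k K) :
    (0 < P.ord y → P.ord y = 1) ∧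
    (0 < P.ord y ↔ ∃ P₀ : Place k (RatFunc k), IsOver P P₀ ∧
      0 ≤ P₀.ord (RatFunc.X : RatFunc k) ∧ 0 < P₀.ord (algebraMap k[X] (RatFunc k) f)) := by
  haveI : FiniteDimensional (RatFunc k) K := Module.finite_of_finrank_pos (by omega)
  have hK₀ := Rat.isFunctionField_ratFunc k
  have hf0 : f ≠ 0 := by
    rintro rfl
    simp at hd
  have hιf0 : algebraMap k[X] (RatFunc k) f ≠ 0 := RatFunc.algebraMap_ne_zero hf0
  have hy0 : y ≠ 0 := by
    rintro rfl
    rw [zero_pow two_ne_zero] at heq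
    exact hιf0 ((_root_.map_eq_zero (algebraMap (RatFunc k) K)).mp heq.symm)
  obtain ⟨P₀, e, he⟩ := FF.exists_isOverWith hK₀ P
  have he1 := FF.isOverWith_pos he
  have key : 2 * P.ord y = e * P₀.ord (algebraMap k[X] (RatFunc k) f) := by
    rw [← FF.isOverWith_ord_eq he, ← heq, pow_two, FF.ord_mul P hy0 hy0]
    ring
  have hX0 : (RatFunc.X : RatFunc k) ≠ 0 := RatFunc.X_ne_zero
  have hpos : 0 < P.ord y → 0 < P₀.ord (algebraMap k[X] (RatFunc k) f) := by
    intro h
    have h1 : 0 < (e : ℤ) * P₀.ord (algebraMap k[X] (RatFunc k) f) := by rw [← key]; omega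
    exact (pos_iff_pos_of_mul_pos h1).mp (by exact_mod_cast he1)
  refine ⟨fun h => ?_, ⟨fun h => ⟨P₀, ⟨e, he⟩, ?_, hpos h⟩, ?_⟩⟩
  · have hlt := (FF.val_lt_one_iff P₀ hιf0).mpr (hpos h)
    have hval := val_squarefree_eq P₀ hf hf0 hlt
    have hord : P₀.ord (algebraMap k[X] (RatFunc k) f) = 1 := by
      unfold Place.ord
      rw [hval, log_exp]
      simp
    rw [hord] at key
    have hev := Rat.even_of_sq he heq (by rw [hord]; exact odd_one)
    have he2 : e ≤ 2 := hrank ▸ Rat.ramIdx_le_finrank he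
    obtain ⟨c, hc⟩ := hev
    have : e = 2 := by omega
    rw [this] at key
    push_cast at key
    omega
  · have hlt := (FF.val_lt_one_iff P₀ hιf0).mpr (hpos h)
    exact (FF.val_le_one_iff P₀ hX0).mp (Rat.val_X_le_one_of_poly_lt P₀ hf0 hlt)
  · rintro ⟨P₀', ⟨e', he'⟩, -, hf'⟩
    obtain ⟨rfl, rfl⟩ := FF.isOverWith_unique he he'
    have h1 : 0 < (e : ℤ) * P₀.ord (algebraMap k[X] (RatFunc k) f) :=
      mul_pos (by exact_mod_cast he1) hf'
    omega

end Zeros

end Groth.Agent.Lib.Helper27.Hyper
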