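import Mathlib
import Groth.Agent.Lib.Helper27.Rat4
import Groth.Agent.Lib.Helper27.Hyper6
import Groth.Agent.Lib.Helper27.Hyper3
import Groth.Agent.Lib.Helper27.FunFldCore

/-! Artin–Schreier normal form in characteristic `2`: removing even-order poles. -/

set_option autoImplicit false

namespace Groth.Agent.Lib.Helper27.ASN
open FunFld WithZero Polynomial

universe u

section General
variable {k : Type u} {K : Type*} [Field k] [Field K] [Algebra k K]

theorem one_lt_val_of_ord_neg (P : Place k K) {x : K} (h : P.ord x < 0) : 1 < P.1 x := by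
  unfold Place.ord at h
  rcases eq_or_ne (P.1 x) 0 with h0 | h0
  · rw [h0, log_zero] at h
    simp at h
  · obtain ⟨n, hn⟩ : ∃ n : ℤ, P.1 x = exp n := ⟨_, (exp_log h0).symm⟩
    rw [hn, log_exp] at h
    rw [hn, ← exp_zero, exp_lt_exp]
    omega

theorem ord_lt_ord_of_val_lt (P : Place k K) {x y : K} (hxy : P.1 x < P.1 y)
    (hy : P.ord y < 0) : P.ord y < P.ord x := by
  rcases eq_or_ne (P.1 x) 0 with h0 | h0
  · have : P.ord x = 0 := by
      unfold Place.ord
      rw [h0, log_zero, neg_zero]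
    rw [this]
    exact hy
  · have hy0 : P.1 y ≠ 0 := fun h => by
      rw [h] at hxy
      exact not_lt_zero' hxy
    obtain ⟨n, hn⟩ : ∃ n : ℤ, P.1 x = exp n := ⟨_, (exp_log h0).symm⟩
    obtain ⟨m, hm⟩ : ∃ m : ℤ, P.1 y = exp m := ⟨_, (exp_log hy0).symm⟩
    unfold Place.ord
    rw [hn, hm, log_exp, log_exp]
    rw [hn, hm, exp_lt_exp] at hxy
    omega

/-- Adding `g² + g` with `g` regular at `Q` does not create or change poles at `Q`. -/
theorem bad_of_bad_away {Q : Place k K} {f g : K} (hg : Q.1 g ≤ 1)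
    (h : Q.ord (f + g ^ 2 + g) < 0 ∧ Even (Q.ord (f + g ^ 2 + g))) :
    Q.ord f < 0 ∧ Even (Q.ord f) := by
  have hgg : Q.1 (g ^ 2 + g) ≤ 1 :=
    (Q.1.map_add _ _).trans (max_le (by rw [map_pow]; exact pow_le_one' hg 2) hg)
  have h1 := one_lt_val_of_ord_neg Q h.1
  have hf1 : 1 < Q.1 f := by
    by_contra hle
    rw [not_lt] at hle
    have : Q.1 (f + g ^ 2 + g) ≤ 1 := by
      rw [add_assoc]
      exact (Q.1.map_add _ _).trans (max_le hle hgg)
    exact absurd h1 (not_lt.mpr this)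
  have heq : Q.1 (f + g ^ 2 + g) = Q.1 f := by
    rw [add_assoc]
    exact Valuation.map_add_eq_of_lt_left _ (lt_of_le_of_lt hgg hf1)
  have hord : Q.ord (f + g ^ 2 + g) = Q.ord f := by
    unfold Place.ord
    rw [heq]
  rw [hord] at h
  exact h

end General

section Quad
variable {F K : Type*} [Field F] [Field K] [Algebra F K]

theorem adjoin_eq_top_of_not_mem (hdeg : Module.finrank F K = 2) {y : K}
    (hy : y ∉ Set.range (algebraMap F K)) : IntermediateField.adjoin F ({y} : Set K) = ⊤ := by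
  haveI : FiniteDimensional F K := Module.finite_of_finrank_pos (by omega)
  have hint : IsIntegral F y := .of_finite _ y
  have h1 : (minpoly F y).natDegree ≠ 1 := fun h => hy ((minpoly.natDegree_eq_one_iff).mp h)
  have h2 : 0 < (minpoly F y).natDegree := minpoly.natDegree_pos hint
  have h3 : (minpoly F y).natDegree ≤ 2 := hdeg ▸ minpoly.natDegree_le y
  apply IntermediateField.eq_of_le_of_finrank_eq le_top
  rw [IntermediateField.adjoin.finrank hint, IntermediateField.finrank_top', hdeg]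
  omega

theorem exists_as_generator (hdeg : Module.finrank F K = 2) [Algebra.IsSeparable F K]
    (h20 : (2 : K) = 0) :
    ∃ (y : K) (f : F), y ^ 2 + y = algebraMap F K f ∧ y ∉ Set.range (algebraMap F K) := by
  haveI : FiniteDimensional F K := Module.finite_of_finrank_pos (by omega)
  have h20F : (2 : F) = 0 := (algebraMap F K).injective (by rw [map_zero, map_ofNat]; exact h20)
  obtain ⟨y₁, hy₁⟩ : ∃ y₁ : K, y₁ ∉ Set.range (algebraMap F K) := by
    by_contra hall
    push Not at hall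
    have hsurj : Function.Surjective (algebraMap F K) := hall
    have : Module.finrank F K = 1 := by
      have e : F ≃ₗ[F] K := LinearEquiv.ofBijective (Algebra.linearMap F K)
        ⟨(algebraMap F K).injective, hsurj⟩
      rw [← e.finrank_eq, Module.finrank_self]
    omega
  obtain ⟨α, β, hαβ⟩ := Rat.exists_pair hdeg hy₁ (y₁ ^ 2)
  have hβ : β ≠ 0 := by
    rintro rfl
    rw [map_zero, zero_mul, add_zero] at hαβ
    have hsep : (minpoly F y₁).Separable := Algebra.IsSeparable.isSeparable F y₁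
    have hint : IsIntegral F y₁ := .of_finite _ y₁
    set g : F[X] := X ^ 2 - C α with hg
    have hgm : g.Monic := monic_X_pow_sub_C _ two_ne_zero
    have hgd : g.natDegree = 2 := natDegree_X_pow_sub_C
    have hgy : aeval y₁ g = 0 := by simp [hg, hαβ]
    have hmin : minpoly F y₁ = g := by
      have hdvd := minpoly.dvd F y₁ hgy
      have hmm := minpoly.monic hint
      have h1 : (minpoly F y₁).natDegree ≠ 1 := fun h =>
        hy₁ ((minpoly.natDegree_eq_one_iff).mp h)
      have h2' : 0 < (minpoly F y₁).natDegree := minpoly.natDegree_pos hint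
      exact (eq_of_monic_of_dvd_of_natDegree_le hmm hgm hdvd (by omega)).symm
    rw [hmin] at hsep
    have hder : derivative g = 0 := by
      rw [hg, derivative_sub, derivative_C, sub_zero, derivative_X_pow]
      simp [h20F]
    rw [Polynomial.separable_def, hder, isCoprime_zero_right] at hsep
    have := Polynomial.natDegree_eq_zero_of_isUnit hsep
    omega
  set B : K := algebraMap F K β with hB
  have hB0 : B ≠ 0 := (_root_.map_ne_zero _).mpr hβ
  refine ⟨y₁ / B, α / β ^ 2, ?_, ?_⟩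
  · have h1 : (y₁ / B) ^ 2 + y₁ / B = (y₁ ^ 2 + B * y₁) / B ^ 2 := by
      field_simp
    rw [h1, hαβ, map_div₀, map_pow]
    congr 1
    linear_combination (B * y₁) * h20
  · rintro ⟨c, hc⟩
    apply hy₁
    refine ⟨β * c, ?_⟩
    rw [map_mul, hc]
    field_simp
    exact mul_comm _ _

end Quad

section Places
variable {k : Type u} [Field k]

local notation "ι" => algebraMap k[X] (RatFunc k)

theorem val_poly_eq_exp_mult (P : Place k (RatFunc k)) {p : k[X]} (hp : Irreducible p)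
    (hlt : P.1 (ι p) < 1) {q : k[X]} (hq : q ≠ 0) :
    P.1 (ι q) = exp (-(multiplicity p q : ℤ)) := by
  obtain ⟨c, hc, hnd⟩ :=
    (FiniteMultiplicity.of_not_isUnit hp.not_isUnit hq).exists_eq_pow_mul_and_not_dvd
  conv_lhs => rw [hc]
  rw [map_mul, map_mul, map_pow, map_pow, Rat.val_poly_eq_one_of_not_dvd P hp hlt hnd, mul_one,
    Rat.val_irreducible_eq P hp hlt, ← exp_nsmul]
  congr 1
  simp

theorem finite_unique {P Q : Place k (RatFunc k)} {p : k[X]} (hp : Irreducible p)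
    (hP : P.1 (ι p) < 1) (hQ : Q.1 (ι p) < 1) : Q = P := by
  apply Subtype.ext
  ext r
  by_cases hr : r = 0
  · rw [hr, map_zero, map_zero]
  · have hdiv := RatFunc.num_div_denom r
    rw [← hdiv, map_div₀, map_div₀, val_poly_eq_exp_mult P hp hP (RatFunc.num_ne_zero hr),
      val_poly_eq_exp_mult Q hp hQ (RatFunc.num_ne_zero hr),
      val_poly_eq_exp_mult P hp hP r.denom_ne_zero, val_poly_eq_exp_mult Q hp hQ r.denom_ne_zero]

theorem exists_sq_eq {L : Type*} [Field L] [PerfectField L] (h20 : (2 : L) = 0) (u : L) :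
    ∃ s : L, s ^ 2 = u := by
  haveI : CharP L 2 := CharTwo.of_one_ne_zero_of_two_eq_zero one_ne_zero h20
  haveI : ExpChar L 2 := ExpChar.prime Nat.prime_two
  obtain ⟨s, hs⟩ := surjective_frobenius L 2 u
  exact ⟨s, by rw [← hs, frobenius_def]⟩

variable [PerfectField k]

/-- One reduction step at a finite place. -/
theorem step_finite (h20 : (2 : k) = 0) (P : Place k (RatFunc k)) (hX : P.1 RatFunc.X ≤ 1)
    (a b : k[X]) (hab : IsCoprime a b) (hb0 : b ≠ 0) (m : ℕ) (hm : 1 ≤ m)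
    (hf : P.1 (ι a / ι b) = exp (2 * (m : ℤ))) :
    ∃ g : RatFunc k, (∀ Q : Place k (RatFunc k), Q ≠ P → Q.1 g ≤ 1) ∧
      P.1 (ι a / ι b + g ^ 2 + g) < P.1 (ι a / ι b) := by
  classical
  have hιb0 : ι b ≠ 0 := RatFunc.algebraMap_ne_zero hb0
  have hPa : P.1 (ι a) ≤ 1 := Rat.val_poly_le_one P hX a
  have hPb0 : P.1 (ι b) ≠ 0 := (_root_.map_ne_zero _).mpr hιb0
  have hPf1 : 1 < P.1 (ι a / ι b) := by
    rw [hf, ← exp_zero, exp_lt_exp]
    omega
  have hmul : P.1 (ι a / ι b) * P.1 (ι b) = P.1 (ι a) := by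
    rw [← map_mul, div_mul_cancel₀ _ hιb0]
  have hPb : P.1 (ι b) < 1 := by
    by_contra hge
    rw [not_lt] at hge
    have h1 : P.1 (ι a / ι b) ≤ P.1 (ι a / ι b) * P.1 (ι b) := le_mul_of_one_le_right zero_le hge
    rw [hmul] at h1
    exact absurd (lt_of_lt_of_le hPf1 h1) (not_lt.mpr hPa)
  obtain ⟨π, hπ, hπb, hπlt⟩ := Hyper.exists_irreducible_val_lt P b hb0 hPb
  have hπ0 : π ≠ 0 := hπ.ne_zero
  have hπa : ¬ π ∣ a := fun hπa => hπ.not_isUnit (hab.isUnit_of_dvd' hπa hπb)
  have hPa1 : P.1 (ι a) = 1 := Rat.val_poly_eq_one_of_not_dvd P hπ hπlt hπa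
  have hPπ : P.1 (ι π) = exp (-1) := Rat.val_irreducible_eq P hπ hπlt
  obtain ⟨b₂, hb₂, hπb₂⟩ :=
    (FiniteMultiplicity.of_not_isUnit hπ.not_isUnit hb0).exists_eq_pow_mul_and_not_dvd
  obtain ⟨β, hβ⟩ : ∃ β : ℕ, β = multiplicity π b := ⟨_, rfl⟩
  rw [← hβ] at hb₂
  have hPb₂ : P.1 (ι b₂) = 1 := Rat.val_poly_eq_one_of_not_dvd P hπ hπlt hπb₂
  have hιb : ι b = ι π ^ β * ι b₂ := by
    conv_lhs => rw [hb₂]
    rw [map_mul, map_pow]
  have hPbβ : P.1 (ι b) = exp (-(β : ℤ)) := by
    rw [hιb, map_mul, map_pow, hPb₂, mul_one, hPπ, ← exp_nsmul]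
    congr 1
    simp
  have hβm : β = 2 * m := by
    have h1 := hmul
    rw [hf, hPbβ, hPa1, ← exp_add, ← exp_zero, exp_inj] at h1
    omega
  -- the square root in the residue field
  haveI : Fact (Irreducible π) := ⟨hπ⟩
  haveI : Module.Finite k (AdjoinRoot π) := (AdjoinRoot.powerBasis hπ0).finite
  haveI : Algebra.IsAlgebraic k (AdjoinRoot π) := Algebra.IsAlgebraic.of_finite k _
  haveI : PerfectField (AdjoinRoot π) := Algebra.IsAlgebraic.perfectField k
  have h20' : (2 : AdjoinRoot π) = 0 := by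
    have : (2 : AdjoinRoot π) = algebraMap k (AdjoinRoot π) 2 := by rw [map_ofNat]
    rw [this, h20, map_zero]
  have hmkb₂ : AdjoinRoot.mk π b₂ ≠ 0 := fun h => hπb₂ (AdjoinRoot.mk_eq_zero.mp h)
  obtain ⟨s, hs⟩ := exists_sq_eq h20' (AdjoinRoot.mk π a / AdjoinRoot.mk π b₂)
  obtain ⟨c₀, hc₀⟩ := AdjoinRoot.mk_surjective s
  obtain ⟨c, hc⟩ : ∃ c : k[X], c = c₀ % π := ⟨_, rfl⟩
  have hmkc : AdjoinRoot.mk π c = s := by
    rw [← hc₀, AdjoinRoot.mk_eq_mk]
    have := EuclideanDomain.mod_add_div c₀ π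
    refine ⟨-(c₀ / π), ?_⟩
    rw [hc]
    linear_combination this
  have hdvd : π ∣ a + c ^ 2 * b₂ := by
    rw [← AdjoinRoot.mk_eq_zero, map_add, map_mul, map_pow, hmkc, hs, div_mul_cancel₀ _ hmkb₂,
      ← two_mul, h20', zero_mul]
  have hcdeg : c ≠ 0 → c.natDegree < π.natDegree := by
    intro hc0
    have := Polynomial.degree_mod_lt c₀ hπ0
    rw [← hc] at this
    exact Polynomial.natDegree_lt_natDegree hc0 this
  have hιπ0 : ι π ≠ 0 := RatFunc.algebraMap_ne_zero hπ0
  have hιb₂0 : ι b₂ ≠ 0 := RatFunc.algebraMap_ne_zero (by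
    rintro rfl
    exact hπb₂ (dvd_zero _))
  refine ⟨ι c / ι π ^ m, ?_, ?_⟩
  · intro Q hQ
    rcases le_or_gt (Q.1 RatFunc.X) 1 with hQX | hQX
    · have hQπ : Q.1 (ι π) = 1 := by
        by_contra hne
        have hlt : Q.1 (ι π) < 1 := lt_of_le_of_ne (Rat.val_poly_le_one Q hQX π) hne
        exact hQ (finite_unique hπ hπlt hlt)
      rw [map_div₀, map_pow, hQπ, one_pow, div_one]
      exact Rat.val_poly_le_one Q hQX c
    · by_cases hc0 : c = 0
      · rw [hc0, map_zero, zero_div, map_zero]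
        exact zero_le_one
      · have hlt := hcdeg hc0
        have hQX0 : 0 < Q.1 (RatFunc.X : RatFunc k) := lt_trans zero_lt_one hQX
        rw [map_div₀, map_pow, Rat.val_poly_of_one_lt Q hQX hc0,
          Rat.val_poly_of_one_lt Q hQX hπ0, ← pow_mul, div_le_one₀ (pow_pos hQX0 _)]
        exact pow_le_pow_right₀ hQX.le (hlt.le.trans (Nat.le_mul_of_pos_right _ (by omega)))
  · obtain ⟨d, hd⟩ := hdvd
    have hfg : ι a / ι b + (ι c / ι π ^ m) ^ 2 = ι π * ι d / ι b := by
      rw [← map_mul, ← hd, map_add, map_mul, map_pow, hιb, hβm]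
      field_simp
      ring
    have hPd : P.1 (ι d) ≤ 1 := Rat.val_poly_le_one P hX d
    have hPc : P.1 (ι c) ≤ 1 := Rat.val_poly_le_one P hX c
    have hPb' : P.1 (ι b) = exp (-(2 * (m : ℤ))) := by
      rw [hPbβ, hβm]
      push_cast
      rfl
    have h1 : P.1 (ι a / ι b + (ι c / ι π ^ m) ^ 2) ≤ exp (2 * (m : ℤ) - 1) := by
      rw [hfg, map_div₀, map_mul, hPπ, hPb']
      calc exp (-1) * P.1 (ι d) / exp (-(2 * (m : ℤ)))
          ≤ exp (-1) * 1 / exp (-(2 * (m : ℤ))) :=
            div_le_div_of_nonneg_right (mul_le_mul' le_rfl hPd) zero_le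
        _ = exp (2 * (m : ℤ) - 1) := by
            rw [mul_one, ← exp_sub]
            congr 1
            ring
    have h2 : P.1 (ι c / ι π ^ m) ≤ exp (m : ℤ) := by
      rw [map_div₀, map_pow, hPπ, ← exp_nsmul]
      calc P.1 (ι c) / exp (m • (-1 : ℤ)) ≤ 1 / exp (m • (-1 : ℤ)) :=
            div_le_div_of_nonneg_right hPc zero_le
        _ = exp (m : ℤ) := by
            rw [one_div, ← exp_neg]
            congr 1
            simp
    have h3 : exp (2 * (m : ℤ) - 1) < exp (2 * (m : ℤ)) := exp_lt_exp.mpr (by omega)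
    have h4 : exp (m : ℤ) < exp (2 * (m : ℤ)) := exp_lt_exp.mpr (by omega)
    rw [hf]
    exact (P.1.map_add _ _).trans_lt (max_lt (h1.trans_lt h3) (h2.trans_lt h4))

/-- One reduction step at the infinite place. -/
theorem step_infinite (h20 : (2 : k) = 0) (P : Place k (RatFunc k)) (hX : 1 < P.1 RatFunc.X)
    (a b : k[X]) (ha0 : a ≠ 0) (hb0 : b ≠ 0) (m : ℕ) (hm : 1 ≤ m)
    (hf : P.1 (ι a / ι b) = exp (2 * (m : ℤ))) :
    ∃ g : RatFunc k, (∀ Q : Place k (RatFunc k), Q ≠ P → Q.1 g ≤ 1) ∧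
      P.1 (ι a / ι b + g ^ 2 + g) < P.1 (ι a / ι b) := by
  classical
  have hιb0 : ι b ≠ 0 := RatFunc.algebraMap_ne_zero hb0
  have hPX : P.1 (RatFunc.X : RatFunc k) = exp 1 := Rat.val_X_eq_of_one_lt P hX
  have hval : ∀ q : k[X], q ≠ 0 → P.1 (ι q) = exp (q.natDegree : ℤ) := by
    intro q hq
    rw [Rat.val_poly_of_one_lt P hX hq, hPX, ← exp_nsmul]
    congr 1
    simp
  have hdegab : (a.natDegree : ℤ) = b.natDegree + 2 * m := by
    have h1 := hf
    rw [map_div₀, hval a ha0, hval b hb0, ← exp_sub, exp_inj] at h1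
    omega
  have hdegab' : a.natDegree = b.natDegree + 2 * m := by exact_mod_cast hdegab
  have hlb0 : b.leadingCoeff ≠ 0 := leadingCoeff_ne_zero.mpr hb0
  obtain ⟨s, hs⟩ := exists_sq_eq h20 (a.leadingCoeff / b.leadingCoeff)
  obtain ⟨c, hc⟩ : ∃ c : k[X], c = C s * X ^ m := ⟨_, rfl⟩
  have hc2 : c ^ 2 * b = C (a.leadingCoeff / b.leadingCoeff) * (X ^ (2 * m) * b) := by
    rw [hc, mul_pow, ← C_pow, hs, ← pow_mul, mul_comm m 2, mul_assoc]
  obtain ⟨n', hn'⟩ : ∃ n' : k[X], n' = a + c ^ 2 * b := ⟨_, rfl⟩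
  have hdeg : n'.degree < (a.natDegree : WithBot ℕ) := by
    rw [degree_lt_iff_coeff_zero]
    intro j hj
    rw [hn', hc2, coeff_add, coeff_C_mul, coeff_X_pow_mul']
    rcases hj.lt_or_eq with hlt | heq
    · have h1 : a.coeff j = 0 := coeff_eq_zero_of_natDegree_lt hlt
      have h2 : 2 * m ≤ j := by omega
      have h3 : b.coeff (j - 2 * m) = 0 := coeff_eq_zero_of_natDegree_lt (by omega)
      rw [h1, if_pos h2, h3, mul_zero, add_zero]
    · have h2 : 2 * m ≤ j := by omega
      have h3 : j - 2 * m = b.natDegree := by omega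
      rw [if_pos h2, h3, ← heq, coeff_natDegree, coeff_natDegree, div_mul_cancel₀ _ hlb0,
        ← two_mul, h20, zero_mul]
  have hPn' : P.1 (ι n') ≤ exp ((a.natDegree : ℤ) - 1) := by
    by_cases hn0 : n' = 0
    · rw [hn0, map_zero, map_zero]
      exact zero_le
    · have h1 : n'.natDegree < a.natDegree := (natDegree_lt_iff_degree_lt hn0).mpr hdeg
      rw [hval n' hn0, exp_le_exp]
      omega
  set g : RatFunc k := RatFunc.C s * RatFunc.X ^ m with hg
  have hgc : g = ι c := by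
    rw [hg, hc, map_mul, map_pow, RatFunc.algebraMap_C, RatFunc.algebraMap_X]
  have hCs : ∀ Q : Place k (RatFunc k), Q.1 (RatFunc.C s) ≤ 1 := by
    intro Q
    rw [← RatFunc.algebraMap_eq_C]
    exact Q.2.1 s
  refine ⟨g, ?_, ?_⟩
  · intro Q hQ
    have hQX : Q.1 (RatFunc.X : RatFunc k) ≤ 1 := Hyper.val_X_le_one_of_ne hX hQ
    rw [hg, map_mul, map_pow]
    exact mul_le_one' (hCs Q) (pow_le_one' hQX m)
  · have hfg : ι a / ι b + g ^ 2 = ι n' / ι b := by
      rw [hgc, hn', map_add, map_mul, map_pow]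
      field_simp
    have h1 : P.1 (ι a / ι b + g ^ 2) ≤ exp (2 * (m : ℤ) - 1) := by
      rw [hfg, map_div₀, hval b hb0]
      calc P.1 (ι n') / exp (b.natDegree : ℤ)
          ≤ exp ((a.natDegree : ℤ) - 1) / exp (b.natDegree : ℤ) :=
            div_le_div_of_nonneg_right hPn' zero_le
        _ = exp (2 * (m : ℤ) - 1) := by
            rw [← exp_sub]
            congr 1
            omega
    have h2 : P.1 g ≤ exp (m : ℤ) := by
      rw [hg, map_mul, map_pow, hPX, ← exp_nsmul]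
      calc P.1 (RatFunc.C s) * exp (m • (1 : ℤ)) ≤ 1 * exp (m • (1 : ℤ)) :=
            mul_le_mul' (hCs P) le_rfl
        _ = exp (m : ℤ) := by
            rw [one_mul]
            congr 1
            simp
    have h3 : exp (2 * (m : ℤ) - 1) < exp (2 * (m : ℤ)) := exp_lt_exp.mpr (by omega)
    have h4 : exp (m : ℤ) < exp (2 * (m : ℤ)) := exp_lt_exp.mpr (by omega)
    rw [hf]
    exact (P.1.map_add _ _).trans_lt (max_lt (h1.trans_lt h3) (h2.trans_lt h4))

end Places

end Groth.Agent.Lib.Helper27.ASN
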