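import Mathlib
import Groth.Prelude.Def_W4bk4goldsch23FF
import Groth.Prelude.Def_W4bk4goldsch23Ext
import Groth.Prelude.Def_LocRes
import Groth.Agent.Lib.Helper27.Tate10
import Groth.Agent.Lib.Helper27.FunFldCore

/-! The coefficient field of an expansion: the constant-term homomorphism, finite dimension,
separability at residue degree one. -/

set_option autoImplicit false

namespace Groth.Agent.Lib.Helper27.Tate

open LaurentSeries HahnSeries FunFld Polynomial
open Groth.Agent.Lib.Helper27.FF

universe u v w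

section Coeff

variable {k : Type u} {K : Type v} {F : Type w} [Field k] [Field K] [Field F] [Algebra k K]
  [Algebra k F] {w : Valuation K (WithZero (Multiplicative ℤ))} {φ : K →ₐ[k] F⸨X⸩}

theorem coeff_neg_of_le (hφ : LocRes.IsExpansionAt w φ) {z : K} (hz : w z ≤ 1) :
    ∀ n < 0, (φ z).coeff n = 0 := by
  have : Valued.v (φ z) ≤ WithZero.exp (-(0 : ℤ)) := by
    rw [hφ.1, neg_zero, WithZero.exp_zero]; exact hz
  exact LR.val_le_exp_iff.mp this

theorem coeff_zero_eq_zero_of_lt (hφ : LocRes.IsExpansionAt w φ) {z : K} (hz : w z < 1) :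
    (φ z).coeff 0 = 0 := by
  have h1 : Valued.v (φ z) ≤ WithZero.exp (-(1 : ℤ)) := by
    rw [hφ.1]
    exact Groth.Agent.Lib.Helper23.FF.le_exp_neg_one_of_lt_one hz
  exact LR.val_le_exp_iff.mp h1 0 (by norm_num)

theorem lt_one_of_coeff_zero (hφ : LocRes.IsExpansionAt w φ) {z : K} (hz : w z ≤ 1)
    (h0 : (φ z).coeff 0 = 0) : w z < 1 := by
  rcases hz.lt_or_eq with h | h
  · exact h
  · exfalso
    have h1 : Valued.v (φ z) = WithZero.exp (-(0 : ℤ)) := by
      rw [hφ.1, h, neg_zero, WithZero.exp_zero]
    exact (LR.val_eq_exp_iff.mp h1).2 h0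

theorem coeff_zero_mul (hφ : LocRes.IsExpansionAt w φ) {a b : K} (ha : w a ≤ 1) (hb : w b ≤ 1) :
    (φ (a * b)).coeff 0 = (φ a).coeff 0 * (φ b).coeff 0 := by
  rw [map_mul]
  have := coeff_mul_add (coeff_neg_of_le hφ ha) (coeff_neg_of_le hφ hb)
  rwa [zero_add] at this

theorem coeff_zero_algebraMap (c : k) : (φ (algebraMap k K c)).coeff 0 = algebraMap k F c := by
  rw [LocRes.map_algebraMap, HahnSeries.C_apply, HahnSeries.coeff_single_same]

theorem val_algebraMap_le (hφ : LocRes.IsExpansionAt w φ) (c : k) : w (algebraMap k K c) ≤ 1 := by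
  rw [← hφ.1, LocRes.map_algebraMap, ← coeff_neg_iff_val']
  intro n hn
  rw [HahnSeries.C_apply, HahnSeries.coeff_single_of_ne (ne_of_lt hn)]
where
  coeff_neg_iff_val' {ξ : F⸨X⸩} : (∀ n < 0, ξ.coeff n = 0) ↔ Valued.v ξ ≤ 1 := by
    rw [← WithZero.exp_zero, ← neg_zero]
    exact LR.val_le_exp_iff.symm

theorem coeff_zero_aeval (hφ : LocRes.IsExpansionAt w φ) {z : K} (hz : w z ≤ 1) (g : k[X]) :
    w (aeval z g) ≤ 1 ∧ (φ (aeval z g)).coeff 0 = aeval ((φ z).coeff 0) g := by
  induction g using Polynomial.induction_on' with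
  | add p q hp hq =>
    have e1 : aeval z (p + q) = aeval z p + aeval z q := map_add _ _ _
    have e2 : aeval ((φ z).coeff 0) (p + q) =
        aeval ((φ z).coeff 0) p + aeval ((φ z).coeff 0) q := map_add _ _ _
    rw [e1, e2, map_add φ, HahnSeries.coeff_add, hp.2, hq.2]
    exact ⟨(w.map_add _ _).trans (max_le hp.1 hq.1), rfl⟩
  | monomial n c =>
    rw [aeval_monomial, aeval_monomial]
    have hzn : w (z ^ n) ≤ 1 := by rw [map_pow]; exact pow_le_one' hz n
    have hc := val_algebraMap_le hφ c
    refine ⟨by rw [map_mul]; exact mul_le_one' hc hzn, ?_⟩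
    rw [coeff_zero_mul hφ hc hzn, coeff_zero_algebraMap]
    congr 1
    clear hzn
    induction n with
    | zero => rw [pow_zero, pow_zero, map_one, HahnSeries.coeff_one, if_pos rfl]
    | succ m ih =>
      have hzm : w (z ^ m) ≤ 1 := by rw [map_pow]; exact pow_le_one' hz m
      rw [pow_succ, pow_succ, coeff_zero_mul hφ hzm hz, ih]

end Coeff

section FinDim

variable {k : Type u} {K : Type v} {F : Type w} [Field k] [Field K] [Field F] [Algebra k K]
  [Algebra k F]

/-- The coefficient field of an expansion at a place is finite over the base field. -/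
theorem finiteDimensional_coeffField_of_res {P : Place k K}
    (hres : FiniteDimensional k (IsLocalRing.ResidueField P.O))
    {φ : K →ₐ[k] F⸨X⸩} (hφ : LocRes.IsExpansionAt P.1 φ) : FiniteDimensional k F := by
  haveI := hres
  have hmem : ∀ z : P.O, P.1 (z : K) ≤ 1 := fun z => (Valuation.mem_valuationSubring_iff _ _).mp z.2
  let evO : P.O →+* F :=
    { toFun := fun z => (φ (z : K)).coeff 0
      map_one' := by
        show (φ ((1 : P.O) : K)).coeff 0 = 1
        rw [OneMemClass.coe_one, map_one, HahnSeries.coeff_one, if_pos rfl]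
      map_mul' := by
        intro a b
        show (φ ((a * b : P.O) : K)).coeff 0 = _
        rw [MulMemClass.coe_mul]
        exact coeff_zero_mul hφ (hmem a) (hmem b)
      map_zero' := by
        show (φ ((0 : P.O) : K)).coeff 0 = 0
        rw [ZeroMemClass.coe_zero, map_zero, HahnSeries.coeff_zero]
      map_add' := by
        intro a b
        show (φ ((a + b : P.O) : K)).coeff 0 = _
        rw [AddMemClass.coe_add, map_add, HahnSeries.coeff_add] }
  have hev : ∀ z : P.O, evO z = (φ (z : K)).coeff 0 := fun z => rfl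
  haveI : IsLocalHom evO := by
    refine ⟨fun a ha => ?_⟩
    have hne : evO a ≠ 0 := ha.ne_zero
    have h1 : P.1 (a : K) = 1 := by
      rcases (hmem a).lt_or_eq with h | h
      · exact absurd (coeff_zero_eq_zero_of_lt hφ h) hne
      · exact h
    have h2 : P.O.valuation (a : K) = 1 := by
      have := (Valuation.isEquiv_valuation_valuationSubring P.1)
      exact (Valuation.IsEquiv.eq_one_iff_eq_one this).mp h1
    exact (ValuationSubring.valuation_eq_one_iff P.O a).mpr h2
  let lft : IsLocalRing.ResidueField P.O →+* F := IsLocalRing.ResidueField.lift evO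
  let lin : IsLocalRing.ResidueField P.O →ₗ[k] F :=
    { toFun := lft
      map_add' := map_add lft
      map_smul' := by
        intro c r
        refine (congrArg lft (Algebra.smul_def c r)).trans ?_
        rw [map_mul]
        refine Eq.trans ?_ (Algebra.smul_def c (lft r)).symm
        congr 1
        show lft (IsLocalRing.residue P.O (algebraMap k P.O c)) = algebraMap k F c
        rw [IsLocalRing.ResidueField.lift_residue_apply, hev]
        exact coeff_zero_algebraMap c }
  have hsurj : Function.Surjective lin := by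
    intro c
    obtain ⟨f, hf1, hf2⟩ := hφ.2.1 c
    refine ⟨IsLocalRing.residue P.O ⟨f, (Valuation.mem_valuationSubring_iff _ _).mpr hf1⟩, ?_⟩
    show lft (IsLocalRing.residue P.O _) = c
    rw [IsLocalRing.ResidueField.lift_residue_apply, hev]
    exact hf2
  exact Module.Finite.of_surjective lin hsurj

/-- The coefficient field of an expansion at a place is finite over the base field. -/
theorem finiteDimensional_coeffField (hK : IsFunctionField k K) {P : Place k K}
    {φ : K →ₐ[k] F⸨X⸩} (hφ : LocRes.IsExpansionAt P.1 φ) : FiniteDimensional k F :=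
  finiteDimensional_coeffField_of_res ((core_of hK).finDimRes P) hφ

end FinDim

section Sep

variable {k : Type u} {K K' : Type v} [Field k] [Field K] [Field K'] [Algebra k K]
  [Algebra K K'] [Algebra k K'] [IsScalarTower k K K']
  {F F' : Type w} [Field F] [Algebra k F] [Field F'] [Algebra k F']

/-- residue degree one, in elementary form -/
theorem exists_approx_of_residue_surjective (P : Place k K) (Q : Place k K')
    [P.1.HasExtension Q.1]
    (hf : Function.Surjective (algebraMap (IsLocalRing.ResidueField P.O)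
      (IsLocalRing.ResidueField Q.O)))
    {z' : K'} (hz' : Q.1 z' ≤ 1) :
    ∃ z : K, P.1 z ≤ 1 ∧ Q.1 (z' - algebraMap K K' z) < 1 := by
  obtain ⟨r, hr⟩ := hf (IsLocalRing.residue Q.O ⟨z', (Valuation.mem_valuationSubring_iff _ _).mpr hz'⟩)
  obtain ⟨z₀, rfl⟩ := IsLocalRing.residue_surjective r
  refine ⟨z₀.1, (Valuation.mem_valuationSubring_iff _ _).mp z₀.2, ?_⟩
  rw [Valuation.HasExtension.algebraMap_residue_eq_residue_algebraMap, eq_comm,
    ← sub_eq_zero, ← map_sub, IsLocalRing.residue_eq_zero_iff] at hr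
  have h1 := (ValuationSubring.valuation_lt_one_iff Q.O _).mp hr
  have h2 := (Valuation.isEquiv_iff_val_lt_one.mp
    (Valuation.isEquiv_valuation_valuationSubring Q.1)).mpr h1
  exact h2

/-- Separability of the coefficient field is inherited at residue degree one. -/
theorem isSeparable_coeffField_of_residue_surjective (P : Place k K) (Q : Place k K')
    (hover : ∀ z : K, P.1 z ≤ 1 → Q.1 (algebraMap K K' z) ≤ 1)
    (hover' : ∀ z : K, P.1 z < 1 → Q.1 (algebraMap K K' z) < 1)
    (hrd : ∀ z' : K', Q.1 z' ≤ 1 → ∃ z : K, P.1 z ≤ 1 ∧ Q.1 (z' - algebraMap K K' z) < 1)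
    {φ : K →ₐ[k] F⸨X⸩} (hφ : LocRes.IsExpansionAt P.1 φ)
    {ψ : K' →ₐ[k] F'⸨X⸩} (hψ : LocRes.IsExpansionAt Q.1 ψ)
    [Algebra.IsSeparable k F] : Algebra.IsSeparable k F' := by
  refine ⟨fun c' => ?_⟩
  obtain ⟨f', hf'1, hf'2⟩ := hψ.2.1 c'
  obtain ⟨f, hf1, hf2⟩ := hrd f' hf'1
  set c := (φ f).coeff 0 with hc
  have hsep : (minpoly k c).Separable := Algebra.IsSeparable.isSeparable k c
  set g := minpoly k c with hg
  have h1 := coeff_zero_aeval hφ hf1 g
  rw [← hc, hg, minpoly.aeval] at h1
  have h2 : P.1 (aeval f (minpoly k c)) < 1 := lt_one_of_coeff_zero hφ h1.1 h1.2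
  have h3 := hover' _ h2
  rw [← aeval_algebraMap_apply] at h3
  have h4 := coeff_zero_aeval hψ (hover f hf1) (minpoly k c)
  rw [coeff_zero_eq_zero_of_lt hψ h3] at h4
  have h5 : (ψ (algebraMap K K' f)).coeff 0 = c' := by
    have e : algebraMap K K' f = f' - (f' - algebraMap K K' f) := by ring
    rw [e, map_sub, HahnSeries.coeff_sub, coeff_zero_eq_zero_of_lt hψ hf2, sub_zero, hf'2]
  rw [h5] at h4
  have hdvd := minpoly.dvd k c' h4.2.symm
  exact hsep.of_dvd hdvd

end Sep

end Groth.Agent.Lib.Helper27.Tate
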