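import Mathlib
import Groth.Prelude.Def_W4bk4goldsch23FF
import Groth.Prelude.Def_LocRes
import Groth.Agent.Lib.Helper27.Tate18
import Groth.Agent.Lib.Helper27.LR2

/-! Hilbert's different formula, part 2: a local generator of `O_Q` over `k`: an element `y`
such that `k[y]` is `Q`-adically dense in `O_Q`. -/

set_option autoImplicit false

namespace Groth.Agent.Lib.Helper27.Hilb

open FunFld Polynomial WithZero LaurentSeries

universe u v w
variable {k : Type u} {L : Type v} {F : Type w} [Field k] [Field L] [Field F] [Algebra k L]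
  [Algebra k F]

/-- A subalgebra containing a uniformizer and representatives of all residues is dense in `O_Q`. -/
theorem dense_of_residue_unif (R : Subalgebra k L) (Q : Place k L)
    (hres : ∀ z : L, Q.1 z ≤ 1 → ∃ r ∈ R, Q.1 (z - r) < 1) {τ : L} (hτR : τ ∈ R)
    (hτ : Q.1 τ = exp (-1)) (z₀ : L) (hz₀ : Q.1 z₀ ≤ 1) (N : ℕ) :
    ∃ r ∈ R, Q.1 (r - z₀) ≤ exp (-(N : ℤ)) := by
  induction N with
  | zero =>
    refine ⟨0, R.zero_mem, ?_⟩
    rw [zero_sub, Valuation.map_neg]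
    simpa using hz₀
  | succ N ih =>
    obtain ⟨r, hrR, hr⟩ := ih
    have hτ0 : τ ≠ 0 := by
      rintro rfl
      rw [map_zero] at hτ
      exact exp_ne_zero hτ.symm
    have hτN : Q.1 (τ ^ N) = exp (-(N : ℤ)) := by
      rw [map_pow, hτ, ← exp_nsmul]
      congr 1
      simp
    set w := (z₀ - r) / τ ^ N with hw
    have hwQ : Q.1 w ≤ 1 := by
      rw [hw, map_div₀, hτN]
      apply div_le_one_of_le₀ _ zero_le
      rw [← Valuation.map_neg, neg_sub]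
      exact hr
    obtain ⟨r', hr'R, hr'⟩ := hres w hwQ
    refine ⟨r + r' * τ ^ N, R.add_mem hrR (R.mul_mem hr'R (R.pow_mem hτR N)), ?_⟩
    have e : r + r' * τ ^ N - z₀ = -(τ ^ N * (w - r')) := by
      rw [hw]
      field_simp
      ring
    rw [e, Valuation.map_neg, map_mul, hτN]
    have h1 := Groth.Agent.Lib.Helper23.FF.le_exp_neg_one_of_lt_one hr'
    calc exp (-(N : ℤ)) * Q.1 (w - r') ≤ exp (-(N : ℤ)) * exp (-1) := mul_le_mul' le_rfl h1
      _ = exp (-((N + 1 : ℕ) : ℤ)) := by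
        rw [← exp_add]
        congr 1
        push_cast
        ring

/-- Density with control at finitely many other places where `y` is small. -/
theorem approx_with_control (R : Subalgebra k L) (Q : Place k L) (hRQ : ∀ r ∈ R, Q.1 r ≤ 1)
    (hdense : ∀ z₀ : L, Q.1 z₀ ≤ 1 → ∀ N : ℕ, ∃ r ∈ R, Q.1 (r - z₀) ≤ exp (-(N : ℤ)))
    {y : L} (hyR : y ∈ R) (hyQ : Q.1 y = 1) (Qs : Finset (Place k L))
    (hQs : ∀ Q' ∈ Qs, Q'.1 y < 1 ∧ ∀ r ∈ R, Q'.1 r ≤ 1) {z₀ : L} (hz₀ : Q.1 z₀ ≤ 1) (N : ℕ) :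
    ∃ r ∈ R, Q.1 (r - z₀) ≤ exp (-(N : ℤ)) ∧ ∀ Q' ∈ Qs, Q'.1 r ≤ exp (-(N : ℤ)) := by
  obtain ⟨r₁, hr₁R, hr₁⟩ := hdense z₀ hz₀ N
  have hy0 : y ≠ 0 := by
    rintro rfl
    rw [map_zero] at hyQ
    exact zero_ne_one hyQ
  have hyinv : Q.1 ((y⁻¹) ^ N) ≤ 1 := by
    rw [map_pow, map_inv₀, hyQ, inv_one, one_pow]
  obtain ⟨h, hhR, hh⟩ := hdense _ hyinv N
  set c := y ^ N * h with hc
  have hcR : c ∈ R := R.mul_mem (R.pow_mem hyR N) hhR
  have hc1 : Q.1 (c - 1) ≤ exp (-(N : ℤ)) := by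
    have e : c - 1 = y ^ N * (h - (y⁻¹) ^ N) := by
      rw [hc, mul_sub, ← mul_pow, mul_inv_cancel₀ hy0, one_pow]
    rw [e, map_mul, map_pow, hyQ, one_pow, one_mul]
    exact hh
  refine ⟨r₁ * c, R.mul_mem hr₁R hcR, ?_, ?_⟩
  · have e : r₁ * c - z₀ = r₁ * (c - 1) + (r₁ - z₀) := by ring
    rw [e]
    refine (Q.1.map_add _ _).trans (max_le ?_ hr₁)
    rw [map_mul]
    calc Q.1 r₁ * Q.1 (c - 1) ≤ 1 * exp (-(N : ℤ)) := mul_le_mul' (hRQ r₁ hr₁R) hc1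
      _ = _ := one_mul _
  · intro Q' hQ'
    obtain ⟨hy', hR'⟩ := hQs Q' hQ'
    have h2 := Groth.Agent.Lib.Helper23.FF.le_exp_neg_one_of_lt_one hy'
    have e : Q'.1 (r₁ * c) = Q'.1 r₁ * (Q'.1 y ^ N * Q'.1 h) := by
      rw [Q'.1.map_mul r₁ c, hc, Q'.1.map_mul (y ^ N) h, map_pow]
    rw [e]
    calc Q'.1 r₁ * (Q'.1 y ^ N * Q'.1 h) ≤ 1 * (exp (-1) ^ N * 1) :=
          mul_le_mul' (hR' r₁ hr₁R) (mul_le_mul' (pow_le_pow_left' h2 N) (hR' h hhR))
      _ = exp (-(N : ℤ)) := by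
        rw [one_mul, mul_one, ← exp_nsmul]
        congr 1
        simp

end Groth.Agent.Lib.Helper27.Hilb
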