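import Mathlib
import Groth.Agent.Lib.Helper27.Hilb2

/-! Hilbert's different formula, part 3: existence of a local generator at a separable place. -/

set_option autoImplicit false

namespace Groth.Agent.Lib.Helper27.Hilb

open FunFld Polynomial WithZero LaurentSeries IntermediateField

universe u v w
variable {k : Type u} {L : Type v} {F : Type w} [Field k] [Field L] [Field F] [Algebra k L]
  [Algebra k F]

/-- a nonzero primitive element -/
theorem exists_primitive_ne_zero [FiniteDimensional k F] [Algebra.IsSeparable k F] :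
    ∃ θ : F, θ ≠ 0 ∧ Algebra.adjoin k ({θ} : Set F) = ⊤ := by
  obtain ⟨α, hα⟩ := Field.exists_primitive_element k F
  have key : ∀ β : F, k⟮β⟯ = ⊤ → Algebra.adjoin k ({β} : Set F) = ⊤ := by
    intro β hβ
    have hint : IsIntegral k β := Algebra.IsIntegral.isIntegral β
    rw [← IntermediateField.adjoin_simple_toSubalgebra_of_isAlgebraic hint.isAlgebraic, hβ,
      IntermediateField.top_toSubalgebra]
  by_cases h0 : α = 0
  · refine ⟨1, one_ne_zero, key 1 ?_⟩
    rw [← hα, h0]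
    rw [IntermediateField.adjoin_simple_eq_bot_iff.mpr (zero_mem _),
      IntermediateField.adjoin_simple_eq_bot_iff.mpr (one_mem _)]
  · exact ⟨α, h0, key α hα⟩

variable {Q : Place k L} {ψ : L →ₐ[k] F⸨X⸩}

theorem D_aeval (ψ : L →ₐ[k] F⸨X⸩) (y : L) (m : k[X]) :
    LocRes.D F (ψ (aeval y m)) = ψ (aeval y (derivative m)) * LocRes.D F (ψ y) := by
  apply LR.D_map_of_smul ψ
  exact (KaehlerDifferential.D k L).map_aeval m y

/-- An element of `O_Q` with prescribed residue whose expansion has a nonzero linear term. -/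
theorem exists_lift_with_linear_term (hψ : LocRes.IsExpansionAt Q.1 ψ) (θ : F) :
    ∃ y₁ : L, Q.1 y₁ ≤ 1 ∧ (ψ y₁).coeff 0 = θ ∧ Valued.v (LocRes.D F (ψ y₁)) = 1 := by
  obtain ⟨y₀, hy₀, hy₀θ⟩ := hψ.2.1 θ
  obtain ⟨π, hπ⟩ := hψ.2.2
  have hDπ : Valued.v (LocRes.D F (ψ π)) = 1 := by
    have h1 : Valued.v (ψ π) = exp (-(1 : ℤ)) := by rw [hψ.1]; exact hπ
    have h2 := LR.val_D_eq h1 (by simp)
    rw [h2]; simp
  have hDy₀ : Valued.v (LocRes.D F (ψ y₀)) ≤ 1 := LR.val_D_le_one (by rw [hψ.1]; exact hy₀)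
  rcases hDy₀.lt_or_eq with hlt | heq
  · have hπ1 : Q.1 π < 1 := by
      rw [hπ, ← exp_zero, exp_lt_exp]; norm_num
    refine ⟨y₀ + π, (Q.1.map_add _ _).trans (max_le hy₀ hπ1.le), ?_, ?_⟩
    · rw [map_add, HahnSeries.coeff_add, hy₀θ, Tate.coeff_zero_eq_zero_of_lt hψ hπ1, add_zero]
    · rw [map_add, map_add, add_comm, Valuation.map_add_eq_of_lt_left _ (by rw [hDπ]; exact hlt),
        hDπ]
  · exact ⟨y₀, hy₀, hy₀θ, heq⟩

/-- A local generator at a separable place: every element close enough to it is a unit at `Q`,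
represents (with polynomials over `k`) all residues, and some polynomial in it is a uniformizer. -/
theorem exists_local_generator (hψ : LocRes.IsExpansionAt Q.1 ψ)
    [FiniteDimensional k F] [Algebra.IsSeparable k F] :
    ∃ y₁ : L, Q.1 y₁ ≤ 1 ∧ ∀ y : L, Q.1 (y - y₁) ≤ exp (-2) →
      Q.1 y = 1 ∧ (∀ z : L, Q.1 z ≤ 1 → ∃ g : k[X], Q.1 (z - aeval y g) < 1) ∧
      ∃ m : k[X], Q.1 (aeval y m) = exp (-1) := by
  obtain ⟨θ, hθ0, hθ⟩ := exists_primitive_ne_zero (k := k) (F := F)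
  obtain ⟨y₁, hy₁, hy₁θ, hDy₁⟩ := exists_lift_with_linear_term hψ θ
  refine ⟨y₁, hy₁, fun y hy => ?_⟩
  have hlt : Q.1 (y - y₁) < 1 := lt_of_le_of_lt hy (by rw [← exp_zero, exp_lt_exp]; norm_num)
  have hyQ : Q.1 y ≤ 1 := by
    have : y = (y - y₁) + y₁ := by ring
    rw [this]
    exact (Q.1.map_add _ _).trans (max_le hlt.le hy₁)
  have hyθ : (ψ y).coeff 0 = θ := by
    have : y = (y - y₁) + y₁ := by ring
    rw [this, map_add, HahnSeries.coeff_add, Tate.coeff_zero_eq_zero_of_lt hψ hlt, zero_add, hy₁θ]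
  have hDy : Valued.v (LocRes.D F (ψ y)) = 1 := by
    have : y = y₁ + (y - y₁) := by ring
    rw [this, map_add, map_add]
    have h1 : Valued.v (LocRes.D F (ψ (y - y₁))) ≤ exp (-(2 - 1 : ℤ)) :=
      LR.val_D_le (by rw [hψ.1]; exact hy)
    have h2 : Valued.v (LocRes.D F (ψ (y - y₁))) < Valued.v (LocRes.D F (ψ y₁)) := by
      rw [hDy₁]
      exact lt_of_le_of_lt h1 (by rw [← exp_zero, exp_lt_exp]; norm_num)
    rw [Valuation.map_add_eq_of_lt_left _ h2, hDy₁]
  refine ⟨?_, ?_, ?_⟩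
  · rcases hyQ.lt_or_eq with h | h
    · exact absurd (Tate.coeff_zero_eq_zero_of_lt hψ h) (by rw [hyθ]; exact hθ0)
    · exact h
  · intro z hz
    have hmem : (ψ z).coeff 0 ∈ Algebra.adjoin k ({θ} : Set F) := by rw [hθ]; trivial
    rw [Algebra.adjoin_singleton_eq_range_aeval] at hmem
    obtain ⟨g, hg⟩ := hmem
    refine ⟨g, ?_⟩
    obtain ⟨h1, h2⟩ := Tate.coeff_zero_aeval hψ hyQ g
    apply Tate.lt_one_of_coeff_zero hψ ((Q.1.map_sub _ _).trans (max_le hz h1))
    rw [map_sub, HahnSeries.coeff_sub, h2, hyθ]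
    exact sub_eq_zero.mpr hg.symm
  · set m := minpoly k θ with hm
    have hsep : m.Separable := Algebra.IsSeparable.isSeparable k θ
    refine ⟨m, ?_⟩
    obtain ⟨h1, h2⟩ := Tate.coeff_zero_aeval hψ hyQ m
    rw [hyθ, hm, minpoly.aeval] at h2
    have hA : Q.1 (aeval y m) < 1 := Tate.lt_one_of_coeff_zero hψ h1 h2
    have hA1 := Groth.Agent.Lib.Helper23.FF.le_exp_neg_one_of_lt_one hA
    obtain ⟨h3, h4⟩ := Tate.coeff_zero_aeval hψ hyQ (derivative m)
    rw [hyθ] at h4
    have h5 : aeval θ (derivative m) ≠ 0 := hsep.aeval_derivative_ne_zero (minpoly.aeval k θ)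
    have hunit : Q.1 (aeval y (derivative m)) = 1 := by
      rcases h3.lt_or_eq with h | h
      · exact absurd (Tate.coeff_zero_eq_zero_of_lt hψ h) (by rw [h4]; exact h5)
      · exact h
    have hDA : Valued.v (LocRes.D F (ψ (aeval y m))) = 1 := by
      rw [D_aeval, map_mul, hψ.1, hunit, hDy, one_mul]
    apply le_antisymm hA1
    by_contra hcon
    rw [not_le] at hcon
    have h6 : Q.1 (aeval y m) ≤ exp (-(2 : ℤ)) := by
      have hne : Q.1 (aeval y m) ≠ 0 := by
        intro h0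
        rw [map_eq_zero] at h0
        rw [h0, map_zero, map_zero, map_zero] at hDA
        exact zero_ne_one hDA
      obtain ⟨n, hn⟩ : ∃ n : ℤ, Q.1 (aeval y m) = exp n :=
        ⟨log (Q.1 (aeval y m)), (exp_log hne).symm⟩
      rw [hn, exp_lt_exp] at hcon
      rw [hn, exp_le_exp]
      omega
    have h7 : Valued.v (LocRes.D F (ψ (aeval y m))) ≤ exp (-(2 - 1 : ℤ)) :=
      LR.val_D_le (by rw [hψ.1]; exact h6)
    rw [hDA, ← exp_zero, exp_le_exp] at h7
    omega

end Groth.Agent.Lib.Helper27.Hilb
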