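import Mathlib
import Groth.Prelude.Def_W4bk4goldsch23FF
import Groth.Prelude.Def_W4bk4goldsch23Ext
import Groth.Agent.Lib.Helper27.Hyper3

/-! The genus of a hyperelliptic function field `y² = f(x)`. -/

namespace Groth.Agent.Lib.Helper27.Hyper
open FunFld WithZero Polynomial

universe u v
variable {k : Type u} {K : Type v} [Field k] [Field K] [Algebra k K] [Algebra (RatFunc k) K]
  [IsScalarTower k (RatFunc k) K]

theorem exists_conj (y : K) (f : k[X]) (hf : Squarefree f) (hd : 1 ≤ f.natDegree)
    (heq : y ^ 2 = algebraMap (RatFunc k) K (algebraMap k[X] (RatFunc k) f))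
    (hrank : Module.finrank (RatFunc k) K = 2) : ∃ σ : K ≃ₐ[RatFunc k] K, σ y = -y := by
  haveI : FiniteDimensional (RatFunc k) K := Module.finite_of_finrank_pos (by omega)
  haveI : Algebra.IsQuadraticExtension (RatFunc k) K :=
    { toFree := inferInstance, finrank_eq_two' := hrank }
  have hyR := not_mem_range_of_sq y f hf hd heq
  have hint : IsIntegral (RatFunc k) y := .of_finite _ y
  set g : (RatFunc k)[X] := X ^ 2 - C (algebraMap k[X] (RatFunc k) f) with hg
  have hgmonic : g.Monic := monic_X_pow_sub_C _ two_ne_zero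
  have hgdeg : g.natDegree = 2 := natDegree_X_pow_sub_C
  have hgy : aeval y g = 0 := by simp [hg, heq]
  have hmin : minpoly (RatFunc k) y = g := by
    have hdvd := minpoly.dvd (RatFunc k) y hgy
    have hmm := minpoly.monic hint
    have h1 : (minpoly (RatFunc k) y).natDegree ≠ 1 := fun h =>
      hyR ((minpoly.natDegree_eq_one_iff).mp h)
    have h2' : 0 < (minpoly (RatFunc k) y).natDegree := minpoly.natDegree_pos hint
    exact (eq_of_monic_of_dvd_of_natDegree_le hmm hgmonic hdvd (by omega)).symm
  have hev : aeval (-y) (minpoly (RatFunc k) y) = 0 := by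
    rw [hmin]; simp [hg, heq]
  exact minpoly.exists_algEquiv_of_root' hint.isAlgebraic hev

section Main
variable (h2 : (2 : k) ≠ 0) (y : K) (f : k[X]) (hf : Squarefree f) (hd : 1 ≤ f.natDegree)
  (heq : y ^ 2 = algebraMap (RatFunc k) K (algebraMap k[X] (RatFunc k) f))
  (hrank : Module.finrank (RatFunc k) K = 2)

include h2 hf hd heq hrank in
/-- splitting an element of `L(conorm D)` into its two components. -/
theorem split_mem_L (D : Divisor k (RatFunc k)) {a b : RatFunc k}
    (hz : algebraMap (RatFunc k) K a + algebraMap (RatFunc k) K b * y ∈ L (conorm K D)) :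
    a ∈ L D ∧ algebraMap (RatFunc k) K b * y ∈ L (conorm K D) := by
  haveI : FiniteDimensional (RatFunc k) K := Module.finite_of_finrank_pos (by omega)
  have hK₀ := Rat.isFunctionField_ratFunc k
  obtain ⟨σ, hσ⟩ := exists_conj y f hf hd heq hrank
  have hσz := map_mem_L_conorm hK₀ D σ hz
  rw [map_add, map_mul, AlgEquiv.commutes, AlgEquiv.commutes, hσ] at hσz
  have h2K : algebraMap k K 2 = 2 := map_ofNat _ 2
  have hinv : (2 : k)⁻¹ * 2 = 1 := inv_mul_cancel₀ h2
  have hsum := (L (conorm K D)).smul_mem (2 : k)⁻¹ ((L (conorm K D)).add_mem hz hσz)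
  have hdiff := (L (conorm K D)).smul_mem (2 : k)⁻¹ ((L (conorm K D)).sub_mem hz hσz)
  have e1 : (2 : k)⁻¹ • (algebraMap (RatFunc k) K a + algebraMap (RatFunc k) K b * y +
      (algebraMap (RatFunc k) K a + algebraMap (RatFunc k) K b * -y)) =
      algebraMap (RatFunc k) K a := by
    rw [Algebra.smul_def]
    have : algebraMap (RatFunc k) K a + algebraMap (RatFunc k) K b * y +
      (algebraMap (RatFunc k) K a + algebraMap (RatFunc k) K b * -y) =
      algebraMap k K 2 * algebraMap (RatFunc k) K a := by rw [h2K]; ring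
    rw [this, ← mul_assoc, ← map_mul, hinv, map_one, one_mul]
  have e2 : (2 : k)⁻¹ • (algebraMap (RatFunc k) K a + algebraMap (RatFunc k) K b * y -
      (algebraMap (RatFunc k) K a + algebraMap (RatFunc k) K b * -y)) =
      algebraMap (RatFunc k) K b * y := by
    rw [Algebra.smul_def]
    have : algebraMap (RatFunc k) K a + algebraMap (RatFunc k) K b * y -
      (algebraMap (RatFunc k) K a + algebraMap (RatFunc k) K b * -y) =
      algebraMap k K 2 * (algebraMap (RatFunc k) K b * y) := by rw [h2K]; ring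
    rw [this, ← mul_assoc, ← map_mul, hinv, map_one, one_mul]
  rw [e1] at hsum
  rw [e2] at hdiff
  exact ⟨(algebraMap_mem_L_conorm_iff hK₀ D a).mp hsum, hdiff⟩

include heq hrank in
/-- `b y ∈ L(conorm D)` iff `b² f ∈ L(2 D)`. -/
theorem mul_y_mem_L_iff (D : Divisor k (RatFunc k)) (b : RatFunc k) :
    algebraMap (RatFunc k) K b * y ∈ L (conorm K D) ↔
      b ^ 2 * algebraMap k[X] (RatFunc k) f ∈ L ((2 : ℤ) • D) := by
  haveI : FiniteDimensional (RatFunc k) K := Module.finite_of_finrank_pos (by omega)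
  have hK₀ := Rat.isFunctionField_ratFunc k
  rw [← algebraMap_mem_L_conorm_iff (K' := K) hK₀]
  have hsq : algebraMap (RatFunc k) K (b ^ 2 * algebraMap k[X] (RatFunc k) f) =
      (algebraMap (RatFunc k) K b * y) ^ 2 := by
    rw [map_mul, map_pow, mul_pow, heq]
  have hcon : ∀ Q : Place k K, conorm K ((2 : ℤ) • D) Q = 2 * conorm K D Q := by
    intro Q
    obtain ⟨P, e, he⟩ := FF.exists_isOverWith hK₀ Q
    rw [conorm_apply_of_isOverWith hK₀ _ he, conorm_apply_of_isOverWith hK₀ _ he,
      Finsupp.smul_apply, smul_eq_mul]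
    ring
  have hexp : ∀ Q : Place k K, exp (conorm K ((2 : ℤ) • D) Q) = exp (conorm K D Q) ^ 2 := by
    intro Q
    rw [hcon, ← exp_nsmul]
    congr 1
  constructor
  · intro h Q
    rw [hsq, map_pow, hexp]
    exact pow_le_pow_left₀ zero_le (h Q) 2
  · intro h Q
    have := h Q
    rw [hsq, map_pow, hexp] at this
    exact (pow_le_pow_iff_left₀ zero_le zero_le two_ne_zero).mp this

omit [Field K] [Algebra k K] [Algebra (RatFunc k) K] [IsScalarTower k (RatFunc k) K] in
theorem natDegree_le_of_mem_degreeLT {p : k[X]} {n : ℕ} (hp : p ∈ degreeLT k (n + 1)) :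
    p.natDegree ≤ n := by
  rw [Polynomial.mem_degreeLT] at hp
  by_cases hp0 : p = 0
  · rw [hp0]; simp
  · rw [Polynomial.degree_eq_natDegree hp0] at hp
    have : p.natDegree < n + 1 := by exact_mod_cast hp
    omega

omit [Field K] [Algebra k K] [Algebra (RatFunc k) K] [IsScalarTower k (RatFunc k) K] in
theorem mem_degreeLT_of_natDegree_le {p : k[X]} {n : ℕ} (hp : p.natDegree ≤ n) :
    p ∈ degreeLT k (n + 1) := by
  rw [Polynomial.mem_degreeLT]
  calc p.degree ≤ (p.natDegree : WithBot ℕ) := Polynomial.degree_le_natDegree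
    _ < ((n + 1 : ℕ) : WithBot ℕ) := by exact_mod_cast Nat.lt_succ_of_le hp

/-- the `k`-linear map `p ↦ p(x)` from polynomials to `K`. -/
noncomputable def polyMap : k[X] →ₗ[k] K :=
  ((Algebra.linearMap (RatFunc k) K).restrictScalars k) ∘ₗ
    (IsScalarTower.toAlgHom k k[X] (RatFunc k)).toLinearMap

theorem polyMap_apply (p : k[X]) :
    (polyMap (K := K) p) = algebraMap (RatFunc k) K (algebraMap k[X] (RatFunc k) p) := rfl

include h2 hf hd heq hrank in
theorem genus_of_quadratic : genus k K = (f.natDegree - 1) / 2 := by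
  haveI : FiniteDimensional (RatFunc k) K := Module.finite_of_finrank_pos (by omega)
  have hK₀ := Rat.isFunctionField_ratFunc k
  have hK := isFunctionField_of_quadratic h2 y f hf hd heq hrank
  obtain ⟨Pinf, hPinf⟩ := exists_inf (k := k)
  have hdegP := Rat.deg_of_one_lt Pinf hPinf
  have hyR := not_mem_range_of_sq y f hf hd heq
  have hf0 : f ≠ 0 := by
    rintro rfl
    simp at hd
  set d := f.natDegree with hd'
  let Dn : ℕ → Divisor k K := fun n => conorm K (Finsupp.single Pinf (n : ℤ))
  have hDdeg : ∀ n, (Dn n).deg = 2 * (n : ℤ) := by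
    intro n
    simp only [Dn]
    rw [FF.deg_conorm hK₀, FF.deg_single, hrank, hdegP]
    push_cast
    ring
  have hfin : ∀ n, Module.Finite k (degreeLT k n) := fun n =>
    Module.Finite.equiv (degreeLTEquiv k n).symm
  have hfr : ∀ n, Module.finrank k (degreeLT k n) = n := fun n => by
    rw [(degreeLTEquiv k n).finrank_eq]; simp
  -- Claim B
  set m := (d - 1) / 2 with hm
  have hB : ell (Dn m) ≤ m + 1 := by
    have hle : L (Dn m) ≤ Submodule.map (polyMap (K := K)) (degreeLT k (m + 1)) := by
      intro z hz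
      obtain ⟨a, b, hab⟩ := Rat.exists_pair hrank hyR z
      rw [hab] at hz
      obtain ⟨ha, hb⟩ := split_mem_L h2 y f hf hd heq hrank _ hz
      have hb0 : b = 0 := by
        by_contra hne
        rw [mul_y_mem_L_iff y f heq hrank, Finsupp.smul_single, smul_eq_mul] at hb
        have hb' : b ^ 2 * algebraMap k[X] (RatFunc k) f ∈
            L (Finsupp.single Pinf ((2 * m : ℕ) : ℤ) : Divisor k (RatFunc k)) := by
          push_cast; exact hb
        obtain ⟨c, hc, hcb⟩ := exists_poly_of_mem_L hPinf hb'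
        obtain ⟨u, hu⟩ := isPoly_of_sq_mul hf hcb.symm
        have hu0 : u ≠ 0 := by
          rintro rfl
          exact hne (by rw [hu, map_zero])
        have h3 := hb' Pinf
        rw [Finsupp.single_eq_same, hu, ← map_pow, ← map_mul,
          Rat.val_poly_of_one_lt Pinf hPinf (mul_ne_zero (pow_ne_zero 2 hu0) hf0),
          Rat.val_X_eq_of_one_lt Pinf hPinf, ← exp_nsmul, exp_le_exp,
          natDegree_mul (pow_ne_zero 2 hu0) hf0, natDegree_pow] at h3
        simp only [nsmul_eq_mul, mul_one] at h3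
        have h4 : 2 * u.natDegree + d ≤ 2 * m := by exact_mod_cast h3
        omega
      obtain ⟨p, hp, hpa⟩ := exists_poly_of_mem_L hPinf ha
      refine ⟨p, mem_degreeLT_of_natDegree_le hp, ?_⟩
      rw [hab, hb0, map_zero, zero_mul, add_zero, ← hpa]
      rfl
    haveI := hfin (m + 1)
    calc ell (Dn m) = Module.finrank k (L (Dn m)) := rfl
      _ ≤ Module.finrank k (Submodule.map (polyMap (K := K)) (degreeLT k (m + 1))) :=
          Submodule.finrank_mono hle
      _ ≤ Module.finrank k (degreeLT k (m + 1)) := Submodule.finrank_map_le _ _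
      _ = m + 1 := hfr _
  -- Claim A
  have hA : ∀ n, (d + 1) / 2 ≤ n → (n + 1) + (n - (d + 1) / 2 + 1) ≤ ell (Dn n) := by
    intro n hn
    set n' := n - (d + 1) / 2 with hn'
    let ψ₀ : (degreeLT k (n + 1)) × (degreeLT k (n' + 1)) →ₗ[k] K :=
      ((polyMap (K := K)) ∘ₗ (degreeLT k (n + 1)).subtype).coprod
        ((LinearMap.mulRight k y) ∘ₗ (polyMap (K := K)) ∘ₗ (degreeLT k (n' + 1)).subtype)
    have hψ₀ : ∀ c, ψ₀ c = algebraMap (RatFunc k) K (algebraMap k[X] (RatFunc k) c.1.1) +
        algebraMap (RatFunc k) K (algebraMap k[X] (RatFunc k) c.2.1) * y := fun c => rfl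
    have hmem : ∀ c, ψ₀ c ∈ L (Dn n) := by
      intro c
      rw [hψ₀]
      refine (L (Dn n)).add_mem ?_ ?_
      · exact (algebraMap_mem_L_conorm_iff hK₀ _ _).mpr
          (poly_mem_L hPinf (natDegree_le_of_mem_degreeLT c.1.2))
      · rw [mul_y_mem_L_iff y f heq hrank, Finsupp.smul_single, smul_eq_mul, ← map_pow, ← map_mul]
        have hq := natDegree_le_of_mem_degreeLT c.2.2
        have hdeg : (c.2.1 ^ 2 * f).natDegree ≤ 2 * n := by
          refine (natDegree_mul_le).trans ?_
          have := natDegree_pow_le (p := c.2.1) (n := 2)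
          omega
        have := poly_mem_L hPinf hdeg
        have e : (2 : ℤ) * (n : ℤ) = ((2 * n : ℕ) : ℤ) := by push_cast; ring
        rw [e]
        exact this
    let ψ : (degreeLT k (n + 1)) × (degreeLT k (n' + 1)) →ₗ[k] L (Dn n) :=
      LinearMap.codRestrict (L (Dn n)) ψ₀ hmem
    have hinj : Function.Injective ψ := by
      rw [← LinearMap.ker_eq_bot, LinearMap.ker_eq_bot']
      intro c hc
      have h0 : ψ₀ c = 0 := congrArg Subtype.val hc
      rw [hψ₀] at h0
      have hq0 : c.2.1 = 0 := by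
        by_contra hne
        have hne' : algebraMap (RatFunc k) K (algebraMap k[X] (RatFunc k) c.2.1) ≠ 0 :=
          (_root_.map_ne_zero _).mpr (RatFunc.algebraMap_ne_zero hne)
        apply hyR
        refine ⟨-(algebraMap k[X] (RatFunc k) c.1.1) / algebraMap k[X] (RatFunc k) c.2.1, ?_⟩
        rw [map_div₀, map_neg, div_eq_iff hne']
        linear_combination -h0
      rw [hq0, map_zero, map_zero, zero_mul, add_zero] at h0
      have hp0 : c.1.1 = 0 := by
        have := (_root_.map_eq_zero (algebraMap (RatFunc k) K)).mp h0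
        exact (IsFractionRing.injective k[X] (RatFunc k)) (by rw [this, map_zero])
      exact Prod.ext (Subtype.ext hp0) (Subtype.ext hq0)
    haveI := FF.finiteDimensional_L hK (Dn n)
    haveI := hfin (n + 1)
    haveI := hfin (n' + 1)
    have := LinearMap.finrank_le_finrank_of_injective hinj
    rw [Module.finrank_prod, hfr, hfr] at this
    exact this
  -- conclusion
  set g := genus k K with hg
  have h1 := (FF.core_of hK).riemann_ineq (Dn m)
  rw [hDdeg] at h1
  have h1' : ((ell (Dn m) : ℕ) : ℤ) ≤ m + 1 := by exact_mod_cast hB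
  have hle1 : m ≤ g := by omega
  have h3 := (FF.core_of hK).ell_eq_of_deg_ge (D := Dn (g + d)) (by rw [hDdeg]; push_cast; omega)
  rw [hDdeg] at h3
  have h4 := hA (g + d) (by omega)
  have h4' : (((g + d + 1) + (g + d - (d + 1) / 2 + 1) : ℕ) : ℤ) ≤ ell (Dn (g + d)) := by
    exact_mod_cast h4
  push_cast at h3 h4'
  omega

end Main

end Groth.Agent.Lib.Helper27.Hyper
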