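import Mathlib
import Groth.Prelude.Def_W4bk4goldsch23FF
import Groth.Prelude.Def_W4bk4goldsch23Ext
import Groth.Prelude.Def_LocRes
import Groth.Agent.Lib.Helper27.Tate10

/-! Riemann–Hurwitz, part 1: differentials of a finite separable extension `K'/K` over its own
constant field `k'` are spanned by `dx` when those of `K/k` are. -/

set_option autoImplicit false

namespace Groth.Agent.Lib.Helper27.RH

open FunFld TensorProduct

universe u v w

variable {k k' : Type u} {K : Type v} {K' : Type w} [Field k] [Field k'] [Field K] [Field K']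
  [Algebra k k'] [Algebra k K] [Algebra K K'] [Algebra k' K'] [Algebra k K']
  [IsScalarTower k k' K'] [IsScalarTower k K K']

theorem exists_smul_D_base [Algebra.IsSeparable K K'] {x : K}
    (hgen : ∀ a : K, ∃ g : K, KaehlerDifferential.D k K a = g • KaehlerDifferential.D k K x)
    (t' : K') :
    ∃ g' : K', KaehlerDifferential.D k K' t' =
      g' • KaehlerDifferential.D k K' (algebraMap K K' x) := by
  haveI : Algebra.FormallyUnramified K K' := Algebra.FormallyUnramified.of_isSeparable K K'
  have hsurj : Function.Surjective (KaehlerDifferential.mapBaseChange k K K') := by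
    intro ω
    exact (KaehlerDifferential.exact_mapBaseChange_map k K K' ω).mp (Subsingleton.elim _ _)
  have hall : ∀ ω : Ω[K⁄k], ∃ c : K, ω = c • KaehlerDifferential.D k K x := by
    intro ω
    have hspan : ω ∈ Submodule.span K (Set.range (KaehlerDifferential.D k K)) := by
      rw [KaehlerDifferential.span_range_derivation]; trivial
    induction hspan using Submodule.span_induction with
    | mem y hy =>
      obtain ⟨a, rfl⟩ := hy
      exact hgen a
    | zero => exact ⟨0, by rw [zero_smul]⟩
    | add y z _ _ hy hz =>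
      obtain ⟨c₁, rfl⟩ := hy
      obtain ⟨c₂, rfl⟩ := hz
      exact ⟨c₁ + c₂, by rw [add_smul]⟩
    | smul a y _ hy =>
      obtain ⟨c, rfl⟩ := hy
      exact ⟨a * c, by rw [smul_smul]⟩
  have key : ∀ τ : K' ⊗[K] Ω[K⁄k], ∃ g' : K', KaehlerDifferential.mapBaseChange k K K' τ =
      g' • KaehlerDifferential.D k K' (algebraMap K K' x) := by
    intro τ
    induction τ using TensorProduct.induction_on with
    | zero => exact ⟨0, by rw [map_zero, zero_smul]⟩
    | tmul b ω =>
      obtain ⟨c, rfl⟩ := hall ω
      refine ⟨b * algebraMap K K' c, ?_⟩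
      rw [KaehlerDifferential.mapBaseChange_tmul, map_smul, KaehlerDifferential.map_D,
        ← algebraMap_smul K' c, smul_smul]
    | add a b ha hb =>
      obtain ⟨g₁, h₁⟩ := ha
      obtain ⟨g₂, h₂⟩ := hb
      exact ⟨g₁ + g₂, by rw [map_add, h₁, h₂, add_smul]⟩
  obtain ⟨τ, hτ⟩ := hsurj (KaehlerDifferential.D k K' t')
  obtain ⟨g', hg'⟩ := key τ
  exact ⟨g', by rw [← hτ, hg']⟩

theorem exists_smul_D_top [Algebra.IsSeparable K K'] {x : K}
    (hgen : ∀ a : K, ∃ g : K, KaehlerDifferential.D k K a = g • KaehlerDifferential.D k K x)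
    (t' : K') :
    ∃ g' : K', KaehlerDifferential.D k' K' t' =
      g' • KaehlerDifferential.D k' K' (algebraMap K K' x) := by
  obtain ⟨g', hg'⟩ := exists_smul_D_base (k := k) hgen t'
  refine ⟨g', ?_⟩
  have := congrArg (KaehlerDifferential.map k k' K' K') hg'
  rw [map_smul, KaehlerDifferential.map_D, KaehlerDifferential.map_D] at this
  simpa using this

theorem finrank_kaehler_top [Algebra.IsSeparable K K'] {x : K}
    (hgen : ∀ a : K, ∃ g : K, KaehlerDifferential.D k K a = g • KaehlerDifferential.D k K x)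
    (hx' : KaehlerDifferential.D k' K' (algebraMap K K' x) ≠ 0) :
    Module.finrank K' (Ω[K'⁄k']) = 1 := by
  rw [finrank_eq_one_iff_of_nonzero' _ hx']
  intro ω
  have hspan : ω ∈ Submodule.span K' (Set.range (KaehlerDifferential.D k' K')) := by
    rw [KaehlerDifferential.span_range_derivation]; trivial
  induction hspan using Submodule.span_induction with
  | mem y hy =>
    obtain ⟨a, rfl⟩ := hy
    obtain ⟨g, hg⟩ := exists_smul_D_top (k := k) (k' := k') hgen a
    exact ⟨g, hg.symm⟩
  | zero => exact ⟨0, by rw [zero_smul]⟩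
  | add y z _ _ hy hz =>
    obtain ⟨c₁, rfl⟩ := hy
    obtain ⟨c₂, rfl⟩ := hz
    exact ⟨c₁ + c₂, by rw [add_smul]⟩
  | smul a y _ hy =>
    obtain ⟨c, rfl⟩ := hy
    exact ⟨a * c, by rw [smul_smul]⟩

end Groth.Agent.Lib.Helper27.RH
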