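import Mathlib
import Groth.Agent.Lib.Helper27.Hyper4
import Groth.Agent.Lib.Helper27.RH1
import Groth.Agent.Lib.Helper27.Geo2

/-! Hyperelliptic function fields `y² = f(x)`: separability over `k(x)` and differentials. -/

set_option autoImplicit false

namespace Groth.Agent.Lib.Helper27.Hyper
open FunFld WithZero Polynomial KaehlerDifferential TensorProduct IntermediateField

universe u v

section General
variable {k : Type u} {K₀ : Type*} {K : Type v} [Field k] [Field K₀] [Field K] [Algebra k K₀] [Algebra K₀ K]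
  [Algebra k K] [IsScalarTower k K₀ K]

/-- Differentials pull back injectively along a separable algebraic extension. -/
theorem D_algebraMap_ne_zero [Algebra.IsSeparable K₀ K] {a : K₀} (ha : D k K₀ a ≠ 0) :
    D k K (algebraMap K₀ K a) ≠ 0 := by
  have : Algebra.FormallyEtale K₀ K := .of_isSeparable _ _
  intro h
  have h1 := tensorKaehlerEquivOfFormallyEtale_symm_D_algebraMap k K₀ K a
  rw [h, map_zero] at h1
  have h2 := Module.FaithfullyFlat.tensorProduct_mk_injective (A := K₀) (B := K) (Ω[K₀⁄k])
  apply ha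
  apply h2
  rw [map_zero]
  exact h1.symm

end General

variable {k : Type u} {K : Type v} [Field k] [Field K] [Algebra k K] [Algebra (RatFunc k) K]
  [IsScalarTower k (RatFunc k) K]

theorem isSeparable_of_quadratic (h2 : (2 : k) ≠ 0) (y : K) (f : k[X]) (hf : Squarefree f)
    (hd : 1 ≤ f.natDegree)
    (heq : y ^ 2 = algebraMap (RatFunc k) K (algebraMap k[X] (RatFunc k) f))
    (hrank : Module.finrank (RatFunc k) K = 2) : Algebra.IsSeparable (RatFunc k) K := by
  haveI : FiniteDimensional (RatFunc k) K := Module.finite_of_finrank_pos (by omega)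
  have hyR := not_mem_range_of_sq y f hf hd heq
  have hint : IsIntegral (RatFunc k) y := .of_finite _ y
  set f₀ : RatFunc k := algebraMap k[X] (RatFunc k) f with hf₀
  have hf0 : f ≠ 0 := by
    rintro rfl
    simp at hd
  have hf₀0 : f₀ ≠ 0 := by
    rw [hf₀, Ne, map_eq_zero_iff _ (IsFractionRing.injective k[X] (RatFunc k))]
    exact hf0
  set g : (RatFunc k)[X] := X ^ 2 - C f₀ with hg
  have hgmonic : g.Monic := monic_X_pow_sub_C _ two_ne_zero
  have hgdeg : g.natDegree = 2 := natDegree_X_pow_sub_C
  have hgy : aeval y g = 0 := by simp [hg, heq, hf₀]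
  have hmin : minpoly (RatFunc k) y = g := by
    have hdvd := minpoly.dvd (RatFunc k) y hgy
    have hmm := minpoly.monic hint
    have h1 : (minpoly (RatFunc k) y).natDegree ≠ 1 := fun h =>
      hyR ((minpoly.natDegree_eq_one_iff).mp h)
    have h2' : 0 < (minpoly (RatFunc k) y).natDegree := minpoly.natDegree_pos hint
    exact (eq_of_monic_of_dvd_of_natDegree_le hmm hgmonic hdvd (by omega)).symm
  have h2R : ((2 : ℕ) : RatFunc k) ≠ 0 := by
    have : ((2 : ℕ) : RatFunc k) = algebraMap k (RatFunc k) 2 := by
      rw [map_ofNat]; norm_num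
    rw [this, Ne, map_eq_zero_iff _ (algebraMap k (RatFunc k)).injective]
    exact h2
  have hsep : IsSeparable (RatFunc k) y := by
    unfold IsSeparable
    rw [hmin, hg]
    exact separable_X_pow_sub_C f₀ h2R hf₀0
  have htop : (RatFunc k)⟮y⟯ = ⊤ := by
    rw [Field.primitive_element_iff_minpoly_natDegree_eq, hmin, hgdeg, hrank]
  haveI : Algebra.IsSeparable (RatFunc k) (RatFunc k)⟮y⟯ :=
    (IntermediateField.isSeparable_adjoin_simple_iff_isSeparable (RatFunc k) K).mpr hsep
  rw [htop] at this
  exact AlgEquiv.Algebra.isSeparable (IntermediateField.topEquiv (F := RatFunc k) (E := K))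

/-- In a separable extension of `k(x)` the differentials are spanned by the nonzero `dx`. -/
theorem kaehler_of_separable [Algebra.IsSeparable (RatFunc k) K] :
    Module.finrank K (Ω[K⁄k]) = 1 ∧ D k K (algebraMap (RatFunc k) K RatFunc.X) ≠ 0 := by
  obtain ⟨h1, hDX⟩ := Geo.kaehler_aux (k := k) (RatFunc.X : RatFunc k) RatFunc.transcendental_X
  have hgen : ∀ a : RatFunc k, ∃ g : RatFunc k, D k (RatFunc k) a = g • D k (RatFunc k) RatFunc.X :=
    LR.exists_smul_D' h1 hDX
  have hx' := D_algebraMap_ne_zero (k := k) (K := K) hDX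
  exact ⟨RH.finrank_kaehler_top (k := k) (k' := k) hgen hx', hx'⟩

end Groth.Agent.Lib.Helper27.Hyper
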