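import Mathlib
import Groth.Agent.Lib.Helper27.Hyper7
import Groth.Agent.Lib.Helper27.Hilb3

/-! Hyperelliptic function fields `y² = f(x)`: the differentials `x^i dx / y` are regular. -/

set_option autoImplicit false

namespace Groth.Agent.Lib.Helper27.Hyper
open FunFld WithZero Polynomial LaurentSeries

universe u v w

section General
variable {k : Type u} {K : Type v} [Field k] [Field K] [Algebra k K]

/-- At a pole of `x`, a polynomial in `x` has the valuation of its leading term. -/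
theorem val_aeval_of_one_lt (Q : Place k K) {x : K} (h : 1 < Q.1 x) {q : k[X]} (hq : q ≠ 0) :
    Q.1 (aeval x q) = Q.1 x ^ q.natDegree := by
  have hx0 : x ≠ 0 := by
    rintro rfl
    rw [map_zero] at h
    exact absurd h (not_lt.mpr zero_le_one)
  letI : Invertible x := invertibleOfNonzero hx0
  have h1 := eval₂_reverse_mul_pow (algebraMap k K) x q
  rw [invOf_eq_inv] at h1
  have hinv : Q.1 x⁻¹ < 1 := by
    rw [map_inv₀]; exact inv_lt_one_of_one_lt₀ h
  have h2 := Helper23.FF.val_aeval_eq_one Q.1 (fun c hc => FF.val_const Q hc) hinv q.reverse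
    (by rw [coeff_zero_reverse]; exact leadingCoeff_ne_zero.mpr hq)
  rw [aeval_def] at h2
  rw [aeval_def, ← h1, map_mul, map_pow, h2, one_mul]

/-- A separable root of a squarefree polynomial is a simple root. -/
theorem aeval_derivative_ne_zero_of_squarefree {F : Type*} [Field F] [Algebra k F] {f : k[X]}
    (hf : Squarefree f) {θ : F} (hθ : IsSeparable k θ) (h0 : aeval θ f = 0) :
    aeval θ (derivative f) ≠ 0 := by
  have hint : IsIntegral k θ := hθ.isIntegral
  obtain ⟨h, hh⟩ := minpoly.dvd k θ h0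
  set m := minpoly k θ with hm
  have hmθ : aeval θ (derivative m) ≠ 0 := hθ.aeval_derivative_ne_zero (minpoly.aeval k θ)
  have hhθ : aeval θ h ≠ 0 := by
    intro h1
    obtain ⟨h', hh'⟩ := minpoly.dvd k θ h1
    have : m * m ∣ f := ⟨h', by rw [hh, hh', hm]; ring⟩
    exact (minpoly.not_isUnit k θ) (hf m this)
  rw [hh, derivative_mul, map_add, map_mul, map_mul, minpoly.aeval, zero_mul, add_zero]
  exact mul_ne_zero hmθ hhθ

end General

variable {k : Type u} {K : Type v} {F : Type w} [Field k] [Field K] [Field F] [Algebra k K]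
  [Algebra k F]

theorem vDiff_eq (ψ : K →ₐ[k] F⸨X⸩) {Q : Place k K} (hψ : LocRes.IsExpansionAt Q.1 ψ) (u v : K) :
    LocRes.vDiff ψ u v = Q.1 u * Valued.v (LocRes.D F (ψ v)) := by
  unfold LocRes.vDiff
  rw [map_mul, hψ.1]

/-- regularity of `x^i dx / y` at a place where `x` is finite -/
theorem regular_finite (h2 : (2 : k) ≠ 0) {Q : Place k K} {ψ : K →ₐ[k] F⸨X⸩}
    (hψ : LocRes.IsExpansionAt Q.1 ψ) [Algebra.IsSeparable k F] {x y : K} {f : k[X]}
    (hf : Squarefree f) (heq : y ^ 2 = aeval x f) (hQx : Q.1 x ≤ 1) (i : ℕ) :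
    LocRes.vDiff ψ (x ^ i / y) x ≤ 1 := by
  rw [vDiff_eq ψ hψ]
  by_cases hy0 : y = 0
  · rw [hy0, div_zero, map_zero, zero_mul]
    exact zero_le_one
  have hDx : Valued.v (LocRes.D F (ψ x)) ≤ 1 := LR.val_D_le_one (by rw [hψ.1]; exact hQx)
  have hxi : Q.1 (x ^ i) ≤ 1 := by rw [map_pow]; exact pow_le_one' hQx i
  obtain ⟨hfx1, hfx2⟩ := Tate.coeff_zero_aeval hψ hQx f
  have hQy : Q.1 y ≤ 1 := by
    have h1 : Q.1 y ^ 2 ≤ 1 := by rw [← map_pow, heq]; exact hfx1
    by_contra hcon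
    rw [not_le] at hcon
    exact absurd h1 (not_le.mpr (one_lt_pow₀ hcon two_ne_zero))
  have hQy0 : Q.1 y ≠ 0 := (Q.1.ne_zero_iff).mpr hy0
  rw [map_div₀]
  rcases hQy.lt_or_eq with hlt | heq1
  · -- `y` vanishes at `Q`
    have hfx3 : Q.1 (aeval x f) < 1 := by
      rw [← heq, map_pow]
      exact pow_lt_one₀ zero_le hlt two_ne_zero
    have h0 : aeval ((ψ x).coeff 0) f = 0 := by
      rw [← hfx2]; exact Tate.coeff_zero_eq_zero_of_lt hψ hfx3
    have hsep : IsSeparable k ((ψ x).coeff 0) := Algebra.IsSeparable.isSeparable k _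
    have h3 := aeval_derivative_ne_zero_of_squarefree hf hsep h0
    obtain ⟨h5, h6⟩ := Tate.coeff_zero_aeval hψ hQx (derivative f)
    have hunit : Q.1 (aeval x (derivative f)) = 1 := by
      rcases h5.lt_or_eq with h | h
      · exact absurd (Tate.coeff_zero_eq_zero_of_lt hψ h) (by rw [h6]; exact h3)
      · exact h
    have h4 := Hilb.D_aeval ψ x f
    rw [← heq, pow_two, map_mul, Derivation.leibniz, smul_eq_mul] at h4
    have h7 := congrArg Valued.v h4
    rw [map_mul, hψ.1, hunit, one_mul] at h7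
    have hDy : Valued.v (LocRes.D F (ψ y)) ≤ 1 := LR.val_D_le_one (by rw [hψ.1]; exact hQy)
    have h8 : Valued.v (LocRes.D F (ψ x)) ≤ Q.1 y := by
      rw [← h7]
      refine (Valuation.map_add _ _ _).trans (max_le ?_ ?_)
      · rw [map_mul, hψ.1]
        exact (mul_le_mul' le_rfl hDy).trans_eq (mul_one _)
      · rw [map_mul, hψ.1]
        exact (mul_le_mul' le_rfl hDy).trans_eq (mul_one _)
    calc Q.1 (x ^ i) / Q.1 y * Valued.v (LocRes.D F (ψ x)) ≤ 1 / Q.1 y * Q.1 y :=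
          mul_le_mul' (div_le_div_of_nonneg_right hxi zero_le) h8
      _ = 1 := by rw [one_div, inv_mul_cancel₀ hQy0]
  · rw [heq1, div_one]
    exact mul_le_one' hxi hDx

/-- regularity of `x^i dx / y`, `i < (deg f - 1) / 2`, at a pole of `x` -/
theorem regular_infinite {Q : Place k K} {ψ : K →ₐ[k] F⸨X⸩}
    (hψ : LocRes.IsExpansionAt Q.1 ψ) {x y : K} {f : k[X]} (hf0 : f ≠ 0)
    (heq : y ^ 2 = aeval x f) (hQx : 1 < Q.1 x) {i : ℕ} (hi : i < (f.natDegree - 1) / 2) :
    LocRes.vDiff ψ (x ^ i / y) x ≤ 1 := by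
  rw [vDiff_eq ψ hψ]
  have hx0 : x ≠ 0 := by
    rintro rfl
    rw [map_zero] at hQx
    exact absurd hQx (not_lt.mpr zero_le_one)
  have hQx0 : Q.1 x ≠ 0 := (Q.1.ne_zero_iff).mpr hx0
  obtain ⟨e, he⟩ : ∃ e : ℤ, Q.1 x = exp e := ⟨log (Q.1 x), (exp_log hQx0).symm⟩
  have he1 : 1 ≤ e := by
    rw [he, ← exp_zero, exp_lt_exp] at hQx
    omega
  have hfx : Q.1 (aeval x f) = exp (e * (f.natDegree : ℤ)) := by
    rw [val_aeval_of_one_lt Q hQx hf0, he, ← exp_nsmul]
    congr 1
    simp [mul_comm]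
  have hy0 : y ≠ 0 := by
    rintro rfl
    rw [zero_pow two_ne_zero] at heq
    rw [← heq, map_zero] at hfx
    exact exp_ne_zero hfx.symm
  have hQy0 : Q.1 y ≠ 0 := (Q.1.ne_zero_iff).mpr hy0
  obtain ⟨n, hn⟩ : ∃ n : ℤ, Q.1 y = exp n := ⟨log (Q.1 y), (exp_log hQy0).symm⟩
  have h2n : 2 * n = e * (f.natDegree : ℤ) := by
    have h1 : Q.1 y ^ 2 = exp (e * (f.natDegree : ℤ)) := by rw [← map_pow, heq, hfx]
    rw [hn, ← exp_nsmul, exp_inj] at h1
    simpa using h1
  have hDx : Valued.v (LocRes.D F (ψ x)) ≤ exp (-(-e - 1)) :=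
    LR.val_D_le (by rw [hψ.1, he, neg_neg])
  rw [map_div₀, map_pow, he, hn, ← exp_nsmul, ← exp_sub]
  calc exp (i • e - n) * Valued.v (LocRes.D F (ψ x)) ≤ exp (i • e - n) * exp (-(-e - 1)) :=
        mul_le_mul' le_rfl hDx
    _ ≤ 1 := by
      rw [← exp_add, ← exp_zero, exp_le_exp]
      have hd : 2 * (i : ℤ) + 3 ≤ (f.natDegree : ℤ) := by omega
      simp only [nsmul_eq_mul]
      rcases eq_or_lt_of_le he1 with h1 | h1
      · rw [← h1] at h2n ⊢
        omega
      · have h3 : e * (2 * (i : ℤ) + 3) ≤ e * (f.natDegree : ℤ) :=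
          mul_le_mul_of_nonneg_left hd (by omega)
        nlinarith

end Groth.Agent.Lib.Helper27.Hyper
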