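import Mathlib
import Groth.Agent.Lib.Helper27.Hyper8
import Groth.Agent.Lib.Helper27.ASN1
import Groth.Agent.Lib.Helper27.Rat4

/-! Artin–Schreier extensions `y² + y = f` in characteristic `2`: local computation of the order of
`dx` at a (wildly) ramified place, through Laurent expansions. -/

set_option autoImplicit false

namespace Groth.Agent.Lib.Helper27.ASD
open FunFld WithZero Polynomial LaurentSeries

universe u v w

section Laurent
variable {F : Type w} [Field F]

theorem val_natCast_le_one (n : ℕ) : Valued.v ((n : ℕ) : F⸨X⸩) ≤ 1 := by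
  induction n with
  | zero => simp
  | succ n ih =>
    rw [Nat.cast_succ]
    exact (Valuation.map_add _ _ _).trans (max_le ih (by rw [map_one]))

/-- If `Y² + Y = u / t^(2d+1)` with `v(t) = 2`, `u` a unit and `du = r dt` with `r` integral,
then (in characteristic `2`) `dt` has order exactly `2d + 2`. -/
theorem val_D_of_as (h2 : (2 : F) = 0) {t u r Y : F⸨X⸩} (d : ℕ)
    (ht : Valued.v t = exp (-2)) (hu : Valued.v u = 1) (hr : Valued.v r ≤ 1)
    (hDu : LocRes.D F u = r * LocRes.D F t)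
    (hY : (Y ^ 2 + Y) * t ^ (2 * d + 1) = u) :
    Valued.v (LocRes.D F t) = exp (-(2 * (d : ℤ) + 2)) := by
  have h2' : (2 : F⸨X⸩) = 0 := by
    have := congrArg (algebraMap F F⸨X⸩) h2
    rwa [map_ofNat, map_zero] at this
  have hw : Valued.v (Y ^ 2 + Y) = exp (2 * (2 * (d : ℤ) + 1)) := by
    have h1 := congrArg Valued.v hY
    rw [map_mul, map_pow, ht, hu, ← exp_nsmul] at h1
    rw [eq_inv_of_mul_eq_one_left h1, ← exp_neg]
    congr 1
    simp only [nsmul_eq_mul]
    push_cast
    ring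
  have hw1 : (1 : WithZero (Multiplicative ℤ)) < Valued.v (Y ^ 2 + Y) := by
    rw [hw, ← exp_zero, exp_lt_exp]
    omega
  have hY1 : 1 < Valued.v Y := by
    by_contra hcon
    rw [not_lt] at hcon
    have : Valued.v (Y ^ 2 + Y) ≤ 1 :=
      (Valuation.map_add _ _ _).trans
        (max_le (by rw [map_pow]; exact pow_le_one' hcon 2) hcon)
    exact absurd hw1 (not_lt.mpr this)
  have hYsq : Valued.v (Y ^ 2 + Y) = Valued.v Y ^ 2 := by
    rw [Valuation.map_add_eq_of_lt_left, map_pow]
    rw [map_pow]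
    exact lt_self_pow₀ hY1 (by norm_num)
  have hY0 : Valued.v Y ≠ 0 := (zero_lt_one.trans hY1).ne'
  obtain ⟨m, hm⟩ : ∃ m : ℤ, Valued.v Y = exp m := ⟨_, (exp_log hY0).symm⟩
  have hm' : m = 2 * (d : ℤ) + 1 := by
    rw [hYsq, hm, ← exp_nsmul, exp_inj] at hw
    simp only [nsmul_eq_mul] at hw
    push_cast at hw
    omega
  obtain ⟨σ, hσ⟩ : ∃ σ : F⸨X⸩, σ = t ^ (d + 1) * Y := ⟨_, rfl⟩
  have hvσ : Valued.v σ = exp (-(1 : ℤ)) := by
    rw [hσ, map_mul, map_pow, ht, hm, ← exp_nsmul, ← exp_add, hm']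
    congr 1
    simp only [nsmul_eq_mul]
    push_cast
    ring
  have hDσ : Valued.v (LocRes.D F σ) = 1 := by
    have := LR.val_D_eq hvσ (by simp)
    rwa [sub_self, neg_zero, exp_zero] at this
  have hid : σ ^ 2 + t ^ (d + 1) * σ = t * u := by
    rw [hσ, ← hY]
    ring
  have h9 := congrArg (LocRes.D F) hid
  have e1 : LocRes.D F (σ ^ 2) = 0 := by
    rw [pow_two, Derivation.leibniz, smul_eq_mul, ← two_mul, h2', zero_mul]
  have e2 : LocRes.D F (t ^ (d + 1) * σ) =
      t ^ (d + 1) * LocRes.D F σ + σ * (((d + 1 : ℕ) : F⸨X⸩) * (t ^ d * LocRes.D F t)) := by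
    rw [Derivation.leibniz, Derivation.leibniz_pow, Nat.add_sub_cancel]
    simp only [smul_eq_mul, nsmul_eq_mul]
  have e3 : LocRes.D F (t * u) = t * (r * LocRes.D F t) + u * LocRes.D F t := by
    rw [Derivation.leibniz, hDu, smul_eq_mul, smul_eq_mul]
  rw [map_add, e1, e2, e3, zero_add] at h9
  have key : t ^ (d + 1) * LocRes.D F σ =
      (t * r + u - ((d + 1 : ℕ) : F⸨X⸩) * (σ * t ^ d)) * LocRes.D F t := by
    linear_combination h9
  have hc : Valued.v (((d + 1 : ℕ) : F⸨X⸩)) ≤ 1 := val_natCast_le_one _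
  have hB : Valued.v (t * r + u - ((d + 1 : ℕ) : F⸨X⸩) * (σ * t ^ d)) = 1 := by
    have h1 : Valued.v (t * r) < 1 := by
      rw [map_mul, ht]
      calc exp (-2) * Valued.v r ≤ exp (-2) * 1 := mul_le_mul' le_rfl hr
        _ < 1 := by
          rw [mul_one, ← exp_zero, exp_lt_exp]
          norm_num
    have h3 : Valued.v (t * r + u) = 1 := by
      rw [Valuation.map_add_eq_of_lt_right, hu]
      rw [hu]
      exact h1
    have h4 : Valued.v (((d + 1 : ℕ) : F⸨X⸩) * (σ * t ^ d)) < 1 := by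
      rw [map_mul, map_mul, map_pow, hvσ, ht]
      have h5 : (exp (-2 : ℤ)) ^ d ≤ (1 : WithZero (Multiplicative ℤ)) := by
        apply pow_le_one'
        rw [← exp_zero, exp_le_exp]
        norm_num
      calc Valued.v (((d + 1 : ℕ) : F⸨X⸩)) * (exp (-(1 : ℤ)) * exp (-2 : ℤ) ^ d)
          ≤ 1 * (exp (-(1 : ℤ)) * 1) := mul_le_mul' hc (mul_le_mul' le_rfl h5)
        _ < 1 := by
          rw [one_mul, mul_one, ← exp_zero, exp_lt_exp]
          norm_num
    rw [Valuation.map_sub_eq_of_lt_left, h3]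
    rw [h3]
    exact h4
  have hfin := congrArg Valued.v key
  rw [map_mul, map_mul, map_pow, hDσ, mul_one, hB, one_mul, ht, ← exp_nsmul] at hfin
  rw [← hfin]
  congr 1
  simp only [nsmul_eq_mul]
  push_cast
  ring

end Laurent

section Quot
variable {k : Type u} {K : Type v} {F : Type w} [Field k] [Field K] [Field F] [Algebra k K]
  [Algebra k F]

/-- The quotient rule: the derivative of a rational expression in `z` with unit denominator is an
integral multiple of `dz`. -/
theorem quot_rule (ψ : K →ₐ[k] F⸨X⸩) (P : Place k K) {z : K} (hz : P.1 z ≤ 1) (a b : k[X])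
    (hb : P.1 (aeval z b) = 1) :
    ∃ R : K, P.1 R ≤ 1 ∧
      LocRes.D F (ψ (aeval z a / aeval z b)) = ψ R * LocRes.D F (ψ z) := by
  have hB0 : aeval z b ≠ 0 := by
    intro h
    rw [h, map_zero] at hb
    exact zero_ne_one hb
  have hle : ∀ g : k[X], P.1 (aeval z g) ≤ 1 :=
    fun g => Helper23.FF.val_aeval_le_one P.1 P.2.1 hz g
  obtain ⟨R, hR⟩ : ∃ R : K, R = (aeval z (derivative a) -
      aeval z a / aeval z b * aeval z (derivative b)) / aeval z b := ⟨_, rfl⟩
  have hBR : aeval z b * R =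
      aeval z (derivative a) - aeval z a / aeval z b * aeval z (derivative b) := by
    rw [hR, mul_comm]
    exact div_mul_cancel₀ _ hB0
  refine ⟨R, ?_, ?_⟩
  · rw [hR, map_div₀, hb, div_one]
    refine (Valuation.map_sub _ _ _).trans (max_le (hle _) ?_)
    rw [map_mul, map_div₀, hb, div_one]
    exact mul_le_one' (hle _) (hle _)
  · have hψB0 : ψ (aeval z b) ≠ 0 := (map_ne_zero ψ).mpr hB0
    apply mul_left_cancel₀ hψB0
    have h1 : ψ (aeval z a / aeval z b) * ψ (aeval z b) = ψ (aeval z a) := by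
      rw [← map_mul, div_mul_cancel₀ _ hB0]
    have h2 := congrArg (LocRes.D F) h1
    rw [Derivation.leibniz, smul_eq_mul, smul_eq_mul, Hilb.D_aeval ψ z b, Hilb.D_aeval ψ z a] at h2
    rw [← mul_assoc, ← map_mul, hBR, map_sub, map_mul]
    linear_combination h2

end Quot

end Groth.Agent.Lib.Helper27.ASD
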