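import Mathlib
import Groth.Agent.Lib.Helper27.ASD1

/-! Artin–Schreier extensions `y² + y = f` of `k(x)` in characteristic `2`: the order of `dx` at
every place. -/

set_option autoImplicit false

namespace Groth.Agent.Lib.Helper27.ASD
open FunFld WithZero Polynomial LaurentSeries

universe u v w

section General
variable {k : Type u} {K : Type v} [Field k] [Field K] [Algebra k K]

/-- A pole of odd order: normal form of the data. -/
theorem pole_data {p : Place k K} {f : K} (h : 1 < p.1 f) (hodd : Odd (p.ord f)) :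
    ∃ d : ℕ, p.1 f = exp (2 * (d : ℤ) + 1) ∧ (1 - p.ord f) / 2 = (d : ℤ) + 1 := by
  have h0 : p.1 f ≠ 0 := (zero_lt_one.trans h).ne'
  obtain ⟨n, hn⟩ : ∃ n : ℤ, p.1 f = exp n := ⟨_, (exp_log h0).symm⟩
  have hn0 : 0 < n := by
    rw [hn, ← exp_zero, exp_lt_exp] at h
    exact h
  have hord : p.ord f = -n := by
    unfold Place.ord
    rw [hn, log_exp]
  rw [hord] at hodd ⊢
  obtain ⟨m, hm⟩ := hodd
  have hd : ((-m - 1).toNat : ℤ) = -m - 1 := Int.toNat_of_nonneg (by omega)
  refine ⟨(-m - 1).toNat, ?_, ?_⟩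
  · rw [hn, hd]
    congr 1
    omega
  · rw [hd]
    omega

theorem ord_neg_of_one_lt {p : Place k K} {f : K} (h : 1 < p.1 f) : p.ord f < 0 := by
  have h0 : p.1 f ≠ 0 := (zero_lt_one.trans h).ne'
  obtain ⟨n, hn⟩ : ∃ n : ℤ, p.1 f = exp n := ⟨_, (exp_log h0).symm⟩
  unfold Place.ord
  rw [hn, log_exp]
  rw [hn, ← exp_zero, exp_lt_exp] at h
  omega

end General

variable {k : Type u} {K : Type v} {F : Type w} [Field k] [Field K] [Field F] [Algebra k K]
  [Algebra (RatFunc k) K] [IsScalarTower k (RatFunc k) K] [Algebra k F]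

local notation "ι" => algebraMap k[X] (RatFunc k)
local notation "jj" => algebraMap (RatFunc k) K

omit [IsScalarTower k (RatFunc k) K] in
theorem two_F (h2 : (2 : k) = 0) : (2 : F) = 0 := by
  have := congrArg (algebraMap k F) h2
  rwa [map_ofNat, map_zero] at this

theorem conv (g : k[X]) : jj (ι g) = aeval (jj RatFunc.X) g := by
  rw [Polynomial.aeval_algebraMap_apply, RatFunc.aeval_X_left_eq_algebraMap]

theorem exists_irreducible_of_finite (p : Place k (RatFunc k)) (hX : p.1 RatFunc.X ≤ 1) :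
    ∃ π : k[X], Irreducible π ∧ p.1 (ι π) < 1 := by
  obtain ⟨r, hr⟩ := p.2.2 (exp (-1))
  have hr0 : r ≠ 0 := by
    rintro rfl
    rw [map_zero] at hr
    exact exp_ne_zero hr.symm
  have hnum0 : r.num ≠ 0 := RatFunc.num_ne_zero hr0
  have hden0 : ι r.denom ≠ 0 := RatFunc.algebraMap_ne_zero r.denom_ne_zero
  have h0 : ι r.num = r * ι r.denom := by
    have := RatFunc.num_div_denom r
    rw [div_eq_iff hden0] at this
    exact this
  have hlt : p.1 (ι r.num) < 1 := by
    rw [h0, map_mul, hr]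
    calc exp (-1) * p.1 (ι r.denom) ≤ exp (-1) * 1 :=
          mul_le_mul' le_rfl (Rat.val_poly_le_one p hX _)
      _ < 1 := by
        rw [mul_one, ← exp_zero, exp_lt_exp]
        norm_num
  obtain ⟨π, hπ, -, hπlt⟩ := Hyper.exists_irreducible_val_lt p r.num hnum0 hlt
  exact ⟨π, hπ, hπlt⟩

/-- The ramification index at a place of an Artin–Schreier extension with odd poles. -/
theorem ramIdx_cases (h2 : (2 : k) = 0) (hdeg : Module.finrank (RatFunc k) K = 2)
    {P : Place k K} {p : Place k (RatFunc k)} {e : ℕ} (he : IsOverWith P p e)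
    {y : K} (hy : y ∉ Set.range jj) {f : RatFunc k} (heq : y ^ 2 + y = jj f)
    (hodd : 1 < p.1 f → Odd (p.ord f)) :
    (1 < p.1 f → e = 2) ∧ (p.1 f ≤ 1 → e = 1) := by
  haveI : FiniteDimensional (RatFunc k) K := Module.finite_of_finrank_pos (by omega)
  have he1 := FF.isOverWith_pos he
  have he2 : e ≤ 2 := hdeg ▸ Rat.ramIdx_le_finrank he
  have h2K : (2 : K) = 0 := by
    have := congrArg (algebraMap k K) h2
    rwa [map_ofNat, map_zero] at this
  constructor
  · intro hf
    obtain ⟨r, hr⟩ := Rat.even_of_as he heq (ord_neg_of_one_lt hf) (hodd hf)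
    omega
  · intro hf
    by_contra hne
    have : e = 2 := by omega
    subst this
    exact Rat.not_isOverWith_two_of_as hdeg h2K he heq hy hf

/-- the order of `dx` at a finite place is the order of `q`. -/
theorem val_D_finite [PerfectField k] (h2 : (2 : k) = 0)
    (hdeg : Module.finrank (RatFunc k) K = 2)
    {P : Place k K} {p : Place k (RatFunc k)} {e : ℕ} (he : IsOverWith P p e)
    {ψ : K →ₐ[k] F⸨X⸩} (hψ : LocRes.IsExpansionAt P.1 ψ)
    {y : K} (hy : y ∉ Set.range jj) {f : RatFunc k} (heq : y ^ 2 + y = jj f)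
    (hodd : 1 < p.1 f → Odd (p.ord f)) (hX : p.1 RatFunc.X ≤ 1) {q : k[X]} (hq0 : q ≠ 0)
    (hq : p.ord (ι q) = if 1 < p.1 f then (1 - p.ord f) / 2 else 0) :
    Valued.v (LocRes.D F (ψ (jj RatFunc.X))) = P.1 (jj (ι q)) := by
  classical
  obtain ⟨hram, hunr⟩ := ramIdx_cases h2 hdeg he hy heq hodd
  obtain ⟨x, hx⟩ : ∃ x : K, x = jj RatFunc.X := ⟨_, rfl⟩
  rw [← hx]
  have hconv : ∀ g : k[X], jj (ι g) = aeval x g := fun g => by rw [hx]; exact conv g
  have hPx : P.1 x ≤ 1 := by
    rw [hx, he RatFunc.X]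
    exact pow_le_one' hX e
  obtain ⟨π, hπ, hπlt⟩ := exists_irreducible_of_finite p hX
  have hπ1 : p.1 (ι π) = exp (-1) := Rat.val_irreducible_eq p hπ hπlt
  have hsep : IsCoprime π (derivative π) :=
    (Polynomial.separable_def π).mp (PerfectField.separable_of_irreducible hπ)
  have hnd : ¬ π ∣ derivative π := fun hd => hπ.not_isUnit (hsep.isUnit_of_dvd' dvd_rfl hd)
  have hπ' : p.1 (ι (derivative π)) = 1 := Rat.val_poly_eq_one_of_not_dvd p hπ hπlt hnd
  have hPπ' : P.1 (aeval x (derivative π)) = 1 := by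
    rw [← hconv, he (ι (derivative π)), hπ', one_pow]
  have hPT : P.1 (aeval x π) = exp (-(e : ℤ)) := by
    rw [← hconv, he (ι π), hπ1, ← exp_nsmul]
    congr 1
    simp
  have hDT : LocRes.D F (ψ (aeval x π)) = ψ (aeval x (derivative π)) * LocRes.D F (ψ x) :=
    Hilb.D_aeval ψ x π
  have hvDT : Valued.v (LocRes.D F (ψ (aeval x π))) = Valued.v (LocRes.D F (ψ x)) := by
    rw [hDT, map_mul, hψ.1, hPπ', one_mul]
  rw [← hvDT]
  have hιq0 : ι q ≠ 0 := RatFunc.algebraMap_ne_zero hq0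
  have hpq : p.1 (ι q) = exp (-(p.ord (ι q))) := by
    unfold Place.ord
    rw [neg_neg, exp_log ((_root_.map_ne_zero _).mpr hιq0)]
  by_cases hf : 1 < p.1 f
  · -- ramified
    have he2 := hram hf
    obtain ⟨d, hpf, hdq⟩ := pole_data hf (hodd hf)
    rw [if_pos hf, hdq] at hq
    rw [he2] at hPT
    rw [he (ι q), hpq, hq, he2, ← exp_nsmul]
    obtain ⟨a, ha⟩ : ∃ a, a = f.num := ⟨_, rfl⟩
    obtain ⟨b, hb⟩ : ∃ b, b = f.denom := ⟨_, rfl⟩
    have hb0 : b ≠ 0 := hb ▸ f.denom_ne_zero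
    have hab : IsCoprime a b := by
      rw [ha, hb]
      exact f.isCoprime_num_denom
    have hfab : f = ι a / ι b := by rw [ha, hb, RatFunc.num_div_denom]
    have hιb0 : ι b ≠ 0 := RatFunc.algebraMap_ne_zero hb0
    have hPa : p.1 (ι a) ≤ 1 := Rat.val_poly_le_one p hX a
    have hmul : p.1 f * p.1 (ι b) = p.1 (ι a) := by
      rw [hfab, ← map_mul, div_mul_cancel₀ _ hιb0]
    have hπb : π ∣ b := by
      by_contra hnb
      have h1 := Rat.val_poly_eq_one_of_not_dvd p hπ hπlt hnb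
      rw [h1, mul_one] at hmul
      exact absurd hf (not_lt.mpr (hmul ▸ hPa))
    have hπa : ¬ π ∣ a := fun h => hπ.not_isUnit (hab.isUnit_of_dvd' h hπb)
    have hPa1 : p.1 (ι a) = 1 := Rat.val_poly_eq_one_of_not_dvd p hπ hπlt hπa
    obtain ⟨b₁, hb₁, hπb₁⟩ :=
      (FiniteMultiplicity.of_not_isUnit hπ.not_isUnit hb0).exists_eq_pow_mul_and_not_dvd
    obtain ⟨β, hβ⟩ : ∃ β : ℕ, β = multiplicity π b := ⟨_, rfl⟩
    rw [← hβ] at hb₁
    have hPb₁ : p.1 (ι b₁) = 1 := Rat.val_poly_eq_one_of_not_dvd p hπ hπlt hπb₁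
    have hιb : ι b = ι π ^ β * ι b₁ := by
      conv_lhs => rw [hb₁]
      rw [map_mul, map_pow]
    have hβd : β = 2 * d + 1 := by
      have h1 := hmul
      rw [hpf, hιb, map_mul, map_pow, hPb₁, mul_one, hπ1, hPa1, ← exp_nsmul, ← exp_add,
        ← exp_zero, exp_inj] at h1
      simp only [nsmul_eq_mul] at h1
      omega
    rw [hβd] at hιb
    have hA'0 : aeval x (derivative π) ≠ 0 := by
      intro h
      rw [h, map_zero] at hPπ'
      exact zero_ne_one hPπ'
    have hPb₁' : P.1 (aeval x b₁) = 1 := by rw [← hconv, he (ι b₁), hPb₁, one_pow]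
    have hPa' : P.1 (aeval x a) = 1 := by rw [← hconv, he (ι a), hPa1, one_pow]
    obtain ⟨R₀, hR₀, hDU⟩ := quot_rule ψ P hPx a b₁ hPb₁'
    have hB₁0 : aeval x b₁ ≠ 0 := by
      intro h
      rw [h, map_zero] at hPb₁'
      exact zero_ne_one hPb₁'
    have hT0 : aeval x π ≠ 0 := by
      intro h
      rw [h, map_zero] at hPT
      exact exp_ne_zero hPT.symm
    have hYeq : (y ^ 2 + y) * aeval x π ^ (2 * d + 1) = aeval x a / aeval x b₁ := by
      rw [heq, hfab, map_div₀, hιb, map_mul, map_pow, hconv, hconv, hconv,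
        div_mul_eq_mul_div, div_eq_div_iff (mul_ne_zero (pow_ne_zero _ hT0) hB₁0) hB₁0]
      ring
    have hu : Valued.v (ψ (aeval x a / aeval x b₁)) = 1 := by
      rw [hψ.1, map_div₀, hPa', hPb₁', div_one]
    have hr : Valued.v (ψ (R₀ / aeval x (derivative π))) ≤ 1 := by
      rw [hψ.1, map_div₀, hPπ', div_one]
      exact hR₀
    have hDu : LocRes.D F (ψ (aeval x a / aeval x b₁)) =
        ψ (R₀ / aeval x (derivative π)) * LocRes.D F (ψ (aeval x π)) := by
      rw [hDU, hDT, ← mul_assoc, ← map_mul, div_mul_cancel₀ _ hA'0]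
    have ht : Valued.v (ψ (aeval x π)) = exp (-2) := by
      rw [hψ.1, hPT]
      simp
    have hY' : ((ψ y) ^ 2 + ψ y) * (ψ (aeval x π)) ^ (2 * d + 1) =
        ψ (aeval x a / aeval x b₁) := by
      rw [← hYeq, map_mul, map_add, map_pow, map_pow]
    have := val_D_of_as (two_F h2) d ht hu hr hDu hY'
    rw [this]
    congr 1
  · -- unramified
    have hf' := not_lt.mp hf
    have he1 := hunr hf'
    rw [if_neg hf] at hq
    rw [he (ι q), hpq, hq, neg_zero, exp_zero, one_pow]
    rw [he1] at hPT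
    have h1 : Valued.v (ψ (aeval x π)) = exp (-(1 : ℤ)) := by
      rw [hψ.1, hPT]
      simp
    have := LR.val_D_eq h1 (by simp)
    rwa [sub_self, neg_zero, exp_zero] at this

/-- the order of `dx` at an infinite place. -/
theorem val_D_infinite (h2 : (2 : k) = 0) (hdeg : Module.finrank (RatFunc k) K = 2)
    {P : Place k K} {p : Place k (RatFunc k)} {e : ℕ} (he : IsOverWith P p e)
    {ψ : K →ₐ[k] F⸨X⸩} (hψ : LocRes.IsExpansionAt P.1 ψ)
    {y : K} (hy : y ∉ Set.range jj) {f : RatFunc k} (heq : y ^ 2 + y = jj f)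
    (hodd : 1 < p.1 f → Odd (p.ord f)) (hX : 1 < p.1 RatFunc.X) :
    Valued.v (LocRes.D F (ψ (jj RatFunc.X))) =
      exp ((e : ℤ) * (2 - (if 1 < p.1 f then (1 - p.ord f) / 2 else 0))) := by
  classical
  obtain ⟨hram, hunr⟩ := ramIdx_cases h2 hdeg he hy heq hodd
  obtain ⟨x, hx⟩ : ∃ x : K, x = jj RatFunc.X := ⟨_, rfl⟩
  rw [← hx]
  have hconv : ∀ g : k[X], jj (ι g) = aeval x g := fun g => by rw [hx]; exact conv g
  have hpX : p.1 RatFunc.X = exp 1 := Rat.val_X_eq_of_one_lt p hX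
  have hPx : P.1 x = exp (e : ℤ) := by
    rw [hx, he RatFunc.X, hpX, ← exp_nsmul]
    congr 1
    simp
  have hx0 : x ≠ 0 := by
    intro h
    rw [h, map_zero] at hPx
    exact exp_ne_zero hPx.symm
  obtain ⟨T, hT⟩ : ∃ T : K, T = x⁻¹ := ⟨_, rfl⟩
  have hPT : P.1 T = exp (-(e : ℤ)) := by rw [hT, map_inv₀, hPx, ← exp_neg]
  have hxT : x * T = 1 := by rw [hT, mul_inv_cancel₀ hx0]
  have hrel : Valued.v (LocRes.D F (ψ x)) =
      exp (2 * (e : ℤ)) * Valued.v (LocRes.D F (ψ T)) := by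
    have h1 : ψ x * ψ T = 1 := by rw [← map_mul, hxT, map_one]
    have h3 := congrArg (LocRes.D F) h1
    rw [Derivation.leibniz, Derivation.map_one_eq_zero, smul_eq_mul, smul_eq_mul] at h3
    have h4 : ψ T * LocRes.D F (ψ x) = -(ψ x * LocRes.D F (ψ T)) := by
      linear_combination h3
    have h5 := congrArg Valued.v h4
    rw [map_mul, Valuation.map_neg, map_mul, hψ.1, hψ.1, hPT, hPx] at h5
    have h6 : Valued.v (LocRes.D F (ψ x)) =
        exp (e : ℤ) * (exp (e : ℤ) * Valued.v (LocRes.D F (ψ T))) := by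
      rw [← h5, ← mul_assoc, ← exp_add, add_neg_cancel, exp_zero, one_mul]
    rw [h6, ← mul_assoc, ← exp_add]
    congr 2
    ring
  by_cases hf : 1 < p.1 f
  · have he2 := hram hf
    subst he2
    obtain ⟨d, hpf, hdq⟩ := pole_data hf (hodd hf)
    rw [if_pos hf, hdq]
    have hf0 : f ≠ 0 := by
      rintro rfl
      rw [map_zero] at hf
      exact absurd hf (not_lt.mpr zero_le_one)
    obtain ⟨a, ha⟩ : ∃ a, a = f.num := ⟨_, rfl⟩
    obtain ⟨b, hb⟩ : ∃ b, b = f.denom := ⟨_, rfl⟩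
    have hb0 : b ≠ 0 := hb ▸ f.denom_ne_zero
    have ha0 : a ≠ 0 := ha ▸ RatFunc.num_ne_zero hf0
    have hfab : f = ι a / ι b := by rw [ha, hb, RatFunc.num_div_denom]
    have hιb0 : ι b ≠ 0 := RatFunc.algebraMap_ne_zero hb0
    have hmul : p.1 f * p.1 (ι b) = p.1 (ι a) := by
      rw [hfab, ← map_mul, div_mul_cancel₀ _ hιb0]
    have hda : a.natDegree = b.natDegree + (2 * d + 1) := by
      have h1 := hmul
      rw [hpf, Rat.val_poly_of_one_lt p hX ha0, Rat.val_poly_of_one_lt p hX hb0, hpX,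
        ← exp_nsmul, ← exp_nsmul, ← exp_add, exp_inj] at h1
      simp only [nsmul_eq_mul] at h1
      omega
    have hPT2 : P.1 T = exp (-2) := by
      rw [hPT]
      simp
    have hTlt : P.1 T < 1 := by
      rw [hPT2, ← exp_zero, exp_lt_exp]
      norm_num
    letI : Invertible x := invertibleOfNonzero hx0
    have hrev : ∀ g : k[X], aeval x g = aeval T g.reverse * x ^ g.natDegree := by
      intro g
      have h1 := eval₂_reverse_mul_pow (algebraMap k K) x g
      rw [invOf_eq_inv] at h1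
      rw [aeval_def, aeval_def, hT, ← h1]
    have hunit : ∀ g : k[X], g ≠ 0 → P.1 (aeval T g.reverse) = 1 := by
      intro g hg
      exact Helper23.FF.val_aeval_eq_one P.1 (fun c hc => FF.val_const P hc) hTlt g.reverse
        (by rw [coeff_zero_reverse]; exact leadingCoeff_ne_zero.mpr hg)
    have hA1 := hunit a ha0
    have hB1 := hunit b hb0
    have hBrev0 : aeval T b.reverse ≠ 0 := by
      intro h
      rw [h, map_zero] at hB1
      exact zero_ne_one hB1
    have hxp : x ^ a.natDegree * T ^ (2 * d + 1) = x ^ b.natDegree := by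
      rw [hda, pow_add, mul_assoc, ← mul_pow, hxT, one_pow, mul_one]
    have hYeq : (y ^ 2 + y) * T ^ (2 * d + 1) = aeval T a.reverse / aeval T b.reverse := by
      rw [heq, hfab, map_div₀, hconv, hconv, hrev a, hrev b, div_mul_eq_mul_div,
        div_eq_div_iff (mul_ne_zero hBrev0 (pow_ne_zero _ hx0)) hBrev0]
      linear_combination (aeval T a.reverse * aeval T b.reverse) * hxp
    obtain ⟨R, hR, hDU⟩ := quot_rule ψ P hTlt.le a.reverse b.reverse hB1
    have hu : Valued.v (ψ (aeval T a.reverse / aeval T b.reverse)) = 1 := by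
      rw [hψ.1, map_div₀, hA1, hB1, div_one]
    have hr : Valued.v (ψ R) ≤ 1 := by
      rw [hψ.1]
      exact hR
    have ht : Valued.v (ψ T) = exp (-2) := by rw [hψ.1, hPT2]
    have hY' : ((ψ y) ^ 2 + ψ y) * (ψ T) ^ (2 * d + 1) =
        ψ (aeval T a.reverse / aeval T b.reverse) := by
      rw [← hYeq, map_mul, map_add, map_pow, map_pow]
    have := val_D_of_as (two_F h2) d ht hu hr hDU hY'
    rw [hrel, this, ← exp_add]
    congr 1
    push_cast
    ring
  · have he1 := hunr (not_lt.mp hf)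
    subst he1
    rw [if_neg hf, sub_zero]
    have h1 : Valued.v (ψ T) = exp (-(1 : ℤ)) := by
      rw [hψ.1, hPT]
      simp
    have h3 := LR.val_D_eq h1 (by simp)
    rw [sub_self, neg_zero, exp_zero] at h3
    rw [hrel, h3, mul_one, mul_comm]

end Groth.Agent.Lib.Helper27.ASD
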