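import Mathlib
import Groth.Agent.Lib.Helper27.ASD2
import Groth.Agent.Lib.Helper27.Hyper8
import Groth.Agent.Lib.Helper27.Tate18
import Groth.Agent.Lib.Helper27.FunFld6
import Groth.Agent.Lib.Helper23.TateW4

/-! Artin–Schreier extensions `y² + y = f` of `k(x)`, `k` perfect of characteristic `2`, all poles
of `f` odd: the canonical divisor `(dx)`, the genus, and a regularity criterion. -/

set_option autoImplicit false

namespace Groth.Agent.Lib.Helper27.ASD
open FunFld WithZero Polynomial LaurentSeries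

universe u v w


theorem as_core (k : Type u) (K : Type v) [Field k] [Field K] [Algebra k K] [Algebra (RatFunc k) K]
    [IsScalarTower k (RatFunc k) K]
    (hK : IsFunctionField k K) (hdeg : Module.finrank (RatFunc k) K = 2) [PerfectField k]
    (h2k : (2 : k) = 0) [Algebra.IsSeparable (RatFunc k) K]
    (y : K) (hy : y ∉ Set.range (algebraMap (RatFunc k) K)) (f : RatFunc k)
    (heq : y ^ 2 + y = algebraMap (RatFunc k) K f)
    (hodd : ∀ p : Place k (RatFunc k), 1 < p.1 f → Odd (p.ord f))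
    (q : k[X]) (hq0 : q ≠ 0)
    (hq : ∀ p : Place k (RatFunc k), p.1 RatFunc.X ≤ 1 →
      p.ord (algebraMap k[X] (RatFunc k) q) = if 1 < p.1 f then (1 - p.ord f) / 2 else 0)
    (F : Place k K → Type w) [∀ P, Field (F P)] [∀ P, Algebra k (F P)]
    [∀ P, FiniteDimensional k (F P)]
    (φ : ∀ P, K →ₐ[k] LaurentSeries (F P)) (hφ : ∀ P, LocRes.IsExpansionAt P.1 (φ P))
    (pinf : Place k (RatFunc k)) (hpinf : 1 < pinf.1 RatFunc.X) (dinf : ℤ)
    (hdinf : dinf = if 1 < pinf.1 f then (1 - pinf.ord f) / 2 else 0) :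
    ∃ W : Divisor k K, IsCanonical k K W ∧
      (∀ u : K, u ∈ L W ↔
        ∀ P, LocRes.vDiff (φ P) u (algebraMap (RatFunc k) K RatFunc.X) ≤ 1) ∧
      (genus k K : ℤ) = q.natDegree + dinf - 1 ∧
      ∀ r : RatFunc k,
        (∀ p : Place k (RatFunc k), p.1 RatFunc.X ≤ 1 →
          p.1 r * p.1 (algebraMap k[X] (RatFunc k) q) ≤ 1) →
        pinf.1 r ≤ exp (dinf - 2) →
        ∀ P, LocRes.vDiff (φ P) (algebraMap (RatFunc k) K r)
          (algebraMap (RatFunc k) K RatFunc.X) ≤ 1 := by
  classical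
  haveI : FiniteDimensional (RatFunc k) K := Module.finite_of_finrank_pos (by omega)
  obtain ⟨h1, hDx⟩ := Hyper.kaehler_of_separable (k := k) (K := K)
  have hK₀ := Rat.isFunctionField_ratFunc k
  obtain ⟨x, hx⟩ : ∃ x : K, x = algebraMap (RatFunc k) K RatFunc.X := ⟨_, rfl⟩
  rw [← hx]
  rw [← hx] at hDx
  have hconv : ∀ p : Polynomial k,
      algebraMap (RatFunc k) K (algebraMap (Polynomial k) (RatFunc k) p) = Polynomial.aeval x p := by
    intro p
    rw [hx, Polynomial.aeval_algebraMap_apply, RatFunc.aeval_X_left_eq_algebraMap]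
  have hinj : Function.Injective fun p : Polynomial k => Polynomial.aeval x p := by
    intro p q hpq
    simp only [← hconv] at hpq
    exact IsFractionRing.injective (Polynomial k) (RatFunc k)
      ((algebraMap (RatFunc k) K).injective hpq)
  obtain ⟨q', hq'⟩ : ∃ q' : K, q' = Polynomial.aeval x q := ⟨_, rfl⟩
  have hq'0 : q' ≠ 0 := by
    rw [hq']
    intro h
    exact hq0 (hinj (by simpa using h))
  have hq'j : algebraMap (RatFunc k) K (algebraMap (Polynomial k) (RatFunc k) q) = q' := by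
    rw [hq', hconv]
  have C := FF.core_of hK
  have hne : ∀ P, ∃ y : K, LocRes.locRes (φ P) y x ≠ 0 :=
    fun P => Tate.exists_locRes_ne_zero' h1 (hφ P) hDx
  obtain ⟨-, hne0, hfin, hdiv⟩ :=
    Groth.Agent.Lib.Helper23.Tate.weil_of_residues C F φ hφ 1 x one_ne_zero hne
  set W : FunFld.Divisor k K := Finsupp.ofSupportFinite _ hfin with hWdef
  have hWP : ∀ P, W P = LocRes.ordDiff (φ P) 1 x := fun P => rfl
  have hcan : FunFld.IsCanonical k K W := ⟨_, hne0, hdiv W hWP⟩
  have hover : ∀ P : FunFld.Place k K,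
      ∃ (p : FunFld.Place k (RatFunc k)) (e : ℕ), FunFld.IsOverWith P p e :=
    fun P => FF.exists_isOverWith hK₀ P
  obtain ⟨c, hc⟩ : ∃ c : ℤ, c = (q.natDegree : ℤ) + dinf - 2 := ⟨_, rfl⟩
  have hfin_iff : ∀ (P : FunFld.Place k K) (p : FunFld.Place k (RatFunc k)) (e : ℕ),
      FunFld.IsOverWith P p e → (P.1 x ≤ 1 ↔ p.1 RatFunc.X ≤ 1) := by
    intro P p e he
    constructor
    · intro hP
      by_contra hcon
      rw [not_le] at hcon
      have : 1 < P.1 x := by
        rw [hx, he RatFunc.X]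
        exact one_lt_pow₀ hcon (by have := FF.isOverWith_pos he; omega)
      exact absurd hP (not_le.mpr this)
    · intro hp
      rw [hx, he RatFunc.X]
      exact pow_le_one' hp e
  -- local values of `dx`
  have hfinite : ∀ P : FunFld.Place k K, P.1 x ≤ 1 →
      Valued.v (LocRes.D (F P) (φ P x)) = P.1 q' := by
    intro P hP
    obtain ⟨p, e, he⟩ := hover P
    have hpX : p.1 RatFunc.X ≤ 1 := (hfin_iff P p e he).mp hP
    have := ASD.val_D_finite h2k hdeg he (hφ P) hy heq (hodd p) hpX hq0 (hq p hpX)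
    rw [← hx, hq'j] at this
    exact this
  have hinfinite : ∀ P : FunFld.Place k K, 1 < P.1 x →
      ∃ e : ℕ, 1 ≤ e ∧ FunFld.IsOverWith P pinf e ∧
        Valued.v (LocRes.D (F P) (φ P x)) = WithZero.exp ((e : ℤ) * (2 - dinf)) := by
    intro P hP
    obtain ⟨p, e, he⟩ := hover P
    have hpX : 1 < p.1 RatFunc.X := by
      by_contra hcon
      rw [not_lt] at hcon
      exact absurd hP (not_lt.mpr ((hfin_iff P p e he).mpr hcon))
    have hpp : p = pinf := Hyper.inf_unique hpX hpinf
    rw [hpp] at he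
    refine ⟨e, FF.isOverWith_pos he, he, ?_⟩
    have := ASD.val_D_infinite h2k hdeg he (hφ P) hy heq (hodd pinf) hpinf
    rw [← hx, ← hdinf] at this
    exact this
  have hPinf : ∀ (P : FunFld.Place k K) (e : ℕ), FunFld.IsOverWith P pinf e →
      P.1 x = WithZero.exp (e : ℤ) ∧ P.1 q' = WithZero.exp ((e : ℤ) * (q.natDegree : ℤ)) := by
    intro P e he
    constructor
    · rw [hx, he RatFunc.X, Rat.val_X_eq_of_one_lt pinf hpinf, ← WithZero.exp_nsmul]
      congr 1
      simp
    · rw [← hq'j, he _, Rat.val_poly_of_one_lt pinf hpinf hq0, Rat.val_X_eq_of_one_lt pinf hpinf,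
        ← WithZero.exp_nsmul, ← WithZero.exp_nsmul]
      congr 1
      simp only [nsmul_eq_mul]
      ring
  have hWval : ∀ P, W P = -WithZero.log (Valued.v (LocRes.D (F P) (φ P x))) :=
    fun P => by rw [hWP, LR.ordDiff_one]
  -- the divisor of `dx`
  have hWeq : W = FunFld.div k q' +
      c • FunFld.conorm K (Finsupp.single pinf (1 : ℤ) : FunFld.Divisor k (RatFunc k)) := by
    ext P
    rw [Finsupp.add_apply, Finsupp.smul_apply, C.div_apply, hWval, smul_eq_mul]
    rcases le_or_gt (P.1 x) 1 with h | h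
    · rw [hfinite P h]
      obtain ⟨p, e, he⟩ := hover P
      have hpne : pinf ≠ p := by
        rintro rfl
        exact absurd ((hfin_iff P pinf e he).mp h) (not_le.mpr hpinf)
      rw [Hyper.conorm_apply_of_isOverWith hK₀ _ he, Finsupp.single_apply, if_neg hpne]
      unfold FunFld.Place.ord
      ring
    · obtain ⟨e, he1, he, hv⟩ := hinfinite P h
      rw [hv, WithZero.log_exp, Hyper.conorm_apply_of_isOverWith hK₀ _ he, Finsupp.single_apply,
        if_pos rfl]
      have hordq : P.ord q' = -((e : ℤ) * (q.natDegree : ℤ)) := by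
        unfold FunFld.Place.ord
        rw [(hPinf P e he).2, WithZero.log_exp]
      rw [hordq, hc]
      ring
  have hgc : (FunFld.genus k K : ℤ) = c + 1 := by
    have hdegW := C.deg_canonical hcan
    have h3 : W.deg = 2 * c := by
      rw [hWeq, FF.deg_add, C.deg_div, Groth.Agent.Lib.Helper23.FF.deg_zsmul, FF.deg_conorm hK₀,
        hdeg, FF.deg_single, Rat.deg_of_one_lt pinf hpinf]
      push_cast
      ring
    linarith
  have hD0 : ∀ P, Valued.v (LocRes.D (F P) (φ P x)) ≠ 0 := by
    intro P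
    have := Groth.Agent.Lib.Helper23.Tate.vDiff_ne_zero_of (φ P) one_ne_zero (hne P)
    rwa [LR.vDiff_one] at this
  refine ⟨W, hcan, ?_, by rw [hgc, hc]; ring, ?_⟩
  · intro u
    have key : ∀ P, P.1 u ≤ WithZero.exp (W P) ↔ LocRes.vDiff (φ P) u x ≤ 1 := by
      intro P
      rw [Hyper.vDiff_eq (φ P) (hφ P), hWval, WithZero.exp_neg, WithZero.exp_log (hD0 P)]
      constructor
      · intro h
        calc P.1 u * Valued.v (LocRes.D (F P) (φ P x))
            ≤ (Valued.v (LocRes.D (F P) (φ P x)))⁻¹ * Valued.v (LocRes.D (F P) (φ P x)) :=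
              mul_le_mul' h le_rfl
          _ = 1 := inv_mul_cancel₀ (hD0 P)
      · intro h
        have h4 : P.1 u * Valued.v (LocRes.D (F P) ((φ P) x)) ≤
            (Valued.v (LocRes.D (F P) ((φ P) x)))⁻¹ * Valued.v (LocRes.D (F P) ((φ P) x)) := by
          rw [inv_mul_cancel₀ (hD0 P)]; exact h
        exact le_of_mul_le_mul_right h4 (zero_lt_iff.mpr (hD0 P))
    constructor
    · intro hu P
      exact (key P).mp (hu P)
    · intro hu P
      exact (key P).mpr (hu P)
  · intro r hrfin hrinf P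
    rw [Hyper.vDiff_eq (φ P) (hφ P)]
    rcases le_or_gt (P.1 x) 1 with h | h
    · obtain ⟨p, e, he⟩ := hover P
      have hpX : p.1 RatFunc.X ≤ 1 := (hfin_iff P p e he).mp h
      rw [hfinite P h, ← hq'j, he r, he _, ← mul_pow]
      exact pow_le_one' (hrfin p hpX) e
    · obtain ⟨e, he1, he, hv⟩ := hinfinite P h
      rw [hv, he r]
      calc pinf.1 r ^ e * WithZero.exp ((e : ℤ) * (2 - dinf))
          ≤ WithZero.exp (dinf - 2) ^ e * WithZero.exp ((e : ℤ) * (2 - dinf)) :=
            mul_le_mul' (pow_le_pow_left' hrinf e) le_rfl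
        _ = 1 := by
          rw [← WithZero.exp_nsmul, ← WithZero.exp_add, ← WithZero.exp_zero]
          congr 1
          simp only [nsmul_eq_mul]
          ring

end Groth.Agent.Lib.Helper27.ASD
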