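import Mathlib
import Groth.Agent.Lib.Helper27.ASD3

/-! Artin–Schreier curves `y² + y = f` over an algebraically closed field of characteristic `2`,
with `f` having odd poles at a finite set `B ⊆ k`: the explicit partial-fraction family. -/

set_option autoImplicit false

namespace Groth.Agent.Lib.Helper27.ASD
open FunFld WithZero Polynomial

universe u v

/-- In a linear relation among elements with pairwise distinct pole orders at a place (the other
terms being regular there), the coefficients of the polar terms vanish. -/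
theorem coeff_zero_of_distinct_poles {k L : Type*} [Field k] [Field L] [Algebra k L]
    (P : Place k L) {ι' : Type*} (s : Finset ι') (g : ι' → k) (z : ι' → L)
    (hsum : ∑ i ∈ s, g i • z i = 0) (T : ι' → Prop)
    (hT : ∀ i ∈ s, T i → 1 < P.1 (z i))
    (hnT : ∀ i ∈ s, ¬ T i → g i = 0 ∨ P.1 (z i) ≤ 1)
    (hinj : ∀ i ∈ s, ∀ i' ∈ s, T i → T i' → P.1 (z i) = P.1 (z i') → i = i') :
    ∀ i ∈ s, T i → g i = 0 := by
  classical
  by_contra hcon
  push Not at hcon
  obtain ⟨i₁, hi₁s, hi₁T, hi₁g⟩ := hcon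
  have hne : (s.filter (fun i => T i ∧ g i ≠ 0)).Nonempty :=
    ⟨i₁, Finset.mem_filter.mpr ⟨hi₁s, hi₁T, hi₁g⟩⟩
  obtain ⟨i₀, hi₀, hmax⟩ := Finset.exists_max_image _ (fun i => P.1 (z i)) hne
  obtain ⟨hi₀s, hi₀T, hi₀g⟩ := Finset.mem_filter.mp hi₀
  have h1 := hT i₀ hi₀s hi₀T
  have hval : ∀ i, g i ≠ 0 → P.1 (g i • z i) = P.1 (z i) := fun i hg => FF.val_smul P hg (z i)
  have hlt : ∀ i ∈ s \ {i₀}, P.1 (g i • z i) < P.1 (g i₀ • z i₀) := by
    intro i hi
    rw [Finset.mem_sdiff, Finset.mem_singleton] at hi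
    obtain ⟨his, hne0⟩ := hi
    rw [hval i₀ hi₀g]
    by_cases hg : g i = 0
    · rw [hg, zero_smul, map_zero]
      exact zero_lt_one.trans h1
    · rw [hval i hg]
      by_cases hTi : T i
      · have hle := hmax i (Finset.mem_filter.mpr ⟨his, hTi, hg⟩)
        exact lt_of_le_of_ne hle (fun heq => hne0 (hinj i his i₀ hi₀s hTi hi₀T heq))
      · rcases hnT i his hTi with h0 | hle
        · exact absurd h0 hg
        · exact lt_of_le_of_lt hle h1
  have := Valuation.map_sum_eq_of_lt (v := P.1) hi₀s hlt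
  rw [hsum, map_zero, hval i₀ hi₀g] at this
  rw [← this] at h1
  exact absurd h1 (not_lt.mpr zero_le_one)

section RatPlaces
variable {k : Type u} [Field k]

local notation "ι" => algebraMap k[X] (RatFunc k)

theorem X_sub_C_eq (α : k) : (RatFunc.X : RatFunc k) - RatFunc.C α = ι (X - C α) := by
  rw [map_sub, RatFunc.algebraMap_X, RatFunc.algebraMap_C]

variable (p : Place k (RatFunc k))

theorem val_XC_eq {α : k} (h : p.1 (RatFunc.X - RatFunc.C α) < 1) :
    p.1 (RatFunc.X - RatFunc.C α) = exp (-1) := by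
  rw [X_sub_C_eq] at h ⊢
  exact Rat.val_irreducible_eq p (irreducible_X_sub_C α) h

theorem val_XC_of_ne {α β : k} (h : p.1 (RatFunc.X - RatFunc.C α) < 1) (hne : β ≠ α) :
    p.1 (RatFunc.X - RatFunc.C β) = 1 := by
  rw [X_sub_C_eq] at h ⊢
  apply Rat.val_poly_eq_one_of_not_dvd p (irreducible_X_sub_C α) h
  rw [dvd_iff_isRoot, IsRoot.def, eval_sub, eval_X, eval_C, sub_eq_zero]
  exact fun h' => hne h'.symm

theorem val_X_of_ne_zero {α : k} (h : p.1 (RatFunc.X - RatFunc.C α) < 1) (hα : α ≠ 0) :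
    p.1 (RatFunc.X : RatFunc k) = 1 := by
  have := val_XC_of_ne p h (β := 0) (Ne.symm hα)
  rwa [map_zero, sub_zero] at this

theorem val_XC_le_one (hX : p.1 (RatFunc.X : RatFunc k) ≤ 1) (α : k) :
    p.1 (RatFunc.X - RatFunc.C α) ≤ 1 := by
  rw [X_sub_C_eq]
  exact Rat.val_poly_le_one p hX _

theorem val_XC_inf (hX : 1 < p.1 (RatFunc.X : RatFunc k)) (α : k) :
    p.1 (RatFunc.X - RatFunc.C α) = exp 1 := by
  rw [X_sub_C_eq, Rat.val_poly_of_one_lt p hX (X_sub_C_ne_zero α), natDegree_X_sub_C, pow_one,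
    Rat.val_X_eq_of_one_lt p hX]

theorem val_C {β : k} (hβ : β ≠ 0) : p.1 (RatFunc.C β) = 1 := by
  rw [← RatFunc.algebraMap_eq_C]
  exact FF.val_const p hβ

variable (B : Finset k) (d : k → ℕ)

/-- the polynomial `∏ (x - α)^((d_α + 1)/2)` -/
noncomputable def qB : k[X] := ∏ α ∈ B, (X - C α) ^ ((d α + 1) / 2)

theorem qB_ne_zero : qB B d ≠ 0 :=
  Finset.prod_ne_zero_iff.mpr (fun α _ => pow_ne_zero _ (X_sub_C_ne_zero α))

theorem iota_qB : ι (qB B d) = ∏ α ∈ B, (RatFunc.X - RatFunc.C α) ^ ((d α + 1) / 2) := by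
  unfold qB
  rw [map_prod]
  refine Finset.prod_congr rfl (fun α _ => ?_)
  rw [map_pow, X_sub_C_eq]

theorem val_qB_of_lt {α : k} (hα : α ∈ B) (h : p.1 (RatFunc.X - RatFunc.C α) < 1) :
    p.1 (ι (qB B d)) = exp (-(((d α + 1) / 2 : ℕ) : ℤ)) := by
  classical
  rw [iota_qB, map_prod, Finset.prod_eq_single α]
  · rw [map_pow, val_XC_eq p h, ← exp_nsmul]
    congr 1
    simp
  · intro β _ hne
    rw [map_pow, val_XC_of_ne p h hne, one_pow]
  · intro hn
    exact absurd hα hn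

theorem val_qB_of_ge (hX : p.1 (RatFunc.X : RatFunc k) ≤ 1)
    (h : ∀ α ∈ B, 1 ≤ p.1 (RatFunc.X - RatFunc.C α)) : p.1 (ι (qB B d)) = 1 := by
  rw [iota_qB, map_prod]
  apply Finset.prod_eq_one
  intro α hα
  rw [map_pow, le_antisymm (val_XC_le_one p hX α) (h α hα), one_pow]

theorem natDegree_qB : (qB B d).natDegree = ∑ α ∈ B, (d α + 1) / 2 := by
  unfold qB
  rw [natDegree_prod_of_monic]
  · refine Finset.sum_congr rfl (fun α _ => ?_)
    rw [natDegree_pow, natDegree_X_sub_C, mul_one]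
  · intro α _
    exact (monic_X_sub_C α).pow _

variable {B d} {f : RatFunc k}

theorem odd_of (hd : ∀ α ∈ B, Odd (d α))
    (hpole : ∀ (p : Place k (RatFunc k)) (α : k), α ∈ B →
      p.1 ((RatFunc.X : RatFunc k) - RatFunc.C α) < 1 → p.ord f = -(d α : ℤ))
    (hint : ∀ p : Place k (RatFunc k),
      (∀ α ∈ B, 1 ≤ p.1 ((RatFunc.X : RatFunc k) - RatFunc.C α)) → p.1 f ≤ 1)
    (h : 1 < p.1 f) : Odd (p.ord f) := by
  by_cases hex : ∃ α ∈ B, p.1 (RatFunc.X - RatFunc.C α) < 1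
  · obtain ⟨α, hα, hlt⟩ := hex
    rw [hpole p α hα hlt]
    exact (hd α hα).natCast.neg
  · push Not at hex
    exact absurd h (not_lt.mpr (hint p hex))

theorem hq_of (hd : ∀ α ∈ B, Odd (d α))
    (hpole : ∀ (p : Place k (RatFunc k)) (α : k), α ∈ B →
      p.1 ((RatFunc.X : RatFunc k) - RatFunc.C α) < 1 → p.ord f = -(d α : ℤ))
    (hint : ∀ p : Place k (RatFunc k),
      (∀ α ∈ B, 1 ≤ p.1 ((RatFunc.X : RatFunc k) - RatFunc.C α)) → p.1 f ≤ 1)
    (hX : p.1 (RatFunc.X : RatFunc k) ≤ 1) :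
    p.ord (ι (qB B d)) = if 1 < p.1 f then (1 - p.ord f) / 2 else 0 := by
  by_cases hex : ∃ α ∈ B, p.1 (RatFunc.X - RatFunc.C α) < 1
  · obtain ⟨α, hα, hlt⟩ := hex
    have hord := hpole p α hα hlt
    have hdpos : 0 < d α := (hd α hα).pos
    have h1 : 1 < p.1 f := ASN.one_lt_val_of_ord_neg p (by rw [hord]; omega)
    rw [if_pos h1, hord]
    unfold Place.ord
    rw [val_qB_of_lt p B d hα hlt, log_exp]
    omega
  · push Not at hex
    have h1 := hint p hex
    rw [if_neg (not_lt.mpr h1)]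
    unfold Place.ord
    rw [val_qB_of_ge p B d hX hex, log_one, neg_zero]

theorem val_f_inf_le_one
    (hint : ∀ p : Place k (RatFunc k),
      (∀ α ∈ B, 1 ≤ p.1 ((RatFunc.X : RatFunc k) - RatFunc.C α)) → p.1 f ≤ 1)
    (hX : 1 < p.1 (RatFunc.X : RatFunc k)) : p.1 f ≤ 1 := by
  apply hint p
  intro α _
  rw [val_XC_inf p hX α, ← exp_zero, exp_le_exp]
  norm_num

variable (B d)

/-- the index type of the family of regular differentials -/
abbrev Idx : Type u :=
  {a : ↥B × ℕ // 1 ≤ a.2 ∧ 2 * a.2 + 1 ≤ d (a.1 : k)} ⊕ {b : ↥B // (b : k) ≠ 0}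

/-- the family `(x-α)^{-(j+1)}`, `α/(x(x-α))` in `k(x)` -/
noncomputable def fam : Idx B d → RatFunc k :=
  Sum.elim (fun a => ((RatFunc.X : RatFunc k) - RatFunc.C (a.1.1 : k))⁻¹ ^ (a.1.2 + 1))
    (fun b => RatFunc.C (b.1 : k) /
      ((RatFunc.X : RatFunc k) * ((RatFunc.X : RatFunc k) - RatFunc.C (b.1 : k))))

def owner : Idx B d → k := Sum.elim (fun a => (a.1.1 : k)) (fun b => (b.1 : k))

def lvl : Idx B d → ℕ := Sum.elim (fun a => a.1.2 + 1) (fun _ => 1)

variable {B d}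

theorem lvl_pos (i : Idx B d) : 1 ≤ lvl B d i := by
  rcases i with a | b <;> simp [lvl]

theorem idx_ext {i i' : Idx B d} (h1 : owner B d i = owner B d i')
    (h2 : lvl B d i = lvl B d i') : i = i' := by
  rcases i with ⟨⟨⟨α, hα⟩, j⟩, hj⟩ | ⟨⟨β, hβ⟩, hβ0⟩ <;>
    rcases i' with ⟨⟨⟨α', hα'⟩, j'⟩, hj'⟩ | ⟨⟨β', hβ'⟩, hβ0'⟩
  · dsimp only [owner, lvl, Sum.elim_inl] at h1 h2
    subst h1
    have : j = j' := by omega
    subst this
    rfl
  · dsimp only [owner, lvl, Sum.elim_inl, Sum.elim_inr] at h1 h2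
    have hj1 : 1 ≤ j := hj.1
    omega
  · dsimp only [owner, lvl, Sum.elim_inl, Sum.elim_inr] at h1 h2
    have hj1 : 1 ≤ j' := hj'.1
    omega
  · dsimp only [owner, lvl, Sum.elim_inr] at h1
    subst h1
    rfl

theorem val_fam_owner (i : Idx B d) (h : p.1 (RatFunc.X - RatFunc.C (owner B d i)) < 1) :
    p.1 (fam B d i) = exp ((lvl B d i : ℕ) : ℤ) := by
  rcases i with a | b
  · dsimp only [owner, lvl, fam, Sum.elim_inl] at h ⊢
    rw [map_pow, map_inv₀, val_XC_eq p h, ← exp_neg, neg_neg, ← exp_nsmul]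
    congr 1
    simp
  · dsimp only [owner, lvl, fam, Sum.elim_inr] at h ⊢
    rw [map_div₀, map_mul, val_C p b.2, val_X_of_ne_zero p h b.2, val_XC_eq p h, one_mul, one_div,
      ← exp_neg, neg_neg]
    simp

theorem val_fam_other {α : k} (h : p.1 (RatFunc.X - RatFunc.C α) < 1) (hα : α ≠ 0) (i : Idx B d)
    (hi : owner B d i ≠ α) : p.1 (fam B d i) = 1 := by
  rcases i with a | b
  · dsimp only [owner, fam, Sum.elim_inl] at hi ⊢
    rw [map_pow, map_inv₀, val_XC_of_ne p h hi, inv_one, one_pow]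
  · dsimp only [owner, fam, Sum.elim_inr] at hi ⊢
    rw [map_div₀, map_mul, val_C p b.2, val_X_of_ne_zero p h hα, val_XC_of_ne p h hi, one_mul,
      div_one]

variable (B d) in
theorem fam_linearIndependent : LinearIndependent k (fam B d) := by
  classical
  rw [linearIndependent_iff']
  intro s g hsum
  have hK₀ := Rat.isFunctionField_ratFunc k
  have hplace : ∀ α : k, ∃ p : Place k (RatFunc k), p.1 (RatFunc.X - RatFunc.C α) < 1 := by
    intro α
    apply FF.exists_place_val_lt_one hK₀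
    intro halg
    apply RatFunc.transcendental_X (K := k)
    have h2 : IsAlgebraic k (RatFunc.C α : RatFunc k) := by
      rw [← RatFunc.algebraMap_eq_C]
      exact isAlgebraic_algebraMap α
    have := halg.add h2
    rwa [sub_add_cancel] at this
  have hT : ∀ (p : Place k (RatFunc k)) (α : k), p.1 (RatFunc.X - RatFunc.C α) < 1 →
      ∀ i ∈ s, owner B d i = α → 1 < p.1 (fam B d i) := by
    intro p α h i _ hi
    rw [← hi] at h
    rw [val_fam_owner p i h, ← exp_zero, exp_lt_exp]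
    have := lvl_pos i
    omega
  have hinj : ∀ (p : Place k (RatFunc k)) (α : k), p.1 (RatFunc.X - RatFunc.C α) < 1 →
      ∀ i ∈ s, ∀ i' ∈ s, owner B d i = α → owner B d i' = α →
        p.1 (fam B d i) = p.1 (fam B d i') → i = i' := by
    intro p α h i _ i' _ hi hi' hv
    have h1 : p.1 (RatFunc.X - RatFunc.C (owner B d i)) < 1 := by rw [hi]; exact h
    have h2 : p.1 (RatFunc.X - RatFunc.C (owner B d i')) < 1 := by rw [hi']; exact h
    rw [val_fam_owner p i h1, val_fam_owner p i' h2, exp_inj] at hv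
    exact idx_ext (hi.trans hi'.symm) (by exact_mod_cast hv)
  have step1 : ∀ i ∈ s, owner B d i ≠ 0 → g i = 0 := by
    intro i hi hne
    obtain ⟨p, hp⟩ := hplace (owner B d i)
    exact coeff_zero_of_distinct_poles p s g (fam B d) hsum
      (fun i' => owner B d i' = owner B d i) (hT p _ hp)
      (fun i' _ hn => Or.inr (val_fam_other p hp hne i' hn).le) (hinj p _ hp) i hi rfl
  intro i hi
  by_cases h0 : owner B d i = 0
  · obtain ⟨p, hp⟩ := hplace (0 : k)
    exact coeff_zero_of_distinct_poles p s g (fam B d) hsum (fun i' => owner B d i' = 0)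
      (hT p _ hp) (fun i' hi' hn => Or.inl (step1 i' hi' hn)) (hinj p _ hp) i hi h0
  · exact step1 i hi h0

/-- the sigma-type form of the first index type -/
def idxEquiv : {a : ↥B × ℕ // 1 ≤ a.2 ∧ 2 * a.2 + 1 ≤ d (a.1 : k)} ≃
    Σ α : ↥B, Fin ((d (α : k) - 1) / 2) where
  toFun a := ⟨a.1.1, ⟨a.1.2 - 1, by have h1 := a.2.1; have h2 := a.2.2; omega⟩⟩
  invFun s := ⟨(s.1, s.2.1 + 1), by
    have h := s.2.2
    constructor <;> dsimp only <;> omega⟩
  left_inv a := Subtype.ext (Prod.ext rfl (Nat.sub_add_cancel a.2.1))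
  right_inv s := Sigma.ext rfl (heq_of_eq (Fin.ext (Nat.add_sub_cancel s.2.1 1)))

noncomputable instance instFintypeIdx1 :
    Fintype {a : ↥B × ℕ // 1 ≤ a.2 ∧ 2 * a.2 + 1 ≤ d (a.1 : k)} :=
  Fintype.ofEquiv _ (idxEquiv (B := B) (d := d)).symm

theorem card_idx1 :
    Nat.card {a : ↥B × ℕ // 1 ≤ a.2 ∧ 2 * a.2 + 1 ≤ d (a.1 : k)} = ∑ α ∈ B, (d α - 1) / 2 := by
  rw [Nat.card_congr (idxEquiv (B := B) (d := d)), Nat.card_sigma]
  simp only [Nat.card_eq_fintype_card, Fintype.card_fin]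
  exact Finset.sum_coe_sort B (fun α => (d α - 1) / 2)

/-- the second index type -/
def idx2Equiv [DecidableEq k] (B : Finset k) : {b : ↥B // (b : k) ≠ 0} ≃ ↥(B.erase 0) where
  toFun b := ⟨b.1.1, Finset.mem_erase.mpr ⟨b.2, b.1.2⟩⟩
  invFun c := ⟨⟨c.1, Finset.mem_of_mem_erase c.2⟩, (Finset.mem_erase.mp c.2).1⟩
  left_inv _ := rfl
  right_inv _ := rfl

theorem card_idx2 (h0 : (0 : k) ∈ B) : Nat.card {b : ↥B // (b : k) ≠ 0} = B.card - 1 := by
  classical
  rw [Nat.card_congr (idx2Equiv B), Nat.card_eq_fintype_card, Fintype.card_coe,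
    Finset.card_erase_of_mem h0]

theorem card_idx (h0 : (0 : k) ∈ B) (hd : ∀ α ∈ B, Odd (d α)) :
    Nat.card (Idx B d) = (qB B d).natDegree - 1 := by
  classical
  rw [Nat.card_sum, card_idx1, card_idx2 h0, natDegree_qB]
  have h1 : ∑ α ∈ B, (d α + 1) / 2 = ∑ α ∈ B, (d α - 1) / 2 + B.card := by
    rw [Finset.card_eq_sum_ones, ← Finset.sum_add_distrib]
    refine Finset.sum_congr rfl (fun α hα => ?_)
    obtain ⟨m, hm⟩ := hd α hα
    omega
  have h2 : 0 < B.card := Finset.card_pos.mpr ⟨0, h0⟩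
  rw [h1]
  omega

theorem fam_mul_q_le_one (h0 : (0 : k) ∈ B) (hd : ∀ α ∈ B, Odd (d α))
    (hX : p.1 (RatFunc.X : RatFunc k) ≤ 1) (i : Idx B d) :
    p.1 (fam B d i) * p.1 (ι (qB B d)) ≤ 1 := by
  have hq1 : p.1 (ι (qB B d)) ≤ 1 := Rat.val_poly_le_one p hX _
  rcases i with ⟨⟨⟨α, hα⟩, j⟩, hj⟩ | ⟨⟨β, hβ⟩, hβ0⟩
  · have hj2 : 2 * j + 1 ≤ d α := hj.2
    dsimp only [fam, Sum.elim_inl]
    by_cases h : p.1 (RatFunc.X - RatFunc.C α) < 1
    · rw [map_pow, map_inv₀, val_XC_eq p h, val_qB_of_lt p B d hα h, ← exp_neg, neg_neg,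
        ← exp_nsmul, ← exp_add, ← exp_zero, exp_le_exp]
      simp only [nsmul_eq_mul]
      omega
    · have h1 : p.1 (RatFunc.X - RatFunc.C α) = 1 :=
        le_antisymm (val_XC_le_one p hX α) (not_lt.mp h)
      rw [map_pow, map_inv₀, h1, inv_one, one_pow, one_mul]
      exact hq1
  · have hβ0' : β ≠ 0 := hβ0
    dsimp only [fam, Sum.elim_inr]
    rw [map_div₀, map_mul, val_C p hβ0', one_div]
    by_cases hx : p.1 (RatFunc.X : RatFunc k) < 1
    · have hx' : p.1 (RatFunc.X - RatFunc.C (0 : k)) < 1 := by rwa [map_zero, sub_zero]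
      have h1 : p.1 (RatFunc.X - RatFunc.C β) = 1 := val_XC_of_ne p hx' hβ0'
      have h2 := val_XC_eq p hx'
      have h3 := val_qB_of_lt p B d h0 hx'
      rw [map_zero, sub_zero] at h2
      have hd0 := (hd 0 h0).pos
      rw [h1, mul_one, h2, h3, ← exp_neg, neg_neg, ← exp_add, ← exp_zero, exp_le_exp]
      omega
    · have hx1 : p.1 (RatFunc.X : RatFunc k) = 1 := le_antisymm hX (not_lt.mp hx)
      by_cases hb : p.1 (RatFunc.X - RatFunc.C β) < 1
      · have hdβ := (hd β hβ).pos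
        rw [hx1, one_mul, val_XC_eq p hb, val_qB_of_lt p B d hβ hb, ← exp_neg, neg_neg,
          ← exp_add, ← exp_zero, exp_le_exp]
        omega
      · have h1 : p.1 (RatFunc.X - RatFunc.C β) = 1 :=
          le_antisymm (val_XC_le_one p hX β) (not_lt.mp hb)
        rw [hx1, h1, mul_one, inv_one, one_mul]
        exact hq1

theorem fam_inf_le (hX : 1 < p.1 (RatFunc.X : RatFunc k)) (i : Idx B d) :
    p.1 (fam B d i) ≤ exp ((0 : ℤ) - 2) := by
  rcases i with ⟨⟨⟨α, hα⟩, j⟩, hj⟩ | ⟨⟨β, hβ⟩, hβ0⟩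
  · have hj1 : 1 ≤ j := hj.1
    dsimp only [fam, Sum.elim_inl]
    rw [map_pow, map_inv₀, val_XC_inf p hX α, ← exp_neg, ← exp_nsmul, exp_le_exp]
    simp only [nsmul_eq_mul]
    omega
  · have hβ0' : β ≠ 0 := hβ0
    dsimp only [fam, Sum.elim_inr]
    rw [map_div₀, map_mul, val_C p hβ0', val_XC_inf p hX β, Rat.val_X_eq_of_one_lt p hX, one_div,
      ← exp_add, ← exp_neg, exp_le_exp]
    norm_num

end RatPlaces

end Groth.Agent.Lib.Helper27.ASD
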