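import Mathlib
import Groth.Agent.Lib.Helper27.ASD4
import Groth.Agent.Lib.Helper27.FFExt7

/-! Artin–Schreier curves `y² + y = f`: orders of `y` and of `x - α` at the places of `K`. -/

set_option autoImplicit false

namespace Groth.Agent.Lib.Helper27.ASD
open FunFld WithZero Polynomial

universe u v

section General
variable {k : Type u} {K : Type v} [Field k] [Field K] [Algebra k K]

theorem ord_of_val (P : Place k K) {u : K} {n : ℤ} (h : P.1 u = exp n) : P.ord u = -n := by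
  unfold Place.ord
  rw [h, log_exp]

theorem ord_zpow (P : Place k K) (u : K) (j : ℤ) : P.ord (u ^ j) = j * P.ord u := by
  unfold Place.ord
  rw [map_zpow₀, log_zpow, smul_eq_mul]
  ring

theorem ord_mul_zpow (P : Place k K) {y u : K} (hy0 : y ≠ 0) (hu0 : u ≠ 0) (j : ℤ) :
    P.ord (y * u ^ j) = P.ord y + j * P.ord u := by
  rw [FF.ord_mul P hy0 (zpow_ne_zero j hu0), ord_zpow]

end General

variable {k : Type u} {K : Type v} [Field k] [Field K] [Algebra k K]
  [Algebra (RatFunc k) K] [IsScalarTower k (RatFunc k) K]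

local notation "jj" => algebraMap (RatFunc k) K

theorem x_sub_eq (α : k) :
    jj RatFunc.X - algebraMap k K α = jj (RatFunc.X - RatFunc.C α) := by
  rw [map_sub, ← RatFunc.algebraMap_eq_C, ← IsScalarTower.algebraMap_apply]

theorem x_sub_ne_zero (α : k) : jj RatFunc.X - algebraMap k K α ≠ 0 := by
  rw [x_sub_eq, X_sub_C_eq]
  exact (_root_.map_ne_zero _).mpr (RatFunc.algebraMap_ne_zero (X_sub_C_ne_zero α))

theorem val_x_sub {P : Place k K} {p : Place k (RatFunc k)} {e : ℕ} (he : IsOverWith P p e)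
    (α : k) : P.1 (jj RatFunc.X - algebraMap k K α) = p.1 (RatFunc.X - RatFunc.C α) ^ e := by
  rw [x_sub_eq, he]

theorem val_y_le_one {P : Place k K} {p : Place k (RatFunc k)} {e : ℕ} (he : IsOverWith P p e)
    {y : K} {f : RatFunc k} (heq : y ^ 2 + y = jj f) (hf : p.1 f ≤ 1) : P.1 y ≤ 1 := by
  by_contra hcon
  rw [not_le] at hcon
  have h1 : P.1 (y ^ 2 + y) = P.1 y ^ 2 := by
    rw [Valuation.map_add_eq_of_lt_left, map_pow]
    rw [map_pow]
    exact lt_self_pow₀ hcon (by norm_num)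
  have h2 : P.1 (y ^ 2 + y) ≤ 1 := by
    rw [heq, he f]
    exact pow_le_one' hf e
  rw [h1] at h2
  exact absurd (one_lt_pow₀ hcon two_ne_zero) (not_lt.mpr h2)

theorem val_y_of_pole {P : Place k K} {p : Place k (RatFunc k)} (he : IsOverWith P p 2)
    {y : K} {f : RatFunc k} (heq : y ^ 2 + y = jj f) {n : ℤ} (hn : 0 < n)
    (hf : p.1 f = exp n) : P.1 y = exp n := by
  have h0 : P.1 (y ^ 2 + y) = exp (2 * n) := by
    rw [heq, he f, hf, ← exp_nsmul]
    congr 1
  have h1 : 1 < P.1 y := by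
    by_contra hcon
    rw [not_lt] at hcon
    have : P.1 (y ^ 2 + y) ≤ 1 :=
      (Valuation.map_add _ _ _).trans
        (max_le (by rw [map_pow]; exact pow_le_one' hcon 2) hcon)
    rw [h0, ← exp_zero, exp_le_exp] at this
    omega
  have h2 : P.1 (y ^ 2 + y) = P.1 y ^ 2 := by
    rw [Valuation.map_add_eq_of_lt_left, map_pow]
    rw [map_pow]
    exact lt_self_pow₀ h1 (by norm_num)
  have hy0 : P.1 y ≠ 0 := (zero_lt_one.trans h1).ne'
  obtain ⟨m, hm⟩ : ∃ m : ℤ, P.1 y = exp m := ⟨_, (exp_log hy0).symm⟩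
  rw [h2, hm, ← exp_nsmul, exp_inj] at h0
  rw [hm]
  congr 1
  simp only [nsmul_eq_mul] at h0
  push_cast at h0
  omega

omit [Algebra k K] [IsScalarTower k (RatFunc k) K] in
/-- the nontrivial automorphism `y ↦ y + 1` -/
theorem exists_conj_as (hdeg : Module.finrank (RatFunc k) K = 2) (h2K : (2 : K) = 0) {y : K}
    (hy : y ∉ Set.range jj) {f : RatFunc k} (heq : y ^ 2 + y = jj f) :
    ∃ σ : K ≃ₐ[RatFunc k] K, σ y = y + 1 := by
  haveI : FiniteDimensional (RatFunc k) K := Module.finite_of_finrank_pos (by omega)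
  haveI : Algebra.IsQuadraticExtension (RatFunc k) K :=
    { toFree := inferInstance, finrank_eq_two' := hdeg }
  have hint : IsIntegral (RatFunc k) y := .of_finite _ y
  obtain ⟨g, hg⟩ : ∃ g : (RatFunc k)[X], g = X ^ 2 + (X - C f) := ⟨_, rfl⟩
  have hdeg1 : (X - C f : (RatFunc k)[X]).degree < ((2 : ℕ) : WithBot ℕ) := by
    rw [degree_X_sub_C]
    exact_mod_cast Nat.one_lt_two
  have hgmonic : g.Monic := by
    rw [hg]
    exact monic_X_pow_add hdeg1
  have hgdeg : g.natDegree = 2 := by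
    apply natDegree_eq_of_degree_eq_some
    have h3 : (X - C f : (RatFunc k)[X]).degree < ((X : (RatFunc k)[X]) ^ 2).degree := by
      rw [degree_X_pow]
      exact hdeg1
    rw [hg, degree_add_eq_left_of_degree_lt h3, degree_X_pow]
  have hgy : aeval y g = 0 := by
    rw [hg]
    simp only [map_add, map_pow, aeval_X, map_sub, aeval_C]
    rw [← heq]
    ring
  have hmin : minpoly (RatFunc k) y = g := by
    have hdvd := minpoly.dvd (RatFunc k) y hgy
    have hmm := minpoly.monic hint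
    have h1 : (minpoly (RatFunc k) y).natDegree ≠ 1 := fun h =>
      hy ((minpoly.natDegree_eq_one_iff).mp h)
    have h2' : 0 < (minpoly (RatFunc k) y).natDegree := minpoly.natDegree_pos hint
    exact (eq_of_monic_of_dvd_of_natDegree_le hmm hgmonic hdvd (by omega)).symm
  have hev : aeval (y + 1) (minpoly (RatFunc k) y) = 0 := by
    rw [hmin, hg]
    simp only [map_add, map_pow, aeval_X, map_sub, aeval_C]
    rw [← heq]
    linear_combination (y + 1) * h2K
  exact minpoly.exists_algEquiv_of_root' hint.isAlgebraic hev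

section Poles
variable {B : Finset k} {d : k → ℕ} {f : RatFunc k} {y : K}

theorem at_pole (h2k : (2 : k) = 0) (hdeg : Module.finrank (RatFunc k) K = 2)
    (hy : y ∉ Set.range jj) (heq : y ^ 2 + y = jj f) (hd : ∀ α ∈ B, Odd (d α))
    (hpole : ∀ (p : Place k (RatFunc k)) (α : k), α ∈ B →
      p.1 ((RatFunc.X : RatFunc k) - RatFunc.C α) < 1 → p.ord f = -(d α : ℤ))
    (hint : ∀ p : Place k (RatFunc k),
      (∀ α ∈ B, 1 ≤ p.1 ((RatFunc.X : RatFunc k) - RatFunc.C α)) → p.1 f ≤ 1)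
    {P : Place k K} {p : Place k (RatFunc k)} {e : ℕ} (he : IsOverWith P p e) {α : k}
    (hα : α ∈ B) (hp : p.1 (RatFunc.X - RatFunc.C α) < 1) :
    e = 2 ∧ P.ord y = -(d α : ℤ) ∧ P.ord (jj RatFunc.X - algebraMap k K α) = 2 := by
  have hordf := hpole p α hα hp
  have hdpos : 0 < d α := (hd α hα).pos
  have hf1 : 1 < p.1 f := ASN.one_lt_val_of_ord_neg p (by rw [hordf]; omega)
  have he2 := (ramIdx_cases h2k hdeg he hy heq (fun h => odd_of p hd hpole hint h)).1 hf1
  subst he2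
  have hf0 : f ≠ 0 := by
    rintro rfl
    rw [map_zero] at hf1
    exact absurd hf1 (not_lt.mpr zero_le_one)
  have hpf : p.1 f = exp (d α : ℤ) := by rw [FF.val_eq_exp_neg_ord p hf0, hordf, neg_neg]
  refine ⟨rfl, ?_, ?_⟩
  · exact ord_of_val P (val_y_of_pole he heq (by exact_mod_cast hdpos) hpf)
  · have : P.1 (jj RatFunc.X - algebraMap k K α) = exp (-(2 : ℤ)) := by
      rw [val_x_sub he, val_XC_eq p hp, ← exp_nsmul]
      congr 1
    rw [ord_of_val P this, neg_neg]

theorem at_inf (h2k : (2 : k) = 0) (hdeg : Module.finrank (RatFunc k) K = 2)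
    (hy : y ∉ Set.range jj) (heq : y ^ 2 + y = jj f) (hd : ∀ α ∈ B, Odd (d α))
    (hpole : ∀ (p : Place k (RatFunc k)) (α : k), α ∈ B →
      p.1 ((RatFunc.X : RatFunc k) - RatFunc.C α) < 1 → p.ord f = -(d α : ℤ))
    (hint : ∀ p : Place k (RatFunc k),
      (∀ α ∈ B, 1 ≤ p.1 ((RatFunc.X : RatFunc k) - RatFunc.C α)) → p.1 f ≤ 1)
    {P : Place k K} {p : Place k (RatFunc k)} {e : ℕ} (he : IsOverWith P p e)
    (hX : 1 < p.1 (RatFunc.X : RatFunc k)) :
    e = 1 ∧ P.1 y ≤ 1 ∧ ∀ α : k, P.ord (jj RatFunc.X - algebraMap k K α) = -1 := by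
  have hf := val_f_inf_le_one p hint hX
  have he1 := (ramIdx_cases h2k hdeg he hy heq (fun h => odd_of p hd hpole hint h)).2 hf
  subst he1
  refine ⟨rfl, val_y_le_one he heq hf, fun α => ?_⟩
  have : P.1 (jj RatFunc.X - algebraMap k K α) = exp (1 : ℤ) := by
    rw [val_x_sub he, val_XC_inf p hX, pow_one]
  rw [ord_of_val P this]

theorem at_other (heq : y ^ 2 + y = jj f)
    (hint : ∀ p : Place k (RatFunc k),
      (∀ α ∈ B, 1 ≤ p.1 ((RatFunc.X : RatFunc k) - RatFunc.C α)) → p.1 f ≤ 1)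
    {P : Place k K} {p : Place k (RatFunc k)} {e : ℕ} (he : IsOverWith P p e)
    (hX : p.1 (RatFunc.X : RatFunc k) ≤ 1)
    (h : ∀ β ∈ B, 1 ≤ p.1 (RatFunc.X - RatFunc.C β)) :
    P.1 y ≤ 1 ∧ ∀ α ∈ B, P.1 (jj RatFunc.X - algebraMap k K α) = 1 := by
  refine ⟨val_y_le_one he heq (hint p h), fun α hα => ?_⟩
  rw [val_x_sub he, le_antisymm (val_XC_le_one p hX α) (h α hα), one_pow]

end Poles

end Groth.Agent.Lib.Helper27.ASD
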