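import Mathlib
import Groth.Agent.Lib.Helper27.ASD5
import Groth.Agent.Lib.Helper23.TateW4

/-! Artin–Schreier curves `y² + y = f` over an algebraically closed field of characteristic `2`:
the residue pairing between the repartitions `y (x-α)^j` at `P_α` and the regular differentials,
and the resulting basis of `A / (A(0) + K)`. -/

set_option autoImplicit false

namespace Groth.Agent.Lib.Helper27.ASD
open FunFld WithZero Polynomial LaurentSeries

universe u v w

theorem neg_log_nonneg {v : WithZero (Multiplicative ℤ)} (h : v ≤ 1) : 0 ≤ -log v := by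
  rcases eq_or_ne v 0 with rfl | h0
  · simp
  · rw [← exp_log h0, ← exp_zero, exp_le_exp] at h
    omega

section Laurent
variable {F : Type w} [Field F]

theorem coeff_neg_one_eq_zero {f : F⸨X⸩} (h : Valued.v f ≤ 1) : f.coeff (-1) = 0 := by
  have := LR.res_eq_zero_of_val_le_one h
  rwa [LocRes.res_apply] at this

theorem coeff_neg_one_ne_zero {f : F⸨X⸩} (h : Valued.v f = exp 1) : f.coeff (-1) ≠ 0 := by
  have h' : Valued.v f = exp (-(-1 : ℤ)) := by
    rw [h]
    norm_num
  exact (LR.val_eq_exp_iff.mp h').2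

end Laurent

section Pord
variable {k : Type u} [Field k] {B : Finset k} {d : k → ℕ}

theorem val_X_le_one_of_XC (p : Place k (RatFunc k)) {α : k}
    (h : p.1 (RatFunc.X - RatFunc.C α) < 1) : p.1 (RatFunc.X : RatFunc k) ≤ 1 := by
  rw [X_sub_C_eq] at h
  exact Rat.val_X_le_one_of_poly_lt p (X_sub_C_ne_zero α) h

theorem owner_mem (i : Idx B d) : owner B d i ∈ B := by
  rcases i with a | b
  · exact a.1.1.2
  · exact b.1.2

open Classical in
/-- pole order of the family member `m` at `x = α` -/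
noncomputable def pord (m : Idx B d) (α : k) : ℕ :=
  if owner B d m = α then lvl B d m else if α = 0 ∧ m.isRight = true then 1 else 0

theorem pord_self (i : Idx B d) : pord i (owner B d i) = lvl B d i := by
  unfold pord
  rw [if_pos rfl]

theorem pord_lt_of_owner_ne (i m : Idx B d) (h : owner B d m ≠ owner B d i) :
    pord m (owner B d i) < lvl B d i := by
  unfold pord
  rw [if_neg h]
  split_ifs with h2
  · rcases i with ⟨⟨⟨α, hα⟩, j⟩, hj⟩ | ⟨⟨β, hβ⟩, hβ0⟩
    · have hj1 : 1 ≤ j := hj.1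
      dsimp only [lvl, Sum.elim_inl]
      omega
    · exfalso
      exact hβ0 h2.1
  · exact lvl_pos i

theorem val_fam_at (p : Place k (RatFunc k)) (m : Idx B d) {α : k}
    (h : p.1 (RatFunc.X - RatFunc.C α) < 1) :
    p.1 (fam B d m) = exp ((pord m α : ℕ) : ℤ) := by
  unfold pord
  by_cases hm : owner B d m = α
  · rw [if_pos hm]
    subst hm
    exact val_fam_owner p m h
  · rw [if_neg hm]
    by_cases hα : α = 0
    · subst hα
      rcases m with a | b
      · rw [if_neg (by simp)]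
        dsimp only [owner, fam, Sum.elim_inl] at hm ⊢
        rw [map_pow, map_inv₀, val_XC_of_ne p h hm, inv_one, one_pow]
        simp
      · rw [if_pos ⟨rfl, rfl⟩]
        dsimp only [fam, Sum.elim_inr]
        have h2 := val_XC_eq p h
        rw [map_zero, sub_zero] at h2
        rw [map_div₀, map_mul, val_C p b.2, h2, val_XC_of_ne p h b.2, mul_one, one_div,
          ← exp_neg, neg_neg]
        simp
    · rw [if_neg (fun h' => hα h'.1)]
      rw [val_fam_other p h hα m hm]
      simp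

end Pord

section Pair
variable {k : Type u} {K : Type v} {F : Type w} [Field k] [Field K] [Field F] [Algebra k K]
  [Algebra (RatFunc k) K] [IsScalarTower k (RatFunc k) K] [Algebra k F]
  {B : Finset k} {d : k → ℕ} {f : RatFunc k} {y : K}

local notation "jj" => algebraMap (RatFunc k) K
local notation "ι" => algebraMap k[X] (RatFunc k)

/-- the element `y (x-α)^j` resp. `y` attached to an index -/
noncomputable def hfun (y : K) : Idx B d → K :=
  Sum.elim (fun a => y * (jj RatFunc.X - algebraMap k K (a.1.1 : k)) ^ a.1.2) (fun _ => y)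

theorem hfun_eq (y : K) (i : Idx B d) :
    hfun y i = y * (jj RatFunc.X - algebraMap k K (owner B d i)) ^ (lvl B d i - 1) := by
  rcases i with a | b
  · show y * _ ^ a.1.2 = y * _ ^ (a.1.2 + 1 - 1)
    rw [Nat.add_sub_cancel]
    rfl
  · show y = y * _ ^ (1 - 1)
    rw [Nat.sub_self, pow_zero, mul_one]

theorem pair_val [PerfectField k] (h2k : (2 : k) = 0) (hdeg : Module.finrank (RatFunc k) K = 2)
    (hy : y ∉ Set.range jj) (heq : y ^ 2 + y = jj f) (hd : ∀ α ∈ B, Odd (d α))
    (hpole : ∀ (p : Place k (RatFunc k)) (α : k), α ∈ B →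
      p.1 ((RatFunc.X : RatFunc k) - RatFunc.C α) < 1 → p.ord f = -(d α : ℤ))
    (hint : ∀ p : Place k (RatFunc k),
      (∀ α ∈ B, 1 ≤ p.1 ((RatFunc.X : RatFunc k) - RatFunc.C α)) → p.1 f ≤ 1)
    {P : Place k K} {ψ : K →ₐ[k] F⸨X⸩} (hψ : LocRes.IsExpansionAt P.1 ψ) (i m : Idx B d)
    (hP : P.1 (jj RatFunc.X - algebraMap k K (owner B d i)) < 1) :
    LocRes.vDiff ψ (hfun y i * jj (fam B d m)) (jj RatFunc.X) =
      exp (2 * ((pord m (owner B d i) : ℕ) : ℤ) - (2 * ((lvl B d i : ℕ) : ℤ) - 1)) := by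
  haveI : FiniteDimensional (RatFunc k) K := Module.finite_of_finrank_pos (by omega)
  have hK₀ := Rat.isFunctionField_ratFunc k
  obtain ⟨p, e, he⟩ := FF.exists_isOverWith hK₀ P
  obtain ⟨α, hα⟩ : ∃ α : k, α = owner B d i := ⟨_, rfl⟩
  rw [← hα] at hP ⊢
  have hαB : α ∈ B := hα ▸ owner_mem i
  have hp : p.1 (RatFunc.X - RatFunc.C α) < 1 := by
    rw [x_sub_eq] at hP
    exact (FF.isOverWith_val_lt_one_iff he _).mp hP
  obtain ⟨he2, hoy, hou⟩ := at_pole h2k hdeg hy heq hd hpole hint he hαB hp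
  subst he2
  have hy0 : y ≠ 0 := by
    rintro rfl
    exact hy ⟨0, map_zero _⟩
  have hPy : P.1 y = exp (d α : ℤ) := by rw [FF.val_eq_exp_neg_ord P hy0, hoy, neg_neg]
  have hPu : P.1 (jj RatFunc.X - algebraMap k K α) = exp (-2) := by
    rw [FF.val_eq_exp_neg_ord P (x_sub_ne_zero α), hou]
  have hpX : p.1 (RatFunc.X : RatFunc k) ≤ 1 := val_X_le_one_of_XC p hp
  have hD := val_D_finite h2k hdeg he hψ hy heq (fun h => odd_of p hd hpole hint h) hpX
    (qB_ne_zero B d) (hq_of p hd hpole hint hpX)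
  have hPq : P.1 (jj (ι (qB B d))) = exp (-((d α : ℤ) + 1)) := by
    rw [he _, val_qB_of_lt p B d hαB hp, ← exp_nsmul]
    congr 1
    obtain ⟨n, hn⟩ := hd α hαB
    simp only [nsmul_eq_mul]
    push_cast
    omega
  have hPz : P.1 (jj (fam B d m)) = exp (2 * ((pord m α : ℕ) : ℤ)) := by
    rw [he _, val_fam_at p m hp, ← exp_nsmul]
    congr 1
  rw [Hyper.vDiff_eq ψ hψ, hD, hPq, map_mul, hPz, hfun_eq, map_mul, map_pow, ← hα, hPy, hPu,
    ← exp_nsmul, ← exp_add, ← exp_add, ← exp_add]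
  congr 1
  have hl := lvl_pos i
  simp only [nsmul_eq_mul]
  push_cast [Nat.cast_sub hl]
  ring

end Pair

section Main
variable (k : Type u) (K : Type v) [Field k] [IsAlgClosed k] [CharP k 2] [Field K] [Algebra k K]
  [Algebra (RatFunc k) K] [IsScalarTower k (RatFunc k) K]

/-- the repartition attached to an index, as an adele -/
noncomputable def repA {k : Type u} {K : Type v} [Field k] [Field K] [Algebra k K]
    [Algebra (RatFunc k) K] {B : Finset k} {d : k → ℕ}
    (Pl : k → Place k K) (y : K) (i : Idx B d) : adele k K :=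
  Groth.Agent.Lib.Helper23.Tate.singleA (Pl (owner B d i)) (hfun y i)

theorem card_eq_genus (hK : IsFunctionField k K) (hdeg : Module.finrank (RatFunc k) K = 2)
    [Algebra.IsSeparable (RatFunc k) K]
    (y : K) (hy : y ∉ Set.range (algebraMap (RatFunc k) K)) (f : RatFunc k)
    (heq : y ^ 2 + y = algebraMap (RatFunc k) K f)
    (B : Finset k) (h0 : (0 : k) ∈ B) (d : k → ℕ) (hd : ∀ β ∈ B, Odd (d β))
    (hpole : ∀ (p : Place k (RatFunc k)) (β : k), β ∈ B →
      p.1 ((RatFunc.X : RatFunc k) - RatFunc.C β) < 1 → p.ord f = -(d β : ℤ))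
    (hint : ∀ p : Place k (RatFunc k),
      (∀ β ∈ B, 1 ≤ p.1 ((RatFunc.X : RatFunc k) - RatFunc.C β)) → p.1 f ≤ 1)
    (Φ : Place k K → (K →ₐ[k] LaurentSeries k))
    (hΦ : ∀ P : Place k K, LocRes.IsExpansionAt P.1 (Φ P)) :
    Nat.card (Idx B d) = genus k K := by
  have h2k : (2 : k) = 0 := CharTwo.two_eq_zero
  obtain ⟨pinf, hpinf⟩ := Hyper.exists_inf (k := k)
  have hfinf : pinf.1 f ≤ 1 := val_f_inf_le_one pinf hint hpinf
  obtain ⟨W, hcan, hLW, hgen, hreg⟩ := as_core k K hK hdeg h2k y hy f heq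
    (fun p => odd_of p hd hpole hint) (qB B d) (qB_ne_zero B d)
    (fun p hX => hq_of p hd hpole hint hX) (fun _ => k) Φ hΦ pinf hpinf 0
    (by rw [if_neg (not_lt.mpr hfinf)])
  rw [card_idx h0 hd]
  omega

theorem key_indep (hK : IsFunctionField k K) (hdeg : Module.finrank (RatFunc k) K = 2)
    [Algebra.IsSeparable (RatFunc k) K]
    (y : K) (hy : y ∉ Set.range (algebraMap (RatFunc k) K)) (f : RatFunc k)
    (heq : y ^ 2 + y = algebraMap (RatFunc k) K f)
    (B : Finset k) (h0 : (0 : k) ∈ B) (d : k → ℕ) (hd : ∀ β ∈ B, Odd (d β))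
    (hpole : ∀ (p : Place k (RatFunc k)) (β : k), β ∈ B →
      p.1 ((RatFunc.X : RatFunc k) - RatFunc.C β) < 1 → p.ord f = -(d β : ℤ))
    (hint : ∀ p : Place k (RatFunc k),
      (∀ β ∈ B, 1 ≤ p.1 ((RatFunc.X : RatFunc k) - RatFunc.C β)) → p.1 f ≤ 1)
    (Pl : k → Place k K)
    (hPl : ∀ β ∈ B, (Pl β).1 ((algebraMap (RatFunc k) K RatFunc.X) - (algebraMap k K β)) < 1)
    (Φ : Place k K → (K →ₐ[k] LaurentSeries k))
    (hΦ : ∀ P : Place k K, LocRes.IsExpansionAt P.1 (Φ P))
    (s : Finset (Idx B d)) (g : Idx B d → k)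
    (hmem : (∑ i ∈ s, g i • ((repA Pl y i : adele k K) : Place k K → K)) ∈
      AD (0 : Divisor k K) ⊔ LinearMap.range (diag k K)) :
    ∀ i ∈ s, g i = 0 := by
  classical
  have h2k : (2 : k) = 0 := CharTwo.two_eq_zero
  haveI : FiniteDimensional (RatFunc k) K := Module.finite_of_finrank_pos (by omega)
  obtain ⟨h1, hDx⟩ := Hyper.kaehler_of_separable (k := k) (K := K)
  have C := FF.core_of hK
  have hne : ∀ P, ∃ y' : K, LocRes.locRes (Φ P) y' (algebraMap (RatFunc k) K RatFunc.X) ≠ 0 :=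
    fun P => Tate.exists_locRes_ne_zero' h1 (hΦ P) hDx
  obtain ⟨pinf, hpinf⟩ := Hyper.exists_inf (k := k)
  have hfinf : pinf.1 f ≤ 1 := val_f_inf_le_one pinf hint hpinf
  obtain ⟨W, hcan, hLW, hgen, hreg⟩ := as_core k K hK hdeg h2k y hy f heq
    (fun p => odd_of p hd hpole hint) (qB B d) (qB_ne_zero B d)
    (fun p hX => hq_of p hd hpole hint hX) (fun _ => k) Φ hΦ pinf hpinf 0
    (by rw [if_neg (not_lt.mpr hfinf)])
  by_contra hcon
  push Not at hcon
  obtain ⟨i₁, hi₁s, hi₁g⟩ := hcon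
  have hTne : (s.filter (fun i => g i ≠ 0 ∧ owner B d i = owner B d i₁)).Nonempty :=
    ⟨i₁, Finset.mem_filter.mpr ⟨hi₁s, hi₁g, rfl⟩⟩
  obtain ⟨i₀, hi₀, hmin⟩ := Finset.exists_min_image _ (fun i => lvl B d i) hTne
  obtain ⟨hi₀s, hi₀g, hi₀o⟩ := Finset.mem_filter.mp hi₀
  obtain ⟨z, hz⟩ : ∃ z : K, z = algebraMap (RatFunc k) K (fam B d i₀) := ⟨_, rfl⟩
  have hz0 : z ≠ 0 := by
    rw [hz]
    exact (_root_.map_ne_zero _).mpr ((fam_linearIndependent B d).ne_zero i₀)
  obtain ⟨-, -, hfin, hdiv⟩ := Groth.Agent.Lib.Helper23.Tate.weil_of_residues C (fun _ => k) Φ hΦ z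
    (algebraMap (RatFunc k) K RatFunc.X) hz0 hne
  have hω : Groth.Agent.Lib.Helper23.Tate.omegaRes C (fun _ => k) Φ hΦ z
      (algebraMap (RatFunc k) K RatFunc.X) ∈ WD (0 : Divisor k K) := by
    rw [hdiv (Finsupp.ofSupportFinite _ hfin) (fun P => rfl) 0]
    refine Finsupp.le_def.mpr (fun P => ?_)
    show (0 : ℤ) ≤ LocRes.ordDiff (Φ P) z (algebraMap (RatFunc k) K RatFunc.X)
    unfold LocRes.ordDiff
    rw [hz]
    exact neg_log_nonneg (hreg (fam B d i₀) (fun p hX => fam_mul_q_le_one p h0 hd hX i₀)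
      (fam_inf_le pinf hpinf i₀) P)
  have hA0 : (∑ i ∈ s, g i • repA Pl y i) ∈ ADK (0 : Divisor k K) := by
    show (adele k K).subtype (∑ i ∈ s, g i • repA Pl y i) ∈
      AD (0 : Divisor k K) ⊔ LinearMap.range (diag k K)
    rw [map_sum]
    simpa only [map_smul, Submodule.subtype_apply] using hmem
  have hωA := (Submodule.mem_dualAnnihilator _).mp hω _ hA0
  rw [map_sum] at hωA
  simp only [map_smul, smul_eq_mul, repA, Groth.Agent.Lib.Helper23.Tate.omegaRes_single,
    Groth.Agent.Lib.Helper23.Tate.rlin_apply] at hωA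
  have hM : ∀ i : Idx B d, LocRes.locRes (Φ (Pl (owner B d i))) (hfun y i * z)
      (algebraMap (RatFunc k) K RatFunc.X) =
      ((Φ (Pl (owner B d i))) (hfun y i * z) *
        LocRes.D k ((Φ (Pl (owner B d i))) (algebraMap (RatFunc k) K RatFunc.X))).coeff (-1) := by
    intro i
    unfold LocRes.locRes LocRes.resExp
    rw [Algebra.trace_self_apply, LocRes.res_apply]
  have hval : ∀ i : Idx B d, Valued.v ((Φ (Pl (owner B d i))) (hfun y i * z) *
        LocRes.D k ((Φ (Pl (owner B d i))) (algebraMap (RatFunc k) K RatFunc.X))) =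
      exp (2 * ((pord i₀ (owner B d i) : ℕ) : ℤ) - (2 * ((lvl B d i : ℕ) : ℤ) - 1)) := by
    intro i
    have := pair_val h2k hdeg hy heq hd hpole hint (hΦ (Pl (owner B d i))) i i₀
      (hPl _ (owner_mem i))
    unfold LocRes.vDiff at this
    rw [hz]
    exact this
  have hzero : ∀ i ∈ s, i ≠ i₀ → g i * LocRes.locRes (Φ (Pl (owner B d i))) (hfun y i * z)
      (algebraMap (RatFunc k) K RatFunc.X) = 0 := by
    intro i his hne0
    by_cases hg : g i = 0
    · rw [hg, zero_mul]
    · have hlt : pord i₀ (owner B d i) < lvl B d i := by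
        by_cases ho : owner B d i₀ = owner B d i
        · rw [← ho, pord_self]
          have hmem' : i ∈ s.filter (fun i => g i ≠ 0 ∧ owner B d i = owner B d i₁) :=
            Finset.mem_filter.mpr ⟨his, hg, ho.symm.trans hi₀o⟩
          have hle := hmin i hmem'
          exact lt_of_le_of_ne hle (fun h => hne0 (idx_ext ho.symm h.symm))
        · exact pord_lt_of_owner_ne i i₀ ho
      rw [hM, coeff_neg_one_eq_zero, mul_zero]
      rw [hval i, ← exp_zero, exp_le_exp]
      omega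
  rw [Finset.sum_eq_single i₀ hzero (fun h => absurd hi₀s h)] at hωA
  have hM0 : LocRes.locRes (Φ (Pl (owner B d i₀))) (hfun y i₀ * z)
      (algebraMap (RatFunc k) K RatFunc.X) ≠ 0 := by
    rw [hM]
    apply coeff_neg_one_ne_zero
    rw [hval i₀, pord_self]
    congr 1
    ring
  exact (mul_ne_zero hi₀g hM0) hωA

end Main

end Groth.Agent.Lib.Helper27.ASD
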