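import Groth.Agent.Lib.Helper27.FunFld12

/-! Function fields of one variable (helper27), part 13: genus one, Weierstrass form. -/

set_option autoImplicit false

namespace Groth.Agent.Lib.Helper27.FF

open FunFld Polynomial IntermediateField

universe u v

variable {k : Type u} {K : Type v} [Field k] [Field K] [Algebra k K]

/-- At a place of degree one, every integral element is congruent to a constant. -/
theorem exists_const_sub_lt (P : Place k K) (hdeg : P.deg = 1) {r : K} (hr : P.1 r ≤ 1) :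
    ∃ c : k, P.1 (r - algebraMap k K c) < 1 := by
  have h1 : Module.finrank k (IsLocalRing.ResidueField P.O) = 1 := hdeg
  obtain ⟨c, hc⟩ := (finrank_eq_one_iff_of_nonzero' (1 : IsLocalRing.ResidueField P.O)
    one_ne_zero).mp h1 (IsLocalRing.residue P.O ⟨r, hr⟩)
  refine ⟨c, ?_⟩
  have h2 : IsLocalRing.residue P.O (⟨r, hr⟩ - algebraMap k P.O c) = 0 := by
    have h3 : c • (1 : IsLocalRing.ResidueField P.O) =
        IsLocalRing.residue P.O (algebraMap k P.O c) :=
      (Algebra.algebraMap_eq_smul_one c).symm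
    rw [map_sub, ← hc]
    exact sub_eq_zero.mpr h3
  have := (Groth.Agent.Lib.Helper23.FF.residue_eq_zero_iff P _).mp h2
  exact this

theorem mul_mem_L_add {D₁ D₂ : Divisor k K} {a b : K} (ha : a ∈ L D₁) (hb : b ∈ L D₂) :
    a * b ∈ L (D₁ + D₂) := by
  intro P
  rw [map_mul, Finsupp.add_apply, WithZero.exp_add]
  exact mul_le_mul' (ha P) (hb P)

/-- Reduction step: subtract a multiple of an element of exact pole order `n`. -/
theorem exists_sub_smul_mem_L (P₀ : Place k K) (hdeg : P₀.deg = 1) (n : ℤ) {u w : K}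
    (hu : P₀.1 u = WithZero.exp n) (hu' : u ∈ L (Finsupp.single P₀ n : Divisor k K))
    (hw : w ∈ L (Finsupp.single P₀ n : Divisor k K)) :
    ∃ c : k, w - c • u ∈ L (Finsupp.single P₀ (n - 1) : Divisor k K) := by
  have hu0 : u ≠ 0 := by
    rintro rfl
    rw [map_zero] at hu
    exact WithZero.exp_ne_zero hu.symm
  have hr : P₀.1 (w / u) ≤ 1 := by
    rw [map_div₀, hu]
    have := hw P₀
    rw [Finsupp.single_eq_same] at this
    exact div_le_one_of_le₀ this zero_le
  obtain ⟨c, hc⟩ := exists_const_sub_lt P₀ hdeg hr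
  refine ⟨c, ?_⟩
  intro Q
  by_cases hQ : Q = P₀
  · subst hQ
    rw [Finsupp.single_eq_same]
    have h1 : w - c • u = u * (w / u - algebraMap k K c) := by
      rw [Algebra.smul_def]; field_simp
    rw [h1, map_mul, hu]
    have h2 : Q.1 (w / u - algebraMap k K c) ≤ WithZero.exp (-1 : ℤ) := by
      by_cases h0 : w / u - algebraMap k K c = 0
      · rw [h0, map_zero]; exact zero_le
      · rw [val_le_exp_iff Q h0]
        have := (val_lt_one_iff Q h0).mp hc
        linarith
    calc WithZero.exp n * Q.1 (w / u - algebraMap k K c)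
        ≤ WithZero.exp n * WithZero.exp (-1 : ℤ) := mul_le_mul' le_rfl h2
      _ = WithZero.exp (n - 1) := by rw [← WithZero.exp_add]; rfl
  · rw [Finsupp.single_eq_of_ne hQ]
    have h1 := hw Q
    have h2 := hu' Q
    rw [Finsupp.single_eq_of_ne hQ] at h1 h2
    exact (Q.1.map_sub _ _).trans (max_le h1 ((val_smul_le Q c u).trans h2))

/-- An element of `L(nP₀) \ L((n-1)P₀)` has pole order exactly `n` at `P₀`. -/
theorem val_eq_of_mem_L_not_mem_L (P₀ : Place k K) (n : ℤ) {x : K}
    (hx : x ∈ L (Finsupp.single P₀ n : Divisor k K))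
    (hx' : x ∉ L (Finsupp.single P₀ (n - 1) : Divisor k K)) : P₀.1 x = WithZero.exp n := by
  have hx0 : x ≠ 0 := by
    rintro rfl
    exact hx' (Submodule.zero_mem _)
  have h1 := hx P₀
  rw [Finsupp.single_eq_same] at h1
  have h2 : ¬ P₀.1 x ≤ WithZero.exp (n - 1) := by
    intro h
    apply hx'
    intro Q
    by_cases hQ : Q = P₀
    · subst hQ; rw [Finsupp.single_eq_same]; exact h
    · have := hx Q
      rw [Finsupp.single_eq_of_ne hQ] at this ⊢
      exact this
  rw [val_le_exp_iff P₀ hx0] at h1 h2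
  rw [val_eq_exp_neg_ord P₀ hx0]
  congr 1
  omega

/-- pole divisor of an element with a single pole. -/
theorem poleDiv_eq_single' (hK : IsFunctionField k K) {x : K} {P : Place k K} {n : ℤ} (hn : 0 ≤ n)
    (hP : P.ord x = -n) (hQ : ∀ Q : Place k K, Q ≠ P → 0 ≤ Q.ord x) :
    poleDiv k x = Finsupp.single P n := by
  ext Q
  rw [poleDiv_apply hK]
  by_cases h : Q = P
  · subst h
    rw [hP, Finsupp.single_eq_same, neg_neg]; exact max_eq_left hn
  · rw [Finsupp.single_eq_of_ne h]
    have := hQ Q h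
    exact max_eq_right (by linarith)

/-- `[K : k(x)] = n` if `x` has a single pole, of order `n ≥ 1`, at a place of degree one. -/
theorem finrank_adjoin_of_single_pole (hK : IsFunctionField k K) {x : K} {P : Place k K}
    (hdeg : P.deg = 1) {n : ℕ} (hn : 1 ≤ n) (hP : P.1 x = WithZero.exp (n : ℤ))
    (hx : x ∈ L (Finsupp.single P (n : ℤ) : Divisor k K)) :
    Module.finrank k⟮x⟯ K = n := by
  have hx0 : x ≠ 0 := by
    rintro rfl
    rw [map_zero] at hP
    exact WithZero.exp_ne_zero hP.symm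
  have hord : P.ord x = -(n : ℤ) := by
    rw [ord_eq_iff P hx0, neg_neg, hP]
  have hQ : ∀ Q : Place k K, Q ≠ P → 0 ≤ Q.ord x := by
    intro Q hQ
    have := hx Q
    rw [Finsupp.single_eq_of_ne hQ, val_le_exp_iff Q hx0] at this
    linarith
  have hxt : Transcendental k x := transcendental_of_ord_ne_zero hK (P := P)
    (by rw [hord]; omega)
  have h1 := deg_poleDiv_eq hK hxt
  rw [poleDiv_eq_single' hK (Int.natCast_nonneg n) hord hQ, deg_single, hdeg] at h1
  have : ((Module.finrank k⟮x⟯ K : ℕ) : ℤ) = n := by rw [← h1]; simp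
  exact_mod_cast this

theorem single_add_single (P : Place k K) (a b : ℤ) :
    (Finsupp.single P a + Finsupp.single P b : Divisor k K) = Finsupp.single P (a + b) :=
  (Finsupp.single_add P a b).symm

/-- S10998: Weierstrass form of a genus one function field with a rational point. -/
theorem genus_one_weierstrass_form (hK : IsFunctionField k K) (hg : genus k K = 1)
    (P₀ : Place k K) (hP : P₀.deg = 1) :
    ∃ x y : K, x ∈ L (Finsupp.single P₀ 2 : Divisor k K) ∧
      y ∈ L (Finsupp.single P₀ 3 : Divisor k K) ∧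
      P₀.ord x = -2 ∧ P₀.ord y = -3 ∧
      IntermediateField.adjoin k ({x, y} : Set K) = ⊤ ∧
      ∃ f g : Polynomial k, f.natDegree ≤ 1 ∧ g.natDegree = 3 ∧
        y ^ 2 + Polynomial.aeval x f * y + Polynomial.aeval x g = 0 := by
  -- dimensions
  have hell : ∀ n : ℕ, 1 ≤ n → ell (Finsupp.single P₀ (n : ℤ) : Divisor k K) = n := by
    intro n hn
    have h1 := (core_of hK).ell_eq_of_deg_ge (D := (Finsupp.single P₀ (n : ℤ) : Divisor k K))
      (by rw [deg_single, hP, hg]; push_cast; have : (1 : ℤ) ≤ n := by exact_mod_cast hn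
          linarith)
    rw [deg_single, hP, hg] at h1
    have : (ell (Finsupp.single P₀ (n : ℤ) : Divisor k K) : ℤ) = n := by rw [h1]; push_cast; ring
    exact_mod_cast this
  have hL1 : L (Finsupp.single P₀ 1 : Divisor k K) = L 0 := by
    have hle : L (0 : Divisor k K) ≤ L (Finsupp.single P₀ 1 : Divisor k K) :=
      L_mono (by
        intro Q
        by_cases hQ : Q = P₀
        · subst hQ; rw [Finsupp.single_eq_same]; exact zero_le_one
        · rw [Finsupp.single_eq_of_ne hQ]; simp)
    have hfd := finiteDimensional_L hK (Finsupp.single P₀ 1 : Divisor k K)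
    symm
    apply Submodule.eq_of_le_of_finrank_eq hle
    have := hell 1 le_rfl
    have h0 := ell_zero' hK (k := k) (K := K)
    unfold ell at this h0
    rw [h0]; exact_mod_cast this.symm
  obtain ⟨x, hx2, hx1⟩ := exists_mem_L_not_mem_L hK (D₁ := Finsupp.single P₀ ((1 : ℕ) : ℤ))
    (D₂ := Finsupp.single P₀ ((2 : ℕ) : ℤ)) (by rw [hell 1 le_rfl, hell 2 (by norm_num)]; norm_num)
  obtain ⟨y, hy3, hy2⟩ := exists_mem_L_not_mem_L hK (D₁ := Finsupp.single P₀ ((2 : ℕ) : ℤ))
    (D₂ := Finsupp.single P₀ ((3 : ℕ) : ℤ)) (by rw [hell 2 (by norm_num), hell 3 (by norm_num)]; norm_num)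
  have hvx : P₀.1 x = WithZero.exp (2 : ℤ) := val_eq_of_mem_L_not_mem_L P₀ 2 hx2 hx1
  have hvy : P₀.1 y = WithZero.exp (3 : ℤ) := val_eq_of_mem_L_not_mem_L P₀ 3 hy3 hy2
  have hx0 : x ≠ 0 := by
    rintro rfl; rw [map_zero] at hvx; exact WithZero.exp_ne_zero hvx.symm
  have hy0 : y ≠ 0 := by
    rintro rfl; rw [map_zero] at hvy; exact WithZero.exp_ne_zero hvy.symm
  have hx2' : x ∈ L (Finsupp.single P₀ 2 : Divisor k K) := hx2
  have hy3' : y ∈ L (Finsupp.single P₀ 3 : Divisor k K) := hy3
  refine ⟨x, y, hx2, hy3, ?_, ?_, ?_, ?_⟩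
  · rw [ord_eq_iff P₀ hx0, hvx]; rfl
  · rw [ord_eq_iff P₀ hy0, hvy]; rfl
  · -- degrees
    have hfx : Module.finrank k⟮x⟯ K = 2 :=
      finrank_adjoin_of_single_pole hK hP (n := 2) (by norm_num) hvx hx2
    have hfy : Module.finrank k⟮y⟯ K = 3 :=
      finrank_adjoin_of_single_pole hK hP (n := 3) (by norm_num) hvy hy3
    have hlex : k⟮x⟯ ≤ IntermediateField.adjoin k ({x, y} : Set K) :=
      IntermediateField.adjoin.mono _ _ _ (by intro z hz; rw [Set.mem_singleton_iff] at hz; subst hz; simp)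
    have hley : k⟮y⟯ ≤ IntermediateField.adjoin k ({x, y} : Set K) :=
      IntermediateField.adjoin.mono _ _ _ (by intro z hz; rw [Set.mem_singleton_iff] at hz; subst hz; simp)
    have h1 := IntermediateField.relfinrank_mul_finrank_top hlex (E := K)
    have h2 := IntermediateField.relfinrank_mul_finrank_top hley (E := K)
    rw [hfx] at h1
    rw [hfy] at h2
    have hd2 : Module.finrank (IntermediateField.adjoin k ({x, y} : Set K)) K ∣ 2 :=
      Dvd.intro_left _ h1
    have hd3 : Module.finrank (IntermediateField.adjoin k ({x, y} : Set K)) K ∣ 3 :=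
      Dvd.intro_left _ h2
    have hd1 : Module.finrank (IntermediateField.adjoin k ({x, y} : Set K)) K ∣ 1 := by
      have := Nat.dvd_sub hd3 hd2
      simpa using this
    rw [← IntermediateField.finrank_eq_one_iff_eq_top]
    exact Nat.dvd_one.mp hd1
  · -- the relation
    have hx4 : x ^ 2 ∈ L (Finsupp.single P₀ 4 : Divisor k K) := by
      have := mul_mem_L_add hx2' hx2'
      rw [single_add_single, ← pow_two] at this
      exact this
    have hx6 : x ^ 3 ∈ L (Finsupp.single P₀ 6 : Divisor k K) := by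
      have := mul_mem_L_add hx4 hx2'
      rw [single_add_single, ← pow_succ] at this
      exact this
    have hxy5 : x * y ∈ L (Finsupp.single P₀ 5 : Divisor k K) := by
      have := mul_mem_L_add hx2' hy3'
      rw [single_add_single] at this
      exact this
    have hy6 : y ^ 2 ∈ L (Finsupp.single P₀ 6 : Divisor k K) := by
      have := mul_mem_L_add hy3' hy3'
      rw [single_add_single, ← pow_two] at this
      exact this
    have hvx4 : P₀.1 (x ^ 2) = WithZero.exp (4 : ℤ) := by
      rw [map_pow, hvx, ← WithZero.exp_nsmul]; rfl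
    have hvx6 : P₀.1 (x ^ 3) = WithZero.exp (6 : ℤ) := by
      rw [map_pow, hvx, ← WithZero.exp_nsmul]; rfl
    have hvxy : P₀.1 (x * y) = WithZero.exp (5 : ℤ) := by
      rw [map_mul, hvx, hvy, ← WithZero.exp_add]; rfl
    have hvy6 : P₀.1 (y ^ 2) = WithZero.exp (6 : ℤ) := by
      rw [map_pow, hvy, ← WithZero.exp_nsmul]; rfl
    obtain ⟨c, hc⟩ := exists_sub_smul_mem_L P₀ hP 6 hvx6 hx6 hy6
    obtain ⟨c₁, hc₁⟩ := exists_sub_smul_mem_L P₀ hP 5 hvxy hxy5 hc
    obtain ⟨c₂, hc₂⟩ := exists_sub_smul_mem_L P₀ hP 4 hvx4 hx4 hc₁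
    obtain ⟨c₃, hc₃⟩ := exists_sub_smul_mem_L P₀ hP 3 hvy hy3' hc₂
    obtain ⟨c₄, hc₄⟩ := exists_sub_smul_mem_L P₀ hP 2 hvx hx2' hc₃
    have hc₄' : y ^ 2 - c • x ^ 3 - c₁ • (x * y) - c₂ • x ^ 2 - c₃ • y - c₄ • x ∈
        L (Finsupp.single P₀ 1 : Divisor k K) := hc₄
    rw [hL1, L_zero hK, Submodule.mem_one] at hc₄'
    obtain ⟨c₅, hc₅⟩ := hc₄'
    have hcne : c ≠ 0 := by
      rintro rfl
      rw [zero_smul, sub_zero] at hc
      have := hc P₀
      rw [Finsupp.single_eq_same, hvy6, WithZero.exp_le_exp] at this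
      norm_num at this
    refine ⟨-(C c₁ * X + C c₃), -(C c * X ^ 3 + C c₂ * X ^ 2 + C c₄ * X + C c₅), ?_, ?_, ?_⟩
    · rw [natDegree_neg]; exact natDegree_linear_le
    · rw [natDegree_neg]; exact natDegree_cubic hcne
    · simp only [map_neg, map_add, map_mul, map_pow, aeval_C, aeval_X]
      simp only [Algebra.smul_def] at hc₅
      linear_combination (-1 : K) * hc₅

end Groth.Agent.Lib.Helper27.FF
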