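import Mathlib
import Groth.Agent.Lib.Helper27.ASD5
import Groth.Agent.Lib.Helper27.FunFld13
import Groth.Agent.Lib.Helper23.FFAC
import Groth.Agent.Lib.Helper27.FFExt3

/-! Artin–Schreier curves: repartitions supported at a ramified place with value in `k(x)` lie in
`A(0) + K` (principal parts in `k(x)`). -/

set_option autoImplicit false

namespace Groth.Agent.Lib.Helper27.ASD
open FunFld WithZero Polynomial

universe u v

section PP
variable {k : Type u} [Field k]

theorem le_exp_neg_one_of_lt_one {v : WithZero (Multiplicative ℤ)} (h : v < 1) : v ≤ exp (-1) := by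
  rcases eq_or_ne v 0 with h0 | h0
  · rw [h0]
    exact zero_le
  · obtain ⟨m, hm⟩ : ∃ m : ℤ, v = exp m := ⟨_, (exp_log h0).symm⟩
    rw [hm] at h ⊢
    rw [← exp_zero, exp_lt_exp] at h
    rw [exp_le_exp]
    omega

/-- principal parts at a rational point of `k(x)` -/
theorem principal_part (p : Place k (RatFunc k)) (hdeg : p.deg = 1) (α : k)
    (hp : p.1 (RatFunc.X - RatFunc.C α) < 1) :
    ∀ (n : ℕ) (r : RatFunc k), p.1 r ≤ exp (n : ℤ) →
      ∃ h₀ : RatFunc k, p.1 (r - h₀) ≤ 1 ∧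
        ∀ p' : Place k (RatFunc k), 1 ≤ p'.1 (RatFunc.X - RatFunc.C α) → p'.1 h₀ ≤ 1 := by
  intro n
  induction n with
  | zero =>
    intro r hr
    refine ⟨0, ?_, fun p' _ => by rw [map_zero]; exact zero_le_one⟩
    rw [sub_zero]
    simpa using hr
  | succ n ih =>
    intro r hr
    obtain ⟨t, ht⟩ : ∃ t : RatFunc k, t = RatFunc.X - RatFunc.C α := ⟨_, rfl⟩
    have hpt : p.1 t = exp (-1) := by
      rw [ht]
      exact val_XC_eq p hp
    have ht0 : t ≠ 0 := by
      intro h
      rw [h, map_zero] at hpt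
      exact exp_ne_zero hpt.symm
    have hu : p.1 (r * t ^ (n + 1)) ≤ 1 := by
      rw [map_mul, map_pow, hpt, ← exp_nsmul]
      calc p.1 r * exp ((n + 1) • (-1 : ℤ))
          ≤ exp ((n + 1 : ℕ) : ℤ) * exp ((n + 1) • (-1 : ℤ)) := mul_le_mul' hr le_rfl
        _ = 1 := by
          rw [← exp_add, ← exp_zero]
          congr 1
          simp
    obtain ⟨c, hc⟩ := FF.exists_const_sub_lt p hdeg hu
    have hc' := le_exp_neg_one_of_lt_one hc
    have hr1 : p.1 (r - algebraMap k (RatFunc k) c * t⁻¹ ^ (n + 1)) ≤ exp (n : ℤ) := by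
      have e1 : r - algebraMap k (RatFunc k) c * t⁻¹ ^ (n + 1) =
          (r * t ^ (n + 1) - algebraMap k (RatFunc k) c) * t⁻¹ ^ (n + 1) := by
        rw [sub_mul, mul_assoc, ← mul_pow, mul_inv_cancel₀ ht0, one_pow, mul_one]
      rw [e1, map_mul, map_pow, map_inv₀, hpt, ← exp_neg, neg_neg, ← exp_nsmul]
      calc p.1 (r * t ^ (n + 1) - algebraMap k (RatFunc k) c) * exp ((n + 1) • (1 : ℤ))
          ≤ exp (-1) * exp ((n + 1) • (1 : ℤ)) := mul_le_mul' hc' le_rfl
        _ = exp (n : ℤ) := by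
          rw [← exp_add]
          congr 1
          simp only [nsmul_eq_mul]
          push_cast
          ring
    obtain ⟨h₁, hh1, hh2⟩ := ih _ hr1
    refine ⟨h₁ + algebraMap k (RatFunc k) c * t⁻¹ ^ (n + 1), ?_, ?_⟩
    · have : r - (h₁ + algebraMap k (RatFunc k) c * t⁻¹ ^ (n + 1)) =
          r - algebraMap k (RatFunc k) c * t⁻¹ ^ (n + 1) - h₁ := by ring
      rw [this]
      exact hh1
    · intro p' hp'
      refine (p'.1.map_add _ _).trans (max_le (hh2 p' hp') ?_)
      rw [map_mul, map_pow, map_inv₀]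
      have h3 : (p'.1 t)⁻¹ ≤ 1 := inv_le_one_of_one_le₀ (by rw [ht]; exact hp')
      exact mul_le_one' (p'.2.1 c) (pow_le_one' h3 _)

end PP

variable {k : Type u} {K : Type v} [Field k] [Field K] [Algebra k K]
  [Algebra (RatFunc k) K] [IsScalarTower k (RatFunc k) K]

local notation "jj" => algebraMap (RatFunc k) K

/-- a totally ramified place of a quadratic extension is the only place above its restriction -/
theorem place_unique_of_ramified [IsAlgClosed k] (hK : IsFunctionField k K)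
    (hdeg : Module.finrank (RatFunc k) K = 2)
    {P Q : Place k K} {p : Place k (RatFunc k)} (hP : IsOverWith P p 2) (hQ : IsOverWith Q p 2) :
    Q = P := by
  classical
  haveI : FiniteDimensional (RatFunc k) K := Module.finite_of_finrank_pos (by omega)
  by_contra hne
  have hK₀ := Rat.isFunctionField_ratFunc k
  obtain ⟨hfin, hsum⟩ := FF.sum_ramIdx_mul_deg (K' := K) hK₀ p
  have h1 := hsum hfin.toFinset (fun Q' => hfin.mem_toFinset)
  rw [hdeg, Groth.Agent.Lib.Helper23.FF.deg_eq_one hK₀ p] at h1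
  have hPm : P ∈ hfin.toFinset := hfin.mem_toFinset.mpr ⟨2, hP⟩
  have hQm : Q ∈ hfin.toFinset := hfin.mem_toFinset.mpr ⟨2, hQ⟩
  have hsub : ({P, Q} : Finset (Place k K)) ⊆ hfin.toFinset := by
    intro R hR
    rw [Finset.mem_insert, Finset.mem_singleton] at hR
    rcases hR with rfl | rfl <;> assumption
  have hPQ : P ≠ Q := fun h => hne h.symm
  have h2 : ramIdx P p * P.deg + ramIdx Q p * Q.deg ≤
      ∑ Q' ∈ hfin.toFinset, ramIdx Q' p * Q'.deg := by
    simpa only [Finset.sum_pair hPQ] using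
      Finset.sum_le_sum_of_subset (f := fun Q' => ramIdx Q' p * Q'.deg) hsub
  rw [FF.ramIdx_eq hP, FF.ramIdx_eq hQ, Groth.Agent.Lib.Helper23.FF.deg_eq_one hK P,
    Groth.Agent.Lib.Helper23.FF.deg_eq_one hK Q, h1] at h2
  omega

section Single
variable [IsAlgClosed k] {B : Finset k} {d : k → ℕ} {f : RatFunc k} {y : K}

theorem single_mem [DecidableEq (Place k K)] (h2k : (2 : k) = 0) (hK : IsFunctionField k K)
    (hdeg : Module.finrank (RatFunc k) K = 2)
    (hy : y ∉ Set.range jj) (heq : y ^ 2 + y = jj f) (hd : ∀ α ∈ B, Odd (d α))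
    (hpole : ∀ (p : Place k (RatFunc k)) (α : k), α ∈ B →
      p.1 ((RatFunc.X : RatFunc k) - RatFunc.C α) < 1 → p.ord f = -(d α : ℤ))
    (hint : ∀ p : Place k (RatFunc k),
      (∀ α ∈ B, 1 ≤ p.1 ((RatFunc.X : RatFunc k) - RatFunc.C α)) → p.1 f ≤ 1)
    {P : Place k K} {α : k} (hα : α ∈ B)
    (hP : P.1 (jj RatFunc.X - algebraMap k K α) < 1) (r : RatFunc k) :
    (Pi.single P (jj r) : Place k K → K) ∈
      AD (0 : Divisor k K) ⊔ LinearMap.range (diag k K) := by
  haveI : FiniteDimensional (RatFunc k) K := Module.finite_of_finrank_pos (by omega)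
  have hK₀ := Rat.isFunctionField_ratFunc k
  obtain ⟨p, e, he⟩ := FF.exists_isOverWith hK₀ P
  have hp : p.1 (RatFunc.X - RatFunc.C α) < 1 := by
    rw [x_sub_eq] at hP
    exact (FF.isOverWith_val_lt_one_iff he _).mp hP
  obtain ⟨he2, -, -⟩ := at_pole h2k hdeg hy heq hd hpole hint he hα hp
  subst he2
  have hpdeg := Groth.Agent.Lib.Helper23.FF.deg_eq_one hK₀ p
  obtain ⟨n, hn⟩ : ∃ n : ℕ, p.1 r ≤ exp (n : ℤ) := by
    rcases eq_or_ne (p.1 r) 0 with h0 | h0
    · exact ⟨0, by rw [h0]; exact zero_le⟩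
    · obtain ⟨m, hm⟩ : ∃ m : ℤ, p.1 r = exp m := ⟨_, (exp_log h0).symm⟩
      refine ⟨m.toNat, ?_⟩
      rw [hm, exp_le_exp]
      exact Int.self_le_toNat m
  obtain ⟨h₀, hh1, hh2⟩ := principal_part p hpdeg α hp n r hn
  have hA : (Pi.single P (jj r) - diag k K (jj h₀) : Place k K → K) ∈ AD (0 : Divisor k K) := by
    intro Q
    rw [Finsupp.zero_apply, exp_zero, Pi.sub_apply, FF.diag_apply]
    by_cases hQ : Q = P
    · subst hQ
      rw [Pi.single_eq_same, ← map_sub, he _]
      exact pow_le_one' hh1 2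
    · rw [Pi.single_eq_of_ne hQ, zero_sub, Valuation.map_neg]
      obtain ⟨p', e', he'⟩ := FF.exists_isOverWith hK₀ Q
      rw [he' _]
      apply pow_le_one'
      apply hh2
      by_contra hcon
      rw [not_le] at hcon
      have hpp : p' = p := by
        rw [X_sub_C_eq] at hcon hp
        exact ASN.finite_unique (irreducible_X_sub_C α) hp hcon
      subst hpp
      obtain ⟨he2', -, -⟩ := at_pole h2k hdeg hy heq hd hpole hint he' hα hp
      subst he2'
      exact hQ (place_unique_of_ramified hK hdeg he he')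
  have hD : (diag k K (jj h₀) : Place k K → K) ∈ LinearMap.range (diag k K) := ⟨_, rfl⟩
  have := Submodule.add_mem_sup hA hD
  rwa [sub_add_cancel] at this

end Single

end Groth.Agent.Lib.Helper27.ASD
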