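import Mathlib
import Groth.Agent.Lib.Helper27.ASN1

/-! Artin–Schreier normal form in characteristic `2`: the induction. -/

set_option autoImplicit false

namespace Groth.Agent.Lib.Helper27.ASN
open FunFld WithZero Polynomial

universe u
variable {k : Type u} [Field k]

/-- The places where `f` has a pole of even order. -/
def Bad (f : RatFunc k) : Set (Place k (RatFunc k)) := {P | P.ord f < 0 ∧ Even (P.ord f)}

theorem mem_bad {f : RatFunc k} {P : Place k (RatFunc k)} :
    P ∈ Bad f ↔ P.ord f < 0 ∧ Even (P.ord f) := Iff.rfl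

theorem bad_finite (f : RatFunc k) : (Bad f).Finite := by
  have C := FF.core_of (Rat.isFunctionField_ratFunc k)
  refine (C.finite_support f).subset (fun P hP => ?_)
  rw [Function.mem_support]
  show P.ord f ≠ 0
  have := (mem_bad.mp hP).1
  omega

theorem two_eq_zero (h2 : ringChar k = 2) : (2 : k) = 0 := by
  have h : ((2 : ℕ) : k) = 0 := by
    rw [← h2]
    exact ringChar.Nat.cast_ringChar
  exact_mod_cast h

variable [PerfectField k]

theorem step (h2 : ringChar k = 2) (P : Place k (RatFunc k)) (f : RatFunc k)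
    (hneg : P.ord f < 0) (hev : Even (P.ord f)) :
    ∃ g : RatFunc k, (∀ Q : Place k (RatFunc k), Q ≠ P → Q.1 g ≤ 1) ∧
      P.1 (f + g ^ 2 + g) < P.1 f := by
  have h20 := two_eq_zero h2
  have hf1 := one_lt_val_of_ord_neg P hneg
  have hf0 : f ≠ 0 := by
    rintro rfl
    rw [map_zero] at hf1
    exact absurd hf1 (not_lt.mpr zero_le_one)
  have hPf0 : P.1 f ≠ 0 := (_root_.map_ne_zero _).mpr hf0
  obtain ⟨r, hr⟩ := hev
  obtain ⟨n, hn⟩ : ∃ n : ℤ, P.1 f = exp n := ⟨_, (exp_log hPf0).symm⟩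
  have hord : P.ord f = -n := by
    unfold Place.ord
    rw [hn, log_exp]
  rw [hord] at hr hneg
  have hn2 : n = 2 * ((-r).toNat : ℤ) := by
    have : 0 ≤ -r := by omega
    rw [Int.toNat_of_nonneg this]
    omega
  have hm : 1 ≤ (-r).toNat := by omega
  have hfab := RatFunc.num_div_denom f
  have hf' : P.1 (algebraMap k[X] (RatFunc k) f.num / algebraMap k[X] (RatFunc k) f.denom) =
      exp (2 * ((-r).toNat : ℤ)) := by
    rw [hfab, hn, hn2]
  rcases le_or_gt (P.1 RatFunc.X) 1 with hX | hX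
  · obtain ⟨g, hg1, hg2⟩ := step_finite h20 P hX f.num f.denom (RatFunc.isCoprime_num_denom f)
      f.denom_ne_zero _ hm hf'
    rw [hfab] at hg2
    exact ⟨g, hg1, hg2⟩
  · obtain ⟨g, hg1, hg2⟩ := step_infinite h20 P hX f.num f.denom (RatFunc.num_ne_zero hf0)
      f.denom_ne_zero _ hm hf'
    rw [hfab] at hg2
    exact ⟨g, hg1, hg2⟩

theorem clean_place (h2 : ringChar k = 2) (P : Place k (RatFunc k)) :
    ∀ (n : ℕ) (f : RatFunc k), -P.ord f ≤ n →
      ∃ g : RatFunc k, (∀ Q : Place k (RatFunc k), Q ≠ P → Q.1 g ≤ 1) ∧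
        ¬ (P.ord (f + g ^ 2 + g) < 0 ∧ Even (P.ord (f + g ^ 2 + g))) := by
  have h20F : (2 : RatFunc k) = 0 := Rat.two_eq_zero_of_ringChar k h2
  intro n
  induction n with
  | zero =>
    intro f hf
    refine ⟨0, fun Q _ => by rw [map_zero]; exact zero_le_one, ?_⟩
    rintro ⟨h1, -⟩
    have : f + 0 ^ 2 + 0 = f := by ring
    rw [this] at h1
    push_cast at hf
    omega
  | succ n ih =>
    intro f hf
    by_cases hbad : P.ord f < 0 ∧ Even (P.ord f)
    · obtain ⟨g₁, hg₁, hlt⟩ := step h2 P f hbad.1 hbad.2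
      have hord := ord_lt_ord_of_val_lt P hlt hbad.1
      obtain ⟨g₂, hg₂, hnot⟩ := ih (f + g₁ ^ 2 + g₁) (by push_cast at hf; omega)
      refine ⟨g₁ + g₂, fun Q hQ => (Q.1.map_add _ _).trans (max_le (hg₁ Q hQ) (hg₂ Q hQ)), ?_⟩
      have : f + (g₁ + g₂) ^ 2 + (g₁ + g₂) = f + g₁ ^ 2 + g₁ + g₂ ^ 2 + g₂ := by
        linear_combination (g₁ * g₂) * h20F
      rw [this]
      exact hnot
    · refine ⟨0, fun Q _ => by rw [map_zero]; exact zero_le_one, ?_⟩
      have : f + 0 ^ 2 + 0 = f := by ring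
      rw [this]
      exact hbad

theorem exists_odd_poles (h2 : ringChar k = 2) (f : RatFunc k) :
    ∃ g : RatFunc k, ∀ P : Place k (RatFunc k),
      P.ord (f + g ^ 2 + g) < 0 → Odd (P.ord (f + g ^ 2 + g)) := by
  classical
  have h20F : (2 : RatFunc k) = 0 := Rat.two_eq_zero_of_ringChar k h2
  have key : ∀ (n : ℕ) (f : RatFunc k), (Bad f).ncard ≤ n →
      ∃ g : RatFunc k, Bad (f + g ^ 2 + g) = ∅ := by
    intro n
    induction n with
    | zero =>
      intro f hf
      refine ⟨0, ?_⟩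
      have : f + 0 ^ 2 + 0 = f := by ring
      rw [this]
      exact (Set.ncard_eq_zero (bad_finite f)).mp (Nat.le_zero.mp hf)
    | succ n ih =>
      intro f hf
      by_cases hemp : Bad f = ∅
      · refine ⟨0, ?_⟩
        have : f + 0 ^ 2 + 0 = f := by ring
        rw [this]
        exact hemp
      · obtain ⟨P, hP⟩ := Set.nonempty_iff_ne_empty.mpr hemp
        obtain ⟨g₁, hg₁, hnot⟩ := clean_place h2 P (-P.ord f).toNat f (Int.self_le_toNat _)
        have hsub : Bad (f + g₁ ^ 2 + g₁) ⊆ Bad f := by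
          intro Q hQ
          have hQP : Q ≠ P := by
            rintro rfl
            exact hnot (mem_bad.mp hQ)
          exact mem_bad.mpr (bad_of_bad_away (hg₁ Q hQP) (mem_bad.mp hQ))
        have hss : Bad (f + g₁ ^ 2 + g₁) ⊂ Bad f :=
          ⟨hsub, fun h => hnot (mem_bad.mp (h hP))⟩
        have hcard := Set.ncard_lt_ncard hss (bad_finite f)
        obtain ⟨g₂, hg₂⟩ := ih (f + g₁ ^ 2 + g₁) (by omega)
        refine ⟨g₁ + g₂, ?_⟩
        have : f + (g₁ + g₂) ^ 2 + (g₁ + g₂) = f + g₁ ^ 2 + g₁ + g₂ ^ 2 + g₂ := by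
          linear_combination (g₁ * g₂) * h20F
        rw [this]
        exact hg₂
  obtain ⟨g, hg⟩ := key _ f le_rfl
  refine ⟨g, fun P hP => ?_⟩
  by_contra hodd
  have hev : Even (P.ord (f + g ^ 2 + g)) := Int.not_odd_iff_even.mp hodd
  have hmem : P ∈ Bad (f + g ^ 2 + g) := mem_bad.mpr ⟨hP, hev⟩
  rw [hg] at hmem
  exact (Set.mem_empty_iff_false P).mp hmem

end Groth.Agent.Lib.Helper27.ASN
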