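import Mathlib

/-! Artin–Schreier polynomials `X ^ p - X - c` in characteristic `p`: roots, irreducibility,
the Galois property of `K(z)`, `z ^ p - z = ξ`. -/

set_option autoImplicit false

namespace Groth.Agent.Lib.Helper27.ASR
open Polynomial IntermediateField

section Dom
variable {E : Type*} [CommRing E] [IsDomain E] (p : ℕ) [hp : Fact p.Prime] [CharP E p]

theorem natCast_pow_self (i : ℕ) : ((i : E)) ^ p = i := by
  induction i with
  | zero => simp [hp.out.ne_zero]
  | succ i ih => rw [Nat.cast_succ, add_pow_char, ih, one_pow]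

theorem eq_natCast_of_pow_eq (x : E) (hx : x ^ p = x) : ∃ i : ℕ, i < p ∧ x = (i : E) := by
  by_contra hcon
  push Not at hcon
  have hdeg : (X ^ p - X : E[X]).natDegree = p := by
    have h1 : (X : E[X]).degree < (X ^ p : E[X]).degree := by
      rw [degree_X_pow, degree_X]
      exact mod_cast hp.out.one_lt
    rw [natDegree_eq_of_degree_eq (degree_sub_eq_left_of_degree_lt h1), natDegree_X_pow]
  have hf0 : (X ^ p - X : E[X]) ≠ 0 := by
    intro h0
    rw [h0, natDegree_zero] at hdeg
    exact hp.out.ne_zero hdeg.symm
  have hnd : ((Multiset.range p).map (fun i : ℕ => (i : E))).Nodup := by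
    refine Multiset.Nodup.map_on ?_ (Multiset.nodup_range p)
    intro i hi j hj hij
    exact CharP.natCast_injOn_Iio E p (by simpa using hi) (by simpa using hj) hij
  have hnd' : (x ::ₘ (Multiset.range p).map (fun i : ℕ => (i : E))).Nodup := by
    rw [Multiset.nodup_cons]
    refine ⟨?_, hnd⟩
    intro hmem
    obtain ⟨i, hi, h⟩ := Multiset.mem_map.mp hmem
    exact hcon i (by simpa using hi) h.symm
  have hsub : (x ::ₘ (Multiset.range p).map (fun i : ℕ => (i : E)))
      ⊆ (X ^ p - X : E[X]).roots := by
    intro a ha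
    rw [mem_roots hf0, IsRoot, eval_sub, eval_pow, eval_X, sub_eq_zero]
    rcases Multiset.mem_cons.mp ha with rfl | h
    · exact hx
    · obtain ⟨i, -, rfl⟩ := Multiset.mem_map.mp h
      exact natCast_pow_self p i
  have h1 := Multiset.card_le_card ((Multiset.le_iff_subset hnd').mpr hsub)
  rw [Multiset.card_cons, Multiset.card_map, Multiset.card_range] at h1
  have h2 := card_roots' (X ^ p - X : E[X])
  omega

theorem eq_add_natCast_of_roots {c r r' : E} (hr : r ^ p - r = c) (hr' : r' ^ p - r' = c) :
    ∃ i : ℕ, i < p ∧ r' = r + (i : E) := by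
  have h : (r' - r) ^ p = r' - r := by
    rw [sub_pow_char]
    linear_combination hr' - hr
  obtain ⟨i, hi, h2⟩ := eq_natCast_of_pow_eq p (r' - r) h
  exact ⟨i, hi, by rw [← h2]; ring⟩

theorem add_natCast_root {c r : E} (hr : r ^ p - r = c) (i : ℕ) :
    (r + (i : E)) ^ p - (r + (i : E)) = c := by
  rw [add_pow_char, natCast_pow_self]
  linear_combination hr

end Dom

section Fld
variable {F : Type*} [Field F] (p : ℕ) [hp : Fact p.Prime] [CharP F p]

omit [CharP F p] in
theorem as_monic (c : F) : (X ^ p - X - C c : F[X]).Monic := by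
  have h : (X ^ p - X - C c : F[X]) = X ^ p - (X + C c) := by ring
  rw [h]
  apply monic_X_pow_sub
  calc (X + C c : F[X]).degree ≤ 1 := degree_X_add_C c |>.le
    _ < p := by exact_mod_cast hp.out.one_lt

omit [CharP F p] in
theorem as_natDegree (c : F) : (X ^ p - X - C c : F[X]).natDegree = p := by
  rw [natDegree_sub_C]
  exact FiniteField.X_pow_card_sub_X_natDegree_eq F hp.out.one_lt

omit hp [CharP F p] in
theorem as_eval (c r : F) : (X ^ p - X - C c : F[X]).eval r = r ^ p - r - c := by
  simp

omit hp in
theorem as_separable (c : F) : (X ^ p - X - C c : F[X]).Separable := by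
  rw [separable_def']
  refine ⟨0, -1, ?_⟩
  simp [derivative_X_pow, CharP.cast_eq_zero]

/-- All roots of an Artin–Schreier polynomial, given one root. -/
theorem as_roots {c r : F} (hr : r ^ p - r = c) :
    (X ^ p - X - C c : F[X]).roots = (Multiset.range p).map (fun i : ℕ => r + (i : F)) := by
  have hf0 : (X ^ p - X - C c : F[X]) ≠ 0 := (as_monic p c).ne_zero
  have hnd : ((Multiset.range p).map (fun i : ℕ => r + (i : F))).Nodup := by
    refine Multiset.Nodup.map_on ?_ (Multiset.nodup_range p)
    intro i hi j hj hij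
    have h1 : (i : F) = j := add_left_cancel hij
    exact CharP.natCast_injOn_Iio F p (by simpa using hi) (by simpa using hj) h1
  have hsub : (Multiset.range p).map (fun i : ℕ => r + (i : F))
      ⊆ (X ^ p - X - C c : F[X]).roots := by
    intro a ha
    obtain ⟨i, -, rfl⟩ := Multiset.mem_map.mp ha
    rw [mem_roots hf0, IsRoot, as_eval, sub_eq_zero]
    exact add_natCast_root p hr i
  have hle := (Multiset.le_iff_subset hnd).mpr hsub
  refine (Multiset.eq_of_le_of_card_le hle ?_).symm
  have h2 := card_roots' (X ^ p - X - C c : F[X])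
  rw [as_natDegree] at h2
  rw [Multiset.card_map, Multiset.card_range]
  exact h2

theorem as_splits {c r : F} (hr : r ^ p - r = c) : (X ^ p - X - C c : F[X]).Splits := by
  rw [splits_iff_card_roots, as_roots p hr, as_natDegree, Multiset.card_map, Multiset.card_range]

end Fld

end Groth.Agent.Lib.Helper27.ASR
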