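import Mathlib
import Groth.Agent.Lib.Helper27.ASR1

/-! Artin–Schreier polynomials: irreducibility, and the extension `K(z)`, `z ^ p - z = ξ`. -/

set_option autoImplicit false

namespace Groth.Agent.Lib.Helper27.ASR
open Polynomial IntermediateField

theorem sum_sub_card_nsmul_mem {E : Type*} [CommRing E] (R : Subring E) (r : E) (m : Multiset E)
    (h : ∀ a ∈ m, a - r ∈ R) : m.sum - Multiset.card m • r ∈ R := by
  induction m using Multiset.induction_on with
  | empty => simp
  | cons a m ih =>
    have h1 := ih (fun b hb => h b (Multiset.mem_cons_of_mem hb))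
    have h2 := h a (Multiset.mem_cons_self a m)
    have e : (a ::ₘ m).sum - Multiset.card (a ::ₘ m) • r
        = (a - r) + (m.sum - Multiset.card m • r) := by
      rw [Multiset.sum_cons, Multiset.card_cons, succ_nsmul]
      ring
    rw [e]
    exact R.add_mem h2 h1

theorem as_irreducible {F : Type*} [Field F] (p : ℕ) [hp : Fact p.Prime] [CharP F p] (c : F)
    (h : ∀ r : F, r ^ p - r ≠ c) : Irreducible (X ^ p - X - C c : F[X]) := by
  have hmon : (X ^ p - X - C c : F[X]).Monic := as_monic p c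
  have hdeg : (X ^ p - X - C c : F[X]).natDegree = p := as_natDegree p c
  have hf0 : (X ^ p - X - C c : F[X]) ≠ 0 := hmon.ne_zero
  have hnu : ¬ IsUnit (X ^ p - X - C c : F[X]) := by
    intro hu
    have h1 := natDegree_eq_zero_of_isUnit hu
    rw [hdeg] at h1
    exact hp.out.ne_zero h1
  obtain ⟨q, hqm, hqi, hqf⟩ := exists_monic_irreducible_factor _ hnu
  haveI : Fact (Irreducible q) := ⟨hqi⟩
  haveI : CharP (AdjoinRoot q) p :=
    charP_of_injective_algebraMap (algebraMap F (AdjoinRoot q)).injective p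
  obtain ⟨r, hrdef⟩ : ∃ r : AdjoinRoot q, r = AdjoinRoot.root q := ⟨_, rfl⟩
  have hqr : aeval r q = 0 := by rw [hrdef, AdjoinRoot.aeval_eq, AdjoinRoot.mk_self]
  have hr : r ^ p - r = algebraMap F (AdjoinRoot q) c := by
    obtain ⟨g, hg⟩ := hqf
    have h1 : aeval r (X ^ p - X - C c : F[X]) = 0 := by
      rw [hg, map_mul, hqr, zero_mul]
    simpa [sub_eq_zero] using h1
  have hmap : (X ^ p - X - C c : F[X]).map (algebraMap F (AdjoinRoot q))
      = X ^ p - X - C (algebraMap F (AdjoinRoot q) c) := by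
    simp
  have hq'm : (q.map (algebraMap F (AdjoinRoot q))).Monic := hqm.map _
  have hq'dvd : q.map (algebraMap F (AdjoinRoot q))
      ∣ X ^ p - X - C (algebraMap F (AdjoinRoot q) c) := by
    rw [← hmap]
    exact Polynomial.map_dvd _ hqf
  have hf'0 : (X ^ p - X - C (algebraMap F (AdjoinRoot q) c) : (AdjoinRoot q)[X]) ≠ 0 :=
    (as_monic p _).ne_zero
  have hq'splits : (q.map (algebraMap F (AdjoinRoot q))).Splits :=
    (as_splits p hr).of_dvd hf'0 hq'dvd
  have hroots_le := roots.le_of_dvd hf'0 hq'dvd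
  have hcard : Multiset.card (q.map (algebraMap F (AdjoinRoot q))).roots = q.natDegree := by
    rw [splits_iff_card_roots.mp hq'splits, natDegree_map]
  have hnext : (q.map (algebraMap F (AdjoinRoot q))).roots.sum
      = algebraMap F (AdjoinRoot q) (-q.nextCoeff) := by
    have h1 := hq'splits.nextCoeff_eq_neg_sum_roots_of_monic hq'm
    rw [nextCoeff_map (algebraMap F (AdjoinRoot q)).injective] at h1
    rw [map_neg, h1, neg_neg]
  have hmem : ∀ a ∈ (q.map (algebraMap F (AdjoinRoot q))).roots,
      a - r ∈ (algebraMap F (AdjoinRoot q)).range := by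
    intro a ha
    have ha' := Multiset.mem_of_le hroots_le ha
    rw [as_roots p hr] at ha'
    obtain ⟨i, -, rfl⟩ := Multiset.mem_map.mp ha'
    exact ⟨(i : F), by simp⟩
  have hsum := sum_sub_card_nsmul_mem (algebraMap F (AdjoinRoot q)).range r _ hmem
  rw [hcard, hnext] at hsum
  have hdr : q.natDegree • r ∈ (algebraMap F (AdjoinRoot q)).range := by
    have h1 : q.natDegree • r = algebraMap F (AdjoinRoot q) (-q.nextCoeff)
        - (algebraMap F (AdjoinRoot q) (-q.nextCoeff) - q.natDegree • r) := by ring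
    rw [h1]
    exact Subring.sub_mem _ ⟨_, rfl⟩ hsum
  have hdle : q.natDegree ≤ p := hdeg ▸ natDegree_le_of_dvd hqf hf0
  have hdp : q.natDegree = p := by
    by_contra hne
    have hlt : q.natDegree < p := lt_of_le_of_ne hdle hne
    have hpos : 0 < q.natDegree := hqi.natDegree_pos
    have hd0 : (q.natDegree : F) ≠ 0 := by
      rw [Ne, CharP.cast_eq_zero_iff F p]
      exact Nat.not_dvd_of_pos_of_lt hpos hlt
    obtain ⟨y, hy⟩ := hdr
    have hr0 : r = algebraMap F (AdjoinRoot q) ((q.natDegree : F)⁻¹ * y) := by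
      rw [map_mul, hy, map_inv₀, map_natCast, nsmul_eq_mul, ← mul_assoc, inv_mul_cancel₀, one_mul]
      rw [← map_natCast (algebraMap F (AdjoinRoot q))]
      exact (_root_.map_ne_zero _).mpr hd0
    rw [hr0, ← map_pow, ← map_sub] at hr
    exact h _ ((algebraMap F (AdjoinRoot q)).injective hr)
  have hqf' : (X ^ p - X - C c : F[X]) = q :=
    eq_of_monic_of_dvd_of_natDegree_le hqm hmon hqf (by rw [hdeg, hdp])
  rw [hqf']
  exact hqi

section Gal
variable {K L : Type*} [Field K] [Field L] [Algebra K L] (p : ℕ) [hp : Fact p.Prime]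

/-- Powers `θ ^ i`, `i < p`, span `K(θ)` when `θ` is a root of a monic polynomial of degree `p`. -/
theorem span_pow (θ : L) (f : K[X]) (hf : f.Monic) (hdeg : f.natDegree = p)
    (hroot : aeval θ f = 0) (hgen : K⟮θ⟯ = ⊤) (x : L) :
    ∃ c : Fin p → K, x = ∑ i, algebraMap K L (c i) * θ ^ (i : ℕ) := by
  have hint : IsIntegral K θ := ⟨f, hf, by rw [← aeval_def]; exact hroot⟩
  have hx : x ∈ K⟮θ⟯ := by
    rw [hgen]
    exact IntermediateField.mem_top
  rw [← IntermediateField.mem_toSubalgebra,
    adjoin_simple_toSubalgebra_of_isAlgebraic hint.isAlgebraic,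
    Algebra.adjoin_singleton_eq_range_aeval] at hx
  obtain ⟨Q, rfl⟩ := hx
  have hf1 : f ≠ 1 := by
    intro h1
    rw [h1, natDegree_one] at hdeg
    exact hp.out.ne_zero hdeg.symm
  have hlt : (Q %ₘ f).natDegree < p := hdeg ▸ natDegree_modByMonic_lt Q hf hf1
  refine ⟨fun i => (Q %ₘ f).coeff i, ?_⟩
  have h1 : aeval θ Q = aeval θ (Q %ₘ f) := (aeval_modByMonic_eq_self_of_root hroot).symm
  have h2 := Fin.sum_univ_eq_sum_range
    (fun i => algebraMap K L ((Q %ₘ f).coeff i) * θ ^ i) p
  change (aeval θ) Q = _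
  rw [h1, aeval_eq_sum_range' hlt, h2]
  refine Finset.sum_congr rfl fun i _ => ?_
  rw [Algebra.smul_def]

variable [CharP K p] (ξ : K) (z : L) (hz : z ^ p - z = algebraMap K L ξ)
include hz

omit hp [CharP K p] in
theorem as_aeval : aeval z (X ^ p - X - C ξ : K[X]) = 0 := by
  simp [hz]

theorem as_isIntegral : IsIntegral K z :=
  ⟨_, as_monic p ξ, by rw [← aeval_def]; exact as_aeval p ξ z hz⟩

theorem as_finite (hgen : K⟮z⟯ = ⊤) : Module.Finite K L := by
  haveI h3 : FiniteDimensional K K⟮z⟯ := adjoin.finiteDimensional (as_isIntegral p ξ z hz)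
  have h4 : FiniteDimensional K (⊤ : IntermediateField K L) := hgen ▸ h3
  exact (topEquiv : (⊤ : IntermediateField K L) ≃ₐ[K] L).toLinearEquiv.finiteDimensional

theorem as_finrank_eq (hgen : K⟮z⟯ = ⊤) : Module.finrank K L = (minpoly K z).natDegree := by
  rw [← IntermediateField.finrank_top', ← hgen, adjoin.finrank (as_isIntegral p ξ z hz)]

theorem as_finrank_le (hgen : K⟮z⟯ = ⊤) : Module.finrank K L ≤ p := by
  rw [as_finrank_eq p ξ z hz hgen]
  have h1 := natDegree_le_of_dvd (minpoly.dvd K z (as_aeval p ξ z hz)) (as_monic p ξ).ne_zero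
  rwa [as_natDegree] at h1

theorem as_isGalois (hgen : K⟮z⟯ = ⊤) : IsGalois K L := by
  haveI : CharP L p := charP_of_injective_algebraMap (algebraMap K L).injective p
  have hint := as_isIntegral p ξ z hz
  haveI : (X ^ p - X - C ξ : K[X]).IsSplittingField K L := by
    refine ⟨?_, ?_⟩
    · have hmap : (X ^ p - X - C ξ : K[X]).map (algebraMap K L)
          = X ^ p - X - C (algebraMap K L ξ) := by simp
      rw [hmap]
      exact as_splits p hz
    · rw [eq_top_iff]
      have h1 : Algebra.adjoin K {z} = ⊤ := by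
        rw [← adjoin_simple_toSubalgebra_of_isAlgebraic hint.isAlgebraic, hgen]
        rfl
      rw [← h1]
      apply Algebra.adjoin_mono
      rw [Set.singleton_subset_iff, mem_rootSet]
      exact ⟨(as_monic p ξ).ne_zero, as_aeval p ξ z hz⟩
  exact IsGalois.of_separable_splitting_field (as_separable p ξ)

theorem as_finrank_of_no_root (hgen : K⟮z⟯ = ⊤) (h : ∀ r : K, r ^ p - r ≠ ξ) :
    Module.finrank K L = p := by
  rw [as_finrank_eq p ξ z hz hgen,
    ← minpoly.eq_of_irreducible_of_monic (as_irreducible p ξ h) (as_aeval p ξ z hz)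
      (as_monic p ξ), as_natDegree]

theorem as_finrank_of_root (hgen : K⟮z⟯ = ⊤) (r : K) (h : r ^ p - r = ξ) :
    Module.finrank K L = 1 := by
  haveI : CharP L p := charP_of_injective_algebraMap (algebraMap K L).injective p
  have hr : (algebraMap K L r) ^ p - algebraMap K L r = algebraMap K L ξ := by
    rw [← map_pow, ← map_sub, h]
  obtain ⟨i, -, hi⟩ := eq_add_natCast_of_roots p hr hz
  have hzmem : z ∈ (⊥ : IntermediateField K L) := by
    rw [IntermediateField.mem_bot]
    exact ⟨r + (i : K), by rw [hi, map_add, map_natCast]⟩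
  rw [← bot_eq_top_iff_finrank_eq_one, ← hgen]
  exact (adjoin_simple_eq_bot_iff.mpr hzmem).symm

end Gal

end Groth.Agent.Lib.Helper27.ASR
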