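import Mathlib
import Groth.Prelude.Def_EtRam
import Groth.Agent.Lib.Helper27.ASR2

/-! Valuation subrings dominating a discrete valuation ring: scaling lemmas and explicit
integral bases ("good generators"). -/

set_option autoImplicit false

namespace Groth.Agent.Lib.Helper27.ASR
open IsLocalRing

universe u

section DVR
variable {A : Type u} {K : Type*} [CommRing A] [IsDomain A] [IsDiscreteValuationRing A]
  [Field K] [Algebra A K] [IsFractionRing A K] {π : A}
  (hπ : maximalIdeal A = Ideal.span {π})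
include hπ

theorem pi_irreducible : Irreducible π :=
  (IsDiscreteValuationRing.irreducible_iff_uniformizer π).mpr hπ

theorem pi_ne_zero : π ≠ 0 := (pi_irreducible hπ).ne_zero

theorem pi_mem : π ∈ maximalIdeal A := by
  rw [hπ]
  exact Ideal.mem_span_singleton_self π

theorem mem_max_iff {a : A} : a ∈ maximalIdeal A ↔ ∃ a', a = π * a' := by
  rw [hπ, Ideal.mem_span_singleton']
  constructor
  · rintro ⟨b, rfl⟩
    exact ⟨b, mul_comm _ _⟩
  · rintro ⟨b, rfl⟩
    exact ⟨b, mul_comm _ _⟩

variable (K) in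
theorem iota_pi_ne_zero : algebraMap A K π ≠ 0 :=
  (map_ne_zero_iff _ (IsFractionRing.injective A K)).mpr (pi_ne_zero hπ)

theorem exists_scale (x : K) :
    ∃ (m : ℕ) (a : A), x * algebraMap A K π ^ m = algebraMap A K a := by
  obtain ⟨n, d, hd, rfl⟩ := IsFractionRing.div_surjective (A := A) x
  have hd0 : d ≠ 0 := nonZeroDivisors.ne_zero hd
  obtain ⟨m, u, hu⟩ :=
    IsDiscreteValuationRing.eq_unit_mul_pow_irreducible hd0 (pi_irreducible hπ)
  refine ⟨m, n * ↑u⁻¹, ?_⟩
  have hιd : algebraMap A K d ≠ 0 :=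
    (map_ne_zero_iff _ (IsFractionRing.injective A K)).mpr hd0
  rw [div_mul_eq_mul_div, div_eq_iff hιd, ← map_pow, ← map_mul, ← map_mul]
  congr 1
  conv_rhs => rw [hu]
  rw [mul_assoc, ← mul_assoc (↑u⁻¹ : A), Units.inv_mul, one_mul]

theorem exists_scale_fam {ι : Type*} [Finite ι] (c : ι → K) :
    ∃ m : ℕ, ∀ i, ∃ a : A, c i * algebraMap A K π ^ m = algebraMap A K a := by
  cases nonempty_fintype ι
  choose m a ha using fun i => exists_scale hπ (c i)
  refine ⟨Finset.univ.sup m, fun i => ⟨a i * π ^ (Finset.univ.sup m - m i), ?_⟩⟩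
  have hle : m i ≤ Finset.univ.sup m := Finset.le_sup (Finset.mem_univ i)
  rw [map_mul, map_pow, ← ha i, mul_assoc, ← pow_add, Nat.add_sub_cancel' hle]

theorem exists_min_scale {ι : Type*} [Finite ι] (c : ι → K) :
    ∃ (m : ℕ) (a : ι → A), (∀ i, c i * algebraMap A K π ^ m = algebraMap A K (a i)) ∧
      (m = 0 ∨ ∃ j, a j ∉ maximalIdeal A) := by
  classical
  have hex := exists_scale_fam hπ c
  obtain ⟨m, hm_spec, hm_min⟩ : ∃ m : ℕ,
      (∀ i, ∃ a : A, c i * algebraMap A K π ^ m = algebraMap A K a) ∧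
      ∀ k < m, ¬ (∀ i, ∃ a : A, c i * algebraMap A K π ^ k = algebraMap A K a) :=
    ⟨Nat.find hex, Nat.find_spec hex, fun k hk => Nat.find_min hex hk⟩
  choose a ha using hm_spec
  refine ⟨m, a, ha, ?_⟩
  by_cases hm0 : m = 0
  · left
    exact hm0
  · right
    by_contra hcon
    push Not at hcon
    apply hm_min (m - 1) (by omega)
    intro i
    obtain ⟨a', ha'⟩ := (mem_max_iff hπ).mp (hcon i)
    refine ⟨a', ?_⟩
    have h1 := ha i
    have hm1 : m = (m - 1) + 1 := by omega
    rw [ha', map_mul, hm1, pow_succ, ← mul_assoc] at h1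
    exact mul_right_cancel₀ (iota_pi_ne_zero K hπ) (by rw [h1, mul_comm])

end DVR

section Dom
variable {A : Type u} {K : Type*} [CommRing A] [IsDomain A] [IsDiscreteValuationRing A]
  [Field K] [Algebra A K] [IsFractionRing A K] {π : A}
  (hπ : maximalIdeal A = Ideal.span {π})
  {L : Type u} [Field L] [Algebra K L] [Algebra A L] [IsScalarTower A K L]

omit [IsDiscreteValuationRing A] in
include K in
variable (A K L) in
theorem algebraMap_AL_injective : Function.Injective (algebraMap A L) := by
  rw [IsScalarTower.algebraMap_eq A K L]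
  exact (algebraMap K L).injective.comp (IsFractionRing.injective A K)

variable (A L) in
theorem exists_dominating : ∃ V : ValuationSubring L, EtRam.Dominates A (algebraMap A L) V := by
  obtain ⟨V, hV, hloc⟩ := IsLocalRing.exists_factor_valuationRing (algebraMap A L)
  refine ⟨V, hV, fun a ha => ?_⟩
  by_contra hnlt
  rw [not_lt] at hnlt
  have hle : V.valuation (algebraMap A L a) ≤ 1 := (V.valuation_le_one_iff _).mpr (hV a)
  have heq : V.valuation (algebraMap A L a) = 1 := le_antisymm hle hnlt
  have hne : algebraMap A L a ≠ 0 := by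
    intro h0
    rw [h0, map_zero] at heq
    exact zero_ne_one heq
  have hinv : (algebraMap A L a)⁻¹ ∈ V := by
    rw [← V.valuation_le_one_iff, map_inv₀, heq, inv_one]
  have hu : IsUnit ((algebraMap A L).codRestrict V.toSubring hV a) := by
    refine isUnit_iff_exists_inv.mpr ⟨⟨(algebraMap A L a)⁻¹, hinv⟩, Subtype.ext ?_⟩
    show algebraMap A L a * (algebraMap A L a)⁻¹ = 1
    exact mul_inv_cancel₀ hne
  have hua := hloc.map_nonunit a hu
  exact (mem_maximalIdeal a).mp ha hua

variable {V : ValuationSubring L} (h : EtRam.Dominates A (algebraMap A L) V)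
include h

theorem val_le_one (a : A) : V.valuation (algebraMap A L a) ≤ 1 :=
  (V.valuation_le_one_iff _).mpr (h.1 a)

theorem val_unit {a : A} (ha : IsUnit a) : V.valuation (algebraMap A L a) = 1 := by
  obtain ⟨b, hb⟩ := ha.exists_right_inv
  have e : V.valuation (algebraMap A L a) * V.valuation (algebraMap A L b) = 1 := by
    rw [← map_mul, ← map_mul, hb, map_one, map_one]
  refine le_antisymm (val_le_one h a) ?_
  by_contra hlt
  rw [not_le] at hlt
  have h1 : V.valuation (algebraMap A L a) * V.valuation (algebraMap A L b) < 1 :=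
    lt_of_le_of_lt (mul_le_mul' le_rfl (val_le_one h b)) (by rwa [mul_one])
  exact absurd e h1.ne

theorem val_lt_one_iff {a : A} : V.valuation (algebraMap A L a) < 1 ↔ a ∈ maximalIdeal A := by
  constructor
  · intro hlt
    by_contra hn
    have hu : IsUnit a := by
      rwa [mem_maximalIdeal, mem_nonunits_iff, not_not] at hn
    rw [val_unit h hu] at hlt
    exact lt_irrefl _ hlt
  · exact h.2 a

include hπ

theorem val_pi_lt_one : V.valuation (algebraMap A L π) < 1 := h.2 π (pi_mem hπ)

include K in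
variable (K) in
theorem val_pi_ne_zero : V.valuation (algebraMap A L π) ≠ 0 :=
  (Valuation.ne_zero_iff _).mpr
    ((map_ne_zero_iff _ (algebraMap_AL_injective A K L)).mpr (pi_ne_zero hπ))

theorem val_le_pi_of_mem {a : A} (ha : a ∈ maximalIdeal A) :
    V.valuation (algebraMap A L a) ≤ V.valuation (algebraMap A L π) := by
  obtain ⟨a', rfl⟩ := (mem_max_iff hπ).mp ha
  rw [map_mul, map_mul]
  exact mul_le_of_le_one_right' (val_le_one h a')

theorem mem_range_of_mem (x : K) (hx : algebraMap K L x ∈ V) :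
    ∃ a : A, algebraMap A K a = x := by
  obtain ⟨m, a, ha, hm⟩ := exists_min_scale hπ (fun _ : Unit => x)
  by_cases hm0 : m = 0
  · subst hm0
    exact ⟨a (), by rw [← ha (), pow_zero, mul_one]⟩
  · exfalso
    rcases hm with hm | ⟨j, hj⟩
    · exact hm0 hm
    · have hu : IsUnit (a j) := by
        rwa [mem_maximalIdeal, mem_nonunits_iff, not_not] at hj
      have e := congrArg (algebraMap K L) (ha j)
      rw [map_mul, map_pow, ← IsScalarTower.algebraMap_apply,
        ← IsScalarTower.algebraMap_apply] at e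
      have e2 := congrArg V.valuation e
      rw [map_mul, map_pow, val_unit h hu] at e2
      have h1 : V.valuation (algebraMap K L x) ≤ 1 := (V.valuation_le_one_iff _).mpr hx
      have h2 : V.valuation (algebraMap A L π) ^ m < 1 := pow_lt_one' (val_pi_lt_one hπ h) hm0
      have h3 : V.valuation (algebraMap K L x) * V.valuation (algebraMap A L π) ^ m < 1 :=
        lt_of_le_of_lt (mul_le_mul' h1 le_rfl) (by rwa [one_mul])
      exact absurd e2 h3.ne

/-- The key property of a good generator `θ`. -/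
def KProp (π : A) (V : ValuationSubring L) (p : ℕ) (θ : L) : Prop :=
  ∀ a : Fin p → A,
    V.valuation (∑ i, algebraMap A L (a i) * θ ^ (i : ℕ)) ≤ V.valuation (algebraMap A L π) →
    ∀ i, a i ∈ maximalIdeal A

variable (p : ℕ) (θ : L)

theorem coeff_mem_of_mem (hK : KProp π V p θ) (c : Fin p → K)
    (hc : ∑ i, algebraMap K L (c i) * θ ^ (i : ℕ) ∈ V) :
    ∀ i, ∃ a : A, algebraMap A K a = c i := by
  obtain ⟨m, a, ha, hm⟩ := exists_min_scale hπ c
  have hsum : ∑ i, algebraMap A L (a i) * θ ^ (i : ℕ)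
      = algebraMap A L π ^ m * ∑ i, algebraMap K L (c i) * θ ^ (i : ℕ) := by
    rw [Finset.mul_sum]
    refine Finset.sum_congr rfl fun i _ => ?_
    rw [IsScalarTower.algebraMap_apply A K L (a i), ← ha i, map_mul, map_pow,
      ← IsScalarTower.algebraMap_apply]
    ring
  by_cases hm0 : m = 0
  · subst hm0
    intro i
    exact ⟨a i, by rw [← ha i, pow_zero, mul_one]⟩
  · exfalso
    rcases hm with hm | ⟨j, hj⟩
    · exact hm0 hm
    · apply hj
      apply hK a _ j
      rw [hsum, map_mul, map_pow]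
      have h1 : V.valuation (∑ i, algebraMap K L (c i) * θ ^ (i : ℕ)) ≤ 1 :=
        (V.valuation_le_one_iff _).mpr hc
      have hm1 : m = (m - 1) + 1 := by omega
      calc V.valuation (algebraMap A L π) ^ m
            * V.valuation (∑ i, algebraMap K L (c i) * θ ^ (i : ℕ))
          ≤ V.valuation (algebraMap A L π) ^ m * 1 := mul_le_mul' le_rfl h1
        _ = V.valuation (algebraMap A L π) ^ m := mul_one _
        _ ≤ V.valuation (algebraMap A L π) := by
            rw [hm1, pow_succ]
            exact mul_le_of_le_one_left' (pow_le_one' (val_pi_lt_one hπ h).le _)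

theorem linearIndependent_pow_of_KProp (hK : KProp π V p θ) :
    LinearIndependent K (fun i : Fin p => θ ^ (i : ℕ)) := by
  rw [Fintype.linearIndependent_iff]
  intro c hc j
  by_contra hj
  obtain ⟨lam, hlam⟩ : ∃ lam : K, lam = (c j * algebraMap A K π)⁻¹ := ⟨_, rfl⟩
  have hsum : ∑ i, algebraMap K L (lam * c i) * θ ^ (i : ℕ) = 0 := by
    have h1 : ∑ i, algebraMap K L (lam * c i) * θ ^ (i : ℕ)
        = algebraMap K L lam * ∑ i, c i • θ ^ (i : ℕ) := by
      rw [Finset.mul_sum]
      refine Finset.sum_congr rfl fun i _ => ?_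
      rw [map_mul, Algebra.smul_def]
      ring
    rw [h1, hc, mul_zero]
  obtain ⟨a, ha⟩ := coeff_mem_of_mem hπ h p θ hK (fun i => lam * c i)
    (by rw [hsum]; exact V.zero_mem) j
  have h1 : algebraMap A K (a * π) = 1 := by
    rw [map_mul, ha, hlam]
    have := iota_pi_ne_zero K hπ
    field_simp
  have h2 : a * π = 1 := IsFractionRing.injective A K (by rw [h1, map_one])
  exact (pi_irreducible hπ).not_isUnit (IsUnit.of_mul_eq_one a (by rw [mul_comm]; exact h2))

omit h hπ in
theorem span_of_indep [Module.Finite K L] (hp0 : 0 < p) (hrank : Module.finrank K L ≤ p)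
    (hli : LinearIndependent K (fun i : Fin p => θ ^ (i : ℕ))) :
    Module.finrank K L = p ∧
      ∀ x : L, ∃ c : Fin p → K, x = ∑ i, algebraMap K L (c i) * θ ^ (i : ℕ) := by
  haveI : Nonempty (Fin p) := ⟨⟨0, hp0⟩⟩
  have h1 : p ≤ Module.finrank K L := by simpa using hli.fintype_card_le_finrank
  have heq : Module.finrank K L = p := le_antisymm hrank h1
  refine ⟨heq, fun x => ?_⟩
  obtain ⟨B, hB⟩ : ∃ B : Module.Basis (Fin p) K L, ⇑B = fun i : Fin p => θ ^ (i : ℕ) :=
    ⟨basisOfLinearIndependentOfCardEqFinrank hli (by simp [heq]),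
      coe_basisOfLinearIndependentOfCardEqFinrank _ _⟩
  refine ⟨fun i => B.repr x i, ?_⟩
  conv_lhs => rw [← B.sum_repr x]
  refine Finset.sum_congr rfl fun i _ => ?_
  rw [hB, Algebra.smul_def]

theorem mem_iff_of_good (hθ : θ ∈ V) (hK : KProp π V p θ)
    (hspan : ∀ x : L, ∃ c : Fin p → K, x = ∑ i, algebraMap K L (c i) * θ ^ (i : ℕ)) (x : L) :
    x ∈ V ↔ ∃ a : Fin p → A, x = ∑ i, algebraMap A L (a i) * θ ^ (i : ℕ) := by
  constructor
  · intro hx
    obtain ⟨c, rfl⟩ := hspan x
    choose a ha using coeff_mem_of_mem hπ h p θ hK c hx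
    exact ⟨a, Finset.sum_congr rfl fun i _ => by
      rw [← ha i, ← IsScalarTower.algebraMap_apply]⟩
  · rintro ⟨a, rfl⟩
    exact sum_mem fun i _ => mul_mem (h.1 _) (pow_mem hθ _)

end Dom

section Uniq
variable {A : Type u} {K : Type*} [CommRing A] [IsDomain A] [IsDiscreteValuationRing A]
  [Field K] [Algebra A K] [IsFractionRing A K] {π : A}
  (hπ : maximalIdeal A = Ideal.span {π})
  {L : Type u} [Field L] [Algebra K L] [Algebra A L] [IsScalarTower A K L]
include hπ

theorem unique_of_good (p : ℕ) (θ : L)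
    (hgood : ∀ V : ValuationSubring L, EtRam.Dominates A (algebraMap A L) V →
      θ ∈ V ∧ KProp π V p θ)
    (hspan : ∀ x : L, ∃ c : Fin p → K, x = ∑ i, algebraMap K L (c i) * θ ^ (i : ℕ))
    {V V' : ValuationSubring L} (h : EtRam.Dominates A (algebraMap A L) V)
    (h' : EtRam.Dominates A (algebraMap A L) V') : V = V' :=
  ValuationSubring.ext _ _ fun x => by
    rw [mem_iff_of_good hπ h p θ (hgood V h).1 (hgood V h).2 hspan,
      mem_iff_of_good hπ h' p θ (hgood V' h').1 (hgood V' h').2 hspan]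

end Uniq

end Groth.Agent.Lib.Helper27.ASR
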