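import Mathlib
import Groth.Prelude.Def_EtRam
import Groth.Agent.Lib.Helper27.ASR3

/-! Inert-type generators: `θ` a root of a monic `H ∈ A[X]` whose reduction is irreducible. -/

set_option autoImplicit false

namespace Groth.Agent.Lib.Helper27.ASR
open IsLocalRing Polynomial IntermediateField

universe u

section Fld
variable {k E : Type*} [Field k] [Field E] [Algebra k E] {p : ℕ}

theorem separable_of_repr (θ' : E) (hsep : IsSeparable k θ')
    (hrep : ∀ y : E, ∃ a : Fin p → k, y = ∑ i, algebraMap k E (a i) * θ' ^ (i : ℕ)) :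
    Algebra.IsSeparable k E := by
  refine ⟨fun y => ?_⟩
  obtain ⟨a, rfl⟩ := hrep y
  apply mem_separableClosure_iff.mp
  exact sum_mem fun i _ =>
    mul_mem (IntermediateField.algebraMap_mem _ _) (pow_mem (mem_separableClosure_iff.mpr hsep) _)

theorem separable_of_surjective (hs : Function.Surjective (algebraMap k E)) :
    Algebra.IsSeparable k E := by
  refine ⟨fun y => ?_⟩
  obtain ⟨x, rfl⟩ := hs y
  exact isSeparable_algebraMap x

theorem purelyInsep_of_repr (p : ℕ) [Fact p.Prime] [CharP k p] (θ' : E) (c : k)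
    (hθ' : θ' ^ p = algebraMap k E c)
    (hrep : ∀ y : E, ∃ a : Fin p → k, y = ∑ i, algebraMap k E (a i) * θ' ^ (i : ℕ)) :
    IsPurelyInseparable k E := by
  haveI : CharP E p := charP_of_injective_algebraMap (algebraMap k E).injective p
  rw [isPurelyInseparable_iff_pow_mem k p]
  intro y
  obtain ⟨a, rfl⟩ := hrep y
  refine ⟨1, ?_⟩
  rw [pow_one, sum_pow_char]
  refine sum_mem fun i _ => ?_
  rw [mul_pow, ← pow_mul, mul_comm (i : ℕ) p, pow_mul, hθ', ← map_pow, ← map_pow, ← map_mul]
  exact ⟨_, rfl⟩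

theorem finrank_of_repr (θ' : E) (f : k[X]) (hf : f.Monic) (hirr : Irreducible f)
    (hdeg : f.natDegree = p) (hroot : aeval θ' f = 0)
    (hrep : ∀ y : E, ∃ a : Fin p → k, y = ∑ i, algebraMap k E (a i) * θ' ^ (i : ℕ)) :
    Module.finrank k E = p := by
  have hmin : f = minpoly k θ' := minpoly.eq_of_irreducible_of_monic hirr hroot hf
  have hint : IsIntegral k θ' := ⟨f, hf, hroot⟩
  have htop : k⟮θ'⟯ = ⊤ := by
    rw [eq_top_iff]
    intro y _
    obtain ⟨a, rfl⟩ := hrep y
    exact sum_mem fun i _ =>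
      mul_mem (IntermediateField.algebraMap_mem _ _) (pow_mem (IntermediateField.mem_adjoin_simple_self k θ') _)
  rw [← IntermediateField.finrank_top', ← htop, IntermediateField.adjoin.finrank hint, ← hmin, hdeg]

end Fld

section Tri
variable {R : Type*} [CommRing R] [Nontrivial R] {p : ℕ}

theorem tri_monic (hp : 2 ≤ p) (b a : R) : (X ^ p - C b * X - C a : R[X]).Monic := by
  rw [sub_sub]
  apply monic_X_pow_sub
  calc degree (C b * X + C a) ≤ 1 := degree_linear_le
    _ < (p : WithBot ℕ) := by exact_mod_cast hp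

theorem tri_natDegree (hp : 2 ≤ p) (b a : R) : (X ^ p - C b * X - C a : R[X]).natDegree = p := by
  rw [sub_sub, natDegree_sub_eq_left_of_natDegree_lt] <;> rw [natDegree_X_pow]
  exact lt_of_le_of_lt natDegree_linear_le hp

end Tri

section Inert
variable {A : Type u} {K : Type*} [CommRing A] [IsDomain A] [IsDiscreteValuationRing A]
  [Field K] [Algebra A K] [IsFractionRing A K] {π : A}
  (hπ : maximalIdeal A = Ideal.span {π})
  {L : Type u} [Field L] [Algebra K L] [Algebra A L] [IsScalarTower A K L]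
  {V : ValuationSubring L} (h : EtRam.Dominates A (algebraMap A L) V)

include K in
variable (A K) in
theorem charP_residue (p : ℕ) [hp : Fact p.Prime] [CharP K p] : CharP (ResidueField A) p := by
  haveI : CharP A p := (algebraMap A K).charP (IsFractionRing.injective A K) p
  rw [CharP.charP_iff_prime_eq_zero hp.out, ← map_natCast (residue A), CharP.cast_eq_zero,
    map_zero]

include h

theorem mem_of_monic_root (H : A[X]) (hH : H.Monic) (θ : L) (hroot : aeval θ H = 0) : θ ∈ V := by
  rw [← V.valuation_le_one_iff]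
  by_contra hgt
  rw [not_le] at hgt
  have hθ0 : V.valuation θ ≠ 0 := (zero_lt_one.trans hgt).ne'
  have e : aeval θ H = ∑ i ∈ Finset.range H.natDegree, algebraMap A L (H.coeff i) * θ ^ i
      + θ ^ H.natDegree := by
    rw [aeval_eq_sum_range, Finset.sum_range_succ, hH.coeff_natDegree, one_smul]
    congr 1
    exact Finset.sum_congr rfl fun i _ => Algebra.smul_def _ _
  rw [hroot] at e
  have e2 : θ ^ H.natDegree
      = - ∑ i ∈ Finset.range H.natDegree, algebraMap A L (H.coeff i) * θ ^ i :=
    eq_neg_of_add_eq_zero_right e.symm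
  have hlt : V.valuation (∑ i ∈ Finset.range H.natDegree, algebraMap A L (H.coeff i) * θ ^ i)
      < V.valuation θ ^ H.natDegree := by
    apply Valuation.map_sum_lt _ (pow_ne_zero _ hθ0)
    intro i hi
    rw [Finset.mem_range] at hi
    rw [map_mul, map_pow]
    calc V.valuation (algebraMap A L (H.coeff i)) * V.valuation θ ^ i
        ≤ 1 * V.valuation θ ^ i := mul_le_mul' (val_le_one h _) le_rfl
      _ = V.valuation θ ^ i := one_mul _
      _ < V.valuation θ ^ H.natDegree := pow_lt_pow_right₀ hgt hi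
  have e3 := congrArg V.valuation e2
  rw [Valuation.map_neg, map_pow] at e3
  exact absurd e3 hlt.ne'

theorem aeval_mem {θ : L} (hθ : θ ∈ V) (Q : A[X]) : aeval θ Q ∈ V := by
  rw [aeval_eq_sum_range]
  exact sum_mem fun i _ => by
    rw [Algebra.smul_def]
    exact mul_mem (h.1 _) (pow_mem hθ _)

theorem val_aeval_lt_one {θ : L} (hθ : θ ∈ V) (Q : A[X]) (hQ : Q.map (residue A) = 0) :
    V.valuation (aeval θ Q) < 1 := by
  rw [aeval_eq_sum_range]
  apply Valuation.map_sum_lt _ one_ne_zero
  intro i _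
  rw [Algebra.smul_def, map_mul, map_pow]
  have hc : Q.coeff i ∈ maximalIdeal A := by
    rw [← residue_eq_zero_iff, ← coeff_map, hQ, coeff_zero]
  calc V.valuation (algebraMap A L (Q.coeff i)) * V.valuation θ ^ i
      ≤ V.valuation (algebraMap A L (Q.coeff i)) * 1 :=
        mul_le_mul' le_rfl (pow_le_one' ((V.valuation_le_one_iff _).mpr hθ) _)
    _ = V.valuation (algebraMap A L (Q.coeff i)) := mul_one _
    _ < 1 := h.2 _ hc

theorem inert_key_poly {p : ℕ} (H : A[X]) (hH : H.Monic) (hdeg : H.natDegree = p)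
    (hirr : Irreducible (H.map (residue A))) {θ : L} (hroot : aeval θ H = 0)
    (Q : A[X]) (hQdeg : Q.natDegree < p) (hval : V.valuation (aeval θ Q) < 1) :
    Q.map (residue A) = 0 := by
  have hθ : θ ∈ V := mem_of_monic_root h H hH θ hroot
  by_contra hne
  have hndvd : ¬ H.map (residue A) ∣ Q.map (residue A) := by
    apply (hH.map _).not_dvd_of_natDegree_lt hne
    calc (Q.map (residue A)).natDegree ≤ Q.natDegree := natDegree_map_le
      _ < p := hQdeg
      _ = (H.map (residue A)).natDegree := by rw [hH.natDegree_map, hdeg]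
  obtain ⟨U', W', hUW⟩ := (hirr.coprime_iff_not_dvd).mpr hndvd
  obtain ⟨U, rfl⟩ := Polynomial.map_surjective (residue A) residue_surjective U'
  obtain ⟨W, rfl⟩ := Polynomial.map_surjective (residue A) residue_surjective W'
  have hR : (U * H + W * Q - 1).map (residue A) = 0 := by
    rw [Polynomial.map_sub, Polynomial.map_add, Polynomial.map_mul, Polynomial.map_mul,
      Polynomial.map_one, hUW, sub_self]
  have h1 := val_aeval_lt_one h hθ _ hR
  rw [map_sub, map_add, map_mul, map_mul, hroot, mul_zero, zero_add, map_one] at h1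
  have h2 : V.valuation (aeval θ W * aeval θ Q) < 1 := by
    rw [map_mul]
    calc V.valuation (aeval θ W) * V.valuation (aeval θ Q)
        ≤ 1 * V.valuation (aeval θ Q) :=
          mul_le_mul' ((V.valuation_le_one_iff _).mpr (aeval_mem h hθ W)) le_rfl
      _ = V.valuation (aeval θ Q) := one_mul _
      _ < 1 := hval
  have h3 := Valuation.map_sub_lt _ h2 h1
  rw [sub_sub_cancel, map_one] at h3
  exact lt_irrefl _ h3

omit h in
theorem aeval_ofFn [DecidableEq A] (p : ℕ) (a : Fin p → A) (θ : L) :
    aeval θ (Polynomial.ofFn p a) = ∑ i, algebraMap A L (a i) * θ ^ (i : ℕ) := by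
  rw [ofFn_eq_sum_monomial, map_sum]
  refine Finset.sum_congr rfl fun i _ => ?_
  rw [aeval_monomial]

theorem inert_lt_one {p : ℕ} (hp0 : 0 < p) (H : A[X]) (hH : H.Monic) (hdeg : H.natDegree = p)
    (hirr : Irreducible (H.map (residue A))) {θ : L} (hroot : aeval θ H = 0) (a : Fin p → A)
    (hval : V.valuation (∑ i, algebraMap A L (a i) * θ ^ (i : ℕ)) < 1) (i : Fin p) :
    a i ∈ maximalIdeal A := by
  classical
  have hQ := inert_key_poly h H hH hdeg hirr hroot (Polynomial.ofFn p a)
    (ofFn_natDegree_lt hp0 a) (by rw [aeval_ofFn]; exact hval)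
  have h1 := congrArg (fun Q => Q.coeff (i : ℕ)) hQ
  simp only [coeff_map, coeff_zero] at h1
  rw [ofFn_coeff_eq_val_of_lt a i.2] at h1
  exact (residue_eq_zero_iff _).mp h1

include hπ in
theorem inert_KProp {p : ℕ} (hp0 : 0 < p) (H : A[X]) (hH : H.Monic) (hdeg : H.natDegree = p)
    (hirr : Irreducible (H.map (residue A))) {θ : L} (hroot : aeval θ H = 0) :
    θ ∈ V ∧ KProp π V p θ :=
  ⟨mem_of_monic_root h H hH θ hroot, fun a ha i =>
    inert_lt_one h hp0 H hH hdeg hirr hroot a (lt_of_le_of_lt ha (val_pi_lt_one hπ h)) i⟩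

end Inert

end Groth.Agent.Lib.Helper27.ASR
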