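import Mathlib
import Groth.Prelude.Def_EtRam
import Groth.Agent.Lib.Helper27.ASR4

/-! Per-valuation-ring consequences: weak unramifiedness, residue fields, density. -/

set_option autoImplicit false

namespace Groth.Agent.Lib.Helper27.ASR
open IsLocalRing Polynomial IntermediateField

universe u

theorem adjoin_sub_eq_top {K L : Type*} [Field K] [Field L] [Algebra K L] (z : L) (η : K)
    (hgen : K⟮z⟯ = ⊤) : K⟮z - algebraMap K L η⟯ = ⊤ := by
  rw [eq_top_iff, ← hgen, IntermediateField.adjoin_simple_le_iff]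
  have h2 : (z - algebraMap K L η) + algebraMap K L η ∈ K⟮z - algebraMap K L η⟯ :=
    add_mem (IntermediateField.mem_adjoin_simple_self K _) (IntermediateField.algebraMap_mem _ _)
  simpa using h2

section PerV
variable {A : Type u} {K : Type*} [CommRing A] [IsDomain A] [IsDiscreteValuationRing A]
  [Field K] [Algebra A K] [IsFractionRing A K] {π : A}
  (hπ : maximalIdeal A = Ideal.span {π})
  {L : Type u} [Field L] [Algebra K L] [Algebra A L] [IsScalarTower A K L]
  {V : ValuationSubring L} (h : EtRam.Dominates A (algebraMap A L) V)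
  [algAV : Algebra A V] (hc : ∀ a : A, ((algebraMap A V a : V) : L) = algebraMap A L a)

include hπ h hc in
include K in
variable (K) in
theorem weaklyUnramified_of_val
    (hkey : ∀ x : L, V.valuation x < 1 → V.valuation x ≤ V.valuation (algebraMap A L π)) :
    EtRam.IsWeaklyUnramified A V := by
  unfold EtRam.IsWeaklyUnramified
  apply le_antisymm
  · rw [Ideal.map_le_iff_le_comap]
    intro a ha
    rw [Ideal.mem_comap, V.valuation_lt_one_iff, hc]
    exact h.2 a ha
  · intro x hx
    rw [V.valuation_lt_one_iff] at hx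
    have hle := hkey _ hx
    have hπ0 : V.valuation (algebraMap A L π) ≠ 0 := val_pi_ne_zero K hπ h
    have hπ0' : algebraMap A L π ≠ 0 := (Valuation.ne_zero_iff _).mp hπ0
    have hq : (x : L) / algebraMap A L π ∈ V := by
      rw [← V.valuation_le_one_iff, map_div₀]
      exact (div_le_one₀ (zero_lt_iff.mpr hπ0)).mpr hle
    have hx' : x = algebraMap A V π * ⟨(x : L) / algebraMap A L π, hq⟩ := by
      apply Subtype.ext
      rw [MulMemClass.coe_mul, hc]
      field_simp
    rw [hx']
    exact Ideal.mul_mem_right _ _ (Ideal.mem_map_of_mem _ (pi_mem hπ))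

include hc in
theorem residue_repr [IsLocalHom (algebraMap A V)] {p : ℕ} {θ : L} (hθ : θ ∈ V)
    (hmem : ∀ x ∈ V, ∃ a : Fin p → A, x = ∑ i, algebraMap A L (a i) * θ ^ (i : ℕ))
    (y : ResidueField V) :
    ∃ a : Fin p → A, y = ∑ i, algebraMap (ResidueField A) (ResidueField V) (residue A (a i))
      * (residue V ⟨θ, hθ⟩) ^ (i : ℕ) := by
  obtain ⟨x, rfl⟩ := residue_surjective y
  obtain ⟨a, ha⟩ := hmem x x.2
  refine ⟨a, ?_⟩
  have hx : x = ∑ i, algebraMap A V (a i) * (⟨θ, hθ⟩ : V) ^ (i : ℕ) := by
    apply Subtype.ext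
    rw [ha]
    have : (V.subtype (∑ i, algebraMap A V (a i) * (⟨θ, hθ⟩ : V) ^ (i : ℕ)) : L)
        = ∑ i, algebraMap A L (a i) * θ ^ (i : ℕ) := by
      rw [map_sum]
      refine Finset.sum_congr rfl fun i _ => ?_
      rw [map_mul, map_pow]
      exact congrArg₂ _ (hc (a i)) rfl
    exact this.symm
  rw [hx, map_sum]
  refine Finset.sum_congr rfl fun i _ => ?_
  rw [map_mul, map_pow, ResidueField.algebraMap_residue]

include hc in
theorem residue_root [IsLocalHom (algebraMap A V)] (H : A[X]) {θ : L} (hθ : θ ∈ V)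
    (hroot : aeval θ H = 0) :
    aeval (residue V ⟨θ, hθ⟩) (H.map (residue A)) = 0 := by
  have h1 : eval₂ (algebraMap A V) (⟨θ, hθ⟩ : V) H = 0 := by
    apply Subtype.ext
    have h2 := Polynomial.hom_eval₂ H (algebraMap A V) V.subtype ⟨θ, hθ⟩
    have hcomp : V.subtype.comp (algebraMap A V) = algebraMap A L := RingHom.ext hc
    rw [hcomp] at h2
    exact h2.trans hroot
  rw [aeval_def, eval₂_map]
  have hcomp2 : (algebraMap (ResidueField A) (ResidueField V)).comp (residue A)
      = (residue V).comp (algebraMap A V) :=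
    RingHom.ext fun a => ResidueField.algebraMap_residue a
  rw [hcomp2, ← Polynomial.hom_eval₂, h1, map_zero]

include hπ h hc in
theorem inert_main [IsLocalHom (algebraMap A V)] {p : ℕ} (hp0 : 0 < p) (H : A[X]) (hH : H.Monic)
    (hdeg : H.natDegree = p) (hirr : Irreducible (H.map (residue A))) {θ : L}
    (hroot : aeval θ H = 0)
    (hspan : ∀ x : L, ∃ c : Fin p → K, x = ∑ i, algebraMap K L (c i) * θ ^ (i : ℕ)) :
    EtRam.IsWeaklyUnramified A V ∧ Module.finrank (ResidueField A) (ResidueField V) = p ∧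
      ∃ θ' : ResidueField V, aeval θ' (H.map (residue A)) = 0 ∧
        ∀ y : ResidueField V, ∃ a : Fin p → ResidueField A,
          y = ∑ i, algebraMap (ResidueField A) (ResidueField V) (a i) * θ' ^ (i : ℕ) := by
  obtain ⟨hθ, hK⟩ := inert_KProp hπ h hp0 H hH hdeg hirr hroot
  have hmem := mem_iff_of_good hπ h p θ hθ hK hspan
  have hrep : ∀ y : ResidueField V, ∃ a : Fin p → ResidueField A,
      y = ∑ i, algebraMap (ResidueField A) (ResidueField V) (a i)
        * (residue V ⟨θ, hθ⟩) ^ (i : ℕ) := by
    intro y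
    obtain ⟨a, ha⟩ := residue_repr hc hθ (fun x hx => (hmem x).mp hx) y
    exact ⟨fun i => residue A (a i), ha⟩
  have hroot' := residue_root hc H hθ hroot
  refine ⟨?_, ?_, residue V ⟨θ, hθ⟩, hroot', hrep⟩
  · apply weaklyUnramified_of_val K hπ h hc
    intro x hx
    have hxV : x ∈ V := (V.valuation_le_one_iff x).mp hx.le
    obtain ⟨a, rfl⟩ := (hmem x).mp hxV
    have ha := inert_lt_one h hp0 H hH hdeg hirr hroot a hx
    choose a' ha' using fun i => (mem_max_iff hπ).mp (ha i)
    have e : ∑ i, algebraMap A L (a i) * θ ^ (i : ℕ)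
        = algebraMap A L π * ∑ i, algebraMap A L (a' i) * θ ^ (i : ℕ) := by
      rw [Finset.mul_sum]
      refine Finset.sum_congr rfl fun i _ => ?_
      rw [ha' i, map_mul, mul_assoc]
    rw [e, map_mul]
    exact mul_le_of_le_one_right' ((V.valuation_le_one_iff _).mpr
      (sum_mem fun i _ => mul_mem (h.1 _) (pow_mem hθ _)))
  · exact finrank_of_repr _ (H.map (residue A)) (hH.map _) hirr
      (by rw [hH.natDegree_map, hdeg]) hroot' hrep

omit algAV in
include hπ h in
theorem dense_key
    (hD : ∀ b : L, b ≠ 0 → ∃ b' : K, V.valuation (b - algebraMap K L b') < V.valuation b)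
    (x : L) (hx : V.valuation x < 1) :
    V.valuation x ≤ V.valuation (algebraMap A L π) := by
  by_cases hx0 : x = 0
  · rw [hx0, map_zero]
    exact zero_le
  obtain ⟨b', hb'⟩ := hD x hx0
  have heq : V.valuation (algebraMap K L b') = V.valuation x := by
    have e : algebraMap K L b' = x - (x - algebraMap K L b') := by ring
    rw [e]
    exact Valuation.map_sub_eq_of_lt_left _ hb'
  have hb'V : algebraMap K L b' ∈ V := (V.valuation_le_one_iff _).mp (heq ▸ hx.le)
  obtain ⟨a, rfl⟩ := mem_range_of_mem hπ h b' hb'V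
  rw [← IsScalarTower.algebraMap_apply] at heq
  rw [← heq]
  apply val_le_pi_of_mem hπ h
  rw [← val_lt_one_iff h, heq]
  exact hx

omit algAV in
include hπ h in
theorem dense_residue
    (hD : ∀ b : L, b ≠ 0 → ∃ b' : K, V.valuation (b - algebraMap K L b') < V.valuation b)
    (x : V) : ∃ a : A, V.valuation ((x : L) - algebraMap A L a) < 1 := by
  by_cases hx0 : (x : L) = 0
  · exact ⟨0, by rw [hx0, map_zero, sub_zero, map_zero]; exact zero_lt_one⟩
  obtain ⟨b', hb'⟩ := hD x hx0
  have hx1 : V.valuation (x : L) ≤ 1 := V.valuation_le_one x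
  have hb'V : algebraMap K L b' ∈ V := by
    have e : algebraMap K L b' = x - (x - algebraMap K L b') := by ring
    rw [e]
    exact sub_mem x.2 ((V.valuation_le_one_iff _).mp (hb'.le.trans hx1))
  obtain ⟨a, rfl⟩ := mem_range_of_mem hπ h b' hb'V
  exact ⟨a, by rw [IsScalarTower.algebraMap_apply A K L]; exact lt_of_lt_of_le hb' hx1⟩

include hc in
theorem separable_of_dense [IsLocalHom (algebraMap A V)]
    (hres : ∀ x : V, ∃ a : A, V.valuation ((x : L) - algebraMap A L a) < 1) :
    Algebra.IsSeparable (ResidueField A) (ResidueField V) := by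
  apply separable_of_surjective
  intro y
  obtain ⟨x, rfl⟩ := residue_surjective y
  obtain ⟨a, ha⟩ := hres x
  refine ⟨residue A a, ?_⟩
  rw [ResidueField.algebraMap_residue, ← sub_eq_zero, ← map_sub, residue_eq_zero_iff,
    V.valuation_lt_one_iff]
  have e : ((algebraMap A V a - x : V) : L) = algebraMap A L a - (x : L) := by
    rw [AddSubgroupClass.coe_sub, hc]
  rw [e, Valuation.map_sub_swap]
  exact ha

omit algAV in
theorem residue_surj_of
    (hres : ∀ x : V, ∃ a : A, V.valuation ((x : L) - algebraMap A L a) < 1) :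
    Function.Surjective
      (fun a : A => residue V (RingHom.codRestrict (algebraMap A L) V h.1 a)) := by
  intro y
  obtain ⟨x, rfl⟩ := residue_surjective y
  obtain ⟨a, ha⟩ := hres x
  refine ⟨a, ?_⟩
  show residue V (RingHom.codRestrict (algebraMap A L) V h.1 a) = residue V x
  rw [← sub_eq_zero, ← map_sub, residue_eq_zero_iff, V.valuation_lt_one_iff]
  have e : ((RingHom.codRestrict (algebraMap A L) V h.1 a - x : V) : L)
      = algebraMap A L a - (x : L) := rfl
  rw [e, Valuation.map_sub_swap]
  exact ha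

end PerV

end Groth.Agent.Lib.Helper27.ASR
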