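import Mathlib
import Groth.Prelude.Def_EtRam
import Groth.Agent.Lib.Helper27.ASR5

/-! Case (A): `ξ ∈ A`. -/

set_option autoImplicit false

namespace Groth.Agent.Lib.Helper27.ASR
open IsLocalRing Polynomial IntermediateField

universe u

section CaseA
variable {A : Type u} {K : Type*} [CommRing A] [IsDomain A] [IsDiscreteValuationRing A]
  [Field K] [Algebra A K] [IsFractionRing A K] {π : A}
  (hπ : maximalIdeal A = Ideal.span {π})
  {L : Type u} [Field L] [Algebra K L] [Algebra A L] [IsScalarTower A K L]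
  {V : ValuationSubring L} (h : EtRam.Dominates A (algebraMap A L) V)

include hπ h in
theorem dense_of_t (p : ℕ) [hp : Fact p.Prime] [CharP K p] (t : L) (a₁ : A)
    (ht : t ^ p - t = algebraMap A L a₁) (hgen : K⟮t⟯ = ⊤) (htV : V.valuation t < 1) :
    ∀ b : L, b ≠ 0 → ∃ b' : K, V.valuation (b - algebraMap K L b') < V.valuation b := by
  haveI : CharP L p := charP_of_injective_algebraMap (algebraMap K L).injective p
  have hω1 : V.valuation (algebraMap A L π) < 1 := val_pi_lt_one hπ h
  have hω0 : V.valuation (algebraMap A L π) ≠ 0 := val_pi_ne_zero K hπ h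
  have hp2 : 2 ≤ p := hp.out.two_le
  have ht' : t ^ p - t = algebraMap K L (algebraMap A K a₁) := by
    rw [← IsScalarTower.algebraMap_apply]
    exact ht
  have hspan := span_pow p t (X ^ p - X - C (algebraMap A K a₁)) (as_monic p _)
    (as_natDegree p _) (as_aeval p _ t ht') hgen
  have htmem : t ∈ V := (V.valuation_le_one_iff t).mp htV.le
  have hfac : t * (t ^ (p - 1) - 1) = algebraMap A L a₁ := by
    rw [← ht, mul_sub, mul_one, ← pow_succ', Nat.sub_add_cancel (by omega)]
  have hu : V.valuation (t ^ (p - 1) - 1) = 1 := by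
    rw [Valuation.map_sub_swap]
    apply Valuation.map_one_sub_of_lt
    rw [map_pow]
    exact pow_lt_one' htV (by omega)
  have hta : V.valuation t = V.valuation (algebraMap A L a₁) := by
    rw [← hfac, map_mul, hu, mul_one]
  have ha₁ : a₁ ∈ maximalIdeal A := by
    rw [← val_lt_one_iff h, ← hta]
    exact htV
  have htω : V.valuation t ≤ V.valuation (algebraMap A L π) := by
    rw [hta]
    exact val_le_pi_of_mem hπ h ha₁
  have hbound : ∀ c : Fin p → K, ∃ M : ℕ, ∀ y : Fin p → L, (∀ i, y i ∈ V) →
      V.valuation (∑ i, algebraMap K L (c i) * y i) * V.valuation (algebraMap A L π) ^ M ≤ 1 := by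
    intro c
    obtain ⟨M, hM⟩ := exists_scale_fam hπ c
    choose a ha using hM
    refine ⟨M, fun y hy => ?_⟩
    rw [← map_pow, ← map_mul, Finset.sum_mul, V.valuation_le_one_iff]
    refine sum_mem fun i _ => ?_
    have e : algebraMap K L (c i) * y i * algebraMap A L π ^ M = algebraMap A L (a i) * y i := by
      rw [IsScalarTower.algebraMap_apply A K L (a i), ← ha i, map_mul, map_pow,
        ← IsScalarTower.algebraMap_apply]
      ring
    rw [e]
    exact mul_mem (h.1 _) (hy i)
  obtain ⟨α, hα0, hαs⟩ : ∃ α : ℕ → A, α 0 = 0 ∧ ∀ k, α (k + 1) = α k ^ p - a₁ :=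
    ⟨fun k => Nat.rec 0 (fun _ x => x ^ p - a₁) k, rfl, fun _ => rfl⟩
  have hα : ∀ k, t - algebraMap A L (α k) = t ^ p ^ k := by
    intro k
    induction k with
    | zero => rw [hα0, map_zero, sub_zero, pow_zero, pow_one]
    | succ k ih =>
      rw [hαs, map_sub, map_pow, pow_succ, pow_mul, ← ih, sub_pow_char, ← ht]
      ring
  intro b hb0
  obtain ⟨c, hc⟩ := hspan b
  obtain ⟨M, hM⟩ := hbound c
  obtain ⟨c', hc'⟩ := hspan b⁻¹
  obtain ⟨M', hM'⟩ := hbound c'
  have hwb0 : V.valuation b ≠ 0 := (Valuation.ne_zero_iff _).mpr hb0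
  have hlow : V.valuation (algebraMap A L π) ^ M' ≤ V.valuation b := by
    have h1 := hM' (fun i => t ^ (i : ℕ)) (fun i => pow_mem htmem _)
    rw [← hc', map_inv₀] at h1
    have h2 := (inv_mul_le_iff₀ (zero_lt_iff.mpr hwb0)).mp h1
    rwa [mul_one] at h2
  have hαmem : algebraMap A L (α (M + M')) ∈ V := h.1 _
  refine ⟨∑ i, c i * algebraMap A K (α (M + M')) ^ (i : ℕ), ?_⟩
  have hdiff : b - algebraMap K L (∑ i, c i * algebraMap A K (α (M + M')) ^ (i : ℕ))
      = (∑ i : Fin p, algebraMap K L (c i) * ∑ j ∈ Finset.range (i : ℕ),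
          t ^ j * algebraMap A L (α (M + M')) ^ ((i : ℕ) - 1 - j))
        * (t - algebraMap A L (α (M + M'))) := by
    rw [hc, map_sum, ← Finset.sum_sub_distrib, Finset.sum_mul]
    refine Finset.sum_congr rfl fun i _ => ?_
    rw [map_mul, map_pow, ← IsScalarTower.algebraMap_apply, mul_assoc, geom_sum₂_mul, mul_sub]
  have hle : V.valuation (b - algebraMap K L (∑ i, c i * algebraMap A K (α (M + M')) ^ (i : ℕ)))
      * V.valuation (algebraMap A L π) ^ M ≤ V.valuation (algebraMap A L π) ^ p ^ (M + M') := by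
    rw [hdiff, map_mul, hα (M + M'), map_pow, mul_right_comm]
    calc V.valuation (∑ i : Fin p, algebraMap K L (c i) * ∑ j ∈ Finset.range (i : ℕ),
            t ^ j * algebraMap A L (α (M + M')) ^ ((i : ℕ) - 1 - j))
          * V.valuation (algebraMap A L π) ^ M * V.valuation t ^ p ^ (M + M')
        ≤ 1 * V.valuation t ^ p ^ (M + M') :=
          mul_le_mul' (hM (fun i => ∑ j ∈ Finset.range (i : ℕ),
            t ^ j * algebraMap A L (α (M + M')) ^ ((i : ℕ) - 1 - j))
            (fun i => sum_mem fun j _ => mul_mem (pow_mem htmem _) (pow_mem hαmem _))) le_rfl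
      _ = V.valuation t ^ p ^ (M + M') := one_mul _
      _ ≤ V.valuation (algebraMap A L π) ^ p ^ (M + M') := pow_le_pow_left' htω _
  have hlt : V.valuation (algebraMap A L π) ^ p ^ (M + M')
      < V.valuation b * V.valuation (algebraMap A L π) ^ M := by
    calc V.valuation (algebraMap A L π) ^ p ^ (M + M')
        < V.valuation (algebraMap A L π) ^ (M' + M) :=
          pow_lt_pow_right_of_lt_one₀ (zero_lt_iff.mpr hω0) hω1
            (by rw [add_comm]; exact Nat.lt_pow_self hp.out.one_lt)
      _ = V.valuation (algebraMap A L π) ^ M' * V.valuation (algebraMap A L π) ^ M :=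
          pow_add _ _ _
      _ ≤ V.valuation b * V.valuation (algebraMap A L π) ^ M := mul_le_mul' hlow le_rfl
  by_contra hcon
  rw [not_lt] at hcon
  exact absurd (lt_of_le_of_lt ((mul_le_mul' hcon le_rfl).trans hle) hlt) (lt_irrefl _)

include h in
theorem exists_t (p : ℕ) [hp : Fact p.Prime] [CharP K p] (z : L) (a : A)
    (hz : z ^ p - z = algebraMap A L a) (hgen : K⟮z⟯ = ⊤) (c : A)
    (hcres : residue A c ^ p - residue A c = residue A a) :
    ∃ (t : L) (a₁ : A), t ^ p - t = algebraMap A L a₁ ∧ K⟮t⟯ = ⊤ ∧ V.valuation t < 1 := by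
  haveI : CharP L p := charP_of_injective_algebraMap (algebraMap K L).injective p
  have hp2 : 2 ≤ p := hp.out.two_le
  have hzV : z ∈ V := by
    apply mem_of_monic_root h (X ^ p - C 1 * X - C a) (tri_monic hp2 1 a) z
    simp only [map_sub, map_mul, map_pow, aeval_X, aeval_C, map_one, one_mul]
    rw [hz, sub_self]
  have hz1V : z - algebraMap A L c ∈ V := sub_mem hzV (h.1 c)
  haveI : CharP (ResidueField V) p := by
    rw [CharP.charP_iff_prime_eq_zero hp.out, ← map_natCast (residue V)]
    have e : ((p : ℕ) : V) = 0 := by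
      apply Subtype.ext
      push_cast
      exact CharP.cast_eq_zero L p
    rw [e, map_zero]
  have hdiff : a - (c ^ p - c) ∈ maximalIdeal A := by
    rw [← residue_eq_zero_iff, map_sub, map_sub, map_pow, hcres, sub_self]
  have hrel : (⟨z - algebraMap A L c, hz1V⟩ : V) ^ p - ⟨z - algebraMap A L c, hz1V⟩
      ∈ maximalIdeal V := by
    rw [V.valuation_lt_one_iff]
    have e : (((⟨z - algebraMap A L c, hz1V⟩ : V) ^ p - ⟨z - algebraMap A L c, hz1V⟩ : V) : L)
        = algebraMap A L (a - (c ^ p - c)) := by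
      show (z - algebraMap A L c) ^ p - (z - algebraMap A L c) = _
      rw [sub_pow_char, map_sub, map_sub, map_pow, ← hz]
      ring
    rw [e]
    exact h.2 _ hdiff
  have hζ : (residue V ⟨z - algebraMap A L c, hz1V⟩) ^ p
      = residue V ⟨z - algebraMap A L c, hz1V⟩ := by
    rw [← sub_eq_zero, ← map_pow, ← map_sub, residue_eq_zero_iff]
    exact hrel
  obtain ⟨i, -, hi⟩ := eq_natCast_of_pow_eq p _ hζ
  have hival : V.valuation (z - algebraMap A L c - (i : L)) < 1 := by
    have h1 : (⟨z - algebraMap A L c, hz1V⟩ : V) - (i : V) ∈ maximalIdeal V := by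
      rw [← residue_eq_zero_iff, map_sub, map_natCast, hi, sub_self]
    rw [V.valuation_lt_one_iff] at h1
    have e : (((⟨z - algebraMap A L c, hz1V⟩ : V) - (i : V) : V) : L)
        = z - algebraMap A L c - (i : L) := by
      push_cast
      rfl
    rwa [e] at h1
  refine ⟨z - algebraMap A L (c + (i : A)), a - ((c + (i : A)) ^ p - (c + (i : A))), ?_, ?_, ?_⟩
  · rw [sub_pow_char, map_sub, map_sub, map_pow, ← hz]
    ring
  · rw [IsScalarTower.algebraMap_apply A K L]
    exact adjoin_sub_eq_top z _ hgen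
  · rw [map_add, map_natCast, ← sub_sub]
    exact hival

variable [algAV : Algebra A V] (hc : ∀ a : A, ((algebraMap A V a : V) : L) = algebraMap A L a)

include hπ h hc in
theorem caseA_V [IsLocalHom (algebraMap A V)] (p : ℕ) [hp : Fact p.Prime] [CharP K p] (z : L)
    (a : A) (hz : z ^ p - z = algebraMap A L a) (hgen : K⟮z⟯ = ⊤) :
    EtRam.IsWeaklyUnramified A V ∧
      Algebra.IsSeparable (ResidueField A) (ResidueField V) := by
  haveI : CharP (ResidueField A) p := charP_residue A K p
  have hp2 := hp.out.two_le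
  by_cases hκ : ∃ c' : ResidueField A, c' ^ p - c' = residue A a
  · obtain ⟨c', hc'⟩ := hκ
    obtain ⟨c, rfl⟩ := residue_surjective c'
    obtain ⟨t, a₁, ht, htgen, htV⟩ := exists_t h p z a hz hgen c hc'
    have hD := dense_of_t hπ h p t a₁ ht htgen htV
    exact ⟨weaklyUnramified_of_val K hπ h hc (dense_key hπ h hD),
      separable_of_dense hc (dense_residue hπ h hD)⟩
  · push_neg at hκ
    have hz' : z ^ p - z = algebraMap K L (algebraMap A K a) := by
      rw [← IsScalarTower.algebraMap_apply]
      exact hz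
    have hspan := span_pow p z (X ^ p - X - C (algebraMap A K a)) (as_monic p _)
      (as_natDegree p _) (as_aeval p _ z hz') hgen
    have hHmap : (X ^ p - C 1 * X - C a : A[X]).map (residue A)
        = X ^ p - X - C (residue A a) := by
      simp [Polynomial.map_sub, Polynomial.map_mul, Polynomial.map_pow]
    have hirr : Irreducible ((X ^ p - C 1 * X - C a : A[X]).map (residue A)) := by
      rw [hHmap]
      exact as_irreducible p _ hκ
    have hroot : aeval z (X ^ p - C 1 * X - C a : A[X]) = 0 := by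
      simp only [map_sub, map_mul, map_pow, aeval_X, aeval_C, map_one, one_mul]
      rw [hz, sub_self]
    obtain ⟨hWU, -, θ', hθ'root, hrep⟩ := inert_main hπ h hc (by omega) _ (tri_monic hp2 1 a)
      (tri_natDegree hp2 1 a) hirr hroot hspan
    refine ⟨hWU, separable_of_repr θ' ?_ hrep⟩
    rw [hHmap] at hθ'root
    unfold IsSeparable
    rw [← minpoly.eq_of_irreducible_of_monic (as_irreducible p _ hκ) hθ'root (as_monic p _)]
    exact as_separable p _

end CaseA

section CaseA'
variable {A : Type u} {K : Type u} [CommRing A] [IsDomain A] [IsDiscreteValuationRing A]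
  [Field K] [Algebra A K] [IsFractionRing A K] {π : A}
  (hπ : maximalIdeal A = Ideal.span {π})
  {L : Type u} [Field L] [Algebra K L] [Algebra A L] [IsScalarTower A K L]

include hπ in
theorem caseA (p : ℕ) [hp : Fact p.Prime] [CharP K p] (ξ : K) (z : L)
    (hz : z ^ p - z = algebraMap K L ξ) (hgen : K⟮z⟯ = ⊤) (a : A) (ha : algebraMap A K a = ξ) :
    Module.finrank K L = 1 ∨
      (EtRam.IsUnramifiedExt A (algebraMap A L) ∧ Module.finrank K L = p) := by
  by_cases hroot : ∃ r : K, r ^ p - r = ξ
  · obtain ⟨r, hr⟩ := hroot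
    exact Or.inl (as_finrank_of_root p ξ z hz hgen r hr)
  · push_neg at hroot
    refine Or.inr ⟨?_, as_finrank_of_no_root p ξ z hz hgen hroot⟩
    intro V h hloc
    have hz' : z ^ p - z = algebraMap A L a := by
      rw [hz, ← ha, ← IsScalarTower.algebraMap_apply]
    exact caseA_V (algAV := (RingHom.codRestrict (algebraMap A L) V h.1).toAlgebra) hπ h
      (fun _ => rfl) p z a hz' hgen

end CaseA'

end Groth.Agent.Lib.Helper27.ASR
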