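import Mathlib
import Groth.Prelude.Def_EtRam
import Groth.Agent.Lib.Helper27.ASR6

/-! Cases (B) (totally ramified) and (C) (fierce ramification). -/

set_option autoImplicit false

namespace Groth.Agent.Lib.Helper27.ASR
open IsLocalRing Polynomial IntermediateField

universe u

theorem pow_calc {M : Type*} [CommMonoid M] (W ω : M) (p n s t : ℕ) (hst : s * n + 1 = t * p)
    (hW : W ^ p * ω ^ n = 1) : (W ^ s * ω ^ t) ^ p = ω := by
  have e1 : (W ^ s) ^ p = (W ^ p) ^ s := by rw [← pow_mul, ← pow_mul, mul_comm]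
  have e2 : (ω ^ t) ^ p = (ω ^ n) ^ s * ω := by
    calc (ω ^ t) ^ p = ω ^ (t * p) := (pow_mul _ _ _).symm
      _ = ω ^ (s * n + 1) := by rw [hst]
      _ = ω ^ (s * n) * ω := pow_succ _ _
      _ = (ω ^ n) ^ s * ω := by rw [pow_mul']
  rw [mul_pow, e1, e2, ← mul_assoc, ← mul_pow, hW, one_pow, one_mul]

theorem exists_st {p n : ℕ} (hp : p.Prime) (hpn : ¬ p ∣ n) : ∃ s t : ℕ, s * n + 1 = t * p := by
  have hcop : Nat.Coprime n p := ((Nat.Prime.coprime_iff_not_dvd hp).mpr hpn).symm
  obtain ⟨m, -, hm⟩ := Nat.exists_mul_mod_eq_one_of_coprime hcop hp.one_lt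
  obtain ⟨p', rfl⟩ : ∃ p', p = p' + 1 := ⟨p - 1, by have := hp.pos; omega⟩
  have hdiv := Nat.div_add_mod (n * m) (p' + 1)
  rw [hm] at hdiv
  refine ⟨m * p', (n * m / (p' + 1)) * p' + 1, ?_⟩
  calc m * p' * n + 1 = p' * (n * m) + 1 := by ring
    _ = p' * ((p' + 1) * (n * m / (p' + 1)) + 1) + 1 := by rw [hdiv]
    _ = ((n * m / (p' + 1)) * p' + 1) * (p' + 1) := by ring

section Ram
variable {A : Type u} {K : Type*} [CommRing A] [IsDomain A] [IsDiscreteValuationRing A]
  [Field K] [Algebra A K] [IsFractionRing A K] {π : A}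
  (hπ : maximalIdeal A = Ideal.span {π})
  {L : Type u} [Field L] [Algebra K L] [Algebra A L] [IsScalarTower A K L]
  {V : ValuationSubring L} (h : EtRam.Dominates A (algebraMap A L) V)

include hπ h in
include K in
variable (K) in
theorem ram_KProp {p : ℕ} (Θ : L)
    (hΘ : V.valuation Θ ^ p = V.valuation (algebraMap A L π)) :
    V.valuation Θ < 1 ∧ KProp π V p Θ := by
  classical
  have hω1 := val_pi_lt_one hπ h
  have hω0 := val_pi_ne_zero K hπ h
  rw [← hΘ] at hω1 hω0
  have hp0 : p ≠ 0 := by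
    rintro rfl
    rw [pow_zero] at hω1
    exact lt_irrefl _ hω1
  have hϖ0 : V.valuation Θ ≠ 0 := fun h0 => hω0 (by rw [h0, zero_pow hp0])
  have hϖpos : 0 < V.valuation Θ := zero_lt_iff.mpr hϖ0
  have hϖ1 : V.valuation Θ < 1 := by
    by_contra hge
    rw [not_lt] at hge
    exact absurd (one_le_pow_of_one_le' hge p) (not_le.mpr hω1)
  refine ⟨hϖ1, ?_⟩
  intro a hle
  by_contra hex
  push Not at hex
  obtain ⟨i₀, hi₀⟩ := hex
  let S := Finset.univ.filter (fun i : Fin p => a i ∉ maximalIdeal A)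
  have hS : S.Nonempty := ⟨i₀, Finset.mem_filter.mpr ⟨Finset.mem_univ _, hi₀⟩⟩
  obtain ⟨j₀, hj₀⟩ : ∃ j₀, j₀ = S.min' hS := ⟨_, rfl⟩
  have hj₀S : j₀ ∈ S := hj₀ ▸ Finset.min'_mem S hS
  have hj₀u : a j₀ ∉ maximalIdeal A := (Finset.mem_filter.mp hj₀S).2
  have hlow : ∀ i : Fin p, i < j₀ → a i ∈ maximalIdeal A := by
    intro i hi
    by_contra hni
    have hiS : i ∈ S := Finset.mem_filter.mpr ⟨Finset.mem_univ _, hni⟩
    exact absurd (hj₀ ▸ Finset.min'_le S i hiS) (not_le.mpr hi)
  have hunit : IsUnit (a j₀) := by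
    rwa [mem_maximalIdeal, mem_nonunits_iff, not_not] at hj₀u
  have hterm : V.valuation (algebraMap A L (a j₀) * Θ ^ (j₀ : ℕ)) = V.valuation Θ ^ (j₀ : ℕ) := by
    rw [map_mul, map_pow, val_unit h hunit, one_mul]
  have hrest : V.valuation (∑ i ∈ Finset.univ.erase j₀, algebraMap A L (a i) * Θ ^ (i : ℕ))
      < V.valuation Θ ^ (j₀ : ℕ) := by
    apply Valuation.map_sum_lt _ (pow_ne_zero _ hϖ0)
    intro i hi
    have hne : i ≠ j₀ := Finset.ne_of_mem_erase hi
    rw [map_mul, map_pow]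
    rcases lt_or_gt_of_ne hne with hlt | hgt
    · calc V.valuation (algebraMap A L (a i)) * V.valuation Θ ^ (i : ℕ)
          ≤ V.valuation Θ ^ p * V.valuation Θ ^ (i : ℕ) :=
            mul_le_mul' ((val_le_pi_of_mem hπ h (hlow i hlt)).trans_eq hΘ.symm) le_rfl
        _ = V.valuation Θ ^ (p + (i : ℕ)) := (pow_add _ _ _).symm
        _ < V.valuation Θ ^ (j₀ : ℕ) :=
            pow_lt_pow_right_of_lt_one₀ hϖpos hϖ1 (by have := j₀.2; omega)
    · calc V.valuation (algebraMap A L (a i)) * V.valuation Θ ^ (i : ℕ)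
          ≤ 1 * V.valuation Θ ^ (i : ℕ) := mul_le_mul' (val_le_one h _) le_rfl
        _ = V.valuation Θ ^ (i : ℕ) := one_mul _
        _ < V.valuation Θ ^ (j₀ : ℕ) :=
            pow_lt_pow_right_of_lt_one₀ hϖpos hϖ1 (Fin.lt_def.mp hgt)
  have hsum : V.valuation (∑ i, algebraMap A L (a i) * Θ ^ (i : ℕ))
      = V.valuation Θ ^ (j₀ : ℕ) := by
    rw [← Finset.add_sum_erase _ _ (Finset.mem_univ j₀), ← hterm]
    apply Valuation.map_add_eq_of_lt_left
    rw [hterm]
    exact hrest
  rw [hsum, ← hΘ] at hle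
  exact absurd hle (not_le.mpr (pow_lt_pow_right_of_lt_one₀ hϖpos hϖ1 j₀.2))

include h in
theorem ram_residue {p : ℕ} (hp0 : 0 < p) (Θ : L) (hΘV : V.valuation Θ < 1)
    (hmem : ∀ x ∈ V, ∃ a : Fin p → A, x = ∑ i, algebraMap A L (a i) * Θ ^ (i : ℕ)) (x : V) :
    ∃ a : A, V.valuation ((x : L) - algebraMap A L a) < 1 := by
  classical
  obtain ⟨a, ha⟩ := hmem x x.2
  refine ⟨a ⟨0, hp0⟩, ?_⟩
  rw [ha, ← Finset.add_sum_erase _ _ (Finset.mem_univ (⟨0, hp0⟩ : Fin p))]
  simp only [pow_zero, mul_one, add_sub_cancel_left]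
  apply Valuation.map_sum_lt _ one_ne_zero
  intro i hi
  have hne : i ≠ ⟨0, hp0⟩ := Finset.ne_of_mem_erase hi
  have hi0 : (i : ℕ) ≠ 0 := fun h0 => hne (Fin.ext h0)
  rw [map_mul, map_pow]
  calc V.valuation (algebraMap A L (a i)) * V.valuation Θ ^ (i : ℕ)
      ≤ 1 * V.valuation Θ ^ (i : ℕ) := mul_le_mul' (val_le_one h _) le_rfl
    _ = V.valuation Θ ^ (i : ℕ) := one_mul _
    _ < 1 := pow_lt_one' hΘV hi0

end Ram

section CaseBC
variable {A : Type u} {K : Type u} [CommRing A] [IsDomain A] [IsDiscreteValuationRing A]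
  [Field K] [Algebra A K] [IsFractionRing A K] {π : A}
  (hπ : maximalIdeal A = Ideal.span {π})
  {L : Type u} [Field L] [Algebra K L] [Algebra A L] [IsScalarTower A K L]

include hπ in
theorem caseB (p : ℕ) [hp : Fact p.Prime] [CharP K p] (ξ : K) (z : L)
    (hz : z ^ p - z = algebraMap K L ξ) (hgen : K⟮z⟯ = ⊤) (n : ℕ) (a : Aˣ) (hn : 0 < n)
    (hpn : ¬ p ∣ n) (hξ : ξ * algebraMap A K π ^ n = algebraMap A K a) :
    EtRam.IsTotallyRamified A (algebraMap A L) ∧ Module.finrank K L = p := by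
  obtain ⟨s, t, hst⟩ := exists_st hp.out hpn
  have hX : algebraMap K L ξ * algebraMap A L π ^ n = algebraMap A L a := by
    rw [IsScalarTower.algebraMap_apply A K L, IsScalarTower.algebraMap_apply A K L, ← map_pow,
      ← map_mul, hξ]
  have hgood : ∀ V : ValuationSubring L, EtRam.Dominates A (algebraMap A L) V →
      V.valuation (z ^ s * algebraMap A L π ^ t) ^ p = V.valuation (algebraMap A L π) := by
    intro V h
    have hω1 := val_pi_lt_one hπ h
    have hξω : V.valuation (algebraMap K L ξ) * V.valuation (algebraMap A L π) ^ n = 1 := by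
      rw [← map_pow, ← map_mul, hX]
      exact val_unit h a.isUnit
    have hz1 : 1 < V.valuation z := by
      by_contra hle
      rw [not_lt] at hle
      have hzV : z ∈ V := (V.valuation_le_one_iff z).mp hle
      have h1 : V.valuation (algebraMap K L ξ) ≤ 1 := by
        rw [← hz]
        exact (V.valuation_le_one_iff _).mpr (sub_mem (pow_mem hzV p) hzV)
      have h2 : V.valuation (algebraMap K L ξ) * V.valuation (algebraMap A L π) ^ n < 1 :=
        lt_of_le_of_lt (mul_le_mul' h1 le_rfl) (by rw [one_mul]; exact pow_lt_one' hω1 hn.ne')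
      exact absurd hξω h2.ne
    have hzp : V.valuation (z ^ p - z) = V.valuation z ^ p := by
      rw [← map_pow]
      apply Valuation.map_sub_eq_of_lt_left
      rw [map_pow]
      calc V.valuation z = V.valuation z ^ 1 := (pow_one _).symm
        _ < V.valuation z ^ p := pow_lt_pow_right₀ hz1 hp.out.one_lt
    have hW : V.valuation z ^ p * V.valuation (algebraMap A L π) ^ n = 1 := by
      rw [← hzp, hz]
      exact hξω
    rw [map_mul, map_pow, map_pow]
    exact pow_calc _ _ p n s t hst hW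
  obtain ⟨V₀, h₀⟩ := exists_dominating A L
  haveI : Module.Finite K L := as_finite p ξ z hz hgen
  have hK : ∀ V : ValuationSubring L, EtRam.Dominates A (algebraMap A L) V →
      z ^ s * algebraMap A L π ^ t ∈ V ∧ KProp π V p (z ^ s * algebraMap A L π ^ t) :=
    fun V h => ⟨(V.valuation_le_one_iff _).mp (ram_KProp K hπ h _ (hgood V h)).1.le,
      (ram_KProp K hπ h _ (hgood V h)).2⟩
  have hli := linearIndependent_pow_of_KProp (K := K) hπ h₀ p _ (hK V₀ h₀).2
  obtain ⟨hrank, hspan⟩ := span_of_indep p _ hp.out.pos (as_finrank_le p ξ z hz hgen) hli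
  refine ⟨⟨⟨V₀, h₀⟩, fun V V' h h' => unique_of_good hπ p _ hK hspan h h', fun V h => ?_⟩, hrank⟩
  apply residue_surj_of h
  have hmem := mem_iff_of_good hπ h p _ (hK V h).1 (hK V h).2 hspan
  exact ram_residue h hp.out.pos _ (ram_KProp K hπ h _ (hgood V h)).1
    (fun x hx => (hmem x).mp hx)

include hπ in
theorem caseC (p : ℕ) [hp : Fact p.Prime] [CharP K p] (ξ : K) (z : L)
    (hz : z ^ p - z = algebraMap K L ξ) (hgen : K⟮z⟯ = ⊤) (n : ℕ) (a : A) (hn : 0 < n)
    (hpn : p ∣ n) (hres : ∀ r : A, residue A a ≠ residue A r ^ p)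
    (hξ : ξ * algebraMap A K π ^ n = algebraMap A K a) :
    (∃ V : ValuationSubring L, EtRam.Dominates A (algebraMap A L) V) ∧
      (∀ V V' : ValuationSubring L, EtRam.Dominates A (algebraMap A L) V →
        EtRam.Dominates A (algebraMap A L) V' → V = V') ∧
      ∀ (V : ValuationSubring L) (h : EtRam.Dominates A (algebraMap A L) V),
        letI : Algebra A V := (RingHom.codRestrict (algebraMap A L) V h.1).toAlgebra
        ∀ [IsLocalHom (algebraMap A V)],
          EtRam.IsWeaklyUnramified A V ∧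
            IsPurelyInseparable (ResidueField A) (ResidueField V) ∧
            Module.finrank (ResidueField A) (ResidueField V) = p := by
  obtain ⟨m, rfl⟩ := hpn
  have hp2 := hp.out.two_le
  have hp0 : 0 < p := hp.out.pos
  have hm : 0 < m := Nat.pos_of_ne_zero (by rintro rfl; simp at hn)
  haveI : CharP (ResidueField A) p := charP_residue A K p
  obtain ⟨e, he1, he2⟩ : ∃ e, m + e = p * m ∧ 0 < e := by
    refine ⟨p * m - m, ?_, ?_⟩
    · have : m ≤ p * m := Nat.le_mul_of_pos_left m hp0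
      omega
    · have : 2 * m ≤ p * m := Nat.mul_le_mul_right m hp2
      omega
  have hX : algebraMap K L ξ * algebraMap A L π ^ (p * m) = algebraMap A L a := by
    rw [IsScalarTower.algebraMap_apply A K L, IsScalarTower.algebraMap_apply A K L, ← map_pow,
      ← map_mul, hξ]
  have hroot : aeval (z * algebraMap A L π ^ m) (X ^ p - C (π ^ e) * X - C a : A[X]) = 0 := by
    simp only [map_sub, map_mul, map_pow, aeval_X, aeval_C]
    have hpow : algebraMap A L π ^ (p * m) = algebraMap A L π ^ m * algebraMap A L π ^ e := by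
      rw [← pow_add, he1]
    linear_combination (algebraMap A L π ^ (p * m)) * hz + z * hpow + hX
  have hπ0 : residue A π = 0 := (residue_eq_zero_iff _).mpr (pi_mem hπ)
  have hHmap : (X ^ p - C (π ^ e) * X - C a : A[X]).map (residue A)
      = X ^ p - C (residue A a) := by
    simp [Polynomial.map_sub, Polynomial.map_mul, Polynomial.map_pow, hπ0, zero_pow he2.ne']
  have hirr0 : Irreducible (X ^ p - C (residue A a) : (ResidueField A)[X]) := by
    apply X_pow_sub_C_irreducible_of_prime hp.out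
    intro b
    obtain ⟨r, rfl⟩ := residue_surjective b
    exact (hres r).symm
  have hirr : Irreducible ((X ^ p - C (π ^ e) * X - C a : A[X]).map (residue A)) := by
    rw [hHmap]
    exact hirr0
  have hH := tri_monic hp2 (π ^ e) a
  have hdeg := tri_natDegree hp2 (π ^ e) a
  obtain ⟨V₀, h₀⟩ := exists_dominating A L
  haveI : Module.Finite K L := as_finite p ξ z hz hgen
  have hK : ∀ V : ValuationSubring L, EtRam.Dominates A (algebraMap A L) V →
      z * algebraMap A L π ^ m ∈ V ∧ KProp π V p (z * algebraMap A L π ^ m) :=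
    fun V h => inert_KProp hπ h hp0 _ hH hdeg hirr hroot
  have hli := linearIndependent_pow_of_KProp (K := K) hπ h₀ p _ (hK V₀ h₀).2
  obtain ⟨hrank, hspan⟩ := span_of_indep p _ hp0 (as_finrank_le p ξ z hz hgen) hli
  refine ⟨⟨V₀, h₀⟩, fun V V' h h' => unique_of_good hπ p _ hK hspan h h', ?_⟩
  intro V h hloc
  letI alg : Algebra A V := (RingHom.codRestrict (algebraMap A L) V h.1).toAlgebra
  obtain ⟨hWU, hfr, θ', hθ'root, hrep⟩ :=
    inert_main hπ h (fun _ => rfl) hp0 _ hH hdeg hirr hroot hspan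
  refine ⟨hWU, purelyInsep_of_repr p θ' (residue A a) ?_ hrep, hfr⟩
  rw [hHmap] at hθ'root
  simp only [map_sub, map_pow, aeval_X, aeval_C] at hθ'root
  exact sub_eq_zero.mp hθ'root

end CaseBC

end Groth.Agent.Lib.Helper27.ASR
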