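import Mathlib
import Groth.Prelude.Def_EtRam
import Groth.Agent.Lib.Helper27.ASR7

/-! Descent: the four-way classification for arbitrary `ξ`. -/

set_option autoImplicit false

namespace Groth.Agent.Lib.Helper27.ASR
open IsLocalRing Polynomial IntermediateField

universe u

theorem descent_calc {F : Type*} [Field F] (P ξ ιa ιr ιb : F) (hP0 : P ≠ 0) (p k e m : ℕ)
    (hk : m + 1 = p * k) (he : k + e = m) (ha : ξ * P ^ (m + 1) = ιa)
    (hb : ιa - ιr ^ p = P * ιb) :
    (ξ - (ιr / P ^ k) ^ p + ιr / P ^ k) * P ^ m = ιb + ιr * P ^ e := by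
  have hPk : P ^ k ≠ 0 := pow_ne_zero _ hP0
  apply mul_right_cancel₀ hP0
  have hη : ιr / P ^ k * P ^ k = ιr := div_mul_cancel₀ _ hPk
  have hpk : P ^ (m + 1) = (P ^ k) ^ p := by rw [← pow_mul, mul_comm, ← hk]
  have hke : P ^ (m + 1) = P ^ k * (P ^ e * P) := by
    rw [← he]
    ring
  have t2 : (ιr / P ^ k) ^ p * P ^ (m + 1) = ιr ^ p := by rw [hpk, ← mul_pow, hη]
  have t3 : ιr / P ^ k * P ^ (m + 1) = ιr * (P ^ e * P) := by rw [hke, ← mul_assoc, hη]
  calc (ξ - (ιr / P ^ k) ^ p + ιr / P ^ k) * P ^ m * P
      = ξ * P ^ (m + 1) - (ιr / P ^ k) ^ p * P ^ (m + 1) + ιr / P ^ k * P ^ (m + 1) := by ring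
    _ = ιa - ιr ^ p + ιr * (P ^ e * P) := by rw [ha, t2, t3]
    _ = (ιb + ιr * P ^ e) * P := by linear_combination hb

/-- Case (4) of the classification. -/
def Case4 (A : Type u) (L : Type u) [CommRing A] [IsDomain A] [IsDiscreteValuationRing A]
    [Field L] [Algebra A L] (p : ℕ) : Prop :=
  (∃ V : ValuationSubring L, EtRam.Dominates A (algebraMap A L) V) ∧
    (∀ V V' : ValuationSubring L, EtRam.Dominates A (algebraMap A L) V →
      EtRam.Dominates A (algebraMap A L) V' → V = V') ∧
    ∀ (V : ValuationSubring L) (h : EtRam.Dominates A (algebraMap A L) V),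
      letI : Algebra A V := (RingHom.codRestrict (algebraMap A L) V h.1).toAlgebra
      ∀ [IsLocalHom (algebraMap A V)],
        EtRam.IsWeaklyUnramified A V ∧
          IsPurelyInseparable (ResidueField A) (ResidueField V) ∧
          Module.finrank (ResidueField A) (ResidueField V) = p

section Descent
variable {A : Type u} {K : Type u} [CommRing A] [IsDomain A] [IsDiscreteValuationRing A]
  [Field K] [Algebra A K] [IsFractionRing A K] {π : A}
  (hπ : maximalIdeal A = Ideal.span {π})
  {L : Type u} [Field L] [Algebra K L] [Algebra A L] [IsScalarTower A K L]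

include hπ in
theorem descent (p : ℕ) [hp : Fact p.Prime] [CharP K p] (m : ℕ) :
    ∀ (ξ : K) (z : L), z ^ p - z = algebraMap K L ξ → K⟮z⟯ = ⊤ →
      (∃ a : A, ξ * algebraMap A K π ^ m = algebraMap A K a) →
      Module.finrank K L = 1 ∨
        (EtRam.IsUnramifiedExt A (algebraMap A L) ∧ Module.finrank K L = p) ∨
        (EtRam.IsTotallyRamified A (algebraMap A L) ∧ Module.finrank K L = p) ∨
        Case4 A L p := by
  have hp2 : 2 ≤ p := hp.out.two_le
  induction m with
  | zero =>
    rintro ξ z hz hgen ⟨a, ha⟩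
    rw [pow_zero, mul_one] at ha
    rcases caseA hπ p ξ z hz hgen a ha.symm with h1 | h2
    · exact Or.inl h1
    · exact Or.inr (Or.inl h2)
  | succ m ih =>
    rintro ξ z hz hgen ⟨a, ha⟩
    by_cases hau : a ∈ maximalIdeal A
    · obtain ⟨a', rfl⟩ := (mem_max_iff hπ).mp hau
      apply ih ξ z hz hgen
      refine ⟨a', ?_⟩
      rw [pow_succ, ← mul_assoc, map_mul, mul_comm (algebraMap A K π)] at ha
      exact mul_right_cancel₀ (iota_pi_ne_zero K hπ) ha
    · have hunit : IsUnit a := by
        rwa [mem_maximalIdeal, mem_nonunits_iff, not_not] at hau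
      by_cases hpm : p ∣ m + 1
      · by_cases hres : ∀ r : A, residue A a ≠ residue A r ^ p
        · exact Or.inr (Or.inr (Or.inr
            (caseC hπ p ξ z hz hgen (m + 1) a (Nat.succ_pos m) hpm hres ha)))
        · push Not at hres
          obtain ⟨r, hr⟩ := hres
          have hmem : a - r ^ p ∈ maximalIdeal A := by
            rw [← residue_eq_zero_iff, map_sub, map_pow, hr, sub_self]
          obtain ⟨b, hb⟩ := (mem_max_iff hπ).mp hmem
          obtain ⟨k, hk⟩ := hpm
          have hk0 : 0 < k := Nat.pos_of_ne_zero (by rintro rfl; simp at hk)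
          obtain ⟨e, he⟩ : ∃ e, k + e = m := ⟨m - k, by
            have : 2 * k ≤ p * k := Nat.mul_le_mul_right k hp2
            omega⟩
          have hb' : algebraMap A K a - algebraMap A K r ^ p
              = algebraMap A K π * algebraMap A K b := by
            rw [← map_pow, ← map_sub, hb, map_mul]
          have hcalc := descent_calc (algebraMap A K π) ξ (algebraMap A K a) (algebraMap A K r)
            (algebraMap A K b) (iota_pi_ne_zero K hπ) p k e m hk he ha hb'
          apply ih (ξ - (algebraMap A K r / algebraMap A K π ^ k) ^ p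
              + algebraMap A K r / algebraMap A K π ^ k)
            (z - algebraMap K L (algebraMap A K r / algebraMap A K π ^ k))
          · haveI : CharP L p := charP_of_injective_algebraMap (algebraMap K L).injective p
            rw [sub_pow_char, map_add, map_sub, map_pow, ← hz]
            ring
          · exact adjoin_sub_eq_top z _ hgen
          · refine ⟨b + r * π ^ e, ?_⟩
            rw [map_add, map_mul, map_pow]
            exact hcalc
      · exact Or.inr (Or.inr (Or.inl (caseB hπ p ξ z hz hgen (m + 1) hunit.unit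
          (Nat.succ_pos m) hpm (by rw [IsUnit.unit_spec]; exact ha))))

end Descent

end Groth.Agent.Lib.Helper27.ASR
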