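import Mathlib

/-!
# The Abhyankar inequality (part 1): lifts of residue-independent elements

`val_aeval_lift` : if the residues of `y₀ j ∈ 𝒪_L` are algebraically independent over the residue
field of `K`, every nonzero polynomial in the `y₀ j` over `K` has the value of an element of `K`.
-/

set_option autoImplicit false

namespace Groth.Agent.Lib.Helper27.Abh

open MvPolynomial IsLocalRing

variable {K L Γ₀ Γ₁ : Type*} [Field K] [Field L] [Algebra K L]
  [LinearOrderedCommGroupWithZero Γ₀] [LinearOrderedCommGroupWithZero Γ₁]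
  (vK : Valuation K Γ₀) (vL : Valuation L Γ₁) [vK.HasExtension vL]

theorem val_aeval_lift {Y : Type*} (y₀ : Y → vL.valuationSubring)
    (hy : AlgebraicIndependent (ResidueField vK.valuationSubring)
      (fun j => residue vL.valuationSubring (y₀ j)))
    (Q : MvPolynomial Y K) (hQ : Q ≠ 0) :
    ∃ c : K, c ≠ 0 ∧ vL (aeval (fun j => (y₀ j : L)) Q) = vL (algebraMap K L c) := by
  classical
  obtain ⟨m₀, hm₀, hmax⟩ := Finset.exists_max_image Q.support (fun m => vK (coeff m Q))
    (by rwa [Finset.nonempty_iff_ne_empty, Ne, MvPolynomial.support_eq_empty])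
  have hc0 : coeff m₀ Q ≠ 0 := MvPolynomial.mem_support_iff.mp hm₀
  have hvc : vK (coeff m₀ Q) ≠ 0 := (Valuation.ne_zero_iff _).mpr hc0
  have hle : ∀ m, vK ((coeff m₀ Q)⁻¹ * coeff m Q) ≤ 1 := by
    intro m
    by_cases hm : m ∈ Q.support
    · rw [map_mul, map_inv₀, inv_mul_le_iff₀ (zero_lt_iff.mpr hvc), mul_one]
      exact hmax m hm
    · rw [MvPolynomial.notMem_support_iff.mp hm, mul_zero, map_zero]
      exact zero_le'
  let d : (Y →₀ ℕ) → vK.valuationSubring := fun m => ⟨(coeff m₀ Q)⁻¹ * coeff m Q, hle m⟩
  let Q'' : MvPolynomial Y vK.valuationSubring := ∑ m ∈ Q.support, monomial m (d m)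
  have hcoeff : ∀ m, coeff m Q'' = if m ∈ Q.support then d m else 0 := by
    intro m
    simp only [Q'', coeff_sum, coeff_monomial]
    rw [Finset.sum_ite_eq' Q.support m]
  have hmapQ : map (algebraMap vK.valuationSubring K) Q'' = C (coeff m₀ Q)⁻¹ * Q := by
    ext m
    rw [coeff_map, hcoeff, coeff_C_mul]
    split_ifs with hm
    · rfl
    · rw [map_zero, MvPolynomial.notMem_support_iff.mp hm, mul_zero]
  have hyv : (fun j => (y₀ j : L)) = algebraMap vL.valuationSubring L ∘ y₀ := rfl
  have h1 : aeval (fun j => (y₀ j : L)) Q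
      = algebraMap K L (coeff m₀ Q) * algebraMap vL.valuationSubring L (aeval y₀ Q'') := by
    rw [← aeval_algebraMap_apply (B := L) y₀ Q'', ← hyv,
      ← aeval_map_algebraMap K (fun j => (y₀ j : L)) Q'', hmapQ, map_mul, aeval_C,
      ← mul_assoc, ← map_mul, mul_inv_cancel₀ hc0, map_one, one_mul]
  have hcomp : (residue vL.valuationSubring).comp
        (algebraMap vK.valuationSubring vL.valuationSubring)
      = (algebraMap (ResidueField vK.valuationSubring) (ResidueField vL.valuationSubring)).comp
        (residue vK.valuationSubring) := RingHom.ext fun x => rfl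
  have hres : residue vL.valuationSubring (aeval y₀ Q'')
      = aeval (fun j => residue vL.valuationSubring (y₀ j))
          (map (residue vK.valuationSubring) Q'') := by
    have e1 : residue vL.valuationSubring (aeval y₀ Q'')
        = eval₂ ((algebraMap (ResidueField vK.valuationSubring)
            (ResidueField vL.valuationSubring)).comp (residue vK.valuationSubring))
          (fun j => residue vL.valuationSubring (y₀ j)) Q'' := by
      rw [aeval_def, eval₂_comp_left (residue vL.valuationSubring), hcomp]
      rfl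
    rw [e1, aeval_def, eval₂_map]
  have hne : map (residue vK.valuationSubring) Q'' ≠ 0 := by
    intro h0
    have h2 := congrArg (coeff m₀) h0
    rw [coeff_map, hcoeff, if_pos hm₀, coeff_zero] at h2
    have hd1 : d m₀ = 1 := Subtype.ext (inv_mul_cancel₀ hc0)
    rw [hd1, map_one] at h2
    exact one_ne_zero h2
  have hzu : IsUnit (aeval y₀ Q'') := by
    rw [← residue_ne_zero_iff_isUnit, hres]
    exact fun h0 => hne ((algebraicIndependent_iff.mp hy) _ h0)
  have hvz : vL ((aeval y₀ Q'' : vL.valuationSubring) : L) = 1 := by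
    obtain ⟨w, hw⟩ := hzu.exists_right_inv
    have h2 : vL ((aeval y₀ Q'' : vL.valuationSubring) : L) * vL (w : L) = 1 := by
      rw [← map_mul]
      have h3 : ((aeval y₀ Q'' : vL.valuationSubring) : L) * (w : L)
          = ((aeval y₀ Q'' * w : vL.valuationSubring) : L) := rfl
      rw [h3, hw]
      exact map_one vL
    have hz1 : vL ((aeval y₀ Q'' : vL.valuationSubring) : L) ≤ 1 := (aeval y₀ Q'').2
    have hw1 : vL (w : L) ≤ 1 := w.2
    refine le_antisymm hz1 ?_
    calc (1 : Γ₁) = vL ((aeval y₀ Q'' : vL.valuationSubring) : L) * vL (w : L) := h2.symm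
      _ ≤ vL ((aeval y₀ Q'' : vL.valuationSubring) : L) := mul_le_of_le_one_right' hw1
  refine ⟨coeff m₀ Q, hc0, ?_⟩
  rw [h1, map_mul]
  show _ * vL ((aeval y₀ Q'' : vL.valuationSubring) : L) = _
  rw [hvz, mul_one]

end Groth.Agent.Lib.Helper27.Abh
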