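import Groth.Agent.Lib.Helper27.Abh1

/-!
# The Abhyankar inequality (part 2)
-/

set_option autoImplicit false

namespace Groth.Agent.Lib.Helper27.Abh

open MvPolynomial IsLocalRing

variable {K L Γ₀ Γ₁ : Type*} [Field K] [Field L] [Algebra K L]
  [LinearOrderedCommGroupWithZero Γ₀] [LinearOrderedCommGroupWithZero Γ₁]
  (vK : Valuation K Γ₀) (vL : Valuation L Γ₁)

/-- Units whose classes modulo `𝒪_L^× · K^×` are `ℤ`-linearly independent are algebraically
independent over any subalgebra whose nonzero elements have values in `v(K^×)`. -/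
theorem algebraicIndependent_of_val {S : Subalgebra K L}
    (hS : ∀ s : S, s ≠ 0 → ∃ c : K, c ≠ 0 ∧ vL (s : L) = vL (algebraMap K L c))
    {X : Type*} (x₀ : X → Lˣ)
    (hx : LinearIndependent ℤ (fun i =>
      (QuotientAddGroup.mk' (Subgroup.toAddSubgroup (vL.valuationSubring.unitGroup ⊔
        (Units.map (algebraMap K L).toMonoidHom).range)) (Additive.ofMul (x₀ i))))) :
    AlgebraicIndependent S (fun i => (x₀ i : L)) := by
  classical
  set H := Subgroup.toAddSubgroup (vL.valuationSubring.unitGroup ⊔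
        (Units.map (algebraMap K L).toMonoidHom).range) with hH
  have hxN : LinearIndependent ℕ (fun i => QuotientAddGroup.mk' H (Additive.ofMul (x₀ i))) :=
    hx.restrict_scalars (R := ℕ) (K := ℤ) (by intro a b h; simpa using h)
  let μ : (X →₀ ℕ) → Lˣ := fun m => m.prod fun i n => x₀ i ^ n
  have hμ : ∀ m, QuotientAddGroup.mk' H (Additive.ofMul (μ m))
      = Finsupp.linearCombination ℕ (fun i => QuotientAddGroup.mk' H (Additive.ofMul (x₀ i))) m := by
    intro m
    rw [Finsupp.linearCombination_apply]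
    simp only [μ, Finsupp.prod, Finsupp.sum, ofMul_prod, ofMul_pow, map_sum, map_nsmul]
  have hμL : ∀ m, ((μ m : Lˣ) : L) = ∏ i ∈ m.support, (x₀ i : L) ^ m i := by
    intro m
    simp only [μ, Finsupp.prod, Units.coe_prod, Units.val_pow_eq_pow_val]
  rw [algebraicIndependent_iff]
  intro P hP
  by_contra hP0
  have hsupp : P.support.Nonempty := by
    rwa [Finset.nonempty_iff_ne_empty, Ne, MvPolynomial.support_eq_empty]
  let t : (X →₀ ℕ) → L := fun m => ((coeff m P : S) : L) * (μ m : L)
  have hsum : aeval (fun i => (x₀ i : L)) P = ∑ m ∈ P.support, t m := by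
    rw [aeval_def, eval₂_eq]
    refine Finset.sum_congr rfl fun m _ => ?_
    simp only [t, hμL]
    rfl
  have ht0 : ∀ m ∈ P.support, vL (t m) ≠ 0 := by
    intro m hm
    have h1 : ((coeff m P : S) : L) ≠ 0 := fun h => (mem_support_iff.mp hm) (Subtype.ext h)
    exact (Valuation.ne_zero_iff _).mpr (mul_ne_zero h1 (μ m).ne_zero)
  have hdist : ∀ m ∈ P.support, ∀ m' ∈ P.support, vL (t m) = vL (t m') → m = m' := by
    intro m hm m' hm' hv
    obtain ⟨k, hk0, hk⟩ := hS (coeff m P) (mem_support_iff.mp hm)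
    obtain ⟨k', hk0', hk'⟩ := hS (coeff m' P) (mem_support_iff.mp hm')
    have hkey : vL (algebraMap K L k) * vL (μ m : L) = vL (algebraMap K L k') * vL (μ m' : L) := by
      rw [← hk, ← hk', ← map_mul, ← map_mul]; exact hv
    have hvk : vL (algebraMap K L k) ≠ 0 :=
      (Valuation.ne_zero_iff _).mpr ((map_ne_zero_iff _ (algebraMap K L).injective).mpr hk0)
    have hvk' : vL (algebraMap K L k') ≠ 0 :=
      (Valuation.ne_zero_iff _).mpr ((map_ne_zero_iff _ (algebraMap K L).injective).mpr hk0')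
    have hvμ : vL (μ m : L) ≠ 0 := (Valuation.ne_zero_iff _).mpr (μ m).ne_zero
    have hvμ' : vL (μ m' : L) ≠ 0 := (Valuation.ne_zero_iff _).mpr (μ m').ne_zero
    let κ : Lˣ := Units.map (algebraMap K L).toMonoidHom (Units.mk0 k hk0 * (Units.mk0 k' hk0')⁻¹)
    have hκ : (κ : L) = algebraMap K L k * (algebraMap K L k')⁻¹ := by
      simp [κ]
    let g : Lˣ := (μ m)⁻¹ * μ m'
    have hu : vL ((g * κ⁻¹ : Lˣ) : L) = 1 := by
      have hn1 : (μ m : L) ≠ 0 := (μ m).ne_zero
      have hn2 : (μ m' : L) ≠ 0 := (μ m').ne_zero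
      have hn3 : algebraMap K L k ≠ 0 := (map_ne_zero_iff _ (algebraMap K L).injective).mpr hk0
      have hn4 : algebraMap K L k' ≠ 0 := (map_ne_zero_iff _ (algebraMap K L).injective).mpr hk0'
      have e : ((g * κ⁻¹ : Lˣ) : L)
          = (algebraMap K L k' * (μ m' : L)) * (algebraMap K L k * (μ m : L))⁻¹ := by
        rw [Units.val_mul, Units.val_inv_eq_inv_val, hκ, Units.val_mul, Units.val_inv_eq_inv_val]
        field_simp
      rw [e, map_mul, map_inv₀, map_mul, map_mul, hkey]
      exact mul_inv_cancel₀ (mul_ne_zero hvk' hvμ')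
    have hgH : g ∈ vL.valuationSubring.unitGroup ⊔
        (Units.map (algebraMap K L).toMonoidHom).range := by
      have hg : g = (g * κ⁻¹) * κ := by group
      rw [hg]
      exact Subgroup.mul_mem_sup ((Valuation.mem_unitGroup_iff L vL _).mpr hu) ⟨_, rfl⟩
    have hq : QuotientAddGroup.mk' H (Additive.ofMul (μ m))
        = QuotientAddGroup.mk' H (Additive.ofMul (μ m')) := by
      apply QuotientAddGroup.eq.mpr
      exact hgH
    rw [hμ, hμ] at hq
    exact hxN hq
  obtain ⟨m₁, hm₁, hmax⟩ := Finset.exists_max_image P.support (fun m => vL (t m)) hsupp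
  have h2 : vL (∑ m ∈ P.support, t m) = vL (t m₁) :=
    Valuation.map_sum_eq_of_lt vL hm₁ (fun m hm => by
      rw [Finset.mem_sdiff, Finset.mem_singleton] at hm
      exact lt_of_le_of_ne (hmax m hm.1) (fun h => hm.2 (hdist m hm.1 m₁ hm₁ h)))
  rw [← hsum, hP, map_zero] at h2
  exact ht0 m₁ hm₁ h2.symm

end Groth.Agent.Lib.Helper27.Abh
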