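import Groth.Agent.Lib.Helper27.Abh2

/-!
# The Abhyankar inequality (part 3)
-/

set_option autoImplicit false

namespace Groth.Agent.Lib.Helper27.Abh

open MvPolynomial IsLocalRing Cardinal

universe u

variable {K L Γ₀ Γ₁ : Type u} [Field K] [Field L] [Algebra K L]
  [LinearOrderedCommGroupWithZero Γ₀] [LinearOrderedCommGroupWithZero Γ₁]
  (vK : Valuation K Γ₀) (vL : Valuation L Γ₁) [vK.HasExtension vL]

theorem abhyankar :
    Module.rank ℤ (Additive Lˣ ⧸ Subgroup.toAddSubgroup
        (vL.valuationSubring.unitGroup ⊔ (Units.map (algebraMap K L).toMonoidHom).range)) +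
      Algebra.trdeg (IsLocalRing.ResidueField vK.valuationSubring)
        (IsLocalRing.ResidueField vL.valuationSubring) ≤ Algebra.trdeg K L := by
  classical
  set H := Subgroup.toAddSubgroup (vL.valuationSubring.unitGroup ⊔
        (Units.map (algebraMap K L).toMonoidHom).range) with hH
  obtain ⟨sX, hsX, hXli⟩ := exists_set_linearIndependent_of_isDomain ℤ (Additive Lˣ ⧸ H)
  obtain ⟨sY, hsY⟩ := exists_isTranscendenceBasis (ResidueField vK.valuationSubring)
    (ResidueField vL.valuationSubring)
  rw [← hsX, ← hsY.cardinalMk_eq_trdeg]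
  have hsurj : ∀ q : Additive Lˣ ⧸ H, ∃ a : Lˣ, QuotientAddGroup.mk' H (Additive.ofMul a) = q := by
    intro q
    obtain ⟨a, rfl⟩ := QuotientAddGroup.mk'_surjective H q
    exact ⟨Additive.toMul a, rfl⟩
  choose lx hlx using hsurj
  let x₀ : sX → Lˣ := fun i => lx i.1
  have hxli : LinearIndependent ℤ
      (fun i : sX => QuotientAddGroup.mk' H (Additive.ofMul (x₀ i))) := by
    have h1 : (fun i : sX => QuotientAddGroup.mk' H (Additive.ofMul (x₀ i)))
        = fun i : sX => (i : Additive Lˣ ⧸ H) := funext fun i => hlx i.1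
    rw [h1]
    exact hXli
  choose ly hly using (residue_surjective : Function.Surjective (residue vL.valuationSubring))
  let y₀ : sY → vL.valuationSubring := fun j => ly j.1
  have hyai : AlgebraicIndependent (ResidueField vK.valuationSubring)
      (fun j : sY => residue vL.valuationSubring (y₀ j)) := by
    have h1 : (fun j : sY => residue vL.valuationSubring (y₀ j))
        = ((↑) : sY → ResidueField vL.valuationSubring) := funext fun j => hly j.1
    rw [h1]
    exact hsY.1
  have hR := val_aeval_lift vK vL y₀ hyai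
  have hyK : AlgebraicIndependent K (fun j : sY => (y₀ j : L)) := by
    rw [algebraicIndependent_iff]
    intro Q hQ
    by_contra hQ0
    obtain ⟨c, hc0, hc⟩ := hR Q hQ0
    rw [hQ, map_zero] at hc
    exact ((Valuation.ne_zero_iff vL).mpr
      ((map_ne_zero_iff _ (algebraMap K L).injective).mpr hc0)) hc.symm
  have hSval : ∀ s : Algebra.adjoin K (Set.range fun j : sY => (y₀ j : L)), s ≠ 0 →
      ∃ c : K, c ≠ 0 ∧ vL (s : L) = vL (algebraMap K L c) := by
    rintro ⟨s, hs⟩ hs0
    rw [Algebra.adjoin_range_eq_range_aeval] at hs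
    obtain ⟨Q, rfl⟩ := hs
    exact hR Q (fun h => hs0 (Subtype.ext (by simp [h])))
  have hV := algebraicIndependent_of_val vL hSval x₀ hxli
  have hall := hyK.sumElim hV
  have h3 := hall.cardinalMk_le_trdeg
  rwa [Cardinal.mk_sum, Cardinal.lift_id, Cardinal.lift_id] at h3

end Groth.Agent.Lib.Helper27.Abh
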