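import Mathlib
import Groth.Agent.Lib.Helper27.AdicBase

/-!
Class (V): algebras topologically of finite presentation are coherent.
-/

set_option autoImplicit false
universe u

namespace Groth.Agent.Lib.Helper27.AdicCoherent

open AdicRing
open Groth.Agent.Lib.Helper27.AdicBase

theorem finitePresentation_ideal_classV (R : Type u) [CommRing R] [IsDomain R] [ValuationRing R]
    [Ring.KrullDimLE 1 R] (t : R) (ht0 : t ≠ 0) [IsAdicComplete (Ideal.span {t}) R]
    (hflat : ∀ n, Module.Flat R (RPow R (Ideal.span {t}) n))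
    (A : Type u) [CommRing A] [Algebra R A] (hA : TopFinitePresentation R (Ideal.span {t}) A)
    (J : Ideal A) (hJ : J.FG) : Module.FinitePresentation A J := by
  classical
  obtain ⟨n, φ, hφ, hker⟩ := hA
  obtain ⟨a, s, hs⟩ := Submodule.fg_iff_exists_fin_generating_family.mp hJ
  obtain ⟨b, k, hk⟩ := Submodule.fg_iff_exists_fin_generating_family.mp hker
  choose s' hs' using fun i => hφ (s i)
  have hsJ : ∀ i, s i ∈ J := fun i => hs ▸ Submodule.subset_span ⟨i, rfl⟩
  have hkφ : ∀ j, φ (k j) = 0 := fun j => by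
    have : k j ∈ RingHom.ker φ.toRingHom := hk ▸ Submodule.subset_span ⟨j, rfl⟩
    exact this
  let Ψ' : ((Fin a ⊕ Fin b) → RPow R (Ideal.span {t}) n) →ₗ[RPow R (Ideal.span {t}) n]
      RPow R (Ideal.span {t}) n := Fintype.linearCombination _ (Sum.elim s' k)
  have hΨ' : ∀ x, Ψ' x = ∑ i, x (Sum.inl i) * s' i + ∑ j, x (Sum.inr j) * k j := by
    intro x
    simp [Ψ', Fintype.linearCombination_apply, Fintype.sum_sum_type]
  haveI := hflat n
  have hK' : (LinearMap.ker Ψ').FG := by
    apply RPowKey.fg_of_saturated_rpow R t ht0 n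
    intro x hx
    rw [LinearMap.mem_ker] at hx ⊢
    rw [LinearMap.map_smul_of_tower] at hx
    have hreg : IsSMulRegular (RPow R (Ideal.span {t}) n) t :=
      Module.Flat.isSMulRegular_of_nonZeroDivisors (mem_nonZeroDivisors_of_ne_zero ht0)
    exact hreg (by show t • Ψ' x = t • 0; rw [hx, smul_zero])
  obtain ⟨T, hT⟩ := hK'
  let ψ : (Fin a → A) →ₗ[A] J := Fintype.linearCombination A (fun i => (⟨s i, hsJ i⟩ : J))
  have hψ : ∀ y, ((ψ y : J) : A) = ∑ i, y i * s i := by
    intro y
    simp [ψ, Fintype.linearCombination_apply]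
  have hψsurj : Function.Surjective ψ := by
    rintro ⟨y, hy⟩
    rw [← hs] at hy
    obtain ⟨c, hc⟩ := (Submodule.mem_span_range_iff_exists_fun A).mp hy
    refine ⟨c, Subtype.ext ?_⟩
    rw [hψ]
    simpa [smul_eq_mul] using hc
  let ρ : ((Fin a ⊕ Fin b) → RPow R (Ideal.span {t}) n) → (Fin a → A) :=
    fun x i => φ (x (Sum.inl i))
  have ρ_add : ∀ x y, ρ (x + y) = ρ x + ρ y := by
    intro x y; funext i; simp [ρ]
  have ρ_smul : ∀ (p : RPow R (Ideal.span {t}) n) x, ρ (p • x) = φ p • ρ x := by
    intro p x; funext i; simp [ρ]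
  have ρ_zero : ρ 0 = 0 := by funext i; simp [ρ]
  have hρker : ∀ x ∈ LinearMap.ker Ψ', ρ x ∈ LinearMap.ker ψ := by
    intro x hx
    rw [LinearMap.mem_ker] at hx ⊢
    apply Subtype.ext
    rw [hψ]
    have h1 := congrArg φ hx
    rw [hΨ', map_add, map_sum, map_sum, map_zero] at h1
    simp only [map_mul, hkφ, mul_zero, Finset.sum_const_zero, add_zero, hs'] at h1
    simpa [ρ] using h1
  refine Module.finitePresentation_of_free_of_surjective ψ hψsurj ⟨T.image ρ, ?_⟩
  apply le_antisymm
  · rw [Submodule.span_le]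
    intro y hy
    rw [Finset.coe_image] at hy
    obtain ⟨x, hx, rfl⟩ := hy
    exact hρker x (hT ▸ Submodule.subset_span hx)
  · have key : ∀ x ∈ Submodule.span (RPow R (Ideal.span {t}) n) (T : Set _),
        ρ x ∈ Submodule.span A ((T.image ρ : Finset (Fin a → A)) : Set (Fin a → A)) := by
      intro x hx
      induction hx using Submodule.span_induction with
      | mem x hx => exact Submodule.subset_span (by rw [Finset.coe_image]; exact ⟨x, hx, rfl⟩)
      | zero => rw [ρ_zero]; exact Submodule.zero_mem _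
      | add x y _ _ hx hy => rw [ρ_add]; exact Submodule.add_mem _ hx hy
      | smul p x _ hx => rw [ρ_smul]; exact Submodule.smul_mem _ _ hx
    intro y hy
    rw [LinearMap.mem_ker] at hy
    have hy' : ∑ i, y i * s i = 0 := by rw [← hψ, hy]; rfl
    choose x hx using fun i => hφ (y i)
    have hp : ∑ i, x i * s' i ∈ RingHom.ker φ.toRingHom := by
      rw [RingHom.mem_ker]
      show φ (∑ i, x i * s' i) = 0
      rw [map_sum]
      simp only [map_mul, hx, hs']
      exact hy'
    rw [← hk] at hp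
    obtain ⟨c, hc⟩ := (Submodule.mem_span_range_iff_exists_fun _).mp hp
    let xt : (Fin a ⊕ Fin b) → RPow R (Ideal.span {t}) n := Sum.elim x (fun j => -c j)
    have hxt : xt ∈ LinearMap.ker Ψ' := by
      rw [LinearMap.mem_ker, hΨ']
      simp only [xt, Sum.elim_inl, Sum.elim_inr, neg_mul, Finset.sum_neg_distrib]
      rw [← hc]
      simp [smul_eq_mul]
    have hρxt : ρ xt = y := by
      funext i
      simp [ρ, xt, hx]
    rw [← hρxt]
    exact key xt (hT ▸ hxt)

end Groth.Agent.Lib.Helper27.AdicCoherent
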