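import Mathlib
import Groth.Prelude.Def_W4bk4boschfrg79
import Groth.Agent.Lib.Helper27.RPowKey
import Groth.Agent.Lib.Helper27.SemiLocTensor
import Groth.Agent.Lib.Helper27.CplTensorC

/-!
Continuous homomorphisms out of restricted power series rings into adically complete algebras.
-/

set_option autoImplicit false
universe u

namespace Groth.Agent.Lib.Helper27.RPowLift

open AdicRing MvPolynomial

variable (R : Type u) [CommRing R] (I : Ideal R) (B : Type u) [CommRing B] [Algebra R B]
  [hB : IsAdicComplete (I.map (algebraMap R B)) B] {m : ℕ} (x : Fin m → B)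

/-- the algebra structure on `B` over the polynomial ring given by `x`. -/
@[reducible] noncomputable def algX : Algebra (MvPolynomial (Fin m) R) B :=
  (MvPolynomial.aeval x : MvPolynomial (Fin m) R →ₐ[R] B).toRingHom.toAlgebra

lemma map_map_eq :
    (I.map (C : R →+* MvPolynomial (Fin m) R)).map
      ((MvPolynomial.aeval x : MvPolynomial (Fin m) R →ₐ[R] B).toRingHom) =
    I.map (algebraMap R B) := by
  rw [Ideal.map_map]
  congr 1
  ext r
  simp

/-- the continuous `R`-algebra homomorphism `R⟨ζ⟩ → B` with `ζ_i ↦ x_i`. -/
noncomputable def liftX : RPow R I m →ₐ[R] B :=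
  letI : Algebra (MvPolynomial (Fin m) R) B := algX R B x
  haveI : IsScalarTower R (MvPolynomial (Fin m) R) B :=
    IsScalarTower.of_algebraMap_eq (fun r => by
      show algebraMap R B r = MvPolynomial.aeval x (algebraMap R _ r)
      simp)
  haveI : IsAdicComplete ((I.map (C : R →+* MvPolynomial (Fin m) R)).map
      (algebraMap (MvPolynomial (Fin m) R) B)) B := by
    have h := map_map_eq R I B x
    show IsAdicComplete ((I.map (C : R →+* MvPolynomial (Fin m) R)).map
      ((MvPolynomial.aeval x : MvPolynomial (Fin m) R →ₐ[R] B).toRingHom)) B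
    rw [h]
    exact hB
  (SemiLocTensor.liftC (I.map (C : R →+* MvPolynomial (Fin m) R)) B).restrictScalars R

lemma liftX_of (p : MvPolynomial (Fin m) R) :
    liftX R I B x (algebraMap (MvPolynomial (Fin m) R) (RPow R I m) p) =
      MvPolynomial.aeval x p := by
  letI : Algebra (MvPolynomial (Fin m) R) B := algX R B x
  haveI : IsScalarTower R (MvPolynomial (Fin m) R) B :=
    IsScalarTower.of_algebraMap_eq (fun r => by
      show algebraMap R B r = MvPolynomial.aeval x (algebraMap R _ r)
      simp)
  haveI : IsAdicComplete ((I.map (C : R →+* MvPolynomial (Fin m) R)).map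
      (algebraMap (MvPolynomial (Fin m) R) B)) B := by
    have h := map_map_eq R I B x
    show IsAdicComplete ((I.map (C : R →+* MvPolynomial (Fin m) R)).map
      ((MvPolynomial.aeval x : MvPolynomial (Fin m) R →ₐ[R] B).toRingHom)) B
    rw [h]
    exact hB
  exact (SemiLocTensor.liftC (I.map (C : R →+* MvPolynomial (Fin m) R)) B).commutes p

lemma map_rpow_map (f : RPow R I m →ₐ[R] B) :
    (I.map (algebraMap R (RPow R I m))).map f.toRingHom = I.map (algebraMap R B) := by
  rw [Ideal.map_map]
  congr 1
  ext r
  simp

/-- `liftX` is surjective when the `x_i` generate `B` modulo `I`. -/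
theorem liftX_surjective (hI : I.FG)
    (hgen : ∀ b : B, ∃ p : MvPolynomial (Fin m) R,
      b - MvPolynomial.aeval x p ∈ I.map (algebraMap R B)) :
    Function.Surjective (liftX R I B x) := by
  haveI hc : IsAdicComplete I (RPow R I m) := RPowKey.isAdicComplete_rpow R m I hI
  haveI : IsPrecomplete (I.map (algebraMap R (RPow R I m))) (RPow R I m) :=
    ((IsAdicComplete.map_algebraMap_iff I (RPow R I m)).mpr hc).toIsPrecomplete
  haveI : IsHausdorff ((I.map (algebraMap R (RPow R I m))).map (liftX R I B x).toRingHom) B := by
    rw [map_rpow_map]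
    exact hB.toIsHausdorff
  have h := surjective_of_mk_map_comp_surjective (I := I.map (algebraMap R (RPow R I m)))
    (liftX R I B x).toRingHom ?_
  · exact h
  · intro q
    obtain ⟨b, rfl⟩ := Ideal.Quotient.mk_surjective q
    obtain ⟨p, hp⟩ := hgen b
    refine ⟨algebraMap (MvPolynomial (Fin m) R) (RPow R I m) p, ?_⟩
    rw [RingHom.comp_apply, Ideal.Quotient.eq, map_rpow_map]
    have : (liftX R I B x).toRingHom (algebraMap (MvPolynomial (Fin m) R) (RPow R I m) p) =
        MvPolynomial.aeval x p := liftX_of R I B x p
    rw [this, ← neg_sub]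
    exact (Ideal.neg_mem_iff _).mpr hp

end Groth.Agent.Lib.Helper27.RPowLift
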