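import Mathlib
import Groth.Agent.Lib.Helper27.AdicFin
import Groth.Agent.Lib.Helper27.RPowLift

/-!
Tools for lifting closed points of the special fibre of `R⟨ζ⟩` to rig-points.
-/

set_option autoImplicit false
universe u

namespace Groth.Agent.Lib.Helper27.AdicPoint

open AdicRing IsLocalRing
open Groth.Agent.Lib.Helper27 Groth.Agent.Lib.Helper27.AdicUtil

/-- Finitely many integral elements of an `R`-algebra `k'` lift to a finite free `R`-algebra. -/
theorem exists_free_lift (R : Type u) [CommRing R] (k' : Type u) [CommRing k'] [Algebra R k'] :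
    ∀ (n : ℕ) (z : Fin n → k'), (∀ i, IsIntegral R (z i)) →
      ∃ (E : Type u) (_ : CommRing E) (_ : Algebra R E) (_ : Module.Finite R E)
        (_ : Module.Free R E) (x : Fin n → E) (ε : E →ₐ[R] k'), ∀ i, ε (x i) = z i := by
  intro n
  induction n with
  | zero =>
    intro z _
    exact ⟨R, inferInstance, inferInstance, inferInstance, inferInstance, Fin.elim0,
      Algebra.ofId R k', fun i => i.elim0⟩
  | succ n ih =>
    intro z hz
    obtain ⟨E, hE1, hE2, hE3, hE4, x, ε, hx⟩ := ih (fun i => z i.castSucc) (fun i => hz _)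
    obtain ⟨g, hgm, hg0⟩ := hz (Fin.last n)
    have hg'm : (g.map (algebraMap R E)).Monic := hgm.map _
    haveI := hg'm.finite_adjoinRoot
    haveI := hg'm.free_adjoinRoot
    have h0 : (g.map (algebraMap R E)).eval₂ (ε : E →+* k') (z (Fin.last n)) = 0 := by
      rw [Polynomial.eval₂_map]
      have : (ε : E →+* k').comp (algebraMap R E) = algebraMap R k' := ε.comp_algebraMap
      rw [this]; exact hg0
    refine ⟨AdjoinRoot (g.map (algebraMap R E)), inferInstance, inferInstance,
      Module.Finite.trans E _, Module.Free.trans (S := E),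
      Fin.snoc (fun i => AdjoinRoot.of _ (x i)) (AdjoinRoot.root _),
      AdjoinRoot.liftAlgHom _ ε (z (Fin.last n)) h0, ?_⟩
    intro i
    refine Fin.lastCases ?_ (fun j => ?_) i
    · rw [Fin.snoc_last, AdjoinRoot.liftAlgHom_root]
    · rw [Fin.snoc_castSucc, AdjoinRoot.liftAlgHom_of, hx]

/-- A finite free module over a `t`-adically complete ring is `t`-adically complete. -/
theorem isAdicComplete_of_finite_free (R : Type*) [CommRing R] (t : R)
    [IsAdicComplete (Ideal.span {t}) R] (E : Type*) [AddCommGroup E] [Module R E]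
    [Module.Finite R E] [Module.Free R E] : IsAdicComplete (Ideal.span {t}) E := by
  let b := Module.Free.chooseBasis R E
  haveI : IsHausdorff (Ideal.span {t}) (Module.Free.ChooseBasisIndex R E → R) :=
    isHausdorff_pi t R
  haveI : IsPrecomplete (Ideal.span {t}) (Module.Free.ChooseBasisIndex R E → R) :=
    isPrecomplete_pi t R
  haveI : IsHausdorff (Ideal.span {t}) E :=
    isHausdorff_of_injective (Ideal.span {t}) b.equivFun.toLinearMap b.equivFun.injective
  haveI : IsPrecomplete (Ideal.span {t}) E :=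
    isPrecomplete_of_surjective (Ideal.span {t}) b.equivFun.symm.toLinearMap
      b.equivFun.symm.surjective
  exact {}

/-- If `B/𝔞` is a zero-dimensional `R`-algebra of finite type over the local ring `R` and `𝔞`
contains the image of the maximal ideal, then `B/𝔞` is integral over `R`. -/
theorem isIntegral_quotient (R : Type*) [CommRing R] [IsLocalRing R] (B : Type*) [CommRing B]
    [Algebra R B] (𝔞 : Ideal B) (h𝔞 : maximalIdeal R ≤ 𝔞.comap (algebraMap R B))
    [Algebra.FiniteType R (B ⧸ 𝔞)] [Ring.KrullDimLE 0 (B ⧸ 𝔞)] :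
    Algebra.IsIntegral R (B ⧸ 𝔞) := by
  letI : Algebra (R ⧸ maximalIdeal R) (B ⧸ 𝔞) := Ideal.Quotient.algebraQuotientOfLEComap h𝔞
  haveI : IsScalarTower R (R ⧸ maximalIdeal R) (B ⧸ 𝔞) :=
    IsScalarTower.of_algebraMap_eq (fun x => rfl)
  haveI : Algebra.FiniteType (R ⧸ maximalIdeal R) (B ⧸ 𝔞) :=
    Algebra.FiniteType.of_restrictScalars_finiteType R _ _
  haveI : IsArtinianRing (R ⧸ maximalIdeal R) := by
    letI : Field (R ⧸ maximalIdeal R) := Ideal.Quotient.field _
    infer_instance
  haveI : Module.Finite (R ⧸ maximalIdeal R) (B ⧸ 𝔞) :=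
    (Module.finite_iff_krullDimLE_zero _ _).mpr inferInstance
  haveI : Algebra.IsIntegral (R ⧸ maximalIdeal R) (B ⧸ 𝔞) := inferInstance
  haveI : Algebra.IsIntegral R (R ⧸ maximalIdeal R) := inferInstance
  exact Algebra.IsIntegral.trans (R ⧸ maximalIdeal R)

/-- A height one valuation ring with a nonzero nonunit has Krull dimension one. -/
theorem ringKrullDim_eq_one (R : Type*) [CommRing R] [IsDomain R] [IsLocalRing R]
    [Ring.KrullDimLE 1 R] (t : R) (ht : t ≠ 0) (htm : t ∈ maximalIdeal R) :
    ringKrullDim R = 1 := by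
  refine eq_of_le_of_not_lt (Ring.krullDimLE_iff (n := 1).mp inferInstance) fun h => ?_
  haveI : Ring.KrullDimLE 0 R := Ring.krullDimLE_iff.mpr (ENat.WithBot.lt_add_one_iff.mp h)
  have hbp : (⊥ : Ideal R).IsPrime := Ideal.isPrime_bot
  have hmax : (⊥ : Ideal R).IsMaximal := hbp.isMaximal'
  have := IsLocalRing.eq_maximalIdeal hmax
  rw [← this, Ideal.mem_bot] at htm
  exact ht htm

end Groth.Agent.Lib.Helper27.AdicPoint
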