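import Mathlib
import Groth.Prelude.Def_W4bk4boschfrg79
import Groth.Agent.Lib.Helper27.RPowLift

/-!
Truncations `A/I^j A` of a quotient `A` of a restricted power series ring, presented as quotients
of polynomial rings over `R/I^j`.
-/

set_option autoImplicit false
universe u

namespace Groth.Agent.Lib.Helper27.AdicTrunc

open AdicRing MvPolynomial
open Groth.Agent.Lib.Helper27.CplTensor

variable {R : Type u} [CommRing R] {I : Ideal R} {A : Type u} [CommRing A] [Algebra R A] {m : ℕ}
  (φ : RPow R I m →ₐ[R] A)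

/-- the canonical map from polynomials to restricted power series. -/
noncomputable abbrev ofP (R : Type u) [CommRing R] (I : Ideal R) (m : ℕ) :
    MvPolynomial (Fin m) R →+* RPow R I m :=
  algebraMap (MvPolynomial (Fin m) R) (RPow R I m)

lemma ofP_C (r : R) : ofP R I m (C r) = algebraMap R (RPow R I m) r := rfl

lemma map_ofP (K : Ideal R) :
    (K.map (C : R →+* MvPolynomial (Fin m) R)).map (ofP R I m) =
      K.map (algebraMap R (RPow R I m)) := by
  rw [Ideal.map_map]
  rfl

lemma map_phi (K : Ideal R) :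
    (K.map (algebraMap R (RPow R I m))).map φ.toRingHom = K.map (algebraMap R A) := by
  rw [Ideal.map_map]
  congr 1
  ext r
  simp

/-- density of polynomials modulo `I^j`. -/
lemma exists_sub_mem (hI : I.FG) (j : ℕ) (c : RPow R I m) :
    ∃ p : MvPolynomial (Fin m) R,
      c - ofP R I m p ∈ (I ^ j).map (algebraMap R (RPow R I m)) := by
  obtain ⟨p, hp⟩ := CplTensorC.exists_sub_mem_pow
    (I.map (C : R →+* MvPolynomial (Fin m) R)) (hI.map _) j c
  refine ⟨p, ?_⟩
  rw [← map_ofP, Ideal.map_pow]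
  exact hp

/-- a polynomial whose image lies in `I^j R⟨ζ⟩` has coefficients in `I^j`. -/
lemma mem_of_ofP_mem (j : ℕ) (w : MvPolynomial (Fin m) R)
    (hw : ofP R I m w ∈ (I ^ j).map (algebraMap R (RPow R I m))) :
    w ∈ (I ^ j).map (C : R →+* MvPolynomial (Fin m) R) := by
  rw [← map_ofP] at hw
  exact CplTensorC.mem_of_algebraMap_mem_map (I.map (C : R →+* MvPolynomial (Fin m) R))
    ((I ^ j).map C) j (by rw [Ideal.map_pow]) w hw

variable (K : Ideal R)

/-- `R/K → A/KA`. -/
noncomputable def qmap : R ⧸ K →+* A ⧸ K.map (algebraMap R A) :=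
  Ideal.quotientMap (K.map (algebraMap R A)) (algebraMap R A) Ideal.le_comap_map

/-- `(R/K)[ζ] → A/KA`. -/
noncomputable def theta : MvPolynomial (Fin m) (R ⧸ K) →+* A ⧸ K.map (algebraMap R A) :=
  MvPolynomial.eval₂Hom (qmap (A := A) K)
    (fun i => Ideal.Quotient.mk _ (φ (ofP R I m (X i))))

lemma theta_C (r : R ⧸ K) : theta φ K (C r) = qmap (A := A) K r := eval₂Hom_C _ _ _

lemma theta_comp_C : (theta φ K).comp C = qmap (A := A) K := RingHom.ext (theta_C φ K)

lemma theta_map (p : MvPolynomial (Fin m) R) :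
    theta φ K (MvPolynomial.map (Ideal.Quotient.mk K) p) =
      Ideal.Quotient.mk _ (φ (ofP R I m p)) := by
  have h : (theta φ K).comp (MvPolynomial.map (Ideal.Quotient.mk K)) =
      (Ideal.Quotient.mk (K.map (algebraMap R A))).comp (φ.toRingHom.comp (ofP R I m)) := by
    apply MvPolynomial.ringHom_ext
    · intro r
      simp only [RingHom.comp_apply, MvPolynomial.map_C, theta_C, qmap, Ideal.quotientMap_mk,
        ofP_C]
      congr 1
      exact (φ.commutes r).symm
    · intro i
      simp only [RingHom.comp_apply, MvPolynomial.map_X, theta, eval₂Hom_X']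
      rfl
  exact RingHom.congr_fun h p

lemma theta_map_eq_zero_iff (p : MvPolynomial (Fin m) R) :
    theta φ K (MvPolynomial.map (Ideal.Quotient.mk K) p) = 0 ↔
      φ (ofP R I m p) ∈ K.map (algebraMap R A) := by
  rw [theta_map, Ideal.Quotient.eq_zero_iff_mem]

lemma phi_mem_of_mem {u : RPow R I m} (hu : u ∈ K.map (algebraMap R (RPow R I m))) :
    φ u ∈ K.map (algebraMap R A) := by
  rw [← map_phi φ K]
  exact Ideal.mem_map_of_mem _ hu

theorem theta_surjective (hφ : Function.Surjective φ) (hI : I.FG) (j : ℕ) :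
    Function.Surjective (theta φ (I ^ j)) := by
  intro y
  obtain ⟨a, rfl⟩ := Ideal.Quotient.mk_surjective y
  obtain ⟨c, rfl⟩ := hφ a
  obtain ⟨p, hp⟩ := exists_sub_mem hI j c
  refine ⟨MvPolynomial.map (Ideal.Quotient.mk _) p, ?_⟩
  rw [theta_map, Ideal.Quotient.eq, ← map_sub, ← neg_sub, map_neg]
  exact (Ideal.neg_mem_iff _).mpr (phi_mem_of_mem φ _ hp)

/-- Approximate generation of `ker φ` from generators of `ker θ`. -/
theorem exists_approx_generators (hφ : Function.Surjective φ) (hI : I.FG) (j : ℕ) {l : ℕ}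
    (qq : Fin l → MvPolynomial (Fin m) R)
    (hqq : RingHom.ker (theta φ (I ^ j)) =
      Ideal.span (Set.range fun i => MvPolynomial.map (Ideal.Quotient.mk (I ^ j)) (qq i))) :
    ∃ a : Fin l → RPow R I m, (∀ i, a i ∈ RingHom.ker φ.toRingHom) ∧
      ∀ x ∈ RingHom.ker φ.toRingHom, ∃ c : Fin l → RPow R I m,
        x - ∑ i, c i * a i ∈ (I ^ j).map (algebraMap R (RPow R I m)) := by
  classical
  have h1 : ∀ i, ∃ u ∈ (I ^ j).map (algebraMap R (RPow R I m)),
      ofP R I m (qq i) - u ∈ RingHom.ker φ.toRingHom := by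
    intro i
    have hmem : MvPolynomial.map (Ideal.Quotient.mk (I ^ j)) (qq i) ∈
        RingHom.ker (theta φ (I ^ j)) := by
      rw [hqq]; exact Ideal.subset_span ⟨i, rfl⟩
    rw [RingHom.mem_ker, theta_map_eq_zero_iff, ← map_phi φ,
      Ideal.mem_map_iff_of_surjective φ.toRingHom hφ] at hmem
    obtain ⟨u, hu, hu'⟩ := hmem
    refine ⟨u, hu, ?_⟩
    rw [RingHom.mem_ker, map_sub, sub_eq_zero]
    exact hu'.symm
  choose u hu hu' using h1
  refine ⟨fun i => ofP R I m (qq i) - u i, hu', ?_⟩
  intro x hx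
  obtain ⟨p, hp⟩ := exists_sub_mem hI j x
  have hpker : MvPolynomial.map (Ideal.Quotient.mk (I ^ j)) p ∈ RingHom.ker (theta φ (I ^ j)) := by
    rw [RingHom.mem_ker, theta_map_eq_zero_iff]
    have h2 : φ (ofP R I m p) = -(φ (x - ofP R I m p)) := by
      have hx0 : φ x = 0 := hx
      rw [map_sub, hx0]
      simp
    rw [h2]
    exact (Ideal.neg_mem_iff _).mpr (phi_mem_of_mem φ _ hp)
  rw [hqq] at hpker
  obtain ⟨cbar, hcbar⟩ := (Ideal.mem_span_range_iff_exists_fun).mp hpker
  choose r hr using fun i => MvPolynomial.map_surjective (Ideal.Quotient.mk (I ^ j))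
    Ideal.Quotient.mk_surjective (cbar i)
  have h3 : MvPolynomial.map (Ideal.Quotient.mk (I ^ j)) (p - ∑ i, r i * qq i) = 0 := by
    rw [map_sub, map_sum, ← hcbar, sub_eq_zero]
    refine Finset.sum_congr rfl fun i _ => ?_
    rw [map_mul, hr]
  have h4 : p - ∑ i, r i * qq i ∈ (I ^ j).map (C : R →+* MvPolynomial (Fin m) R) := by
    have : p - ∑ i, r i * qq i ∈ RingHom.ker (MvPolynomial.map (Ideal.Quotient.mk (I ^ j)) :
        MvPolynomial (Fin m) R →+* _) := h3
    rw [MvPolynomial.ker_map, Ideal.mk_ker] at this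
    exact this
  have h5 : ofP R I m (p - ∑ i, r i * qq i) ∈ (I ^ j).map (algebraMap R (RPow R I m)) := by
    rw [← map_ofP]
    exact Ideal.mem_map_of_mem _ h4
  refine ⟨fun i => ofP R I m (r i), ?_⟩
  have h6 : x - ∑ i, ofP R I m (r i) * (ofP R I m (qq i) - u i) =
      (x - ofP R I m p) + ofP R I m (p - ∑ i, r i * qq i) + ∑ i, ofP R I m (r i) * u i := by
    rw [map_sub, map_sum]
    simp only [map_mul, mul_sub, Finset.sum_sub_distrib]
    ring
  rw [h6]
  refine Ideal.add_mem _ (Ideal.add_mem _ hp h5) (Ideal.sum_mem _ fun i _ => ?_)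
  exact Ideal.mul_mem_left _ _ (hu i)

/-- Generators of `ker θ` from generators of `ker φ`. -/
theorem ker_theta_fg (hφ : Function.Surjective φ) (hI : I.FG) (j : ℕ)
    (hker : (RingHom.ker φ.toRingHom).FG) : (RingHom.ker (theta φ (I ^ j))).FG := by
  classical
  obtain ⟨l, a, ha⟩ := Submodule.fg_iff_exists_fin_generating_family.mp hker
  choose p hp using fun i => exists_sub_mem hI j (a i)
  have hak : ∀ i, φ (a i) = 0 := fun i => by
    have : a i ∈ RingHom.ker φ.toRingHom := ha ▸ Submodule.subset_span ⟨i, rfl⟩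
    exact this
  refine ⟨Finset.univ.image fun i => MvPolynomial.map (Ideal.Quotient.mk (I ^ j)) (p i), ?_⟩
  apply le_antisymm
  · rw [Submodule.span_le]
    intro y hy
    rw [Finset.coe_image] at hy
    obtain ⟨i, -, rfl⟩ := hy
    show MvPolynomial.map (Ideal.Quotient.mk (I ^ j)) (p i) ∈ RingHom.ker (theta φ (I ^ j))
    rw [RingHom.mem_ker, theta_map_eq_zero_iff]
    have h2 : φ (ofP R I m (p i)) = -(φ (a i - ofP R I m (p i))) := by
      rw [map_sub, hak]; simp
    rw [h2]
    exact (Ideal.neg_mem_iff _).mpr (phi_mem_of_mem φ _ (hp i))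
  · intro y hy
    obtain ⟨w, rfl⟩ := MvPolynomial.map_surjective (Ideal.Quotient.mk (I ^ j))
      Ideal.Quotient.mk_surjective y
    rw [RingHom.mem_ker, theta_map_eq_zero_iff, ← map_phi φ,
      Ideal.mem_map_iff_of_surjective φ.toRingHom hφ] at hy
    obtain ⟨u, hu, hu'⟩ := hy
    have hker' : ofP R I m w - u ∈ RingHom.ker φ.toRingHom := by
      rw [RingHom.mem_ker, map_sub, sub_eq_zero]; exact hu'.symm
    rw [← ha] at hker'
    obtain ⟨c, hc⟩ := (Submodule.mem_span_range_iff_exists_fun _).mp hker'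
    choose r hr using fun i => exists_sub_mem hI j (c i)
    have h5 : ofP R I m (w - ∑ i, r i * p i) ∈ (I ^ j).map (algebraMap R (RPow R I m)) := by
      have h6 : ofP R I m (w - ∑ i, r i * p i) =
          u + ∑ i, ((c i - ofP R I m (r i)) * a i + ofP R I m (r i) * (a i - ofP R I m (p i))) := by
        have hw : ofP R I m w = u + ∑ i, c i * a i := by
          simp only [smul_eq_mul] at hc
          rw [hc]; ring
        rw [map_sub, map_sum, hw]
        simp only [map_mul]
        rw [add_sub_assoc, ← Finset.sum_sub_distrib]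
        congr 1
        refine Finset.sum_congr rfl fun i _ => ?_
        ring
      rw [h6]
      refine Ideal.add_mem _ hu (Ideal.sum_mem _ fun i _ => Ideal.add_mem _ ?_ ?_)
      · exact Ideal.mul_mem_right _ _ (hr i)
      · exact Ideal.mul_mem_left _ _ (hp i)
    have h4 := mem_of_ofP_mem j _ h5
    have h3 : MvPolynomial.map (Ideal.Quotient.mk (I ^ j)) (w - ∑ i, r i * p i) = 0 := by
      have : w - ∑ i, r i * p i ∈ RingHom.ker (MvPolynomial.map (Ideal.Quotient.mk (I ^ j)) :
          MvPolynomial (Fin m) R →+* _) := by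
        rw [MvPolynomial.ker_map, Ideal.mk_ker]; exact h4
      exact this
    rw [map_sub, sub_eq_zero] at h3
    rw [h3, map_sum]
    refine Submodule.sum_mem _ fun i _ => ?_
    rw [map_mul]
    refine Ideal.mul_mem_left _ _ (Submodule.subset_span ?_)
    rw [Finset.coe_image]
    exact ⟨i, Finset.mem_coe.mpr (Finset.mem_univ i), rfl⟩

end Groth.Agent.Lib.Helper27.AdicTrunc
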