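import Mathlib
import Groth.Agent.Lib.Helper27.AdicFin
import Groth.Agent.Lib.Helper27.AdicPoint
import Groth.Agent.Lib.Helper27.RPowLift
import Groth.Agent.Lib.Helper27.AdicTrunc
import Groth.Agent.Lib.Helper27.ValPoly
import Groth.Agent.Lib.Helper12.IntegralDim

/-!
Class (V): a domain `B` topologically of finite type over `R`, without `t`-torsion, in which every
nonzero element divides a power of `t` (i.e. `B[1/t]` is a field) has Krull dimension one.
The proof uses Noether normalization of the special fibre.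
-/

set_option autoImplicit false
universe u

namespace Groth.Agent.Lib.Helper27.AdicDim

open AdicRing IsLocalRing
open Groth.Agent.Lib.Helper27 Groth.Agent.Lib.Helper27.AdicUtil

/-- Noether normalization of the special fibre, formulated over `R`. -/
theorem nn' (R : Type*) [CommRing R] [IsLocalRing R] (B : Type*) [CommRing B] [Algebra R B]
    [Nontrivial (B ⧸ (maximalIdeal R).map (algebraMap R B))]
    [Algebra.FiniteType R (B ⧸ (maximalIdeal R).map (algebraMap R B))] :
    ∃ (d : ℕ) (θ : MvPolynomial (Fin d) R →ₐ[R] (B ⧸ (maximalIdeal R).map (algebraMap R B))),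
      θ.toRingHom.IsIntegral ∧
      ∀ p, θ p = 0 → p ∈ (maximalIdeal R).map (MvPolynomial.C : R →+* MvPolynomial (Fin d) R) := by
  letI : Field (R ⧸ maximalIdeal R) := Ideal.Quotient.field _
  haveI : Algebra.FiniteType (R ⧸ maximalIdeal R) (B ⧸ (maximalIdeal R).map (algebraMap R B)) :=
    Algebra.FiniteType.of_restrictScalars_finiteType R _ _
  obtain ⟨d, g, hginj, hgint⟩ := exists_integral_inj_algHom_of_fg (R ⧸ maximalIdeal R)
    (B ⧸ (maximalIdeal R).map (algebraMap R B))
  refine ⟨d, (g.restrictScalars R).comp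
    (MvPolynomial.mapAlgHom (Ideal.Quotient.mkₐ R (maximalIdeal R))), ?_, ?_⟩
  · have h1 : (MvPolynomial.map (Ideal.Quotient.mk (maximalIdeal R)) :
        MvPolynomial (Fin d) R →+* _).IsIntegral :=
      RingHom.isIntegral_of_surjective _
        (MvPolynomial.map_surjective _ Ideal.Quotient.mk_surjective)
    exact RingHom.IsIntegral.trans _ _ h1 hgint
  · intro p hp
    have h1 : g (MvPolynomial.map (Ideal.Quotient.mk (maximalIdeal R)) p) = 0 := hp
    have h2 : MvPolynomial.map (Ideal.Quotient.mk (maximalIdeal R)) p = 0 := by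
      apply hginj; rw [h1, map_zero]
    have h3 : p ∈ RingHom.ker (MvPolynomial.map (Ideal.Quotient.mk (maximalIdeal R)) :
        MvPolynomial (Fin d) R →+* _) := h2
    rw [MvPolynomial.ker_map, Ideal.mk_ker] at h3
    exact h3

section

variable (R : Type u) [CommRing R] [IsDomain R] [ValuationRing R] [Ring.KrullDimLE 1 R]
  (t : R) (ht : t ≠ 0) [IsAdicComplete (Ideal.span {t}) R]

include ht in
lemma map_maximalIdeal_ne_top (B : Type*) [CommRing B] [Algebra R B] [Nontrivial B]
    [IsHausdorff (Ideal.span {t}) B] :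
    (maximalIdeal R).map (algebraMap R B) ≠ ⊤ := by
  intro h
  have h1 : (1 : B) ∈ (maximalIdeal R).map (algebraMap R B) := h ▸ Submodule.mem_top
  obtain ⟨c, hc, b, hcb⟩ := AdicFin.exists_smul_of_mem_map _ _ h1
  obtain ⟨i, e, hi⟩ := RPowKey.exists_dvd_pow_of_mem t ht c hc
  have h2 : (1 : B) = t • (e • b ^ i) := by
    calc (1 : B) = (c • b) ^ i := by rw [← hcb, one_pow]
      _ = c ^ i • b ^ i := smul_pow _ _ _
      _ = t • (e • b ^ i) := by rw [hi, mul_smul]
  have h3 : ∀ j : ℕ, (1 : B) = t ^ j • (e • b ^ i) ^ j := by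
    intro j
    induction j with
    | zero => simp
    | succ j ih =>
      calc (1 : B) = 1 * 1 := (one_mul 1).symm
        _ = (t ^ j • (e • b ^ i) ^ j) * (t • (e • b ^ i)) := by rw [← ih, ← h2]
        _ = t ^ (j + 1) • (e • b ^ i) ^ (j + 1) := by
          rw [smul_mul_smul_comm, ← pow_succ, ← pow_succ]
  have : (1 : B) = 0 := by
    apply (inferInstance : IsHausdorff (Ideal.span {t}) B).haus
    intro j
    rw [SModEq.zero, mem_pow_smul_top_iff]
    exact ⟨_, h3 j⟩
  exact one_ne_zero this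

include ht in
lemma algebraMap_mem_jacobson (C : Type*) [CommRing C] [Algebra R C]
    [IsAdicComplete ((Ideal.span {t}).map (algebraMap R C)) C]
    (c : R) (hc : c ∈ maximalIdeal R) : algebraMap R C c ∈ (⊥ : Ideal C).jacobson := by
  obtain ⟨i, e, hi⟩ := RPowKey.exists_dvd_pow_of_mem t ht c hc
  have h1 : (Ideal.span {t}).map (algebraMap R C) ≤ (⊥ : Ideal C).jacobson :=
    IsAdicComplete.le_jacobson_bot _
  have h2 : algebraMap R C c ∈ ((Ideal.span {t}).map (algebraMap R C)).radical := by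
    refine ⟨i, ?_⟩
    rw [← map_pow, hi, map_mul]
    exact Ideal.mul_mem_right _ _ (Ideal.mem_map_of_mem _ (Ideal.mem_span_singleton_self t))
  have h3 := Ideal.radical_le_jacobson h2
  have h4 := Ideal.jacobson_mono h1 h3
  rwa [Ideal.jacobson_idem] at h4

variable (B : Type u) [CommRing B] [Algebra R B] [IsDomain B]
  {n : ℕ} (φ : RPow R (Ideal.span {t}) n →ₐ[R] B) (hφ : Function.Surjective φ)
  (htB : algebraMap R B t ≠ 0)
  {d : ℕ} (θ : MvPolynomial (Fin d) R →ₐ[R] (B ⧸ (maximalIdeal R).map (algebraMap R B)))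
  (y : Fin d → B) (hy : ∀ i, Ideal.Quotient.mk _ (y i) = θ (MvPolynomial.X i))

include hy in
lemma mk_aeval (p : MvPolynomial (Fin d) R) :
    Ideal.Quotient.mk ((maximalIdeal R).map (algebraMap R B)) (MvPolynomial.aeval y p) = θ p := by
  have h : (Ideal.Quotient.mkₐ R ((maximalIdeal R).map (algebraMap R B))).comp
      (MvPolynomial.aeval y) = θ := by
    apply MvPolynomial.algHom_ext
    intro i
    simp only [AlgHom.comp_apply, MvPolynomial.aeval_X]
    exact hy i
  exact AlgHom.congr_fun h p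

include ht hφ hy in
theorem finite_liftX [hcB : IsAdicComplete ((Ideal.span {t}).map (algebraMap R B)) B]
    (hθ : θ.toRingHom.IsIntegral) :
    (RPowLift.liftX R (Ideal.span {t}) B y).toRingHom.Finite := by
  classical
  letI algPi : Algebra (MvPolynomial (Fin d) R) B :=
    (MvPolynomial.aeval y : MvPolynomial (Fin d) R →ₐ[R] B).toRingHom.toAlgebra
  haveI : IsScalarTower R (MvPolynomial (Fin d) R) B :=
    IsScalarTower.of_algebraMap_eq (fun r => by
      show algebraMap R B r = MvPolynomial.aeval y (algebraMap R _ r); simp)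
  have hQ : ∀ l, ∃ Q : Polynomial (MvPolynomial (Fin d) R), Q.Monic ∧
      Polynomial.aeval (AdicFin.yv R t φ l) Q ∈ (maximalIdeal R).map (algebraMap R B) := by
    intro l
    obtain ⟨Q, hQm, hQ0⟩ := hθ (Ideal.Quotient.mk _ (AdicFin.yv R t φ l))
    refine ⟨Q, hQm, ?_⟩
    rw [← Ideal.Quotient.eq_zero_iff_mem, Polynomial.aeval_def, Polynomial.hom_eval₂]
    have : (Ideal.Quotient.mk ((maximalIdeal R).map (algebraMap R B))).comp
        (algebraMap (MvPolynomial (Fin d) R) B) = θ.toRingHom :=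
      RingHom.ext fun q => mk_aeval R B θ y hy q
    rw [this]; exact hQ0
  choose Q hQm hQmem using hQ
  let 𝔱 : Ideal B := Ideal.span {algebraMap R B t}
  have hint : ∀ l, IsIntegral (MvPolynomial (Fin d) R)
      (Ideal.Quotient.mk 𝔱 (AdicFin.yv R t φ l)) := by
    intro l
    obtain ⟨c, hc, b, hcb⟩ := AdicFin.exists_smul_of_mem_map (maximalIdeal R) _ (hQmem l)
    obtain ⟨i, e, hi⟩ := RPowKey.exists_dvd_pow_of_mem t ht c hc
    refine ⟨Q l ^ i, (hQm l).pow i, ?_⟩
    rw [← Polynomial.aeval_def]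
    have h1 := Polynomial.aeval_algHom_apply
      (Ideal.Quotient.mkₐ (MvPolynomial (Fin d) R) 𝔱) (AdicFin.yv R t φ l) (Q l ^ i)
    refine h1.trans ?_
    rw [map_pow, hcb]
    show Ideal.Quotient.mk 𝔱 ((c • b) ^ i) = 0
    rw [Ideal.Quotient.eq_zero_iff_mem, smul_pow, hi, mul_smul, Algebra.smul_def]
    exact 𝔱.mul_mem_right _ (Ideal.mem_span_singleton_self _)
  have hsurj := AdicFin.aeval_mk_surjective R t φ hφ 𝔱 (Ideal.mem_span_singleton_self _)
  have hadjR : Algebra.adjoin R
      (Set.range fun l => Ideal.Quotient.mk 𝔱 (AdicFin.yv R t φ l)) = ⊤ := by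
    rw [Algebra.adjoin_range_eq_range_aeval]
    exact (AlgHom.range_eq_top _).mpr hsurj
  have hadj : Algebra.adjoin (MvPolynomial (Fin d) R)
      (Set.range fun l => Ideal.Quotient.mk 𝔱 (AdicFin.yv R t φ l)) = ⊤ := by
    rw [eq_top_iff]
    intro x _
    have hx : x ∈ Algebra.adjoin R
        (Set.range fun l => Ideal.Quotient.mk 𝔱 (AdicFin.yv R t φ l)) := by
      rw [hadjR]; trivial
    have hle : Algebra.adjoin R
        (Set.range fun l => Ideal.Quotient.mk 𝔱 (AdicFin.yv R t φ l)) ≤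
        (Algebra.adjoin (MvPolynomial (Fin d) R)
          (Set.range fun l => Ideal.Quotient.mk 𝔱 (AdicFin.yv R t φ l))).restrictScalars R :=
      Algebra.adjoin_le Algebra.subset_adjoin
    exact hle hx
  have hfg := fg_adjoin_of_finite (R := MvPolynomial (Fin d) R)
    (Set.finite_range fun l => Ideal.Quotient.mk 𝔱 (AdicFin.yv R t φ l))
    (by rintro _ ⟨l, rfl⟩; exact hint l)
  rw [hadj, Algebra.top_toSubmodule] at hfg
  obtain ⟨s, wbar, hwbar⟩ := Submodule.fg_iff_exists_fin_generating_family.mp hfg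
  choose w hw using fun i => Ideal.Quotient.mk_surjective (wbar i)
  letI algP : Algebra (RPow R (Ideal.span {t}) d) B :=
    (RPowLift.liftX R (Ideal.span {t}) B y).toRingHom.toAlgebra
  haveI : IsScalarTower R (RPow R (Ideal.span {t}) d) B :=
    IsScalarTower.of_algebraMap_eq
      (fun r => ((RPowLift.liftX R (Ideal.span {t}) B y).commutes r).symm)
  haveI : IsPrecomplete (Ideal.span {t}) (RPow R (Ideal.span {t}) d) :=
    (RPowKey.isAdicComplete_rpow R d (Ideal.span {t}) ⟨{t}, by simp⟩).toIsPrecomplete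
  haveI : IsHausdorff (Ideal.span {t}) B :=
    ((IsAdicComplete.map_algebraMap_iff (Ideal.span {t}) B).mp hcB).toIsHausdorff
  have hle : (⊤ : Submodule (RPow R (Ideal.span {t}) d) B) ≤
      Submodule.span (RPow R (Ideal.span {t}) d) (Set.range w) := by
    apply KeyCompl.le_span_of_complete (R := R) t ⊤ w (fun _ => Submodule.mem_top)
    intro x _
    have hx : Ideal.Quotient.mk 𝔱 x ∈
        Submodule.span (MvPolynomial (Fin d) R) (Set.range wbar) := by
      rw [hwbar]; exact Submodule.mem_top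
    obtain ⟨q, hq⟩ := (Submodule.mem_span_range_iff_exists_fun _).mp hx
    have h2 : x - ∑ i, MvPolynomial.aeval y (q i) * w i ∈ 𝔱 := by
      rw [← Ideal.Quotient.eq_zero_iff_mem, map_sub, ← hq, map_sum, sub_eq_zero]
      refine Finset.sum_congr rfl fun i _ => ?_
      rw [← hw i]
      rfl
    obtain ⟨b', hb'⟩ := Ideal.mem_span_singleton'.mp h2
    refine ⟨∑ i, MvPolynomial.aeval y (q i) * w i, ?_, b', Submodule.mem_top, ?_⟩
    · refine Submodule.sum_mem _ fun i _ => ?_
      have : MvPolynomial.aeval y (q i) * w i =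
          (algebraMap (MvPolynomial (Fin d) R) (RPow R (Ideal.span {t}) d) (q i)) • w i := by
        rw [Algebra.smul_def]
        show _ = (RPowLift.liftX R (Ideal.span {t}) B y) _ * _
        rw [RPowLift.liftX_of]
      rw [this]
      exact Submodule.smul_mem _ _ (Submodule.subset_span ⟨i, rfl⟩)
    · rw [Algebra.smul_def, mul_comm, hb']; abel
  have htop : Submodule.span (RPow R (Ideal.span {t}) d) (Set.range w) = ⊤ := top_le_iff.mp hle
  show Module.Finite (RPow R (Ideal.span {t}) d) B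
  exact ⟨htop ▸ Submodule.fg_span (Set.finite_range w)⟩

include ht htB hy in
theorem injective_liftX [hcB : IsAdicComplete ((Ideal.span {t}).map (algebraMap R B)) B]
    (hker : ∀ p, θ p = 0 →
      p ∈ (maximalIdeal R).map (MvPolynomial.C : R →+* MvPolynomial (Fin d) R)) :
    Function.Injective (RPowLift.liftX R (Ideal.span {t}) B y) := by
  classical
  set ψ := RPowLift.liftX R (Ideal.span {t}) B y with hψ
  have ht_mem : t ∈ maximalIdeal R := RPowKey.mem_maximalIdeal_of_isHausdorff t
  have hRB : ∀ c : R, c ≠ 0 → algebraMap R B c ≠ 0 := by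
    intro c hc h0
    obtain ⟨j, e, hj⟩ := RPowKey.exists_dvd_pow t c hc
    apply htB
    have : algebraMap R B t ^ j = 0 := by rw [← map_pow, hj, map_mul, h0, zero_mul]
    exact IsReduced.eq_zero _ ⟨j, this⟩
  have hC1 : ∀ x, ψ x ∈ (maximalIdeal R).map (algebraMap R B) →
      x ∈ (maximalIdeal R).map (algebraMap R (RPow R (Ideal.span {t}) d)) := by
    intro x hx
    obtain ⟨p, x'', rfl⟩ := RPowKey.dense_rpow R t d x
    have h1 : t • x'' ∈ (maximalIdeal R).map (algebraMap R (RPow R (Ideal.span {t}) d)) := by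
      rw [Algebra.smul_def]
      exact Ideal.mul_mem_right _ _ (Ideal.mem_map_of_mem _ ht_mem)
    refine Ideal.add_mem _ ?_ h1
    rw [map_add, map_smul, RPowLift.liftX_of] at hx
    have h2 : t • ψ x'' ∈ (maximalIdeal R).map (algebraMap R B) := by
      rw [Algebra.smul_def]
      exact Ideal.mul_mem_right _ _ (Ideal.mem_map_of_mem _ ht_mem)
    have h3 : MvPolynomial.aeval y p ∈ (maximalIdeal R).map (algebraMap R B) := by
      have := Ideal.sub_mem _ hx h2
      simpa using this
    have h4 : θ p = 0 := by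
      rw [← mk_aeval R B θ y hy p]; exact Ideal.Quotient.eq_zero_iff_mem.mpr h3
    have h5 := hker p h4
    have h6 := Ideal.mem_map_of_mem (AdicTrunc.ofP R (Ideal.span {t}) d) h5
    rw [AdicTrunc.map_ofP] at h6
    exact h6
  have hdec : ∀ x, ψ x = 0 → ∃ c ∈ maximalIdeal R, ∃ x', ψ x' = 0 ∧ x = c • x' := by
    intro x hx
    have h1 := hC1 x (by rw [hx]; exact Ideal.zero_mem _)
    obtain ⟨c, hc, x', rfl⟩ := AdicFin.exists_smul_of_mem_map _ _ h1
    by_cases hc0 : c = 0
    · exact ⟨0, Ideal.zero_mem _, 0, map_zero _, by rw [hc0, zero_smul, zero_smul]⟩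
    · refine ⟨c, hc, x', ?_, rfl⟩
      rw [map_smul, Algebra.smul_def] at hx
      exact (mul_eq_zero.mp hx).resolve_left (hRB c hc0)
  have hfg : (RingHom.ker ψ.toRingHom).FG := by
    apply RPowKey.fg_of_saturated_tft R t ht (RPow R (Ideal.span {t}) d)
      (AdicBase.tft_rpow R _ d) (RPow R (Ideal.span {t}) d) (RingHom.ker ψ.toRingHom)
    intro x hx
    rw [RingHom.mem_ker] at hx ⊢
    have hx' : ψ (t • x) = 0 := hx
    rw [map_smul, Algebra.smul_def] at hx'
    exact (mul_eq_zero.mp hx').resolve_left htB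
  obtain ⟨m, gen, hgen⟩ := Submodule.fg_iff_exists_fin_generating_family.mp hfg
  have hgen_mem : ∀ j, ψ (gen j) = 0 := fun j => by
    have : gen j ∈ RingHom.ker ψ.toRingHom := by
      rw [← hgen]; exact Submodule.subset_span ⟨j, rfl⟩
    exact this
  have hker0 : RingHom.ker ψ.toRingHom = ⊥ := by
    rcases Nat.eq_zero_or_pos m with hm0 | hmpos
    · subst hm0
      rw [← hgen]
      simp
    · choose c hc x' hx'0 hx' using fun j => hdec (gen j) (hgen_mem j)
      haveI : Nonempty (Fin m) := ⟨⟨0, hmpos⟩⟩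
      obtain ⟨j₀, -, hdiv⟩ := ValPoly.exists_dvd_all (Finset.univ : Finset (Fin m))
        Finset.univ_nonempty c
      have hgenmem : ∀ j, gen j ∈ Ideal.span {algebraMap R (RPow R (Ideal.span {t}) d) (c j₀)} •
          RingHom.ker ψ.toRingHom := by
        intro j
        obtain ⟨e, he⟩ := hdiv j (Finset.mem_univ j)
        have e1 : gen j = algebraMap R (RPow R (Ideal.span {t}) d) (c j₀) * (e • x' j) := by
          rw [← Algebra.smul_def, ← mul_smul, ← he]; exact hx' j
        rw [e1]
        have hmem : e • x' j ∈ RingHom.ker ψ.toRingHom := by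
          show ψ (e • x' j) = 0
          rw [map_smul, hx'0 j, smul_zero]
        exact Ideal.mul_mem_mul (Ideal.mem_span_singleton_self _) hmem
      have hle : RingHom.ker ψ.toRingHom ≤
          Ideal.span {algebraMap R (RPow R (Ideal.span {t}) d) (c j₀)} •
            RingHom.ker ψ.toRingHom := by
        intro x hx
        rw [← hgen] at hx
        exact (Submodule.span_le.mpr (by rintro _ ⟨j, rfl⟩; exact hgenmem j)) hx
      haveI : IsAdicComplete ((Ideal.span {t}).map
          (algebraMap R (RPow R (Ideal.span {t}) d))) (RPow R (Ideal.span {t}) d) :=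
        (IsAdicComplete.map_algebraMap_iff (Ideal.span {t}) (RPow R (Ideal.span {t}) d)).mpr
          (RPowKey.isAdicComplete_rpow R d (Ideal.span {t}) ⟨{t}, by simp⟩)
      exact Submodule.eq_bot_of_le_smul_of_le_jacobson_bot _ _ hfg hle
        ((Ideal.span_singleton_le_iff_mem _).mpr
          (algebraMap_mem_jacobson R t ht _ (c j₀) (hc j₀)))
  exact (RingHom.injective_iff_ker_eq_bot ψ.toRingHom).mpr hker0

include ht htB in
theorem false_of_div {d : ℕ} (ψ : RPow R (Ideal.span {t}) (d + 1) →ₐ[R] B)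
    (hinj : Function.Injective ψ) (hint : ψ.toRingHom.IsIntegral)
    (hdiv : ∀ y : B, y ≠ 0 → ∃ (b' : B) (N : ℕ), y * b' = algebraMap R B (t ^ N)) : False := by
  haveI : IsAdicComplete ((Ideal.span {t}).map (algebraMap R R)) R :=
    (IsAdicComplete.map_algebraMap_iff (Ideal.span {t}) R).mpr inferInstance
  let ε₀ := RPowLift.liftX R (Ideal.span {t}) R (fun _ : Fin (d + 1) => (0 : R))
  let ε₁ := RPowLift.liftX R (Ideal.span {t}) R (fun _ : Fin (d + 1) => (1 : R))
  set η₀ : RPow R (Ideal.span {t}) (d + 1) :=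
    algebraMap (MvPolynomial (Fin (d + 1)) R) _ (MvPolynomial.X 0) with hη₀
  have hε₀ : ε₀ η₀ = 0 := by rw [hη₀, RPowLift.liftX_of, MvPolynomial.aeval_X]
  have hε₁ : ε₁ η₀ = 1 := by rw [hη₀, RPowLift.liftX_of, MvPolynomial.aeval_X]
  have hη₀ne : η₀ ≠ 0 := by
    intro h
    rw [h, map_zero] at hε₁
    exact zero_ne_one hε₁
  have hy₀ : ψ η₀ ≠ 0 := fun h => hη₀ne (hinj (by rw [h, map_zero]))
  obtain ⟨b', N, hb'⟩ := hdiv _ hy₀
  obtain ⟨Q, hQm, hQ0⟩ := hint b'
  have h1 := Polynomial.scaleRoots_eval₂_eq_zero ψ.toRingHom (s := η₀) hQ0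
  set τ := algebraMap R (RPow R (Ideal.span {t}) (d + 1)) (t ^ N) with hτ
  have h2 : ψ.toRingHom η₀ * b' = ψ.toRingHom τ := by
    show ψ η₀ * b' = ψ τ
    rw [hb', hτ, ψ.commutes]
  rw [h2, Polynomial.eval₂_hom] at h1
  have h4 : Polynomial.eval τ (Polynomial.scaleRoots Q η₀) = 0 :=
    hinj (by rw [map_zero]; exact h1)
  have h5 : Polynomial.eval (ε₀.toRingHom τ)
      ((Polynomial.scaleRoots Q η₀).map ε₀.toRingHom) = 0 := by
    rw [Polynomial.eval_map, Polynomial.eval₂_hom, h4, map_zero]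
  have hlc : ε₀.toRingHom Q.leadingCoeff ≠ 0 := by
    rw [hQm.leadingCoeff, map_one]; exact one_ne_zero
  rw [Polynomial.map_scaleRoots Q η₀ ε₀.toRingHom hlc] at h5
  have h6 : ε₀.toRingHom η₀ = 0 := hε₀
  have h7 : ε₀.toRingHom τ = t ^ N := by
    show ε₀ τ = _
    rw [hτ, ε₀.commutes]; rfl
  rw [h6, Polynomial.scaleRoots_zero, (hQm.map ε₀.toRingHom).leadingCoeff, one_smul,
    Polynomial.eval_pow, Polynomial.eval_X, h7] at h5
  exact pow_ne_zero _ (pow_ne_zero _ ht) h5

end

section main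

variable (R : Type u) [CommRing R] [IsDomain R] [ValuationRing R] [Ring.KrullDimLE 1 R]
  (t : R) (ht : t ≠ 0) [IsAdicComplete (Ideal.span {t}) R]

include ht in
/-- **Dimension one**: a domain topologically of finite type over `R` with `t ≠ 0` in which
every nonzero element divides a power of `t` has Krull dimension one. -/
theorem ringKrullDim_eq_one_of_div (B : Type u) [CommRing B] [Algebra R B] [IsDomain B]
    (hB : TopFiniteType R (Ideal.span {t}) B) (htB : algebraMap R B t ≠ 0)
    (hdiv : ∀ y : B, y ≠ 0 → ∃ (b' : B) (N : ℕ), y * b' = algebraMap R B (t ^ N)) :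
    ringKrullDim B = 1 := by
  classical
  haveI hcB0 : IsAdicComplete (Ideal.span {t}) B :=
    AdicComplete.isAdicComplete_classV R t ht B hB B
  haveI hcB : IsAdicComplete ((Ideal.span {t}).map (algebraMap R B)) B :=
    (IsAdicComplete.map_algebraMap_iff (Ideal.span {t}) B).mpr hcB0
  obtain ⟨n, φ, hφ⟩ := hB
  have ht_mem : t ∈ maximalIdeal R := RPowKey.mem_maximalIdeal_of_isHausdorff t
  have h𝔪Bne : (maximalIdeal R).map (algebraMap R B) ≠ ⊤ := map_maximalIdeal_ne_top R t ht B
  haveI : Nontrivial (B ⧸ (maximalIdeal R).map (algebraMap R B)) :=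
    Ideal.Quotient.nontrivial_iff.mpr h𝔪Bne
  have ht𝔪 : algebraMap R B t ∈ (maximalIdeal R).map (algebraMap R B) :=
    Ideal.mem_map_of_mem _ ht_mem
  haveI : Algebra.FiniteType R (B ⧸ (maximalIdeal R).map (algebraMap R B)) :=
    Algebra.FiniteType.of_surjective _ (AdicFin.aeval_mk_surjective R t φ hφ _ ht𝔪)
  obtain ⟨d, θ, hθint, hθker⟩ := nn' R B
  choose y hy using fun i : Fin d => Ideal.Quotient.mk_surjective (θ (MvPolynomial.X i))
  have hd : d = 0 := by
    rcases Nat.eq_zero_or_pos d with h | h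
    · exact h
    · exfalso
      obtain ⟨d', rfl⟩ := Nat.exists_eq_succ_of_ne_zero h.ne'
      exact false_of_div R t ht B htB (RPowLift.liftX R (Ideal.span {t}) B y)
        (injective_liftX R t ht B htB θ y hy hθker)
        (finite_liftX R t ht B φ hφ θ y hy hθint).to_isIntegral hdiv
  subst hd
  have hintR : (algebraMap R (B ⧸ (maximalIdeal R).map (algebraMap R B))).IsIntegral := by
    have h1 : (MvPolynomial.C : R →+* MvPolynomial (Fin 0) R).IsIntegral :=
      RingHom.isIntegral_of_surjective _ (MvPolynomial.C_surjective (Fin 0))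
    have h2 := RingHom.IsIntegral.trans _ _ h1 hθint
    have h3 : θ.toRingHom.comp (MvPolynomial.C : R →+* MvPolynomial (Fin 0) R) =
        algebraMap R (B ⧸ (maximalIdeal R).map (algebraMap R B)) := by
      ext r
      exact θ.commutes r
    rwa [h3] at h2
  haveI : Algebra.IsIntegral R (B ⧸ (maximalIdeal R).map (algebraMap R B)) :=
    algebraMap_isIntegral_iff.mp hintR
  haveI : Algebra.IsIntegral (R ⧸ maximalIdeal R)
      (B ⧸ (maximalIdeal R).map (algebraMap R B)) := Algebra.IsIntegral.tower_top (R := R)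
  haveI hK0 : Ring.KrullDimLE 0 (B ⧸ (maximalIdeal R).map (algebraMap R B)) := by
    rw [Ring.krullDimLE_iff]
    refine (Groth.Agent.Lib.Helper12.ringKrullDim_le_of_isIntegral
      (R := R ⧸ maximalIdeal R)).trans ?_
    letI : Field (R ⧸ maximalIdeal R) := Ideal.Quotient.field _
    exact (ringKrullDim_eq_zero_of_field _).le
  haveI hK1 : Ring.KrullDimLE 1 B := by
    apply Ring.KrullDimLE.mk₁'
    intro 𝔮 h𝔮ne h𝔮p
    obtain ⟨y0, hy0mem, hy0ne⟩ := Submodule.exists_mem_ne_zero_of_ne_bot h𝔮ne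
    obtain ⟨b', N, hb'⟩ := hdiv y0 hy0ne
    have htq : algebraMap R B t ∈ 𝔮 := by
      apply h𝔮p.mem_of_pow_mem N
      rw [← map_pow, ← hb']
      exact 𝔮.mul_mem_right _ hy0mem
    have h𝔪q : (maximalIdeal R).map (algebraMap R B) ≤ 𝔮 := by
      rw [Ideal.map_le_iff_le_comap]
      intro c hc
      obtain ⟨i, e, hi⟩ := RPowKey.exists_dvd_pow_of_mem t ht c hc
      rw [Ideal.mem_comap]
      apply h𝔮p.mem_of_pow_mem i
      rw [← map_pow, hi, map_mul]
      exact 𝔮.mul_mem_right _ htq
    have hker : RingHom.ker (Ideal.Quotient.mk ((maximalIdeal R).map (algebraMap R B))) ≤ 𝔮 := by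
      rw [Ideal.mk_ker]; exact h𝔪q
    haveI hq'p : (𝔮.map (Ideal.Quotient.mk ((maximalIdeal R).map (algebraMap R B)))).IsPrime :=
      Ideal.map_isPrime_of_surjective Ideal.Quotient.mk_surjective hker
    have hq'max : (𝔮.map (Ideal.Quotient.mk ((maximalIdeal R).map (algebraMap R B)))).IsMaximal :=
      hq'p.isMaximal'
    have := Ideal.comap_isMaximal_of_surjective
      (Ideal.Quotient.mk ((maximalIdeal R).map (algebraMap R B))) Ideal.Quotient.mk_surjective
      (K := 𝔮.map (Ideal.Quotient.mk ((maximalIdeal R).map (algebraMap R B))))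
    rwa [Ideal.comap_map_of_surjective _ Ideal.Quotient.mk_surjective,
      ← RingHom.ker_eq_comap_bot, sup_eq_left.mpr hker] at this
  refine eq_of_le_of_not_lt (Ring.krullDimLE_iff (n := 1).mp hK1) fun h => ?_
  haveI : Ring.KrullDimLE 0 B := Ring.krullDimLE_iff.mpr (ENat.WithBot.lt_add_one_iff.mp h)
  obtain ⟨𝔫, h𝔫max, h𝔫le⟩ := Ideal.exists_le_maximal _ h𝔪Bne
  have hbmax : (⊥ : Ideal B).IsMaximal := Ideal.isPrime_bot.isMaximal'
  have : (⊥ : Ideal B) = 𝔫 := hbmax.eq_of_le h𝔫max.ne_top bot_le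
  apply htB
  have h1 : algebraMap R B t ∈ 𝔫 := h𝔫le ht𝔪
  rwa [← this, Ideal.mem_bot] at h1

end main

end Groth.Agent.Lib.Helper27.AdicDim
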