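import Mathlib
import Groth.Agent.Lib.Helper8.LocalCriterion3

/-!
Flatness from flatness of truncations, with abstract Artin–Rees and separatedness hypotheses
(no Noetherian hypothesis).
-/

set_option autoImplicit false
universe u

open TensorProduct

namespace Groth.Agent.Lib.Helper27.AdicFlat

open Groth.Agent.Lib.Helper8

variable {R : Type u} [CommRing R] (K : Ideal R) (M : Type u) [AddCommGroup M] [Module R M]

/-- Elements of `ker (𝔞 ⊗ M → R ⊗ M)` come from `(K ∩ 𝔞) ⊗ M` when `M/KM` is flat over `R/K`. -/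
theorem mem_range_rTensor_inclusion_of_flat
    [Module.Flat (R ⧸ K) ((R ⧸ K) ⊗[R] M)] (𝔞 : Ideal R) (x : 𝔞 ⊗[R] M)
    (hx : (𝔞.subtype.rTensor M) x = 0) :
    x ∈ LinearMap.range ((Submodule.inclusion (inf_le_right : K ⊓ 𝔞 ≤ 𝔞)).rTensor M) := by
  have hsurj : Function.Surjective (algebraMap R (R ⧸ K)) := Ideal.Quotient.mk_surjective
  have hT : Module.IsTorsionBySet R
      (↥𝔞 ⧸ LinearMap.range (Submodule.inclusion (inf_le_right : K ⊓ 𝔞 ≤ 𝔞)))
      ((K : Ideal R) : Set R) := by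
    rintro y ⟨r, hr⟩
    obtain ⟨a, rfl⟩ := Submodule.mkQ_surjective _ y
    show r • (LinearMap.range (Submodule.inclusion (inf_le_right : K ⊓ 𝔞 ≤ 𝔞))).mkQ a = 0
    rw [← map_smul, Submodule.mkQ_apply, Submodule.Quotient.mk_eq_zero]
    exact ⟨⟨r * a.1, ⟨Ideal.mul_mem_right _ _ hr, 𝔞.mul_mem_left r a.2⟩⟩, Subtype.ext rfl⟩
  let _ : Module (R ⧸ K)
      (↥𝔞 ⧸ LinearMap.range (Submodule.inclusion (inf_le_right : K ⊓ 𝔞 ≤ 𝔞))) := hT.module
  have : IsScalarTower R (R ⧸ K)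
      (↥𝔞 ⧸ LinearMap.range (Submodule.inclusion (inf_le_right : K ⊓ 𝔞 ≤ 𝔞))) :=
    Module.IsTorsionBySet.isScalarTower hT
  have hle : LinearMap.range (Submodule.inclusion (inf_le_right : K ⊓ 𝔞 ≤ 𝔞)) ≤
      LinearMap.ker (K.mkQ ∘ₗ 𝔞.subtype) := by
    rintro _ ⟨c, rfl⟩
    rw [LinearMap.mem_ker, LinearMap.comp_apply, Submodule.mkQ_apply,
      Submodule.Quotient.mk_eq_zero]
    exact c.2.1
  have hginj : Function.Injective
      ((LinearMap.range (Submodule.inclusion (inf_le_right : K ⊓ 𝔞 ≤ 𝔞))).liftQ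
        (K.mkQ ∘ₗ 𝔞.subtype) hle) := by
    rw [← LinearMap.ker_eq_bot, Submodule.ker_liftQ_eq_bot']
    apply le_antisymm hle
    intro a ha
    rw [LinearMap.mem_ker, LinearMap.comp_apply, Submodule.mkQ_apply,
      Submodule.Quotient.mk_eq_zero] at ha
    exact ⟨⟨a.1, ⟨ha, a.2⟩⟩, Subtype.ext rfl⟩
  have hinj := rTensor_injective_of_flat_baseChange (R := R) (S := R ⧸ K) M hsurj _ hginj
  have hcomm : ((LinearMap.range (Submodule.inclusion (inf_le_right : K ⊓ 𝔞 ≤ 𝔞))).liftQ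
        (K.mkQ ∘ₗ 𝔞.subtype) hle).rTensor M ∘ₗ
      ((LinearMap.range (Submodule.inclusion (inf_le_right : K ⊓ 𝔞 ≤ 𝔞))).mkQ).rTensor M =
      (K.mkQ).rTensor M ∘ₗ 𝔞.subtype.rTensor M := by
    rw [← LinearMap.rTensor_comp, ← LinearMap.rTensor_comp, Submodule.liftQ_mkQ]
  have h0 : ((LinearMap.range (Submodule.inclusion (inf_le_right : K ⊓ 𝔞 ≤ 𝔞))).mkQ).rTensor M x
      = 0 := by
    apply hinj
    have h := congrArg (fun φ => φ x) hcomm
    simp only [LinearMap.comp_apply] at h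
    rw [h, hx, map_zero, map_zero]
  exact (rTensor_exact M (LinearMap.exact_map_mkQ_range _) (Submodule.mkQ_surjective _) x).mp h0

/-- Flatness from flat truncations along a family of ideals `K n`, given an Artin–Rees property
and separatedness of `𝔞 ⊗ M` for finitely generated `𝔞`. -/
theorem flat_of_flat_quotients (K : ℕ → Ideal R)
    (hflat : ∀ n, Module.Flat (R ⧸ K n) ((R ⧸ K n) ⊗[R] M))
    (hAR : ∀ 𝔞 : Ideal R, 𝔞.FG → ∀ m, ∃ n, K n ⊓ 𝔞 ≤ K m * 𝔞)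
    (hsep : ∀ 𝔞 : Ideal R, 𝔞.FG → ⨅ m, K m • (⊤ : Submodule R (𝔞 ⊗[R] M)) = ⊥) :
    Module.Flat R M := by
  rw [Module.Flat.iff_rTensor_injective]
  intro 𝔞 h𝔞
  rw [injective_iff_map_eq_zero]
  intro x hx
  have key : ∀ m : ℕ, x ∈ K m • (⊤ : Submodule R (𝔞 ⊗[R] M)) := by
    intro m
    obtain ⟨n, hn⟩ := hAR 𝔞 h𝔞 m
    haveI := hflat n
    have h1 := mem_range_rTensor_inclusion_of_flat (K n) M 𝔞 x hx
    exact range_rTensor_inclusion_le M inf_le_right hn h1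
  have hmem : x ∈ ⨅ m : ℕ, K m • (⊤ : Submodule R (𝔞 ⊗[R] M)) := (Submodule.mem_iInf _).mpr key
  rw [hsep 𝔞 h𝔞] at hmem
  exact hmem

end Groth.Agent.Lib.Helper27.AdicFlat
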