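import Mathlib
import Groth.Agent.Lib.Helper27.AdicFin
import Groth.Agent.Lib.Helper27.AdicDim
import Groth.Agent.Lib.Helper27.RPowLift

/-!
Class (V): finite `R`-algebras which are domains are local (via idempotent lifting).
-/

set_option autoImplicit false
universe u

namespace Groth.Agent.Lib.Helper27.AdicHensel

open AdicRing IsLocalRing Polynomial
open Groth.Agent.Lib.Helper27 Groth.Agent.Lib.Helper27.AdicUtil

/-- Adic completeness only depends on the topology: `(t)`-adically complete modules are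
`(c)`-adically complete when `t ∣ c^i` and `c ∣ t^j`. -/
theorem isAdicComplete_of_dvd {R : Type*} [CommRing R] (t c : R) (M : Type*) [AddCommGroup M]
    [Module R M] (i j : ℕ) (h1 : t ∣ c ^ i) (h2 : c ∣ t ^ j)
    [IsAdicComplete (Ideal.span {t}) M] : IsAdicComplete (Ideal.span {c}) M := by
  obtain ⟨e, he⟩ := h1
  obtain ⟨d, hd⟩ := h2
  -- `c^((i+1) n) M ⊆ t^n M`
  have hct : ∀ (n : ℕ) (y : M), ∃ y' : M, c ^ ((i + 1) * n) • y = t ^ n • y' := by
    intro n y
    refine ⟨(c ^ n * e ^ n) • y, ?_⟩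
    rw [← mul_smul]
    congr 1
    calc c ^ ((i + 1) * n) = (c ^ i * c) ^ n := by rw [← pow_succ, pow_mul]
      _ = (t * e * c) ^ n := by rw [he]
      _ = t ^ n * (c ^ n * e ^ n) := by ring
  -- `t^(j n) M ⊆ c^n M`
  have htc : ∀ (n : ℕ) (y : M), ∃ y' : M, t ^ (j * n) • y = c ^ n • y' := by
    intro n y
    refine ⟨(d ^ n) • y, ?_⟩
    rw [← mul_smul]
    congr 1
    calc t ^ (j * n) = (t ^ j) ^ n := by rw [pow_mul]
      _ = (c * d) ^ n := by rw [hd]
      _ = c ^ n * d ^ n := by ring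
  haveI hH : IsHausdorff (Ideal.span {c}) M := by
    rw [isHausdorff_iff]
    intro x hx
    apply (isHausdorff_iff.mp (inferInstance : IsHausdorff (Ideal.span {t}) M))
    intro n
    rw [SModEq.zero, mem_pow_smul_top_iff]
    have h := hx ((i + 1) * n)
    rw [SModEq.zero, mem_pow_smul_top_iff] at h
    obtain ⟨y, rfl⟩ := h
    exact hct n y
  haveI hP : IsPrecomplete (Ideal.span {c}) M := by
    rw [isPrecomplete_iff]
    intro f hf
    have hg : ∀ {m n : ℕ}, m ≤ n → f ((i + 1) * m) ≡ f ((i + 1) * n)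
        [SMOD ((Ideal.span {t}) ^ m • ⊤ : Submodule R M)] := by
      intro m n hmn
      have h := hf (Nat.mul_le_mul_left (i + 1) hmn)
      rw [SModEq.sub_mem, mem_pow_smul_top_iff] at h ⊢
      obtain ⟨y, hy⟩ := h
      rw [hy]
      exact hct m y
    obtain ⟨L, hL⟩ := (isPrecomplete_iff.mp
      (inferInstance : IsPrecomplete (Ideal.span {t}) M)) (fun m => f ((i + 1) * m)) hg
    refine ⟨L, fun n => ?_⟩
    rw [SModEq.sub_mem, mem_pow_smul_top_iff]
    -- M₀ := j * n + n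
    have hL' := hL (j * n + n)
    rw [SModEq.sub_mem, mem_pow_smul_top_iff] at hL'
    obtain ⟨y₁, hy₁⟩ := hL'
    have hle : n ≤ (i + 1) * (j * n + n) :=
      calc n ≤ j * n + n := Nat.le_add_left _ _
        _ = 1 * (j * n + n) := (one_mul _).symm
        _ ≤ (i + 1) * (j * n + n) := Nat.mul_le_mul_right _ (Nat.succ_le_succ (Nat.zero_le i))
    have h2 := hf hle
    rw [SModEq.sub_mem, mem_pow_smul_top_iff] at h2
    obtain ⟨y₂, hy₂⟩ := h2
    obtain ⟨y₃, hy₃⟩ := htc n (t ^ n • y₁)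
    refine ⟨y₂ + y₃, ?_⟩
    rw [smul_add, ← hy₂, ← hy₃, ← mul_smul, ← pow_add, ← hy₁]
    abel
  exact {}

section

variable (R : Type u) [CommRing R] [IsDomain R] [ValuationRing R] [Ring.KrullDimLE 1 R]
  (t : R) (ht : t ≠ 0) [IsAdicComplete (Ideal.span {t}) R]

/-- `R` is topologically of finite type over itself. -/
theorem tft_self : TopFiniteType R (Ideal.span {t}) R := by
  haveI : IsAdicComplete ((Ideal.span {t}).map (algebraMap R R)) R :=
    (IsAdicComplete.map_algebraMap_iff (Ideal.span {t}) R).mpr inferInstance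
  refine ⟨0, RPowLift.liftX R (Ideal.span {t}) R Fin.elim0,
    RPowLift.liftX_surjective R (Ideal.span {t}) R Fin.elim0 ⟨{t}, by simp⟩ ?_⟩
  intro b
  refine ⟨MvPolynomial.C b, ?_⟩
  simp

include ht in
/-- A domain which is a finite `R`-algebra is a local ring. -/
theorem isLocalRing_of_finite_isDomain (D : Type u) [CommRing D] [IsDomain D] [Algebra R D]
    [Module.Finite R D] : IsLocalRing D := by
  classical
  have ht_mem : t ∈ maximalIdeal R := RPowKey.mem_maximalIdeal_of_isHausdorff t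
  haveI hcC0 : IsAdicComplete (Ideal.span {t}) D :=
    AdicComplete.isAdicComplete_classV R t ht R (tft_self R t) D
  haveI hcC : IsAdicComplete ((Ideal.span {t}).map (algebraMap R D)) D :=
    (IsAdicComplete.map_algebraMap_iff (Ideal.span {t}) D).mpr hcC0
  -- `𝔪 D` is contained in every maximal ideal
  have h𝔪le : ∀ 𝔫 : Ideal D, 𝔫.IsMaximal → (maximalIdeal R).map (algebraMap R D) ≤ 𝔫 := by
    intro 𝔫 h𝔫
    rw [Ideal.map_le_iff_le_comap]
    intro c hc
    have h1 := AdicDim.algebraMap_mem_jacobson R t ht D c hc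
    have h2 : (⊥ : Ideal D).jacobson ≤ 𝔫 := sInf_le ⟨bot_le, h𝔫⟩
    exact h2 h1
  have hcomap : ∀ 𝔫 : Ideal D, 𝔫.IsMaximal → ∀ r : R, algebraMap R D r ∈ 𝔫 →
      r ∈ maximalIdeal R := by
    intro 𝔫 h𝔫 r hr
    rw [mem_maximalIdeal, mem_nonunits_iff]
    intro hu
    exact h𝔫.ne_top (Ideal.eq_top_of_isUnit_mem _ hr (hu.map _))
  apply IsLocalRing.of_unique_max_ideal
  obtain ⟨𝔫₀, h𝔫₀⟩ := Ideal.exists_maximal D
  refine ⟨𝔫₀, h𝔫₀, ?_⟩
  intro 𝔫₂ h𝔫₂
  by_contra hne
  -- two distinct maximal ideals `𝔫₁ = 𝔫₀` and `𝔫₂`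
  have hsup := Ideal.IsMaximal.coprime_of_ne h𝔫₀ h𝔫₂ (Ne.symm hne)
  obtain ⟨x, hx, x', hx', hxx'⟩ := Submodule.mem_sup.mp
    (hsup ▸ (Submodule.mem_top : (1 : D) ∈ ⊤))
  have hx1 : x - 1 ∈ 𝔫₂ := by
    have : x - 1 = -x' := by rw [← hxx']; ring
    rw [this]; exact 𝔫₂.neg_mem hx'
  -- integrality equation
  obtain ⟨f, hfm, hf0⟩ := Algebra.IsIntegral.isIntegral (R := R) x
  rw [← Polynomial.aeval_def] at hf0
  -- `f(0) ∈ 𝔪` and `f(1) ∈ 𝔪`
  have hf0m : f.eval 0 ∈ maximalIdeal R := by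
    apply hcomap 𝔫₀ h𝔫₀
    obtain ⟨q, hq⟩ := (Polynomial.X_sub_C_dvd_sub_C_eval (a := (0 : R)) (p := f))
    have h1 := congrArg (Polynomial.aeval x) hq
    rw [map_sub, hf0, zero_sub, Polynomial.aeval_C, map_mul, map_sub, Polynomial.aeval_X,
      Polynomial.aeval_C, map_zero, sub_zero] at h1
    have h2 : algebraMap R D (f.eval 0) = -(x * Polynomial.aeval x q) := by rw [← h1, neg_neg]
    rw [h2]
    exact 𝔫₀.neg_mem (𝔫₀.mul_mem_right _ hx)
  have hf1m : f.eval 1 ∈ maximalIdeal R := by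
    apply hcomap 𝔫₂ h𝔫₂
    obtain ⟨q, hq⟩ := (Polynomial.X_sub_C_dvd_sub_C_eval (a := (1 : R)) (p := f))
    have h1 := congrArg (Polynomial.aeval x) hq
    rw [map_sub, hf0, zero_sub, Polynomial.aeval_C, map_mul, map_sub, Polynomial.aeval_X,
      Polynomial.aeval_C, map_one] at h1
    have h2 : algebraMap R D (f.eval 1) = -((x - 1) * Polynomial.aeval x q) := by
      rw [← h1, neg_neg]
    rw [h2]
    exact 𝔫₂.neg_mem (𝔫₂.mul_mem_right _ hx1)
  -- reduce modulo `𝔪`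
  letI : Field (R ⧸ maximalIdeal R) := Ideal.Quotient.field _
  set fbar : (R ⧸ maximalIdeal R)[X] := f.map (Ideal.Quotient.mk (maximalIdeal R)) with hfbar
  have hfbarm : fbar.Monic := hfm.map _
  have hfbar0 : fbar ≠ 0 := hfbarm.ne_zero
  have hroot0 : fbar.IsRoot 0 := by
    rw [Polynomial.IsRoot, hfbar, ← map_zero (Ideal.Quotient.mk (maximalIdeal R)),
      Polynomial.eval_map, Polynomial.eval₂_hom]
    exact Ideal.Quotient.eq_zero_iff_mem.mpr hf0m
  have hroot1 : fbar.IsRoot 1 := by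
    rw [Polynomial.IsRoot, hfbar, ← map_one (Ideal.Quotient.mk (maximalIdeal R)),
      Polynomial.eval_map, Polynomial.eval₂_hom]
    exact Ideal.Quotient.eq_zero_iff_mem.mpr hf1m
  obtain ⟨g₂, hg₂, hndvd⟩ :=
    Polynomial.exists_eq_pow_rootMultiplicity_mul_and_not_dvd fbar hfbar0 0
  set a := Polynomial.rootMultiplicity 0 fbar with ha
  have hapos : 0 < a := (Polynomial.rootMultiplicity_pos hfbar0).mpr hroot0
  have hcop : IsCoprime ((X - Polynomial.C (0 : R ⧸ maximalIdeal R)) ^ a) g₂ :=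
    ((Polynomial.irreducible_X_sub_C _).coprime_iff_not_dvd.mpr hndvd).pow_left
  obtain ⟨u, v, huv⟩ := hcop
  -- `g₂(1) = 0`
  have hg₂1 : (X - Polynomial.C (1 : R ⧸ maximalIdeal R)) ∣ g₂ := by
    rw [Polynomial.dvd_iff_isRoot]
    have h1 : fbar.eval 1 = 0 := hroot1
    rw [hg₂, Polynomial.eval_mul, Polynomial.eval_pow, Polynomial.eval_sub, Polynomial.eval_X,
      Polynomial.eval_C, sub_zero, one_pow, one_mul] at h1
    exact h1
  obtain ⟨h₂, hh₂⟩ := hg₂1
  -- lifts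
  obtain ⟨V, hV⟩ := Polynomial.map_surjective (Ideal.Quotient.mk (maximalIdeal R))
    Ideal.Quotient.mk_surjective v
  obtain ⟨G₂, hG₂⟩ := Polynomial.map_surjective (Ideal.Quotient.mk (maximalIdeal R))
    Ideal.Quotient.mk_surjective g₂
  obtain ⟨U, hU⟩ := Polynomial.map_surjective (Ideal.Quotient.mk (maximalIdeal R))
    Ideal.Quotient.mk_surjective u
  obtain ⟨H₂, hH₂⟩ := Polynomial.map_surjective (Ideal.Quotient.mk (maximalIdeal R))
    Ideal.Quotient.mk_surjective h₂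
  -- polynomial identities modulo `𝔪`
  have key : ∀ p : R[X], p.map (Ideal.Quotient.mk (maximalIdeal R)) = 0 →
      Polynomial.aeval x p ∈ (maximalIdeal R).map (algebraMap R D) := by
    intro p hp
    rw [Polynomial.aeval_eq_sum_range]
    refine Ideal.sum_mem _ fun k _ => ?_
    have hk : p.coeff k ∈ maximalIdeal R := by
      have := congrArg (fun q => Polynomial.coeff q k) hp
      simp only [Polynomial.coeff_map, Polynomial.coeff_zero] at this
      exact Ideal.Quotient.eq_zero_iff_mem.mp this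
    rw [Algebra.smul_def]
    exact Ideal.mul_mem_right _ _ (Ideal.mem_map_of_mem _ hk)
  set a₀ : D := Polynomial.aeval x (V * G₂) with ha₀
  -- Claim 1: `a₀^2 - a₀ ∈ 𝔪 D`
  have hc1 : a₀ ^ 2 - a₀ ∈ (maximalIdeal R).map (algebraMap R D) := by
    have e1 : a₀ ^ 2 - a₀ = Polynomial.aeval x ((V * G₂) ^ 2 - V * G₂ + U * V * f) := by
      rw [map_add, map_sub, map_pow, map_mul (Polynomial.aeval x) (U * V) f, hf0, mul_zero,
        add_zero]
    rw [e1]
    apply key
    rw [Polynomial.map_add, Polynomial.map_sub, Polynomial.map_pow, Polynomial.map_mul,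
      Polynomial.map_mul, Polynomial.map_mul, hV, hG₂, hU, ← hfbar, hg₂]
    linear_combination (v * g₂) * huv
  -- Claim 2: `a₀ - 1 ∈ 𝔫₀`
  have hc2 : a₀ - 1 ∈ 𝔫₀ := by
    have e1 : a₀ - 1 = Polynomial.aeval x (V * G₂ - 1 + U * X ^ a) -
        Polynomial.aeval x U * x ^ a := by
      rw [map_add, map_sub, map_one, map_mul (Polynomial.aeval x) U, map_pow,
        Polynomial.aeval_X]
      ring
    rw [e1]
    refine 𝔫₀.sub_mem (h𝔪le 𝔫₀ h𝔫₀ (key _ ?_)) (𝔫₀.mul_mem_left _ (𝔫₀.pow_mem_of_mem hx a hapos))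
    rw [Polynomial.map_add, Polynomial.map_sub, Polynomial.map_mul, Polynomial.map_mul,
      Polynomial.map_pow, Polynomial.map_X, Polynomial.map_one, hV, hG₂, hU]
    have : (X - Polynomial.C (0 : R ⧸ maximalIdeal R)) = X := by rw [map_zero, sub_zero]
    rw [this] at huv
    linear_combination huv
  -- Claim 3: `a₀ ∈ 𝔫₂`
  have hc3 : a₀ ∈ 𝔫₂ := by
    have e1 : a₀ = Polynomial.aeval x (V * G₂ - V * ((X - Polynomial.C 1) * H₂)) +
        Polynomial.aeval x V * ((x - 1) * Polynomial.aeval x H₂) := by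
      rw [ha₀]
      simp only [map_sub, map_mul, Polynomial.aeval_X, map_one]
      ring
    rw [e1]
    refine 𝔫₂.add_mem (h𝔪le 𝔫₂ h𝔫₂ (key _ ?_))
      (𝔫₂.mul_mem_left _ (𝔫₂.mul_mem_right _ hx1))
    rw [Polynomial.map_sub, Polynomial.map_mul, Polynomial.map_mul, Polynomial.map_mul,
      Polynomial.map_sub, Polynomial.map_X, Polynomial.map_C, map_one, hV, hG₂, hH₂, hh₂]
    ring
  -- Hensel lifting of the idempotent
  obtain ⟨c, hc, b, hcb⟩ := AdicFin.exists_smul_of_mem_map _ _ hc1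
  obtain ⟨c', hc'm, hc'0, b', hcb'⟩ : ∃ c' ∈ maximalIdeal R, c' ≠ 0 ∧ ∃ b' : D,
      a₀ ^ 2 - a₀ = c' • b' := by
    by_cases h0 : c = 0
    · exact ⟨t, ht_mem, ht, 0, by rw [hcb, h0, zero_smul, smul_zero]⟩
    · exact ⟨c, hc, h0, b, hcb⟩
  obtain ⟨i, hi⟩ := RPowKey.exists_dvd_pow_of_mem t ht c' hc'm
  obtain ⟨j, hj⟩ := RPowKey.exists_dvd_pow t c' hc'0
  haveI hcc0 : IsAdicComplete (Ideal.span {c'}) D := isAdicComplete_of_dvd t c' D i j hi hj
  haveI hcc : IsAdicComplete ((Ideal.span {c'}).map (algebraMap R D)) D :=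
    (IsAdicComplete.map_algebraMap_iff (Ideal.span {c'}) D).mpr hcc0
  have hIle : (Ideal.span {c'}).map (algebraMap R D) ≤ (maximalIdeal R).map (algebraMap R D) :=
    Ideal.map_mono ((Ideal.span_singleton_le_iff_mem _).mpr hc'm)
  have hmemI : a₀ ^ 2 - a₀ ∈ (Ideal.span {c'}).map (algebraMap R D) := by
    rw [hcb', Algebra.smul_def]
    exact Ideal.mul_mem_right _ _ (Ideal.mem_map_of_mem _ (Ideal.mem_span_singleton_self c'))
  have hmonic : (X ^ 2 - X : D[X]).Monic := by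
    apply Polynomial.monic_X_pow_sub
    rw [Polynomial.degree_X]
    norm_num
  have heval : (X ^ 2 - X : D[X]).eval a₀ = a₀ ^ 2 - a₀ := by simp
  have hder : (X ^ 2 - X : D[X]).derivative.eval a₀ = 2 * a₀ - 1 := by
    rw [Polynomial.derivative_sub, Polynomial.derivative_X_pow, Polynomial.derivative_X,
      Polynomial.eval_sub, Polynomial.eval_mul, Polynomial.eval_C, Polynomial.eval_pow,
      Polynomial.eval_X, Polynomial.eval_one]
    norm_num
  obtain ⟨e, heroot, hea⟩ := HenselianRing.is_henselian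
    (I := (Ideal.span {c'}).map (algebraMap R D)) (X ^ 2 - X : D[X]) hmonic a₀
    (by rw [heval]; exact hmemI)
    (by
      rw [hder]
      apply IsUnit.of_mul_eq_one (Ideal.Quotient.mk _ (2 * a₀ - 1))
      rw [← map_mul, ← map_one (Ideal.Quotient.mk _), Ideal.Quotient.eq]
      have : (2 * a₀ - 1) * (2 * a₀ - 1) - 1 = 4 * (a₀ ^ 2 - a₀) := by ring
      rw [this]
      exact Ideal.mul_mem_left _ _ hmemI)
  have he2 : e * (e - 1) = 0 := by
    have : (X ^ 2 - X : D[X]).eval e = 0 := heroot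
    simp at this
    rw [← this]; ring
  rcases mul_eq_zero.mp he2 with h | h
  · -- e = 0
    rw [h, zero_sub] at hea
    have h1 : a₀ ∈ 𝔫₀ := h𝔪le 𝔫₀ h𝔫₀ (hIle ((Ideal.neg_mem_iff _).mp hea))
    have h2 : (1 : D) ∈ 𝔫₀ := by
      have : (1 : D) = a₀ - (a₀ - 1) := by ring
      rw [this]; exact 𝔫₀.sub_mem h1 hc2
    exact h𝔫₀.ne_top ((Ideal.eq_top_iff_one _).mpr h2)
  · -- e = 1
    have he1 : e = 1 := sub_eq_zero.mp h
    rw [he1] at hea
    have h1 : a₀ - 1 ∈ 𝔫₂ := by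
      have : a₀ - 1 = -(1 - a₀) := by ring
      rw [this]
      exact 𝔫₂.neg_mem (h𝔪le 𝔫₂ h𝔫₂ (hIle hea))
    have h2 : (1 : D) ∈ 𝔫₂ := by
      have : (1 : D) = a₀ - (a₀ - 1) := by ring
      rw [this]; exact 𝔫₂.sub_mem hc3 h1
    exact h𝔫₂.ne_top ((Ideal.eq_top_iff_one _).mpr h2)

end

end Groth.Agent.Lib.Helper27.AdicHensel
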