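import Mathlib
import Groth.Agent.Lib.Helper27.ValPoly

/-!
Seidenberg's lemma: over a local domain `D` which is integrally closed in a field `L`, a root of a
polynomial with a unit coefficient lies in `D` or has its inverse in `D`.
Primitive polynomials over valuation rings.
-/

set_option autoImplicit false

namespace Groth.Agent.Lib.Helper27.AdicNormal

open Polynomial IsLocalRing

theorem mem_or_inv_mem_of_unit_coeff {D : Type*} [CommRing D] [IsLocalRing D] {L : Type*}
    [Field L] [Algebra D L]
    (hcl : ∀ z : L, IsIntegral D z → ∃ d : D, algebraMap D L d = z) (x : L) :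
    ∀ (n : ℕ) (p : D[X]), p.natDegree ≤ n → (∃ i, IsUnit (p.coeff i)) → aeval x p = 0 →
      (∃ d : D, algebraMap D L d = x) ∨ (∃ d : D, algebraMap D L d = x⁻¹) := by
  intro n
  induction n with
  | zero =>
    intro p hp ⟨i, hi⟩ h0
    exfalso
    rw [Polynomial.eq_C_of_natDegree_le_zero hp] at hi h0
    rw [Polynomial.coeff_C] at hi
    split_ifs at hi with h
    · rw [Polynomial.aeval_C] at h0
      exact (hi.map (algebraMap D L)).ne_zero h0
    · exact not_isUnit_zero hi
  | succ n ih =>
    intro p hp ⟨i, hi⟩ h0
    by_cases hdeg : p.natDegree ≤ n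
    · exact ih p hdeg ⟨i, hi⟩ h0
    have hdeg' : p.natDegree = n + 1 := le_antisymm hp (Nat.lt_of_not_le hdeg)
    by_cases hlead : IsUnit p.leadingCoeff
    · left
      obtain ⟨w, hw⟩ := hlead.exists_left_inv
      apply hcl
      refine ⟨C w * p, Polynomial.monic_C_mul_of_mul_leadingCoeff_eq_one hw, ?_⟩
      rw [← Polynomial.aeval_def, map_mul, h0, mul_zero]
    · obtain ⟨y, hy⟩ := hcl _ (isIntegral_leadingCoeff_smul p x h0)
      by_cases hyu : IsUnit y
      · right
        obtain ⟨w, hw⟩ := hyu.exists_right_inv
        refine ⟨p.leadingCoeff * w, ?_⟩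
        have h1 : algebraMap D L y * algebraMap D L w = 1 := by rw [← map_mul, hw, map_one]
        rw [hy, Algebra.smul_def] at h1
        rw [map_mul]
        apply eq_inv_of_mul_eq_one_right
        rw [← h1]; ring
      · -- reduce the degree
        have hpeq := Polynomial.eraseLead_add_C_mul_X_pow p
        rw [hdeg'] at hpeq
        apply ih (p.eraseLead + C y * X ^ n)
        · refine (Polynomial.natDegree_add_le _ _).trans (max_le ?_ ?_)
          · have := Polynomial.eraseLead_natDegree_le p
            rw [hdeg'] at this
            exact this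
          · exact Polynomial.natDegree_C_mul_X_pow_le _ _
        · have hi_ne : i ≠ p.natDegree := by
            intro h
            rw [h, Polynomial.coeff_natDegree] at hi
            exact hlead hi
          by_cases hin : i = n
          · refine ⟨n, ?_⟩
            rw [Polynomial.coeff_add, Polynomial.coeff_C_mul, Polynomial.coeff_X_pow,
              if_pos rfl, mul_one, Polynomial.eraseLead_coeff_of_ne _ (hin ▸ hi_ne)]
            rw [hin] at hi
            by_contra hnu
            have h1 : p.coeff n ∈ nonunits D := by
              have h2 : p.coeff n = (p.coeff n + y) + (-y) := by ring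
              rw [h2]
              exact IsLocalRing.nonunits_add hnu (by
                rw [mem_nonunits_iff, IsUnit.neg_iff]; exact hyu)
            exact h1 hi
          · refine ⟨i, ?_⟩
            rw [Polynomial.coeff_add, Polynomial.coeff_C_mul, Polynomial.coeff_X_pow,
              if_neg hin, mul_zero, add_zero, Polynomial.eraseLead_coeff_of_ne _ hi_ne]
            exact hi
        · have h1 : aeval x (p.eraseLead + C y * X ^ n) =
              aeval x (p.eraseLead + C p.leadingCoeff * X ^ (n + 1)) := by
            simp only [map_add, map_mul, Polynomial.aeval_C, map_pow, Polynomial.aeval_X]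
            rw [hy, Algebra.smul_def, pow_succ]
            ring
          rw [h1, hpeq, h0]

/-- Over a valuation ring, an algebraic element is a root of a polynomial having a coefficient
equal to one. -/
theorem exists_primitive_of_isAlgebraic {R : Type*} [CommRing R] [IsDomain R] [ValuationRing R]
    {L : Type*} [Field L] [Algebra R L] (hinj : Function.Injective (algebraMap R L)) (x : L)
    (hx : IsAlgebraic R x) : ∃ q : R[X], (∃ i, q.coeff i = 1) ∧ aeval x q = 0 := by
  obtain ⟨q, hq0, hqx⟩ := hx
  have hs : q.support.Nonempty := Polynomial.support_nonempty.mpr hq0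
  obtain ⟨i₀, hi₀, hdiv⟩ := ValPoly.exists_dvd_all q.support hs (fun i => q.coeff i)
  have hc0 : q.coeff i₀ ≠ 0 := Polynomial.mem_support_iff.mp hi₀
  have hC : C (q.coeff i₀) ∣ q := by
    rw [Polynomial.C_dvd_iff_dvd_coeff]
    intro j
    by_cases hj : j ∈ q.support
    · exact hdiv j hj
    · rw [Polynomial.notMem_support_iff.mp hj]; exact dvd_zero _
  obtain ⟨q₁, hq₁⟩ := hC
  refine ⟨q₁, ⟨i₀, ?_⟩, ?_⟩
  · have h1 : q.coeff i₀ = q.coeff i₀ * q₁.coeff i₀ := by
      conv_lhs => rw [hq₁, Polynomial.coeff_C_mul]
    have h2 : q.coeff i₀ * q₁.coeff i₀ = q.coeff i₀ * 1 := by rw [mul_one, ← h1]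
    exact mul_left_cancel₀ hc0 h2
  · rw [hq₁, map_mul, Polynomial.aeval_C] at hqx
    rcases mul_eq_zero.mp hqx with h | h
    · exfalso
      apply hc0
      apply hinj
      rw [h, map_zero]
    · exact h

end Groth.Agent.Lib.Helper27.AdicNormal
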