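import Mathlib
import Groth.Agent.Lib.Helper27.HD27
import Groth.Agent.Lib.Helper27.Geo4

/-! Adjoint divisor, part 1: separating elements from nonzero differentials; the chain rule for
polynomial expressions; the cross-product identity. -/

set_option autoImplicit false

namespace Groth.Agent.Lib.Helper27.Adj

open FunFld IntermediateField MvPolynomial

universe u v
variable {k : Type u} {K : Type v} [Field k] [Field K] [Algebra k K]

/-- Chain rule for a derivation applied to a polynomial expression. -/
theorem deriv_aeval {B : Type*} [CommRing B] [Algebra k B] (d : Derivation k B B)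
    {σ : Type*} [Fintype σ] [DecidableEq σ] (X : σ → B) (F : MvPolynomial σ k) :
    d (aeval X F) = ∑ i, aeval X (pderiv i F) * d (X i) := by
  induction F using MvPolynomial.induction_on with
  | C a =>
    rw [aeval_C, d.map_algebraMap]
    symm
    apply Finset.sum_eq_zero
    intro i _
    rw [pderiv_C, map_zero, zero_mul]
  | add p q hp hq =>
    rw [map_add, map_add, hp, hq, ← Finset.sum_add_distrib]
    apply Finset.sum_congr rfl
    intro i _
    rw [map_add, map_add, add_mul]
  | mul_X p j hp =>
    rw [map_mul, aeval_X, d.leibniz, hp, smul_eq_mul, smul_eq_mul, Finset.mul_sum]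
    have h1 : ∀ i, aeval X (pderiv i (p * MvPolynomial.X j)) * d (X i) =
        X j * (aeval X (pderiv i p) * d (X i)) +
          aeval X p * ((if j = i then (1 : B) else 0) * d (X i)) := by
      intro i
      rw [pderiv_mul, map_add, map_mul, map_mul, aeval_X, pderiv_X, Pi.single_apply]
      split_ifs with h
      · rw [map_one]; ring
      · rw [map_zero]; ring
    rw [Finset.sum_congr rfl (fun i _ => h1 i), Finset.sum_add_distrib, ← Finset.mul_sum,
      ← Finset.mul_sum]
    have h2 : ∑ i, (if j = i then (1 : B) else 0) * d (X i) = d (X j) := by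
      simp
    rw [h2]
    ring

/-- The cross-product identity: a vector orthogonal to `a` and `b` is parallel to `a × b`. -/
theorem cross_parallel {R : Type*} [CommRing R] (a b g : Fin 3 → R)
    (ha : ∑ i, g i * a i = 0) (hb : ∑ i, g i * b i = 0) (i : Fin 3) :
    (![a 1 * b 2 - a 2 * b 1, a 2 * b 0 - a 0 * b 2, a 0 * b 1 - a 1 * b 0] : Fin 3 → R) i * g 2 =
      (a 0 * b 1 - a 1 * b 0) * g i := by
  rw [Fin.sum_univ_three] at ha hb
  fin_cases i
  · simp only [Fin.zero_eta, Matrix.cons_val_zero]
    linear_combination (a 1) * hb - (b 1) * ha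
  · simp only [Fin.mk_one, Matrix.cons_val_one, Matrix.cons_val_zero]
    linear_combination (b 0) * ha - (a 0) * hb
  · simp

end Groth.Agent.Lib.Helper27.Adj
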