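import Mathlib
import Groth.Agent.Lib.Helper27.Adj1

/-! Adjoint divisor, part 2: the transformation law of `(X₀ dX₁ - X₁ dX₀) / F₂` under a linear
change of coordinates. -/

set_option autoImplicit false

namespace Groth.Agent.Lib.Helper27.Adj

open MvPolynomial

universe u v
variable {k : Type u} [Field k]

/-- Scaling the arguments of a homogeneous polynomial. -/
theorem aeval_smul_of_isHomogeneous {B : Type*} [CommRing B] [Algebra k B] {σ : Type*}
    (φ : MvPolynomial σ k) {n : ℕ} (hφ : φ.IsHomogeneous n) (c : B) (x : σ → B) :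
    aeval (fun i => c * x i) φ = c ^ n * aeval x φ := by
  classical
  conv_lhs => rw [φ.as_sum]
  conv_rhs => rw [φ.as_sum]
  rw [map_sum, map_sum, Finset.mul_sum]
  apply Finset.sum_congr rfl
  intro d hd
  rw [aeval_monomial, aeval_monomial]
  have hdeg : d.degree = n := by
    have := hφ (mem_support_iff.mp hd)
    rw [Finsupp.weight_apply, Finsupp.sum] at this
    rw [Finsupp.degree_apply, ← this]
    apply Finset.sum_congr rfl
    intro a _
    simp
  have : (d.prod fun i k => (c * x i) ^ k) = c ^ n * d.prod fun i k => x i ^ k := by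
    rw [Finsupp.prod, Finsupp.prod]
    simp_rw [mul_pow]
    rw [Finset.prod_mul_distrib, Finset.prod_pow_eq_pow_sum]
    congr 2
  rw [this]
  ring

/-- The determinant identity behind the transformation of cross products. -/
theorem cross_mulVec {B : Type*} [CommRing B] (a : Matrix (Fin 3) (Fin 3) B) (u v X Y : Fin 3 → B)
    (hX : ∀ i, X i = ∑ j, a i j * u j) (hY : ∀ i, Y i = ∑ j, a i j * v j) :
    ∑ i, a i 2 * (![X 1 * Y 2 - X 2 * Y 1, X 2 * Y 0 - X 0 * Y 2, X 0 * Y 1 - X 1 * Y 0] :
        Fin 3 → B) i = a.det * (u 0 * v 1 - u 1 * v 0) := by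
  rw [Matrix.det_fin_three, Fin.sum_univ_three]
  simp only [Matrix.cons_val_zero, Matrix.cons_val_one, Matrix.cons_val_two, Matrix.head_cons,
    Matrix.tail_cons, hX, hY, Fin.sum_univ_three]
  ring

/-- The transformation law: with `X = A u`, `F' = F ∘ A` and `F(X) = 0`,
`det A · (u₀ du₁ - u₁ du₀) · F₂(X) = (X₀ dX₁ - X₁ dX₀) · F'₂(u)`. -/
theorem core_identity {B : Type*} [CommRing B] [Algebra k B] (d : Derivation k B B)
    (F : MvPolynomial (Fin 3) k) (e : ℕ) (hF : F.IsHomogeneous e)
    (A : Matrix (Fin 3) (Fin 3) k) (u X : Fin 3 → B)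
    (hu : ∀ i, ∑ j, algebraMap k B (A i j) * u j = X i) (hFX : aeval X F = 0) :
    algebraMap k B A.det * (u 0 * d (u 1) - u 1 * d (u 0)) * aeval X (pderiv 2 F) =
      (X 0 * d (X 1) - X 1 * d (X 0)) *
        aeval u (pderiv 2 (aeval (fun i => ∑ j, C (A i j) * MvPolynomial.X j) F)) := by
  classical
  set σ : Fin 3 → MvPolynomial (Fin 3) k := fun i => ∑ j, C (A i j) * MvPolynomial.X j with hσ
  set g : Fin 3 → B := fun i => aeval X (pderiv i F) with hg
  have hσu : ∀ i, aeval u (σ i) = X i := by
    intro i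
    rw [hσ, ← hu i]
    simp only [map_sum, map_mul, aeval_C, aeval_X]
  have hcomp : ∀ G : MvPolynomial (Fin 3) k, aeval u (aeval σ G) = aeval X G := by
    intro G
    have := comp_aeval_apply (R := k) (f := σ) (aeval u : MvPolynomial (Fin 3) k →ₐ[k] B) G
    rw [this]
    congr 2
    funext i
    exact hσu i
  have hpd : ∀ i, pderiv (2 : Fin 3) (σ i) = C (A i 2) := by
    intro i
    rw [hσ]
    simp only [map_sum, Derivation.leibniz, pderiv_C, smul_zero, add_zero, pderiv_X,
      smul_eq_mul, Fin.sum_univ_three, Pi.single_apply]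
    simp
  have h3 : aeval u (pderiv 2 (aeval σ F)) = ∑ i, algebraMap k B (A i 2) * g i := by
    rw [deriv_aeval (pderiv (2 : Fin 3)) σ F, map_sum]
    apply Finset.sum_congr rfl
    intro i _
    rw [map_mul, hcomp, hpd, aeval_C, mul_comm]
  have h4 : ∑ i, g i * X i = 0 := by
    have h := congrArg (aeval X) hF.sum_X_mul_pderiv
    rw [map_sum, map_nsmul, hFX, smul_zero] at h
    rw [← h]
    apply Finset.sum_congr rfl
    intro i _
    rw [map_mul, aeval_X, mul_comm]
  have h5 : ∑ i, g i * d (X i) = 0 := by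
    have h := deriv_aeval d X F
    rw [hFX, map_zero] at h
    exact h.symm
  have hdX : ∀ i, d (X i) = ∑ j, algebraMap k B (A i j) * d (u j) := by
    intro i
    rw [← hu i, map_sum]
    apply Finset.sum_congr rfl
    intro j _
    rw [d.leibniz, d.map_algebraMap, smul_zero, add_zero, smul_eq_mul]
  have h6 := cross_parallel X (fun i => d (X i)) g h4 h5
  have h7 := cross_mulVec (A.map (algebraMap k B)) u (fun i => d (u i)) X (fun i => d (X i))
    (fun i => by simp only [Matrix.map_apply]; exact (hu i).symm)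
    (fun i => by simp only [Matrix.map_apply]; exact hdX i)
  have hdet : (A.map (algebraMap k B)).det = algebraMap k B A.det := by
    rw [← RingHom.mapMatrix_apply, ← RingHom.map_det]
  rw [hdet] at h7
  rw [← h7, Finset.sum_mul, h3, Finset.mul_sum]
  apply Finset.sum_congr rfl
  intro i _
  simp only [Matrix.map_apply]
  rw [mul_assoc, h6 i]
  ring

end Groth.Agent.Lib.Helper27.Adj
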