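import Mathlib
import Groth.Agent.Lib.Helper27.Adj2
import Groth.Agent.Lib.Helper27.FFExt5

/-! Adjoint divisor, part 3: separating elements, the coordinate derivation, orders of
differentials `w dv`. -/

set_option autoImplicit false

namespace Groth.Agent.Lib.Helper27.Adj

open FunFld IntermediateField

universe u v
variable {k : Type u} {K : Type v} [Field k] [Field K] [Algebra k K]

section AC

variable [IsAlgClosed k] (hK : IsFunctionField k K)

include hK in
/-- An element with nonzero differential is a separating variable. -/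
theorem sep_of_D_ne_zero {x : K} (hx : KaehlerDifferential.D k K x ≠ 0) :
    Transcendental k x ∧ Algebra.IsSeparable k⟮x⟯ K := by
  have hg : IsGeometric k K := HD.isGeometric_of_isAlgClosed
  have htr : Transcendental k x := by
    intro halg
    obtain ⟨c, rfl⟩ := hK.2 x halg
    exact hx ((KaehlerDifferential.D k K).map_algebraMap c)
  refine ⟨htr, ?_⟩
  obtain ⟨p, hp⟩ := CharP.exists K
  rcases CharP.char_is_prime_or_zero K p with hpp | hp0
  · haveI : Fact p.Prime := ⟨hpp⟩
    apply Geo.isSeparable_of_not_mem_kKp p hK hg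
    intro hmem
    exact hx (Geo.derivation_eq_zero_of_mem_kKp p (KaehlerDifferential.D k K) hmem)
  · subst hp0
    haveI : CharZero K := CharP.charP_to_charZero K
    haveI : CharZero k⟮x⟯ := (RingHom.charZero_iff (algebraMap k⟮x⟯ K).injective).mpr inferInstance
    haveI := Groth.Agent.Lib.Helper23.FF.finiteDimensional_adjoin hK htr
    exact Algebra.IsAlgebraic.isSeparable_of_perfectField

include hK in
/-- The coordinate derivation with respect to `dx`. -/
theorem exists_coord_derivation {x : K} (hx : KaehlerDifferential.D k K x ≠ 0) :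
    ∃ δ : Derivation k K K, δ x = 1 ∧
      ∀ z, KaehlerDifferential.D k K z = δ z • KaehlerDifferential.D k K x := by
  have h1 := LR.finrank_kaehler hK (HD.isGeometric_of_isAlgClosed (k := k) (K := K))
  set b := FiniteDimensional.basisSingleton Unit h1 (KaehlerDifferential.D k K x) hx with hb
  set ℓ : (Ω[K⁄k]) →ₗ[K] K := b.coord () with hℓ
  have hrepr : ∀ w : Ω[K⁄k], w = ℓ w • KaehlerDifferential.D k K x := by
    intro w
    have := b.sum_repr w
    rw [Fintype.sum_unique] at this
    conv_lhs => rw [← this]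
    rw [hℓ, Module.Basis.coord_apply, hb, FiniteDimensional.basisSingleton_apply]
  refine ⟨ℓ.compDer (KaehlerDifferential.D k K), ?_, fun z => hrepr _⟩
  have h2 := hrepr (KaehlerDifferential.D k K x)
  have h3 : (1 : K) • KaehlerDifferential.D k K x =
      ℓ (KaehlerDifferential.D k K x) • KaehlerDifferential.D k K x := by
    rw [one_smul]; exact h2
  exact (smul_left_injective K hx h3).symm

include hK in
/-- The differential of a separating variable has nonzero expansion at every place. -/
theorem vDiff_ne_zero_of_D_ne_zero {x : K} (hx : KaehlerDifferential.D k K x ≠ 0)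
    (P : Place k K) {φ : K →ₐ[k] LaurentSeries k} (hφ : LocRes.IsExpansionAt P.1 φ) :
    LocRes.vDiff φ 1 x ≠ 0 := by
  obtain ⟨π, hπ, -, -⟩ := Groth.Agent.Lib.Helper23.FF.exists_uniformizer P
  have h1 : Valued.v (φ π) = WithZero.exp (-(1 : ℤ)) := by rw [hφ.1]; exact hπ
  have h2 := LR.val_D_eq h1 (by simp)
  obtain ⟨g, hg⟩ := LR.exists_smul_D hK (HD.isGeometric_of_isAlgClosed (k := k) (K := K)) hx π
  have h3 := LR.D_map_of_smul φ hg
  rw [LR.vDiff_one]
  intro h0
  rw [_root_.map_eq_zero] at h0
  rw [h3, h0, mul_zero, map_zero] at h2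
  exact WithZero.exp_ne_zero h2.symm

/-- The order of `w dv` is `ord w + ord dv`. -/
theorem ordDiff_mul (P : Place k K) {φ : K →ₐ[k] LaurentSeries k}
    (hφ : LocRes.IsExpansionAt P.1 φ) {w v : K} (hw : w ≠ 0) (hv : LocRes.vDiff φ 1 v ≠ 0) :
    LocRes.ordDiff φ w v = P.ord w + LocRes.ordDiff φ 1 v := by
  unfold LocRes.ordDiff
  rw [LR.vDiff_one] at hv ⊢
  unfold LocRes.vDiff
  rw [map_mul, WithZero.log_mul (by rw [hφ.1]; exact (P.1.ne_zero_iff).mpr hw) hv, hφ.1]
  unfold Place.ord
  ring

include hK in
/-- The divisor of `w dv` for a separating variable `v` and `w ≠ 0`. -/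
theorem divDiff_apply' (Φ : Place k K → (K →ₐ[k] LaurentSeries k))
    (hΦ : ∀ P : Place k K, LocRes.IsExpansionAt P.1 (Φ P)) {w v : K} (hw : w ≠ 0)
    (hv : KaehlerDifferential.D k K v ≠ 0) (P : Place k K) :
    divDiff Φ w v P = P.ord w + LocRes.ordDiff (Φ P) 1 v := by
  classical
  obtain ⟨htr, hsep⟩ := sep_of_D_ne_zero hK hv
  haveI := Groth.Agent.Lib.Helper23.FF.finiteDimensional_adjoin hK htr
  have hpt : ∀ Q : Place k K, LocRes.ordDiff (Φ Q) w v = Q.ord w + LocRes.ordDiff (Φ Q) 1 v :=
    fun Q => ordDiff_mul Q (hΦ Q) hw (vDiff_ne_zero_of_D_ne_zero hK hv Q (hΦ Q))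
  have hfin : (Function.support fun Q : Place k K => LocRes.ordDiff (Φ Q) w v).Finite := by
    apply ((FF.finite_support_ord hK w).union (HD.finite_support_ordDiff hK Φ hΦ htr)).subset
    intro Q hQ
    rw [Function.mem_support, hpt Q] at hQ
    by_contra hcon
    rw [Set.mem_union, not_or, Function.mem_support, Function.mem_support, not_not, not_not]
      at hcon
    apply hQ
    rw [hcon.1, hcon.2, add_zero]
  unfold divDiff
  rw [dif_pos hfin]
  exact hpt P

end AC

end Groth.Agent.Lib.Helper27.Adj
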