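import Mathlib
import Groth.Agent.Lib.Helper27.Adj3

/-! Adjoint divisor, part 4: the divisor of a plane map under a change of coordinates. -/

set_option autoImplicit false

namespace Groth.Agent.Lib.Helper27.Adj

open FunFld IntermediateField

universe u v
variable {k : Type u} {K : Type v} [Field k] [Field K] [Algebra k K]

section

variable (hK : IsFunctionField k K)

include hK in
/-- For a tuple containing `1`, `exp (mapDiv φ P)` is the largest value of the entries. -/
theorem maxval_spec {ι : Type*} [Fintype ι] [Nonempty ι] (φ : ι → K) (i0 : ι) (h1 : φ i0 = 1)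
    (P : Place k K) :
    (∀ i, P.1 (φ i) ≤ WithZero.exp (mapDiv k φ P)) ∧
      ∃ i, P.1 (φ i) = WithZero.exp (mapDiv k φ P) := by
  rw [FF.mapDiv_apply' hK]
  set m := Finset.univ.inf' Finset.univ_nonempty (fun i => P.ord (φ i)) with hm
  have hm0 : m ≤ 0 := by
    have := Finset.inf'_le (fun i => P.ord (φ i)) (Finset.mem_univ i0)
    rw [h1] at this
    have h2 : P.ord (1 : K) = 0 := by unfold Place.ord; simp
    rw [h2] at this
    exact this
  constructor
  · intro i
    rcases eq_or_ne (φ i) 0 with h0 | h0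
    · rw [h0, map_zero]; exact zero_le
    · rw [FF.val_eq_exp_neg_ord P h0, WithZero.exp_le_exp]
      have := Finset.inf'_le (fun i => P.ord (φ i)) (Finset.mem_univ i)
      omega
  · obtain ⟨i1, -, hi1⟩ := Finset.exists_mem_eq_inf' Finset.univ_nonempty (fun i => P.ord (φ i))
    rcases eq_or_ne (φ i1) 0 with h0 | h0
    · refine ⟨i0, ?_⟩
      have : m = 0 := by
        rw [hm, hi1, h0]; unfold Place.ord; simp
      rw [h1, map_one, this]; simp
    · refine ⟨i1, ?_⟩
      rw [FF.val_eq_exp_neg_ord P h0, hm, hi1]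

include hK in
theorem mapDiv_eq_of_maxval {ι : Type*} [Fintype ι] [Nonempty ι] (φ : ι → K) (i0 : ι)
    (h1 : φ i0 = 1) (P : Place k K) (M : ℤ) (hle : ∀ i, P.1 (φ i) ≤ WithZero.exp M)
    (heq : ∃ i, P.1 (φ i) = WithZero.exp M) : mapDiv k φ P = M := by
  obtain ⟨h2, i2, h3⟩ := maxval_spec hK φ i0 h1 P
  obtain ⟨i3, h4⟩ := heq
  apply le_antisymm
  · have := hle i2
    rwa [h3, WithZero.exp_le_exp] at this
  · have := h2 i3
    rwa [h4, WithZero.exp_le_exp] at this

include hK in
/-- The divisor of the plane map in new coordinates. -/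
theorem mapDiv_change (x y : K) (A : Matrix (Fin 3) (Fin 3) k) (hA : A.det ≠ 0)
    (u : Fin 3 → K) (hu : ∀ i, ∑ j, algebraMap k K (A i j) * u j = ![(1 : K), x, y] i)
    (hu0 : u 0 ≠ 0) (P : Place k K) :
    mapDiv k ![(1 : K), u 1 / u 0, u 2 / u 0] P = mapDiv k ![(1 : K), x, y] P + P.ord (u 0) := by
  classical
  set X : Fin 3 → K := ![(1 : K), x, y] with hX
  obtain ⟨hXle, jX, hXeq⟩ := maxval_spec hK X 0 rfl P
  set M := mapDiv k X P with hM
  have hconst : ∀ c : k, P.1 (algebraMap k K c) ≤ 1 := P.2.1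
  -- `u = A⁻¹ X`
  have huinv : ∀ i, u i = ∑ j, algebraMap k K (A⁻¹ i j) * X j := by
    intro i
    have h1 : ∀ j, X j = ∑ l, algebraMap k K (A j l) * u l := fun j => (hu j).symm
    simp_rw [h1, Finset.mul_sum]
    rw [Finset.sum_comm]
    have h2 : ∀ l, ∑ j, algebraMap k K (A⁻¹ i j) * (algebraMap k K (A j l) * u l) =
        algebraMap k K ((A⁻¹ * A) i l) * u l := by
      intro l
      rw [Matrix.mul_apply, map_sum, Finset.sum_mul]
      apply Finset.sum_congr rfl
      intro j _
      rw [map_mul]; ring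
    simp_rw [h2]
    rw [Matrix.nonsing_inv_mul _ (isUnit_iff_ne_zero.mpr hA)]
    simp [Matrix.one_apply]
  have hule : ∀ i, P.1 (u i) ≤ WithZero.exp M := by
    intro i
    rw [huinv i]
    apply P.1.map_sum_le
    intro j _
    rw [map_mul]
    exact (mul_le_mul' (hconst _) (hXle j)).trans_eq (one_mul _)
  have hueq : ∃ i, P.1 (u i) = WithZero.exp M := by
    by_contra hcon
    push Not at hcon
    have hlt : ∀ i, P.1 (u i) < WithZero.exp M := fun i => lt_of_le_of_ne (hule i) (hcon i)
    have : P.1 (X jX) < WithZero.exp M := by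
      rw [← hu jX]
      apply P.1.map_sum_lt WithZero.exp_ne_zero
      intro l _
      rw [map_mul]
      exact lt_of_le_of_lt ((mul_le_mul' (hconst _) le_rfl).trans_eq (one_mul _)) (hlt l)
    rw [hXeq] at this
    exact lt_irrefl _ this
  have hv0 : P.1 (u 0) = WithZero.exp (-P.ord (u 0)) := FF.val_eq_exp_neg_ord P hu0
  have hX' : ∀ i, (![(1 : K), u 1 / u 0, u 2 / u 0] : Fin 3 → K) i = u i / u 0 := by
    intro i
    fin_cases i
    · simp [div_self hu0]
    · simp
    · simp
  have hval : ∀ i, P.1 ((![(1 : K), u 1 / u 0, u 2 / u 0] : Fin 3 → K) i) =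
      P.1 (u i) * WithZero.exp (P.ord (u 0)) := by
    intro i
    rw [hX' i, map_div₀, hv0, div_eq_mul_inv, ← WithZero.exp_neg, neg_neg]
  apply mapDiv_eq_of_maxval hK _ 0 rfl P
  · intro i
    rw [hval i, WithZero.exp_add]
    exact mul_le_mul' (hule i) le_rfl
  · obtain ⟨i, hi⟩ := hueq
    exact ⟨i, by rw [hval i, hi, WithZero.exp_add]⟩

end

end Groth.Agent.Lib.Helper27.Adj
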