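import Mathlib
import Groth.Agent.Lib.Helper27.Adj4
import Groth.Agent.Lib.Helper27.FunFld9
import Groth.Agent.Lib.Helper23.FFOrd
import Groth.Agent.Lib.Helper23.FF4c

/-! Adjoint divisor, part 5: invariance under projective changes of coordinates (S12616). -/

set_option autoImplicit false

namespace Groth.Agent.Lib.Helper27.Adj

open FunFld IntermediateField MvPolynomial

universe u v
variable {k : Type u} {K : Type v} [Field k] [Field K] [Algebra k K]

section AC

variable [IsAlgClosed k] (hK : IsFunctionField k K)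

include hK in
theorem adjoint_invariant (f : MvPolynomial (Fin 3) k) (e : ℕ) (hf : f.IsHomogeneous e)
    (x y : K) (hfxy : MvPolynomial.aeval ![(1 : K), x, y] f = 0)
    (hdx : KaehlerDifferential.D k K x ≠ 0)
    (he : (mapDiv k ![(1 : K), x, y]).deg = e)
    (A : Matrix (Fin 3) (Fin 3) k) (hA : A.det ≠ 0)
    (u : Fin 3 → K) (hu : ∀ i, ∑ j, algebraMap k K (A i j) * u j = ![(1 : K), x, y] i)
    (hu0 : u 0 ≠ 0)
    (hfy : (MvPolynomial.aeval ![(1 : K), x, y] (MvPolynomial.pderiv 2 f)) ≠ 0)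
    (hfy' : (MvPolynomial.aeval ![(1 : K), u 1 / u 0, u 2 / u 0] (MvPolynomial.pderiv 2
      (MvPolynomial.aeval (fun i : Fin 3 => ∑ j, MvPolynomial.C (A i j) * MvPolynomial.X j) f)))
        ≠ 0)
    (Φ : Place k K → (K →ₐ[k] LaurentSeries k))
    (hΦ : ∀ P : Place k K, LocRes.IsExpansionAt P.1 (Φ P)) :
    ((mapDiv k ![(1 : K), x, y]).deg - 3) • mapDiv k ![(1 : K), x, y] -
        divDiff Φ (MvPolynomial.aeval ![(1 : K), x, y] (MvPolynomial.pderiv 2 f))⁻¹ x =
      ((mapDiv k ![(1 : K), u 1 / u 0, u 2 / u 0]).deg - 3) •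
          mapDiv k ![(1 : K), u 1 / u 0, u 2 / u 0] -
        divDiff Φ (MvPolynomial.aeval ![(1 : K), u 1 / u 0, u 2 / u 0] (MvPolynomial.pderiv 2
          (MvPolynomial.aeval (fun i : Fin 3 => ∑ j, MvPolynomial.C (A i j) * MvPolynomial.X j)
            f)))⁻¹ (u 1 / u 0) := by
  classical
  set σ : Fin 3 → MvPolynomial (Fin 3) k :=
    fun i => ∑ j, MvPolynomial.C (A i j) * MvPolynomial.X j with hσ
  set g : K := MvPolynomial.aeval ![(1 : K), x, y] (MvPolynomial.pderiv 2 f) with hg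
  set g' : K := MvPolynomial.aeval ![(1 : K), u 1 / u 0, u 2 / u 0]
    (MvPolynomial.pderiv 2 (MvPolynomial.aeval σ f)) with hg'
  set x' : K := u 1 / u 0 with hx'
  -- the divisor of the map
  have hmap : mapDiv k ![(1 : K), u 1 / u 0, u 2 / u 0] =
      mapDiv k ![(1 : K), x, y] + FunFld.div k (u 0) := by
    ext P
    rw [Finsupp.add_apply, mapDiv_change hK x y A hA u hu hu0 P, FF.div_apply' hK]
  have hdeg : (mapDiv k ![(1 : K), u 1 / u 0, u 2 / u 0]).deg =
      (mapDiv k ![(1 : K), x, y]).deg := by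
    rw [hmap, FF.deg_add, FF.deg_div hK, add_zero]
  -- `e ≥ 1`
  have he1 : 1 ≤ e := by
    by_contra hlt
    have he0 : e = 0 := by omega
    subst he0
    rw [← totalDegree_zero_iff_isHomogeneous, totalDegree_eq_zero_iff_eq_C] at hf
    apply hfy
    rw [hg, hf, pderiv_C, map_zero]
  -- the coordinate derivation
  obtain ⟨δ, hδx, hδ⟩ := exists_coord_derivation hK hdx
  have hcore := core_identity δ f e hf A u ![(1 : K), x, y] hu hfxy
  have hq : (![(1 : K), x, y] : Fin 3 → K) 0 * δ ((![(1 : K), x, y] : Fin 3 → K) 1) -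
      (![(1 : K), x, y] : Fin 3 → K) 1 * δ ((![(1 : K), x, y] : Fin 3 → K) 0) = 1 := by
    simp only [Matrix.cons_val_zero, Matrix.cons_val_one, Matrix.head_cons]
    rw [hδx, Derivation.map_one_eq_zero]; ring
  have hp : u 0 * δ (u 1) - u 1 * δ (u 0) = u 0 ^ 2 * δ x' := by
    have h1 : u 1 = x' * u 0 := by rw [hx']; field_simp
    conv_lhs => rw [h1, δ.leibniz, smul_eq_mul, smul_eq_mul]
    ring
  have hFhom : (MvPolynomial.pderiv (2 : Fin 3) (MvPolynomial.aeval σ f)).IsHomogeneous (e - 1) := by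
    apply IsHomogeneous.pderiv
    have := hf.aeval σ (n := 1) (fun i => by
      rw [hσ]
      apply IsHomogeneous.sum
      intro j _
      exact isHomogeneous_C_mul_X _ _)
    rwa [one_mul] at this
  have hscale : MvPolynomial.aeval u
      (MvPolynomial.pderiv 2 (MvPolynomial.aeval σ f)) = u 0 ^ (e - 1) * g' := by
    rw [hg', ← aeval_smul_of_isHomogeneous _ hFhom]
    congr 2
    funext i
    fin_cases i
    · simp
    · simp only [Fin.mk_one, Matrix.cons_val_one, Matrix.cons_val_zero]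
      rw [hx']; field_simp
    · simp only [Fin.reduceFinMk, Matrix.cons_val_two, Matrix.tail_cons, Matrix.head_cons]
      field_simp
  rw [hq, hp, hscale, one_mul] at hcore
  -- (★) `det A · u₀² · δ x' · g = u₀^(e-1) · g'`
  have hdet0 : algebraMap k K A.det ≠ 0 := by
    rw [Ne, map_eq_zero_iff _ (algebraMap k K).injective]; exact hA
  have hδx'0 : δ x' ≠ 0 := by
    intro h0
    rw [h0, mul_zero, mul_zero, zero_mul] at hcore
    exact mul_ne_zero (pow_ne_zero _ hu0) hfy' hcore.symm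
  have hdx' : KaehlerDifferential.D k K x' ≠ 0 := by
    rw [hδ x']
    exact smul_ne_zero hδx'0 hdx
  rw [hdeg, hmap]
  ext P
  simp only [Finsupp.coe_sub, Finsupp.coe_smul, Finsupp.coe_add, Pi.sub_apply, Pi.smul_apply,
    Pi.add_apply, smul_eq_mul]
  rw [divDiff_apply' hK Φ hΦ (inv_ne_zero hfy) hdx P,
    divDiff_apply' hK Φ hΦ (inv_ne_zero hfy') hdx' P,
    LR.ordDiff_of_smul (Φ P) (hδ x') (vDiff_ne_zero_of_D_ne_zero hK hdx' P (hΦ P)), (hΦ P).1,
    FF.div_apply' hK, FF.ord_inv, FF.ord_inv]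
  have hord := congrArg P.ord hcore
  rw [FF.ord_mul P (mul_ne_zero hdet0 (mul_ne_zero (pow_ne_zero _ hu0) hδx'0)) hfy,
    FF.ord_mul P hdet0 (mul_ne_zero (pow_ne_zero _ hu0) hδx'0),
    FF.ord_mul P (pow_ne_zero _ hu0) hδx'0,
    FF.ord_mul P (pow_ne_zero _ hu0) hfy',
    Groth.Agent.Lib.Helper23.FF.ord_pow P hu0, Groth.Agent.Lib.Helper23.FF.ord_pow P hu0,
    Groth.Agent.Lib.Helper23.FF.ord_const] at hord
  have hcast : ((e - 1 : ℕ) : ℤ) = (e : ℤ) - 1 := by omega
  rw [hcast] at hord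
  have hlog : -WithZero.log (P.1 (δ x')) = P.ord (δ x') := rfl
  rw [hlog]
  push_cast at hord
  rw [he]
  linear_combination (1 : ℤ) * hord

end AC

end Groth.Agent.Lib.Helper27.Adj
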