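import Mathlib
import Groth.Agent.Lib.Helper27.Adj5
import Groth.Agent.Lib.Helper27.HD24
import Groth.Agent.Lib.Helper27.FunFld13
import Groth.Agent.Lib.Helper23.FFAC
import Groth.Agent.Lib.Helper23.FF4b

/-! Adjoint divisor, part 6: the place of `k(x)` below a finite place. -/

set_option autoImplicit false

namespace Groth.Agent.Lib.Helper27.Adj

open FunFld IntermediateField

universe u v
variable {k : Type u} {K : Type v} [Field k] [Field K] [Algebra k K]

/-- the generator of `k(x)` -/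
def gen (x : K) : k⟮x⟯ := ⟨x, mem_adjoin_simple_self k x⟩

theorem gen_coe (x : K) : ((gen (k := k) x : k⟮x⟯) : K) = x := rfl

theorem algebraMap_gen (x : K) : algebraMap k⟮x⟯ K (gen x) = x := rfl

theorem transcendental_gen {x : K} (hx : Transcendental k x) : Transcendental k (gen (k := k) x) := by
  intro halg
  exact hx (halg.algebraMap (A := K))

theorem adjoin_gen_eq_top (x : K) : k⟮gen (k := k) x⟯ = ⊤ := by
  apply IntermediateField.map_injective (k⟮x⟯.val)
  rw [IntermediateField.adjoin_map, Set.image_singleton]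
  have h1 : (k⟮x⟯.val) (gen x) = x := rfl
  rw [h1, ← AlgHom.fieldRange_eq_map, IntermediateField.fieldRange_val]

theorem adjoin_gen_sub_eq_top (x : K) (a : k) :
    k⟮gen (k := k) x - algebraMap k k⟮x⟯ a⟯ = ⊤ := by
  rw [eq_top_iff, ← adjoin_gen_eq_top x, adjoin_simple_le_iff]
  have h : gen (k := k) x = (gen x - algebraMap k k⟮x⟯ a) + algebraMap k k⟮x⟯ a := by ring
  have h2 : (gen x - algebraMap k k⟮x⟯ a) + algebraMap k k⟮x⟯ a ∈
      k⟮gen (k := k) x - algebraMap k k⟮x⟯ a⟯ :=
    add_mem (mem_adjoin_simple_self k _) (IntermediateField.algebraMap_mem _ a)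
  rw [← h] at h2
  exact h2

section AC

variable [IsAlgClosed k] (hK : IsFunctionField k K)

include hK in
/-- The place of `k(x)` below a place `Q` at which `x` is finite: `x - a` is a uniformizer. -/
theorem exists_base_place {x : K} (hx : Transcendental k x) (Q : Place k K) (hQx : Q.1 x ≤ 1) :
    ∃ (P : Place k k⟮x⟯) (e' : ℕ) (a : k), IsOverWith Q P e' ∧ P.1 (gen x) ≤ 1 ∧
      P.1 (gen x - algebraMap k k⟮x⟯ a) = WithZero.exp (-1) := by
  classical
  have hK₀ : IsFunctionField k k⟮x⟯ := HD.isFunctionField_adjoin_simple hK hx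
  haveI := Groth.Agent.Lib.Helper23.FF.finiteDimensional_adjoin hK hx
  obtain ⟨P, e', he'⟩ := FF.exists_isOverWith hK₀ Q
  have hPx : P.1 (gen x) ≤ 1 := (FF.isOverWith_val_le_one_iff he' (gen x)).mp hQx
  obtain ⟨a, ha⟩ := FF.exists_const_sub_lt P (Groth.Agent.Lib.Helper23.FF.deg_eq_one hK₀ P) hPx
  refine ⟨P, e', a, he', hPx, ?_⟩
  set t : k⟮x⟯ := gen x - algebraMap k k⟮x⟯ a with ht
  have htr : Transcendental k t := by
    intro halg
    apply transcendental_gen hx
    have : gen (k := k) x = t + algebraMap k k⟮x⟯ a := by rw [ht]; ring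
    rw [this]
    exact halg.add (isAlgebraic_algebraMap a)
  have ht0 : t ≠ 0 := by
    rintro h
    rw [h] at htr
    exact htr isAlgebraic_zero
  have hfin := Groth.Agent.Lib.Helper23.FF.finite_zeros hK₀ htr
  set Z := hfin.toFinset with hZdef
  have hZ : ∀ P', P' ∈ Z ↔ P'.1 t < 1 := fun P' => by
    rw [hZdef, Set.Finite.mem_toFinset]; rfl
  have hsum := Groth.Agent.Lib.Helper23.FF.sum_ord_mul_deg_eq hK₀ htr Z hZ
  have hrank : Module.finrank k⟮t⟯ k⟮x⟯ = 1 := by
    rw [ht, adjoin_gen_sub_eq_top]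
    exact IntermediateField.finrank_top
  rw [hrank] at hsum
  have hPZ : P ∈ Z := (hZ P).mpr ha
  have hle : P.ord t * (P.deg : ℤ) ≤ ∑ P' ∈ Z, P'.ord t * (P'.deg : ℤ) := by
    apply Finset.single_le_sum (f := fun P' : Place k k⟮x⟯ => P'.ord t * (P'.deg : ℤ)) _ hPZ
    intro P' hP'
    have := Groth.Agent.Lib.Helper23.FF.ord_pos_of_val_lt_one P' ht0 ((hZ P').mp hP')
    positivity
  rw [hsum, Groth.Agent.Lib.Helper23.FF.deg_eq_one hK₀ P] at hle
  have hpos := Groth.Agent.Lib.Helper23.FF.ord_pos_of_val_lt_one P ht0 ha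
  have hord : P.ord t = 1 := by
    push_cast at hle
    omega
  rw [Groth.Agent.Lib.Helper23.FF.val_eq_exp_neg_ord P ht0, hord]

end AC

end Groth.Agent.Lib.Helper27.Adj
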