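import Mathlib
import Groth.Agent.Lib.Helper27.Adj6

/-! Adjoint divisor, part 7: the polynomial `G(1, x, Y)` over `k(x)`. -/

set_option autoImplicit false

namespace Groth.Agent.Lib.Helper27.Adj

open FunFld IntermediateField

universe u v
variable {k : Type u} {K : Type v} [Field k] [Field K] [Algebra k K]

/-- a valuation which is `≤ 1` on the coefficients of a polynomial with leading coefficient a
unit is `≤ 1` on its roots. -/
theorem val_le_one_of_root {A₀ A Γ : Type*} [Field A₀] [Field A] [Algebra A₀ A]
    [LinearOrderedCommGroupWithZero Γ] (v : Valuation A Γ) (p : Polynomial A₀) (n : ℕ)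
    (hdeg : p.natDegree ≤ n) (hlead : v (algebraMap A₀ A (p.coeff n)) = 1)
    (hco : ∀ i, v (algebraMap A₀ A (p.coeff i)) ≤ 1) {y : A} (hy : Polynomial.aeval y p = 0) :
    v y ≤ 1 := by
  by_contra hlt
  rw [not_le] at hlt
  rw [Polynomial.aeval_eq_sum_range' (Nat.lt_succ_of_le hdeg), Finset.sum_range_succ,
    add_eq_zero_iff_eq_neg'] at hy
  have h1 := congrArg v hy
  rw [Valuation.map_neg, Algebra.smul_def, map_mul, hlead, one_mul, map_pow] at h1
  have h2 : v (∑ i ∈ Finset.range n, p.coeff i • y ^ i) < v y ^ n := by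
    apply v.map_sum_lt
    · exact pow_ne_zero _ (ne_of_gt (lt_trans zero_lt_one hlt))
    · intro i hi
      rw [Finset.mem_range] at hi
      rw [Algebra.smul_def, map_mul, map_pow]
      exact mul_lt_of_le_one_of_lt (hco _) (pow_lt_pow_right₀ hlt hi)
  rw [← h1] at h2
  exact lt_irrefl _ h2

variable (k) in
/-- The polynomial `G(1, x, Y)` over `k(x)`. -/
noncomputable def polyY (x : K) (G : MvPolynomial (Fin 3) k) : Polynomial k⟮x⟯ :=
  MvPolynomial.aeval ![Polynomial.C 1, Polynomial.C (gen x), Polynomial.X] G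

theorem aeval_polyY (x y : K) (G : MvPolynomial (Fin 3) k) :
    Polynomial.aeval y (polyY k x G) = MvPolynomial.aeval ![(1 : K), x, y] G := by
  unfold polyY
  have h := MvPolynomial.comp_aeval (R := k)
    (f := ![Polynomial.C 1, Polynomial.C (gen (k := k) x), Polynomial.X])
    (φ := (Polynomial.aeval (R := k⟮x⟯) y).restrictScalars k)
  have h2 := DFunLike.congr_fun h G
  rw [AlgHom.comp_apply] at h2
  have h3 : (fun i => ((Polynomial.aeval (R := k⟮x⟯) y).restrictScalars k)
      (![Polynomial.C 1, Polynomial.C (gen (k := k) x), Polynomial.X] i)) = ![(1 : K), x, y] := by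
    funext i
    fin_cases i
    · simp
    · simp
      rfl
    · simp
  rw [h3] at h2
  exact h2

theorem derivative_polyY (x : K) (G : MvPolynomial (Fin 3) k) :
    Polynomial.derivative (polyY k x G) = polyY k x (MvPolynomial.pderiv 2 G) := by
  classical
  unfold polyY
  have h := deriv_aeval (k := k) ((Polynomial.derivative' (R := k⟮x⟯)).restrictScalars k)
    ![Polynomial.C 1, Polynomial.C (gen (k := k) x), Polynomial.X] G
  have e : ∀ p : Polynomial k⟮x⟯,
      ((Polynomial.derivative' (R := k⟮x⟯)).restrictScalars k) p = Polynomial.derivative p :=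
    fun p => rfl
  rw [e] at h
  rw [h, Fin.sum_univ_three]
  have e0 : (![Polynomial.C 1, Polynomial.C (gen (k := k) x), Polynomial.X] : Fin 3 → _) 0 =
      Polynomial.C 1 := rfl
  have e1 : (![Polynomial.C 1, Polynomial.C (gen (k := k) x), Polynomial.X] : Fin 3 → _) 1 =
      Polynomial.C (gen x) := rfl
  have e2 : (![Polynomial.C 1, Polynomial.C (gen (k := k) x), Polynomial.X] : Fin 3 → _) 2 =
      Polynomial.X := rfl
  rw [e0, e1, e2, e, e, e, Polynomial.derivative_C, Polynomial.derivative_C,
    Polynomial.derivative_X, mul_zero, mul_zero, zero_add, zero_add, mul_one]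

theorem sum_eq_of_isHomogeneous {G : MvPolynomial (Fin 3) k} {e : ℕ} (hG : G.IsHomogeneous e)
    {m : Fin 3 →₀ ℕ} (hm : m ∈ G.support) : m 0 + m 1 + m 2 = e := by
  have := hG (MvPolynomial.mem_support_iff.mp hm)
  rw [Finsupp.weight_apply, Finsupp.sum_fintype _ _ (by simp), Fin.sum_univ_three] at this
  simpa using this

theorem polyY_eq_sum (x : K) (G : MvPolynomial (Fin 3) k) :
    polyY k x G = ∑ m ∈ G.support,
      Polynomial.C (algebraMap k k⟮x⟯ (G.coeff m) * gen x ^ (m 1)) * Polynomial.X ^ (m 2) := by
  unfold polyY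
  rw [MvPolynomial.aeval_def, MvPolynomial.eval₂_eq']
  refine Finset.sum_congr rfl (fun m _ => ?_)
  rw [Fin.prod_univ_three, Polynomial.algebraMap_apply]
  have e0 : (![Polynomial.C 1, Polynomial.C (gen (k := k) x), Polynomial.X] : Fin 3 → _) 0 =
      Polynomial.C 1 := rfl
  have e1 : (![Polynomial.C 1, Polynomial.C (gen (k := k) x), Polynomial.X] : Fin 3 → _) 1 =
      Polynomial.C (gen x) := rfl
  have e2 : (![Polynomial.C 1, Polynomial.C (gen (k := k) x), Polynomial.X] : Fin 3 → _) 2 =
      Polynomial.X := rfl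
  rw [e0, e1, e2, map_one, one_pow, one_mul, ← Polynomial.C_pow, ← mul_assoc, ← Polynomial.C_mul]

theorem coeff_polyY (x : K) (G : MvPolynomial (Fin 3) k) (n : ℕ) :
    (polyY k x G).coeff n = ∑ m ∈ G.support,
      if n = m 2 then algebraMap k k⟮x⟯ (G.coeff m) * gen x ^ (m 1) else 0 := by
  rw [polyY_eq_sum, Polynomial.finset_sum_coeff]
  refine Finset.sum_congr rfl (fun m _ => ?_)
  rw [Polynomial.coeff_C_mul_X_pow]

theorem natDegree_polyY_le (x : K) {G : MvPolynomial (Fin 3) k} {e : ℕ}
    (hG : G.IsHomogeneous e) : (polyY k x G).natDegree ≤ e := by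
  rw [Polynomial.natDegree_le_iff_coeff_eq_zero]
  intro n hn
  rw [coeff_polyY]
  apply Finset.sum_eq_zero
  intro m hm
  rw [if_neg]
  have := sum_eq_of_isHomogeneous hG hm
  omega

theorem coeff_polyY_top (x : K) {G : MvPolynomial (Fin 3) k} {e : ℕ}
    (hG : G.IsHomogeneous e) :
    (polyY k x G).coeff e = algebraMap k k⟮x⟯ (G.coeff (Finsupp.single 2 e)) := by
  classical
  rw [coeff_polyY]
  by_cases hs : Finsupp.single 2 e ∈ G.support
  · rw [Finset.sum_eq_single (Finsupp.single 2 e)]
    · rw [Finsupp.single_eq_same, if_pos rfl, Finsupp.single_eq_of_ne (by decide), pow_zero,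
        mul_one]
    · intro m hm hne
      rw [if_neg]
      intro h
      apply hne
      have := sum_eq_of_isHomogeneous hG hm
      ext i
      fin_cases i
      · simp; omega
      · simp; omega
      · simp; omega
    · intro h; exact absurd hs h
  · rw [MvPolynomial.notMem_support_iff.mp hs, map_zero]
    apply Finset.sum_eq_zero
    intro m hm
    rw [if_neg]
    intro h
    apply hs
    have := sum_eq_of_isHomogeneous hG hm
    have hm' : m = Finsupp.single 2 e := by
      ext i
      fin_cases i
      · simp; omega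
      · simp; omega
      · simp; omega
    rw [← hm']
    exact hm

/-- `G(1, x, Y) = 0` for transcendental `x` forces `G = 0`. -/
theorem eq_zero_of_polyY_eq_zero {x : K} (hx : Transcendental k x) {G : MvPolynomial (Fin 3) k}
    {e : ℕ} (hG : G.IsHomogeneous e) (h0 : polyY k x G = 0) : G = 0 := by
  classical
  by_contra hne
  obtain ⟨m₀, hm₀⟩ := MvPolynomial.support_nonempty.mpr hne
  have hx₀ := transcendental_gen hx
  set q : Polynomial k := ∑ m ∈ G.support,
    if m₀ 2 = m 2 then Polynomial.monomial (m 1) (G.coeff m) else 0 with hq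
  have hq0 : Polynomial.aeval (gen (k := k) x) q = 0 := by
    have h1 := coeff_polyY x G (m₀ 2)
    rw [h0, Polynomial.coeff_zero] at h1
    rw [hq, map_sum, h1]
    refine Finset.sum_congr rfl (fun m _ => ?_)
    split_ifs
    · rw [Polynomial.aeval_monomial]
    · rw [map_zero]
  have hqz : q = 0 := by
    by_contra hq'
    exact hx₀ ⟨q, hq', hq0⟩
  have hc : q.coeff (m₀ 1) = G.coeff m₀ := by
    rw [hq, Polynomial.finset_sum_coeff, Finset.sum_eq_single m₀]
    · rw [if_pos rfl, Polynomial.coeff_monomial, if_pos rfl]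
    · intro m hm hne'
      split_ifs with h
      · rw [Polynomial.coeff_monomial, if_neg]
        intro h1
        apply hne'
        have e1 := sum_eq_of_isHomogeneous hG hm
        have e2 := sum_eq_of_isHomogeneous hG hm₀
        ext i
        fin_cases i
        · simp; omega
        · simp; omega
        · simp; omega
      · rw [Polynomial.coeff_zero]
    · intro h; exact absurd hm₀ h
  rw [hqz, Polynomial.coeff_zero] at hc
  exact (MvPolynomial.mem_support_iff.mp hm₀) hc.symm

end Groth.Agent.Lib.Helper27.Adj
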