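import Mathlib
import Groth.Agent.Lib.Helper27.Adj7

/-! Adjoint divisor, part 8: `G(1, x, Y)` is, up to a constant, the minimal polynomial of `y`
over `k(x)` when `[K : k(x)]` is the degree of `G`. -/

set_option autoImplicit false

namespace Groth.Agent.Lib.Helper27.Adj

open FunFld IntermediateField

universe u v
variable {k : Type u} {K : Type v} [Field k] [Field K] [Algebra k K]

theorem minpoly_eq_polyY (hK : IsFunctionField k K) {x y : K} (hx : Transcendental k x)
    {G : MvPolynomial (Fin 3) k} {e : ℕ} (hG : G.IsHomogeneous e) (hG0 : G ≠ 0)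
    (hGxy : MvPolynomial.aeval ![(1 : K), x, y] G = 0)
    (htop : IntermediateField.adjoin k⟮x⟯ ({y} : Set K) = ⊤)
    (hdeg : Module.finrank k⟮x⟯ K = e) :
    G.coeff (Finsupp.single 2 e) ≠ 0 ∧
      minpoly k⟮x⟯ y =
        Polynomial.C (algebraMap k k⟮x⟯ (G.coeff (Finsupp.single 2 e)))⁻¹ * polyY k x G := by
  haveI := Groth.Agent.Lib.Helper23.FF.finiteDimensional_adjoin hK hx
  have hint : IsIntegral k⟮x⟯ y := Algebra.IsIntegral.isIntegral y
  have hmdeg : (minpoly k⟮x⟯ y).natDegree = e := by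
    rw [← IntermediateField.adjoin.finrank hint, htop, IntermediateField.finrank_top', hdeg]
  set p := polyY k x G with hp
  have hp0 : p ≠ 0 := fun h => hG0 (eq_zero_of_polyY_eq_zero hx hG h)
  have hroot : Polynomial.aeval y p = 0 := by rw [hp, aeval_polyY, hGxy]
  have hdvd : minpoly k⟮x⟯ y ∣ p := minpoly.dvd _ _ hroot
  have hple : p.natDegree ≤ e := natDegree_polyY_le x hG
  have hpdeg : p.natDegree = e :=
    le_antisymm hple (hmdeg ▸ Polynomial.natDegree_le_of_dvd hdvd hp0)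
  have hlead : p.leadingCoeff = algebraMap k k⟮x⟯ (G.coeff (Finsupp.single 2 e)) := by
    rw [Polynomial.leadingCoeff, hpdeg, hp, coeff_polyY_top x hG]
  have hc0 : algebraMap k k⟮x⟯ (G.coeff (Finsupp.single 2 e)) ≠ 0 := by
    rw [← hlead]
    exact Polynomial.leadingCoeff_ne_zero.mpr hp0
  refine ⟨fun h => hc0 (by rw [h, map_zero]), ?_⟩
  have hmonic : (Polynomial.C (algebraMap k k⟮x⟯ (G.coeff (Finsupp.single 2 e)))⁻¹ * p).Monic := by
    apply Polynomial.monic_C_mul_of_mul_leadingCoeff_eq_one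
    rw [hlead, inv_mul_cancel₀ hc0]
  symm
  apply Polynomial.eq_of_monic_of_dvd_of_natDegree_le (minpoly.monic hint) hmonic
    (hdvd.mul_left _)
  rw [hmdeg]
  calc (Polynomial.C (algebraMap k k⟮x⟯ (G.coeff (Finsupp.single 2 e)))⁻¹ * p).natDegree
      ≤ p.natDegree := Polynomial.natDegree_C_mul_le _ _
    _ ≤ e := hple

/-- `g'(y) = c⁻¹ G_y(1, x, y)`. -/
theorem aeval_derivative_minpoly (hK : IsFunctionField k K) {x y : K} (hx : Transcendental k x)
    {G : MvPolynomial (Fin 3) k} {e : ℕ} (hG : G.IsHomogeneous e) (hG0 : G ≠ 0)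
    (hGxy : MvPolynomial.aeval ![(1 : K), x, y] G = 0)
    (htop : IntermediateField.adjoin k⟮x⟯ ({y} : Set K) = ⊤)
    (hdeg : Module.finrank k⟮x⟯ K = e) :
    Polynomial.aeval y (Polynomial.derivative (minpoly k⟮x⟯ y)) =
      algebraMap k K (G.coeff (Finsupp.single 2 e))⁻¹ *
        MvPolynomial.aeval ![(1 : K), x, y] (MvPolynomial.pderiv 2 G) := by
  obtain ⟨hc, hmin⟩ := minpoly_eq_polyY hK hx hG hG0 hGxy htop hdeg
  rw [hmin, Polynomial.derivative_C_mul, map_mul, Polynomial.aeval_C, derivative_polyY,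
    aeval_polyY, ← map_inv₀, ← IsScalarTower.algebraMap_apply]

end Groth.Agent.Lib.Helper27.Adj
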