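import Mathlib
import Groth.Agent.Lib.Helper27.Adj8
import Groth.Agent.Lib.Helper23.FF3a

/-! Adjoint divisor, part 9: a `k`-algebra whose localisation at `Q` is `O_Q` is `Q`-adically
dense in `O_Q`, with control at finitely many other places. -/

set_option autoImplicit false

namespace Groth.Agent.Lib.Helper27.Adj

open FunFld

universe u v
variable {k : Type u} {K : Type v} [Field k] [Field K] [Algebra k K]

section

variable (R : Subalgebra k K) (Q : Place k K) (hdeg : Q.deg = 1)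
  (hRQ : ∀ r ∈ R, Q.1 r ≤ 1)

include hdeg in
/-- approximate inverses of units -/
theorem exists_inv_approx {w : K} (hw : w ∈ R) (hw1 : Q.1 w = 1) (N : ℕ) :
    ∃ w' ∈ R, Q.1 (w * w' - 1) ≤ WithZero.exp (-(N : ℤ)) := by
  obtain ⟨β, hβ⟩ := FF.exists_const_sub_lt Q hdeg hw1.le
  have hβ0 : β ≠ 0 := by
    rintro rfl
    rw [map_zero, sub_zero, hw1] at hβ
    exact lt_irrefl _ hβ
  have hβv : Q.1 (algebraMap k K β) = 1 := FF.w_const Q.1 Q.2.1 hβ0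
  have hβinv : Q.1 (algebraMap k K β⁻¹) = 1 := FF.w_const Q.1 Q.2.1 (inv_ne_zero hβ0)
  set m : K := 1 - β⁻¹ • w with hm
  have hmR : m ∈ R := R.sub_mem R.one_mem (R.smul_mem hw _)
  have hmv : Q.1 m < 1 := by
    have e : m = -(algebraMap k K β⁻¹ * (w - algebraMap k K β)) := by
      rw [hm, Algebra.smul_def, mul_sub, ← map_mul, inv_mul_cancel₀ hβ0, map_one]
      ring
    rw [e, Valuation.map_neg, map_mul, hβinv, one_mul]
    exact hβ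
  have hmv' := Groth.Agent.Lib.Helper23.FF.le_exp_neg_one_of_lt_one hmv
  refine ⟨β⁻¹ • ∑ i ∈ Finset.range N, m ^ i,
    R.smul_mem (R.sum_mem (fun i _ => R.pow_mem hmR i)) _, ?_⟩
  have e : w * (β⁻¹ • ∑ i ∈ Finset.range N, m ^ i) - 1 = -(m ^ N) := by
    have h1 : w * (β⁻¹ • ∑ i ∈ Finset.range N, m ^ i) =
        (1 - m) * ∑ i ∈ Finset.range N, m ^ i := by
      rw [hm, Algebra.smul_def, Algebra.smul_def]
      ring
    rw [h1, mul_neg_geom_sum]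
    ring
  rw [e, Valuation.map_neg, map_pow]
  calc Q.1 m ^ N ≤ WithZero.exp (-1) ^ N := pow_le_pow_left' hmv' N
    _ = WithZero.exp (-(N : ℤ)) := by
      rw [← WithZero.exp_nsmul]
      congr 1
      simp

variable (hloc : ∀ z : K, Q.1 z ≤ 1 → ∃ u ∈ R, ∃ w ∈ R, Q.1 w = 1 ∧ z * w = u)

include hloc in
/-- an element of `R` which is a unit at `Q` and lies in the maximal ideal of `Q'`. -/
theorem exists_sep_one {Q' : Place k K} (hne : Q' ≠ Q) (hRQ' : ∀ r ∈ R, Q'.1 r ≤ 1) :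
    ∃ c ∈ R, Q.1 c = 1 ∧ Q'.1 c < 1 := by
  have hex : ∃ t : K, Q'.1 t < 1 ∧ ¬ Q.1 t < 1 := by
    by_contra hcon
    push Not at hcon
    exact hne (Groth.Agent.Lib.Helper23.FF.place_eq_of_lt_one_imp Q' Q hcon)
  obtain ⟨t, ht1, ht2⟩ := hex
  rw [not_lt] at ht2
  have ht0 : t ≠ 0 := by
    rintro rfl
    rw [map_zero] at ht2
    exact absurd ht2 (not_le.mpr zero_lt_one)
  have hz : Q.1 t⁻¹ ≤ 1 := by
    rw [map_inv₀]
    exact inv_le_one_of_one_le₀ ht2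
  obtain ⟨u, hu, w, hw, hw1, hzw⟩ := hloc t⁻¹ hz
  refine ⟨w, hw, hw1, ?_⟩
  have h1 : w = t * u := by
    rw [← hzw, ← mul_assoc, mul_inv_cancel₀ ht0, one_mul]
  rw [h1, map_mul]
  calc Q'.1 t * Q'.1 u ≤ Q'.1 t * 1 := mul_le_mul' le_rfl (hRQ' u hu)
    _ = Q'.1 t := mul_one _
    _ < 1 := ht1

include hloc in
theorem exists_sep (Qs : Finset (Place k K))
    (hQs : ∀ Q' ∈ Qs, Q' ≠ Q ∧ ∀ r ∈ R, Q'.1 r ≤ 1) :
    ∃ c ∈ R, Q.1 c = 1 ∧ ∀ Q' ∈ Qs, Q'.1 c < 1 := by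
  classical
  induction Qs using Finset.induction_on with
  | empty => exact ⟨1, R.one_mem, map_one _, fun _ h => absurd h (Finset.notMem_empty _)⟩
  | insert Q₁ S hQ₁ ih =>
    obtain ⟨c, hc, hc1, hcS⟩ := ih (fun Q' hQ' => hQs Q' (Finset.mem_insert_of_mem hQ'))
    obtain ⟨h1, h2⟩ := hQs Q₁ (Finset.mem_insert_self _ _)
    obtain ⟨c₁, hc₁, hc₁1, hc₁lt⟩ := exists_sep_one R Q hloc h1 h2
    refine ⟨c * c₁, R.mul_mem hc hc₁, by rw [map_mul, hc1, hc₁1, one_mul], ?_⟩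
    intro Q' hQ'
    rw [map_mul]
    rcases Finset.mem_insert.mp hQ' with rfl | hS
    · calc Q'.1 c * Q'.1 c₁ ≤ 1 * Q'.1 c₁ := mul_le_mul' (h2 c hc) le_rfl
        _ = Q'.1 c₁ := one_mul _
        _ < 1 := hc₁lt
    · have := (hQs Q' hQ').2 c₁ hc₁
      calc Q'.1 c * Q'.1 c₁ ≤ Q'.1 c * 1 := mul_le_mul' le_rfl this
        _ = Q'.1 c := mul_one _
        _ < 1 := hcS Q' hS

include hdeg hRQ hloc in
/-- `R` is `Q`-adically dense in `O_Q`, with control at the places of `Qs`. -/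
theorem approx_of_loc (Qs : Finset (Place k K))
    (hQs : ∀ Q' ∈ Qs, Q' ≠ Q ∧ ∀ r ∈ R, Q'.1 r ≤ 1) {z₀ : K} (hz₀ : Q.1 z₀ ≤ 1) (N : ℕ) :
    ∃ z ∈ R, Q.1 (z - z₀) ≤ WithZero.exp (-(N : ℤ)) ∧
      ∀ Q' ∈ Qs, Q'.1 z ≤ WithZero.exp (-(N : ℤ)) := by
  obtain ⟨u, hu, w, hw, hw1, hzw⟩ := hloc z₀ hz₀
  obtain ⟨w', hw', hww'⟩ := exists_inv_approx R Q hdeg hw hw1 N
  obtain ⟨c, hc, hc1, hcS⟩ := exists_sep R Q hloc Qs hQs
  have hcN : Q.1 (c ^ N) = 1 := by rw [map_pow, hc1, one_pow]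
  obtain ⟨c'', hc'', hcc''⟩ := exists_inv_approx R Q hdeg (R.pow_mem hc N) hcN N
  set z₁ := u * w' with hz₁
  set c₁ := c ^ N * c'' with hc₁
  have hz₁R : z₁ ∈ R := R.mul_mem hu hw'
  have hc₁R : c₁ ∈ R := R.mul_mem (R.pow_mem hc N) hc''
  have h1 : Q.1 (z₁ - z₀) ≤ WithZero.exp (-(N : ℤ)) := by
    have e : z₁ - z₀ = z₀ * (w * w' - 1) := by
      rw [hz₁, ← hzw]; ring
    rw [e, map_mul]
    calc Q.1 z₀ * Q.1 (w * w' - 1) ≤ 1 * WithZero.exp (-(N : ℤ)) := mul_le_mul' hz₀ hww'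
      _ = _ := one_mul _
  refine ⟨z₁ * c₁, R.mul_mem hz₁R hc₁R, ?_, ?_⟩
  · have e : z₁ * c₁ - z₀ = z₁ * (c₁ - 1) + (z₁ - z₀) := by ring
    rw [e]
    refine (Q.1.map_add _ _).trans (max_le ?_ h1)
    rw [map_mul]
    calc Q.1 z₁ * Q.1 (c₁ - 1) ≤ 1 * WithZero.exp (-(N : ℤ)) :=
          mul_le_mul' (hRQ z₁ hz₁R) hcc''
      _ = _ := one_mul _
  · intro Q' hQ'
    obtain ⟨-, hR'⟩ := hQs Q' hQ'
    have e : Q'.1 (z₁ * c₁) = Q'.1 z₁ * (Q'.1 c ^ N * Q'.1 c'') := by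
      rw [Q'.1.map_mul z₁ c₁, hc₁, Q'.1.map_mul (c ^ N) c'', map_pow]
    rw [e]
    have h2 := Groth.Agent.Lib.Helper23.FF.le_exp_neg_one_of_lt_one (hcS Q' hQ')
    calc Q'.1 z₁ * (Q'.1 c ^ N * Q'.1 c'') ≤ 1 * (WithZero.exp (-1) ^ N * 1) :=
          mul_le_mul' (hR' z₁ hz₁R) (mul_le_mul' (pow_le_pow_left' h2 N) (hR' c'' hc''))
      _ = WithZero.exp (-(N : ℤ)) := by
        rw [one_mul, mul_one, ← WithZero.exp_nsmul]
        congr 1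
        simp

end

end Groth.Agent.Lib.Helper27.Adj
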