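import Mathlib
import Groth.Prelude.Def_W4bk4goldsch23FF
import Groth.Prelude.Def_W4bk4goldsch23Ext
import Groth.Prelude.Def_LocRes
import Groth.Agent.Lib.Helper27.LR2

/-! Totally ramified places: Eisenstein shape of the minimal polynomial of a uniformizer. -/

namespace Groth.Agent.Lib.Helper27.LR
open FunFld LaurentSeries HahnSeries WithZero

section Eisenstein
variable {k : Type*} {K : Type*} {K' : Type*} [Field k] [Field K] [Field K'] [Algebra k K]
  [Algebra K K'] [Algebra k K']

theorem eisenstein (Q : Place k K') (P : Place k K) (e : ℕ) (he : IsOverWith Q P e)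
    [FiniteDimensional K K'] (hn : e = Module.finrank K K') (s : K')
    (hs : Q.1 s = exp (-1)) :
    (minpoly K s).natDegree = e ∧ P.1 ((minpoly K s).coeff 0) = exp (-1) ∧
      ∀ i, P.1 ((minpoly K s).coeff i) ≤ 1 := by
  classical
  have hint : IsIntegral K s := .of_finite K s
  have hmonic := minpoly.monic hint
  have hm_le : (minpoly K s).natDegree ≤ e := hn ▸ minpoly.natDegree_le s
  have hm_pos : 0 < (minpoly K s).natDegree := minpoly.natDegree_pos hint
  have he_pos : 0 < e := by omega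
  set m := (minpoly K s).natDegree with hm
  let c : ℕ → K' := fun i => algebraMap K K' ((minpoly K s).coeff i) * s ^ i
  have hsum : ∑ i ∈ Finset.range (m + 1), c i = 0 := by
    have := minpoly.aeval K s
    rw [Polynomial.aeval_eq_sum_range] at this
    simpa [c, Algebra.smul_def] using this
  have hval : ∀ i, Q.1 (c i) = P.1 ((minpoly K s).coeff i) ^ e * exp (-(i : ℤ)) := by
    intro i
    simp only [c, map_mul, map_pow, he _, hs, ← exp_nsmul]
    congr 2
    simp
  have hcm : Q.1 (c m) = exp (-(m : ℤ)) := by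
    rw [hval, hm, Polynomial.coeff_natDegree, hmonic.leadingCoeff, map_one, one_pow, one_mul]
  have key : ∀ i j, i < j → j ≤ m → Q.1 (c i) = Q.1 (c j) → Q.1 (c j) ≠ 0 → i = 0 ∧ j = e := by
    intro i j hij hjm heq hne
    have hnei : Q.1 (c i) ≠ 0 := heq ▸ hne
    rw [hval] at hne hnei
    rw [hval, hval] at heq
    have hai : P.1 ((minpoly K s).coeff i) ≠ 0 := fun h => by
      rw [h, zero_pow he_pos.ne', zero_mul] at hnei; exact hnei rfl
    have haj : P.1 ((minpoly K s).coeff j) ≠ 0 := fun h => by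
      rw [h, zero_pow he_pos.ne', zero_mul] at hne; exact hne rfl
    obtain ⟨a, ha⟩ : ∃ a : ℤ, P.1 ((minpoly K s).coeff i) = exp a := ⟨_, (exp_log hai).symm⟩
    obtain ⟨b, hb⟩ : ∃ b : ℤ, P.1 ((minpoly K s).coeff j) = exp b := ⟨_, (exp_log haj).symm⟩
    rw [ha, hb, ← exp_nsmul, ← exp_nsmul, ← exp_add, ← exp_add, exp_inj] at heq
    simp only [nsmul_eq_mul] at heq
    have hdvd : (e : ℤ) ∣ ((j : ℤ) - i) := ⟨b - a, by linarith⟩
    have h1 : (e : ℤ) ≤ (j : ℤ) - i := Int.le_of_dvd (by omega) hdvd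
    omega
  obtain ⟨j₀, hj₀mem, hj₀max⟩ := Finset.exists_max_image (Finset.range (m + 1))
    (fun i => Q.1 (c i)) ⟨0, by simp⟩
  have hj₀ne : Q.1 (c j₀) ≠ 0 := by
    have := hj₀max m (by simp)
    simp only [hcm] at this
    exact (lt_of_lt_of_le exp_pos this).ne'
  have hex : ∃ i₀ ∈ Finset.range (m + 1), i₀ ≠ j₀ ∧ Q.1 (c i₀) = Q.1 (c j₀) := by
    by_contra hcon
    push_neg at hcon
    have hlt : ∀ i ∈ Finset.range (m + 1) \ {j₀}, Q.1 (c i) < Q.1 (c j₀) := fun i hi =>
      lt_of_le_of_ne (hj₀max i (Finset.mem_sdiff.mp hi).1)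
        (hcon i (Finset.mem_sdiff.mp hi).1 (by simpa using (Finset.mem_sdiff.mp hi).2))
    have := Q.1.map_sum_eq_of_lt hj₀mem hlt
    rw [hsum, map_zero] at this
    exact hj₀ne this.symm
  obtain ⟨i₀, hi₀mem, hne, heq⟩ := hex
  have hi₀m : i₀ ≤ m := by simpa [Nat.lt_succ_iff] using hi₀mem
  have hj₀m : j₀ ≤ m := by simpa [Nat.lt_succ_iff] using hj₀mem
  -- the maximum is attained at `0` and `e`, and `m = e`
  have hmain : m = e ∧ Q.1 (c 0) = exp (-(e : ℤ)) ∧ ∀ i ≤ m, Q.1 (c i) ≤ exp (-(e : ℤ)) := by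
    rcases lt_or_gt_of_ne hne with h | h
    · obtain ⟨h0, he'⟩ := key i₀ j₀ h hj₀m heq hj₀ne
      have hme : m = e := by omega
      have hmax : Q.1 (c j₀) = exp (-(e : ℤ)) := by rw [he', ← hme, hcm]
      refine ⟨hme, by rw [← h0, heq, hmax], fun i hi => ?_⟩
      rw [← hmax]
      exact hj₀max i (by simpa [Nat.lt_succ_iff] using hi)
    · obtain ⟨h0, he'⟩ := key j₀ i₀ h hi₀m heq.symm (heq ▸ hj₀ne)
      have hme : m = e := by omega
      have hmax : Q.1 (c j₀) = exp (-(e : ℤ)) := by rw [← heq, he', ← hme, hcm]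
      refine ⟨hme, by rw [← h0, hmax], fun i hi => ?_⟩
      rw [← hmax]
      exact hj₀max i (by simpa [Nat.lt_succ_iff] using hi)
  obtain ⟨hme, hc0, hle⟩ := hmain
  refine ⟨hme, ?_, ?_⟩
  · rw [hval] at hc0
    simp only [Nat.cast_zero, neg_zero, exp_zero, mul_one] at hc0
    have : exp (-(e : ℤ)) = (exp (-1 : ℤ)) ^ e := by
      rw [← exp_nsmul]; simp
    rw [this] at hc0
    exact (pow_left_inj₀ zero_le zero_le he_pos.ne').mp hc0
  · intro i
    by_cases hi : i ≤ m
    · have h1 := hle i hi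
      rw [hval] at h1
      have h2 : P.1 ((minpoly K s).coeff i) ^ e ≤ 1 := by
        by_contra hcon
        rw [not_le] at hcon
        have h3 : exp (-(i : ℤ)) ≤ P.1 ((minpoly K s).coeff i) ^ e * exp (-(i : ℤ)) :=
          le_mul_of_one_le_left zero_le hcon.le
        have h4 := h3.trans h1
        rw [exp_le_exp] at h4
        have : P.1 ((minpoly K s).coeff i) ^ e * exp (-(i : ℤ)) ≤ exp (-(e : ℤ)) := h1
        have hie : i = e := by omega
        rw [hie] at h1
        have h5 : P.1 ((minpoly K s).coeff e) ^ e * exp (-(e : ℤ)) ≤ 1 * exp (-(e : ℤ)) := by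
          rwa [one_mul]
        have h6 := le_of_mul_le_mul_right h5 exp_pos
        rw [hie] at hcon
        exact absurd h6 (not_le.mpr hcon)
      exact (pow_le_one_iff_of_nonneg zero_le he_pos.ne').mp h2
    · rw [Polynomial.coeff_eq_zero_of_natDegree_lt (by omega), map_zero]
      exact zero_le

end Eisenstein

end Groth.Agent.Lib.Helper27.LR
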