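import Mathlib
import Groth.Prelude.Def_W4bk4goldsch23FF
import Groth.Prelude.Def_W4bk4goldsch23Ext
import Groth.Prelude.Def_LocRes
import Groth.Agent.Lib.Helper27.LR3

/-! Different exponent via the derivative of the minimal polynomial of a uniformizer
(totally ramified case). -/

namespace Groth.Agent.Lib.Helper27.LR
open FunFld LaurentSeries HahnSeries WithZero Polynomial

theorem derivation_eval {L : Type*} [CommRing L] (d : L →+ L)
    (hd : ∀ a b, d (a * b) = a * d b + b * d a) (p : L[X]) (y : L) :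
    d (p.eval y) = p.sum (fun i a => d a * y ^ i) + p.derivative.eval y * d y := by
  have hpow : ∀ n : ℕ, d (y ^ n) = n * y ^ (n - 1) * d y := by
    intro n
    induction n with
    | zero =>
      have h1 : d 1 = 0 := by
        have := hd 1 1
        simp only [mul_one, one_mul] at this
        exact left_eq_add.mp this
      simp [h1]
    | succ n ih =>
      rw [pow_succ, hd, ih]
      rcases n with _ | n
      · simp
      · simp only [Nat.add_sub_cancel, Nat.cast_add, Nat.cast_one]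
        ring
  induction p using Polynomial.induction_on' with
  | add p q hp hq =>
    rw [eval_add, map_add, hp, hq, derivative_add, eval_add,
      sum_add_index _ _ _ (by simp) (by intro i a b; rw [map_add, add_mul])]
    ring
  | monomial n a =>
    rw [eval_monomial, hd, hpow,
      sum_monomial_index _ _ (by simp), derivative_monomial, eval_monomial]
    ring

section DiffExp
universe u v v' w w'
variable {k : Type u} {K : Type v} {K' : Type v'} [Field k] [Field K] [Field K'] [Algebra k K]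
  [Algebra K K'] [Algebra k K'] [IsScalarTower k K K']
  {F : Type w} {F' : Type w'} [Field F] [Algebra k F] [Field F'] [Algebra k F']

/-- The different exponent computed on `dx` equals the order of `dt` above, for `t` a uniformizer
below. -/
theorem diffExp_eq_ordDiff' (hΩ : Module.finrank K (Ω[K⁄k]) = 1)
    (P : Place k K) (Q : Place k K') (e : ℕ) (he : IsOverWith Q P e)
    (φ : K →ₐ[k] LaurentSeries F) (hφ : LocRes.IsExpansionAt P.1 φ)
    (ψ : K' →ₐ[k] LaurentSeries F') (hψ : LocRes.IsExpansionAt Q.1 ψ)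
    (x : K) (hx : LocRes.vDiff φ 1 x ≠ 0) (hx' : LocRes.vDiff ψ 1 (algebraMap K K' x) ≠ 0)
    {t : K} (ht : P.1 t = exp (-1)) :
    LocRes.diffExp φ ψ e x =
        LocRes.ordDiff (ψ.comp (IsScalarTower.toAlgHom k K K')) 1 t ∧
      Valued.v (LocRes.D F (φ t)) = 1 ∧ KaehlerDifferential.D k K t ≠ 0 := by
  have hvt : Valued.v (φ t) = WithZero.exp (-(1 : ℤ)) := by rw [hφ.1 t, ht]
  have hDt : Valued.v (LocRes.D F (φ t)) = WithZero.exp (-((1 : ℤ) - 1)) :=
    LR.val_D_eq hvt (by simp)
  have hDt1 : Valued.v (LocRes.D F (φ t)) = 1 := by simpa using hDt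
  have hDt0 : LocRes.D F (φ t) ≠ 0 := by
    intro h0
    rw [h0, map_zero] at hDt1
    exact zero_ne_one hDt1
  have hDtK : KaehlerDifferential.D k K t ≠ 0 := LR.D_ne_zero_of_map φ hDt0
  obtain ⟨g, hg'⟩ := LR.exists_smul_D' hΩ hDtK x
  let ψ' : K →ₐ[k] LaurentSeries F' := ψ.comp (IsScalarTower.toAlgHom k K K')
  have hv : ∀ z : K, LocRes.vDiff ψ' 1 z = LocRes.vDiff ψ 1 (algebraMap K K' z) := fun z => by
    rw [LR.vDiff_one, LR.vDiff_one]
    rfl
  have ho : ∀ z : K, LocRes.ordDiff ψ' 1 z = LocRes.ordDiff ψ 1 (algebraMap K K' z) := fun z => by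
    rw [LR.ordDiff_one, LR.ordDiff_one]
    rfl
  have h1 := LR.ordDiff_of_smul φ hg' hx
  have h2 := LR.ordDiff_of_smul ψ' hg' (by rw [hv]; exact hx')
  rw [ho] at h2
  rw [hφ.1 g] at h1
  have h3 : Valued.v (ψ' g) = P.1 g ^ e := (hψ.1 _).trans (he g)
  rw [h3, WithZero.log_pow] at h2
  have h4 : LocRes.ordDiff φ 1 t = 0 := by
    rw [LR.ordDiff_one, hDt1, WithZero.log_one, neg_zero]
  refine ⟨?_, hDt1, hDtK⟩
  unfold LocRes.diffExp
  rw [h1, h2, h4, nsmul_eq_mul]
  ring

theorem diffExp_eq_ordDiff (hK : IsFunctionField k K) (hg : IsGeometric k K)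
    (P : Place k K) (Q : Place k K') (e : ℕ) (he : IsOverWith Q P e)
    (φ : K →ₐ[k] LaurentSeries F) (hφ : LocRes.IsExpansionAt P.1 φ)
    (ψ : K' →ₐ[k] LaurentSeries F') (hψ : LocRes.IsExpansionAt Q.1 ψ)
    (x : K) (hx : LocRes.vDiff φ 1 x ≠ 0) (hx' : LocRes.vDiff ψ 1 (algebraMap K K' x) ≠ 0)
    {t : K} (ht : P.1 t = exp (-1)) :
    LocRes.diffExp φ ψ e x =
        LocRes.ordDiff (ψ.comp (IsScalarTower.toAlgHom k K K')) 1 t ∧
      Valued.v (LocRes.D F (φ t)) = 1 ∧ KaehlerDifferential.D k K t ≠ 0 :=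
  diffExp_eq_ordDiff' (finrank_kaehler hK hg) P Q e he φ hφ ψ hψ x hx hx' ht

/-- Totally ramified place: `v_Q(f'(s))` is the order above of `dt`, `t` a uniformizer below. -/
theorem val_derivative_minpoly' [FiniteDimensional K K']
    (hΩ : Module.finrank K (Ω[K⁄k]) = 1)
    (P : Place k K) (Q : Place k K') (e : ℕ) (he : IsOverWith Q P e)
    (φ : K →ₐ[k] LaurentSeries F) (hφ : LocRes.IsExpansionAt P.1 φ)
    (ψ : K' →ₐ[k] LaurentSeries F') (hψ : LocRes.IsExpansionAt Q.1 ψ)
    (hn : e = Module.finrank K K') (s : K') (hs : Q.1 s = exp (-1))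
    {t : K} (ht : P.1 t = exp (-1)) (hDt1 : Valued.v (LocRes.D F (φ t)) = 1)
    (hDtK : KaehlerDifferential.D k K t ≠ 0) :
    Q.1 (aeval s (derivative (minpoly K s))) =
      Valued.v (LocRes.D F' (ψ (algebraMap K K' t))) := by
  classical
  obtain ⟨hdeg, hc0, hci⟩ := eisenstein Q P e he hn s hs
  have he_pos : 0 < e := by
    rw [hn]; exact Module.finrank_pos
  set f := minpoly K s with hf
  let ψ' : K →ₐ[k] LaurentSeries F' := ψ.comp (IsScalarTower.toAlgHom k K K')
  have hψ' : ∀ z, ψ' z = ψ (algebraMap K K' z) := fun z => rfl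
  choose g hg' using fun i : ℕ => LR.exists_smul_D' hΩ hDtK (f.coeff i)
  -- valuations of the `g i`
  have hvg : ∀ i, P.1 (g i) = Valued.v (LocRes.D F (φ (f.coeff i))) := by
    intro i
    have := congrArg Valued.v (LR.D_map_of_smul φ (hg' i))
    rw [map_mul, hDt1, mul_one, hφ.1] at this
    exact this.symm
  have hg_le : ∀ i, P.1 (g i) ≤ 1 := by
    intro i
    rw [hvg]
    exact LR.val_D_le_one (by rw [hφ.1]; exact hci i)
  have hg0 : P.1 (g 0) = 1 := by
    rw [hvg]
    have h1 : Valued.v (φ (f.coeff 0)) = exp (-(1 : ℤ)) := by rw [hφ.1, hc0]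
    have := LR.val_D_eq h1 (by simp)
    simpa using this
  -- the polynomial over Laurent series
  let q : (LaurentSeries F')[X] := f.map (ψ' : K →+* LaurentSeries F')
  have hqdeg : q.natDegree = e := by
    rw [natDegree_map, hdeg]
  have hqeval : q.eval (ψ s) = 0 := by
    have h0 : ψ (aeval s f) = 0 := by rw [hf, minpoly.aeval, map_zero]
    rw [aeval_def] at h0
    rw [eval_map]
    exact (Polynomial.hom_eval₂ f (algebraMap K K') (ψ : K' →+* LaurentSeries F') s).symm.trans h0
  have hqder : q.derivative.eval (ψ s) = ψ (aeval s (derivative f)) := by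
    rw [derivative_map, eval_map, aeval_def]
    exact (Polynomial.hom_eval₂ (derivative f) (algebraMap K K')
      (ψ : K' →+* LaurentSeries F') s).symm
  have hsum : q.sum (fun i a => LocRes.D F' a * (ψ s) ^ i) =
      ∑ i ∈ Finset.range (e + 1), (ψ' (g i) * (ψ s) ^ i) * LocRes.D F' (ψ' t) := by
    rw [sum_over_range' q (by simp) (e + 1) (by omega)]
    refine Finset.sum_congr rfl fun i _ => ?_
    rw [coeff_map]
    change LocRes.D F' (ψ' (f.coeff i)) * _ = _
    rw [LR.D_map_of_smul ψ' (hg' i)]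
    ring
  have hmain := derivation_eval ((LocRes.D F').toLinearMap.toAddMonoidHom)
    (fun a b => by
      change LocRes.D F' (a * b) = a * LocRes.D F' b + b * LocRes.D F' a
      rw [Derivation.leibniz]; rfl) q (ψ s)
  change LocRes.D F' (q.eval (ψ s)) = q.sum (fun i a => LocRes.D F' a * (ψ s) ^ i) +
    q.derivative.eval (ψ s) * LocRes.D F' (ψ s) at hmain
  rw [hqeval, map_zero, hsum, hqder, ← Finset.sum_mul] at hmain
  -- the element `G`
  let G : K' := ∑ i ∈ Finset.range (e + 1), algebraMap K K' (g i) * s ^ i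
  have hG : ψ G = ∑ i ∈ Finset.range (e + 1), ψ' (g i) * (ψ s) ^ i := by
    simp only [G, map_sum, map_mul, map_pow, hψ']
  rw [← hG] at hmain
  have hGval : Q.1 G = 1 := by
    have hsplit : G = (∑ i ∈ Finset.range e, algebraMap K K' (g (i + 1)) * s ^ (i + 1)) +
        algebraMap K K' (g 0) := by
      simp only [G]
      rw [Finset.sum_range_succ']
      simp
    have h0 : Q.1 (algebraMap K K' (g 0)) = 1 := by rw [he, hg0, one_pow]
    have hrest : Q.1 (∑ i ∈ Finset.range e, algebraMap K K' (g (i + 1)) * s ^ (i + 1)) < 1 := by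
      refine Valuation.map_sum_lt Q.1 one_ne_zero fun i _ => ?_
      rw [map_mul, map_pow, he, hs]
      have h1 : P.1 (g (i + 1)) ^ e ≤ 1 := pow_le_one₀ zero_le (hg_le _)
      have h2 : (exp (-1 : ℤ)) ^ (i + 1) < (1 : WithZero (Multiplicative ℤ)) := by
        rw [← exp_nsmul, ← exp_zero, exp_lt_exp]
        simp only [nsmul_eq_mul, Nat.cast_add, Nat.cast_one]
        omega
      calc P.1 (g (i + 1)) ^ e * exp (-1 : ℤ) ^ (i + 1) ≤ 1 * exp (-1 : ℤ) ^ (i + 1) :=
            mul_le_mul_left h1 _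
        _ < 1 := by rwa [one_mul]
    rw [hsplit, Q.1.map_add_eq_of_lt_right (by rw [h0]; exact hrest), h0]
  have hvs : Valued.v (LocRes.D F' (ψ s)) = 1 := by
    have h1 : Valued.v (ψ s) = exp (-(1 : ℤ)) := by rw [hψ.1, hs]
    have := LR.val_D_eq h1 (by simp)
    simpa using this
  have hfin : ψ (aeval s (derivative f)) * LocRes.D F' (ψ s) = -(ψ G * LocRes.D F' (ψ' t)) := by
    rw [eq_neg_iff_add_eq_zero, add_comm]
    exact hmain.symm
  have := congrArg Valued.v hfin
  rw [map_mul, hvs, mul_one, Valuation.map_neg, map_mul, hψ.1, hψ.1, hGval, one_mul] at this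
  exact this

theorem val_derivative_minpoly [FiniteDimensional K K']
    (hK : IsFunctionField k K) (hg : IsGeometric k K)
    (P : Place k K) (Q : Place k K') (e : ℕ) (he : IsOverWith Q P e)
    (φ : K →ₐ[k] LaurentSeries F) (hφ : LocRes.IsExpansionAt P.1 φ)
    (ψ : K' →ₐ[k] LaurentSeries F') (hψ : LocRes.IsExpansionAt Q.1 ψ)
    (hn : e = Module.finrank K K') (s : K') (hs : Q.1 s = exp (-1))
    {t : K} (ht : P.1 t = exp (-1)) (hDt1 : Valued.v (LocRes.D F (φ t)) = 1)
    (hDtK : KaehlerDifferential.D k K t ≠ 0) :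
    Q.1 (aeval s (derivative (minpoly K s))) =
      Valued.v (LocRes.D F' (ψ (algebraMap K K' t))) :=
  val_derivative_minpoly' (finrank_kaehler hK hg) P Q e he φ hφ ψ hψ hn s hs ht hDt1 hDtK

/-- The different exponent in the totally ramified case, from `Ω` one-dimensional. -/
theorem diffExp_eq_ord_derivative_minpoly [FiniteDimensional K K']
    (hΩ : Module.finrank K (Ω[K⁄k]) = 1)
    (P : Place k K) (Q : Place k K') (e : ℕ) (he : IsOverWith Q P e)
    (φ : K →ₐ[k] LaurentSeries F) (hφ : LocRes.IsExpansionAt P.1 φ)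
    (ψ : K' →ₐ[k] LaurentSeries F') (hψ : LocRes.IsExpansionAt Q.1 ψ)
    (x : K) (hx : LocRes.vDiff φ 1 x ≠ 0) (hx' : LocRes.vDiff ψ 1 (algebraMap K K' x) ≠ 0)
    (hn : e = Module.finrank K K') (s : K') (hs : Q.1 s = exp (-1)) :
    Q.ord (aeval s (derivative (minpoly K s))) = LocRes.diffExp φ ψ e x := by
  obtain ⟨t, ht⟩ := hφ.2.2
  obtain ⟨h1, h2, h3⟩ := diffExp_eq_ordDiff' hΩ P Q e he φ hφ ψ hψ x hx hx' ht
  have h4 := val_derivative_minpoly' hΩ P Q e he φ hφ ψ hψ hn s hs ht h2 h3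
  rw [h1, LR.ordDiff_one]
  unfold FunFld.Place.ord
  rw [h4]
  rfl

end DiffExp

end Groth.Agent.Lib.Helper27.LR
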