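import Mathlib
import Groth.Agent.Lib.Helper27.Tate7

/-! Tate's residues, part 11: cyclicity between two spaces, invariance under passage to a dense
subspace, block traces. -/

set_option autoImplicit false

namespace Groth.Agent.Lib.Helper27.Tate

open LinearMap

universe u v w

section TwoSpaces

variable {k : Type u} [Field k] {V : Type v} [AddCommGroup V] [Module k V]
  {V' : Type w} [AddCommGroup V'] [Module k V']

/-- Cyclicity of the finite-rank trace between two spaces. -/
theorem frTr_comp_comm (a : V →ₗ[k] V') (b : V' →ₗ[k] V)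
    (h : FiniteDimensional k (LinearMap.range a) ∨ FiniteDimensional k (LinearMap.range b)) :
    frTr (a ∘ₗ b) = frTr (b ∘ₗ a) := by
  rcases h with h | h
  · set R := LinearMap.range a
    set c : V →ₗ[k] R := a.codRestrict R (fun x => ⟨x, rfl⟩) with hc
    have ha : a = R.subtype ∘ₗ c := by apply LinearMap.ext; intro x; rfl
    have e1 : a ∘ₗ b = R.subtype ∘ₗ (c ∘ₗ b) := by
      conv_lhs => rw [ha]
      rfl
    have e2 : b ∘ₗ a = (b ∘ₗ R.subtype) ∘ₗ c := by
      conv_lhs => rw [ha]
      rfl
    rw [e1, e2, frTr_eq_of_factor, frTr_eq_of_factor]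
    rfl
  · set R := LinearMap.range b
    set c : V' →ₗ[k] R := b.codRestrict R (fun x => ⟨x, rfl⟩) with hc
    have hb : b = R.subtype ∘ₗ c := by apply LinearMap.ext; intro x; rfl
    have e1 : a ∘ₗ b = (a ∘ₗ R.subtype) ∘ₗ c := by
      conv_lhs => rw [hb]
      rfl
    have e2 : b ∘ₗ a = R.subtype ∘ₗ (c ∘ₗ a) := by
      conv_lhs => rw [hb]
      rfl
    rw [e1, e2, frTr_eq_of_factor, frTr_eq_of_factor]
    rfl

/-- Finite rank descends along an injective intertwiner. -/
theorem finRank_of_intertwine {ι : V →ₗ[k] V'} (hι : Function.Injective ι) {T : Module.End k V}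
    {T' : Module.End k V'} (h : ι ∘ₗ T = T' ∘ₗ ι) (hT' : FinRank T') : FinRank T := by
  unfold FinRank at *
  let j : LinearMap.range T →ₗ[k] LinearMap.range T' :=
    (ι.domRestrict (LinearMap.range T)).codRestrict (LinearMap.range T') (by
      rintro ⟨_, ⟨x, rfl⟩⟩
      exact ⟨ι x, (LinearMap.congr_fun h x).symm⟩)
  have hj : Function.Injective j := by
    intro x y hxy
    apply Subtype.ext
    apply hι
    exact congrArg Subtype.val hxy
  exact FiniteDimensional.of_injective j hj

/-- Invariance of the residue under passage to a dense subspace. -/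
theorem cres_eq_of_dense (ι : V →ₗ[k] V') (hι : Function.Injective ι)
    {p f g : Module.End k V} {p' f' g' : Module.End k V'}
    (hp : p * p = p) (hp' : p' * p' = p')
    (hrange : ∀ v, ι v ∈ LinearMap.range p' ↔ v ∈ LinearMap.range p)
    (hdense : LinearMap.range ι ⊔ LinearMap.range p' = ⊤)
    (hf : f' ∘ₗ ι = ι ∘ₗ f) (hg : g' ∘ₗ ι = ι ∘ₗ g) (hfg' : f' * g' = g' * f')
    (hfa : Adm p' f') (hga : Adm p' g') :
    cres p f g = cres p' f' g' ∧ Adm p f ∧ Adm p g := by
  set A' := LinearMap.range p' with hA'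
  have hpA : ∀ v ∈ LinearMap.range p, p v = v := by
    rintro _ ⟨x, rfl⟩
    exact LinearMap.congr_fun hp x
  have hp'A : ∀ a ∈ A', p' a = a := by
    rintro _ ⟨x, rfl⟩
    exact LinearMap.congr_fun hp' x
  -- the map `r`
  let Φ : (V × A') →ₗ[k] V' := ι.coprod A'.subtype
  have hΦ : LinearMap.range Φ = ⊤ := by
    rw [LinearMap.range_coprod, Submodule.range_subtype]
    exact hdense
  let Λ : (V × A') →ₗ[k] V := (LinearMap.id - p) ∘ₗ LinearMap.fst k V A'
  obtain ⟨ρ, hρ⟩ := Φ.exists_rightInverse_of_surjective hΦ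
  have hker : ∀ z : V × A', Φ z = 0 → Λ z = 0 := by
    rintro ⟨v, a⟩ hz
    have h1 : ι v + (a : V') = 0 := hz
    have h2 : ι v ∈ A' := by
      have : ι v = -(a : V') := eq_neg_of_add_eq_zero_left h1
      rw [this]
      exact A'.neg_mem a.2
    have h3 := (hrange v).mp h2
    show v - p v = 0
    rw [hpA v h3, sub_self]
  let r : V' →ₗ[k] V := Λ ∘ₗ ρ
  have hrΦ : ∀ z, r (Φ z) = Λ z := by
    intro z
    have h1 : Φ (ρ (Φ z) - z) = 0 := by
      rw [map_sub]
      have := LinearMap.congr_fun hρ (Φ z)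
      rw [LinearMap.comp_apply, LinearMap.id_apply] at this
      rw [this, sub_self]
    have h2 := hker _ h1
    rw [map_sub, sub_eq_zero] at h2
    exact h2
  have hrι : ∀ v, r (ι v) = v - p v := by
    intro v
    have := hrΦ (v, 0)
    have e : Φ (v, 0) = ι v := by
      show ι v + ((0 : A') : V') = ι v
      rw [Submodule.coe_zero, add_zero]
    rw [e] at this
    exact this
  have hrA : ∀ a ∈ A', r a = 0 := by
    intro a ha
    have := hrΦ (0, ⟨a, ha⟩)
    have e : Φ (0, ⟨a, ha⟩) = a := by
      show ι 0 + a = a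
      rw [map_zero, zero_add]
    rw [e] at this
    rw [this]
    show (0 : V) - p 0 = 0
    rw [map_zero, sub_zero]
  -- the idempotent `p''`
  set p'' : Module.End k V' := 1 - ι ∘ₗ r with hp''def
  have hp''_apply : ∀ w, p'' w = w - ι (r w) := fun w => rfl
  have hp''ι : ∀ v, p'' (ι v) = ι (p v) := by
    intro v
    rw [hp''_apply, hrι, map_sub]; abel
  have hp''A : ∀ a ∈ A', p'' a = a := by
    intro a ha
    rw [hp''_apply, hrA a ha, map_zero, sub_zero]
  have hp''mem : ∀ w, p'' w ∈ A' := by
    intro w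
    have hw : w ∈ LinearMap.range ι ⊔ A' := by rw [hdense]; trivial
    obtain ⟨_, ⟨v, rfl⟩, a, ha, rfl⟩ := Submodule.mem_sup.mp hw
    rw [map_add, hp''ι, hp''A a ha]
    exact A'.add_mem ((hrange (p v)).mpr ⟨v, rfl⟩) ha
  have h1 : p' * p'' = p'' := by
    apply LinearMap.ext; intro w
    exact hp'A _ (hp''mem w)
  have h2 : p'' * p' = p' := by
    apply LinearMap.ext; intro w
    exact hp''A _ ⟨w, rfl⟩
  have hp''p'' : p'' * p'' = p'' := by
    apply LinearMap.ext; intro w
    exact hp''A _ (hp''mem w)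
  have hstep3 : cres p'' f' g' = cres p' f' g' := cres_eq_of_same_range hp' h1 h2 hfg' hfa hga
  have hadm : ∀ x : Module.End k V', Adm p' x → Adm p'' x := by
    intro x hx
    unfold Adm at *
    have h3 : (1 - p'') * p' = 0 := by rw [sub_mul, one_mul, h2, sub_self]
    have : (1 - p'') * x * p'' = (1 - p'') * ((1 - p') * x * p') * p'' := by
      have e : (1 - p'') * ((1 - p') * x * p') * p'' =
          ((1 - p'') - (1 - p'') * p') * x * (p' * p'') := by noncomm_ring
      rw [e, h3, h1, sub_zero]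
    rw [this]
    exact (hx.mul_left _).mul_right _
  have hfa'' := hadm f' hfa
  have hga'' := hadm g' hga
  -- intertwining
  have hιp : ι ∘ₗ p = p'' ∘ₗ ι := by
    apply LinearMap.ext; intro v
    exact (hp''ι v).symm
  have hfι : ∀ v, f' (ι v) = ι (f v) := fun v => LinearMap.congr_fun hf v
  have hgι : ∀ v, g' (ι v) = ι (g v) := fun v => LinearMap.congr_fun hg v
  have hAf : Adm p f := by
    apply finRank_of_intertwine hι _ hfa''
    apply LinearMap.ext; intro v
    show ι (f (p v) - p (f (p v))) = f' (p'' (ι v)) - p'' (f' (p'' (ι v)))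
    rw [hp''ι, hfι, hp''ι, map_sub]
  have hAg : Adm p g := by
    apply finRank_of_intertwine hι _ hga''
    apply LinearMap.ext; intro v
    show ι (g (p v) - p (g (p v))) = g' (p'' (ι v)) - p'' (g' (p'' (ι v)))
    rw [hp''ι, hgι, hp''ι, map_sub]
  refine ⟨?_, hAf, hAg⟩
  rw [← hstep3]
  have hfg : f * g = g * f := by
    apply LinearMap.ext; intro v
    apply hι
    show ι (f (g v)) = ι (g (f v))
    rw [← hfι, ← hgι, ← hgι, ← hfι]
    exact LinearMap.congr_fun hfg' (ι v)
  unfold cres
  rw [comm_eq_hankel hp hfg, comm_eq_hankel hp''p'' hfg']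
  -- the operator `S`
  let S : V' →ₗ[k] V := p ∘ₗ g ∘ₗ r ∘ₗ f' ∘ₗ p'' - p ∘ₗ f ∘ₗ r ∘ₗ g' ∘ₗ p''
  have hone : ∀ w, w - p'' w = ι (r w) := by
    intro w
    rw [hp''_apply]; abel
  have hT'' : p'' * g' * ((1 - p'') * f' * p'') - p'' * f' * ((1 - p'') * g' * p'') = ι ∘ₗ S := by
    apply LinearMap.ext; intro w
    show p'' (g' (f' (p'' w) - p'' (f' (p'' w)))) - p'' (f' (g' (p'' w) - p'' (g' (p'' w)))) =
      ι (p (g (r (f' (p'' w)))) - p (f (r (g' (p'' w)))))
    rw [hone, hone, hgι, hfι, hp''ι, hp''ι, map_sub]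
  have hιp' : ∀ v, ι (p v) = p'' (ι v) := fun v => (hp''ι v).symm
  have hιf : ∀ v, ι (f v) = f' (ι v) := fun v => (hfι v).symm
  have hιg : ∀ v, ι (g v) = g' (ι v) := fun v => (hgι v).symm
  have hT : p * g * ((1 - p) * f * p) - p * f * ((1 - p) * g * p) = S ∘ₗ ι := by
    apply LinearMap.ext; intro v
    apply hι
    have e := LinearMap.congr_fun hT'' (ι v)
    rw [LinearMap.comp_apply] at e
    rw [LinearMap.comp_apply, ← e]
    show ι (p (g (f (p v) - p (f (p v)))) - p (f (g (p v) - p (g (p v))))) =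
      p'' (g' (f' (p'' (ι v)) - p'' (f' (p'' (ι v))))) -
        p'' (f' (g' (p'' (ι v)) - p'' (g' (p'' (ι v)))))
    simp only [map_sub, hιp', hιf, hιg]
  have hfrT'' : FinRank (ι ∘ₗ S) := by
    rw [← hT'', ← comm_eq_hankel hp''p'' hfg']
    exact finRank_comm hp''p'' hfg' hfa'' hga''
  have hSfd : FiniteDimensional k (LinearMap.range S) := by
    unfold FinRank at hfrT''
    let j : LinearMap.range S →ₗ[k] LinearMap.range (ι ∘ₗ S) :=
      (ι.domRestrict (LinearMap.range S)).codRestrict (LinearMap.range (ι ∘ₗ S)) (by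
        rintro ⟨_, ⟨x, rfl⟩⟩
        exact ⟨x, rfl⟩)
    have hj : Function.Injective j := by
      intro x y hxy
      apply Subtype.ext
      apply hι
      exact congrArg Subtype.val hxy
    exact FiniteDimensional.of_injective j hj
  rw [hT, hT'', frTr_comp_comm ι S (Or.inr hSfd)]

end TwoSpaces

section Blocks

variable {k : Type u} [Field k] {ι : Type v} [Fintype ι] [DecidableEq ι]
  {V : ι → Type w} [∀ i, AddCommGroup (V i)] [∀ i, Module k (V i)]

/-- The trace of a finite-rank operator on a finite product is the sum of the traces of its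
diagonal blocks. -/
theorem frTr_eq_sum_blocks {T : Module.End k (∀ i, V i)} (hT : FinRank T) :
    frTr T = ∑ j, frTr (LinearMap.proj j ∘ₗ T ∘ₗ LinearMap.single k V j) := by
  have hdec : T = ∑ j, (T ∘ₗ LinearMap.single k V j) ∘ₗ LinearMap.proj j := by
    apply LinearMap.ext; intro ξ
    rw [LinearMap.sum_apply]
    simp only [LinearMap.coe_comp, Function.comp_apply, LinearMap.coe_proj, Function.eval,
      LinearMap.coe_single]
    rw [← map_sum, Finset.univ_sum_single]
  have hfr : ∀ j, FiniteDimensional k (LinearMap.range (T ∘ₗ LinearMap.single k V j)) := by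
    intro j
    unfold FinRank at hT
    exact Submodule.finiteDimensional_of_le (LinearMap.range_comp_le_range _ _)
  have hfr' : ∀ j ∈ Finset.univ, FinRank ((T ∘ₗ LinearMap.single k V j) ∘ₗ LinearMap.proj j) := by
    intro j _
    unfold FinRank at *
    haveI := hfr j
    exact Submodule.finiteDimensional_of_le (LinearMap.range_comp_le_range _ _)
  conv_lhs => rw [hdec]
  rw [(frTr_sum Finset.univ _ hfr').2]
  apply Finset.sum_congr rfl
  intro j _
  rw [frTr_comp_comm (T ∘ₗ LinearMap.single k V j) (LinearMap.proj j) (Or.inl (hfr j))]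

end Blocks

section ConstBlocks

variable {k : Type u} [Field k] {n : ℕ} {W : Type w} [AddCommGroup W] [Module k W]

/-- The residue on `Wⁿ` of an arbitrary operator against a scalar one. -/
theorem cres_pi_const {p g : Module.End k W} {Y : Module.End k (Fin n → W)} (hp : p * p = p)
    (hYG : Y * piEnd (V := fun _ : Fin n => W) (fun _ => g) =
      piEnd (V := fun _ : Fin n => W) (fun _ => g) * Y)
    (hY : Adm (piEnd (V := fun _ : Fin n => W) (fun _ => p)) Y) (hg : Adm p g) :
    cres (piEnd (V := fun _ : Fin n => W) (fun _ => p)) Y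
      (piEnd (V := fun _ : Fin n => W) (fun _ => g)) =
      ∑ j, cres p (LinearMap.proj j ∘ₗ Y ∘ₗ LinearMap.single k (fun _ : Fin n => W) j) g := by
  set P := piEnd (V := fun _ : Fin n => W) (fun _ => p) with hP
  set G := piEnd (V := fun _ : Fin n => W) (fun _ => g) with hG
  have hPP : P * P = P := by
    rw [hP, ← piEnd_mul]
    congr 1
    funext i
    exact hp
  have hGa : Adm P G := adm_piEnd (fun _ => hg)
  have hfr := finRank_comm hPP hYG hY hGa
  unfold cres
  rw [frTr_eq_sum_blocks hfr]
  apply Finset.sum_congr rfl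
  intro j _
  congr 1
  apply LinearMap.ext; intro c
  show (P (Y (P (P (G (P (Pi.single j c)))))) - P (G (P (P (Y (P (Pi.single j c))))))) j = _
  have hPs : ∀ c : W, P (Pi.single j c) = Pi.single j (p c) := by
    intro c
    funext i
    show p ((Pi.single j c : Fin n → W) i) = (Pi.single j (p c) : Fin n → W) i
    by_cases h : i = j
    · subst h; rw [Pi.single_eq_same, Pi.single_eq_same]
    · rw [Pi.single_eq_of_ne h, Pi.single_eq_of_ne h, map_zero]
  have hGs : ∀ c : W, G (Pi.single j c) = Pi.single j (g c) := by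
    intro c
    funext i
    show g ((Pi.single j c : Fin n → W) i) = (Pi.single j (g c) : Fin n → W) i
    by_cases h : i = j
    · subst h; rw [Pi.single_eq_same, Pi.single_eq_same]
    · rw [Pi.single_eq_of_ne h, Pi.single_eq_of_ne h, map_zero]
  rw [hPs, hGs, hPs, hPs]
  rfl

end ConstBlocks

end Groth.Agent.Lib.Helper27.Tate
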