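import Mathlib
import Groth.Prelude.Def_W4bk4goldsch23FF
import Groth.Agent.Lib.Helper27.FFExt2
import Groth.Agent.Lib.Helper27.FFExt1
import Groth.Agent.Lib.Helper27.FunFld2
import Groth.Agent.Lib.Helper27.FunFldCore
import Groth.Agent.Lib.Helper23.FF2

/-! Weak function fields: the two facts about places of a finite extension `K'` of a function
field `K/k` (where `k` need not be algebraically closed in `K'`) which the local theory uses:
residue fields are finite over `k`, and valuation subrings containing `k` come from places. -/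

set_option autoImplicit false

namespace Groth.Agent.Lib.Helper27.Tate

open FunFld
open Groth.Agent.Lib.Helper27.FF

universe u v w

/-- The facts about the places of `L/k` used by the local theory. -/
structure WeakFF (k : Type u) (L : Type v) [Field k] [Field L] [Algebra k L] : Prop where
  finDimRes : ∀ Q : Place k L, FiniteDimensional k (IsLocalRing.ResidueField Q.O)
  exists_place : ∀ (B : ValuationSubring L), (∀ c : k, algebraMap k L c ∈ B) →
    ∀ {x : L}, x ≠ 0 → B.valuation x < 1 → ∃ P : Place k L, ∀ y : L, P.1 y ≤ 1 ↔ y ∈ B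

variable {k : Type u} {K : Type v} {K' : Type w} [Field k] [Field K] [Field K'] [Algebra k K]
  [Algebra K K'] [Algebra k K'] [IsScalarTower k K K']

theorem WeakFF.of_isFunctionField (hK : IsFunctionField k K) : WeakFF k K :=
  ⟨(core_of hK).finDimRes, fun B hk _ hx0 hx1 => exists_place_of_valuationSubring hK B hk hx0 hx1⟩

/-- A place of `K'/k` is a place of `K'` over the algebraic closure of `k` in `K'`. -/
def toPlaceAC (Q : Place k K') : Place (algebraicClosure k K') K' :=
  ⟨Q.1, fun c => val_le_one_of_isIntegral (R := k) Q.1 Q.2.1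
    ((mem_algebraicClosure_iff.mp c.2).isIntegral), Q.2.2⟩

theorem WeakFF.of_finite (hK : IsFunctionField k K) [FiniteDimensional K K'] : WeakFF k K' := by
  obtain ⟨hK'', hfin⟩ := isFunctionField_algebraicClosure (K' := K') hK
  refine ⟨fun Q => ?_, fun B hk x hx0 hx1 => ?_⟩
  · letI : Algebra (algebraicClosure k K') Q.O := Place.algO (toPlaceAC Q)
    haveI : IsScalarTower k (algebraicClosure k K') Q.O :=
      IsScalarTower.of_algebraMap_eq (fun c => rfl)
    haveI : FiniteDimensional (algebraicClosure k K') (IsLocalRing.ResidueField Q.O) :=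
      (core_of hK'').finDimRes (toPlaceAC Q)
    exact Module.Finite.trans (algebraicClosure k K') _
  · have hk' : ∀ c : algebraicClosure k K', algebraMap (algebraicClosure k K') K' c ∈ B := by
      intro c
      rw [← B.valuation_le_one_iff]
      exact val_le_one_of_isIntegral (R := k) B.valuation
        (fun r => (B.valuation_le_one_iff _).mpr (hk r))
        ((mem_algebraicClosure_iff.mp c.2).isIntegral)
    obtain ⟨P, hP⟩ := exists_place_of_valuationSubring hK'' B hk' hx0 hx1
    exact ⟨⟨P.1, fun c => P.2.1 (algebraMap k (algebraicClosure k K') c), P.2.2⟩, hP⟩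

section ADquot

open Groth.Agent.Lib.Helper23.FF

variable {k : Type u} {K : Type v} [Field k] [Field K] [Algebra k K]

theorem qlen_step_w (hres : ∀ P : Place k K, FiniteDimensional k (IsLocalRing.ResidueField P.O)) (D : Divisor k K) (P : Place k K) :
    qlen (AD D) (AD (D + Finsupp.single P 1)) = (P.deg : ℕ∞) := by
  obtain ⟨π, hπ, -, -⟩ := exists_uniformizer P
  haveI := hres P
  unfold qlen
  rw [← stepMap_ker P hπ D,
    ((stepMap P hπ D).quotKerEquivOfSurjective (stepMap_surjective P hπ D)).length_eq,
    Module.length_eq_finrank]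
  rfl

theorem qlen_single_w (hres : ∀ P : Place k K, FiniteDimensional k (IsLocalRing.ResidueField P.O)) (D : Divisor k K) (P : Place k K) (m : ℕ) :
    qlen (AD D) (AD (D + Finsupp.single P (m : ℤ))) = ((m * P.deg : ℕ) : ℕ∞) := by
  classical
  induction m with
  | zero =>
    rw [Nat.cast_zero, Finsupp.single_zero, add_zero, qlen_self, zero_mul, Nat.cast_zero]
  | succ m ih =>
    have e : D + Finsupp.single P ((m + 1 : ℕ) : ℤ)
        = (D + Finsupp.single P (m : ℤ)) + Finsupp.single P 1 := by
      rw [Nat.cast_add, Nat.cast_one, Finsupp.single_add, add_assoc]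
    have hle1 : D ≤ D + Finsupp.single P (m : ℤ) := by
      rw [le_add_iff_nonneg_right]
      intro Q
      rw [Finsupp.zero_apply]
      by_cases hQ : P = Q
      · rw [hQ, Finsupp.single_eq_same]; exact Int.natCast_nonneg m
      · rw [Finsupp.single_apply, if_neg hQ]
    have hle2 : D + Finsupp.single P (m : ℤ) ≤ (D + Finsupp.single P (m : ℤ)) + Finsupp.single P 1 := by
      rw [le_add_iff_nonneg_right]
      intro Q
      rw [Finsupp.zero_apply]
      by_cases hQ : P = Q
      · rw [hQ, Finsupp.single_eq_same]; exact zero_le_one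
      · rw [Finsupp.single_apply, if_neg hQ]
    rw [e, qlen_chain _ _ _ (Groth.Agent.Lib.Helper23.FF.AD_mono hle1) (Groth.Agent.Lib.Helper23.FF.AD_mono hle2), ih, qlen_step_w hres]
    push_cast
    ring

/-- main computation of `dim A(D+E)/A(D)` for `E ≥ 0`. -/
theorem qlen_AD_w (hres : ∀ P : Place k K, FiniteDimensional k (IsLocalRing.ResidueField P.O)) (E : Divisor k K) :
    0 ≤ E → ∃ n : ℕ, (n : ℤ) = E.deg ∧ ∀ D : Divisor k K, qlen (AD D) (AD (D + E)) = (n : ℕ∞) := by
  classical
  induction E using Finsupp.induction with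
  | zero =>
    intro _
    refine ⟨0, by rw [Groth.Agent.Lib.Helper23.FF.deg_zero, Nat.cast_zero], fun D => ?_⟩
    rw [add_zero, qlen_self, Nat.cast_zero]
  | single_add a b f haf hb ih =>
    intro hE
    have hb0 : 0 ≤ b := by
      have h := hE a
      rw [Finsupp.zero_apply, Finsupp.add_apply, Finsupp.single_eq_same,
        Finsupp.notMem_support_iff.mp haf, add_zero] at h
      exact h
    have hf0 : 0 ≤ f := by
      intro c
      rw [Finsupp.zero_apply]
      by_cases hc : a = c
      · rw [← hc, Finsupp.notMem_support_iff.mp haf]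
      · have h := hE c
        rwa [Finsupp.zero_apply, Finsupp.add_apply, Finsupp.single_apply, if_neg hc, zero_add] at h
    obtain ⟨nf, hnf, hqf⟩ := ih hf0
    obtain ⟨m, rfl⟩ := Int.eq_ofNat_of_zero_le hb0
    refine ⟨m * a.deg + nf, ?_, fun D => ?_⟩
    · rw [Groth.Agent.Lib.Helper23.FF.deg_add, Groth.Agent.Lib.Helper23.FF.deg_single, ← hnf]; push_cast; ring
    · have e : D + (Finsupp.single a (m : ℤ) + f) = (D + f) + Finsupp.single a (m : ℤ) := by abel
      have hle1 : D ≤ D + f := by rw [le_add_iff_nonneg_right]; exact hf0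
      have hle2 : D + f ≤ (D + f) + Finsupp.single a (m : ℤ) := by
        rw [le_add_iff_nonneg_right]
        intro Q
        rw [Finsupp.zero_apply]
        by_cases hQ : a = Q
        · rw [hQ, Finsupp.single_eq_same]; exact Int.natCast_nonneg m
        · rw [Finsupp.single_apply, if_neg hQ]
      rw [e, qlen_chain _ _ _ (Groth.Agent.Lib.Helper23.FF.AD_mono hle1) (Groth.Agent.Lib.Helper23.FF.AD_mono hle2), hqf, qlen_single_w hres]
      push_cast
      ring

/-- S10974 for weak function fields. -/
theorem finrank_AD_quotient_w (hres : ∀ P : Place k K, FiniteDimensional k (IsLocalRing.ResidueField P.O)) (D₁ D₂ : Divisor k K) (h : D₁ ≤ D₂) :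
    AD D₁ ≤ AD D₂ ∧
    FiniteDimensional k (↥(AD D₂) ⧸ Submodule.comap (AD D₂).subtype (AD D₁)) ∧
    (Module.finrank k (↥(AD D₂) ⧸ Submodule.comap (AD D₂).subtype (AD D₁)) : ℤ)
      = D₂.deg - D₁.deg := by
  obtain ⟨E, rfl⟩ : ∃ E, D₂ = D₁ + E := ⟨D₂ - D₁, by abel⟩
  have hE : 0 ≤ E := by rwa [le_add_iff_nonneg_right] at h
  obtain ⟨n, hn, hq⟩ := qlen_AD_w hres E hE
  have hlen : Module.length k (↥(AD (D₁ + E)) ⧸ Submodule.comap (AD (D₁ + E)).subtype (AD D₁))
      = (n : ℕ∞) := hq D₁
  have hfin : Module.Finite k (↥(AD (D₁ + E)) ⧸ Submodule.comap (AD (D₁ + E)).subtype (AD D₁)) := by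
    rw [← Module.rank_lt_aleph0_iff, ← Cardinal.toENat_ne_top, ← Module.length_eq_rank, hlen]
    exact ENat.natCast_ne_top n
  refine ⟨Groth.Agent.Lib.Helper23.FF.AD_mono h, hfin, ?_⟩
  have h2 := Module.length_eq_finrank k
    (↥(AD (D₁ + E)) ⧸ Submodule.comap (AD (D₁ + E)).subtype (AD D₁))
  rw [hlen] at h2
  have hnat : n = Module.finrank k
      (↥(AD (D₁ + E)) ⧸ Submodule.comap (AD (D₁ + E)).subtype (AD D₁)) := by exact_mod_cast h2
  rw [← hnat, hn, Groth.Agent.Lib.Helper23.FF.deg_add]; ring


end ADquot

end Groth.Agent.Lib.Helper27.Tate
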