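import Mathlib
import Groth.Prelude.Def_W4bk4goldsch23FF
import Groth.Prelude.Def_W4bk4goldsch23Ext
import Groth.Agent.Lib.Helper27.FFExt8
import Groth.Agent.Lib.Helper27.FunFld2
import Groth.Agent.Lib.Helper27.TateW

/-! Integral bases at a place: a `K`-basis of a finite separable extension `K'` whose
`O_P`-span is the intersection of the valuation rings of the places over `P`. -/

set_option autoImplicit false

namespace Groth.Agent.Lib.Helper27.Tate

open FunFld
open Groth.Agent.Lib.Helper27.FF

universe u v w

variable {k : Type u} {K : Type v} {K' : Type w} [Field k] [Field K] [Field K'] [Algebra k K]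
  [Algebra K K'] [Algebra k K'] [IsScalarTower k K K']

/-- The `O_P`-algebra structure on an extension field. -/
noncomputable def algOK' (P : Place k K) : Algebra P.O K' :=
  ((algebraMap K K').comp P.O.subtype).toAlgebra

theorem isDVR_O (hK : IsFunctionField k K) (P : Place k K) : IsDiscreteValuationRing P.O := by
  obtain ⟨t, ht⟩ := P.2.2 (WithZero.exp (-1))
  have ht0 : t ≠ 0 := by
    rintro rfl
    rw [map_zero] at ht
    exact WithZero.exp_ne_zero ht.symm
  have hv : ∀ y : K, P.O.valuation y ≤ 1 ↔ P.1 y ≤ 1 := by
    intro y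
    rw [ValuationSubring.valuation_le_one_iff]
    exact Valuation.mem_valuationSubring_iff _ _
  have ht1 : P.O.valuation t < 1 := by
    rw [← not_le]
    intro h
    have h2 : P.O.valuation t⁻¹ ≤ 1 := by
      rw [map_inv₀]
      exact inv_le_one_of_one_le₀ h
    rw [hv, map_inv₀, ht, ← WithZero.exp_neg, neg_neg, ← WithZero.exp_zero,
      WithZero.exp_le_exp] at h2
    omega
  exact isDiscreteValuationRing_of hK P.O (fun c => (Valuation.mem_valuationSubring_iff _ _).mpr
    (P.2.1 c)) ht0 ht1

/-- An element lying in the valuation rings of all places over `P` is integral over `O_P`. -/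
theorem isIntegral_of_forall_over (hK : IsFunctionField k K) (hK' : WeakFF k K')
    [Algebra.IsAlgebraic K K'] (P : Place k K) {z : K'}
    (hz : ∀ Q : Place k K', IsOver Q P → Q.1 z ≤ 1) :
    letI := algOK' (K' := K') P
    IsIntegral P.O z := by
  letI := algOK' (K' := K') P
  set R : Subring K' := (integralClosure P.O K').toSubring with hR
  have hmem : z ∈ R := by
    rw [Subring.eq_iInf_of_isIntegrallyClosedIn (R := R)]
    rw [Subring.mem_iInf]
    rintro ⟨V, hV⟩
    show z ∈ V
    have hOV : ∀ a : K, P.1 a ≤ 1 → algebraMap K K' a ∈ V := by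
      intro a ha
      apply hV
      show algebraMap K K' a ∈ integralClosure P.O K'
      have : algebraMap K K' a = algebraMap P.O K' ⟨a, (Valuation.mem_valuationSubring_iff _ _).mpr ha⟩ :=
        rfl
      rw [this]
      exact isIntegral_algebraMap
    have hkV : ∀ c : k, algebraMap k K' c ∈ V := by
      intro c
      rw [IsScalarTower.algebraMap_apply k K K']
      exact hOV _ (P.2.1 c)
    by_cases htop : ∀ y : K', y ∈ V
    · exact htop z
    · push Not at htop
      obtain ⟨y, hy⟩ := htop
      have hy0 : y ≠ 0 := by rintro rfl; exact hy V.zero_mem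
      have hyinv : y⁻¹ ∈ V := (V.mem_or_inv_mem y).resolve_left hy
      have hx1 : V.valuation y⁻¹ < 1 := by
        rw [← not_le]
        intro h
        have h2 : V.valuation y ≤ 1 := by
          have := inv_le_one_of_one_le₀ h
          rwa [← map_inv₀, inv_inv] at this
        exact hy ((V.valuation_le_one_iff y).mp h2)
      obtain ⟨Q, hQ⟩ := hK'.exists_place V hkV (inv_ne_zero hy0) hx1
      obtain ⟨P₂, e, he⟩ := exists_isOverWith hK Q
      have hP : P₂ = P := by
        apply Groth.Agent.Lib.Helper23.FF.place_eq_of_lt_one_imp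
        intro x hx
        by_contra hx'
        rw [not_lt] at hx'
        have hx0 : x ≠ 0 := by
          rintro rfl
          rw [map_zero] at hx'
          exact not_le.mpr zero_lt_one hx'
        have h1 : P.1 x⁻¹ ≤ 1 := by
          rw [map_inv₀]
          exact inv_le_one_of_one_le₀ hx'
        have h2 := (hQ _).mpr (hOV _ h1)
        have h3 := (isOverWith_val_le_one_iff he x⁻¹).mp h2
        rw [map_inv₀] at h3
        have h4 : (1 : WithZero (Multiplicative ℤ)) ≤ P₂.1 x := by
          have hpos : 0 < P₂.1 x := by rw [zero_lt_iff, Valuation.ne_zero_iff]; exact hx0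
          exact (inv_le_one₀ hpos).mp h3
        exact not_le.mpr hx h4
      subst hP
      exact (hQ z).mp (hz Q ⟨e, he⟩)
  exact hmem

/-- An integral basis at `P`. -/
theorem exists_integral_basis (hK : IsFunctionField k K) (hK' : WeakFF k K')
    [FiniteDimensional K K'] [Algebra.IsSeparable K K'] (P : Place k K) :
    ∃ (n : ℕ) (b : Module.Basis (Fin n) K K'), ∀ z : K',
      (∀ Q : Place k K', IsOver Q P → Q.1 z ≤ 1) ↔ ∀ i, P.1 (b.repr z i) ≤ 1 := by
  classical
  letI := algOK' (K' := K') P
  haveI : IsScalarTower P.O K K' := IsScalarTower.of_algebraMap_eq (fun _ => rfl)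
  haveI := isDVR_O hK P
  haveI : Module.IsTorsionFree P.O K' := by
    apply Module.IsTorsionFree.of_smul_eq_zero
    intro r m h
    have h' : algebraMap K K' (r : K) * m = 0 := h
    rcases mul_eq_zero.mp h' with h1 | h1
    · left
      apply Subtype.ext
      have : (r : K) = 0 := by
        apply (algebraMap K K').injective
        rw [h1, map_zero]
      exact this
    · right; exact h1
  set C := integralClosure P.O K' with hC
  haveI : Module.Free P.O C := IsIntegralClosure.module_free P.O K K' C
  haveI : Module.Finite P.O C := IsIntegralClosure.finite P.O K K' C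
  haveI : IsLocalization (Algebra.algebraMapSubmonoid C (nonZeroDivisors P.O)) K' :=
    IsIntegralClosure.isLocalization_of_isSeparable P.O K K' C
  let b₀ := Module.Free.chooseBasis P.O C
  let b₁ := Module.Basis.localizationLocalization K (nonZeroDivisors P.O) K' b₀
  let e := Fintype.equivFin (Module.Free.ChooseBasisIndex P.O C)
  have hOQ : ∀ (Q : Place k K'), IsOver Q P → ∀ a : K, P.1 a ≤ 1 → Q.1 (algebraMap K K' a) ≤ 1 := by
    rintro Q ⟨e', he'⟩ a ha
    exact (isOverWith_val_le_one_iff he' a).mpr ha
  refine ⟨_, b₁.reindex e, fun z => ?_⟩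
  constructor
  · intro hz i
    have hint := isIntegral_of_forall_over hK hK' P hz
    have hz' : z = algebraMap C K' ⟨z, hint⟩ := rfl
    rw [Module.Basis.repr_reindex_apply, hz', Module.Basis.localizationLocalization_repr_algebraMap]
    exact (Valuation.mem_valuationSubring_iff _ _).mp (b₀.repr ⟨z, hint⟩ (e.symm i)).2
  · intro hz Q hQ
    rw [← (b₁.reindex e).sum_repr z]
    apply Valuation.map_sum_le
    intro i _
    rw [Algebra.smul_def, map_mul]
    have h1 := hOQ Q hQ _ (hz i)
    have h2 : Q.1 ((b₁.reindex e) i) ≤ 1 := by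
      rw [Module.Basis.reindex_apply, Module.Basis.localizationLocalization_apply]
      apply val_le_one_of_isIntegral (R := P.O) Q.1
      · intro r
        exact hOQ Q hQ _ ((Valuation.mem_valuationSubring_iff _ _).mp r.2)
      · exact (b₀ (e.symm i)).2
    exact mul_le_one' h1 h2

end Groth.Agent.Lib.Helper27.Tate
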