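import Mathlib
import Groth.Prelude.Def_W4bk4goldsch23FF
import Groth.Prelude.Def_LocRes
import Groth.Agent.Lib.Helper27.Tate7
import Groth.Agent.Lib.Helper27.FunFld12

/-! Tate's residues, part 8: the residue theorem for function fields. -/

set_option autoImplicit false

namespace Groth.Agent.Lib.Helper27.Tate

open LinearMap LaurentSeries HahnSeries FunFld
open Groth.Agent.Lib.Helper27.FF

universe u v w

variable {k : Type u} {K : Type v} [Field k] [Field K] [Algebra k K]

/-- The poles of an element form a finite set. -/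
theorem finite_poles (hK : IsFunctionField k K) (x : K) :
    {P : Place k K | ¬ P.1 x ≤ 1}.Finite :=
  mem_adele_iff.mp ((core_of hK).diag_mem_adele x)

/-- Simultaneous approximation with bounded error at a nonempty finite set of places and
integrality elsewhere. -/
theorem exists_approx_away (hK : IsFunctionField k K) (S : Finset (Place k K)) (hS : S.Nonempty) :
    ∃ M : ℤ, 0 ≤ M ∧ ∀ y : Place k K → K, ∃ x : K,
      (∀ P ∈ S, P.1 (x - y P) ≤ WithZero.exp M) ∧ ∀ Q ∉ S, Q.1 x ≤ 1 := by
  classical
  have C := core_of hK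
  obtain ⟨N, hN⟩ := C.riemann.2
  obtain ⟨P₀, hP₀⟩ := hS
  set M : ℤ := max N 0 with hM
  have hM0 : 0 ≤ M := le_max_right _ _
  refine ⟨M, hM0, fun y => ?_⟩
  let D₁ : Divisor k K := Finsupp.onFinset S (fun Q => if Q ∈ S then M else 0) (by
    intro Q h
    by_contra hQ
    simp [hQ] at h)
  have hD₁ : ∀ Q, D₁ Q = if Q ∈ S then M else 0 := fun Q => rfl
  have hle : Finsupp.single P₀ M ≤ D₁ := by
    intro Q
    rw [hD₁, Finsupp.single_apply]
    by_cases h : P₀ = Q
    · subst h; rw [if_pos rfl, if_pos hP₀]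
    · rw [if_neg h]; split_ifs
      · exact hM0
      · exact le_rfl
  have hdeg : N ≤ D₁.deg := by
    have h1 := deg_mono hle
    rw [deg_single] at h1
    have h2 : (1 : ℤ) ≤ (P₀.deg : ℤ) := by exact_mod_cast C.one_le_deg P₀
    have h3 : N ≤ M := le_max_left _ _
    nlinarith
  have hA := C.adele_eq hN hdeg
  let a : Place k K → K := fun Q => if Q ∈ S then y Q else 0
  have ha : a ∈ adele k K := by
    rw [mem_adele_iff]
    refine S.finite_toSet.subset ?_
    intro Q hQ
    by_contra hQ'
    apply hQ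
    have hQ'' : Q ∉ S := fun h => hQ' (Finset.mem_coe.mpr h)
    have ha' : a Q = 0 := if_neg hQ''
    show Q.1 (a Q) ≤ 1
    rw [ha', map_zero]
    exact zero_le
  rw [hA] at ha
  obtain ⟨b, hb, c, ⟨z, rfl⟩, hbc⟩ := Submodule.mem_sup.mp ha
  have hbz : ∀ Q : Place k K, b Q = a Q - z := by
    intro Q
    have := congrFun hbc Q
    rw [Pi.add_apply, diag_apply] at this
    rw [← this]; ring
  refine ⟨z, ?_, ?_⟩
  · intro P hP
    have := hb P
    rw [hbz, hD₁, if_pos hP] at this
    rw [Valuation.map_sub_swap]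
    show P.1 (y P - z) ≤ _
    have ha' : a P = y P := if_pos hP
    rwa [ha'] at this
  · intro Q hQ
    have := hb Q
    have ha' : a Q = 0 := if_neg hQ
    rw [hbz, hD₁, if_neg hQ, ha', zero_sub, Valuation.map_neg, WithZero.exp_zero] at this
    exact this

variable {F : Type w} [Field F] [Algebra k F]

/-- An expansion, as a `k`-linear map for the coefficientwise structure. -/
noncomputable def expLin (φ : K →ₐ[k] F⸨X⸩) : K →ₗ[k] F⸨X⸩ where
  toFun := φ
  map_add' := map_add φ
  map_smul' c x := by
    simp only [RingHom.id_apply]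
    rw [Algebra.smul_def, map_mul, LocRes.map_algebraMap, smul_eq_C_mul]

@[simp] theorem expLin_apply (φ : K →ₐ[k] F⸨X⸩) (x : K) : expLin φ x = φ x := rfl

/-- the ring of elements integral away from `S` -/
def awayRing (S : Finset (Place k K)) : Submodule k K where
  carrier := {x | ∀ Q ∉ S, Q.1 x ≤ 1}
  add_mem' {x y} hx hy Q hQ := (Q.1.map_add x y).trans (max_le (hx Q hQ) (hy Q hQ))
  zero_mem' Q _ := by simp
  smul_mem' c x hx Q hQ := by
    rw [Algebra.smul_def, map_mul]
    exact (mul_le_mul' (Q.2.1 c) (hx Q hQ)).trans_eq (one_mul _)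

theorem rres_eq_locRes [FiniteDimensional k F] (φ : K →ₐ[k] F⸨X⸩) (u v : K) :
    rres k (φ u) (φ v) = LocRes.locRes φ u v := rfl

end Groth.Agent.Lib.Helper27.Tate
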