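import Mathlib
import Groth.Prelude.Def_W4bk4goldsch23FF
import Groth.Prelude.Def_W4bk4goldsch23Ext
import Groth.Prelude.Def_LocRes
import Groth.Agent.Lib.Helper27.Tate8
import Groth.Agent.Lib.Helper27.Tate11
import Groth.Agent.Lib.Helper27.Tate12
import Groth.Agent.Lib.Helper27.Hyper3
import Groth.Agent.Lib.Helper23.FF3a

/-! Tate's residues, part 13: the trace formula `Res_P(tr(y) dx) = ∑_{Q|P} Res_Q(y dx)`. -/

set_option autoImplicit false

namespace Groth.Agent.Lib.Helper27.Tate

open LinearMap LaurentSeries HahnSeries FunFld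
open Groth.Agent.Lib.Helper27.FF

universe u v w

section Idem

variable {k : Type u} [Field k] {V : Type v} [AddCommGroup V] [Module k V]

theorem exists_idem (A : Submodule k V) :
    ∃ p : Module.End k V, p * p = p ∧ ∀ v, v ∈ LinearMap.range p ↔ v ∈ A := by
  obtain ⟨N, hN⟩ := Submodule.exists_isCompl A
  refine ⟨A.projection N hN, ?_, ?_⟩
  · apply LinearMap.ext; intro v
    show A.projection N hN (A.projection N hN v) = A.projection N hN v
    exact Submodule.projection_apply_left hN ⟨_, Submodule.projection_apply_mem hN v⟩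
  · intro v
    rw [Submodule.range_projection]

end Idem

variable {k : Type u} {K : Type v} [Field k] [Field K] [Algebra k K]

/-- the valuation ring as a `k`-subspace -/
def ringO (P : Place k K) : Submodule k K where
  carrier := {x | P.1 x ≤ 1}
  add_mem' {x y} hx hy := (P.1.map_add x y).trans (max_le hx hy)
  zero_mem' := by simp
  smul_mem' c x hx := by
    show P.1 (c • x) ≤ 1
    rw [Algebra.smul_def, map_mul]
    exact (mul_le_mul' (P.2.1 c) hx).trans_eq (one_mul _)

theorem mem_ringO {P : Place k K} {x : K} : x ∈ ringO P ↔ P.1 x ≤ 1 := Iff.rfl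

variable {F : Type w} [Field F] [Algebra k F]

theorem mem_range_trunc {ξ : F⸨X⸩} :
    ξ ∈ LinearMap.range (trunc k F) ↔ ∀ n < 0, ξ.coeff n = 0 := by
  constructor
  · rintro ⟨η, rfl⟩
    exact coeff_trunc_neg η
  · intro h
    exact ⟨ξ, trunc_eq_self h⟩

theorem coeff_neg_iff_val {ξ : F⸨X⸩} : (∀ n < 0, ξ.coeff n = 0) ↔ Valued.v ξ ≤ 1 := by
  rw [← WithZero.exp_zero, ← neg_zero]
  exact LR.val_le_exp_iff.symm

/-- The residue at `P` computed on `K` itself, relative to any projection onto `O_P`. -/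
theorem cres_K_eq_locRes [FiniteDimensional k F] {P : Place k K} {φ : K →ₐ[k] F⸨X⸩}
    (hφ : LocRes.IsExpansionAt P.1 φ) {p₀ : Module.End k K} (hp₀ : p₀ * p₀ = p₀)
    (hr : ∀ z, z ∈ LinearMap.range p₀ ↔ P.1 z ≤ 1) (a x : K) :
    cres p₀ (LinearMap.mulLeft k a) (LinearMap.mulLeft k x) = LocRes.locRes φ a x ∧
      Adm p₀ (LinearMap.mulLeft k a) ∧ Adm p₀ (LinearMap.mulLeft k x) := by
  have hinj : Function.Injective (expLin φ) := φ.toRingHom.injective
  have h := cres_eq_of_dense (expLin φ) hinj (p := p₀) (p' := trunc k F)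
    (f := LinearMap.mulLeft k a) (g := LinearMap.mulLeft k x) (f' := mulOp k (φ a))
    (g' := mulOp k (φ x)) hp₀ trunc_trunc
    (by
      intro v
      rw [mem_range_trunc, coeff_neg_iff_val, hr, expLin_apply, hφ.1])
    (by
      rw [eq_top_iff]
      intro ξ _
      obtain ⟨y, hy⟩ := exists_approx hφ ξ 0
      have : ξ = expLin φ y + (ξ - φ y) := by rw [expLin_apply]; ring
      rw [this]
      exact Submodule.add_mem _ (Submodule.mem_sup_left ⟨y, rfl⟩)
        (Submodule.mem_sup_right (mem_range_trunc.mpr hy)))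
    (by
      apply LinearMap.ext; intro v
      show φ a * φ v = φ (a * v)
      rw [map_mul])
    (by
      apply LinearMap.ext; intro v
      show φ x * φ v = φ (x * v)
      rw [map_mul])
    (mulOp_comm _ _) (adm_mulOp _) (adm_mulOp _)
  refine ⟨?_, h.2⟩
  rw [h.1]
  exact lres_eq_rres (k := k) (φ a) (φ x)

theorem locRes_sum {ι : Type*} (s : Finset ι) (φ : K →ₐ[k] F⸨X⸩) (a : ι → K) (x : K) :
    LocRes.locRes φ (∑ i ∈ s, a i) x = ∑ i ∈ s, LocRes.locRes φ (a i) x := by
  unfold LocRes.locRes LocRes.resExp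
  rw [map_sum, Finset.sum_mul, map_sum, map_sum]

end Groth.Agent.Lib.Helper27.Tate
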