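import Mathlib
import Groth.Prelude.Def_W4bk4goldsch23FF
import Groth.Prelude.Def_W4bk4goldsch23Ext
import Groth.Prelude.Def_LocRes
import Groth.Agent.Lib.Helper27.Tate13

/-! Tate's residues, part 15: the trace formula in abstract form (any model of the semilocal
completion above `P`), and residues on a binary product. -/

set_option autoImplicit false

namespace Groth.Agent.Lib.Helper27.Tate

open LinearMap LaurentSeries HahnSeries FunFld
open Groth.Agent.Lib.Helper27.FF

universe u v w w'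

section Abstract

variable {k : Type u} {K K' : Type v} [Field k] [Field K] [Field K'] [Algebra k K]
  [Algebra K K'] [Algebra k K'] [IsScalarTower k K K'] [FiniteDimensional K K']
  [Algebra.IsSeparable K K']

/-- The trace formula, abstract form: `V'` with the idempotent `P'` is any model in which `K'` is
dense with the elements integral over `O_P` as preimage of the range of `P'`. -/
theorem trace_residue_abstract (hK : IsFunctionField k K) (hK' : WeakFF k K')
    (P : Place k K) (F : Type w) [Field F] [Algebra k F] [FiniteDimensional k F]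
    (φ : K →ₐ[k] LaurentSeries F) (hφ : LocRes.IsExpansionAt P.1 φ)
    {V' : Type w'} [AddCommGroup V'] [Module k V'] (ι : K' →ₗ[k] V') (hι : Function.Injective ι)
    {P' f' g' : Module.End k V'} (hP' : P' * P' = P')
    (hrange : ∀ z, ι z ∈ LinearMap.range P' ↔ ∀ Q : Place k K', IsOver Q P → Q.1 z ≤ 1)
    (hdense : LinearMap.range ι ⊔ LinearMap.range P' = ⊤)
    (y : K') (x : K)
    (hf : f' ∘ₗ ι = ι ∘ₗ LinearMap.mulLeft k y)
    (hg : g' ∘ₗ ι = ι ∘ₗ LinearMap.mulLeft k (algebraMap K K' x))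
    (hfg' : f' * g' = g' * f') (hfa : Adm P' f') (hga : Adm P' g') :
    LocRes.locRes φ (Algebra.trace K K' y) x = cres P' f' g' := by
  classical
  obtain ⟨n, b, hb⟩ := exists_integral_basis hK hK' P
  obtain ⟨p₀, hp₀, hr₀⟩ := exists_idem (ringO P)
  have hr₀' : ∀ z, z ∈ LinearMap.range p₀ ↔ P.1 z ≤ 1 := fun z => (hr₀ z).trans mem_ringO
  set x' : K' := algebraMap K K' x with hx'
  let e : K' ≃ₗ[k] (Fin n → K) := b.equivFun.restrictScalars k
  have he_apply : ∀ z i, e z i = b.repr z i := fun z i => rfl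
  have hes_smul : ∀ (a : K) (c : Fin n → K), e.symm (a • c) = a • e.symm c := by
    intro a c
    exact map_smul b.equivFun.symm a c
  have he_smul : ∀ (a : K) (z : K'), e (a • z) = a • e z := by
    intro a z
    exact map_smul b.equivFun a z
  let ι₂ : (Fin n → K) →ₗ[k] V' := ι ∘ₗ e.symm.toLinearMap
  have hι₂ : ∀ c, ι₂ c = ι (e.symm c) := fun c => rfl
  have hinj : Function.Injective ι₂ := hι.comp e.symm.injective
  set Pn : Module.End k (Fin n → K) := piEnd (V := fun _ : Fin n => K) (fun _ => p₀) with hPndef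
  set G : Module.End k (Fin n → K) :=
    piEnd (V := fun _ : Fin n => K) (fun _ => LinearMap.mulLeft k x) with hGdef
  let Y : Module.End k (Fin n → K) :=
    e.toLinearMap ∘ₗ (LinearMap.mulLeft k y) ∘ₗ e.symm.toLinearMap
  have hY_apply : ∀ c, Y c = e (y * e.symm c) := fun c => rfl
  have hPnPn : Pn * Pn = Pn := by
    rw [hPndef, ← piEnd_mul]
    congr 1
    funext i
    exact hp₀
  have hmemPn : ∀ c : Fin n → K, c ∈ LinearMap.range Pn ↔ ∀ i, P.1 (c i) ≤ 1 := by
    intro c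
    constructor
    · rintro ⟨d, rfl⟩ i
      exact (hr₀' _).mp ⟨d i, rfl⟩
    · intro h
      refine ⟨c, ?_⟩
      funext i
      obtain ⟨d, hd⟩ := (hr₀' (c i)).mpr (h i)
      show p₀ (c i) = c i
      rw [← hd]
      exact LinearMap.congr_fun hp₀ d
  have hG_apply : ∀ c, G c = x • c := by
    intro c
    funext i
    rfl
  have hC := cres_eq_of_dense ι₂ hinj (p := Pn) (f := Y) (g := G) (p' := P') (f' := f') (g' := g')
    hPnPn hP'
    (by
      intro c
      rw [hmemPn, hι₂, hrange]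
      set z := e.symm c with hz
      have hc : ∀ i, c i = b.repr z i := by
        intro i
        rw [← he_apply, hz, LinearEquiv.apply_symm_apply]
      simp only [hc]
      exact hb z)
    (by
      rw [eq_top_iff]
      intro ξ _
      have hξ : ξ ∈ LinearMap.range ι ⊔ LinearMap.range P' := by rw [hdense]; trivial
      obtain ⟨_, ⟨z, rfl⟩, a, ha, rfl⟩ := Submodule.mem_sup.mp hξ
      refine Submodule.add_mem _ (Submodule.mem_sup_left ⟨e z, ?_⟩) (Submodule.mem_sup_right ha)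
      rw [hι₂, LinearEquiv.symm_apply_apply])
    (by
      apply LinearMap.ext; intro c
      have := LinearMap.congr_fun hf (e.symm c)
      rw [LinearMap.comp_apply, LinearMap.comp_apply] at this
      show f' (ι (e.symm c)) = ι (e.symm (Y c))
      rw [this, hY_apply, LinearEquiv.symm_apply_apply]
      rfl)
    (by
      apply LinearMap.ext; intro c
      have := LinearMap.congr_fun hg (e.symm c)
      rw [LinearMap.comp_apply, LinearMap.comp_apply] at this
      show g' (ι (e.symm c)) = ι (e.symm (G c))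
      rw [this, hG_apply, hes_smul, Algebra.smul_def]
      rfl)
    hfg' hfa hga
  obtain ⟨hC1, hC2, hC3⟩ := hC
  rw [← hC1]
  have hYG : Y * G = G * Y := by
    apply LinearMap.ext; intro c
    show Y (G c) = G (Y c)
    rw [hG_apply, hG_apply, hY_apply, hY_apply, hes_smul, mul_smul_comm, he_smul]
  have hAx := (cres_K_eq_locRes hφ hp₀ hr₀' x x).2.1
  rw [hGdef] at hYG
  rw [hPndef] at hC2
  rw [hPndef, hGdef, cres_pi_const hp₀ hYG hC2 hAx]
  have hblock : ∀ j : Fin n,
      LinearMap.proj j ∘ₗ Y ∘ₗ LinearMap.single k (fun _ : Fin n => K) j =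
        LinearMap.mulLeft k (Algebra.leftMulMatrix b y j j) := by
    intro j
    apply LinearMap.ext; intro c
    show (Y (Pi.single j c)) j = Algebra.leftMulMatrix b y j j * c
    have h1 : e.symm (Pi.single j c) = c • b j := by
      rw [LinearEquiv.symm_apply_eq, he_smul]
      funext i
      rw [Pi.smul_apply, he_apply, Module.Basis.repr_self, smul_eq_mul]
      by_cases h : i = j
      · subst h; rw [Pi.single_eq_same, Finsupp.single_eq_same, mul_one]
      · rw [Pi.single_eq_of_ne h, Finsupp.single_eq_of_ne h, mul_zero]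
    rw [hY_apply, h1, mul_smul_comm, he_smul, Pi.smul_apply, he_apply, smul_eq_mul,
      Algebra.leftMulMatrix_eq_repr_mul, mul_comm]
  simp only [hblock]
  rw [Algebra.trace_eq_matrix_trace b, Matrix.trace, locRes_sum]
  apply Finset.sum_congr rfl
  intro j _
  rw [Matrix.diag_apply]
  exact ((cres_K_eq_locRes hφ hp₀ hr₀' _ x).1).symm

end Abstract

section Prod

variable {k : Type u} [Field k] {V₁ : Type v} [AddCommGroup V₁] [Module k V₁]
  {V₂ : Type w} [AddCommGroup V₂] [Module k V₂]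

theorem frTr_prodMap {T₁ : Module.End k V₁} {T₂ : Module.End k V₂} (h₁ : FinRank T₁)
    (h₂ : FinRank T₂) :
    FinRank (T₁.prodMap T₂) ∧ frTr (T₁.prodMap T₂) = frTr T₁ + frTr T₂ := by
  have hdec : T₁.prodMap T₂ = (LinearMap.inl k V₁ V₂ ∘ₗ T₁) ∘ₗ LinearMap.fst k V₁ V₂ +
      (LinearMap.inr k V₁ V₂ ∘ₗ T₂) ∘ₗ LinearMap.snd k V₁ V₂ := by
    apply LinearMap.ext
    rintro ⟨a, b⟩
    simp
  have hr₁ : FiniteDimensional k (LinearMap.range (LinearMap.inl k V₁ V₂ ∘ₗ T₁)) := by
    unfold FinRank at h₁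
    rw [LinearMap.range_comp]
    infer_instance
  have hr₂ : FiniteDimensional k (LinearMap.range (LinearMap.inr k V₁ V₂ ∘ₗ T₂)) := by
    unfold FinRank at h₂
    rw [LinearMap.range_comp]
    infer_instance
  have hf₁ : FinRank ((LinearMap.inl k V₁ V₂ ∘ₗ T₁) ∘ₗ LinearMap.fst k V₁ V₂) := by
    unfold FinRank
    exact Submodule.finiteDimensional_of_le (LinearMap.range_comp_le_range _ _)
  have hf₂ : FinRank ((LinearMap.inr k V₁ V₂ ∘ₗ T₂) ∘ₗ LinearMap.snd k V₁ V₂) := by
    unfold FinRank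
    exact Submodule.finiteDimensional_of_le (LinearMap.range_comp_le_range _ _)
  rw [hdec]
  refine ⟨hf₁.add hf₂, ?_⟩
  rw [frTr_add hf₁ hf₂, frTr_comp_comm _ _ (Or.inl hr₁), frTr_comp_comm _ _ (Or.inl hr₂)]
  congr 1

theorem prodMap_mul' (S₁ T₁ : Module.End k V₁) (S₂ T₂ : Module.End k V₂) :
    (S₁ * T₁).prodMap (S₂ * T₂) = S₁.prodMap S₂ * T₁.prodMap T₂ := by
  apply LinearMap.ext
  rintro ⟨a, b⟩
  rfl

theorem prodMap_sub' (S₁ T₁ : Module.End k V₁) (S₂ T₂ : Module.End k V₂) :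
    (S₁ - T₁).prodMap (S₂ - T₂) = S₁.prodMap S₂ - T₁.prodMap T₂ := by
  apply LinearMap.ext
  rintro ⟨a, b⟩
  rfl

theorem prodMap_one' : (1 : Module.End k V₁).prodMap (1 : Module.End k V₂) = 1 := by
  apply LinearMap.ext
  rintro ⟨a, b⟩
  rfl

theorem adm_prodMap {p₁ f₁ : Module.End k V₁} {p₂ f₂ : Module.End k V₂} (h₁ : Adm p₁ f₁)
    (h₂ : Adm p₂ f₂) : Adm (p₁.prodMap p₂) (f₁.prodMap f₂) := by
  unfold Adm
  have : (1 - p₁.prodMap p₂) * f₁.prodMap f₂ * p₁.prodMap p₂ =
      ((1 - p₁) * f₁ * p₁).prodMap ((1 - p₂) * f₂ * p₂) := by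
    rw [prodMap_mul', prodMap_mul', prodMap_sub', prodMap_one']
  rw [this]
  exact (frTr_prodMap h₁ h₂).1

/-- The residue on a binary product is the sum of the residues. -/
theorem cres_prodMap {p₁ f₁ g₁ : Module.End k V₁} {p₂ f₂ g₂ : Module.End k V₂}
    (hp₁ : p₁ * p₁ = p₁) (hp₂ : p₂ * p₂ = p₂) (hfg₁ : f₁ * g₁ = g₁ * f₁)
    (hfg₂ : f₂ * g₂ = g₂ * f₂) (hf₁ : Adm p₁ f₁) (hg₁ : Adm p₁ g₁) (hf₂ : Adm p₂ f₂)
    (hg₂ : Adm p₂ g₂) :
    cres (p₁.prodMap p₂) (f₁.prodMap f₂) (g₁.prodMap g₂) = cres p₁ f₁ g₁ + cres p₂ f₂ g₂ := by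
  unfold cres
  have : p₁.prodMap p₂ * f₁.prodMap f₂ * p₁.prodMap p₂ *
        (p₁.prodMap p₂ * g₁.prodMap g₂ * p₁.prodMap p₂) -
      p₁.prodMap p₂ * g₁.prodMap g₂ * p₁.prodMap p₂ *
        (p₁.prodMap p₂ * f₁.prodMap f₂ * p₁.prodMap p₂) =
      (p₁ * f₁ * p₁ * (p₁ * g₁ * p₁) - p₁ * g₁ * p₁ * (p₁ * f₁ * p₁)).prodMap
        (p₂ * f₂ * p₂ * (p₂ * g₂ * p₂) - p₂ * g₂ * p₂ * (p₂ * f₂ * p₂)) := by
    rw [prodMap_sub', prodMap_mul', prodMap_mul', prodMap_mul', prodMap_mul', prodMap_mul',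
      prodMap_mul', prodMap_mul', prodMap_mul', prodMap_mul', prodMap_mul']
  rw [this]
  exact (frTr_prodMap (finRank_comm hp₁ hfg₁ hf₁ hg₁) (finRank_comm hp₂ hfg₂ hf₂ hg₂)).2

end Prod

end Groth.Agent.Lib.Helper27.Tate
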