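import Mathlib
import Groth.Prelude.Def_W4bk4goldsch23FF
import Groth.Prelude.Def_W4bk4goldsch23Ext
import Groth.Prelude.Def_LocRes
import Groth.Agent.Lib.Helper27.Tate15
import Groth.Agent.Lib.Helper27.FunFldCore

/-! Tate's residues, part 16: residues relative to a semilocal ring; the partial trace formula
`Res_P(tr(y) dx) = Res_Q(y dx) + (residue at the other places over P)`. -/

set_option autoImplicit false

namespace Groth.Agent.Lib.Helper27.Tate

open LinearMap LaurentSeries HahnSeries FunFld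
open Groth.Agent.Lib.Helper27.FF

universe u v w

section AtRing

variable {k : Type u} {L : Type v} [Field k] [Field L] [Algebra k L]

/-- the ring of elements integral at all places of `S` -/
def atRing (S : Finset (Place k L)) : Submodule k L where
  carrier := {x | ∀ Q ∈ S, Q.1 x ≤ 1}
  add_mem' {x y} hx hy Q hQ := (Q.1.map_add x y).trans (max_le (hx Q hQ) (hy Q hQ))
  zero_mem' Q _ := by simp
  smul_mem' c x hx Q hQ := by
    rw [Algebra.smul_def, map_mul]
    exact (mul_le_mul' (Q.2.1 c) (hx Q hQ)).trans_eq (one_mul _)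

theorem mem_atRing {S : Finset (Place k L)} {x : L} : x ∈ atRing S ↔ ∀ Q ∈ S, Q.1 x ≤ 1 :=
  Iff.rfl

/-- Every multiplication operator nearly stabilises `atRing S`. -/
theorem adm_atRing (hL : WeakFF k L) (S : Finset (Place k L)) {p₂ : Module.End k L}
    (hp₂ : p₂ * p₂ = p₂) (hr : ∀ z, z ∈ LinearMap.range p₂ ↔ z ∈ atRing S) (y : L) :
    Adm p₂ (LinearMap.mulLeft k y) := by
  classical
  -- the bounding divisor
  let nfun : Place k L → ℤ := fun Q => if Q ∈ S then max 0 (WithZero.log (Q.1 y)) else 0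
  let D₂ : Divisor k L := Finsupp.onFinset S nfun (by
    intro Q h
    by_contra hQ
    apply h
    show (if Q ∈ S then max 0 (WithZero.log (Q.1 y)) else 0) = 0
    rw [if_neg hQ])
  have hD₂ : ∀ Q, D₂ Q = if Q ∈ S then max 0 (WithZero.log (Q.1 y)) else 0 := fun Q => rfl
  have hD₂0 : (0 : Divisor k L) ≤ D₂ := by
    intro Q
    rw [hD₂]
    split_ifs
    · exact le_max_left _ _
    · exact le_rfl
  obtain ⟨-, hfd, -⟩ := finrank_AD_quotient_w hL.finDimRes 0 D₂ hD₂0
  have hyQ : ∀ Q ∈ S, Q.1 y ≤ WithZero.exp (D₂ Q) := by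
    intro Q hQ
    rw [hD₂, if_pos hQ]
    by_cases hy0 : Q.1 y = 0
    · rw [hy0]; exact zero_le
    · rw [← WithZero.log_le_iff_le_exp hy0]
      exact le_max_right _ _
  -- the map to the quotient
  let Θ₀ : L →ₗ[k] (Place k L → L) :=
    { toFun := fun z Q => if Q ∈ S then z else 0
      map_add' := by
        intro a b
        funext Q
        show (if Q ∈ S then a + b else 0) = (if Q ∈ S then a else 0) + (if Q ∈ S then b else 0)
        split_ifs <;> simp
      map_smul' := by
        intro c a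
        funext Q
        show (if Q ∈ S then c • a else 0) = c • (if Q ∈ S then a else 0)
        split_ifs <;> simp }
  have hΘ₀ : ∀ z Q, Θ₀ z Q = if Q ∈ S then z else 0 := fun z Q => rfl
  let M : Submodule k L := (atRing S).map (LinearMap.mulLeft k y)
  have hM : ∀ m ∈ M, Θ₀ m ∈ AD D₂ := by
    rintro _ ⟨r, hr', rfl⟩ Q
    rw [hΘ₀]
    split_ifs with hQ
    · show Q.1 (y * r) ≤ _
      rw [map_mul]
      exact (mul_le_mul' (hyQ Q hQ) (hr' Q hQ)).trans_eq (mul_one _)
    · rw [map_zero]; exact zero_le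
  let Λ : ↥M →ₗ[k] (↥(AD D₂) ⧸ Submodule.comap (AD D₂).subtype (AD 0)) :=
    (Submodule.mkQ _) ∘ₗ ((Θ₀.domRestrict M).codRestrict (AD D₂) (fun m => hM m.1 m.2))
  let Λ' : ↥M →ₗ[k] L := (1 - p₂ : Module.End k L).domRestrict M
  have hpfix : ∀ z, z ∈ atRing S → p₂ z = z := by
    intro z hz
    obtain ⟨w, rfl⟩ := (hr z).mpr hz
    exact LinearMap.congr_fun hp₂ w
  have hker : LinearMap.ker Λ' = LinearMap.ker Λ := by
    ext m
    rw [LinearMap.mem_ker, LinearMap.mem_ker]
    have h1 : Λ' m = 0 ↔ m.1 ∈ atRing S := by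
      show m.1 - p₂ m.1 = 0 ↔ _
      constructor
      · intro h
        rw [sub_eq_zero] at h
        exact (hr _).mp ⟨m.1, h.symm⟩
      · intro h
        rw [hpfix _ h, sub_self]
    have h2 : Λ m = 0 ↔ m.1 ∈ atRing S := by
      show Submodule.Quotient.mk _ = 0 ↔ _
      rw [Submodule.Quotient.mk_eq_zero]
      show Θ₀ m.1 ∈ AD 0 ↔ _
      constructor
      · intro h Q hQ
        have := h Q
        rw [hΘ₀, if_pos hQ, Finsupp.zero_apply, WithZero.exp_zero] at this
        exact this
      · intro h Q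
        rw [hΘ₀, Finsupp.zero_apply, WithZero.exp_zero]
        split_ifs with hQ
        · exact h Q hQ
        · rw [map_zero]; exact zero_le
    rw [h1, h2]
  have hfdΛ : FiniteDimensional k (LinearMap.range Λ) := inferInstance
  have e1 := Λ.quotKerEquivRange
  have e2 := Λ'.quotKerEquivRange
  have hfdq : FiniteDimensional k (↥M ⧸ LinearMap.ker Λ) := e1.symm.finiteDimensional
  have hfdq' : FiniteDimensional k (↥M ⧸ LinearMap.ker Λ') := by rw [hker]; exact hfdq
  have hfdΛ' : FiniteDimensional k (LinearMap.range Λ') := e2.finiteDimensional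
  unfold Adm FinRank
  have hle : LinearMap.range ((1 - p₂) * LinearMap.mulLeft k y * p₂) ≤ LinearMap.range Λ' := by
    rintro _ ⟨v, rfl⟩
    have hmem : y * p₂ v ∈ M := ⟨p₂ v, (hr _).mp ⟨v, rfl⟩, rfl⟩
    exact ⟨⟨y * p₂ v, hmem⟩, rfl⟩
  exact Submodule.finiteDimensional_of_le hle

end AtRing

end Groth.Agent.Lib.Helper27.Tate
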