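import Mathlib
import Groth.Prelude.Def_W4bk4goldsch23FF
import Groth.Prelude.Def_W4bk4goldsch23Ext
import Groth.Prelude.Def_LocRes
import Groth.Agent.Lib.Helper27.Tate16

/-! Tate's residues, part 17: the partial trace formula. -/

set_option autoImplicit false

namespace Groth.Agent.Lib.Helper27.Tate

open LinearMap LaurentSeries HahnSeries FunFld
open Groth.Agent.Lib.Helper27.FF

universe u v w

variable {k : Type u} {K K' : Type v} [Field k] [Field K] [Field K'] [Algebra k K]
  [Algebra K K'] [Algebra k K'] [IsScalarTower k K K'] [FiniteDimensional K K']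
  [Algebra.IsSeparable K K']

/-- The partial trace formula: the residue at `P` of `tr(y) dx` is the residue at `Q` of `y dx`
plus the abstract residue relative to the ring of elements integral at the other places over `P`.-/
theorem partial_trace_residue (hK : IsFunctionField k K) (hK' : WeakFF k K')
    (P : Place k K) (F : Type w) [Field F] [Algebra k F] [FiniteDimensional k F]
    (φ : K →ₐ[k] LaurentSeries F) (hφ : LocRes.IsExpansionAt P.1 φ)
    (Qs : Finset (Place k K')) (hQs : ∀ Q, Q ∈ Qs ↔ IsOver Q P)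
    (Q : Place k K') (hQ : Q ∈ Qs) (F' : Type w) [Field F'] [Algebra k F']
    [FiniteDimensional k F']
    (ψ : K' →ₐ[k] LaurentSeries F') (hψ : LocRes.IsExpansionAt Q.1 ψ)
    (S₂ : Finset (Place k K')) (hS₂ : ∀ Q', Q' ∈ S₂ ↔ Q' ∈ Qs ∧ Q' ≠ Q)
    {p₂ : Module.End k K'} (hp₂ : p₂ * p₂ = p₂)
    (hr₂ : ∀ z, z ∈ LinearMap.range p₂ ↔ z ∈ atRing S₂)
    (y : K') (x : K) :
    LocRes.locRes φ (Algebra.trace K K' y) x =
      LocRes.locRes ψ y (algebraMap K K' x) +
        cres p₂ (LinearMap.mulLeft k y) (LinearMap.mulLeft k (algebraMap K K' x)) := by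
  classical
  set x' : K' := algebraMap K K' x with hx'
  let ι : K' →ₗ[k] (LaurentSeries F' × K') := (expLin ψ).prod LinearMap.id
  have hι_apply : ∀ z, ι z = (ψ z, z) := fun z => rfl
  have hι : Function.Injective ι := by
    intro a b h
    exact congrArg Prod.snd h
  set P' : Module.End k (LaurentSeries F' × K') := (trunc k F').prodMap p₂ with hP'def
  set f' : Module.End k (LaurentSeries F' × K') :=
    (mulOp k (ψ y)).prodMap (LinearMap.mulLeft k y) with hf'def
  set g' : Module.End k (LaurentSeries F' × K') :=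
    (mulOp k (ψ x')).prodMap (LinearMap.mulLeft k x') with hg'def
  have hP'P' : P' * P' = P' := by
    rw [hP'def, ← prodMap_mul', trunc_trunc, hp₂]
  have hfg' : f' * g' = g' * f' := by
    rw [hf'def, hg'def, ← prodMap_mul', ← prodMap_mul', mulOp_comm]
    congr 1
    apply LinearMap.ext; intro z
    show y * (x' * z) = x' * (y * z)
    ring
  have hA₂ : ∀ a : K', Adm p₂ (LinearMap.mulLeft k a) := fun a => adm_atRing hK' _ hp₂ hr₂ a
  have hfa : Adm P' f' := adm_prodMap (adm_mulOp _) (hA₂ y)
  have hga : Adm P' g' := adm_prodMap (adm_mulOp _) (hA₂ x')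
  have hmemP' : ∀ (ξ : LaurentSeries F') (z : K'), (ξ, z) ∈ LinearMap.range P' ↔
      Valued.v ξ ≤ 1 ∧ z ∈ atRing S₂ := by
    intro ξ z
    rw [hP'def, LinearMap.range_prodMap, Submodule.mem_prod, mem_range_trunc, coeff_neg_iff_val,
      hr₂]
  have hmain := trace_residue_abstract hK hK' P F φ hφ ι hι (P' := P') (f' := f') (g' := g') hP'P'
    (by
      intro z
      rw [hι_apply, hmemP', hψ.1, mem_atRing]
      constructor
      · rintro ⟨h1, h2⟩ Q' hQ'
        by_cases h : Q' = Q
        · rw [h]; exact h1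
        · exact h2 Q' ((hS₂ Q').mpr ⟨(hQs Q').mpr hQ', h⟩)
      · intro h
        refine ⟨h Q ((hQs Q).mp hQ), fun Q' hQ' => ?_⟩
        exact h Q' ((hQs Q').mp ((hS₂ Q').mp hQ').1))
    (by
      rw [eq_top_iff]
      rintro ⟨ξ, z₀⟩ _
      obtain ⟨y₁, hy₁⟩ := exists_approx hψ ξ 0
      obtain ⟨z, hz⟩ := Groth.Agent.Lib.Helper23.FF.weak_approx (fun i : ↥Qs => i.1)
        Subtype.val_injective (fun i : ↥Qs => if i.1 = Q then y₁ else z₀) 0
      have hzQ : Q.1 (z - y₁) ≤ 1 := by
        have := hz ⟨Q, hQ⟩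
        simpa using this
      have hzQ' : ∀ Q' ∈ S₂, Q'.1 (z - z₀) ≤ 1 := by
        intro Q' hQ'
        have := hz ⟨Q', ((hS₂ Q').mp hQ').1⟩
        rw [if_neg ((hS₂ Q').mp hQ').2] at this
        simpa using this
      have hmem : (ξ - ψ z, z₀ - z) ∈ LinearMap.range P' := by
        rw [hmemP']
        constructor
        · rw [← coeff_neg_iff_val]
          intro m hm
          have e1 : ξ - ψ z = (ξ - ψ y₁) - ψ (z - y₁) := by rw [map_sub]; ring
          rw [e1, HahnSeries.coeff_sub, hy₁ m hm]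
          have hval : Valued.v (ψ (z - y₁)) ≤ 1 := by rw [hψ.1]; exact hzQ
          rw [coeff_neg_iff_val.mpr hval m hm, sub_zero]
        · intro Q' hQ'
          rw [Valuation.map_sub_swap]
          exact hzQ' Q' hQ'
      have hdec : ((ξ, z₀) : LaurentSeries F' × K') = ι z + (ξ - ψ z, z₀ - z) := by
        rw [hι_apply]
        refine Prod.ext ?_ ?_
        · show ξ = ψ z + (ξ - ψ z)
          ring
        · show z₀ = z + (z₀ - z)
          ring
      rw [hdec]
      exact Submodule.add_mem _ (Submodule.mem_sup_left ⟨z, rfl⟩) (Submodule.mem_sup_right hmem))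
    y x
    (by
      apply LinearMap.ext; intro z
      show (ψ y * ψ z, y * z) = (ψ (y * z), y * z)
      rw [map_mul])
    (by
      apply LinearMap.ext; intro z
      show (ψ x' * ψ z, x' * z) = (ψ (x' * z), x' * z)
      rw [map_mul])
    hfg' hfa hga
  rw [hmain, hP'def, hf'def, hg'def, cres_prodMap trunc_trunc hp₂ (mulOp_comm _ _)
    (by
      apply LinearMap.ext; intro z
      show y * (x' * z) = x' * (y * z)
      ring)
    (adm_mulOp _) (adm_mulOp _) (hA₂ y) (hA₂ x')]
  congr 1
  exact lres_eq_rres (k := k) (ψ y) (ψ x')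

end Groth.Agent.Lib.Helper27.Tate
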