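import Mathlib
import Groth.Prelude.Def_W4bk4goldsch23FF
import Groth.Prelude.Def_LocRes
import Groth.Agent.Lib.Helper27.Tate8
import Groth.Agent.Lib.Helper27.FunFld7

/-! Tate's residues, part 9: the residue theorem for function fields (sum over a finite set
containing all poles). -/

set_option autoImplicit false

namespace Groth.Agent.Lib.Helper27.Tate

open LinearMap LaurentSeries HahnSeries FunFld
open Groth.Agent.Lib.Helper27.FF

universe u v w

variable {k : Type u} {K : Type v} [Field k] [Field K] [Algebra k K]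

theorem sum_locRes_finset (hK : IsFunctionField k K)
    (F : Place k K → Type w) [∀ P, Field (F P)] [∀ P, Algebra k (F P)]
    [∀ P, FiniteDimensional k (F P)]
    (φ : ∀ P, K →ₐ[k] LaurentSeries (F P)) (hφ : ∀ P, LocRes.IsExpansionAt P.1 (φ P))
    (S : Finset (Place k K)) (hS : S.Nonempty) (u v : K)
    (hu : ∀ Q ∉ S, Q.1 u ≤ 1) (hv : ∀ Q ∉ S, Q.1 v ≤ 1) :
    ∑ P ∈ S, LocRes.locRes (φ P) u v = 0 := by
  classical
  set p : Module.End k (∀ i : ↥S, LaurentSeries (F i.1)) :=
    piEnd (V := fun i : ↥S => LaurentSeries (F i.1)) (fun i => trunc k (F i.1)) with hpdef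
  set f : Module.End k (∀ i : ↥S, LaurentSeries (F i.1)) :=
    piEnd (V := fun i : ↥S => LaurentSeries (F i.1)) (fun i => mulOp k (φ i.1 u)) with hfdef
  set g : Module.End k (∀ i : ↥S, LaurentSeries (F i.1)) :=
    piEnd (V := fun i : ↥S => LaurentSeries (F i.1)) (fun i => mulOp k (φ i.1 v)) with hgdef
  have hsum : cres p f g = ∑ i : ↥S, LocRes.locRes (φ i.1) u v := by
    rw [hpdef, hfdef, hgdef, cres_piEnd (fun i => trunc_trunc) (fun i => mulOp_comm _ _)
      (fun i => adm_mulOp _) (fun i => adm_mulOp _)]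
    apply Finset.sum_congr rfl
    intro i _
    exact lres_eq_rres _ _
  rw [← Finset.sum_coe_sort S (fun P => LocRes.locRes (φ P) u v), ← hsum]
  have hp : p * p = p := by
    rw [hpdef, ← piEnd_mul]
    congr 1
    funext i
    exact trunc_trunc
  have hfg : f * g = g * f := by
    rw [hfdef, hgdef, ← piEnd_mul, ← piEnd_mul]
    congr 1
    funext i
    exact mulOp_comm _ _
  have hf : Adm p f := adm_piEnd (fun i => adm_mulOp _)
  have hg : Adm p g := adm_piEnd (fun i => adm_mulOp _)
  let Φ : K →ₗ[k] (∀ i : ↥S, LaurentSeries (F i.1)) := LinearMap.pi (fun i => expLin (φ i.1))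
  have hΦ : ∀ x i, Φ x i = φ i.1 x := fun x i => rfl
  let B : Submodule k (∀ i : ↥S, LaurentSeries (F i.1)) := (awayRing S).map Φ
  have hfB : ∀ b ∈ B, f b ∈ B := by
    rintro _ ⟨x, hx, rfl⟩
    refine ⟨u * x, ?_, ?_⟩
    · intro Q hQ
      rw [map_mul]
      exact mul_le_one' (hu Q hQ) (hx Q hQ)
    · funext i
      show φ i.1 (u * x) = φ i.1 u * φ i.1 x
      rw [map_mul]
  have hgB : ∀ b ∈ B, g b ∈ B := by
    rintro _ ⟨x, hx, rfl⟩
    refine ⟨v * x, ?_, ?_⟩
    · intro Q hQ
      rw [map_mul]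
      exact mul_le_one' (hv Q hQ) (hx Q hQ)
    · funext i
      show φ i.1 (v * x) = φ i.1 v * φ i.1 x
      rw [map_mul]
  have hN : FiniteDimensional k ↥(LinearMap.range p ⊓ B) := by
    haveI := finiteDimensional_L hK (0 : Divisor k K)
    have hle : LinearMap.range p ⊓ B ≤ (L (0 : Divisor k K)).map Φ := by
      rintro ξ ⟨⟨η, hη⟩, ⟨x, hx, hxξ⟩⟩
      refine ⟨x, ?_, hxξ⟩
      intro P
      show P.1 x ≤ WithZero.exp ((0 : Divisor k K) P)
      rw [Finsupp.zero_apply, WithZero.exp_zero]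
      by_cases hP : P ∈ S
      · have h1 : φ P x = trunc k (F P) (η ⟨P, hP⟩) := by
          have := congrFun (hxξ.trans hη.symm) ⟨P, hP⟩
          exact this
        rw [← (hφ P).1 x, h1, ← WithZero.exp_zero, ← neg_zero]
        exact LR.val_le_exp_iff.mpr (coeff_trunc_neg _)
      · exact hx P hP
    exact Submodule.finiteDimensional_of_le hle
  obtain ⟨M, hM0, hMspec⟩ := exists_approx_away hK S hS
  let Ψ : (∀ i : ↥S, (Finset.Ico (-M) 0 → F i.1)) →ₗ[k] (∀ i : ↥S, LaurentSeries (F i.1)) :=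
    LinearMap.pi (fun i => polyMap k (F i.1) (-M) 0 ∘ₗ LinearMap.proj i)
  let W : Submodule k (∀ i : ↥S, LaurentSeries (F i.1)) := LinearMap.range Ψ
  haveI : FiniteDimensional k W := LinearMap.finiteDimensional_range Ψ
  have hW : LinearMap.range p ⊔ B ⊔ W = ⊤ := by
    rw [eq_top_iff]
    intro ξ _
    choose y hy using fun i : ↥S => exists_approx (hφ i.1) (ξ i) 0
    let y' : Place k K → K := fun Q => if h : Q ∈ S then y ⟨Q, h⟩ else 0
    obtain ⟨x, hx1, hx2⟩ := hMspec y'
    set ζ := ξ - Φ x with hζdef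
    have hζ : ∀ i n, n < -M → (ζ i).coeff n = 0 := by
      intro i n hn
      have e : ζ i = (ξ i - φ i.1 (y i)) - φ i.1 (x - y i) := by
        show ξ i - φ i.1 x = _
        rw [map_sub]; ring
      rw [e, HahnSeries.coeff_sub, hy i n (by omega)]
      have hval : Valued.v (φ i.1 (x - y i)) ≤ WithZero.exp (-(-M)) := by
        rw [(hφ i.1).1, neg_neg]
        have := hx1 i.1 i.2
        have hy' : y' i.1 = y i := by
          show (if h : i.1 ∈ S then y ⟨i.1, h⟩ else 0) = y i
          rw [dif_pos i.2]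
        rwa [hy'] at this
      rw [LR.val_le_exp_iff.mp hval n hn, sub_zero]
    have hW' : ζ - p ζ ∈ W := by
      have : ∀ i : ↥S, ∃ c, polyMap k (F i.1) (-M) 0 c = (ζ - p ζ) i := by
        intro i
        apply mem_range_polyMap
        intro n hn
        show ((ζ i) - trunc k _ (ζ i)).coeff n = 0
        rw [HahnSeries.coeff_sub, coeff_trunc]
        rcases hn with hn | hn
        · rw [hζ i n hn]; split_ifs <;> simp
        · rw [if_pos hn, sub_self]
      choose c hc using this
      exact ⟨c, funext hc⟩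
    have hdec : ξ = p ζ + Φ x + (ζ - p ζ) := by rw [hζdef]; abel
    rw [hdec]
    exact Submodule.add_mem _ (Submodule.add_mem _
      (Submodule.mem_sup_left (Submodule.mem_sup_left ⟨ζ, rfl⟩))
      (Submodule.mem_sup_left (Submodule.mem_sup_right ⟨x, hx2, rfl⟩)))
      (Submodule.mem_sup_right hW')
  exact cres_eq_zero_of_global hp hfg hf hg B hfB hgB hN W hW

/-- The residue of `u dv` vanishes where `u`, `v` are integral. -/
theorem locRes_eq_zero_of_le {F : Type w} [Field F] [Algebra k F] {P : Place k K}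
    {φ : K →ₐ[k] LaurentSeries F} (hφ : LocRes.IsExpansionAt P.1 φ) {u v : K} (hu : P.1 u ≤ 1)
    (hv : P.1 v ≤ 1) : LocRes.locRes φ u v = 0 := by
  unfold LocRes.locRes LocRes.resExp
  rw [LR.res_eq_zero_of_val_le_one, map_zero]
  rw [map_mul]
  have h1 : Valued.v (φ u) ≤ 1 := by rw [hφ.1 u]; exact hu
  have h2 : Valued.v (LocRes.D F (φ v)) ≤ 1 := by
    apply LR.val_D_le_one
    rw [hφ.1 v]; exact hv
  exact mul_le_one' h1 h2

/-- The residue theorem. -/
theorem residue_theorem (hK : IsFunctionField k K)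
    (F : Place k K → Type w) [∀ P, Field (F P)] [∀ P, Algebra k (F P)]
    [∀ P, FiniteDimensional k (F P)]
    (φ : ∀ P, K →ₐ[k] LaurentSeries (F P)) (hφ : ∀ P, LocRes.IsExpansionAt P.1 (φ P))
    (u v : K) :
    (Function.support fun P => LocRes.locRes (φ P) u v).Finite ∧
      ∑ᶠ P, LocRes.locRes (φ P) u v = 0 := by
  classical
  obtain ⟨P₀⟩ := (core_of hK).exists_place
  set S : Finset (Place k K) :=
    (finite_poles hK u).toFinset ∪ (finite_poles hK v).toFinset ∪ {P₀} with hSdef
  have hS : S.Nonempty := ⟨P₀, by rw [hSdef]; simp⟩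
  have hu : ∀ Q ∉ S, Q.1 u ≤ 1 := by
    intro Q hQ
    by_contra h
    apply hQ
    rw [hSdef]
    simp only [Finset.mem_union, Set.Finite.mem_toFinset, Set.mem_setOf_eq]
    exact Or.inl (Or.inl h)
  have hv : ∀ Q ∉ S, Q.1 v ≤ 1 := by
    intro Q hQ
    by_contra h
    apply hQ
    rw [hSdef]
    simp only [Finset.mem_union, Set.Finite.mem_toFinset, Set.mem_setOf_eq]
    exact Or.inl (Or.inr h)
  have hsupp : (Function.support fun P => LocRes.locRes (φ P) u v) ⊆ ↑S := by
    intro P hP
    by_contra hPS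
    exact hP (locRes_eq_zero_of_le (hφ P) (hu P hPS) (hv P hPS))
  refine ⟨S.finite_toSet.subset hsupp, ?_⟩
  rw [finsum_eq_sum_of_support_subset _ hsupp]
  exact sum_locRes_finset hK F φ hφ S hS u v hu hv

end Groth.Agent.Lib.Helper27.Tate
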