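import Mathlib
import Groth.Prelude.Def_W4bk4goldsch23FF
import Groth.Prelude.Def_W4bk4goldsch23Ext
import Groth.Prelude.Def_LocRes
import Groth.Agent.Lib.Helper27.Tate17
import Groth.Agent.Lib.Helper27.Tate18
import Groth.Agent.Lib.Helper27.Tate9
import Groth.Agent.Lib.Helper27.LR4

/-! The dual of the integral closure under the trace form, at a place of residue degree one:
Dedekind's different theorem in the form `min v_Q(R^*) = -d(Q|P)`. -/

set_option autoImplicit false

namespace Groth.Agent.Lib.Helper27.Tate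

open LinearMap LaurentSeries HahnSeries FunFld
open Groth.Agent.Lib.Helper27.FF

universe u v w

section NonVanish

variable {k : Type u} {K : Type v} {F : Type w} [Field k] [Field K] [Field F] [Algebra k K]
  [Algebra k F]

/-- Non-vanishing of residues, given separability of the coefficient field. -/
theorem exists_trace_coeff_ne_zero_of_sep [FiniteDimensional k F] [Algebra.IsSeparable k F]
    {w : Valuation K (WithZero (Multiplicative ℤ))} {φ : K →ₐ[k] F⸨X⸩}
    (hφ : LocRes.IsExpansionAt w φ) {η : F⸨X⸩} {m : ℤ} (hη : ∀ n < m, η.coeff n = 0)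
    (hm : η.coeff m ≠ 0) :
    ∃ y : K, w y = WithZero.exp (m + 1) ∧ Algebra.trace k F ((φ y * η).coeff (-1)) ≠ 0 := by
  obtain ⟨c, hc⟩ := Algebra.trace_surjective k F (1 : k)
  obtain ⟨y, hy1, hy2⟩ := exists_leading hφ (-m - 1) (c / η.coeff m)
  have hc0 : c ≠ 0 := by
    rintro rfl
    rw [map_zero] at hc
    exact zero_ne_one hc
  refine ⟨y, ?_, ?_⟩
  · rw [← hφ.1, show m + 1 = -(-m - 1) by ring]
    apply LR.val_eq_exp_iff.mpr
    refine ⟨hy1, ?_⟩
    rw [hy2]
    exact div_ne_zero hc0 hm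
  · have := coeff_mul_add hy1 hη
    rw [show -m - 1 + m = -1 by ring] at this
    rw [this, hy2, div_mul_cancel₀ _ hm, hc]
    exact one_ne_zero

/-- A series of valuation `> 1` pairs non-trivially with some element of the valuation ring. -/
theorem exists_trace_ne_zero_of_one_lt [FiniteDimensional k F] [Algebra.IsSeparable k F]
    {w : Valuation K (WithZero (Multiplicative ℤ))} {φ : K →ₐ[k] F⸨X⸩}
    (hφ : LocRes.IsExpansionAt w φ) {ζ : F⸨X⸩} (hζ : 1 < Valued.v ζ) :
    ∃ y : K, w y ≤ 1 ∧ Valued.v (φ y * ζ) ≤ WithZero.exp 1 ∧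
      Algebra.trace k F ((φ y * ζ).coeff (-1)) ≠ 0 := by
  have hζ0 : ζ ≠ 0 := by
    rintro rfl
    rw [map_zero] at hζ
    exact not_lt_zero hζ
  have hv0 : Valued.v ζ ≠ 0 := by rwa [ne_eq, map_eq_zero]
  set m : ℤ := -WithZero.log (Valued.v ζ) with hm
  have hvm : Valued.v ζ = WithZero.exp (-m) := by rw [hm, neg_neg, WithZero.exp_log hv0]
  have hm1 : m ≤ -1 := by
    rw [hvm, ← WithZero.exp_zero, WithZero.exp_lt_exp] at hζ
    omega
  obtain ⟨h1, h2⟩ := LR.val_eq_exp_iff.mp hvm
  obtain ⟨y, hy1, hy2⟩ := exists_trace_coeff_ne_zero_of_sep hφ h1 h2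
  refine ⟨y, ?_, ?_, hy2⟩
  · rw [hy1, ← WithZero.exp_zero, WithZero.exp_le_exp]; omega
  · rw [map_mul, hφ.1, hy1, hvm, ← WithZero.exp_add, WithZero.exp_le_exp]; omega

end NonVanish

end Groth.Agent.Lib.Helper27.Tate
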