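import Mathlib
import Groth.Prelude.Def_W4bk4goldsch23FF
import Groth.Prelude.Def_W4bk4goldsch23Ext
import Groth.Prelude.Def_LocRes
import Groth.Agent.Lib.Helper27.Tate19

/-! The dual of the integral closure under the trace form, at a place of residue degree one:
Dedekind's different theorem in the form `min v_Q(R^*) = -d(Q|P)`. -/

set_option autoImplicit false

namespace Groth.Agent.Lib.Helper27.Tate

open LinearMap LaurentSeries HahnSeries FunFld
open Groth.Agent.Lib.Helper27.FF

universe u v w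

section AtRing

variable {k : Type u} {L : Type v} [Field k] [Field L] [Algebra k L]

theorem stable_atRing (S : Finset (Place k L)) {p₂ : Module.End k L}
    (hp₂ : p₂ * p₂ = p₂) (hr : ∀ z, z ∈ LinearMap.range p₂ ↔ z ∈ atRing S) {a : L}
    (ha : a ∈ atRing S) : (1 - p₂) * LinearMap.mulLeft k a * p₂ = 0 := by
  apply LinearMap.ext; intro v
  show a * p₂ v - p₂ (a * p₂ v) = 0
  have h1 : p₂ v ∈ atRing S := (hr _).mp ⟨v, rfl⟩
  have h2 : a * p₂ v ∈ atRing S := by
    intro Q hQ
    rw [map_mul]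
    exact mul_le_one' (ha Q hQ) (h1 Q hQ)
  obtain ⟨u, hu⟩ := (hr _).mpr h2
  rw [← hu]
  have := LinearMap.congr_fun hp₂ u
  rw [Module.End.mul_apply] at this
  rw [this, sub_self]

end AtRing

variable {k : Type u} {K K' : Type v} [Field k] [Field K] [Field K'] [Algebra k K]
  [Algebra K K'] [Algebra k K'] [IsScalarTower k K K'] [FiniteDimensional K K']
  [Algebra.IsSeparable K K']
  {F F' : Type w} [Field F] [Algebra k F] [Field F'] [Algebra k F']

/-- The trace formula for an element integral at the other places over `P`, against a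
differential `dt` with `t` integral at `P`. -/
theorem key_identity (hK : IsFunctionField k K) (hK' : WeakFF k K')
    {P : Place k K} {φ : K →ₐ[k] LaurentSeries F} (hφ : LocRes.IsExpansionAt P.1 φ)
    [FiniteDimensional k F] {Q : Place k K'} (hQP : IsOver Q P)
    {ψ : K' →ₐ[k] LaurentSeries F'} (hψ : LocRes.IsExpansionAt Q.1 ψ) [FiniteDimensional k F']
    {t : K} (ht : P.1 t ≤ 1) {w : K'} (hw : ∀ Q', IsOver Q' P → Q' ≠ Q → Q'.1 w ≤ 1) :
    LocRes.locRes φ (Algebra.trace K K' w) t = LocRes.locRes ψ w (algebraMap K K' t) := by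
  classical
  obtain ⟨hfin, -⟩ := FF.sum_ramIdx_mul_deg (K' := K') hK P
  set Qs : Finset (Place k K') := hfin.toFinset with hQsdef
  have hQs : ∀ Q', Q' ∈ Qs ↔ IsOver Q' P := fun Q' => hfin.mem_toFinset
  set S₂ : Finset (Place k K') := Qs.filter (fun Q' => Q' ≠ Q) with hS₂def
  have hS₂ : ∀ Q', Q' ∈ S₂ ↔ Q' ∈ Qs ∧ Q' ≠ Q := fun Q' => Finset.mem_filter
  obtain ⟨p₂, hp₂, hr₂⟩ := exists_idem (atRing S₂)
  have h := partial_trace_residue hK hK' P F φ hφ Qs hQs Q ((hQs Q).mpr hQP) F' ψ hψ S₂ hS₂ hp₂ hr₂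
    w t
  rw [h]
  have hwS : w ∈ atRing S₂ := by
    intro Q' hQ'
    obtain ⟨h1, h2⟩ := (hS₂ Q').mp hQ'
    exact hw Q' ((hQs Q').mp h1) h2
  have htS : algebraMap K K' t ∈ atRing S₂ := by
    intro Q' hQ'
    obtain ⟨h1, h2⟩ := (hS₂ Q').mp hQ'
    obtain ⟨e', he'⟩ := (hQs Q').mp h1
    exact (isOverWith_val_le_one_iff he' t).mpr ht
  have hcomm : LinearMap.mulLeft k w * LinearMap.mulLeft k (algebraMap K K' t) =
      LinearMap.mulLeft k (algebraMap K K' t) * LinearMap.mulLeft k w := by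
    apply LinearMap.ext; intro z
    show w * (algebraMap K K' t * z) = algebraMap K K' t * (w * z)
    ring
  rw [cres_eq_zero_of_stable hp₂ hcomm (stable_atRing S₂ hp₂ hr₂ hwS)
    (stable_atRing S₂ hp₂ hr₂ htS), add_zero]

theorem locRes_eq_zero_of_val_le (φ : K →ₐ[k] LaurentSeries F) {u v : K}
    (h : Valued.v (φ u * LocRes.D F (φ v)) ≤ 1) : LocRes.locRes φ u v = 0 := by
  unfold LocRes.locRes LocRes.resExp
  rw [LR.res_eq_zero_of_val_le_one h, map_zero]

end Groth.Agent.Lib.Helper27.Tate
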