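import Mathlib
import Groth.Prelude.Def_W4bk4goldsch23FF
import Groth.Prelude.Def_W4bk4goldsch23Ext
import Groth.Prelude.Def_LocRes
import Groth.Agent.Lib.Helper27.Tate20

/-! Dedekind's different theorem at a place of residue degree one. -/

set_option autoImplicit false

namespace Groth.Agent.Lib.Helper27.Tate

open LinearMap LaurentSeries HahnSeries FunFld
open Groth.Agent.Lib.Helper27.FF

universe u v w

variable {k : Type u} {K K' : Type v} [Field k] [Field K] [Field K'] [Algebra k K]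
  [Algebra K K'] [Algebra k K'] [IsScalarTower k K K']
  {F F' : Type w} [Field F] [Algebra k F] [Field F'] [Algebra k F']

/-- The order above of `dt`, `t` a uniformizer below, is the different exponent. -/
theorem val_D_uniformizer_above (hK : IsFunctionField k K) (hg : IsGeometric k K)
    (P : Place k K) (Q : Place k K') (e : ℕ) (he : IsOverWith Q P e)
    (φ : K →ₐ[k] LaurentSeries F) (hφ : LocRes.IsExpansionAt P.1 φ)
    (ψ : K' →ₐ[k] LaurentSeries F') (hψ : LocRes.IsExpansionAt Q.1 ψ)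
    (x : K) (hx : LocRes.vDiff φ 1 x ≠ 0) (hx' : LocRes.vDiff ψ 1 (algebraMap K K' x) ≠ 0)
    {t : K} (ht : P.1 t = WithZero.exp (-1)) :
    Valued.v (LocRes.D F (φ t)) = 1 ∧
      Valued.v (LocRes.D F' (ψ (algebraMap K K' t))) =
        WithZero.exp (-(LocRes.diffExp φ ψ e x)) := by
  obtain ⟨h1, h2, h3⟩ := LR.diffExp_eq_ordDiff hK hg P Q e he φ hφ ψ hψ x hx hx' ht
  refine ⟨h2, ?_⟩
  set ψ' : K →ₐ[k] LaurentSeries F' := ψ.comp (IsScalarTower.toAlgHom k K K') with hψ'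
  have hψ'_apply : ∀ z, ψ' z = ψ (algebraMap K K' z) := fun z => rfl
  obtain ⟨g, hg'⟩ := LR.exists_smul_D hK hg h3 x
  have e2 := LR.D_map_of_smul ψ' hg'
  have hne : LocRes.D F' (ψ' t) ≠ 0 := by
    intro h0
    rw [h0, mul_zero, hψ'_apply] at e2
    apply hx'
    rw [LR.vDiff_one, e2, map_zero]
  have hv0 : Valued.v (LocRes.D F' (ψ' t)) ≠ 0 := by rwa [ne_eq, map_eq_zero]
  rw [h1, LR.ordDiff_one, neg_neg, WithZero.exp_log hv0]
  rfl

variable [FiniteDimensional K K'] [Algebra.IsSeparable K K']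

/-- Elements of the dual of the integral closure have `v_Q ≥ -d(Q|P)`. -/
theorem dual_le (hK : IsFunctionField k K) (hg : IsGeometric k K) (hK' : WeakFF k K')
    (P : Place k K) (Q : Place k K') (e : ℕ) (he : IsOverWith Q P e)
    (φ : K →ₐ[k] LaurentSeries F) (hφ : LocRes.IsExpansionAt P.1 φ)
    (ψ : K' →ₐ[k] LaurentSeries F') (hψ : LocRes.IsExpansionAt Q.1 ψ)
    [FiniteDimensional k F] [FiniteDimensional k F'] [Algebra.IsSeparable k F']
    (x : K) (hx : LocRes.vDiff φ 1 x ≠ 0) (hx' : LocRes.vDiff ψ 1 (algebraMap K K' x) ≠ 0)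
    (y : K')
    (hy : ∀ z : K', (∀ Q' : Place k K', IsOver Q' P → Q'.1 z ≤ 1) →
      P.1 (Algebra.trace K K' (y * z)) ≤ 1) :
    Q.1 y ≤ WithZero.exp (LocRes.diffExp φ ψ e x) := by
  classical
  set d := LocRes.diffExp φ ψ e x with hd
  by_contra hcon
  rw [not_le] at hcon
  obtain ⟨t, ht⟩ := hφ.2.2
  have ht1 : P.1 t ≤ 1 := by
    rw [ht, ← WithZero.exp_zero, WithZero.exp_le_exp]; norm_num
  obtain ⟨hD1, hD2⟩ := val_D_uniformizer_above hK hg P Q e he φ hφ ψ hψ x hx hx' ht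
  set t' : K' := algebraMap K K' t with ht'
  set η := LocRes.D F' (ψ t') with hη
  set ζ := ψ y * η with hζdef
  have hζv : Valued.v ζ = Q.1 y * WithZero.exp (-d) := by
    rw [hζdef, map_mul, hψ.1, hD2]
  have hζ : 1 < Valued.v ζ := by
    rw [hζv]
    calc (1 : WithZero (Multiplicative ℤ)) = WithZero.exp d * WithZero.exp (-d) := by
          rw [← WithZero.exp_add, add_neg_cancel, WithZero.exp_zero]
      _ < Q.1 y * WithZero.exp (-d) := mul_lt_mul_of_pos_right hcon WithZero.exp_pos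
  obtain ⟨z₀, hz₀1, hz₀2, hz₀3⟩ := exists_trace_ne_zero_of_one_lt hψ hζ
  -- the places over `P`
  obtain ⟨hfin, -⟩ := FF.sum_ramIdx_mul_deg (K' := K') hK P
  set Qs : Finset (Place k K') := hfin.toFinset with hQsdef
  have hQs : ∀ Q', Q' ∈ Qs ↔ IsOver Q' P := fun Q' => hfin.mem_toFinset
  have hQQs : Q ∈ Qs := (hQs Q).mpr ⟨e, he⟩
  -- the precision
  obtain ⟨m₁, hm₁⟩ := Groth.Agent.Lib.Helper23.FF.exists_nat_le_exp (Valued.v ζ)
  choose mQ hmQ using fun Q' : Place k K' => Groth.Agent.Lib.Helper23.FF.exists_nat_le_exp (Q'.1 y)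
  set N : ℕ := m₁ + ∑ Q' ∈ Qs, mQ Q' with hN
  have hNQ : ∀ Q' ∈ Qs, mQ Q' ≤ N := by
    intro Q' hQ'
    have := Finset.single_le_sum (f := mQ) (fun i _ => Nat.zero_le _) hQ'
    omega
  obtain ⟨z, hz⟩ := Groth.Agent.Lib.Helper23.FF.weak_approx (fun i : ↥Qs => i.1)
    Subtype.val_injective (fun i : ↥Qs => if i.1 = Q then z₀ else 0) N
  have hzQ : Q.1 (z - z₀) ≤ WithZero.exp (-(N : ℤ)) := by
    have := hz ⟨Q, hQQs⟩
    simpa using this
  have hzQ' : ∀ Q' ∈ Qs, Q' ≠ Q → Q'.1 z ≤ WithZero.exp (-(N : ℤ)) := by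
    intro Q' hQ' hne
    have := hz ⟨Q', hQ'⟩
    rw [if_neg hne, sub_zero] at this
    exact this
  have hexpN : WithZero.exp (-(N : ℤ)) ≤ 1 := by
    rw [← WithZero.exp_zero, WithZero.exp_le_exp]; omega
  have hzR : ∀ Q' : Place k K', IsOver Q' P → Q'.1 z ≤ 1 := by
    intro Q' hQ'
    by_cases h : Q' = Q
    · rw [h]
      have : z = (z - z₀) + z₀ := by ring
      rw [this]
      exact (Q.1.map_add _ _).trans (max_le (hzQ.trans hexpN) hz₀1)
    · exact (hzQ' Q' ((hQs Q').mpr hQ') h).trans hexpN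
  have hTr := hy z hzR
  have hkey := key_identity hK hK' hφ ⟨e, he⟩ hψ ht1 (w := y * z) (by
    intro Q' hQ' hne
    rw [map_mul]
    have h1 := hmQ Q'
    have h2 := hzQ' Q' ((hQs Q').mpr hQ') hne
    have h3 := hNQ Q' ((hQs Q').mpr hQ')
    calc Q'.1 y * Q'.1 z ≤ WithZero.exp (mQ Q' : ℤ) * WithZero.exp (-(N : ℤ)) := mul_le_mul' h1 h2
      _ ≤ 1 := by
        rw [← WithZero.exp_add, ← WithZero.exp_zero, WithZero.exp_le_exp]; omega)
  rw [locRes_eq_zero_of_le hφ hTr ht1] at hkey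
  apply hz₀3
  have e1 : ψ (y * z) * LocRes.D F' (ψ t') = ψ z₀ * ζ + ψ (z - z₀) * ζ := by
    rw [hζdef, hη, map_mul, map_sub]; ring
  have hsmall : Valued.v (ψ (z - z₀) * ζ) ≤ 1 := by
    rw [map_mul, hψ.1]
    calc Q.1 (z - z₀) * Valued.v ζ ≤ WithZero.exp (-(N : ℤ)) * WithZero.exp (m₁ : ℤ) :=
          mul_le_mul' hzQ hm₁
      _ ≤ 1 := by
        rw [← WithZero.exp_add, ← WithZero.exp_zero, WithZero.exp_le_exp]; omega
  have e2 : (ψ (z - z₀) * ζ).coeff (-1) = 0 := coeff_neg_iff_val.mpr hsmall (-1) (by norm_num)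
  unfold LocRes.locRes LocRes.resExp at hkey
  rw [LocRes.res_apply, e1, HahnSeries.coeff_add, e2, add_zero] at hkey
  exact hkey.symm

/-- Elements with `v_Q ≥ -d(Q|P)` integral at the other places over `P` lie in the dual of the
integral closure. -/
theorem dual_mem (hK : IsFunctionField k K) (hg : IsGeometric k K) (hK' : WeakFF k K')
    (P : Place k K) (Q : Place k K') (e : ℕ) (he : IsOverWith Q P e)
    (φ : K →ₐ[k] LaurentSeries F) (hφ : LocRes.IsExpansionAt P.1 φ)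
    (ψ : K' →ₐ[k] LaurentSeries F') (hψ : LocRes.IsExpansionAt Q.1 ψ)
    [FiniteDimensional k F] [FiniteDimensional k F']
    (x : K) (hx : LocRes.vDiff φ 1 x ≠ 0) (hx' : LocRes.vDiff ψ 1 (algebraMap K K' x) ≠ 0)
    (y : K') (hyQ : Q.1 y ≤ WithZero.exp (LocRes.diffExp φ ψ e x))
    (hy' : ∀ Q' : Place k K', IsOver Q' P → Q' ≠ Q → Q'.1 y ≤ 1)
    (z : K') (hz : ∀ Q' : Place k K', IsOver Q' P → Q'.1 z ≤ 1) :
    P.1 (Algebra.trace K K' (y * z)) ≤ 1 := by
  classical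
  haveI := isSeparable_coeffField hK hg hφ
  set d := LocRes.diffExp φ ψ e x with hd
  by_contra hcon
  rw [not_le] at hcon
  obtain ⟨t, ht⟩ := hφ.2.2
  have ht1 : P.1 t ≤ 1 := by
    rw [ht, ← WithZero.exp_zero, WithZero.exp_le_exp]; norm_num
  obtain ⟨hD1, hD2⟩ := val_D_uniformizer_above hK hg P Q e he φ hφ ψ hψ x hx hx' ht
  set a := Algebra.trace K K' (y * z) with ha
  set ζ₀ := φ a * LocRes.D F (φ t) with hζ₀
  have hζ : 1 < Valued.v ζ₀ := by
    rw [hζ₀, map_mul, hφ.1, hD1, mul_one]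
    exact hcon
  obtain ⟨g, hg1, hg2, hg3⟩ := exists_trace_ne_zero_of_one_lt hφ hζ
  apply hg3
  set g' : K' := algebraMap K K' g with hg'
  have hga : g * a = Algebra.trace K K' (y * (z * g')) := by
    rw [ha, ← smul_eq_mul, ← map_smul, Algebra.smul_def]
    congr 1
    ring
  have hg'Q : ∀ Q' : Place k K', IsOver Q' P → Q'.1 g' ≤ 1 := by
    rintro Q' ⟨e', he'⟩
    exact (isOverWith_val_le_one_iff he' g).mpr hg1
  have hkey := key_identity hK hK' hφ ⟨e, he⟩ hψ ht1 (w := y * (z * g')) (by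
    intro Q' hQ' hne
    rw [map_mul, map_mul]
    exact mul_le_one' (hy' Q' hQ' hne) (mul_le_one' (hz Q' hQ') (hg'Q Q' hQ')))
  have hzero : LocRes.locRes ψ (y * (z * g')) (algebraMap K K' t) = 0 := by
    apply locRes_eq_zero_of_val_le
    rw [map_mul, hD2, hψ.1, map_mul, map_mul]
    have h1 := hz Q ⟨e, he⟩
    have h2 := hg'Q Q ⟨e, he⟩
    calc Q.1 y * (Q.1 z * Q.1 g') * WithZero.exp (-d)
        ≤ WithZero.exp d * (1 * 1) * WithZero.exp (-d) :=
          mul_le_mul' (mul_le_mul' hyQ (mul_le_mul' h1 h2)) le_rfl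
      _ = 1 := by
        rw [mul_one, mul_one, ← WithZero.exp_add, add_neg_cancel, WithZero.exp_zero]
  rw [hzero, ← hga] at hkey
  unfold LocRes.locRes LocRes.resExp at hkey
  rw [LocRes.res_apply, map_mul, mul_assoc] at hkey
  exact hkey

end Groth.Agent.Lib.Helper27.Tate
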