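import Mathlib
import Groth.Prelude.Def_W4bk4goldsch23FF
import Groth.Prelude.Def_W4bk4goldsch23Ext
import Groth.Prelude.Def_LocRes
import Groth.Agent.Lib.Helper27.Tate21

/-! Dedekind's different theorem at a place of residue degree one: the packaged setup. -/

set_option autoImplicit false

namespace Groth.Agent.Lib.Helper27.Tate

open LinearMap LaurentSeries HahnSeries FunFld
open Groth.Agent.Lib.Helper27.FF

universe u v w

variable {k : Type u} {K K' : Type v} [Field k] [Field K] [Field K'] [Algebra k K]
  [Algebra K K'] [Algebra k K'] [IsScalarTower k K K']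
  {F F' : Type w} [Field F] [Algebra k F] [Field F'] [Algebra k F']

/-- Integrality over `O_P`, for any compatible algebra structure, is integrality at all the
places over `P`. -/
theorem isIntegral_iff_forall_over (hK : IsFunctionField k K) (hK' : WeakFF k K')
    [Algebra.IsAlgebraic K K'] (P : Place k K) [inst : Algebra P.O K'] [IsScalarTower P.O K K']
    (z : K') :
    IsIntegral P.O z ↔ ∀ Q : Place k K', IsOver Q P → Q.1 z ≤ 1 := by
  constructor
  · rintro hz Q ⟨e, he⟩
    refine val_le_one_of_isIntegral (R := P.O) Q.1 (fun r => ?_) hz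
    rw [IsScalarTower.algebraMap_apply P.O K K' r]
    exact (isOverWith_val_le_one_iff he _).mpr ((Valuation.mem_valuationSubring_iff _ _).mp r.2)
  · intro hz
    have h := isIntegral_of_forall_over hK hK' P hz
    have heq : algebraMap P.O K' = @algebraMap P.O K' _ _ (algOK' P) :=
      RingHom.ext (fun r => IsScalarTower.algebraMap_apply P.O K K' r)
    show (algebraMap P.O K').IsIntegralElem z
    rw [heq]
    exact h

/-- An element with prescribed order at one place of a finite set, integral at the others. -/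
theorem exists_val_eq_of_others_le {L : Type v} [Field L] [Algebra k L]
    (Qs : Finset (Place k L)) {Q : Place k L} (hQ : Q ∈ Qs) (d : ℤ) :
    ∃ y : L, Q.1 y = WithZero.exp d ∧ ∀ Q' ∈ Qs, Q' ≠ Q → Q'.1 y ≤ 1 := by
  classical
  obtain ⟨y₀, hy₀⟩ := Q.2.2 (WithZero.exp d)
  set N : ℕ := (-d).toNat + 1 with hN
  obtain ⟨y, hy⟩ := Groth.Agent.Lib.Helper23.FF.weak_approx (fun i : ↥Qs => i.1)
    Subtype.val_injective (fun i : ↥Qs => if i.1 = Q then y₀ else 0) N
  refine ⟨y, ?_, ?_⟩
  · have h1 := hy ⟨Q, hQ⟩
    simp only [if_true] at h1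
    have h2 : Q.1 (y - y₀) < Q.1 y₀ := by
      refine h1.trans_lt ?_
      rw [hy₀, WithZero.exp_lt_exp]
      omega
    have h3 : y = y₀ + (y - y₀) := by ring
    rw [h3, Valuation.map_add_eq_of_lt_left _ h2, hy₀]
  · intro Q' hQ' hne
    have h1 := hy ⟨Q', hQ'⟩
    simp only [if_neg hne, sub_zero] at h1
    refine h1.trans ?_
    rw [← WithZero.exp_zero, WithZero.exp_le_exp]
    omega

end Groth.Agent.Lib.Helper27.Tate
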