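import Mathlib
import Groth.Prelude.Def_W4bk4goldsch23FF
import Groth.Prelude.Def_W4bk4goldsch23Ext
import Groth.Prelude.Def_LocRes
import Groth.Agent.Lib.Helper27.Tate22

/-! Euler's dual basis: `g'(y) R^* ⊆ O_P[y]`. -/

set_option autoImplicit false

namespace Groth.Agent.Lib.Helper27.Tate

open LinearMap FunFld Polynomial
open Groth.Agent.Lib.Helper27.FF

universe u v w

variable {k : Type u} {K K' : Type v} [Field k] [Field K] [Field K'] [Algebra k K]
  [Algebra K K'] [Algebra k K'] [IsScalarTower k K K']

theorem aeval_derivative_minpoly_ne_zero [Algebra.IsSeparable K K'] (y : K') :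
    aeval y (derivative (minpoly K y)) ≠ 0 :=
  (Algebra.IsSeparable.isSeparable K y).aeval_derivative_ne_zero (minpoly.aeval K y)

/-- Euler: an element whose products with the powers of `y` have integral trace lies in
`g'(y)⁻¹ O_P[y]`. -/
theorem deriv_mul_mem_adjoin [FiniteDimensional K K'] [Algebra.IsSeparable K K']
    (P : Place k K) [Algebra P.O K'] [IsScalarTower P.O K K']
    (y : K') (hy : IntermediateField.adjoin K ({y} : Set K') = ⊤) (hyi : IsIntegral P.O y)
    (w : K') (hw : ∀ i : ℕ, P.1 (Algebra.trace K K' (w * y ^ i)) ≤ 1) :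
    aeval y (derivative (minpoly K y)) * w ∈ Algebra.adjoin P.O ({y} : Set K') := by
  classical
  have hyK : IsIntegral K y := Algebra.IsIntegral.isIntegral y
  have htop : Algebra.adjoin K ({y} : Set K') = ⊤ := by
    rw [← IntermediateField.adjoin_simple_toSubalgebra_of_isAlgebraic hyK.isAlgebraic, hy,
      IntermediateField.top_toSubalgebra]
  set pb : PowerBasis K K' := PowerBasis.ofAdjoinEqTop hyK htop with hpb
  have hgen : pb.gen = y := PowerBasis.ofAdjoinEqTop_gen hyK htop
  have hne := aeval_derivative_minpoly_ne_zero (K := K) y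
  have hsum : w = ∑ i, (pb.basis.traceDual.repr w i) • pb.basis.traceDual i :=
    (pb.basis.traceDual.sum_repr w).symm
  have hcoef : ∀ i, (minpolyDiv K y).coeff i ∈ Algebra.adjoin P.O ({y} : Set K') := by
    intro i
    rw [← minpolyDiv_eq_of_isIntegrallyClosed (K := K) hyi]
    exact coeff_minpolyDiv_mem_adjoin y i
  have hterm : ∀ i : Fin pb.dim, aeval y (derivative (minpoly K y)) *
      ((pb.basis.traceDual.repr w i) • pb.basis.traceDual i) ∈
        Algebra.adjoin P.O ({y} : Set K') := by
    intro i
    rw [Module.Basis.traceDual_repr_apply, Module.Basis.traceDual_powerBasis_eq, hgen,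
      Algebra.traceForm_apply, PowerBasis.coe_basis, hgen, Algebra.smul_def,
      mul_div_assoc', mul_div_assoc', mul_comm, mul_div_assoc, div_self hne, mul_one]
    have h1 := hw i
    have h2 : algebraMap K K' (Algebra.trace K K' (w * y ^ (i : ℕ))) =
        algebraMap P.O K' ⟨_, (Valuation.mem_valuationSubring_iff _ _).mpr h1⟩ :=
      (IsScalarTower.algebraMap_apply P.O K K'
        ⟨_, (Valuation.mem_valuationSubring_iff _ _).mpr h1⟩).symm
    rw [h2]
    exact mul_mem (Subalgebra.algebraMap_mem _ _) (hcoef i)
  rw [hsum, Finset.mul_sum]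
  exact sum_mem (fun i _ => hterm i)

end Groth.Agent.Lib.Helper27.Tate
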