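import Mathlib
import Groth.Prelude.Def_W4bk4goldsch23FF
import Groth.Prelude.Def_W4bk4goldsch23Ext
import Groth.Prelude.Def_LocRes
import Groth.Agent.Lib.Helper27.Tate23

/-! The ring `O_P[s]` for a local parameter `s` at a place `Q` of residue degree one over `P`
which is a unit at the other places over `P`: it is `Q`-adically dense in `O_Q` with control at
the other places. -/

set_option autoImplicit false

namespace Groth.Agent.Lib.Helper27.Tate

open LinearMap FunFld Polynomial
open Groth.Agent.Lib.Helper27.FF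

universe u v w

variable {k : Type u} {K K' : Type v} [Field k] [Field K] [Field K'] [Algebra k K]
  [Algebra K K'] [Algebra k K'] [IsScalarTower k K K']

section

variable (P : Place k K)

/-- `aeval` with respect to `algOK'`, written out. -/
theorem aevalOK_eq_sum (s : K') (h : (P.O)[X]) :
    letI := algOK' (K' := K') P
    aeval s h = ∑ i ∈ Finset.range (h.natDegree + 1), algebraMap K K' (h.coeff i : K) * s ^ i := by
  letI := algOK' (K' := K') P
  rw [aeval_eq_sum_range]
  refine Finset.sum_congr rfl (fun i _ => ?_)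
  rw [Algebra.smul_def]
  rfl

theorem val_aevalOK_le_one {Q' : Place k K'} (hQ' : IsOver Q' P) {s : K'} (hs : Q'.1 s ≤ 1)
    (h : (P.O)[X]) :
    letI := algOK' (K' := K') P
    Q'.1 (aeval s h) ≤ 1 := by
  letI := algOK' (K' := K') P
  obtain ⟨e', he'⟩ := hQ'
  rw [aevalOK_eq_sum]
  apply Q'.1.map_sum_le
  intro i _
  rw [map_mul, map_pow]
  have h1 : Q'.1 (algebraMap K K' (h.coeff i : K)) ≤ 1 :=
    (isOverWith_val_le_one_iff he' _).mpr ((Valuation.mem_valuationSubring_iff _ _).mp (h.coeff i).2)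
  exact mul_le_one' h1 (pow_le_one' hs i)

theorem val_aevalOK_lt_one {Q' : Place k K'} (hQ' : IsOver Q' P) {s : K'} (hs : Q'.1 s ≤ 1)
    (h : (P.O)[X]) (hh : ∀ i, P.1 (h.coeff i : K) < 1) :
    letI := algOK' (K' := K') P
    Q'.1 (aeval s h) < 1 := by
  letI := algOK' (K' := K') P
  obtain ⟨e', he'⟩ := hQ'
  rw [aevalOK_eq_sum]
  apply Q'.1.map_sum_lt one_ne_zero
  intro i _
  rw [map_mul, map_pow]
  have h1 : Q'.1 (algebraMap K K' (h.coeff i : K)) < 1 :=
    (isOverWith_val_lt_one_iff he' _).mpr (hh i)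
  calc Q'.1 (algebraMap K K' (h.coeff i : K)) * Q'.1 s ^ i
      ≤ Q'.1 (algebraMap K K' (h.coeff i : K)) * 1 := mul_le_mul' le_rfl (pow_le_one' hs i)
    _ = Q'.1 (algebraMap K K' (h.coeff i : K)) := mul_one _
    _ < 1 := h1

theorem val_lt_one_of_residue_eq_zero {a : P.O} (ha : IsLocalRing.residue P.O a = 0) :
    P.1 (a : K) < 1 := by
  rw [IsLocalRing.residue_eq_zero_iff] at ha
  have h1 := (ValuationSubring.valuation_lt_one_iff P.O _).mp ha
  exact (Valuation.isEquiv_iff_val_lt_one.mp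
    (Valuation.isEquiv_valuation_valuationSubring P.1)).mpr h1

theorem val_eq_one_of_residue_ne_zero {a : P.O} (ha : IsLocalRing.residue P.O a ≠ 0) :
    P.1 (a : K) = 1 := by
  have h1 : P.1 (a : K) ≤ 1 := (Valuation.mem_valuationSubring_iff _ _).mp a.2
  rcases h1.lt_or_eq with h | h
  · exfalso
    apply ha
    rw [IsLocalRing.residue_eq_zero_iff]
    have h2 := (Valuation.isEquiv_iff_val_lt_one.mp
      (Valuation.isEquiv_valuation_valuationSubring P.1)).mp h
    exact (ValuationSubring.valuation_lt_one_iff P.O _).mpr h2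
  · exact h

/-- An element of `O_P[s]` which is a unit at `Q` and lies in the maximal ideals of the other
places over `P`. -/
theorem exists_aevalOK_unit_at (hK : IsFunctionField k K) (hK' : WeakFF k K')
    [Algebra.IsAlgebraic K K'] {Q : Place k K'} (hQP : IsOver Q P) {s : K'}
    (hs : Q.1 s < 1) (hs' : ∀ Q' : Place k K', IsOver Q' P → Q' ≠ Q → Q'.1 s = 1) :
    letI := algOK' (K' := K') P
    ∃ g : (P.O)[X], Q.1 (aeval s g) = 1 ∧
      ∀ Q' : Place k K', IsOver Q' P → Q' ≠ Q → Q'.1 (aeval s g) < 1 := by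
  classical
  letI := algOK' (K' := K') P
  have hsR : ∀ Q' : Place k K', IsOver Q' P → Q'.1 s ≤ 1 := by
    intro Q' hQ'
    by_cases h : Q' = Q
    · rw [h]; exact hs.le
    · exact (hs' Q' hQ' h).le
  have hsi : IsIntegral P.O s := isIntegral_of_forall_over hK hK' P hsR
  set p := minpoly P.O s with hp
  have hpm : p.Monic := minpoly.monic hsi
  set pbar := p.map (IsLocalRing.residue P.O) with hpbar
  have hpbar0 : pbar ≠ 0 := (hpm.map _).ne_zero
  obtain ⟨qbar, hq1, hq2⟩ := exists_eq_pow_rootMultiplicity_mul_and_not_dvd pbar hpbar0 0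
  rw [map_zero, sub_zero] at hq1 hq2
  set j := rootMultiplicity 0 pbar with hj
  obtain ⟨g, hg⟩ := Polynomial.map_surjective (IsLocalRing.residue P.O)
    IsLocalRing.residue_surjective qbar
  set h := p - X ^ j * g with hh
  have hhmap : h.map (IsLocalRing.residue P.O) = 0 := by
    rw [hh, Polynomial.map_sub, Polynomial.map_mul, Polynomial.map_pow, Polynomial.map_X, hg,
      ← hq1, sub_self]
  have hhc : ∀ i, P.1 (h.coeff i : K) < 1 := by
    intro i
    apply val_lt_one_of_residue_eq_zero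
    rw [← Polynomial.coeff_map, hhmap, Polynomial.coeff_zero]
  have hev : aeval s h = -(s ^ j * aeval s g) := by
    rw [hh, map_sub, hp, minpoly.aeval, zero_sub, map_mul, map_pow, aeval_X]
  have hlt : ∀ Q' : Place k K', IsOver Q' P → Q'.1 (s ^ j * aeval s g) < 1 := by
    intro Q' hQ'
    have := val_aevalOK_lt_one P hQ' (hsR Q' hQ') h hhc
    rwa [hev, Valuation.map_neg] at this
  refine ⟨g, ?_, ?_⟩
  · have hg0 : IsLocalRing.residue P.O (g.coeff 0) ≠ 0 := by
      rw [← Polynomial.coeff_map, hg]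
      intro h0
      exact hq2 (Polynomial.X_dvd_iff.mpr h0)
    have h1 : P.1 (g.coeff 0 : K) = 1 := val_eq_one_of_residue_ne_zero P hg0
    obtain ⟨e, he⟩ := hQP
    have h2 : Q.1 (algebraMap K K' (g.coeff 0 : K)) = 1 := by
      rw [he, h1, one_pow]
    have h3 : g = g.divX * X + C (g.coeff 0) := (Polynomial.divX_mul_X_add g).symm
    have h4 : aeval s g = algebraMap K K' (g.coeff 0 : K) + aeval s g.divX * s := by
      conv_lhs => rw [h3]
      rw [map_add, map_mul, aeval_X, aeval_C, add_comm]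
      rfl
    have h5 : Q.1 (aeval s g.divX * s) < Q.1 (algebraMap K K' (g.coeff 0 : K)) := by
      rw [h2, map_mul]
      calc Q.1 (aeval s g.divX) * Q.1 s ≤ 1 * Q.1 s :=
            mul_le_mul' (val_aevalOK_le_one P ⟨e, he⟩ hs.le _) le_rfl
        _ = Q.1 s := one_mul _
        _ < 1 := hs
    rw [h4, Valuation.map_add_eq_of_lt_left _ h5, h2]
  · intro Q' hQ' hne
    have := hlt Q' hQ'
    rwa [map_mul, map_pow, hs' Q' hQ' hne, one_pow, one_mul] at this

/-- `O_P[s]` is `Q`-adically dense in `O_Q`. -/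
theorem exists_aevalOK_approx {Q : Place k K'} {s : K'} (hs : Q.1 s = WithZero.exp (-1))
    (hrd : ∀ z' : K', Q.1 z' ≤ 1 → ∃ z : K, P.1 z ≤ 1 ∧ Q.1 (z' - algebraMap K K' z) < 1)
    (N : ℕ) {z₀ : K'} (hz₀ : Q.1 z₀ ≤ 1) :
    letI := algOK' (K' := K') P
    ∃ h : (P.O)[X], Q.1 (aeval s h - z₀) ≤ WithZero.exp (-(N : ℤ)) := by
  letI := algOK' (K' := K') P
  have hs0 : s ≠ 0 := by
    rintro rfl
    rw [map_zero] at hs
    exact WithZero.exp_ne_zero hs.symm
  induction N with
  | zero =>
    refine ⟨0, ?_⟩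
    rw [map_zero, zero_sub, Valuation.map_neg, Nat.cast_zero, neg_zero, WithZero.exp_zero]
    exact hz₀
  | succ N ih =>
    obtain ⟨h, hh⟩ := ih
    set u := (z₀ - aeval s h) / s ^ N with hu
    have hu1 : Q.1 u ≤ 1 := by
      rw [hu, map_div₀, map_pow, hs, ← WithZero.exp_nsmul, Valuation.map_sub_swap]
      rw [div_le_iff₀ WithZero.exp_pos, one_mul]
      refine hh.trans_eq ?_
      congr 1
      simp
    obtain ⟨b, hb1, hb2⟩ := hrd u hu1
    refine ⟨h + C ⟨b, (Valuation.mem_valuationSubring_iff _ _).mpr hb1⟩ * X ^ N, ?_⟩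
    have e1 : aeval s (h + C (⟨b, (Valuation.mem_valuationSubring_iff _ _).mpr hb1⟩ : P.O) * X ^ N)
        - z₀ = -(s ^ N * (u - algebraMap K K' b)) := by
      rw [map_add, map_mul, map_pow, aeval_X, aeval_C, hu]
      have : algebraMap P.O K' ⟨b, (Valuation.mem_valuationSubring_iff _ _).mpr hb1⟩ =
          algebraMap K K' b := rfl
      rw [this]
      field_simp
      ring
    rw [e1, Valuation.map_neg, map_mul, map_pow, hs, ← WithZero.exp_nsmul]
    have h3 := Groth.Agent.Lib.Helper23.FF.le_exp_neg_one_of_lt_one hb2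
    calc WithZero.exp (N • (-1 : ℤ)) * Q.1 (u - algebraMap K K' b)
        ≤ WithZero.exp (N • (-1 : ℤ)) * WithZero.exp (-1) := mul_le_mul' le_rfl h3
      _ = WithZero.exp (-((N + 1 : ℕ) : ℤ)) := by
        rw [← WithZero.exp_add]
        congr 1
        simp
        ring

end

end Groth.Agent.Lib.Helper27.Tate
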