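import Mathlib
import Groth.Prelude.Def_W4bk4goldsch23FF
import Groth.Prelude.Def_W4bk4goldsch23Ext
import Groth.Prelude.Def_LocRes
import Groth.Agent.Lib.Helper27.Tate24

/-! The different exponent at a place of residue degree one, via a local parameter which is a
unit at the other places. -/

set_option autoImplicit false

namespace Groth.Agent.Lib.Helper27.Tate

open LinearMap LaurentSeries HahnSeries FunFld Polynomial
open Groth.Agent.Lib.Helper27.FF

universe u v w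

variable {k : Type u} {K K' : Type v} [Field k] [Field K] [Field K'] [Algebra k K]
  [Algebra K K'] [Algebra k K'] [IsScalarTower k K K']
  {F F' : Type w} [Field F] [Algebra k F] [Field F'] [Algebra k F']

/-- `O_P[s]` is `Q`-adically dense in `O_Q`, with control at the other places over `P`. -/
theorem exists_aevalOK_approx_full (hK : IsFunctionField k K) (hK' : WeakFF k K')
    [Algebra.IsAlgebraic K K'] (P : Place k K) {Q : Place k K'} (hQP : IsOver Q P) {s : K'}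
    (hs : Q.1 s = WithZero.exp (-1))
    (hs' : ∀ Q' : Place k K', IsOver Q' P → Q' ≠ Q → Q'.1 s = 1)
    (hrd : ∀ z' : K', Q.1 z' ≤ 1 → ∃ z : K, P.1 z ≤ 1 ∧ Q.1 (z' - algebraMap K K' z) < 1)
    (N : ℕ) {z₀ : K'} (hz₀ : Q.1 z₀ ≤ 1) :
    letI := algOK' (K' := K') P
    ∃ h : (P.O)[X], Q.1 (aeval s h - z₀) ≤ WithZero.exp (-(N : ℤ)) ∧
      ∀ Q' : Place k K', IsOver Q' P → Q' ≠ Q → Q'.1 (aeval s h) ≤ WithZero.exp (-(N : ℤ)) := by
  letI := algOK' (K' := K') P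
  have hslt : Q.1 s < 1 := by
    rw [hs, ← WithZero.exp_zero, WithZero.exp_lt_exp]; norm_num
  obtain ⟨g, hg1, hg2⟩ := exists_aevalOK_unit_at P hK hK' hQP hslt hs'
  set c := aeval s g with hc
  have hc0 : c ≠ 0 := by
    intro h0
    rw [h0, map_zero] at hg1
    exact zero_ne_one hg1
  have hz₀' : Q.1 (z₀ / c ^ N) ≤ 1 := by
    rw [map_div₀, map_pow, hg1, one_pow, div_one]
    exact hz₀
  obtain ⟨h₁, hh₁⟩ := exists_aevalOK_approx P hs hrd N hz₀'
  refine ⟨h₁ * g ^ N, ?_, ?_⟩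
  · have e1 : aeval s (h₁ * g ^ N) - z₀ = c ^ N * (aeval s h₁ - z₀ / c ^ N) := by
      rw [map_mul, map_pow, ← hc]
      field_simp
    rw [e1, map_mul, map_pow, hg1, one_pow, one_mul]
    exact hh₁
  · intro Q' hQ' hne
    rw [map_mul, map_pow, ← hc, map_mul, map_pow]
    have h1 : Q'.1 (aeval s h₁) ≤ 1 := val_aevalOK_le_one P hQ' (hs' Q' hQ' hne).le h₁
    have h2 := Groth.Agent.Lib.Helper23.FF.le_exp_neg_one_of_lt_one (hg2 Q' hQ' hne)
    calc Q'.1 (aeval s h₁) * Q'.1 c ^ N ≤ 1 * WithZero.exp (-1) ^ N :=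
          mul_le_mul' h1 (pow_le_pow_left' h2 N)
      _ = WithZero.exp (-(N : ℤ)) := by
        rw [one_mul, ← WithZero.exp_nsmul]
        congr 1
        simp

variable [FiniteDimensional K K'] [Algebra.IsSeparable K K']

/-- Elements of the dual of a set `A`, which is `Q`-adically dense in `O_Q` with control at the
other places over `P`, have `v_Q ≥ -d(Q|P)`. -/
theorem dual_le_of_approx (hK : IsFunctionField k K) (hg : IsGeometric k K) (hK' : WeakFF k K')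
    (P : Place k K) (Q : Place k K') (e : ℕ) (he : IsOverWith Q P e)
    (φ : K →ₐ[k] LaurentSeries F) (hφ : LocRes.IsExpansionAt P.1 φ)
    (ψ : K' →ₐ[k] LaurentSeries F') (hψ : LocRes.IsExpansionAt Q.1 ψ)
    [FiniteDimensional k F] [FiniteDimensional k F'] [Algebra.IsSeparable k F']
    (x : K) (hx : LocRes.vDiff φ 1 x ≠ 0) (hx' : LocRes.vDiff ψ 1 (algebraMap K K' x) ≠ 0)
    (A : Set K')
    (hA : ∀ z₀ : K', Q.1 z₀ ≤ 1 → ∀ N : ℕ, ∃ z ∈ A, Q.1 (z - z₀) ≤ WithZero.exp (-(N : ℤ)) ∧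
      ∀ Q' : Place k K', IsOver Q' P → Q' ≠ Q → Q'.1 z ≤ WithZero.exp (-(N : ℤ)))
    (y : K')
    (hy : ∀ z ∈ A, P.1 (Algebra.trace K K' (y * z)) ≤ 1) :
    Q.1 y ≤ WithZero.exp (LocRes.diffExp φ ψ e x) := by
  classical
  set d := LocRes.diffExp φ ψ e x with hd
  by_contra hcon
  rw [not_le] at hcon
  obtain ⟨t, ht⟩ := hφ.2.2
  have ht1 : P.1 t ≤ 1 := by
    rw [ht, ← WithZero.exp_zero, WithZero.exp_le_exp]; norm_num
  obtain ⟨hD1, hD2⟩ := val_D_uniformizer_above hK hg P Q e he φ hφ ψ hψ x hx hx' ht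
  set t' : K' := algebraMap K K' t with ht'
  set η := LocRes.D F' (ψ t') with hη
  set ζ := ψ y * η with hζdef
  have hζv : Valued.v ζ = Q.1 y * WithZero.exp (-d) := by
    rw [hζdef, map_mul, hψ.1, hD2]
  have hζ : 1 < Valued.v ζ := by
    rw [hζv]
    calc (1 : WithZero (Multiplicative ℤ)) = WithZero.exp d * WithZero.exp (-d) := by
          rw [← WithZero.exp_add, add_neg_cancel, WithZero.exp_zero]
      _ < Q.1 y * WithZero.exp (-d) := mul_lt_mul_of_pos_right hcon WithZero.exp_pos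
  obtain ⟨z₀, hz₀1, hz₀2, hz₀3⟩ := exists_trace_ne_zero_of_one_lt hψ hζ
  -- the places over `P`
  obtain ⟨hfin, -⟩ := FF.sum_ramIdx_mul_deg (K' := K') hK P
  set Qs : Finset (Place k K') := hfin.toFinset with hQsdef
  have hQs : ∀ Q', Q' ∈ Qs ↔ IsOver Q' P := fun Q' => hfin.mem_toFinset
  have hQQs : Q ∈ Qs := (hQs Q).mpr ⟨e, he⟩
  -- the precision
  obtain ⟨m₁, hm₁⟩ := Groth.Agent.Lib.Helper23.FF.exists_nat_le_exp (Valued.v ζ)
  choose mQ hmQ using fun Q' : Place k K' => Groth.Agent.Lib.Helper23.FF.exists_nat_le_exp (Q'.1 y)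
  set N : ℕ := m₁ + ∑ Q' ∈ Qs, mQ Q' with hN
  have hNQ : ∀ Q' ∈ Qs, mQ Q' ≤ N := by
    intro Q' hQ'
    have := Finset.single_le_sum (f := mQ) (fun i _ => Nat.zero_le _) hQ'
    omega
  obtain ⟨z, hzA, hzQ, hzQ'0⟩ := hA z₀ hz₀1 N
  have hzQ' : ∀ Q' ∈ Qs, Q' ≠ Q → Q'.1 z ≤ WithZero.exp (-(N : ℤ)) :=
    fun Q' hQ' hne => hzQ'0 Q' ((hQs Q').mp hQ') hne
  have hTr := hy z hzA
  have hkey := key_identity hK hK' hφ ⟨e, he⟩ hψ ht1 (w := y * z) (by
    intro Q' hQ' hne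
    rw [map_mul]
    have h1 := hmQ Q'
    have h2 := hzQ' Q' ((hQs Q').mpr hQ') hne
    have h3 := hNQ Q' ((hQs Q').mpr hQ')
    calc Q'.1 y * Q'.1 z ≤ WithZero.exp (mQ Q' : ℤ) * WithZero.exp (-(N : ℤ)) := mul_le_mul' h1 h2
      _ ≤ 1 := by
        rw [← WithZero.exp_add, ← WithZero.exp_zero, WithZero.exp_le_exp]; omega)
  rw [locRes_eq_zero_of_le hφ hTr ht1] at hkey
  apply hz₀3
  have e1 : ψ (y * z) * LocRes.D F' (ψ t') = ψ z₀ * ζ + ψ (z - z₀) * ζ := by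
    rw [hζdef, hη, map_mul, map_sub]; ring
  have hsmall : Valued.v (ψ (z - z₀) * ζ) ≤ 1 := by
    rw [map_mul, hψ.1]
    calc Q.1 (z - z₀) * Valued.v ζ ≤ WithZero.exp (-(N : ℤ)) * WithZero.exp (m₁ : ℤ) :=
          mul_le_mul' hzQ hm₁
      _ ≤ 1 := by
        rw [← WithZero.exp_add, ← WithZero.exp_zero, WithZero.exp_le_exp]; omega
  have e2 : (ψ (z - z₀) * ζ).coeff (-1) = 0 := coeff_neg_iff_val.mpr hsmall (-1) (by norm_num)
  unfold LocRes.locRes LocRes.resExp at hkey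
  rw [LocRes.res_apply, e1, HahnSeries.coeff_add, e2, add_zero] at hkey
  exact hkey.symm


end Groth.Agent.Lib.Helper27.Tate
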