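import Mathlib
import Groth.Prelude.Def_W4bk4goldsch23FF
import Groth.Prelude.Def_W4bk4goldsch23Ext
import Groth.Prelude.Def_LocRes
import Groth.Agent.Lib.Helper27.Tate25

/-! The different exponent at a place of residue degree one, via a local parameter which is a
unit at the other places: `K' = K(s)` and `v_Q(f'(s)) ≤ d(Q|P)`. -/

set_option autoImplicit false

namespace Groth.Agent.Lib.Helper27.Tate

open LinearMap LaurentSeries HahnSeries FunFld Polynomial
open Groth.Agent.Lib.Helper27.FF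

universe u v w

variable {k : Type u} {K K' : Type v} [Field k] [Field K] [Field K'] [Algebra k K]
  [Algebra K K'] [Algebra k K'] [IsScalarTower k K K']
  {F F' : Type w} [Field F] [Algebra k F] [Field F'] [Algebra k F']

theorem aevalOK_mem_adjoin (P : Place k K) (s : K') (h : (P.O)[X]) :
    letI := algOK' (K' := K') P
    aeval s h ∈ IntermediateField.adjoin K ({s} : Set K') := by
  letI := algOK' (K' := K') P
  rw [aevalOK_eq_sum]
  refine sum_mem (fun i _ => mul_mem (IntermediateField.algebraMap_mem _ _)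
    (pow_mem (IntermediateField.mem_adjoin_simple_self K s) i))

variable [FiniteDimensional K K'] [Algebra.IsSeparable K K']

section

variable (hK : IsFunctionField k K) (hg : IsGeometric k K) (hK' : WeakFF k K')
    (P : Place k K) (Q : Place k K') (e : ℕ) (he : IsOverWith Q P e)
    (φ : K →ₐ[k] LaurentSeries F) (hφ : LocRes.IsExpansionAt P.1 φ)
    (ψ : K' →ₐ[k] LaurentSeries F') (hψ : LocRes.IsExpansionAt Q.1 ψ)
    [FiniteDimensional k F] [FiniteDimensional k F'] [Algebra.IsSeparable k F']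
    (x : K) (hx : LocRes.vDiff φ 1 x ≠ 0) (hx' : LocRes.vDiff ψ 1 (algebraMap K K' x) ≠ 0)
    (hrd : ∀ z' : K', Q.1 z' ≤ 1 → ∃ z : K, P.1 z ≤ 1 ∧ Q.1 (z' - algebraMap K K' z) < 1)
    (s : K') (hs : Q.1 s = WithZero.exp (-1))
    (hs' : ∀ Q' : Place k K', IsOver Q' P → Q' ≠ Q → Q'.1 s = 1)

include hK hg hK' he hφ hψ hx hx' hrd hs hs'

/-- Elements of the dual of `O_P[s]` have `v_Q ≥ -d(Q|P)`. -/
theorem dual_adjoin_le (y : K')
    (hy : letI := algOK' (K' := K') P
      ∀ h : (P.O)[X], P.1 (Algebra.trace K K' (y * aeval s h)) ≤ 1) :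
    Q.1 y ≤ WithZero.exp (LocRes.diffExp φ ψ e x) := by
  letI := algOK' (K' := K') P
  refine dual_le_of_approx hK hg hK' P Q e he φ hφ ψ hψ x hx hx'
    (Set.range (aeval s : (P.O)[X] → K')) ?_ y ?_
  · intro z₀ hz₀ N
    obtain ⟨h, hh1, hh2⟩ := exists_aevalOK_approx_full hK hK' P ⟨e, he⟩ hs hs' hrd N hz₀
    exact ⟨aeval s h, ⟨h, rfl⟩, hh1, hh2⟩
  · rintro _ ⟨h, rfl⟩
    exact hy h

theorem adjoin_eq_top_of_uniformizer :
    IntermediateField.adjoin K ({s} : Set K') = ⊤ := by
  classical
  letI := algOK' (K' := K') P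
  by_contra hne
  set L := IntermediateField.adjoin K ({s} : Set K') with hL
  set W : Submodule K K' := Subalgebra.toSubmodule L.toSubalgebra with hW
  have hmemW : ∀ z, z ∈ W ↔ z ∈ L := fun z => Iff.rfl
  have hWlt : W < ⊤ := by
    rw [lt_top_iff_ne_top]
    intro htop
    apply hne
    rw [eq_top_iff]
    intro z _
    rw [← hmemW, htop]
    exact Submodule.mem_top
  have hB := traceForm_nondegenerate K K'
  have h1 := LinearMap.BilinForm.finrank_orthogonal hB W
  have h2 := Submodule.finrank_lt hWlt.ne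
  have h3 : 0 < Module.finrank K ↥((Algebra.traceForm K K').orthogonal W) := by omega
  obtain ⟨⟨y, hyW⟩, hy0⟩ := Module.finrank_pos_iff_exists_ne_zero.mp h3
  have hy0' : y ≠ 0 := fun h => hy0 (Subtype.ext h)
  rw [LinearMap.BilinForm.mem_orthogonal_iff] at hyW
  have hs0 : s ≠ 0 := by
    rintro rfl
    rw [map_zero] at hs
    exact WithZero.exp_ne_zero hs.symm
  have hQy0 : Q.1 y ≠ 0 := by rwa [ne_eq, map_eq_zero]
  set d := LocRes.diffExp φ ψ e x with hd
  set m := WithZero.log (Q.1 y) with hm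
  set M : ℕ := (d - m).toNat + 1 with hM
  have hbound := dual_adjoin_le hK hg hK' P Q e he φ hφ ψ hψ x hx hx' hrd s hs hs'
    (y * s⁻¹ ^ M) (by
      intro h
      have hn : s⁻¹ ^ M * aeval s h ∈ W := by
        rw [hmemW]
        exact mul_mem (pow_mem (inv_mem (IntermediateField.mem_adjoin_simple_self K s)) M)
          (aevalOK_mem_adjoin P s h)
      have h4 := hyW _ hn
      have h5 : Algebra.trace K K' (s⁻¹ ^ M * aeval s h * y) = 0 := h4
      have h6 : y * s⁻¹ ^ M * aeval s h = s⁻¹ ^ M * aeval s h * y := by ring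
      rw [h6, h5, map_zero]
      exact zero_le)
  rw [map_mul, map_pow, map_inv₀, hs, ← WithZero.exp_neg, neg_neg, ← WithZero.exp_nsmul,
    ← WithZero.exp_log hQy0, ← WithZero.exp_add, WithZero.exp_le_exp, ← hm] at hbound
  simp only [nsmul_eq_mul, mul_one] at hbound
  omega

/-- `v_Q(f'(s)) ≤ d(Q|P)`. -/
theorem val_inv_derivative_le :
    Q.1 (aeval s (derivative (minpoly K s)))⁻¹ ≤ WithZero.exp (LocRes.diffExp φ ψ e x) := by
  classical
  letI := algOK' (K' := K') P
  haveI : IsScalarTower P.O K K' := IsScalarTower.of_algebraMap_eq (fun _ => rfl)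
  have htopI := adjoin_eq_top_of_uniformizer hK hg hK' P Q e he φ hφ ψ hψ x hx hx' hrd s hs hs'
  have hsK : IsIntegral K s := Algebra.IsIntegral.isIntegral s
  have htop : Algebra.adjoin K ({s} : Set K') = ⊤ := by
    rw [← IntermediateField.adjoin_simple_toSubalgebra_of_isAlgebraic hsK.isAlgebraic, htopI,
      IntermediateField.top_toSubalgebra]
  have hsR : ∀ Q' : Place k K', IsOver Q' P → Q'.1 s ≤ 1 := by
    intro Q' hQ'
    by_cases h : Q' = Q
    · rw [h, hs, ← WithZero.exp_zero, WithZero.exp_le_exp]; norm_num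
    · exact (hs' Q' hQ' h).le
  have hsi : IsIntegral P.O s := isIntegral_of_forall_over hK hK' P hsR
  have hdual := traceForm_dualSubmodule_adjoin P.O K htop hsi
  apply dual_adjoin_le hK hg hK' P Q e he φ hφ ψ hψ x hx hx' hrd s hs hs'
  intro h
  have hmem : (aeval s (derivative (minpoly K s)))⁻¹ ∈
      (Algebra.traceForm K K').dualSubmodule
        (Subalgebra.toSubmodule (Algebra.adjoin P.O ({s} : Set K'))) := by
    rw [hdual, Submodule.mem_smul_pointwise_iff_exists]
    exact ⟨1, (Subalgebra.mem_toSubmodule _).mpr (one_mem _), by rw [smul_eq_mul, mul_one]⟩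
  rw [LinearMap.BilinForm.mem_dualSubmodule] at hmem
  have hz : aeval s h ∈ Subalgebra.toSubmodule (Algebra.adjoin P.O ({s} : Set K')) := by
    rw [Subalgebra.mem_toSubmodule, Algebra.adjoin_singleton_eq_range_aeval]
    exact ⟨h, rfl⟩
  obtain ⟨r, hr⟩ := Submodule.mem_one.mp (hmem _ hz)
  rw [Algebra.traceForm_apply] at hr
  rw [← hr]
  exact (Valuation.mem_valuationSubring_iff _ _).mp r.2

end

end Groth.Agent.Lib.Helper27.Tate
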