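import Mathlib
import Groth.Prelude.Def_W4bk4goldsch23FF
import Groth.Prelude.Def_W4bk4goldsch23Ext
import Groth.Prelude.Def_LocRes
import Groth.Agent.Lib.Helper27.Tate26

/-! Library forms: `d(Q|P) ≤ v_Q(g'(y))` with the localisation statement in the case of equality,
and the converse bound from an approximation property of `O_P[y]`. -/

set_option autoImplicit false

namespace Groth.Agent.Lib.Helper27.Tate

open LinearMap LaurentSeries HahnSeries FunFld Polynomial
open Groth.Agent.Lib.Helper27.FF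

universe u v w

variable {k : Type u} {K K' : Type v} [Field k] [Field K] [Field K'] [Algebra k K]
  [Algebra K K'] [Algebra k K'] [IsScalarTower k K K']
  {F F' : Type w} [Field F] [Algebra k F] [Field F'] [Algebra k F']

variable [FiniteDimensional K K'] [Algebra.IsSeparable K K']

/-- S12575 in library form. -/
theorem diffExp_le_ord_derivative (hK : IsFunctionField k K) (hg : IsGeometric k K)
    (hK' : WeakFF k K')
    (P : Place k K) (Q : Place k K') (e : ℕ) (he : IsOverWith Q P e)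
    (φ : K →ₐ[k] LaurentSeries F) (hφ : LocRes.IsExpansionAt P.1 φ)
    (ψ : K' →ₐ[k] LaurentSeries F') (hψ : LocRes.IsExpansionAt Q.1 ψ)
    [FiniteDimensional k F] [FiniteDimensional k F']
    (x : K) (hx : LocRes.vDiff φ 1 x ≠ 0) (hx' : LocRes.vDiff ψ 1 (algebraMap K K' x) ≠ 0)
    [Algebra P.O K'] [IsScalarTower P.O K K']
    (y : K') (hy : IntermediateField.adjoin K ({y} : Set K') = ⊤) (hyi : IsIntegral P.O y) :
    LocRes.diffExp φ ψ e x ≤ Q.ord (Polynomial.aeval y (Polynomial.derivative (minpoly K y))) ∧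
    (Q.ord (Polynomial.aeval y (Polynomial.derivative (minpoly K y))) = LocRes.diffExp φ ψ e x →
      ∀ z : K', Q.1 z ≤ 1 → ∃ a ∈ Algebra.adjoin P.O ({y} : Set K'),
        ∃ b ∈ Algebra.adjoin P.O ({y} : Set K'), Q.1 b = 1 ∧ z * b = a) := by
  classical
  have hint : ∀ z : K', IsIntegral P.O z ↔ ∀ Q' : FunFld.Place k K', FunFld.IsOver Q' P → Q'.1 z ≤ 1 :=
    isIntegral_iff_forall_over hK hK' P
  obtain ⟨hfin, -⟩ := FF.sum_ramIdx_mul_deg (K' := K') hK P
  set Qs : Finset (FunFld.Place k K') := hfin.toFinset with hQsdef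
  have hQs : ∀ Q', Q' ∈ Qs ↔ FunFld.IsOver Q' P := fun Q' => hfin.mem_toFinset
  have hQQs : Q ∈ Qs := (hQs Q).mpr ⟨e, he⟩
  set d := LocRes.diffExp φ ψ e x with hd
  set G := Polynomial.aeval y (Polynomial.derivative (minpoly K y)) with hG
  have hG0 : G ≠ 0 := aeval_derivative_minpoly_ne_zero y
  have hQG0 : Q.1 G ≠ 0 := by rwa [ne_eq, map_eq_zero]
  have hyR : ∀ Q' : FunFld.Place k K', FunFld.IsOver Q' P → Q'.1 y ≤ 1 := (hint y).mp hyi
  have key : ∀ w : K', Q.1 w ≤ WithZero.exp d →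
      (∀ Q' : FunFld.Place k K', FunFld.IsOver Q' P → Q' ≠ Q → Q'.1 w ≤ 1) →
      G * w ∈ Algebra.adjoin P.O ({y} : Set K') := by
    intro w hwQ hw'
    apply deriv_mul_mem_adjoin P y hy hyi w
    intro i
    exact dual_mem hK hg hK' P Q e he φ hφ ψ hψ x hx hx' w hwQ hw' (y ^ i)
      (fun Q' hQ' => by rw [map_pow]; exact pow_le_one' (hyR Q' hQ') i)
  have hadj : ∀ a ∈ Algebra.adjoin P.O ({y} : Set K'), Q.1 a ≤ 1 := by
    intro a ha
    have h1 : IsIntegral P.O a := adjoin_le_integralClosure hyi ha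
    exact (hint a).mp h1 Q ⟨e, he⟩
  constructor
  · obtain ⟨y₀, hy₀Q, hy₀'⟩ := exists_val_eq_of_others_le Qs hQQs d
    have h1 := hadj _ (key y₀ hy₀Q.le (fun Q' hQ' hne => hy₀' Q' ((hQs Q').mpr hQ') hne))
    rw [map_mul, hy₀Q] at h1
    have h2 : Q.1 G ≤ WithZero.exp (-d) := by
      calc Q.1 G = Q.1 G * WithZero.exp d * WithZero.exp (-d) := by
            rw [mul_assoc, ← WithZero.exp_add, add_neg_cancel, WithZero.exp_zero, mul_one]
        _ ≤ 1 * WithZero.exp (-d) := mul_le_mul' h1 le_rfl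
        _ = WithZero.exp (-d) := one_mul _
    rw [← WithZero.log_le_iff_le_exp hQG0] at h2
    show d ≤ -WithZero.log (Q.1 G)
    omega
  · intro heq z hz
    have hQG : Q.1 G = WithZero.exp (-d) := by
      have h1 : -WithZero.log (Q.1 G) = d := heq
      rw [← WithZero.exp_log hQG0]
      congr 1
      omega
    have hQGinv : Q.1 G⁻¹ = WithZero.exp d := by
      rw [map_inv₀, hQG, ← WithZero.exp_neg, neg_neg]
    choose mQ hmQ using fun Q' : FunFld.Place k K' =>
      Groth.Agent.Lib.Helper23.FF.exists_nat_le_exp (Q'.1 z)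
    set N : ℕ := (-d).toNat + 1 + ∑ Q' ∈ Qs, mQ Q' with hN
    have hNQ : ∀ Q' ∈ Qs, mQ Q' ≤ N := by
      intro Q' hQ'
      have := Finset.single_le_sum (f := mQ) (fun i _ => Nat.zero_le _) hQ'
      omega
    obtain ⟨w, hw⟩ := Groth.Agent.Lib.Helper23.FF.weak_approx (fun i : ↥Qs => i.1)
      Subtype.val_injective (fun i : ↥Qs => if i.1 = Q then G⁻¹ else 0) N
    have hwQ : Q.1 w = WithZero.exp d := by
      have h1 := hw ⟨Q, hQQs⟩
      simp only [if_true] at h1
      have h2 : Q.1 (w - G⁻¹) < Q.1 G⁻¹ := by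
        refine h1.trans_lt ?_
        rw [hQGinv, WithZero.exp_lt_exp]
        omega
      have h3 : w = G⁻¹ + (w - G⁻¹) := by ring
      rw [h3, Valuation.map_add_eq_of_lt_left _ h2, hQGinv]
    have hwQ' : ∀ Q' ∈ Qs, Q' ≠ Q → Q'.1 w ≤ WithZero.exp (-(N : ℤ)) := by
      intro Q' hQ' hne
      have h1 := hw ⟨Q', hQ'⟩
      simp only [if_neg hne, sub_zero] at h1
      exact h1
    have hexpN : WithZero.exp (-(N : ℤ)) ≤ 1 := by
      rw [← WithZero.exp_zero, WithZero.exp_le_exp]; omega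
    refine ⟨G * (z * w), key (z * w) ?_ ?_, G * w, key w hwQ.le ?_, ?_, by ring⟩
    · rw [map_mul, hwQ]
      exact (mul_le_mul' hz le_rfl).trans_eq (one_mul _)
    · intro Q' hQ' hne
      rw [map_mul]
      have h1 := hmQ Q'
      have h2 := hwQ' Q' ((hQs Q').mpr hQ') hne
      have h3 := hNQ Q' ((hQs Q').mpr hQ')
      calc Q'.1 z * Q'.1 w ≤ WithZero.exp (mQ Q' : ℤ) * WithZero.exp (-(N : ℤ)) := mul_le_mul' h1 h2
        _ ≤ 1 := by
          rw [← WithZero.exp_add, ← WithZero.exp_zero, WithZero.exp_le_exp]; omega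
    · intro Q' hQ' hne
      exact (hwQ' Q' ((hQs Q').mpr hQ') hne).trans hexpN
    · rw [map_mul, hQG, hwQ, ← WithZero.exp_add, neg_add_cancel, WithZero.exp_zero]

/-- If `O_P[y]` is `Q`-adically dense in `O_Q` with control at the other places over `P`, then
`v_Q(g'(y)) ≤ d(Q|P)`. -/
theorem val_inv_derivative_le_of_approx (hK : IsFunctionField k K) (hg : IsGeometric k K)
    (hK' : WeakFF k K')
    (P : Place k K) (Q : Place k K') (e : ℕ) (he : IsOverWith Q P e)
    (φ : K →ₐ[k] LaurentSeries F) (hφ : LocRes.IsExpansionAt P.1 φ)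
    (ψ : K' →ₐ[k] LaurentSeries F') (hψ : LocRes.IsExpansionAt Q.1 ψ)
    [FiniteDimensional k F] [FiniteDimensional k F'] [Algebra.IsSeparable k F']
    (x : K) (hx : LocRes.vDiff φ 1 x ≠ 0) (hx' : LocRes.vDiff ψ 1 (algebraMap K K' x) ≠ 0)
    (y : K') (hy : IntermediateField.adjoin K ({y} : Set K') = ⊤)
    (hyR : ∀ Q' : Place k K', IsOver Q' P → Q'.1 y ≤ 1)
    (hA : letI := algOK' (K' := K') P
      ∀ z₀ : K', Q.1 z₀ ≤ 1 → ∀ N : ℕ, ∃ h : (P.O)[X],
        Q.1 (aeval y h - z₀) ≤ WithZero.exp (-(N : ℤ)) ∧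
        ∀ Q' : Place k K', IsOver Q' P → Q' ≠ Q → Q'.1 (aeval y h) ≤ WithZero.exp (-(N : ℤ))) :
    Q.1 (aeval y (derivative (minpoly K y)))⁻¹ ≤ WithZero.exp (LocRes.diffExp φ ψ e x) := by
  classical
  letI := algOK' (K' := K') P
  haveI : IsScalarTower P.O K K' := IsScalarTower.of_algebraMap_eq (fun _ => rfl)
  have hyK : IsIntegral K y := Algebra.IsIntegral.isIntegral y
  have htop : Algebra.adjoin K ({y} : Set K') = ⊤ := by
    rw [← IntermediateField.adjoin_simple_toSubalgebra_of_isAlgebraic hyK.isAlgebraic, hy,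
      IntermediateField.top_toSubalgebra]
  have hyi : IsIntegral P.O y := isIntegral_of_forall_over hK hK' P hyR
  have hdual := traceForm_dualSubmodule_adjoin P.O K htop hyi
  refine dual_le_of_approx hK hg hK' P Q e he φ hφ ψ hψ x hx hx'
    (Set.range (aeval y : (P.O)[X] → K')) ?_ _ ?_
  · intro z₀ hz₀ N
    obtain ⟨h, hh1, hh2⟩ := hA z₀ hz₀ N
    exact ⟨aeval y h, ⟨h, rfl⟩, hh1, hh2⟩
  · rintro _ ⟨h, rfl⟩
    have hmem : (aeval y (derivative (minpoly K y)))⁻¹ ∈
        (Algebra.traceForm K K').dualSubmodule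
          (Subalgebra.toSubmodule (Algebra.adjoin P.O ({y} : Set K'))) := by
      rw [hdual, Submodule.mem_smul_pointwise_iff_exists]
      exact ⟨1, (Subalgebra.mem_toSubmodule _).mpr (one_mem _), by rw [smul_eq_mul, mul_one]⟩
    rw [LinearMap.BilinForm.mem_dualSubmodule] at hmem
    have hz : aeval y h ∈ Subalgebra.toSubmodule (Algebra.adjoin P.O ({y} : Set K')) := by
      rw [Subalgebra.mem_toSubmodule, Algebra.adjoin_singleton_eq_range_aeval]
      exact ⟨h, rfl⟩
    obtain ⟨r, hr⟩ := Submodule.mem_one.mp (hmem _ hz)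
    rw [Algebra.traceForm_apply] at hr
    rw [← hr]
    exact (Valuation.mem_valuationSubring_iff _ _).mp r.2

end Groth.Agent.Lib.Helper27.Tate
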