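import Mathlib
import Groth.Agent.Lib.Helper27.Adj9
import Groth.Agent.Lib.Helper27.Tate27
import Groth.Agent.Lib.Helper23.FFNS1
import Groth.Agent.Lib.Helper23.FFAdj2
import Groth.Agent.Lib.Helper23.WD7

/-! Adjoint divisor, part 10: bridges between `O_P[y]` and `k[x, y]` localised at `Q`. -/

set_option autoImplicit false

namespace Groth.Agent.Lib.Helper27.Adj

open FunFld IntermediateField Polynomial
open Groth.Agent.Lib.Helper23.FF (locAlg ratioAlg)

universe u v
variable {k : Type u} {K : Type v} [Field k] [Field K] [Algebra k K]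

/-- An element of `k(x)` which is integral at the place `x = a` lies in `k[x]` localised at `Q`. -/
theorem base_mem_locAlg {x : K} (Q : Place k K) {a : k}
    (hQa : Q.1 (x - algebraMap k K a) < 1) (hxa : x - algebraMap k K a ≠ 0)
    (c : k⟮x⟯) (hc : Q.1 (c : K) ≤ 1) :
    (c : K) ∈ locAlg (Algebra.adjoin k ({x} : Set K)) Q := by
  obtain ⟨r, s, hrs⟩ := (IntermediateField.mem_adjoin_simple_iff k (c : K)).mp c.2
  by_cases hs0 : aeval x s = 0
  · rw [hrs, hs0, div_zero]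
    exact Subalgebra.zero_mem _
  have hs : s ≠ 0 := by
    rintro rfl
    exact hs0 (map_zero _)
  have hcs : (c : K) * aeval x s = aeval x r := by
    rw [hrs, div_mul_cancel₀ _ hs0]
  obtain ⟨s', r', hs'a, hcs'⟩ := Groth.Agent.Lib.Helper23.FF.exists_good_denominator Q hQa hxa
    s.natDegree r s hs le_rfl (c : K) hc hcs
  refine ⟨aeval x r', ?_, aeval x s', ?_, ?_, hcs'⟩
  · rw [Algebra.adjoin_singleton_eq_range_aeval]; exact ⟨r', rfl⟩
  · rw [Algebra.adjoin_singleton_eq_range_aeval]; exact ⟨s', rfl⟩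
  · have h1 := Groth.Agent.Lib.Helper23.FF.val_aeval_sub_eval_lt' Q hQa s'
    have h2 : Q.1 (algebraMap k K (s'.eval a)) = 1 := FF.w_const Q.1 Q.2.1 hs'a
    have h3 : aeval x s' = algebraMap k K (s'.eval a) + (aeval x s' - algebraMap k K (s'.eval a)) := by
      ring
    rw [h3, Valuation.map_add_eq_of_lt_left _ (by rw [h2]; exact h1), h2]

/-- `O_P[y] ⊆ k[x, y]_Q`. -/
theorem adjoinO_le_locAlg {x y : K} (hx : Transcendental k x) (P : Place k k⟮x⟯) (Q : Place k K)
    {e' : ℕ} (he : IsOverWith Q P e') {a : k}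
    (hPa : P.1 (gen x - algebraMap k k⟮x⟯ a) < 1) :
    letI := Tate.algOK' (K' := K) P
    ∀ z ∈ Algebra.adjoin P.O ({y} : Set K), z ∈ locAlg (Algebra.adjoin k ({x, y} : Set K)) Q := by
  letI := Tate.algOK' (K' := K) P
  have hQa : Q.1 (x - algebraMap k K a) < 1 := by
    have := (FF.isOverWith_val_lt_one_iff he (gen x - algebraMap k k⟮x⟯ a)).mpr hPa
    rwa [map_sub, algebraMap_gen, ← IsScalarTower.algebraMap_apply] at this
  have hxa : x - algebraMap k K a ≠ 0 := by
    intro h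
    apply hx
    rw [sub_eq_zero] at h
    rw [h]
    exact isAlgebraic_algebraMap a
  intro z hz
  refine Algebra.adjoin_induction (p := fun z _ => z ∈ locAlg (Algebra.adjoin k ({x, y} : Set K)) Q)
    ?_ ?_ ?_ ?_ hz
  · intro z hz
    rw [Set.mem_singleton_iff] at hz
    rw [hz]
    exact Groth.Agent.Lib.Helper23.FF.le_locAlg _ Q (Algebra.subset_adjoin (by simp))
  · intro c
    have hc : Q.1 ((c : k⟮x⟯) : K) ≤ 1 :=
      (FF.isOverWith_val_le_one_iff he (c : k⟮x⟯)).mpr ((Valuation.mem_valuationSubring_iff _ _).mp c.2)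
    exact Groth.Agent.Lib.Helper23.FF.locAlg_mono
      (Groth.Agent.Lib.Helper23.FF.adjoin_singleton_le_adjoin_pair x y) Q
      (base_mem_locAlg Q hQa hxa (c : k⟮x⟯) hc)
  · intro a b _ _ ha hb
    exact Subalgebra.add_mem _ ha hb
  · intro a b _ _ ha hb
    exact Subalgebra.mul_mem _ ha hb

/-- `k[x, y] ⊆ O_P[y]` when `x` is finite at `P`. -/
theorem adjoin_pair_le_range {x y : K} (P : Place k k⟮x⟯) (hPx : P.1 (gen x) ≤ 1) :
    letI := Tate.algOK' (K' := K) P
    ∀ z ∈ Algebra.adjoin k ({x, y} : Set K), ∃ h : (P.O)[X], aeval y h = z := by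
  letI := Tate.algOK' (K' := K) P
  intro z hz
  refine Algebra.adjoin_induction (p := fun z _ => ∃ h : (P.O)[X], aeval y h = z)
    ?_ ?_ ?_ ?_ hz
  · intro z hz
    rcases hz with rfl | hz
    · refine ⟨C ⟨gen z, (Valuation.mem_valuationSubring_iff _ _).mpr hPx⟩, ?_⟩
      rw [aeval_C]
      rfl
    · rw [Set.mem_singleton_iff] at hz
      rw [hz]
      exact ⟨X, aeval_X _⟩
  · intro c
    refine ⟨C ⟨algebraMap k k⟮x⟯ c, (Valuation.mem_valuationSubring_iff _ _).mpr (P.2.1 c)⟩, ?_⟩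
    rw [aeval_C]
    rfl
  · rintro a b _ _ ⟨ha, rfl⟩ ⟨hb, rfl⟩
    exact ⟨ha + hb, map_add _ _ _⟩
  · rintro a b _ _ ⟨ha, rfl⟩ ⟨hb, rfl⟩
    exact ⟨ha * hb, map_mul _ _ _⟩

end Groth.Agent.Lib.Helper27.Adj
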