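import Mathlib
import Groth.Agent.Lib.Helper27.Adj10

/-! Adjoint divisor, part 11: the core local statement in good coordinates. -/

set_option autoImplicit false

namespace Groth.Agent.Lib.Helper27.Adj

open FunFld IntermediateField Polynomial
open Groth.Agent.Lib.Helper23.FF (locAlg ratioAlg)

universe u v
variable {k : Type u} {K : Type v} [Field k] [Field K] [Algebra k K]

theorem adjoin_simple_adjoin_eq_top {x y : K}
    (hxy : IntermediateField.adjoin k ({x, y} : Set K) = ⊤) :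
    IntermediateField.adjoin k⟮x⟯ ({y} : Set K) = ⊤ := by
  rw [← IntermediateField.restrictScalars_eq_top_iff (K := k), IntermediateField.adjoin_adjoin_left,
    Set.singleton_union, hxy]

/-- `y` is integral wherever `x` is finite. -/
theorem val_y_le_one {x y : K} {G : MvPolynomial (Fin 3) k} {e : ℕ} (hG : G.IsHomogeneous e)
    (hGxy : MvPolynomial.aeval ![(1 : K), x, y] G = 0)
    (hc : G.coeff (Finsupp.single 2 e) ≠ 0) (Q' : Place k K) (hQ'x : Q'.1 x ≤ 1) :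
    Q'.1 y ≤ 1 := by
  apply val_le_one_of_root (A₀ := k⟮x⟯) (A := K) Q'.1 (polyY k x G) e (natDegree_polyY_le x hG)
  · rw [coeff_polyY_top x hG, ← IsScalarTower.algebraMap_apply]
    exact FF.w_const Q'.1 Q'.2.1 hc
  · intro i
    rw [coeff_polyY, map_sum]
    apply Q'.1.map_sum_le
    intro m _
    split_ifs
    · rw [map_mul, map_mul, map_pow, ← IsScalarTower.algebraMap_apply, algebraMap_gen, map_pow]
      exact mul_le_one' (Q'.2.1 _) (pow_le_one' hQ'x _)
    · rw [map_zero, map_zero]; exact zero_le_one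
  · rw [aeval_polyY, hGxy]

theorem val_le_one_of_mem_adjoin_pair {x y : K} (Q' : Place k K) (hx : Q'.1 x ≤ 1)
    (hy : Q'.1 y ≤ 1) {r : K} (hr : r ∈ Algebra.adjoin k ({x, y} : Set K)) : Q'.1 r ≤ 1 := by
  refine Algebra.adjoin_induction (p := fun r _ => Q'.1 r ≤ 1) ?_ ?_ ?_ ?_ hr
  · intro z hz
    rcases hz with rfl | hz
    · exact hx
    · rw [Set.mem_singleton_iff] at hz; rw [hz]; exact hy
  · intro c
    exact Q'.2.1 c
  · intro a b _ _ ha hb
    exact (Q'.1.map_add a b).trans (max_le ha hb)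
  · intro a b _ _ ha hb
    rw [map_mul]
    exact mul_le_one' ha hb

theorem ratioAlg_plane (x y : K) :
    ratioAlg (k := k) ![(1 : K), x, y] 0 = Algebra.adjoin k ({x, y} : Set K) := by
  unfold ratioAlg
  apply le_antisymm
  · apply Algebra.adjoin_le
    rintro _ ⟨i, rfl⟩
    fin_cases i
    · show (1:K) / 1 ∈ _
      rw [div_one]; exact Subalgebra.one_mem _
    · show x / 1 ∈ _
      rw [div_one]; exact Algebra.subset_adjoin (by simp)
    · show y / 1 ∈ _
      rw [div_one]; exact Algebra.subset_adjoin (by simp)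
  · apply Algebra.adjoin_le
    intro z hz
    rcases hz with rfl | hz
    · exact Algebra.subset_adjoin ⟨1, by show z / 1 = z; rw [div_one]⟩
    · rw [Set.mem_singleton_iff] at hz; rw [hz]
      exact Algebra.subset_adjoin ⟨2, by show y / 1 = y; rw [div_one]⟩

section Core
variable [IsAlgClosed k]

theorem adjoint_core (hK : IsFunctionField k K) {x y : K}
    {G : MvPolynomial (Fin 3) k} {e : ℕ} (hG : G.IsHomogeneous e) (hG0 : G ≠ 0)
    (hGxy : MvPolynomial.aeval ![(1 : K), x, y] G = 0)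
    (hxy : IntermediateField.adjoin k ({x, y} : Set K) = ⊤)
    (hdx : KaehlerDifferential.D k K x ≠ 0)
    (hdeg : Module.finrank k⟮x⟯ K = e)
    (Q : Place k K) (hQx : Q.1 x ≤ 1)
    (ΦQ : K →ₐ[k] LaurentSeries k) (hΦQ : LocRes.IsExpansionAt Q.1 ΦQ) :
    MvPolynomial.aeval ![(1 : K), x, y] (MvPolynomial.pderiv 2 G) ≠ 0 ∧ Q.1 y ≤ 1 ∧
    LocRes.ordDiff ΦQ 1 x ≤ Q.ord (MvPolynomial.aeval ![(1 : K), x, y] (MvPolynomial.pderiv 2 G)) ∧
    (Q.ord (MvPolynomial.aeval ![(1 : K), x, y] (MvPolynomial.pderiv 2 G)) = LocRes.ordDiff ΦQ 1 x ↔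
      IsNonsingularAt ![(1 : K), x, y] Q) := by
  classical
  obtain ⟨hx, hsep⟩ := sep_of_D_ne_zero hK hdx
  haveI := hsep
  haveI := Groth.Agent.Lib.Helper23.FF.finiteDimensional_adjoin hK hx
  have hK₀ : IsFunctionField k k⟮x⟯ := HD.isFunctionField_adjoin_simple hK hx
  have hg₀ : IsGeometric k k⟮x⟯ := HD.isGeometric_of_isAlgClosed
  have hK' : Tate.WeakFF k K := Tate.WeakFF.of_isFunctionField hK
  have htop := adjoin_simple_adjoin_eq_top hxy
  obtain ⟨hc, hmin⟩ := minpoly_eq_polyY hK hx hG hG0 hGxy htop hdeg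
  have hder := aeval_derivative_minpoly hK hx hG hG0 hGxy htop hdeg
  set Gy := MvPolynomial.aeval ![(1 : K), x, y] (MvPolynomial.pderiv 2 G) with hGy
  have hg'0 : aeval y (derivative (minpoly k⟮x⟯ y)) ≠ 0 := Tate.aeval_derivative_minpoly_ne_zero y
  have hGy0 : Gy ≠ 0 := by
    intro h; apply hg'0; rw [hder, h, mul_zero]
  have hyint : ∀ Q' : Place k K, Q'.1 x ≤ 1 → Q'.1 y ≤ 1 :=
    fun Q' h => val_y_le_one hG hGxy hc Q' h
  obtain ⟨P, e', a, he', hPx, hPa⟩ := exists_base_place hK hx Q hQx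
  obtain ⟨Φ₀, hΦ₀⟩ := Groth.Agent.Lib.Helper23.WD.exists_expansions hK₀
  have hφ := hΦ₀ P
  have hPa' : P.1 (gen x - algebraMap k k⟮x⟯ a) < 1 := by
    rw [hPa, ← WithZero.exp_zero, WithZero.exp_lt_exp]; norm_num
  have hord0 : LocRes.ordDiff (Φ₀ P) 1 (gen x) = 0 := by
    rw [← HD.ordDiff_sub_const (Φ₀ P) (gen x) a]
    exact HD.ordDiff_eq_zero_of_unif hφ hPa
  have hdgen : KaehlerDifferential.D k k⟮x⟯ (gen x) ≠ 0 := by
    intro h
    apply hdx
    have := congrArg (KaehlerDifferential.map k k k⟮x⟯ K) h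
    rwa [KaehlerDifferential.map_D, map_zero, algebraMap_gen] at this
  have hv0 : LocRes.vDiff (Φ₀ P) 1 (gen x) ≠ 0 := vDiff_ne_zero_of_D_ne_zero hK₀ hdgen P hφ
  have hv1 : LocRes.vDiff ΦQ 1 (algebraMap k⟮x⟯ K (gen x)) ≠ 0 := by
    rw [algebraMap_gen]; exact vDiff_ne_zero_of_D_ne_zero hK hdx Q hΦQ
  have hdiff : LocRes.diffExp (Φ₀ P) ΦQ e' (gen x) = LocRes.ordDiff ΦQ 1 x := by
    unfold LocRes.diffExp
    rw [hord0, mul_zero, sub_zero, algebraMap_gen]
  have hordg : Q.ord (aeval y (derivative (minpoly k⟮x⟯ y))) = Q.ord Gy := by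
    rw [hder]
    unfold Place.ord
    rw [map_mul, FF.w_const Q.1 Q.2.1 (inv_ne_zero hc), one_mul]
  have hyR : ∀ Q' : Place k K, IsOver Q' P → Q'.1 y ≤ 1 := by
    rintro Q' ⟨e'', he''⟩
    apply hyint
    have := (FF.isOverWith_val_le_one_iff he'' (gen x)).mpr hPx
    rwa [algebraMap_gen] at this
  letI := Tate.algOK' (K' := K) P
  haveI : IsScalarTower P.O k⟮x⟯ K := IsScalarTower.of_algebraMap_eq (fun _ => rfl)
  have hyi : IsIntegral P.O y := Tate.isIntegral_of_forall_over hK₀ hK' P hyR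
  obtain ⟨hle, heq⟩ := Tate.diffExp_le_ord_derivative hK₀ hg₀ hK' P Q e' he' (Φ₀ P) hφ ΦQ hΦQ
    (gen x) hv0 hv1 y htop hyi
  rw [hdiff, hordg] at hle heq
  have hQy := hyint Q hQx
  have hj0 : (![(1 : K), x, y] : Fin 3 → K) 0 ≠ 0 := one_ne_zero
  have hj : ∀ i, Q.1 ((![(1 : K), x, y] : Fin 3 → K) i) ≤
      Q.1 ((![(1 : K), x, y] : Fin 3 → K) 0) := by
    intro i
    fin_cases i
    · exact le_rfl
    · show Q.1 x ≤ Q.1 1
      rw [map_one]; exact hQx
    · show Q.1 y ≤ Q.1 1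
      rw [map_one]; exact hQy
  have hratio := ratioAlg_plane (k := k) x y
  refine ⟨hGy0, hQy, hle, ?_, ?_⟩
  · intro h z hz
    rw [Groth.Agent.Lib.Helper23.FF.inLocRing_iff_of_index _ Q hj0 hj, hratio]
    obtain ⟨a', ha', b', hb', hb1, hzb⟩ := heq h z hz
    have ha'' := adjoinO_le_locAlg hx P Q he' hPa' a' ha'
    have hb'' := adjoinO_le_locAlg hx P Q he' hPa' b' hb'
    have hb0 : b' ≠ 0 := by
      rintro rfl
      rw [map_zero] at hb1
      exact zero_ne_one hb1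
    have : z = a' / b' := by rw [← hzb, mul_div_cancel_right₀ z hb0]
    rw [this]
    exact Groth.Agent.Lib.Helper23.FF.div_mem_locAlg' ha'' hb'' hb1
  · intro hns
    apply le_antisymm _ hle
    obtain ⟨hfin, -⟩ := FF.sum_ramIdx_mul_deg (K' := K) hK₀ P
    set Qs : Finset (Place k K) := hfin.toFinset.erase Q with hQsdef
    have hdegQ : Q.deg = 1 := Groth.Agent.Lib.Helper23.FF.deg_eq_one hK Q
    have hRQ : ∀ r ∈ Algebra.adjoin k ({x, y} : Set K), Q.1 r ≤ 1 :=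
      fun r hr => val_le_one_of_mem_adjoin_pair Q hQx hQy hr
    have hloc : ∀ z : K, Q.1 z ≤ 1 → ∃ u ∈ Algebra.adjoin k ({x, y} : Set K),
        ∃ w ∈ Algebra.adjoin k ({x, y} : Set K), Q.1 w = 1 ∧ z * w = u := by
      intro z hz
      have h1 := hns z hz
      rw [Groth.Agent.Lib.Helper23.FF.inLocRing_iff_of_index _ Q hj0 hj, hratio] at h1
      exact h1
    have hQs : ∀ Q' ∈ Qs, Q' ≠ Q ∧ ∀ r ∈ Algebra.adjoin k ({x, y} : Set K), Q'.1 r ≤ 1 := by
      intro Q' hQ'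
      rw [hQsdef, Finset.mem_erase, Set.Finite.mem_toFinset] at hQ'
      obtain ⟨hne, e'', he''⟩ := hQ'
      refine ⟨hne, fun r hr => ?_⟩
      have hQ'x : Q'.1 x ≤ 1 := by
        have := (FF.isOverWith_val_le_one_iff he'' (gen x)).mpr hPx
        rwa [algebraMap_gen] at this
      exact val_le_one_of_mem_adjoin_pair Q' hQ'x (hyint Q' hQ'x) hr
    have hA : ∀ z₀ : K, Q.1 z₀ ≤ 1 → ∀ N : ℕ, ∃ h : (P.O)[X],
        Q.1 (aeval y h - z₀) ≤ WithZero.exp (-(N : ℤ)) ∧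
        ∀ Q' : Place k K, IsOver Q' P → Q' ≠ Q → Q'.1 (aeval y h) ≤ WithZero.exp (-(N : ℤ)) := by
      intro z₀ hz₀ N
      obtain ⟨z, hzR, hz1, hz2⟩ := approx_of_loc (Algebra.adjoin k ({x, y} : Set K)) Q hdegQ hRQ hloc
        Qs hQs hz₀ N
      obtain ⟨h, rfl⟩ := adjoin_pair_le_range (y := y) P hPx z hzR
      refine ⟨h, hz1, fun Q' hQ' hne => hz2 Q' ?_⟩
      rw [hQsdef, Finset.mem_erase, Set.Finite.mem_toFinset]
      exact ⟨hne, hQ'⟩
    have h1 := Tate.val_inv_derivative_le_of_approx hK₀ hg₀ hK' P Q e' he' (Φ₀ P) hφ ΦQ hΦQ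
      (gen x) hv0 hv1 y htop hyR hA
    rw [hdiff] at h1
    have hQg0 : Q.1 (aeval y (derivative (minpoly k⟮x⟯ y))) ≠ 0 := by
      rwa [ne_eq, map_eq_zero]
    rw [map_inv₀, ← WithZero.log_le_iff_le_exp (inv_ne_zero hQg0), WithZero.log_inv] at h1
    rw [← hordg]
    exact h1

end Core

end Groth.Agent.Lib.Helper27.Adj
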