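import Mathlib
import Groth.Agent.Lib.Helper27.Adj2

/-! Adjoint divisor, part 12: homogenisation of a polynomial in two variables. -/

set_option autoImplicit false

namespace Groth.Agent.Lib.Helper27.Adj

open MvPolynomial

universe u v
variable {k : Type u} [Field k]

/-- dehomogenisation `X₀ ↦ 1, X₁ ↦ X₀, X₂ ↦ X₁`. -/
noncomputable def dehom : MvPolynomial (Fin 3) k →ₐ[k] MvPolynomial (Fin 2) k :=
  aeval ![1, X 0, X 1]

/-- homogenisation in degree `totalDegree`. -/
noncomputable def homog (f : MvPolynomial (Fin 2) k) : MvPolynomial (Fin 3) k :=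
  ∑ d ∈ Finset.range (f.totalDegree + 1),
    X 0 ^ (f.totalDegree - d) * rename Fin.succ (homogeneousComponent d f)

theorem homog_isHomogeneous (f : MvPolynomial (Fin 2) k) :
    (homog f).IsHomogeneous f.totalDegree := by
  unfold homog
  apply IsHomogeneous.sum
  intro d hd
  rw [Finset.mem_range] at hd
  have h1 : f.totalDegree - d + d = f.totalDegree := by omega
  rw [← h1]
  have h2 : (f.totalDegree - d + d - d) = f.totalDegree - d := by omega
  rw [h2]
  exact (isHomogeneous_X_pow (R := k) (0 : Fin 3) _).mul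
    ((homogeneousComponent_isHomogeneous d f).rename_isHomogeneous)

theorem dehom_rename (g : MvPolynomial (Fin 2) k) : dehom (rename Fin.succ g) = g := by
  unfold dehom
  rw [aeval_rename]
  have : (![1, X 0, X 1] : Fin 3 → MvPolynomial (Fin 2) k) ∘ Fin.succ = X := by
    funext i
    fin_cases i <;> rfl
  rw [this, aeval_X_left, AlgHom.id_apply]

theorem dehom_homog (f : MvPolynomial (Fin 2) k) : dehom (homog f) = f := by
  unfold homog
  rw [map_sum]
  conv_rhs => rw [← sum_homogeneousComponent f]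
  refine Finset.sum_congr rfl (fun d _ => ?_)
  rw [map_mul, map_pow, dehom_rename]
  have : dehom (X 0 : MvPolynomial (Fin 3) k) = 1 := by
    unfold dehom
    rw [aeval_X]
    rfl
  rw [this, one_pow, one_mul]

theorem homog_ne_zero {f : MvPolynomial (Fin 2) k} (hf : f ≠ 0) : homog f ≠ 0 := by
  intro h
  apply hf
  rw [← dehom_homog f, h, map_zero]

variable {K : Type v} [CommRing K] [Algebra k K]

theorem aeval_dehom (x y : K) (G : MvPolynomial (Fin 3) k) :
    aeval ![x, y] (dehom G) = aeval ![(1 : K), x, y] G := by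
  unfold dehom
  have h := MvPolynomial.comp_aeval (R := k) (f := ![1, X 0, X 1])
    (φ := (aeval ![x, y] : MvPolynomial (Fin 2) k →ₐ[k] K))
  have h2 := DFunLike.congr_fun h G
  rw [AlgHom.comp_apply] at h2
  rw [h2]
  congr 2
  funext i
  fin_cases i
  · show aeval ![x, y] (1 : MvPolynomial (Fin 2) k) = 1
    rw [map_one]
  · show aeval ![x, y] (X 0 : MvPolynomial (Fin 2) k) = x
    rw [aeval_X]; rfl
  · show aeval ![x, y] (X 1 : MvPolynomial (Fin 2) k) = y
    rw [aeval_X]; rfl

theorem pderiv_dehom (G : MvPolynomial (Fin 3) k) :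
    pderiv 1 (dehom G) = dehom (pderiv 2 G) := by
  classical
  unfold dehom
  have h := deriv_aeval (k := k) (pderiv (1 : Fin 2) : Derivation k (MvPolynomial (Fin 2) k) _)
    ![1, X 0, X 1] G
  rw [h, Fin.sum_univ_three]
  have e0 : (![1, X 0, X 1] : Fin 3 → MvPolynomial (Fin 2) k) 0 = 1 := rfl
  have e1 : (![1, X 0, X 1] : Fin 3 → MvPolynomial (Fin 2) k) 1 = X 0 := rfl
  have e2 : (![1, X 0, X 1] : Fin 3 → MvPolynomial (Fin 2) k) 2 = X 1 := rfl
  rw [e0, e1, e2, Derivation.map_one_eq_zero, pderiv_X, pderiv_X, Pi.single_eq_of_ne (by decide),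
    Pi.single_eq_same, mul_zero, mul_zero, zero_add, zero_add, mul_one]

theorem aeval_homog (x y : K) (f : MvPolynomial (Fin 2) k) :
    aeval ![(1 : K), x, y] (homog f) = aeval ![x, y] f := by
  rw [← aeval_dehom, dehom_homog]

theorem aeval_pderiv_homog (x y : K) (f : MvPolynomial (Fin 2) k) :
    aeval ![(1 : K), x, y] (pderiv 2 (homog f)) = aeval ![x, y] (pderiv 1 f) := by
  rw [← aeval_dehom, ← pderiv_dehom, dehom_homog]

end Groth.Agent.Lib.Helper27.Adj
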