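import Mathlib
import Groth.Agent.Lib.Helper27.Adj12
import Groth.Agent.Lib.Helper23.FFNS1

/-! Adjoint divisor, part 13: invariance of nonsingularity under linear changes of the tuple. -/

set_option autoImplicit false

namespace Groth.Agent.Lib.Helper27.Adj

open FunFld MvPolynomial
open Groth.Agent.Lib.Helper23.FF (locAlg ratioAlg)

universe u v
variable {k : Type u} {K : Type v} [Field k] [Field K] [Algebra k K]

/-- The ratio algebra of a linearly transformed tuple lies in the local ring of the original. -/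
theorem ratioAlg_lin_le {ι : Type*} [Fintype ι] (φ u : ι → K) (B : Matrix ι ι k)
    (hu : ∀ i, u i = ∑ l, algebraMap k K (B i l) * φ l) (Q : Place k K) {j j' : ι}
    (hj0 : φ j ≠ 0) (hj'0 : u j' ≠ 0) (hjj' : Q.1 (u j') = Q.1 (φ j)) :
    ratioAlg (k := k) u j' ≤ locAlg (ratioAlg (k := k) φ j) Q := by
  apply Algebra.adjoin_le
  rintro _ ⟨i, rfl⟩
  show u i / u j' ∈ locAlg (ratioAlg (k := k) φ j) Q
  have hmem : ∀ i, u i / φ j ∈ ratioAlg (k := k) φ j := by
    intro i
    rw [hu i, Finset.sum_div]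
    apply Subalgebra.sum_mem
    intro l _
    rw [mul_div_assoc, ← Algebra.smul_def]
    exact Subalgebra.smul_mem _ (Groth.Agent.Lib.Helper23.FF.ratio_mem_ratioAlg φ j l) _
  have h1 : u i / u j' = (u i / φ j) / (u j' / φ j) := by
    field_simp
  rw [h1]
  apply Groth.Agent.Lib.Helper23.FF.div_mem_locAlg (hmem i) (hmem j')
  rw [map_div₀, hjj']
  exact div_self ((Q.1.ne_zero_iff).mpr hj0)

/-- Two tuples related by mutually inverse linear maps have the same local ring. -/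
theorem locAlg_lin_eq {ι : Type*} [Fintype ι] (φ u : ι → K) (A B : Matrix ι ι k)
    (hu : ∀ i, u i = ∑ l, algebraMap k K (B i l) * φ l)
    (hφ : ∀ i, φ i = ∑ l, algebraMap k K (A i l) * u l) (Q : Place k K) {j j' : ι}
    (hj0 : φ j ≠ 0) (hj'0 : u j' ≠ 0) (hjj' : Q.1 (u j') = Q.1 (φ j)) :
    locAlg (ratioAlg (k := k) u j') Q = locAlg (ratioAlg (k := k) φ j) Q := by
  apply le_antisymm
  · calc locAlg (ratioAlg (k := k) u j') Q ≤ locAlg (locAlg (ratioAlg (k := k) φ j) Q) Q :=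
        Groth.Agent.Lib.Helper23.FF.locAlg_mono (ratioAlg_lin_le φ u B hu Q hj0 hj'0 hjj') Q
      _ = _ := Groth.Agent.Lib.Helper23.FF.locAlg_locAlg _ Q
  · calc locAlg (ratioAlg (k := k) φ j) Q ≤ locAlg (locAlg (ratioAlg (k := k) u j') Q) Q :=
        Groth.Agent.Lib.Helper23.FF.locAlg_mono (ratioAlg_lin_le u φ A hφ Q hj'0 hj0 hjj'.symm) Q
      _ = _ := Groth.Agent.Lib.Helper23.FF.locAlg_locAlg _ Q

/-- Scaling a tuple does not change its ratio algebra. -/
theorem ratioAlg_div {ι : Type*} (u : ι → K) {c : K} (hc : c ≠ 0) (j : ι) :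
    ratioAlg (k := k) (fun i => u i / c) j = ratioAlg (k := k) u j := by
  unfold ratioAlg
  congr 2
  funext i
  show u i / c / (u j / c) = u i / u j
  by_cases h : u j = 0
  · rw [h, zero_div, div_zero, div_zero]
  · field_simp

/-- Nonsingularity at `Q` of the plane map `(1 : x : y)` in new coordinates `u = B (1, x, y)` with
`u 0` of largest value at `Q`. -/
theorem isNonsingularAt_change (x y : K) (A B : Matrix (Fin 3) (Fin 3) k) (u : Fin 3 → K)
    (hu : ∀ i, u i = ∑ l, algebraMap k K (B i l) * (![(1 : K), x, y] : Fin 3 → K) l)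
    (hφ : ∀ i, (![(1 : K), x, y] : Fin 3 → K) i = ∑ l, algebraMap k K (A i l) * u l)
    (Q : Place k K) (hu0 : u 0 ≠ 0) (hmax : ∀ i, Q.1 (u i) ≤ Q.1 (u 0)) :
    IsNonsingularAt ![(1 : K), x, y] Q ↔ IsNonsingularAt ![(1 : K), u 1 / u 0, u 2 / u 0] Q := by
  set φ : Fin 3 → K := ![(1 : K), x, y] with hφdef
  have hφ' : (![(1 : K), u 1 / u 0, u 2 / u 0] : Fin 3 → K) = fun i => u i / u 0 := by
    funext i
    fin_cases i
    · show (1 : K) = u 0 / u 0
      rw [div_self hu0]
    · rfl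
    · rfl
  rw [hφ']
  -- an admissible index for `φ`
  obtain ⟨j, hj⟩ := Finite.exists_max (fun i => Q.1 (φ i))
  have hφle : ∀ i, Q.1 (φ i) ≤ Q.1 (u 0) := by
    intro i
    rw [hφ i]
    apply Q.1.map_sum_le
    intro l _
    rw [map_mul]
    exact (mul_le_mul' (Q.2.1 _) (hmax l)).trans_eq (one_mul _)
  have hule : Q.1 (u 0) ≤ Q.1 (φ j) := by
    rw [hu 0]
    apply Q.1.map_sum_le
    intro l _
    rw [map_mul]
    exact (mul_le_mul' (Q.2.1 _) (hj l)).trans_eq (one_mul _)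
  have hjj' : Q.1 (u 0) = Q.1 (φ j) := le_antisymm hule (hφle j)
  have hj0 : φ j ≠ 0 := by
    intro h
    rw [h, map_zero] at hjj'
    exact hu0 ((map_eq_zero _).mp hjj')
  have hloc := locAlg_lin_eq φ u A B hu hφ Q hj0 hu0 hjj'
  have hψ0 : (fun i => u i / u 0) 0 ≠ 0 := by
    show u 0 / u 0 ≠ 0
    rw [div_self hu0]; exact one_ne_zero
  have hψmax : ∀ i, Q.1 ((fun i => u i / u 0) i) ≤ Q.1 ((fun i => u i / u 0) 0) := by
    intro i
    show Q.1 (u i / u 0) ≤ Q.1 (u 0 / u 0)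
    rw [map_div₀, map_div₀]
    exact div_le_div_of_nonneg_right (hmax i) zero_le
  unfold IsNonsingularAt
  refine forall_congr' (fun z => imp_congr_right (fun _ => ?_))
  rw [Groth.Agent.Lib.Helper23.FF.inLocRing_iff_of_index φ Q hj0 hj,
    Groth.Agent.Lib.Helper23.FF.inLocRing_iff_of_index (fun i => u i / u 0) Q hψ0 hψmax,
    ratioAlg_div u hu0, hloc]

end Groth.Agent.Lib.Helper27.Adj
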