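import Mathlib
import Groth.Agent.Lib.Helper27.Adj13
import Groth.Agent.Lib.Helper27.Adj11
import Groth.Agent.Lib.Helper23.FFPlane2

/-! Adjoint divisor, part 14: generic projective coordinates. -/

set_option autoImplicit false

namespace Groth.Agent.Lib.Helper27.Adj

open FunFld IntermediateField
open Groth.Agent.Lib.Helper23.FF (zdiv zdiv_apply ballSub)

universe u v
variable {k : Type u} {K : Type v} [Field k] [Field K] [Algebra k K]

/-- If the pole divisor of `x'` is exactly `D`, then `[K : k(x')] = deg D`. -/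
theorem finrank_eq_deg_of_poles (hK : IsFunctionField k K) {x' : K} (hx' : Transcendental k x')
    (D : Divisor k K) (hD0 : 0 ≤ D) (hx'L : x' ∈ L D)
    (hx'S : ∀ Q ∈ D.support, Q.1 x' = WithZero.exp (D Q)) :
    (Module.finrank k⟮x'⟯ K : ℤ) = D.deg := by
  classical
  have hx'0 : x' ≠ 0 := by
    intro h
    rw [h] at hx'
    exact hx' isAlgebraic_zero
  have hDpos : ∀ Q ∈ D.support, 0 < D Q := fun Q hQ =>
    lt_of_le_of_ne (hD0 Q) (Ne.symm (Finsupp.mem_support_iff.mp hQ))
  have hfin : {Q : Place k K | Q.1 x'⁻¹ < 1}.Finite :=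
    Groth.Agent.Lib.Helper23.FF.finite_zeros hK (Groth.Agent.Lib.Helper23.FF.transcendental_inv hx')
  set Z := hfin.toFinset with hZdef
  have hZ : ∀ Q, Q ∈ Z ↔ Q.1 x'⁻¹ < 1 := fun Q => by
    rw [hZdef, Set.Finite.mem_toFinset]; rfl
  have hzd : zdiv x'⁻¹ Z = D := by
    ext Q
    rw [zdiv_apply]
    by_cases hQ : Q ∈ D.support
    · have h1 := hx'S Q hQ
      have h2 : Q ∈ Z := by
        rw [hZ, Groth.Agent.Lib.Helper23.FF.val_inv_lt_one_iff Q hx'0, h1, ← WithZero.exp_zero,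
          WithZero.exp_lt_exp]
        exact hDpos Q hQ
      rw [if_pos h2, Groth.Agent.Lib.Helper27.FF.ord_inv]
      rw [Groth.Agent.Lib.Helper23.FF.val_eq_exp_neg_ord Q hx'0] at h1
      exact WithZero.exp_injective h1
    · have h0 : D Q = 0 := by
        by_contra h
        exact hQ (Finsupp.mem_support_iff.mpr h)
      have h2 : Q ∉ Z := by
        rw [hZ, Groth.Agent.Lib.Helper23.FF.val_inv_lt_one_iff Q hx'0, not_lt]
        have := hx'L Q
        rwa [h0, WithZero.exp_zero] at this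
      rw [if_neg h2, h0]
  rw [← Groth.Agent.Lib.Helper23.FF.deg_poleDiv hK hx' Z hZ, hzd]

/-- Three rows, each outside the span of the previous ones, form an invertible matrix. -/
theorem exists_inverse_of_rows (r₀ r₁ : Fin 3 → k) (hr₀ : r₀ ≠ 0) (hr₁ : ∀ a : k, a • r₀ ≠ r₁) :
    ∃ (A B : Matrix (Fin 3) (Fin 3) k), A * B = 1 ∧ B * A = 1 ∧ B 0 = r₀ ∧ B 1 = r₁ := by
  classical
  have h2 : LinearIndependent k ![r₀, r₁] := (LinearIndependent.pair_iff' hr₀).mpr hr₁
  have hne : Submodule.span k (Set.range ![r₀, r₁]) ≠ ⊤ := by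
    intro h
    have h1 := finrank_range_le_card (R := k) ![r₀, r₁]
    unfold Set.finrank at h1
    rw [h, finrank_top, Module.finrank_fintype_fun_eq_card] at h1
    simp at h1
  obtain ⟨r₂, hr₂⟩ : ∃ r₂, r₂ ∉ Submodule.span k (Set.range ![r₀, r₁]) := by
    by_contra hcon
    push Not at hcon
    exact hne (eq_top_iff.mpr (fun ℓ _ => hcon ℓ))
  set B : Matrix (Fin 3) (Fin 3) k := (Fin.snoc (α := fun _ => Fin 3 → k) ![r₀, r₁] r₂) with hB
  have hLI : LinearIndependent k B.row := linearIndependent_finSnoc.mpr ⟨h2, hr₂⟩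
  have hunit : IsUnit B := Matrix.linearIndependent_rows_iff_isUnit.mp hLI
  have hdet : IsUnit B.det := (Matrix.isUnit_iff_isUnit_det B).mp hunit
  exact ⟨B⁻¹, B, Matrix.nonsing_inv_mul B hdet, Matrix.mul_nonsing_inv B hdet, rfl, rfl⟩

section AC
variable [IsAlgClosed k]

theorem exists_good_coords (hK : IsFunctionField k K) (x y : K)
    (hdx : KaehlerDifferential.D k K x ≠ 0) (Q : Place k K) :
    ∃ (A B : Matrix (Fin 3) (Fin 3) k) (u : Fin 3 → K), A * B = 1 ∧ B * A = 1 ∧
      (∀ i, u i = ∑ l, algebraMap k K (B i l) * (![(1 : K), x, y] : Fin 3 → K) l) ∧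
      u 0 ≠ 0 ∧ (∀ i, Q.1 (u i) ≤ Q.1 (u 0)) ∧
      KaehlerDifferential.D k K (u 1 / u 0) ≠ 0 ∧
      (Module.finrank k⟮u 1 / u 0⟯ K : ℤ) = (mapDiv k ![(1 : K), x, y]).deg := by
  classical
  set φ : Fin 3 → K := ![(1 : K), x, y] with hφdef
  set Lc : (Fin 3 → k) →ₗ[k] K := Fintype.linearCombination k φ with hLc
  have hLc_apply : ∀ ℓ, Lc ℓ = ∑ l, algebraMap k K (ℓ l) * φ l := by
    intro ℓ
    rw [hLc, Fintype.linearCombination_apply]
    exact Finset.sum_congr rfl (fun l _ => Algebra.smul_def _ _)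
  have hLc_single : ∀ i, Lc (Pi.single i 1) = φ i := by
    intro i
    rw [hLc, Fintype.linearCombination_apply_single, one_smul]
  have hmax : ∀ P : Place k K, (∀ i, P.1 (φ i) ≤ WithZero.exp (mapDiv k φ P)) ∧
      ∃ i, P.1 (φ i) = WithZero.exp (mapDiv k φ P) := fun P => maxval_spec hK φ 0 rfl P
  have hLle : ∀ (P : Place k K) ℓ, P.1 (Lc ℓ) ≤ WithZero.exp (mapDiv k φ P) := by
    intro P ℓ
    rw [hLc_apply]
    apply P.1.map_sum_le
    intro l _
    rw [map_mul]
    exact (mul_le_mul' (P.2.1 _) ((hmax P).1 l)).trans_eq (one_mul _)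
  let V : Place k K → Submodule k (Fin 3 → k) := fun P =>
    Submodule.comap Lc (ballSub P (WithZero.exp (mapDiv k φ P)) WithZero.exp_ne_zero)
  have hV : ∀ P, V P ≠ ⊤ := by
    intro P h
    obtain ⟨i, hi⟩ := (hmax P).2
    have h1 : (Pi.single i 1 : Fin 3 → k) ∈ V P := by rw [h]; trivial
    have h2 : P.1 (Lc (Pi.single i 1)) < WithZero.exp (mapDiv k φ P) := h1
    rw [hLc_single, hi] at h2
    exact lt_irrefl _ h2
  have hVnot : ∀ P ℓ, ℓ ∉ V P → P.1 (Lc ℓ) = WithZero.exp (mapDiv k φ P) := by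
    intro P ℓ hℓ
    apply le_antisymm (hLle P ℓ)
    have : ¬ P.1 (Lc ℓ) < WithZero.exp (mapDiv k φ P) := hℓ
    exact not_lt.mp this
  -- the first row
  obtain ⟨r₀, hr₀⟩ : ∃ r₀, r₀ ∉ V Q := by
    by_contra hcon
    push Not at hcon
    exact hV Q (eq_top_iff.mpr (fun ℓ _ => hcon ℓ))
  set u0 := Lc r₀ with hu0def
  have hQu0 : Q.1 u0 = WithZero.exp (mapDiv k φ Q) := hVnot Q r₀ hr₀
  have hu0 : u0 ≠ 0 := by
    intro h
    rw [h, map_zero] at hQu0
    exact WithZero.exp_ne_zero hQu0.symm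
  have hr₀ne : r₀ ≠ 0 := by
    rintro rfl
    exact hu0 (map_zero _)
  set D' : Divisor k K := mapDiv k φ + FunFld.div k u0 with hD'
  -- the subspace where the differential vanishes
  let W₁ : Submodule k (Fin 3 → k) :=
    LinearMap.ker (((KaehlerDifferential.D k K : K →ₗ[k] Ω[K⁄k])) ∘ₗ
      (LinearMap.mulRight k u0⁻¹) ∘ₗ Lc)
  have hW₁mem : ∀ ℓ, ℓ ∈ W₁ ↔ KaehlerDifferential.D k K (Lc ℓ * u0⁻¹) = 0 := fun ℓ => Iff.rfl
  have hW₁ : W₁ ≠ ⊤ := by
    intro h
    have h0 : KaehlerDifferential.D k K (u0⁻¹) = 0 := by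
      have : (Pi.single 0 1 : Fin 3 → k) ∈ W₁ := by rw [h]; trivial
      rw [hW₁mem, hLc_single] at this
      have e : φ 0 = 1 := rfl
      rwa [e, one_mul] at this
    have h1 : KaehlerDifferential.D k K (x * u0⁻¹) = 0 := by
      have : (Pi.single 1 1 : Fin 3 → k) ∈ W₁ := by rw [h]; trivial
      rw [hW₁mem, hLc_single] at this
      exact this
    apply hdx
    have e : x = (x * u0⁻¹) / u0⁻¹ := by
      rw [mul_div_assoc, div_self (inv_ne_zero hu0), mul_one]
    rw [e, Derivation.leibniz_div_const _ _ _ h0, h1, smul_zero]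
  -- the second row
  let p : Option D'.support → Submodule k (Fin 3 → k) := fun o =>
    match o with
    | none => W₁
    | some P => V P.1
  have hp : ∀ o, p o ≠ ⊤ := by
    intro o
    cases o with
    | none => exact hW₁
    | some P => exact hV P.1
  obtain ⟨r₁, hr₁⟩ := Submodule.exists_forall_notMem_of_forall_ne_top p hp
  have hr₁W : r₁ ∉ W₁ := hr₁ none
  have hr₁V : ∀ P ∈ D'.support, r₁ ∉ V P := fun P hP => hr₁ (some ⟨P, hP⟩)
  have hspan : ∀ a : k, a • r₀ ≠ r₁ := by
    intro a ha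
    apply hr₁W
    rw [hW₁mem, ← ha, map_smul, ← hu0def, smul_mul_assoc, mul_inv_cancel₀ hu0,
      Algebra.smul_def, mul_one]
    exact (KaehlerDifferential.D k K).map_algebraMap a
  obtain ⟨A, B, hAB, hBA, hB0, hB1⟩ := exists_inverse_of_rows r₀ r₁ hr₀ne hspan
  set u : Fin 3 → K := fun i => Lc (B i) with hu
  have hu_apply : ∀ i, u i = ∑ l, algebraMap k K (B i l) * φ l := fun i => hLc_apply (B i)
  have hu0' : u 0 = u0 := by rw [hu, hu0def]; show Lc (B 0) = Lc r₀; rw [hB0]
  have hu1' : u 1 = Lc r₁ := by rw [hu]; show Lc (B 1) = Lc r₁; rw [hB1]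
  have hDx' : KaehlerDifferential.D k K (u 1 / u 0) ≠ 0 := by
    rw [hu0', hu1', div_eq_mul_inv]
    exact fun h => hr₁W ((hW₁mem r₁).mpr h)
  refine ⟨A, B, u, hAB, hBA, hu_apply, by rw [hu0']; exact hu0, ?_, hDx', ?_⟩
  · intro i
    rw [hu0', hQu0]
    exact hLle Q (B i)
  · -- the degree
    have hAdet : A.det ≠ 0 := by
      intro h
      have := congrArg Matrix.det hAB
      rw [Matrix.det_mul, h, zero_mul, Matrix.det_one] at this
      exact zero_ne_one this
    have hφu : ∀ i, ∑ j, algebraMap k K (A i j) * u j = (![(1 : K), x, y] : Fin 3 → K) i := by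
      intro i
      simp_rw [hu_apply, Finset.mul_sum]
      rw [Finset.sum_comm]
      have : ∀ l, ∑ j, algebraMap k K (A i j) * (algebraMap k K (B j l) * φ l) =
          algebraMap k K ((A * B) i l) * φ l := by
        intro l
        rw [Matrix.mul_apply, map_sum, Finset.sum_mul]
        refine Finset.sum_congr rfl (fun j _ => ?_)
        rw [map_mul]; ring
      simp_rw [this, hAB, Matrix.one_apply]
      rw [Finset.sum_eq_single i]
      · rw [if_pos rfl, map_one, one_mul]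
      · intro l _ hl
        rw [if_neg (Ne.symm hl), map_zero, zero_mul]
      · intro h; exact absurd (Finset.mem_univ i) h
    have hu0ne : u 0 ≠ 0 := by rw [hu0']; exact hu0
    have hmap : mapDiv k ![(1 : K), u 1 / u 0, u 2 / u 0] = D' := by
      ext P
      rw [hD', Finsupp.add_apply, mapDiv_change hK x y A hAdet u hφu hu0ne P, FF.div_apply' hK,
        hu0']
    have hx'tr : Transcendental k (u 1 / u 0) := (sep_of_D_ne_zero hK hDx').1
    have hD'0 : 0 ≤ D' := by
      rw [← hmap]; exact Groth.Agent.Lib.Helper23.FF.plane_mapDiv_nonneg hK _ _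
    have hx'L : u 1 / u 0 ∈ L D' := by
      rw [← hmap]; exact Groth.Agent.Lib.Helper23.FF.plane_x_mem hK _ _
    have hx'S : ∀ P ∈ D'.support, P.1 (u 1 / u 0) = WithZero.exp (D' P) := by
      intro P hP
      have h1 : P.1 (u 1) = WithZero.exp (mapDiv k φ P) := by
        rw [hu1']; exact hVnot P r₁ (hr₁V P hP)
      rw [map_div₀, h1, hu0', Groth.Agent.Lib.Helper23.FF.val_eq_exp_neg_ord P hu0, hD',
        Finsupp.add_apply, FF.div_apply' hK, ← WithZero.exp_sub]
      congr 1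
      ring
    rw [finrank_eq_deg_of_poles hK hx'tr D' hD'0 hx'L hx'S, hD', FF.deg_add, FF.deg_div hK,
      add_zero]

end AC

end Groth.Agent.Lib.Helper27.Adj
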