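import Mathlib
import Groth.Agent.Lib.Helper27.Adj14

/-! Adjoint divisor, part 15: linear substitutions in ternary forms. -/

set_option autoImplicit false

namespace Groth.Agent.Lib.Helper27.Adj

open FunFld IntermediateField MvPolynomial

universe u v
variable {k : Type u} {K : Type v} [Field k] [Field K] [Algebra k K]

/-- the linear substitution attached to a matrix -/
noncomputable def linSubst (A : Matrix (Fin 3) (Fin 3) k) : Fin 3 → MvPolynomial (Fin 3) k :=
  fun i => ∑ j, C (A i j) * X j

theorem linSubst_isHomogeneous (A : Matrix (Fin 3) (Fin 3) k) {F : MvPolynomial (Fin 3) k} {e : ℕ}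
    (hF : F.IsHomogeneous e) : (aeval (linSubst A) F).IsHomogeneous e := by
  have := hF.aeval (linSubst A) (n := 1) (fun i => by
    unfold linSubst
    apply IsHomogeneous.sum
    intro j _
    exact isHomogeneous_C_mul_X _ _)
  rwa [one_mul] at this

theorem aeval_linSubst {B : Type*} [CommRing B] [Algebra k B] (A : Matrix (Fin 3) (Fin 3) k)
    (u : Fin 3 → B) (i : Fin 3) :
    aeval u (linSubst A i) = ∑ j, algebraMap k B (A i j) * u j := by
  unfold linSubst
  rw [map_sum]
  refine Finset.sum_congr rfl (fun j _ => ?_)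
  rw [map_mul, aeval_C, aeval_X]

theorem aeval_aeval_linSubst {B : Type*} [CommRing B] [Algebra k B] (A : Matrix (Fin 3) (Fin 3) k)
    (u : Fin 3 → B) (F : MvPolynomial (Fin 3) k) :
    aeval u (aeval (linSubst A) F) = aeval (fun i => ∑ j, algebraMap k B (A i j) * u j) F := by
  have h := MvPolynomial.comp_aeval (R := k) (f := linSubst A)
    (φ := (aeval u : MvPolynomial (Fin 3) k →ₐ[k] B))
  have h2 := DFunLike.congr_fun h F
  rw [AlgHom.comp_apply] at h2
  rw [h2]
  congr 2
  funext i
  exact aeval_linSubst A u i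

theorem lin_inverse {B' : Type*} [CommRing B'] [Algebra k B'] (A B : Matrix (Fin 3) (Fin 3) k)
    (hAB : A * B = 1) (φ u : Fin 3 → B')
    (hu : ∀ i, u i = ∑ l, algebraMap k B' (B i l) * φ l) (i : Fin 3) :
    ∑ j, algebraMap k B' (A i j) * u j = φ i := by
  simp_rw [hu, Finset.mul_sum]
  rw [Finset.sum_comm]
  have : ∀ l, ∑ j, algebraMap k B' (A i j) * (algebraMap k B' (B j l) * φ l) =
      algebraMap k B' ((A * B) i l) * φ l := by
    intro l
    rw [Matrix.mul_apply, map_sum, Finset.sum_mul]
    refine Finset.sum_congr rfl (fun j _ => ?_)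
    rw [map_mul]; ring
  simp_rw [this, hAB, Matrix.one_apply]
  rw [Finset.sum_eq_single i]
  · rw [if_pos rfl, map_one, one_mul]
  · intro l _ hl
    rw [if_neg (Ne.symm hl), map_zero, zero_mul]
  · intro h; exact absurd (Finset.mem_univ i) h

theorem linSubst_linSubst (A B : Matrix (Fin 3) (Fin 3) k) (hAB : A * B = 1)
    (F : MvPolynomial (Fin 3) k) :
    aeval (linSubst B) (aeval (linSubst A) F) = F := by
  rw [aeval_aeval_linSubst]
  have : (fun i => ∑ j, algebraMap k (MvPolynomial (Fin 3) k) (A i j) * linSubst B j) = X := by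
    funext i
    have h := lin_inverse (B' := MvPolynomial (Fin 3) k) A B hAB X (linSubst B)
      (fun i => rfl) i
    exact h
  rw [this, aeval_X_left, AlgHom.id_apply]

theorem linSubst_ne_zero (A B : Matrix (Fin 3) (Fin 3) k) (hAB : A * B = 1)
    {F : MvPolynomial (Fin 3) k} (hF : F ≠ 0) : aeval (linSubst A) F ≠ 0 := by
  intro h
  apply hF
  rw [← linSubst_linSubst A B hAB F, h, map_zero]

/-- The transformed form vanishes at the new coordinates. -/
theorem aeval_linSubst_eq_zero (A : Matrix (Fin 3) (Fin 3) k) {F : MvPolynomial (Fin 3) k}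
    {e : ℕ} (hF : F.IsHomogeneous e) (φ u : Fin 3 → K)
    (hφu : ∀ i, ∑ j, algebraMap k K (A i j) * u j = φ i) (hFφ : aeval φ F = 0) (hu0 : u 0 ≠ 0) :
    aeval ![(1 : K), u 1 / u 0, u 2 / u 0] (aeval (linSubst A) F) = 0 := by
  have h1 : aeval u (aeval (linSubst A) F) = 0 := by
    rw [aeval_aeval_linSubst]
    have : (fun i => ∑ j, algebraMap k K (A i j) * u j) = φ := funext hφu
    rw [this, hFφ]
  have h2 := aeval_smul_of_isHomogeneous _ (linSubst_isHomogeneous A hF) (u 0)
    ![(1 : K), u 1 / u 0, u 2 / u 0]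
  have h3 : (fun i => u 0 * (![(1 : K), u 1 / u 0, u 2 / u 0] : Fin 3 → K) i) = u := by
    funext i
    fin_cases i
    · show u 0 * 1 = u 0
      rw [mul_one]
    · show u 0 * (u 1 / u 0) = u 1
      field_simp
    · show u 0 * (u 2 / u 0) = u 2
      field_simp
  rw [h3, h1] at h2
  rcases mul_eq_zero.mp h2.symm with h | h
  · exact absurd (pow_eq_zero_iff'.mp h).1 hu0
  · exact h

/-- The new affine coordinates generate the function field. -/
theorem adjoin_new_coords (A : Matrix (Fin 3) (Fin 3) k) (x y : K) (u : Fin 3 → K)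
    (hφu : ∀ i, ∑ j, algebraMap k K (A i j) * u j = (![(1 : K), x, y] : Fin 3 → K) i)
    (hu0 : u 0 ≠ 0) (hxy : IntermediateField.adjoin k ({x, y} : Set K) = ⊤) :
    IntermediateField.adjoin k ({u 1 / u 0, u 2 / u 0} : Set K) = ⊤ := by
  set E := IntermediateField.adjoin k ({u 1 / u 0, u 2 / u 0} : Set K) with hE
  have hψ : ∀ j, u j / u 0 ∈ E := by
    intro j
    fin_cases j
    · show u 0 / u 0 ∈ E
      rw [div_self hu0]; exact one_mem E
    · exact IntermediateField.subset_adjoin k _ (by simp)
    · exact IntermediateField.subset_adjoin k _ (by simp)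
  have hφ : ∀ i, (![(1 : K), x, y] : Fin 3 → K) i / u 0 ∈ E := by
    intro i
    rw [← hφu i, Finset.sum_div]
    apply sum_mem
    intro j _
    rw [mul_div_assoc]
    exact mul_mem (IntermediateField.algebraMap_mem E _) (hψ j)
  have h0 : (1 : K) / u 0 ∈ E := hφ 0
  have h1 : x / u 0 ∈ E := hφ 1
  have h2 : y / u 0 ∈ E := hφ 2
  have hx : x ∈ E := by
    have : x = (x / u 0) / (1 / u 0) := by field_simp
    rw [this]
    exact div_mem h1 h0
  have hy : y ∈ E := by
    have : y = (y / u 0) / (1 / u 0) := by field_simp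
    rw [this]
    exact div_mem h2 h0
  rw [eq_top_iff, ← hxy, IntermediateField.adjoin_le_iff]
  intro z hz
  rcases hz with rfl | hz
  · exact hx
  · rw [Set.mem_singleton_iff] at hz; rw [hz]; exact hy

end Groth.Agent.Lib.Helper27.Adj
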