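import Mathlib
import Groth.Agent.Lib.Helper27.FFExt2
import Groth.Agent.Lib.Helper12.DimFT

/-! Valuation rings of the function field of an affine curve (helper27). -/

set_option autoImplicit false

namespace Groth.Agent.Lib.Helper27.AffCurveVal

open FunFld Groth.Agent.Lib.Helper27.FF IntermediateField

universe u

variable (k A F : Type u) [Field k] [CommRing A] [IsDomain A] [Algebra k A]
  [Algebra.FiniteType k A] [Field F] [Algebra A F] [IsFractionRing A F] [Algebra k F]
  [IsScalarTower k A F]

/-- The fraction field of a one-dimensional finitely generated domain is finite over `k(x)`. -/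
theorem exists_transcendental_finite (hA : ringKrullDim A = 1) :
    ∃ x : F, Transcendental k x ∧ FiniteDimensional k⟮x⟯ F := by
  obtain ⟨s, hs, -, g, hinj, hint⟩ := Groth.Agent.Lib.Helper12.DimFT.exists_dim_eq_trdeg k A
  have hs1 : s = 1 := by
    rw [hA] at hs
    exact_mod_cast hs.symm
  subst hs1
  set φ : MvPolynomial (Fin 1) k →ₐ[k] F := (IsScalarTower.toAlgHom k A F).comp g with hφ
  have hφinj : Function.Injective φ := by
    rw [hφ]
    exact (IsFractionRing.injective A F).comp hinj
  set x : F := φ (MvPolynomial.X 0) with hx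
  have htr : Transcendental k x := by
    intro halg
    rw [hx, isAlgebraic_algHom_iff φ hφinj] at halg
    exact (MvPolynomial.algebraicIndependent_X (Fin 1) k).transcendental 0 halg
  refine ⟨x, htr, ?_⟩
  -- `φ` lands in `k(x)`
  have hmem : ∀ c, φ c ∈ k⟮x⟯.toSubalgebra := by
    intro c
    induction c using MvPolynomial.induction_on with
    | C a =>
      have : φ (MvPolynomial.C a) = algebraMap k F a := by
        rw [← MvPolynomial.algebraMap_eq, φ.commutes]
      rw [this]
      exact k⟮x⟯.algebraMap_mem a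
    | add p q hp hq => rw [map_add]; exact add_mem hp hq
    | mul_X p i hp =>
      rw [map_mul]
      refine mul_mem hp ?_
      have : i = 0 := Subsingleton.elim _ _
      rw [this]
      exact mem_adjoin_simple_self k x
  letI : Algebra (MvPolynomial (Fin 1) k) F := φ.toRingHom.toAlgebra
  letI : Algebra (MvPolynomial (Fin 1) k) k⟮x⟯ :=
    (φ.codRestrict k⟮x⟯.toSubalgebra hmem).toRingHom.toAlgebra
  haveI : IsScalarTower (MvPolynomial (Fin 1) k) k⟮x⟯ F :=
    IsScalarTower.of_algebraMap_eq (fun _ => rfl)
  have hAint : ∀ a : A, IsAlgebraic k⟮x⟯ (algebraMap A F a) := by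
    intro a
    obtain ⟨p, hp, hp0⟩ := hint a
    have h1 : IsIntegral (MvPolynomial (Fin 1) k) (algebraMap A F a) := by
      refine ⟨p, hp, ?_⟩
      have h2 := congrArg (algebraMap A F) hp0
      rw [Polynomial.hom_eval₂, map_zero] at h2
      exact h2
    exact (h1.tower_top (A := k⟮x⟯)).isAlgebraic
  haveI : Algebra.IsAlgebraic k⟮x⟯ F := by
    refine ⟨fun y => ?_⟩
    obtain ⟨a, b, -, rfl⟩ := IsFractionRing.div_surjective (A := A) y
    rw [← mem_algebraicClosure_iff]
    exact div_mem (mem_algebraicClosure_iff.mpr (hAint a)) (mem_algebraicClosure_iff.mpr (hAint b))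
  haveI : Algebra.EssFiniteType A F := Algebra.EssFiniteType.of_isLocalization F (nonZeroDivisors A)
  haveI : Algebra.EssFiniteType k F := Algebra.EssFiniteType.comp k A F
  haveI : Algebra.EssFiniteType k⟮x⟯ F := Algebra.EssFiniteType.of_comp k k⟮x⟯ F
  exact Algebra.finite_of_essFiniteType_of_isAlgebraic

theorem ord_neg_of_one_lt {κ K : Type*} [Field κ] [Field K] [Algebra κ K] {p : Place κ K} {f : K}
    (h : 1 < p.1 f) : p.ord f < 0 := by
  have h0 : p.1 f ≠ 0 := (zero_lt_one.trans h).ne'
  obtain ⟨n, hn⟩ : ∃ n : ℤ, p.1 f = WithZero.exp n := ⟨_, (WithZero.exp_log h0).symm⟩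
  unfold Place.ord
  rw [hn, WithZero.log_exp]
  rw [hn, ← WithZero.exp_zero, WithZero.exp_lt_exp] at h
  omega

/-- finitely many valuation rings containing `k` omit a given element. -/
theorem finite_not_mem (hA : ringKrullDim A = 1) (y : F) :
    {O : ValuationSubring F | (algebraMap k F).range ≤ O.toSubring ∧ y ∉ O}.Finite := by
  obtain ⟨x, hx, hfin⟩ := exists_transcendental_finite k A F hA
  haveI := hfin
  have hxk' : Transcendental (algebraicClosure k F) x :=
    fun halg => hx (IsAlgebraic.restrictScalars k halg)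
  obtain ⟨h1, h2⟩ := finite_of_finite_adjoin_simple (k := k) hxk'
  have hK' : IsFunctionField (algebraicClosure k F) F :=
    ⟨⟨x, hxk', h2⟩, fun z hz =>
      ⟨⟨z, mem_algebraicClosure_iff.mpr (IsAlgebraic.restrictScalars k hz)⟩, rfl⟩⟩
  have hfs := finite_support_ord hK' y
  refine (hfs.image (fun P : Place (algebraicClosure k F) F => (P.O : ValuationSubring F))).subset ?_
  rintro O ⟨hk, hy⟩
  have hk' : ∀ c : algebraicClosure k F, algebraMap (algebraicClosure k F) F c ∈ O := by
    intro c
    rw [← O.valuation_le_one_iff]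
    exact val_le_one_of_isIntegral (R := k) O.valuation
      (fun r => (O.valuation_le_one_iff _).mpr (hk ⟨r, rfl⟩))
      ((mem_algebraicClosure_iff.mp c.2).isIntegral)
  have hy0 : y ≠ 0 := by rintro rfl; exact hy O.zero_mem
  have hgt : 1 < O.valuation y := by
    rw [← not_le, O.valuation_le_one_iff]; exact hy
  have hlt : O.valuation y⁻¹ < 1 := by
    rw [map_inv₀]
    exact inv_lt_one_of_one_lt₀ hgt
  obtain ⟨P, hP⟩ := exists_place_of_valuationSubring hK' O hk' (inv_ne_zero hy0) hlt
  refine ⟨P, ?_, ?_⟩
  · rw [Function.mem_support]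
    have : 1 < P.1 y := by
      rw [← not_le, hP]; exact hy
    exact (ord_neg_of_one_lt this).ne
  · ext z
    show z ∈ P.1.valuationSubring ↔ z ∈ O
    rw [Valuation.mem_valuationSubring_iff, hP]

/-- the theorem. -/
theorem main (hA : ringKrullDim A = 1) :
    {O : ValuationSubring F | (algebraMap k F).range ≤ O.toSubring ∧
        ¬ (algebraMap A F).range ≤ O.toSubring}.Finite := by
  classical
  obtain ⟨S, hS⟩ := Algebra.FiniteType.out (R := k) (A := A)
  refine (Set.Finite.biUnion S.finite_toSet
    (fun a _ => finite_not_mem k A F hA (algebraMap A F a))).subset ?_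
  rintro O ⟨hk, hnot⟩
  rw [Set.mem_iUnion₂]
  by_contra hcon
  push Not at hcon
  apply hnot
  rintro _ ⟨a, rfl⟩
  have ha : a ∈ Algebra.adjoin k (S : Set A) := by rw [hS]; trivial
  show algebraMap A F a ∈ O
  induction ha using Algebra.adjoin_induction with
  | mem b hb =>
    by_contra hb'
    exact hcon b hb ⟨hk, hb'⟩
  | algebraMap c =>
    rw [← IsScalarTower.algebraMap_apply k A F]
    exact hk ⟨c, rfl⟩
  | add p q _ _ hp hq => rw [map_add]; exact O.add_mem _ _ hp hq
  | mul p q _ _ hp hq => rw [map_mul]; exact O.mul_mem _ _ hp hq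

end Groth.Agent.Lib.Helper27.AffCurveVal
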