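import Mathlib

/-!
# Sections over opens of a normal integral affine open (helper27)

* `exists_algebraMap_eq_of_isIntegral_away`: an element of `A[1/a]` integral over an integrally
  closed domain `A` lies in `A`.
* `restrict_injective_and_integral`: for an affine open `W` with `Γ(X, W)` an integrally closed
  domain and a nonempty open `V ≤ W`, restriction `Γ(X, W) → Γ(X, V)` is injective and every
  section over `V` integral over `Γ(X, W)` is a restriction.
-/

set_option autoImplicit false
universe u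

open AlgebraicGeometry CategoryTheory TopologicalSpace

namespace Groth.Agent.Lib.Helper27.NormDenseA

theorem exists_algebraMap_eq_of_isIntegral_away {A B : Type*} [CommRing A] [IsDomain A]
    [IsIntegrallyClosed A] [CommRing B] [Algebra A B] (a : A) (ha : a ≠ 0)
    [IsLocalization.Away a B] (b : B) (hb : (algebraMap A B).IsIntegralElem b) :
    ∃ r : A, algebraMap A B r = b := by
  have hle : Submonoid.powers a ≤ nonZeroDivisors A :=
    powers_le_nonZeroDivisors_of_noZeroDivisors ha
  have hg : ∀ y : Submonoid.powers a, IsUnit (algebraMap A (FractionRing A) y) := fun y =>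
    IsLocalization.map_units (FractionRing A) (⟨y.1, hle y.2⟩ : nonZeroDivisors A)
  obtain ⟨φ, hφ⟩ : ∃ φ : B →+* FractionRing A, φ = IsLocalization.lift hg := ⟨_, rfl⟩
  have hcomp : ∀ x : A, φ (algebraMap A B x) = algebraMap A (FractionRing A) x := fun x => by
    rw [hφ, IsLocalization.lift_eq]
  have hinjB : Function.Injective (algebraMap A B) := IsLocalization.injective B hle
  have hφinj : Function.Injective φ := by
    rw [hφ, IsLocalization.lift_injective_iff]
    intro x y
    constructor
    · intro h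
      rw [hinjB h]
    · intro h
      rw [IsFractionRing.injective A (FractionRing A) h]
  obtain ⟨p, hp, hp0⟩ := hb
  have hint : IsIntegral A (φ b) := by
    refine ⟨p, hp, ?_⟩
    have : (algebraMap A (FractionRing A)) = φ.comp (algebraMap A B) := by
      ext x; exact (hcomp x).symm
    rw [this, ← Polynomial.hom_eval₂, hp0, map_zero]
  obtain ⟨r, hr⟩ := IsIntegrallyClosed.isIntegral_iff.mp hint
  refine ⟨r, hφinj ?_⟩
  rw [hcomp, hr]

theorem restrict_injective_and_integral {X : Scheme.{u}} {W : X.Opens} (hW : IsAffineOpen W)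
    [IsDomain Γ(X, W)] [IsIntegrallyClosed Γ(X, W)] (V : X.Opens) (hVW : V ≤ W)
    (hV : (V : Set X).Nonempty) :
    Function.Injective (X.presheaf.map (homOfLE hVW).op).hom ∧
      ∀ c : Γ(X, V), (X.presheaf.map (homOfLE hVW).op).hom.IsIntegralElem c →
        ∃ r : Γ(X, W), (X.presheaf.map (homOfLE hVW).op).hom r = c := by
  -- basic facts about basic opens inside `V`
  have hbasic : ∀ x : X, x ∈ V → ∃ a : Γ(X, W), X.basicOpen a ≤ V ∧ x ∈ X.basicOpen a :=
    fun x hx => hW.exists_basicOpen_le ⟨x, hx⟩ (hVW hx)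
  have hne : ∀ (a : Γ(X, W)) (x : X), x ∈ X.basicOpen a → a ≠ 0 := by
    rintro a x hx rfl
    rw [Scheme.basicOpen_zero] at hx
    exact hx
  have hinjA : ∀ a : Γ(X, W), a ≠ 0 →
      Function.Injective (algebraMap Γ(X, W) Γ(X, X.basicOpen a)) := fun a ha => by
    haveI := hW.isLocalization_basicOpen a
    exact IsLocalization.injective (M := Submonoid.powers a) _
      (powers_le_nonZeroDivisors_of_noZeroDivisors ha)
  have hres : ∀ (a : Γ(X, W)) (h : X.basicOpen a ≤ V) (s : Γ(X, W)),
      (X.presheaf.map (homOfLE h).op).hom ((X.presheaf.map (homOfLE hVW).op).hom s) =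
        algebraMap Γ(X, W) Γ(X, X.basicOpen a) s := fun a h s => by
    rw [← CommRingCat.comp_apply, ← Functor.map_comp]
    rfl
  obtain ⟨x₀, hx₀⟩ := hV
  obtain ⟨a₀, ha₀V, hx₀a⟩ := hbasic x₀ hx₀
  have ha₀ : a₀ ≠ 0 := hne a₀ x₀ hx₀a
  refine ⟨?_, ?_⟩
  · intro s t hst
    apply hinjA a₀ ha₀
    rw [← hres a₀ ha₀V, ← hres a₀ ha₀V, hst]
  · intro c hc
    -- local representatives
    have hloc : ∀ (a : Γ(X, W)) (h : X.basicOpen a ≤ V), a ≠ 0 →
        ∃ r : Γ(X, W), algebraMap Γ(X, W) Γ(X, X.basicOpen a) r =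
          (X.presheaf.map (homOfLE h).op).hom c := fun a h ha => by
      haveI := hW.isLocalization_basicOpen a
      apply exists_algebraMap_eq_of_isIntegral_away a ha
      obtain ⟨p, hp, hp0⟩ := hc
      refine ⟨p, hp, ?_⟩
      have : algebraMap Γ(X, W) Γ(X, X.basicOpen a) =
          (X.presheaf.map (homOfLE h).op).hom.comp (X.presheaf.map (homOfLE hVW).op).hom := by
        ext s; exact (hres a h s).symm
      rw [this, ← Polynomial.hom_eval₂, hp0, map_zero]
    obtain ⟨r, hr⟩ := hloc a₀ ha₀V ha₀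
    refine ⟨r, ?_⟩
    have key : ∀ (a : Γ(X, W)) (haV : X.basicOpen a ≤ V) (x : X) (hxa : x ∈ X.basicOpen a),
        (X.presheaf.map (homOfLE haV).op).hom ((X.presheaf.map (homOfLE hVW).op).hom r) =
          (X.presheaf.map (homOfLE haV).op).hom c := by
      intro a haV x hxa
      have ha : a ≠ 0 := hne a x hxa
      rw [hres a haV r]
      obtain ⟨r', hr'⟩ := hloc a haV ha
      rw [← hr']
      congr 1
      -- `r = r'` by comparing on `D(a₀ a)`
      have hmul : a₀ * a ≠ 0 := mul_ne_zero ha₀ ha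
      have hle1 : X.basicOpen (a₀ * a) ≤ X.basicOpen a₀ := by
        rw [Scheme.basicOpen_mul]; exact inf_le_left
      have hle2 : X.basicOpen (a₀ * a) ≤ X.basicOpen a := by
        rw [Scheme.basicOpen_mul]; exact inf_le_right
      apply hinjA (a₀ * a) hmul
      rw [← hres (a₀ * a) (hle1.trans ha₀V) r, ← hres (a₀ * a) (hle2.trans haV) r']
      have hcc : ∀ (U₁ U₂ : X.Opens) (h₁ : U₁ ≤ U₂) (h₂ : U₂ ≤ V) (s : Γ(X, V)),
          (X.presheaf.map (homOfLE (h₁.trans h₂)).op).hom s =
            (X.presheaf.map (homOfLE h₁).op).hom ((X.presheaf.map (homOfLE h₂).op).hom s) := by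
        intro U₁ U₂ h₁ h₂ s
        rw [← CommRingCat.comp_apply, ← Functor.map_comp]; rfl
      have e3 : (X.presheaf.map (homOfLE (hle1.trans ha₀V)).op).hom
          ((X.presheaf.map (homOfLE hVW).op).hom r) =
          (X.presheaf.map (homOfLE (hle1.trans ha₀V)).op).hom c := by
        rw [hcc _ _ hle1 ha₀V c, ← hr, ← hres a₀ ha₀V r, ← hcc _ _ hle1 ha₀V]
      have e4 : (X.presheaf.map (homOfLE (hle2.trans haV)).op).hom
          ((X.presheaf.map (homOfLE hVW).op).hom r') =
          (X.presheaf.map (homOfLE (hle2.trans haV)).op).hom c := by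
        rw [hcc _ _ hle2 haV c, ← hr', ← hres a haV r', ← hcc _ _ hle2 haV]
      rw [e3, e4]
    refine X.sheaf.eq_of_locally_eq' (fun x : V => X.basicOpen (hbasic x.1 x.2).choose) V
      (fun x => homOfLE (hbasic x.1 x.2).choose_spec.1) ?_ _ _ ?_
    · intro x hx
      exact Opens.mem_iSup.mpr ⟨⟨x, hx⟩, (hbasic x hx).choose_spec.2⟩
    · intro x
      exact key _ (hbasic x.1 x.2).choose_spec.1 x.1 (hbasic x.1 x.2).choose_spec.2

end Groth.Agent.Lib.Helper27.NormDenseA
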