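import Mathlib
import Groth.Prelude.Def_Pi1
import Groth.Agent.Lib.Helper27.NormDenseA

/-!
# Relative normalization of a normal scheme in a dense open (helper27)

For a locally Noetherian normal scheme `X` and a dense open immersion `j : U ⟶ X`, the relative
normalization of `X` in `U` is `X` itself: `j.fromNormalization` is an isomorphism.
-/

set_option autoImplicit false
universe u

open AlgebraicGeometry CategoryTheory TopologicalSpace

namespace Groth.Agent.Lib.Helper27.NormDenseB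

theorem isIntegrallyClosed_sections_of_isDomain {X : Scheme.{u}} (hX : Pi1.IsNormalScheme X)
    {U : X.Opens} (hU : IsAffineOpen U) [IsDomain Γ(X, U)] : IsIntegrallyClosed Γ(X, U) := by
  refine IsIntegrallyClosed.of_localization_maximal (fun p _ hp => ?_)
  haveI : p.IsPrime := hp.isPrime
  have hy : hU.fromSpec ⟨p, inferInstance⟩ ∈ U := (hU.isoSpec.inv _).2
  letI : Algebra Γ(X, U) (X.presheaf.stalk (hU.fromSpec ⟨p, inferInstance⟩)) :=
    TopCat.Presheaf.algebra_section_stalk X.presheaf ⟨hU.fromSpec ⟨p, inferInstance⟩, hy⟩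
  haveI : IsLocalization.AtPrime (X.presheaf.stalk (hU.fromSpec ⟨p, inferInstance⟩)) p :=
    hU.isLocalization_stalk' ⟨p, inferInstance⟩ hy
  haveI := (hX (hU.fromSpec ⟨p, inferInstance⟩)).2
  haveI := (hX (hU.fromSpec ⟨p, inferInstance⟩)).1
  exact IsIntegrallyClosed.of_equiv (IsLocalization.algEquiv p.primeCompl
    (X.presheaf.stalk (hU.fromSpec ⟨p, inferInstance⟩)) (Localization.AtPrime p)).toRingEquiv

theorem exists_affine_normal_nhd {X : Scheme.{u}} [IsLocallyNoetherian X]
    (hX : Pi1.IsNormalScheme X) (x : X) (V : X.Opens) (hxV : x ∈ V) :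
    ∃ W : X.Opens, x ∈ W ∧ IsAffineOpen W ∧ W ≤ V ∧ IsDomain Γ(X, W) ∧
      IsIntegrallyClosed Γ(X, W) := by
  have : IsDomain (X.presheaf.stalk x) := (hX x).1
  obtain ⟨W, hxW, hWaff, hWle, hinj⟩ := X.exists_le_and_germ_injective x V hxV
  have hdomW : IsDomain Γ(X, W) := Function.Injective.isDomain (X.presheaf.germ W x hxW).hom hinj
  exact ⟨W, hxW, hWaff, hWle, hdomW, isIntegrallyClosed_sections_of_isDomain hX hWaff⟩

theorem isIso_fromNormalization_of_dense {U X : Scheme.{u}} [IsLocallyNoetherian X]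
    (hX : Pi1.IsNormalScheme X) (j : U ⟶ X) [IsOpenImmersion j] [QuasiCompact j]
    [QuasiSeparated j] (hj : Dense (Set.range j)) : IsIso j.fromNormalization := by
  apply IsZariskiLocalAtTarget.of_forall_exists_morphismRestrict
    (P := MorphismProperty.isomorphisms Scheme) fun x => ?_
  obtain ⟨W, hxW, hW, -, hdom, hic⟩ := exists_affine_normal_nhd hX x ⊤ trivial
  refine ⟨W, hxW, (isIso_morphismRestrict_iff_isIso_app _ hW).mpr ?_⟩
  rw [Scheme.Hom.fromNormalization_app _ hW]
  letI := (j.app W).hom.toAlgebra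
  suffices h : Function.Bijective (algebraMap Γ(X, W) (integralClosure Γ(X, W)
      Γ(U, j ⁻¹ᵁ W))) by
    haveI : IsIso (CommRingCat.ofHom (algebraMap Γ(X, W) (integralClosure Γ(X, W)
      Γ(U, j ⁻¹ᵁ W)))) :=
      (ConcreteCategory.isIso_iff_bijective _).mpr h
    infer_instance
  -- the open `V = W ∩ range j`
  obtain ⟨V, hVdef⟩ : ∃ V : X.Opens, V = j ''ᵁ (j ⁻¹ᵁ W) := ⟨_, rfl⟩
  have hVW : V ≤ W := by
    rw [hVdef, Scheme.Hom.image_preimage_eq_opensRange_inf]; exact inf_le_right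
  have hVr : V ≤ j.opensRange := by
    rw [hVdef]; exact j.image_le_opensRange _
  have hVne : (V : Set X).Nonempty := by
    obtain ⟨y, hyW, u, rfl⟩ := hj.inter_open_nonempty W W.isOpen ⟨x, hxW⟩
    refine ⟨j u, ?_⟩
    rw [hVdef]
    exact ⟨u, hyW, rfl⟩
  have hpre : j ⁻¹ᵁ W = j ⁻¹ᵁ V := by
    rw [hVdef, Scheme.Hom.preimage_image_eq]
  haveI : IsIso (j.app V) := j.isIso_app V hVr
  obtain ⟨ψ, hψ⟩ : ∃ ψ : Γ(X, V) ≅ Γ(U, j ⁻¹ᵁ W),
      ψ = asIso (j.app V) ≪≫ U.presheaf.mapIso (eqToIso hpre).op := ⟨_, rfl⟩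
  have hfac : j.app W = X.presheaf.map (homOfLE hVW).op ≫ ψ.hom := by
    rw [hψ]
    simp only [Iso.trans_hom, asIso_hom, Functor.mapIso_hom, Iso.op_hom, eqToIso.hom]
    rw [← Category.assoc, Scheme.Hom.naturality, Category.assoc, ← Functor.map_comp]
    convert (Category.comp_id _).symm
    exact U.presheaf.map_id _
  obtain ⟨hinj, hsurj⟩ := Groth.Agent.Lib.Helper27.NormDenseA.restrict_injective_and_integral
    hW V hVW hVne
  have hψinj : Function.Injective ψ.hom.hom :=
    (ConcreteCategory.bijective_of_isIso ψ.hom).1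
  have happ : ∀ r : Γ(X, W), (j.app W).hom r =
      ψ.hom.hom ((X.presheaf.map (homOfLE hVW).op).hom r) := fun r => by
    rw [hfac]; rfl
  constructor
  · intro a b hab
    have h1 := congrArg Subtype.val hab
    change (j.app W).hom a = (j.app W).hom b at h1
    rw [happ, happ] at h1
    exact hinj (hψinj h1)
  · rintro ⟨c, hc⟩
    obtain ⟨c', hc'⟩ := (ConcreteCategory.bijective_of_isIso ψ.hom).2 c
    have hc'int : (X.presheaf.map (homOfLE hVW).op).hom.IsIntegralElem c' := by
      obtain ⟨p, hp, hp0⟩ := hc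
      refine ⟨p, hp, ?_⟩
      apply hψinj
      rw [map_zero, Polynomial.hom_eval₂]
      have : ψ.hom.hom.comp (X.presheaf.map (homOfLE hVW).op).hom = algebraMap Γ(X, W)
          Γ(U, j ⁻¹ᵁ W) := by
        ext r; exact (happ r).symm
      rw [this]
      have hc'' : ψ.hom.hom c' = c := hc'
      rw [hc'']
      exact hp0
    obtain ⟨r, hr⟩ := hsurj c' hc'int
    refine ⟨r, Subtype.ext ?_⟩
    change (j.app W).hom r = c
    rw [happ, hr]
    exact hc'

end Groth.Agent.Lib.Helper27.NormDenseB
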