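import Mathlib
import Groth.Prelude.Def_Pi1
import Groth.Agent.Lib.Helper27.NormDenseB

/-!
# Sections of locally quasi-finite separated morphisms from normal schemes (helper27)

A section of a separated, locally quasi-finite morphism `p : P ⟶ Z` with `P` normal and locally
Noetherian is an open immersion.
-/

set_option autoImplicit false
universe u

open AlgebraicGeometry CategoryTheory TopologicalSpace

namespace Groth.Agent.Lib.Helper27.NeronFinA

theorem isReduced_of_isNormalScheme {X : Scheme.{u}} (hX : Pi1.IsNormalScheme X) : IsReduced X := by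
  haveI : ∀ x : X, _root_.IsReduced (X.presheaf.stalk x) := fun x => by
    haveI := (hX x).1
    infer_instance
  exact isReduced_of_isReduced_stalk X

theorem isOpen_range_of_section {P Z : Scheme.{u}} [IsLocallyNoetherian P]
    (hP : Pi1.IsNormalScheme P) (p : P ⟶ Z) [LocallyQuasiFinite p] [IsSeparated p]
    (σ : Z ⟶ P) (hσ : σ ≫ p = 𝟙 Z) : IsOpen (Set.range σ) := by
  haveI : IsClosedImmersion (σ ≫ p) := by rw [hσ]; infer_instance
  haveI : IsClosedImmersion σ := IsClosedImmersion.of_comp σ p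
  have hpσ : ∀ z : Z, p (σ z) = z := fun z => by
    rw [← Scheme.Hom.comp_apply, hσ]; rfl
  rw [isOpen_iff_forall_mem_open]
  rintro _ ⟨z, rfl⟩
  obtain ⟨W, hxW, hW, -, hdom, -⟩ :=
    Groth.Agent.Lib.Helper27.NormDenseB.exists_affine_normal_nhd hP (σ z) ⊤ trivial
  refine ⟨W, ?_, W.isOpen, hxW⟩
  haveI : IsAffine W := hW
  haveI : Nonempty W := ⟨⟨σ z, hxW⟩⟩
  haveI : IsDomain Γ(W.toScheme, ⊤) :=
    MulEquiv.isDomain _ (W.topIso.commRingCatIsoToRingEquiv.toMulEquiv)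
  haveI : IsIntegral W.toScheme := isIntegral_of_isAffine_of_isDomain _
  obtain ⟨ξ', hξ'⟩ : ∃ ξ' : W.toScheme, ξ' = genericPoint W.toScheme := ⟨_, rfl⟩
  obtain ⟨ξ, hξ⟩ : ∃ ξ : P, ξ = W.ι ξ' := ⟨_, rfl⟩
  have hcl : ∀ y ∈ W, ξ ⤳ y := by
    intro y hy
    have h0 : ξ' ⤳ (⟨y, hy⟩ : W.toScheme) := by
      rw [hξ']
      exact (genericPoint_spec W.toScheme).specializes trivial
    have := h0.map W.ι.continuous
    rw [hξ]
    exact this
  obtain ⟨ζ, hζ⟩ : ∃ ζ : Z, ζ = p ξ := ⟨_, rfl⟩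
  have h1 : ζ ⤳ z := by
    have := (hcl _ hxW).map p.continuous
    rw [hpσ] at this
    rw [hζ]
    exact this
  have h2 : σ ζ ⤳ σ z := h1.map σ.continuous
  have h3 : σ ζ ∈ W := h2.mem_open W.isOpen hxW
  have h4 : ξ ⤳ σ ζ := hcl _ h3
  have h5 : ξ = σ ζ := by
    have hd := p.isDiscrete_preimage_singleton ζ
    haveI : DiscreteTopology (p ⁻¹' {ζ}) := hd.to_subtype
    have hmem1 : ξ ∈ p ⁻¹' {ζ} := hζ.symm
    have hmem2 : σ ζ ∈ p ⁻¹' {ζ} := hpσ ζ
    have : (⟨ξ, hmem1⟩ : p ⁻¹' {ζ}) ⤳ ⟨σ ζ, hmem2⟩ := (subtype_specializes_iff _ _).mpr h4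
    exact congrArg Subtype.val this.eq
  intro y hy
  have hy' : y ∈ closure {ξ} := specializes_iff_mem_closure.mp (hcl y hy)
  have hξr : ξ ∈ Set.range σ := ⟨ζ, h5.symm⟩
  exact closure_minimal (Set.singleton_subset_iff.mpr hξr)
    σ.isClosedEmbedding.isClosed_range hy'

theorem isOpenImmersion_of_section {P Z : Scheme.{u}} [IsLocallyNoetherian P]
    (hP : Pi1.IsNormalScheme P) (p : P ⟶ Z) [LocallyQuasiFinite p] [IsSeparated p]
    (σ : Z ⟶ P) (hσ : σ ≫ p = 𝟙 Z) : IsOpenImmersion σ := by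
  haveI : IsClosedImmersion (σ ≫ p) := by rw [hσ]; infer_instance
  haveI hci : IsClosedImmersion σ := IsClosedImmersion.of_comp σ p
  have hopen := isOpen_range_of_section hP p σ hσ
  obtain ⟨R, hR⟩ : ∃ R : P.Opens, (R : Set P) = Set.range σ := ⟨⟨Set.range σ, hopen⟩, rfl⟩
  have hle : Set.range σ ⊆ Set.range R.ι := by
    rw [Scheme.Opens.range_ι, hR]
  obtain ⟨σ', hσ'⟩ : ∃ σ' : Z ⟶ R.toScheme, σ' ≫ R.ι = σ :=
    ⟨IsOpenImmersion.lift R.ι σ hle, IsOpenImmersion.lift_fac _ _ _⟩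
  haveI : IsClosedImmersion (σ' ≫ R.ι) := hσ'.symm ▸ hci
  haveI : IsClosedImmersion σ' := IsClosedImmersion.of_comp σ' R.ι
  haveI : Surjective σ' := by
    refine ⟨fun y => ?_⟩
    have hy : (R.ι y : P) ∈ Set.range σ := by
      rw [← hR]; exact y.2
    obtain ⟨z, hz⟩ := hy
    refine ⟨z, ?_⟩
    apply R.ι.injective
    rw [← Scheme.Hom.comp_apply, hσ']
    exact hz
  haveI : IsReduced P := isReduced_of_isNormalScheme hP
  haveI : IsIso σ' := isIso_of_isClosedImmersion_of_surjective σ'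
  rw [← hσ']
  infer_instance

end Groth.Agent.Lib.Helper27.NeronFinA
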