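import Mathlib
import Groth.Prelude.Def_Pi1
import Groth.Agent.Lib.Helper27.NeronFinA
import Groth.Agent.Lib.Helper16.SchImmRed
import Groth.Agent.Lib.Helper22.SmoothNormalSch

/-!
# Alignment of pointed smooth schemes along étale maps over a normal base (helper27)

* `isOpen_closure_of_isOpen`: in a normal locally Noetherian scheme the closure of an open subset
  is open.
* `isOpenImmersion_of_isClosedImmersion_of_isOpen_range`: a closed immersion with open range into a
  reduced scheme is an open immersion.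
* `etale_imageι_comp`: the main statement.
-/

set_option autoImplicit false
universe u

open AlgebraicGeometry CategoryTheory TopologicalSpace

namespace Groth.Agent.Lib.Helper27.AlignA

theorem isOpen_closure_of_isOpen {P : Scheme.{u}} [IsLocallyNoetherian P]
    (hP : Pi1.IsNormalScheme P) (U : Set P) (hU : IsOpen U) : IsOpen (closure U) := by
  rw [isOpen_iff_forall_mem_open]
  intro x hx
  obtain ⟨W, hxW, hW, -, hdom, -⟩ :=
    Groth.Agent.Lib.Helper27.NormDenseB.exists_affine_normal_nhd hP x ⊤ trivial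
  refine ⟨W, ?_, W.isOpen, hxW⟩
  haveI : IsAffine W := hW
  haveI : Nonempty W := ⟨⟨x, hxW⟩⟩
  haveI : IsDomain Γ(W.toScheme, ⊤) :=
    MulEquiv.isDomain _ (W.topIso.commRingCatIsoToRingEquiv.toMulEquiv)
  haveI : IsIntegral W.toScheme := isIntegral_of_isAffine_of_isDomain _
  obtain ⟨ξ', hξ'⟩ : ∃ ξ' : W.toScheme, ξ' = genericPoint W.toScheme := ⟨_, rfl⟩
  obtain ⟨ξ, hξ⟩ : ∃ ξ : P, ξ = W.ι ξ' := ⟨_, rfl⟩
  have hcl : ∀ y ∈ W, ξ ⤳ y := by
    intro y hy
    have h0 : ξ' ⤳ (⟨y, hy⟩ : W.toScheme) := by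
      rw [hξ']
      exact (genericPoint_spec W.toScheme).specializes trivial
    have := h0.map W.ι.continuous
    rw [hξ]
    exact this
  obtain ⟨y, hyW, hyU⟩ : ((W : Set P) ∩ U).Nonempty := mem_closure_iff.mp hx W W.isOpen hxW
  have hξU : ξ ∈ U := (hcl y hyW).mem_open hU hyU
  intro z hz
  have hz' : z ∈ closure {ξ} := specializes_iff_mem_closure.mp (hcl z hz)
  exact closure_mono (Set.singleton_subset_iff.mpr hξU) hz'

theorem isOpenImmersion_of_isClosedImmersion_of_isOpen_range {Z P : Scheme.{u}} [IsReduced P]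
    (σ : Z ⟶ P) [hci : IsClosedImmersion σ] (hopen : IsOpen (Set.range σ)) :
    IsOpenImmersion σ := by
  obtain ⟨R, hR⟩ : ∃ R : P.Opens, (R : Set P) = Set.range σ := ⟨⟨Set.range σ, hopen⟩, rfl⟩
  have hle : Set.range σ ⊆ Set.range R.ι := by
    rw [Scheme.Opens.range_ι, hR]
  obtain ⟨σ', hσ'⟩ : ∃ σ' : Z ⟶ R.toScheme, σ' ≫ R.ι = σ :=
    ⟨IsOpenImmersion.lift R.ι σ hle, IsOpenImmersion.lift_fac _ _ _⟩
  haveI : IsClosedImmersion (σ' ≫ R.ι) := hσ'.symm ▸ hci
  haveI : IsClosedImmersion σ' := IsClosedImmersion.of_comp σ' R.ι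
  haveI : Surjective σ' := by
    refine ⟨fun y => ?_⟩
    have hy : (R.ι y : P) ∈ Set.range σ := by
      rw [← hR]; exact y.2
    obtain ⟨z, hz⟩ := hy
    refine ⟨z, ?_⟩
    apply R.ι.injective
    rw [← Scheme.Hom.comp_apply, hσ']
    exact hz
  haveI : IsIso σ' := isIso_of_isClosedImmersion_of_surjective σ'
  rw [← hσ']
  infer_instance

theorem isNormalScheme_of_smooth {W S : Scheme.{u}} (w : W ⟶ S) [Smooth w]
    (hS : Pi1.IsNormalScheme S) : Pi1.IsNormalScheme W := fun x =>
  (Groth.Agent.Lib.Helper22.SmoothNormalSch.stalk_iff_of_smooth w x).2.mpr (hS _)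

/-- Abstract form: `i : W ⟶ G` a closed immersion, `w = i ≫ p` étale, `s : S ⟶ W` a section of `w`.
Then the scheme theoretic image of `s ≫ i` is étale over `S`. -/
theorem etale_imageι_comp_of_closedImmersion {S G W : Scheme.{u}} [IsLocallyNoetherian S]
    (hS : Pi1.IsNormalScheme S) (p : G ⟶ S) (i : W ⟶ G) [IsClosedImmersion i]
    [Etale (i ≫ p)] (s : S ⟶ W) (hs : s ≫ i ≫ p = 𝟙 S) :
    Etale ((s ≫ i).imageι ≫ p) := by
  haveI : Smooth (i ≫ p) := inferInstance
  have hW : Pi1.IsNormalScheme W := isNormalScheme_of_smooth (i ≫ p) hS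
  haveI : IsLocallyNoetherian W := LocallyOfFiniteType.isLocallyNoetherian (i ≫ p)
  haveI : IsReduced W := Groth.Agent.Lib.Helper27.NeronFinA.isReduced_of_isNormalScheme hW
  haveI : IsReduced S := Groth.Agent.Lib.Helper27.NeronFinA.isReduced_of_isNormalScheme hS
  -- `s` is an open immersion
  haveI : Etale (s ≫ i ≫ p) := by rw [hs]; infer_instance
  haveI : Etale s := Etale.of_comp s (i ≫ p)
  haveI : Mono (s ≫ i ≫ p) := by rw [hs]; infer_instance
  haveI : Mono s := mono_of_mono s (i ≫ p)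
  haveI : IsOpenImmersion s := IsOpenImmersion.of_flat_of_mono s
  have hopen : IsOpen (closure (Set.range s)) :=
    isOpen_closure_of_isOpen hW _ s.isOpenEmbedding.isOpen_range
  -- the lift
  have hker : i.ker ≤ (s ≫ i).imageι.ker := by
    show i.ker ≤ (s ≫ i).ker.subschemeι.ker
    rw [Scheme.IdealSheafData.ker_subschemeι]
    exact Scheme.Hom.le_ker_comp s i
  obtain ⟨j, hj⟩ : ∃ j : (s ≫ i).image ⟶ W, j ≫ i = (s ≫ i).imageι :=
    ⟨IsClosedImmersion.lift i (s ≫ i).imageι hker, IsClosedImmersion.lift_fac _ _ _⟩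
  haveI : IsClosedImmersion (j ≫ i) := by rw [hj]; infer_instance
  haveI : IsClosedImmersion j := IsClosedImmersion.of_comp j i
  have hrange : Set.range j = closure (Set.range s) := by
    have h1 : i '' Set.range j = i '' closure (Set.range s) := by
      rw [← Set.range_comp, ← i.isClosedEmbedding.closure_image_eq, ← Set.range_comp]
      have h2 := Groth.Agent.Lib.Helper16.SchImgKer.range_imageι_of_isReduced (s ≫ i)
      rw [← hj] at h2
      exact h2
    exact (Set.image_eq_image i.isClosedEmbedding.injective).mp h1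
  haveI : IsOpenImmersion j :=
    isOpenImmersion_of_isClosedImmersion_of_isOpen_range j (hrange ▸ hopen)
  rw [← hj, Category.assoc]
  infer_instance

end Groth.Agent.Lib.Helper27.AlignA
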