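import Mathlib

/-!
# Sections with étale scheme theoretic image (helper27)

Let `p : H ⟶ S` be locally of finite type over a locally Noetherian base, `e` a section whose
scheme theoretic image `E` is étale over `S`, and `S₀ ⊆ S` an open over which `p` is separated.
If morphisms `E ⟶ H` over `S` are determined by their restriction to `S₀`, then `e` is a closed
immersion.
-/

set_option autoImplicit false
set_option linter.style.haveILetI false
universe u
open AlgebraicGeometry CategoryTheory CategoryTheory.Limits TopologicalSpace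

namespace Groth.Agent.Lib.Helper27.AlignSepA

theorem isClosedImmersion_section {S H : Scheme.{u}} [IsLocallyNoetherian S] (S₀ : S.Opens)
    (p : H ⟶ S) [LocallyOfFiniteType p] (e : S ⟶ H) (he : e ≫ p = 𝟙 S)
    (hal : Etale (e.imageι ≫ p))
    (h0 : IsSeparated (pullback.snd p S₀.ι))
    (hinj : ∀ a₁ a₂ : e.image ⟶ H, a₁ ≫ p = e.imageι ≫ p → a₂ ≫ p = e.imageι ≫ p →
      pullback.fst (e.imageι ≫ p) S₀.ι ≫ a₁ = pullback.fst (e.imageι ≫ p) S₀.ι ≫ a₂ → a₁ = a₂) :
    IsClosedImmersion e := by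
  haveI : IsLocallyNoetherian H := LocallyOfFiniteType.isLocallyNoetherian p
  haveI : IsImmersion (e ≫ p) := by rw [he]; infer_instance
  haveI : IsImmersion e := MorphismProperty.of_postcomp (W := @IsImmersion) (W' := ⊤) e p
    trivial inferInstance
  haveI : QuasiCompact e := by rw [← e.liftCoborder_ι]; infer_instance
  -- notation
  obtain ⟨π, hπ⟩ : ∃ π : e.image ⟶ S, π = e.imageι ≫ p := ⟨_, rfl⟩
  obtain ⟨t, ht⟩ : ∃ t : S ⟶ e.image, t = e.toImage := ⟨_, rfl⟩
  have htι : t ≫ e.imageι = e := by rw [ht, e.toImage_imageι]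
  have htπ : t ≫ π = 𝟙 S := by rw [hπ, ← Category.assoc, htι, he]
  haveI : Etale π := hπ ▸ hal
  haveI : IsDominant t := ht ▸ inferInstance
  -- `t` is an open immersion
  haveI : Etale (t ≫ π) := by rw [htπ]; infer_instance
  haveI : Etale t := Etale.of_comp t π
  haveI : Mono (t ≫ π) := by rw [htπ]; infer_instance
  haveI : Mono t := mono_of_mono t π
  haveI : IsOpenImmersion t := IsOpenImmersion.of_flat_of_mono t
  -- the section over `S₀`
  obtain ⟨e₀, he₀⟩ : ∃ e₀ : S₀.toScheme ⟶ pullback p S₀.ι,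
      e₀ = pullback.lift (S₀.ι ≫ e) (𝟙 _) (by rw [Category.assoc, he]; simp) := ⟨_, rfl⟩
  have he₀fst : e₀ ≫ pullback.fst p S₀.ι = S₀.ι ≫ e := by rw [he₀, pullback.lift_fst]
  have he₀snd : e₀ ≫ pullback.snd p S₀.ι = 𝟙 _ := by rw [he₀, pullback.lift_snd]
  haveI : IsClosedImmersion (e₀ ≫ pullback.snd p S₀.ι) := by rw [he₀snd]; infer_instance
  haveI : IsClosedImmersion e₀ := IsClosedImmersion.of_comp e₀ (pullback.snd p S₀.ι)
  -- range of `fst` over `S₀` lies in the range of `t`
  have hpt : ∀ s : S, π (t s) = s := fun s => by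
    rw [← Scheme.Hom.comp_apply, htπ]; rfl
  have hιt : ∀ s : S, e.imageι (t s) = e s := fun s => by
    rw [← Scheme.Hom.comp_apply, htι]
  have hpe : ∀ s : S, p (e s) = s := fun s => by
    rw [← Scheme.Hom.comp_apply, he]; rfl
  have hfe₀ : ∀ s₀ : S₀.toScheme, (pullback.fst p S₀.ι) (e₀ s₀) = e (S₀.ι s₀) := fun s₀ => by
    rw [← Scheme.Hom.comp_apply, he₀fst, Scheme.Hom.comp_apply]
  have hrange : ∀ x : e.image, π x ∈ S₀ → x ∈ Set.range t := by
    intro x hx
    by_contra hxt
    -- the open set `A`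
    obtain ⟨A, hA⟩ : ∃ A : Set H, A = pullback.fst p S₀.ι '' (Set.range e₀)ᶜ := ⟨_, rfl⟩
    have hAopen : IsOpen A := by
      rw [hA]
      exact (pullback.fst p S₀.ι).isOpenEmbedding.isOpenMap _
        e₀.isClosedEmbedding.isClosed_range.isOpen_compl
    have hxA : e.imageι x ∈ A := by
      have h1 : e.imageι x ∈ Set.range (pullback.fst p S₀.ι) := by
        rw [Scheme.Pullback.range_fst, Scheme.Opens.range_ι]
        show p (e.imageι x) ∈ S₀
        rw [← Scheme.Hom.comp_apply, ← hπ]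
        exact hx
      obtain ⟨y, hy⟩ := h1
      rw [hA]
      refine ⟨y, ?_, hy⟩
      rintro ⟨s₀, rfl⟩
      apply hxt
      refine ⟨S₀.ι s₀, ?_⟩
      apply e.imageι.isClosedEmbedding.injective
      rw [hιt, ← hy, hfe₀]
    have hOopen : IsOpen (e.imageι ⁻¹' A) := hAopen.preimage e.imageι.continuous
    obtain ⟨_, hsO, ⟨s, rfl⟩⟩ := t.denseRange.inter_open_nonempty _ hOopen ⟨x, hxA⟩
    have hsA : e s ∈ A := by
      have : e.imageι (t s) ∈ A := hsO
      rwa [hιt] at this
    rw [hA] at hsA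
    obtain ⟨y, hy, hys⟩ := hsA
    apply hy
    have hsS₀ : s ∈ S₀ := by
      have h1 : e s ∈ Set.range (pullback.fst p S₀.ι) := ⟨y, hys⟩
      rw [Scheme.Pullback.range_fst, Scheme.Opens.range_ι] at h1
      have h2 : p (e s) ∈ S₀ := h1
      rwa [hpe] at h2
    refine ⟨⟨s, hsS₀⟩, ?_⟩
    apply (pullback.fst p S₀.ι).isOpenEmbedding.injective
    rw [hys, hfe₀]
    rfl
  have hrange' : Set.range (pullback.fst π S₀.ι) ⊆ Set.range t := by
    rintro _ ⟨y, rfl⟩
    apply hrange
    have h1 : pullback.fst π S₀.ι y ∈ Set.range (pullback.fst π S₀.ι) := ⟨y, rfl⟩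
    rw [Scheme.Pullback.range_fst, Scheme.Opens.range_ι] at h1
    exact h1
  obtain ⟨l, hl⟩ : ∃ l : pullback π S₀.ι ⟶ S, l ≫ t = pullback.fst π S₀.ι :=
    ⟨IsOpenImmersion.lift t _ hrange', IsOpenImmersion.lift_fac _ _ _⟩
  -- the key identity
  have hkey : e.imageι = π ≫ e := by
    apply hinj
    · rfl
    · rw [Category.assoc, he, Category.comp_id, hπ]
    · rw [← hπ, ← hl, Category.assoc, Category.assoc, htι, ← Category.assoc t, htπ,
        Category.id_comp]
  have hπt : π ≫ t = 𝟙 _ := by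
    rw [← cancel_mono e.imageι, Category.assoc, htι, Category.id_comp, ← hkey]
  haveI : IsIso t := ⟨π, htπ, hπt⟩
  rw [← htι]
  infer_instance

end Groth.Agent.Lib.Helper27.AlignSepA
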