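import Mathlib

/-!
# Controlling maps to the completion by a finite-type algebra (algebraic core of S7201)
-/

namespace Groth.Agent.Lib.Helper27.ApxA

open IsLocalRing

universe u

/-- density of `A` in its `I`-adic completion. -/
theorem exists_sub_mem {A : Type*} [CommRing A] (I : Ideal A) (hI : I.FG) (n : ℕ)
    (z : AdicCompletion I A) :
    ∃ a : A, z - algebraMap A (AdicCompletion I A) a ∈
      (I ^ n).map (algebraMap A (AdicCompletion I A)) := by
  obtain ⟨a, ha⟩ := Submodule.mkQ_surjective _ (AdicCompletion.eval I A n z)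
  refine ⟨a, ?_⟩
  have hmem : ∀ b : AdicCompletion I A,
      b ∈ Ideal.map (algebraMap A (AdicCompletion I A)) (I ^ n) ↔
        b ∈ LinearMap.ker (AdicCompletion.eval I A n) := by
    intro b
    rw [← AdicCompletion.pow_smul_top_eq_ker_eval hI, Ideal.smul_top_eq_map]
    rfl
  rw [hmem, LinearMap.mem_ker, map_sub, AdicCompletion.algebraMap_apply,
    Algebra.algebraMap_self_apply, AdicCompletion.eval_of, ha, sub_self]

section core

variable {A R B O : Type u} [CommRing A] [CommRing R] [IsLocalRing R] [IsNoetherianRing R]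
  [CommRing B] [CommRing O] [Algebra A R] (p : Ideal A) [p.IsPrime] [IsLocalization.AtPrime R p]
  [Algebra A B] [Algebra.FiniteType A B] [Algebra B O] (q : Ideal B) [q.IsPrime]
  [IsLocalization.AtPrime O q]
  (lam : R →+* O) (hlam : lam.comp (algebraMap A R) = (algebraMap B O).comp (algebraMap A B))

local notation "Rh" => AdicCompletion (maximalIdeal R) R

include hlam in
theorem sigma_algebraMap (σ : O →+* Rh) (hσ : σ.comp lam = algebraMap R Rh) (a : A) :
    σ (algebraMap B O (algebraMap A B a)) = algebraMap R Rh (algebraMap A R a) := by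
  have h1 := RingHom.congr_fun hlam a
  simp only [RingHom.comp_apply] at h1
  rw [← h1]
  exact RingHom.congr_fun hσ _

include q hlam in
/-- two maps to the completion that agree mod `𝔞` on generators agree mod `𝔞` everywhere. -/
theorem sub_mem_of_generators (𝔞 : Ideal Rh) (σ σ' : O →+* Rh)
    (hσ : σ.comp lam = algebraMap R Rh) (hσ' : σ'.comp lam = algebraMap R Rh)
    (s : Set B) (hs : Algebra.adjoin A s = ⊤)
    (h : ∀ x ∈ s, σ (algebraMap B O x) - σ' (algebraMap B O x) ∈ 𝔞) (a : O) :
    σ a - σ' a ∈ 𝔞 := by
  have hB : ∀ b : B, σ (algebraMap B O b) - σ' (algebraMap B O b) ∈ 𝔞 := by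
    intro b
    have hb : b ∈ Algebra.adjoin A s := by rw [hs]; trivial
    induction hb using Algebra.adjoin_induction with
    | mem x hx => exact h x hx
    | algebraMap r =>
      rw [sigma_algebraMap lam hlam σ hσ, sigma_algebraMap lam hlam σ' hσ', sub_self]
      exact zero_mem _
    | add x y _ _ hx hy =>
      rw [map_add, map_add, map_add]
      have : σ (algebraMap B O x) + σ (algebraMap B O y) -
          (σ' (algebraMap B O x) + σ' (algebraMap B O y)) =
          (σ (algebraMap B O x) - σ' (algebraMap B O x)) +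
            (σ (algebraMap B O y) - σ' (algebraMap B O y)) := by ring
      rw [this]
      exact add_mem hx hy
    | mul x y _ _ hx hy =>
      rw [map_mul, map_mul, map_mul]
      have : σ (algebraMap B O x) * σ (algebraMap B O y) -
          σ' (algebraMap B O x) * σ' (algebraMap B O y) =
          σ (algebraMap B O x) * (σ (algebraMap B O y) - σ' (algebraMap B O y)) +
            (σ (algebraMap B O x) - σ' (algebraMap B O x)) * σ' (algebraMap B O y) := by ring
      rw [this]
      exact add_mem (Ideal.mul_mem_left _ _ hy) (Ideal.mul_mem_right _ _ hx)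
  obtain ⟨⟨b, u⟩, hbu⟩ := IsLocalization.surj q.primeCompl a
  simp only at hbu
  have hu : IsUnit (algebraMap B O u) := IsLocalization.map_units O u
  have h1 : (σ a - σ' a) * σ (algebraMap B O u) =
      (σ (algebraMap B O b) - σ' (algebraMap B O b)) -
        σ' a * (σ (algebraMap B O u) - σ' (algebraMap B O u)) := by
    have e1 : σ a * σ (algebraMap B O u) = σ (algebraMap B O b) := by rw [← map_mul, hbu]
    have e2 : σ' a * σ' (algebraMap B O u) = σ' (algebraMap B O b) := by rw [← map_mul, hbu]
    rw [← e1, ← e2]; ring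
  have h2 : (σ a - σ' a) * σ (algebraMap B O u) ∈ 𝔞 := by
    rw [h1]
    exact sub_mem (hB b) (Ideal.mul_mem_left _ _ (hB u))
  obtain ⟨v, hv⟩ := (hu.map σ).exists_right_inv
  have : σ a - σ' a = (σ a - σ' a) * σ (algebraMap B O u) * v := by
    rw [mul_assoc, hv, mul_one]
  rw [this]
  exact Ideal.mul_mem_right _ _ h2

end core

end Groth.Agent.Lib.Helper27.ApxA
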