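import Mathlib
import Groth.Agent.Lib.Helper27.ApxA

/-!
# Algebraic core of S7201: a finite-type `B`-algebra `B'` controlling maps to the completion
-/

namespace Groth.Agent.Lib.Helper27.ApxB

open IsLocalRing Groth.Agent.Lib.Helper27.ApxA

universe u

variable {A R B O : Type u} [CommRing A] [CommRing R] [IsLocalRing R] [IsNoetherianRing R]
  [CommRing B] [CommRing O] [Algebra A R] (p : Ideal A) [p.IsPrime] [IsLocalization.AtPrime R p]
  [Algebra A B] [Algebra.FiniteType A B] [Algebra B O] (q : Ideal B) [q.IsPrime]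
  [IsLocalization.AtPrime O q]
  (lam : R →+* O) (hlam : lam.comp (algebraMap A R) = (algebraMap B O).comp (algebraMap A B))

local notation "Rh" => AdicCompletion (maximalIdeal R) R

include p q hlam in
theorem core (σ : O →+* Rh) (hσ : σ.comp lam = algebraMap R Rh) (N : ℕ) :
    ∃ (B' : Type u) (_ : CommRing B') (_ : Algebra B B') (_ : Algebra.FiniteType B B')
      (β' : B' →+* Rh),
      β'.comp (algebraMap B B') = σ.comp (algebraMap B O) ∧
      ∀ σ' : O →+* Rh, σ'.comp lam = algebraMap R Rh →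
        ∀ β'' : B' →+* Rh, β''.comp (algebraMap B B') = σ'.comp (algebraMap B O) →
          ∀ a : O, σ a - σ' a ∈ (maximalIdeal R ^ N).map (algebraMap R Rh) := by
  classical
  set ι : R →+* Rh := algebraMap R Rh with hι
  set 𝔞 : Ideal Rh := (maximalIdeal R ^ N).map ι with h𝔞
  -- generators of `B`
  obtain ⟨s, hs⟩ := (Algebra.FiniteType.out : (⊤ : Subalgebra A B).FG)
  -- generators of `m^N`
  have hfg : (maximalIdeal R ^ N).FG := (isNoetherianRing_iff_ideal_fg R).1 inferInstance _
  obtain ⟨k, g, hg⟩ := Submodule.fg_iff_exists_fin_generating_family.1 hfg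
  -- approximations
  have happ : ∀ i : s, ∃ c : R, σ (algebraMap B O i.1) - ι c ∈ 𝔞 := fun i =>
    exists_sub_mem (maximalIdeal R) ((isNoetherianRing_iff_ideal_fg R).1 inferInstance _) N _
  choose c hc using happ
  have hfrac : ∀ i : s, ∃ x : A × p.primeCompl,
      c i * algebraMap A R x.2 = algebraMap A R x.1 := fun i => IsLocalization.surj p.primeCompl (c i)
  choose cd hcd using hfrac
  have hfrac' : ∀ j : Fin k, ∃ x : A × p.primeCompl,
      g j * algebraMap A R x.2 = algebraMap A R x.1 := fun j => IsLocalization.surj p.primeCompl (g j)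
  choose as has using hfrac'
  have hunit : ∀ d : p.primeCompl, IsUnit (ι (algebraMap A R d)) := fun d =>
    (IsLocalization.map_units R d).map ι
  -- `𝔞` is generated by the images of the `a_j`
  have h𝔞' : 𝔞 = Ideal.span (Set.range fun j : Fin k => ι (algebraMap A R (as j).1)) := by
    rw [h𝔞, ← hg, Ideal.map_span]
    apply le_antisymm
    · rw [Ideal.span_le]
      rintro _ ⟨_, ⟨j, rfl⟩, rfl⟩
      obtain ⟨v, hv⟩ := (hunit (as j).2).exists_right_inv
      have : ι (g j) = ι (algebraMap A R (as j).1) * v := by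
        rw [← has j, map_mul, mul_assoc, hv, mul_one]
      rw [this]
      exact Ideal.mul_mem_right _ _ (Ideal.subset_span ⟨j, rfl⟩)
    · rw [Ideal.span_le]
      rintro _ ⟨j, rfl⟩
      beta_reduce
      rw [← has j, map_mul]
      exact Ideal.mul_mem_right _ _ (Ideal.subset_span ⟨_, ⟨j, rfl⟩, rfl⟩)
  -- the coefficients `ŷ`
  have hy : ∀ i : s, ∃ y : Fin k → Rh,
      ∑ j, y j * ι (algebraMap A R (as j).1) =
        ι (algebraMap A R (cd i).2) * σ (algebraMap B O i.1) - ι (algebraMap A R (cd i).1) := by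
    intro i
    rw [← Ideal.mem_span_range_iff_exists_fun, ← h𝔞']
    have : ι (algebraMap A R (cd i).2) * σ (algebraMap B O i.1) - ι (algebraMap A R (cd i).1) =
        ι (algebraMap A R (cd i).2) * (σ (algebraMap B O i.1) - ι (c i)) := by
      rw [← hcd i, map_mul]; ring
    rw [this]
    exact Ideal.mul_mem_left _ _ (hc i)
  choose y hy using hy
  -- the algebra
  let P := MvPolynomial (s × Fin k) B
  let rel : s → P := fun i =>
    MvPolynomial.C (algebraMap A B (cd i).2) * MvPolynomial.C i.1 -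
      MvPolynomial.C (algebraMap A B (cd i).1) -
      ∑ j, MvPolynomial.C (algebraMap A B (as j).1) * MvPolynomial.X (i, j)
  let I : Ideal P := Ideal.span (Set.range rel)
  obtain ⟨β₀, e1, e2⟩ : ∃ β₀ : P →+* Rh, (∀ b : B, β₀ (MvPolynomial.C b) = σ (algebraMap B O b)) ∧
      (∀ ij : s × Fin k, β₀ (MvPolynomial.X ij) = y ij.1 ij.2) :=
    ⟨MvPolynomial.eval₂Hom (σ.comp (algebraMap B O)) (fun ij => y ij.1 ij.2),
      fun b => MvPolynomial.eval₂Hom_C _ _ b, fun ij => MvPolynomial.eval₂Hom_X' _ _ ij⟩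
  have hσA := sigma_algebraMap lam hlam σ hσ
  have hβ₀ : ∀ i, β₀ (rel i) = 0 := by
    intro i
    simp only [rel, map_sub, map_mul, map_sum, e1, e2, hσA]
    rw [← hy i, sub_eq_zero]
    exact Finset.sum_congr rfl (fun j _ => mul_comm _ _)
  have hI : ∀ x ∈ I, β₀ x = 0 := by
    intro x hx
    have : I ≤ RingHom.ker β₀ := by
      rw [Ideal.span_le]
      rintro _ ⟨i, rfl⟩
      exact hβ₀ i
    exact this hx
  refine ⟨P ⧸ I, inferInstance, inferInstance, inferInstance, Ideal.Quotient.lift I β₀ hI, ?_, ?_⟩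
  · refine RingHom.ext fun b => ?_
    have hb : algebraMap B (P ⧸ I) b = Ideal.Quotient.mk I (MvPolynomial.C b) := rfl
    rw [RingHom.comp_apply, hb, Ideal.Quotient.lift_mk, e1]
    rfl
  · intro σ' hσ' β'' hβ'' a
    have hσA' := sigma_algebraMap lam hlam σ' hσ'
    have hβ''B : ∀ b : B, β'' (Ideal.Quotient.mk I (MvPolynomial.C b)) = σ' (algebraMap B O b) :=
      fun b => RingHom.congr_fun hβ'' b
    apply sub_mem_of_generators q lam hlam 𝔞 σ σ' hσ hσ' (s : Set B) hs
    intro x hx
    let i : s := ⟨x, hx⟩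
    -- the relation in `B'`
    have hrel : Ideal.Quotient.mk I (rel i) = 0 :=
      Ideal.Quotient.eq_zero_iff_mem.2 (Ideal.subset_span ⟨i, rfl⟩)
    have h1 := congrArg β'' hrel
    simp only [rel, map_sub, map_mul, map_sum, map_zero, hβ''B, hσA'] at h1
    -- so `ι d * σ' x - ι c' ∈ 𝔞`
    have h2 : ι (algebraMap A R (cd i).2) * σ' (algebraMap B O x) - ι (algebraMap A R (cd i).1) ∈ 𝔞 := by
      rw [sub_eq_zero] at h1
      rw [h1, h𝔞']
      refine Ideal.sum_mem _ (fun j _ => ?_)
      exact Ideal.mul_mem_right _ _ (Ideal.subset_span ⟨j, rfl⟩)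
    have h3 : ι (algebraMap A R (cd i).2) * σ (algebraMap B O x) - ι (algebraMap A R (cd i).1) ∈ 𝔞 := by
      rw [← hy i, h𝔞']
      refine Ideal.sum_mem _ (fun j _ => ?_)
      exact Ideal.mul_mem_left _ _ (Ideal.subset_span ⟨j, rfl⟩)
    have h4 : ι (algebraMap A R (cd i).2) * (σ (algebraMap B O x) - σ' (algebraMap B O x)) ∈ 𝔞 := by
      have : ι (algebraMap A R (cd i).2) * (σ (algebraMap B O x) - σ' (algebraMap B O x)) =
          (ι (algebraMap A R (cd i).2) * σ (algebraMap B O x) - ι (algebraMap A R (cd i).1)) -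
          (ι (algebraMap A R (cd i).2) * σ' (algebraMap B O x) - ι (algebraMap A R (cd i).1)) := by
        ring
      rw [this]
      exact sub_mem h3 h2
    obtain ⟨v, hv⟩ := (hunit (cd i).2).exists_left_inv
    have : σ (algebraMap B O x) - σ' (algebraMap B O x) =
        v * (ι (algebraMap A R (cd i).2) * (σ (algebraMap B O x) - σ' (algebraMap B O x))) := by
      rw [← mul_assoc, hv, one_mul]
    rw [this]
    exact Ideal.mul_mem_left _ _ h4

end Groth.Agent.Lib.Helper27.ApxB
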