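import Mathlib

/-!
# Scheme plumbing for S7201: stalks of `Spec B' ⟶ U ⊆ T`
-/

namespace Groth.Agent.Lib.Helper27.ApxC

open AlgebraicGeometry CategoryTheory TopologicalSpace IsLocalRing

universe u

theorem appLE_top {T : Scheme.{u}} {U : T.Opens} (hU : IsAffineOpen U) {R' : CommRingCat.{u}}
    (ψ : Γ(T, U) ⟶ R') (e : (⊤ : (Spec R').Opens) ≤ (Spec.map ψ ≫ hU.fromSpec) ⁻¹ᵁ U) :
    (Spec.map ψ ≫ hU.fromSpec).appLE U ⊤ e = ψ ≫ (Scheme.ΓSpecIso R').inv := by
  have e' : (⊤ : (Spec R').Opens) ≤ Spec.map ψ ⁻¹ᵁ (hU.fromSpec ⁻¹ᵁ U) := e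
  have h1 : (Spec.map ψ ≫ hU.fromSpec).appLE U ⊤ e =
      hU.fromSpec.app U ≫ (Spec.map ψ).appLE (hU.fromSpec ⁻¹ᵁ U) ⊤ e' :=
    Scheme.Hom.comp_appLE _ _ _ _ _
  rw [h1, hU.fromSpec_app_self, Category.assoc, Scheme.Hom.map_appLE,
    Scheme.ΓSpecIso_inv_naturality ψ]
  rfl

theorem top_le_preimage {T : Scheme.{u}} {U : T.Opens} (hU : IsAffineOpen U) {R' : CommRingCat.{u}}
    (ψ : Γ(T, U) ⟶ R') : (⊤ : (Spec R').Opens) ≤ (Spec.map ψ ≫ hU.fromSpec) ⁻¹ᵁ U := by
  intro x _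
  change hU.fromSpec (Spec.map ψ x) ∈ U
  have h1 : Spec.map ψ x ∈ hU.fromSpec ⁻¹ᵁ U := by
    rw [hU.fromSpec_preimage_self]; trivial
  exact h1

/-- general formula: stalk map on germs through `appLE`. -/
theorem stalkMap_germ_appLE {X Y : Scheme.{u}} (f : X ⟶ Y) (U : Y.Opens) (V : X.Opens)
    (e : V ≤ f ⁻¹ᵁ U) (x : X) (hx : x ∈ V) (a : Γ(Y, U)) :
    f.stalkMap x (Y.presheaf.germ U (f x) (e hx) a) = X.presheaf.germ V x hx (f.appLE U V e a) := by
  rw [Scheme.Hom.germ_stalkMap_apply, Scheme.Hom.appLE]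
  simp only [CommRingCat.hom_comp, RingHom.coe_comp, Function.comp_apply]
  exact (TopCat.Presheaf.germ_res_apply X.presheaf (homOfLE e) x hx _).symm

theorem stalkMap_germ {T : Scheme.{u}} {U : T.Opens} (hU : IsAffineOpen U) {R' : CommRingCat.{u}}
    (ψ : Γ(T, U) ⟶ R') (x : Spec R') (b : Γ(T, U)) :
    (Spec.map ψ ≫ hU.fromSpec).stalkMap x
        (T.presheaf.germ U ((Spec.map ψ ≫ hU.fromSpec) x) (top_le_preimage hU ψ trivial) b) =
      (Spec R').presheaf.germ ⊤ x trivial ((Scheme.ΓSpecIso R').inv (ψ b)) := by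
  rw [stalkMap_germ_appLE _ U ⊤ (top_le_preimage hU ψ) x trivial b, appLE_top hU ψ]
  rfl

/-- ring homs out of a stalk are determined on germs from an affine open. -/
theorem stalk_ringHom_ext {T : Scheme.{u}} {U : T.Opens} (hU : IsAffineOpen U) (t : T) (ht : t ∈ U)
    {C : Type*} [CommRing C] (f₁ f₂ : T.presheaf.stalk t →+* C)
    (h : ∀ b : Γ(T, U), f₁ (T.presheaf.germ U t ht b) = f₂ (T.presheaf.germ U t ht b)) :
    f₁ = f₂ := by
  letI := T.presheaf.algebra_section_stalk ⟨t, ht⟩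
  haveI := hU.isLocalization_stalk ⟨t, ht⟩
  exact IsLocalization.ringHom_ext (hU.primeIdealOf ⟨t, ht⟩).asIdeal.primeCompl (RingHom.ext h)

/-- a ring hom `B' → C` inverting the complement of the prime `x` extends to the stalk. -/
theorem exists_tau {B' : Type u} [CommRing B'] (x : Spec (CommRingCat.of B')) {C : Type*} [CommRing C]
    (β' : B' →+* C) (hβ : ∀ b : B', b ∉ x.asIdeal → IsUnit (β' b)) :
    ∃ τ : (Spec (CommRingCat.of B')).presheaf.stalk x →+* C, ∀ b : B',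
      τ ((Spec (CommRingCat.of B')).presheaf.germ ⊤ x trivial
        ((Scheme.ΓSpecIso (CommRingCat.of B')).inv b)) = β' b := by
  have hX : IsAffineOpen (⊤ : (Spec (CommRingCat.of B')).Opens) := isAffineOpen_top _
  let x' : (⊤ : (Spec (CommRingCat.of B')).Opens) := ⟨x, trivial⟩
  letI := (Spec (CommRingCat.of B')).presheaf.algebra_section_stalk x'
  haveI := hX.isLocalization_stalk x'
  let γ : Γ(Spec (CommRingCat.of B'), ⊤) →+* C :=
    β'.comp (Scheme.ΓSpecIso (CommRingCat.of B')).hom.hom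
  have hunits : ∀ f : (hX.primeIdealOf x').asIdeal.primeCompl, IsUnit (γ f) := by
    intro f
    apply hβ
    have h1 : IsUnit ((Spec (CommRingCat.of B')).presheaf.germ ⊤ x trivial f.1) :=
      IsLocalization.map_units ((Spec (CommRingCat.of B')).presheaf.stalk x) f
    have h2 : x ∈ (Spec (CommRingCat.of B')).basicOpen f.1 :=
      (Scheme.mem_basicOpen (U := ⊤) _ f.1 x (by trivial)).2 h1
    rw [basicOpen_eq_of_affine'] at h2
    exact h2
  refine ⟨IsLocalization.lift (S := (Spec (CommRingCat.of B')).presheaf.stalk x) hunits,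
    fun b => ?_⟩
  have h3 := IsLocalization.lift_eq (S := (Spec (CommRingCat.of B')).presheaf.stalk x) hunits
    ((Scheme.ΓSpecIso (CommRingCat.of B')).inv b)
  refine Eq.trans ?_ (h3.trans ?_)
  · rfl
  · simp [γ]

end Groth.Agent.Lib.Helper27.ApxC
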