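import Mathlib

/-!
# A binary cubic form over `ℂ` without repeated roots has three distinct roots
-/

namespace Groth.Agent.Lib.Helper27.Cubic

/-- helper: with Vieta's relations, a coincidence of two roots gives a repeated root -/
theorem bc_no_double (a b c d x y z : ℂ) (ha : a ≠ 0)
    (hb : b = -a * (x + y + z)) (hc : c = a * (x * y + x * z + y * z)) (hd : d = -a * (x * y * z))
    (hns : ∀ s t : ℂ, ¬(s = 0 ∧ t = 0) →
      ¬(3 * a * s ^ 2 + 2 * b * s * t + c * t ^ 2 = 0 ∧ b * s ^ 2 + 2 * c * s * t + 3 * d * t ^ 2 = 0)) :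
    x - y ≠ 0 := by
  intro hxy
  have hxy' : y = x := by linear_combination -hxy
  subst hxy'
  refine hns y 1 (by simp) ⟨?_, ?_⟩
  · rw [hb, hc]; ring
  · rw [hb, hc, hd]; ring

theorem binary_cubic_three_roots (a b c d : ℂ)
    (hns : ∀ s t : ℂ, ¬(s = 0 ∧ t = 0) →
      ¬(3 * a * s ^ 2 + 2 * b * s * t + c * t ^ 2 = 0 ∧ b * s ^ 2 + 2 * c * s * t + 3 * d * t ^ 2 = 0)) :
    ∃ r : Fin 3 → ℂ × ℂ,
      (∀ i, a * (r i).1 ^ 3 + b * (r i).1 ^ 2 * (r i).2 + c * (r i).1 * (r i).2 ^ 2 + d * (r i).2 ^ 3 = 0) ∧
      ∀ i j, i ≠ j → (r i).1 * (r j).2 - (r j).1 * (r i).2 ≠ 0 := by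
  by_cases ha : a = 0
  · subst ha
    have hb : b ≠ 0 := by
      rintro rfl
      exact hns 1 0 (by simp) ⟨by ring, by ring⟩
    obtain ⟨s, hs⟩ := IsAlgClosed.exists_eq_mul_self (discrim b c d)
    obtain ⟨x, hx⟩ := exists_quadratic_eq_zero hb ⟨s, hs⟩
    set y : ℂ := -c / b - x with hy
    have hc' : c = -b * (x + y) := by rw [hy]; field_simp; ring
    have hd' : d = b * (x * y) := by
      rw [hy]; field_simp; linear_combination hx
    have hxy : x - y ≠ 0 := by
      intro hxy
      have hxy' : y = x := by linear_combination -hxy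
      refine hns x 1 (by simp) ⟨?_, ?_⟩
      · rw [hc', hxy']; ring
      · rw [hc', hd', hxy']; ring
    refine ⟨![(1, 0), (x, 1), (y, 1)], ?_, ?_⟩
    · intro i
      fin_cases i
      · simp
      · simp; linear_combination hx
      · simp; rw [hc', hd']; ring
    · intro i j hij
      fin_cases i <;> fin_cases j <;> simp at hij ⊢
      · exact hxy
      · intro h; exact hxy (by linear_combination -h)
  · let P : Polynomial ℂ := Polynomial.C a * Polynomial.X ^ 3 + Polynomial.C b * Polynomial.X ^ 2 +
      Polynomial.C c * Polynomial.X + Polynomial.C d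
    have hdeg : P.degree = 3 := by
      simp only [P]
      compute_degree!
    obtain ⟨x, hx⟩ := IsAlgClosed.exists_root P (by rw [hdeg]; norm_num)
    have hx' : a * x ^ 3 + b * x ^ 2 + c * x + d = 0 := by
      simpa [P, Polynomial.IsRoot] using hx
    set b' : ℂ := b + a * x with hb'
    set c' : ℂ := c + b' * x with hc'
    obtain ⟨s, hs⟩ := IsAlgClosed.exists_eq_mul_self (discrim a b' c')
    obtain ⟨y, hy⟩ := exists_quadratic_eq_zero ha ⟨s, hs⟩
    set z : ℂ := -b' / a - y with hz
    have hb2 : b = -a * (x + y + z) := by rw [hz, hb']; field_simp; ring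
    have hc2 : c = a * (x * y + x * z + y * z) := by
      rw [hz]; field_simp
      rw [hc', hb'] at hy
      rw [hb']
      linear_combination hy
    have hd2 : d = -a * (x * y * z) := by
      rw [hz]; field_simp
      rw [hc', hb'] at hy
      rw [hb']
      linear_combination hx' - x * hy
    have hxy := bc_no_double a b c d x y z ha hb2 hc2 hd2 hns
    have hxz := bc_no_double a b c d x z y ha (by rw [hb2]; ring) (by rw [hc2]; ring)
      (by rw [hd2]; ring) hns
    have hyz := bc_no_double a b c d y z x ha (by rw [hb2]; ring) (by rw [hc2]; ring)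
      (by rw [hd2]; ring) hns
    refine ⟨![(x, 1), (y, 1), (z, 1)], ?_, ?_⟩
    · intro i
      fin_cases i
      · simp; linear_combination hx'
      · simp; rw [hb2, hc2, hd2]; ring
      · simp; rw [hb2, hc2, hd2]; ring
    · intro i j hij
      fin_cases i <;> fin_cases j <;> simp at hij ⊢
      · exact hxy
      · exact hxz
      · intro h; exact hxy (by linear_combination -h)
      · exact hyz
      · intro h; exact hxz (by linear_combination -h)
      · intro h; exact hyz (by linear_combination -h)

end Groth.Agent.Lib.Helper27.Cubic
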