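import Mathlib
import Groth.Agent.Lib.Helper8.BranchCount

/-!
# Minimal primes along a faithfully flat map

`card_minimalPrimes_eq_of_radical_isPrime`: if `R → T` is faithfully flat and the extension of every
minimal prime of `R` has prime radical, then `R` and `T` have the same number of minimal primes.
Conversely (`radical_isPrime_of_card_eq`), for finitely many minimal primes, equality of the numbers
forces these radicals to be prime.
-/

set_option autoImplicit false

namespace Groth.Agent.Lib.Helper27.BrCard

universe u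

variable (R T : Type u) [CommRing R] [CommRing T] [Algebra R T]

/-- Going down for flat maps: minimal primes contract to minimal primes. -/
theorem comap_mem_minimalPrimes_of_flat [Module.Flat R T] {Q : Ideal T}
    (hQ : Q ∈ minimalPrimes T) : Q.comap (algebraMap R T) ∈ minimalPrimes R := by
  haveI : Q.IsPrime := hQ.1.1
  refine ⟨⟨inferInstance, bot_le⟩, ?_⟩
  rintro p ⟨hp, -⟩ hle
  haveI := hp
  haveI : Q.LiesOver (Q.comap (algebraMap R T)) := ⟨rfl⟩
  obtain ⟨P, hPQ, hPprime, hPover⟩ :=
    Ideal.exists_ideal_le_liesOver_of_le (p := p) (q := Q.comap (algebraMap R T)) Q hle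
  have h1 : Q ≤ P := hQ.2 ⟨hPprime, bot_le⟩ hPQ
  have h2 : P = Q := le_antisymm hPQ h1
  have h3 : p = P.under R := hPover.over
  rw [h3, h2]

/-- A minimal prime over the extension of a minimal prime `q` is a minimal prime lying over `q`. -/
theorem mem_minimalPrimes_of_mem_minimalPrimes_map [Module.Flat R T] {q : Ideal R}
    (hq : q ∈ minimalPrimes R) {P : Ideal T} (hP : P ∈ (q.map (algebraMap R T)).minimalPrimes) :
    P ∈ minimalPrimes T ∧ P.comap (algebraMap R T) = q := by
  haveI : q.IsPrime := hq.1.1
  haveI : P.IsPrime := hP.1.1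
  have hqP : q ≤ P.comap (algebraMap R T) := Ideal.map_le_iff_le_comap.mp hP.1.2
  haveI : P.LiesOver (P.comap (algebraMap R T)) := ⟨rfl⟩
  obtain ⟨P', hP'P, hP'prime, hP'over⟩ :=
    Ideal.exists_ideal_le_liesOver_of_le (p := q) (q := P.comap (algebraMap R T)) P hqP
  have hq' : q = P'.comap (algebraMap R T) := hP'over.over
  have h1 : q.map (algebraMap R T) ≤ P' := by
    rw [Ideal.map_le_iff_le_comap, ← hq']
  have h2 : P ≤ P' := hP.2 ⟨hP'prime, h1⟩ hP'P
  have h3 : P' = P := le_antisymm hP'P h2
  have hPq : P.comap (algebraMap R T) = q := by rw [hq', h3]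
  refine ⟨⟨⟨inferInstance, bot_le⟩, ?_⟩, hPq⟩
  rintro Q' ⟨hQ'prime, -⟩ hQ'P
  haveI := hQ'prime
  have h4 : Q'.comap (algebraMap R T) ≤ q := by
    rw [← hPq]; exact Ideal.comap_mono hQ'P
  have h5 : q ≤ Q'.comap (algebraMap R T) := hq.2 ⟨Ideal.comap_isPrime _ _, bot_le⟩ h4
  have h6 : q.map (algebraMap R T) ≤ Q' := Ideal.map_le_iff_le_comap.mpr h5
  exact hP.2 ⟨hQ'prime, h6⟩ hQ'P

/-- If the radical of `qT` is prime, it is the only minimal prime of `T` over the minimal prime `q`. -/
theorem eq_radical_of_comap_eq {q : Ideal R}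
    (hrad : (q.map (algebraMap R T)).radical.IsPrime) {Q : Ideal T} (hQ : Q ∈ minimalPrimes T)
    (hQq : Q.comap (algebraMap R T) = q) : Q = (q.map (algebraMap R T)).radical := by
  haveI : Q.IsPrime := hQ.1.1
  have h1 : q.map (algebraMap R T) ≤ Q := by rw [Ideal.map_le_iff_le_comap, hQq]
  have h2 : (q.map (algebraMap R T)).radical ≤ Q := (Ideal.IsPrime.radical_le_iff ‹_›).mpr h1
  exact le_antisymm (hQ.2 ⟨hrad, bot_le⟩ h2) h2

/-- The contraction map on minimal primes. -/
noncomputable def comapMin [Module.Flat R T] : minimalPrimes T → minimalPrimes R :=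
  fun Q => ⟨Q.1.comap (algebraMap R T), comap_mem_minimalPrimes_of_flat R T Q.2⟩

theorem comapMin_surjective [Module.FaithfullyFlat R T] :
    Function.Surjective (comapMin R T) := by
  intro q
  obtain ⟨Q, hQ, hQq⟩ := Groth.Agent.Lib.Helper8.BranchCount.exists_minimalPrime_comap_eq R T q.1 q.2
  exact ⟨⟨Q, hQ⟩, Subtype.ext hQq⟩

theorem comapMin_injective_of_radical_isPrime [Module.Flat R T]
    (h : ∀ q ∈ minimalPrimes R, (q.map (algebraMap R T)).radical.IsPrime) :
    Function.Injective (comapMin R T) := by
  intro Q Q' hQQ'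
  have h1 : Q.1.comap (algebraMap R T) = Q'.1.comap (algebraMap R T) := congrArg Subtype.val hQQ'
  have hq := comap_mem_minimalPrimes_of_flat R T Q.2
  apply Subtype.ext
  rw [eq_radical_of_comap_eq R T (h _ hq) Q.2 rfl, eq_radical_of_comap_eq R T (h _ hq) Q'.2 h1.symm]

/-- Faithfully flat, radicals of extended minimal primes prime: same number of minimal primes. -/
theorem card_minimalPrimes_eq_of_radical_isPrime [Module.FaithfullyFlat R T]
    (h : ∀ q ∈ minimalPrimes R, (q.map (algebraMap R T)).radical.IsPrime) :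
    ENat.card (minimalPrimes T) = ENat.card (minimalPrimes R) :=
  ENat.card_congr (Equiv.ofBijective (comapMin R T)
    ⟨comapMin_injective_of_radical_isPrime R T h, comapMin_surjective R T⟩)

/-- If the contraction map on minimal primes is injective, the radical of the extension of a
minimal prime is prime. -/
theorem radical_isPrime_of_injective [Module.FaithfullyFlat R T]
    (hinj : Function.Injective (comapMin R T)) {q : Ideal R} (hq : q ∈ minimalPrimes R) :
    (q.map (algebraMap R T)).radical.IsPrime := by
  obtain ⟨Q0, hQ0⟩ := comapMin_surjective R T ⟨q, hq⟩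
  have hQ0q : Q0.1.comap (algebraMap R T) = q := congrArg Subtype.val hQ0
  haveI : Q0.1.IsPrime := Q0.2.1.1
  have hle : q.map (algebraMap R T) ≤ Q0.1 := by rw [Ideal.map_le_iff_le_comap, hQ0q]
  obtain ⟨P0, hP0, -⟩ := Ideal.exists_minimalPrimes_le hle
  have hset : (q.map (algebraMap R T)).minimalPrimes = {P0} := by
    ext P
    simp only [Set.mem_singleton_iff]
    constructor
    · intro hP
      obtain ⟨h1, h2⟩ := mem_minimalPrimes_of_mem_minimalPrimes_map R T hq hP
      obtain ⟨h3, h4⟩ := mem_minimalPrimes_of_mem_minimalPrimes_map R T hq hP0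
      have : (⟨P, h1⟩ : minimalPrimes T) = ⟨P0, h3⟩ := hinj (Subtype.ext (h2.trans h4.symm))
      exact congrArg Subtype.val this
    · rintro rfl; exact hP0
  rw [← Ideal.sInf_minimalPrimes, hset, sInf_singleton]
  exact hP0.1.1

/-- Converse for finitely many minimal primes. -/
theorem radical_isPrime_of_card_eq [Module.FaithfullyFlat R T] [Finite (minimalPrimes T)]
    (hcard : ENat.card (minimalPrimes T) = ENat.card (minimalPrimes R))
    {q : Ideal R} (hq : q ∈ minimalPrimes R) :
    (q.map (algebraMap R T)).radical.IsPrime := by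
  haveI : Finite (minimalPrimes R) := Finite.of_surjective _ (comapMin_surjective R T)
  refine radical_isPrime_of_injective R T ?_ hq
  have hc : Nat.card (minimalPrimes T) = Nat.card (minimalPrimes R) := by
    have h1 := hcard
    rw [ENat.card_eq_coe_natCard, ENat.card_eq_coe_natCard] at h1
    exact_mod_cast h1
  exact ((Nat.bijective_iff_surjective_and_card _).mpr ⟨comapMin_surjective R T, hc⟩).1

end Groth.Agent.Lib.Helper27.BrCard
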