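import Mathlib
import Groth.Prelude.Def_EGA4b
import Groth.Agent.Lib.Helper8.NormRedStruct

/-!
# Integral closure in the total ring of fractions: transport and normality

* `icEquiv ε` : a ring isomorphism `ε : R₁ ≃+* R₂` induces an isomorphism of the integral closures
  of `R₁`, `R₂` in their total rings of fractions.
* `isNormalRing_integralClosure` : for a reduced ring with finitely many minimal primes, the integral
  closure in the total ring of fractions is a normal ring.
-/

set_option autoImplicit false

namespace Groth.Agent.Lib.Helper27.BrCpl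

universe u

section icEquiv

variable {R₁ R₂ : Type u} [CommRing R₁] [CommRing R₂] (ε : R₁ ≃+* R₂)

/-- The induced isomorphism of total rings of fractions. -/
noncomputable def frEquiv : FractionRing R₁ ≃+* FractionRing R₂ :=
  IsFractionRing.ringEquivOfRingEquiv ε

lemma frEquiv_algebraMap (a : R₁) : frEquiv ε (algebraMap R₁ (FractionRing R₁) a) =
    algebraMap R₂ (FractionRing R₂) (ε a) :=
  IsFractionRing.ringEquivOfRingEquiv_algebraMap ε a

lemma frEquiv_symm_algebraMap (b : R₂) : (frEquiv ε).symm (algebraMap R₂ (FractionRing R₂) b) =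
    algebraMap R₁ (FractionRing R₁) (ε.symm b) := by
  rw [RingEquiv.symm_apply_eq, frEquiv_algebraMap, RingEquiv.apply_symm_apply]

lemma isIntegral_frEquiv {x : FractionRing R₁} (hx : IsIntegral R₁ x) :
    IsIntegral R₂ (frEquiv ε x) := by
  refine IsIntegral.map_of_comp_eq ε.toRingHom (frEquiv ε).toRingHom ?_ hx
  ext a
  exact (frEquiv_algebraMap ε a).symm

lemma isIntegral_frEquiv_symm {y : FractionRing R₂} (hy : IsIntegral R₂ y) :
    IsIntegral R₁ ((frEquiv ε).symm y) := by
  refine IsIntegral.map_of_comp_eq ε.symm.toRingHom (frEquiv ε).symm.toRingHom ?_ hy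
  ext b
  exact (frEquiv_symm_algebraMap ε b).symm

/-- The induced isomorphism of integral closures in the total rings of fractions. -/
noncomputable def icEquiv : integralClosure R₁ (FractionRing R₁) ≃+*
    integralClosure R₂ (FractionRing R₂) where
  toFun x := ⟨frEquiv ε x.1, isIntegral_frEquiv ε x.2⟩
  invFun y := ⟨(frEquiv ε).symm y.1, isIntegral_frEquiv_symm ε y.2⟩
  map_add' x y := Subtype.ext (map_add (frEquiv ε) _ _)
  map_mul' x y := Subtype.ext (map_mul (frEquiv ε) _ _)
  left_inv x := Subtype.ext ((frEquiv ε).symm_apply_apply _)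
  right_inv y := Subtype.ext ((frEquiv ε).apply_symm_apply _)

lemma icEquiv_algebraMap (a : R₁) :
    icEquiv ε (algebraMap R₁ (integralClosure R₁ (FractionRing R₁)) a) =
      algebraMap R₂ (integralClosure R₂ (FractionRing R₂)) (ε a) := by
  apply Subtype.ext
  exact frEquiv_algebraMap ε a

end icEquiv

section normal

variable (R : Type u) [CommRing R] [IsReduced R]

/-- For a reduced ring with finitely many minimal primes, the integral closure in the total ring of
fractions is a normal ring. -/
theorem isNormalRing_integralClosure (hfin : (minimalPrimes R).Finite) :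
    EGA4.IsNormalRing (integralClosure R (FractionRing R)) := by
  intro P hP
  obtain ⟨N, _, _, _, θ, e, hθ, heP, hker⟩ :=
    Groth.Agent.Lib.Helper8.NormRedStruct.exists_normal_quotient hfin P
  -- kernel of θ is inside P
  have hkerP : ∀ x, θ x = 0 → x ∈ P := by
    intro x hx
    have h1 : x * e ∈ P := by rw [hker x hx]; exact P.zero_mem
    exact (hP.mem_or_mem h1).resolve_right heP
  let Q : Ideal N := P.map θ
  have hQmem : ∀ x, θ x ∈ Q → x ∈ P := by
    intro x hx
    rw [Ideal.mem_map_iff_of_surjective θ hθ] at hx
    obtain ⟨y, hy, hyx⟩ := hx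
    have h1 : x - y ∈ P := hkerP _ (by rw [map_sub, hyx, sub_self])
    have : x = (x - y) + y := by ring
    rw [this]; exact P.add_mem h1 hy
  haveI hQ : Q.IsPrime := by
    apply Ideal.map_isPrime_of_surjective hθ
    intro x hx
    exact hkerP x hx
  letI : Algebra (integralClosure R (FractionRing R)) (Localization.AtPrime Q) :=
    ((algebraMap N (Localization.AtPrime Q)).comp θ).toAlgebra
  have halg : ∀ x, algebraMap (integralClosure R (FractionRing R)) (Localization.AtPrime Q) x =
      algebraMap N (Localization.AtPrime Q) (θ x) := fun x => rfl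
  haveI : IsLocalization P.primeCompl (Localization.AtPrime Q) := by
    refine ⟨fun s => ?_, fun z => ?_, fun {x y} hxy => ?_⟩
    · rw [halg]
      apply IsLocalization.map_units (Localization.AtPrime Q) (⟨θ s, ?_⟩ : Q.primeCompl)
      intro hs
      exact s.2 (hQmem _ hs)
    · obtain ⟨⟨n, t⟩, hnt⟩ := IsLocalization.surj Q.primeCompl z
      obtain ⟨x, rfl⟩ := hθ n
      obtain ⟨s, hs⟩ := hθ t.1
      have hsP : s ∈ P.primeCompl := by
        intro hsP
        apply t.2
        rw [← hs]
        exact Ideal.mem_map_of_mem θ hsP
      refine ⟨(x, ⟨s, hsP⟩), ?_⟩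
      simp only [halg, hs]
      exact hnt
    · rw [halg, halg] at hxy
      have h1 : θ x = θ y := IsFractionRing.injective N (FractionRing N) (by
        have := congrArg (algebraMap (Localization.AtPrime Q) (FractionRing N)) hxy
        rwa [← IsScalarTower.algebraMap_apply, ← IsScalarTower.algebraMap_apply] at this)
      refine ⟨⟨e, heP⟩, ?_⟩
      have h2 : (x - y) * e = 0 := hker _ (by rw [map_sub, h1, sub_self])
      have h3 : e * x - e * y = 0 := by rw [← h2]; ring
      exact sub_eq_zero.mp h3
  let ι : Localization.AtPrime P ≃+* Localization.AtPrime Q :=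
    (IsLocalization.algEquiv P.primeCompl (Localization.AtPrime P)
      (Localization.AtPrime Q)).toRingEquiv
  haveI : IsIntegrallyClosed (Localization.AtPrime Q) :=
    isIntegrallyClosed_of_isLocalization _ Q.primeCompl Q.primeCompl_le_nonZeroDivisors
  exact ⟨ι.symm.toMulEquiv.isDomain_iff.mp inferInstance, IsIntegrallyClosed.of_equiv ι.symm⟩

end normal

end Groth.Agent.Lib.Helper27.BrCpl
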