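import Mathlib
import Groth.Prelude
import Groth.Agent.Lib.Helper14.ComplQuot
import Groth.Agent.Lib.Helper14.BrnchCompl

/-!
# Comparing the algebraic closures of the residue fields of `A` and of its completion
-/

set_option autoImplicit false

namespace Groth.Agent.Lib.Helper27.BrCpl

universe u

open IsLocalRing

section closure

variable (A : Type u) [CommRing A] [IsLocalRing A] [IsNoetherianRing A]

local notation "Â" => AdicCompletion (maximalIdeal A) A

theorem residueField_map_cpl_bijective :
    Function.Bijective (ResidueField.map (algebraMap A Â)) := by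
  refine ⟨RingHom.injective _, fun y => ?_⟩
  obtain ⟨x, rfl⟩ := IsLocalRing.residue_surjective y
  obtain ⟨a, ha⟩ := Groth.Agent.Lib.Helper14.ComplQuot.exists_sub_mem_maximalIdeal A x
  refine ⟨IsLocalRing.residue A a, ?_⟩
  rw [ResidueField.map_residue]
  symm
  rw [← sub_eq_zero, ← map_sub, IsLocalRing.residue_eq_zero_iff]
  exact ha

/-- An isomorphism between the algebraic closures of the residue fields of `Â` and `A`, compatible
with the canonical maps from `A`. -/
theorem exists_closure_equiv :
    ∃ j : AlgebraicClosure (ResidueField Â) ≃+* AlgebraicClosure (ResidueField A),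
      ∀ a : A, j (Brnch.toClosure Â (algebraMap A Â a)) = Brnch.toClosure A a := by
  let r : ResidueField A →+* ResidueField Â := ResidueField.map (algebraMap A Â)
  letI : Algebra (ResidueField A) (ResidueField Â) := r.toAlgebra
  letI : Algebra (ResidueField A) (AlgebraicClosure (ResidueField Â)) :=
    ((algebraMap (ResidueField Â) (AlgebraicClosure (ResidueField Â))).comp r).toAlgebra
  haveI : IsScalarTower (ResidueField A) (ResidueField Â) (AlgebraicClosure (ResidueField Â)) :=
    IsScalarTower.of_algebraMap_eq (fun x => rfl)
  haveI : Algebra.IsIntegral (ResidueField A) (ResidueField Â) :=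
    Algebra.isIntegral_of_surjective (residueField_map_cpl_bijective A).2
  haveI : Algebra.IsIntegral (ResidueField A) (AlgebraicClosure (ResidueField Â)) :=
    Algebra.IsIntegral.trans (ResidueField Â)
  haveI : Algebra.IsAlgebraic (ResidueField A) (AlgebraicClosure (ResidueField Â)) :=
    Algebra.IsIntegral.isAlgebraic
  haveI : IsAlgClosure (ResidueField A) (AlgebraicClosure (ResidueField Â)) :=
    ⟨inferInstance, inferInstance⟩
  let j := IsAlgClosure.equiv (ResidueField A) (AlgebraicClosure (ResidueField Â))
    (AlgebraicClosure (ResidueField A))
  refine ⟨j.toRingEquiv, fun a => ?_⟩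
  have h1 : Brnch.toClosure Â (algebraMap A Â a) =
      algebraMap (ResidueField A) (AlgebraicClosure (ResidueField Â)) (IsLocalRing.residue A a) := by
    show _ = algebraMap (ResidueField Â) (AlgebraicClosure (ResidueField Â))
      (r (IsLocalRing.residue A a))
    rw [ResidueField.map_residue]
    rfl
  rw [h1]
  exact j.commutes _

end closure

end Groth.Agent.Lib.Helper27.BrCpl
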