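import Groth.Agent.Lib.Helper27.BrCpl1
import Groth.Agent.Lib.Helper27.BrCpl2
import Groth.Agent.Lib.Helper27.BrCpl3
import Groth.Agent.Lib.Helper27.DeltaInv2
import Groth.Agent.Lib.Helper8.BranchCountGeom
import Groth.Agent.Lib.Helper8.NormRedTensor
import Groth.Agent.Lib.Helper14.NormalHomComp
import Groth.Agent.Lib.Helper14.NormalRing
import Groth.Agent.Lib.Helper14.ComplEtale
import Groth.Agent.S4754
import Groth.Agent.S2646

set_option autoImplicit false

namespace Groth.Agent.Lib.Helper27.BrCpl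

universe u

open IsLocalRing TensorProduct EGA4 Groth.Agent.Lib.Helper14.ComplFlat
  Groth.Agent.Lib.Helper14.ComplQuot

attribute [local instance] Algebra.TensorProduct.rightAlgebra

section main

variable (A : Type u) [CommRing A] [IsLocalRing A] [IsNoetherianRing A]

local notation "Â" => AdicCompletion (maximalIdeal A) A

instance : Nontrivial (A ⧸ nilradical A) :=
  Ideal.Quotient.nontrivial_iff.mpr (fun h => by
    have h1 : (1 : A) ∈ nilradical A := by rw [h]; trivial
    have h2 : IsNilpotent (1 : A) := mem_nilradical.mp h1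
    obtain ⟨n, hn⟩ := h2
    rw [one_pow] at hn
    exact one_ne_zero hn)

local notation "A₀" => CAlg2.red A
local notation "B" => Cpl (CAlg2.red A)
local notation "A'" => CAlg2.normRed A

theorem ker_cplMap_red (hredB : IsReduced B) :
    RingHom.ker (cplMap A A₀) = nilradical Â := by
  apply le_antisymm
  · rw [Groth.Agent.Lib.Helper14.ComplQuot.ker_cplMap, Ideal.map_le_iff_le_comap]
    intro a ha
    exact mem_nilradical.mpr ((mem_nilradical.mp ha).map _)
  · intro x hx
    have : IsNilpotent (cplMap A A₀ x) := (mem_nilradical.mp hx).map _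
    exact RingHom.mem_ker.mpr this.eq_zero

theorem exists_phi (hA : HasGeomNormalFormalFibres A) :
    ∃ (f : CAlg2.normRed Â →+* (A' ⊗[A₀] B)) (g : (A' ⊗[A₀] B) →+* CAlg2.normRed Â),
      (∀ y, g (f y) = y) ∧ (∀ z, f (g z) = z) ∧
      ∀ x : Â, f (algebraMap Â (CAlg2.normRed Â) x) = (1 : A') ⊗ₜ[A₀] (cplMap A A₀ x) := by
  classical
  have hA0 : HasGeomNormalFormalFibres A₀ := Groth.Agent.S4754.result A hA (nilradical A)
  obtain ⟨hredB, hfin⟩ := Groth.Agent.S2646.result A₀ hA0
  haveI : Module.Finite A₀ A' := hfin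
  haveI : IsReduced B := hredB
  haveI : IsNoetherianRing B := Groth.Agent.Lib.Helper14.ComplEtale.isNoetherianRing_completion A₀
  have hn1 : IsNormalRing A' :=
    isNormalRing_integralClosure A₀ (minimalPrimes.finite_of_isNoetherianRing A₀)
  have hNH : IsNormalHom A₀ B := ⟨inferInstance, fun p _ => hA0 p⟩
  have hN := Groth.Agent.Lib.Helper14.NormalHomComp.isNormalHom_tensor_of_quasiFinite A₀ B A' hNH
  haveI : IsNoetherianRing A' := IsNoetherianRing.of_finite A₀ A'
  let ec : (B ⊗[A₀] A') ≃+* (A' ⊗[A₀] B) := (Algebra.TensorProduct.comm A₀ B A').toRingEquiv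
  haveI : IsNoetherianRing (B ⊗[A₀] A') := by
    have h := IsNoetherianRing.of_finite B (B ⊗[A₀] A')
    exact h
  haveI : IsNoetherianRing (A' ⊗[A₀] B) :=
    isNoetherianRing_of_ringEquiv (R := B ⊗[A₀] A') (S := A' ⊗[A₀] B) ec
  have hn2 := Groth.Agent.Lib.Helper14.NormalHomComp.isNormalRing_of_isNormalHom _ _ hN hn1
  have hn3 : IsNormalRing (B ⊗[A₀] A') :=
    Groth.Agent.Lib.Helper14.isNormalRing_of_ringEquiv ec.symm hn2
  let te := Groth.Agent.Lib.Helper27.DeltaBC.tensorEquiv A₀ B hn3
  have hsurj := Groth.Agent.Lib.Helper14.ComplQuot.cplMap_surjective A (nilradical A)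
  have hker := ker_cplMap_red A hredB
  let ε : CAlg2.red Â ≃+* B :=
    (Ideal.quotEquivOfEq hker.symm).trans (RingHom.quotientKerEquivOfSurjective hsurj)
  have hε : ∀ x : Â, ε (Ideal.Quotient.mk _ x) = cplMap A A₀ x := fun x => rfl
  let Ψ := icEquiv ε
  let cm := Algebra.TensorProduct.comm A₀ B A'
  refine ⟨cm.toAlgHom.toRingHom.comp (te.symm.toAlgHom.toRingHom.comp Ψ.toRingHom),
    Ψ.symm.toRingHom.comp (te.toAlgHom.toRingHom.comp cm.symm.toAlgHom.toRingHom),
    fun y => ?_, fun z => ?_, fun x => ?_⟩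
  · show Ψ.symm (te (cm.symm (cm (te.symm (Ψ y))))) = y
    rw [AlgEquiv.symm_apply_apply, AlgEquiv.apply_symm_apply, RingEquiv.symm_apply_apply]
  · show cm (te.symm (Ψ (Ψ.symm (te (cm.symm z))))) = z
    rw [RingEquiv.apply_symm_apply, AlgEquiv.symm_apply_apply, AlgEquiv.apply_symm_apply]
  · have h1 : algebraMap Â (CAlg2.normRed Â) x =
        algebraMap (CAlg2.red Â) (CAlg2.normRed Â) (Ideal.Quotient.mk _ x) := by
      rw [IsScalarTower.algebraMap_apply Â (CAlg2.red Â) (CAlg2.normRed Â)]
      rfl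
    rw [h1]
    show cm (te.symm (Ψ _)) = _
    rw [icEquiv_algebraMap ε, hε, AlgEquiv.commutes]
    rfl

/-- A ring isomorphism induces a bijection on maximal spectra. -/
noncomputable def maxSpecEquiv {R S : Type u} [CommRing R] [CommRing S] (f : R →+* S)
    (g : S →+* R) (hgf : ∀ x, g (f x) = x) (hfg : ∀ y, f (g y) = y) :
    MaximalSpectrum R ≃ MaximalSpectrum S where
  toFun M := haveI := M.isMaximal
    ⟨M.asIdeal.comap g, Ideal.comap_isMaximal_of_surjective g (fun x => ⟨f x, hgf x⟩)⟩
  invFun N := haveI := N.isMaximal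
    ⟨N.asIdeal.comap f, Ideal.comap_isMaximal_of_surjective f (fun y => ⟨g y, hfg y⟩)⟩
  left_inv M := by
    apply MaximalSpectrum.ext
    ext x
    simp [Ideal.mem_comap, hgf]
  right_inv N := by
    apply MaximalSpectrum.ext
    ext x
    simp [Ideal.mem_comap, hfg]

open Groth.Agent.Lib.Helper8.BranchCountGeom in
theorem main (hA : HasGeomNormalFormalFibres A) :
    ENat.card (MaximalSpectrum (CAlg2.normRed Â)) = ENat.card (MaximalSpectrum A') ∧
    ENat.card (Σ m' : MaximalSpectrum (CAlg2.normRed Â), Brnch.Emb Â m') =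
      ENat.card (Σ m' : MaximalSpectrum A', Brnch.Emb A m') := by
  obtain ⟨f, g, hgf, hfg, hΦ⟩ := exists_phi A hA
  have hres : ∀ b : B, ∃ a : A₀, b - algebraMap A₀ B a ∈ maximalIdeal B :=
    fun b => Groth.Agent.Lib.Helper14.ComplQuot.exists_sub_mem_maximalIdeal A₀ b
  haveI : Module.FaithfullyFlat A₀ B := Module.FaithfullyFlat.of_flat_of_isLocalHom
  refine ⟨?_, ?_⟩
  · rw [ENat.card_congr (maxSpecEquiv (R := CAlg2.normRed Â) (S := A' ⊗[A₀] B) f g hgf hfg)]
    exact card_maximalSpectrum_tensor A₀ B A' hres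
  · obtain ⟨j, hj⟩ := exists_closure_equiv A
    have hsurj := Groth.Agent.Lib.Helper14.ComplQuot.cplMap_surjective A (nilradical A)
    have hle : RingHom.ker (cplMap A A₀) ≤ RingHom.ker (Brnch.toClosure Â) := by
      rw [Groth.Agent.Lib.Helper14.ComplQuot.ker_cplMap, Ideal.map_le_iff_le_comap]
      intro a ha
      rw [Ideal.mem_comap, RingHom.mem_ker]
      exact ((mem_nilradical.mp ha).map ((Brnch.toClosure Â).comp (algebraMap A Â))).eq_zero
    let τ' : B →+* AlgebraicClosure (ResidueField Â) :=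
      (cplMap A A₀).liftOfSurjective hsurj ⟨Brnch.toClosure Â, hle⟩
    have hτ' : ∀ x, τ' (cplMap A A₀ x) = Brnch.toClosure Â x := fun x =>
      RingHom.liftOfSurjective_comp_apply (cplMap A A₀) hsurj ⟨Brnch.toClosure Â, hle⟩ x
    have hkey : ∀ a : A, algebraMap A₀ B (Ideal.Quotient.mk _ a) =
        cplMap A A₀ (algebraMap A Â a) := fun a =>
      (DFunLike.congr_fun (cplMap_comp A A₀) a).symm
    let Ea : {ψ : CAlg2.normRed Â →+* AlgebraicClosure (ResidueField Â) //
        ψ.comp (algebraMap Â (CAlg2.normRed Â)) = Brnch.toClosure Â} ≃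
        HomOver B (A' ⊗[A₀] B) (AlgebraicClosure (ResidueField Â)) τ' :=
      { toFun := fun ψ => ⟨ψ.1.comp g, by
          refine RingHom.ext fun b => ?_
          obtain ⟨x, rfl⟩ := hsurj b
          show ψ.1 (g ((1 : A') ⊗ₜ[A₀] cplMap A A₀ x)) = τ' (cplMap A A₀ x)
          rw [← hΦ x, hgf, hτ']
          exact congr($(ψ.2) x)⟩
        invFun := fun χ => ⟨χ.1.comp f, by
          refine RingHom.ext fun x => ?_
          show χ.1 (f (algebraMap Â (CAlg2.normRed Â) x)) = Brnch.toClosure Â x
          rw [hΦ, ← hτ']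
          exact congr($(χ.2) (cplMap A A₀ x))⟩
        left_inv := fun ψ => Subtype.ext (RingHom.ext fun y => by
          show ψ.1 (g (f y)) = ψ.1 y
          rw [hgf])
        right_inv := fun χ => Subtype.ext (RingHom.ext fun y => by
          show χ.1 (f (g y)) = χ.1 y
          rw [hfg]) }
    let Eb := Equiv.ofBijective
      (restrictLeft A₀ A' B (AlgebraicClosure (ResidueField Â)) τ' (τ'.comp (algebraMap A₀ B)) rfl)
      ⟨restrictLeft_injective A₀ A' B _ τ' _ rfl, restrictLeft_surjective A₀ A' B _ τ' _ rfl⟩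
    let Ec : {ψ : A' →+* AlgebraicClosure (ResidueField Â) //
        ψ.comp (algebraMap A₀ A') = τ'.comp (algebraMap A₀ B)} ≃
        {φ : A' →+* AlgebraicClosure (ResidueField A) //
          φ.comp (algebraMap A A') = Brnch.toClosure A} :=
      { toFun := fun ψ => ⟨j.toRingHom.comp ψ.1, by
          refine RingHom.ext fun a => ?_
          show j (ψ.1 (algebraMap A A' a)) = Brnch.toClosure A a
          rw [IsScalarTower.algebraMap_apply A A₀ A', ← hj a, ← hτ', ← hkey]
          exact congrArg j (congr($(ψ.2) (Ideal.Quotient.mk _ a)))⟩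
        invFun := fun φ => ⟨j.symm.toRingHom.comp φ.1, by
          refine RingHom.ext fun a0 => ?_
          obtain ⟨a, rfl⟩ := Ideal.Quotient.mk_surjective a0
          show j.symm (φ.1 (algebraMap A₀ A' (Ideal.Quotient.mk _ a))) =
            τ' (algebraMap A₀ B (Ideal.Quotient.mk _ a))
          rw [hkey, hτ', RingEquiv.symm_apply_eq, hj a]
          have := congr($(φ.2) a)
          rw [RingHom.comp_apply, IsScalarTower.algebraMap_apply A A₀ A'] at this
          exact this⟩
        left_inv := fun ψ => Subtype.ext (RingHom.ext fun y => by simp)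
        right_inv := fun φ => Subtype.ext (RingHom.ext fun y => by simp) }
    rw [ENat.card_congr (Equiv.ofBijective (embToHom Â) ⟨embToHom_injective Â, embToHom_surjective Â⟩),
      ENat.card_congr (Equiv.ofBijective (embToHom A) ⟨embToHom_injective A, embToHom_surjective A⟩)]
    exact ENat.card_congr (Ea.trans (Eb.trans Ec))

end main
end Groth.Agent.Lib.Helper27.BrCpl
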