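import Groth.Agent.Lib.Helper4.SerreNormal
import Groth.Agent.Lib.Helper4.SkRing
import Groth.Agent.Lib.Helper4.FiniteExt
import Groth.Agent.Lib.Helper4.FlatDepth
import Groth.Agent.Lib.Helper4.Hartshorne
import Groth.Agent.Lib.Helper4.Depth2
import Groth.Agent.Lib.Helper5.HartogsDepth

/-!
# Components of a flat local algebra over a normal-ish base have dimension ≥ 2 (helper27)

`core`: `R → S` flat local homomorphism of Noetherian local rings, `D'` a finite `R`-algebra which
is a normal local domain of dimension `≥ 2`, `Q` a minimal prime of `S` whose contraction contains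
the kernel of `R → D'`.  Then `dim S/Q ≥ 2`.
-/

set_option autoImplicit false
set_option linter.style.haveILetI false

universe u

open IsLocalRing TensorProduct

namespace Groth.Agent.Lib.Helper27.C2Flat

section

variable (R S D' : Type u) [CommRing R] [CommRing S] [CommRing D']
  [IsLocalRing R] [IsLocalRing S] [IsNoetherianRing R] [IsNoetherianRing S]
  [Algebra R S] [IsLocalHom (algebraMap R S)] [Module.Flat R S]
  [Algebra R D'] [Module.Finite R D'] [IsDomain D'] [IsLocalRing D'] [IsIntegrallyClosed D']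

/-- depth of a normal Noetherian local domain of dimension `≥ 2` is `≥ 2`. -/
theorem two_le_depth_self [IsNoetherianRing D'] (hdim : 2 ≤ ringKrullDim D') :
    (2 : ℕ∞) ≤ LocCoh.depth D' D' := by
  have hS2 : LocCoh.HasSk 2 D' D' := by
    refine ((Groth.Agent.Lib.Helper4.SerreNormal.serre_criterion D').1 ?_).2
    intro p hp
    have hle : p.primeCompl ≤ nonZeroDivisors D' := p.primeCompl_le_nonZeroDivisors
    exact ⟨IsLocalization.isDomain_localization hle,
      isIntegrallyClosed_of_isLocalization _ p.primeCompl hle⟩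
  have hht : (2 : ℕ∞) ≤ (maximalIdeal D').height := by
    have h := IsLocalRing.maximalIdeal_height_eq_ringKrullDim (R := D')
    rw [← h] at hdim
    have h' : ((2 : ℕ∞) : WithBot ℕ∞) ≤ ((maximalIdeal D').height : WithBot ℕ∞) := hdim
    exact WithBot.coe_le_coe.mp h'
  have h1 := Groth.Agent.Lib.Helper4.natCast_le_depth_of_hasSk 2 hS2 (maximalIdeal D')
    (by exact_mod_cast hht)
  have hunits : ∀ x ∈ (maximalIdeal D').primeCompl, IsUnit x := by
    intro x hx
    by_contra hnu
    exact hx ((mem_maximalIdeal x).mpr hnu)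
  let e : D' ≃ₐ[D'] Localization.AtPrime (maximalIdeal D') :=
    IsLocalization.atUnits D' (maximalIdeal D').primeCompl hunits
  have h2 := Groth.Agent.Lib.Helper5.Hartogs.depth_le_of_ringEquiv e.symm.toRingEquiv
  exact le_trans (by exact_mod_cast h1) h2

end



section

variable (R S D' : Type u) [CommRing R] [CommRing S] [CommRing D']
  [IsLocalRing R] [IsLocalRing S] [IsNoetherianRing R] [IsNoetherianRing S]
  [Algebra R S] [IsLocalHom (algebraMap R S)] [Module.Flat R S]
  [Algebra R D'] [Module.Finite R D'] [IsDomain D'] [IsLocalRing D'] [IsIntegrallyClosed D']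

theorem comap_maximalIdeal_eq :
    (maximalIdeal D').comap (algebraMap R D') = maximalIdeal R := by
  haveI : Algebra.IsIntegral R D' := Algebra.IsIntegral.of_finite R D'
  haveI hmax : ((maximalIdeal D').comap (algebraMap R D')).IsMaximal :=
    Ideal.isMaximal_comap_of_isIntegral_of_isMaximal _
  exact IsLocalRing.eq_maximalIdeal hmax

theorem zeroLocus_map_maximalIdeal :
    PrimeSpectrum.zeroLocus (((maximalIdeal R).map (algebraMap R D') : Ideal D') : Set D') =
      PrimeSpectrum.zeroLocus ((maximalIdeal D' : Ideal D') : Set D') := by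
  haveI : Algebra.IsIntegral R D' := Algebra.IsIntegral.of_finite R D'
  apply le_antisymm
  · intro 𝔮 h𝔮
    rw [PrimeSpectrum.mem_zeroLocus, SetLike.coe_subset_coe] at h𝔮 ⊢
    have h1 : maximalIdeal R ≤ 𝔮.asIdeal.comap (algebraMap R D') :=
      Ideal.map_le_iff_le_comap.mp h𝔮
    haveI : (𝔮.asIdeal.comap (algebraMap R D')).IsPrime := Ideal.comap_isPrime _ _
    have h2 : 𝔮.asIdeal.comap (algebraMap R D') = maximalIdeal R :=
      ((maximalIdeal.isMaximal R).eq_of_le (Ideal.IsPrime.ne_top inferInstance) h1).symm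
    haveI : (𝔮.asIdeal.comap (algebraMap R D')).IsMaximal := h2 ▸ maximalIdeal.isMaximal R
    haveI : 𝔮.asIdeal.IsMaximal := Ideal.isMaximal_of_isIntegral_of_isMaximal_comap (R := R) _ ‹_›
    rw [IsLocalRing.eq_maximalIdeal ‹𝔮.asIdeal.IsMaximal›]
  · apply PrimeSpectrum.zeroLocus_anti_mono
    rw [SetLike.coe_subset_coe, Ideal.map_le_iff_le_comap, comap_maximalIdeal_eq R D']

theorem two_le_idealDepth_base [IsNoetherianRing D'] (hdim : 2 ≤ ringKrullDim D') :
    (2 : ℕ∞) ≤ LocCoh.idealDepth (maximalIdeal R) D' := by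
  rw [Groth.Agent.Lib.Helper4.idealDepth_map_eq (A := R) (B := D') (maximalIdeal R) D',
    Groth.Agent.Lib.Helper4.idealDepth_eq_of_zeroLocus_eq _ (maximalIdeal D') D'
      (zeroLocus_map_maximalIdeal R D').symm]
  exact two_le_depth_self D' hdim

theorem two_le_depth_tensor [IsNoetherianRing D'] (hdim : 2 ≤ ringKrullDim D') :
    (2 : ℕ∞) ≤ LocCoh.depth S (S ⊗[R] D') := by
  have h1 := two_le_idealDepth_base R D' hdim
  have h2 := Groth.Agent.Lib.Helper4.idealDepth_le_idealDepth_tensor (A := R) (B := S) D'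
    (maximalIdeal R)
  have h3 : LocCoh.idealDepth ((maximalIdeal R).map (algebraMap R S)) (S ⊗[R] D') ≤
      LocCoh.idealDepth (maximalIdeal S) (S ⊗[R] D') := by
    apply Groth.Agent.Lib.Helper4.idealDepth_le_of_zeroLocus_subset
    apply PrimeSpectrum.zeroLocus_anti_mono
    rw [SetLike.coe_subset_coe, Ideal.map_le_iff_le_comap]
    intro a ha
    rw [Ideal.mem_comap, mem_maximalIdeal, mem_nonunits_iff]
    intro hu
    exact ha (isUnit_of_map_unit _ _ hu)
  exact h1.trans (h2.trans h3)

end



section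

variable (R S D' : Type u) [CommRing R] [CommRing S] [CommRing D']
  [Algebra R S] [Module.Flat R S] [Algebra R D'] 

/-- If `s ⊗ 1 = 0` in `S ⊗[R] D'` then `s` lies in every prime `Q` of `S` whose contraction
contains the kernel of `R → D'`. -/
theorem mem_of_tmul_one_eq_zero (Q : Ideal S) [Q.IsPrime]
    (hker : RingHom.ker (algebraMap R D') ≤ Q.comap (algebraMap R S))
    (s : S) (hs : s ⊗ₜ[R] (1 : D') = 0) : s ∈ Q := by
  -- the injective `R`-linear map `R ⧸ ker → D'`
  let ι : (R ⧸ RingHom.ker (algebraMap R D')) →ₗ[R] D' :=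
    Submodule.liftQ _ (Algebra.linearMap R D') (le_of_eq rfl)
  have hι : Function.Injective ι := by
    rw [← LinearMap.ker_eq_bot]
    exact Submodule.ker_liftQ_eq_bot _ _ _ (le_of_eq rfl)
  have hinj : Function.Injective (ι.lTensor S) :=
    Module.Flat.lTensor_preserves_injective_linearMap ι hι
  have h1 : (s ⊗ₜ[R] (1 : R ⧸ RingHom.ker (algebraMap R D'))) = 0 := by
    apply hinj
    rw [map_zero, LinearMap.lTensor_tmul]
    have : ι 1 = 1 := by
      show ι (Submodule.Quotient.mk 1) = 1
      rw [Submodule.liftQ_apply, Algebra.linearMap_apply]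
      exact map_one _
    rw [this, hs]
  -- map to `S ⧸ Q`
  let g : (R ⧸ RingHom.ker (algebraMap R D')) →ₐ[R] (S ⧸ Q) :=
    Ideal.Quotient.liftₐ _ (Algebra.ofId R (S ⧸ Q)) (by
      intro a ha
      have h2 : a ∈ Q.comap (algebraMap R S) := hker ha
      rw [Algebra.ofId_apply, IsScalarTower.algebraMap_apply R S (S ⧸ Q)]
      exact Ideal.Quotient.eq_zero_iff_mem.mpr h2)
  let f : S →ₐ[R] (S ⧸ Q) := IsScalarTower.toAlgHom R S (S ⧸ Q)
  have h3 := congrArg (Algebra.TensorProduct.productMap f g) h1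
  rw [map_zero, Algebra.TensorProduct.productMap_apply_tmul, map_one, mul_one] at h3
  exact Ideal.Quotient.eq_zero_iff_mem.mp h3

end

section

variable (R S D' : Type u) [CommRing R] [CommRing S] [CommRing D']
  [IsLocalRing R] [IsLocalRing S] [IsNoetherianRing R] [IsNoetherianRing S]
  [Algebra R S] [IsLocalHom (algebraMap R S)] [Module.Flat R S]
  [Algebra R D'] [Module.Finite R D'] [IsDomain D'] [IsLocalRing D'] [IsIntegrallyClosed D']

theorem mem_associatedPrimes_tensor (Q : Ideal S) (hQ : Q ∈ minimalPrimes S)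
    (hker : RingHom.ker (algebraMap R D') ≤ Q.comap (algebraMap R S)) :
    Q ∈ associatedPrimes S (S ⊗[R] D') := by
  haveI := hQ.1.1
  apply Module.associatedPrimes.minimalPrimes_annihilator_subset_associatedPrimes
  refine ⟨⟨hQ.1.1, ?_⟩, ?_⟩
  · intro s hs
    apply mem_of_tmul_one_eq_zero R S D' Q hker s
    have := Module.mem_annihilator.mp hs ((1 : S) ⊗ₜ[R] (1 : D'))
    rwa [TensorProduct.smul_tmul', smul_eq_mul, mul_one] at this
  · intro b hb hbQ
    exact hQ.2 ⟨hb.1, bot_le⟩ hbQ

end


section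

variable (R S D' : Type u) [CommRing R] [CommRing S] [CommRing D']
  [IsLocalRing R] [IsLocalRing S] [IsNoetherianRing R] [IsNoetherianRing S]
  [Algebra R S] [IsLocalHom (algebraMap R S)] [Module.Flat R S]
  [Algebra R D'] [Module.Finite R D'] [IsDomain D'] [IsLocalRing D'] [IsIntegrallyClosed D']

theorem core (hdim : 2 ≤ ringKrullDim D') (Q : Ideal S) (hQ : Q ∈ minimalPrimes S)
    (hker : RingHom.ker (algebraMap R D') ≤ Q.comap (algebraMap R S)) :
    2 ≤ ringKrullDim (S ⧸ Q) := by
  haveI : IsNoetherianRing D' := IsNoetherianRing.of_finite R D'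
  have h1 := two_le_depth_tensor R S D' hdim
  have h2 := Groth.Agent.Lib.Helper4.depth_le_ringKrullDim_quotient
    (mem_associatedPrimes_tensor R S D' Q hQ hker)
  refine le_trans ?_ h2
  have h1' : ((2 : ℕ∞) : WithBot ℕ∞) ≤ ((LocCoh.depth S (S ⊗[R] D') : ℕ∞) : WithBot ℕ∞) :=
    WithBot.coe_le_coe.mpr h1
  exact h1'

end

end Groth.Agent.Lib.Helper27.C2Flat
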