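import Groth.Agent.Lib.Helper27.C2Flat
import Groth.Agent.Lib.Helper27.NagCompl2
import Groth.Agent.Lib.Helper27.BrCard
import Groth.Agent.Lib.Helper12.IntegralDim

/-!
# The `c_2` condition ascends along flat local homomorphisms from a complete local ring (helper27)
-/

set_option autoImplicit false
set_option linter.style.haveILetI false

universe u

open IsLocalRing TensorProduct

namespace Groth.Agent.Lib.Helper27.C2Flat

theorem c2_of_flat_complete (R S : Type u) [CommRing R] [CommRing S]
    [IsLocalRing R] [IsLocalRing S] [IsNoetherianRing R] [IsNoetherianRing S]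
    [IsAdicComplete (maximalIdeal R) R]
    [Algebra R S] [IsLocalHom (algebraMap R S)] [Module.Flat R S]
    (hR : ∀ q ∈ minimalPrimes R, (2 : WithBot ℕ∞) ≤ ringKrullDim (R ⧸ q)) :
    ∀ q ∈ minimalPrimes S, (2 : WithBot ℕ∞) ≤ ringKrullDim (S ⧸ q) := by
  intro Q hQ
  haveI := hQ.1.1
  have hP : Q.comap (algebraMap R S) ∈ minimalPrimes R :=
    Groth.Agent.Lib.Helper27.BrCard.comap_mem_minimalPrimes_of_flat R S hQ
  generalize hPdef : Q.comap (algebraMap R S) = P at hP
  haveI : P.IsPrime := hP.1.1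
  haveI : IsLocalRing (R ⧸ P) :=
    IsLocalRing.of_surjective' (Ideal.Quotient.mk P) Ideal.Quotient.mk_surjective
  haveI : IsAdicComplete (maximalIdeal (R ⧸ P)) (R ⧸ P) := by
    have h := Groth.Agent.Lib.Helper15.CS.isAdicComplete_quotient (maximalIdeal R) P
    have e : (maximalIdeal R).map (algebraMap R (R ⧸ P)) = maximalIdeal (R ⧸ P) :=
      map_maximalIdeal_of_surjective (Ideal.Quotient.mk _) Ideal.Quotient.mk_surjective
    rwa [e] at h
  obtain ⟨hfin, hloc, -⟩ := Groth.Agent.Lib.Helper27.NagCompl.integralClosure_complete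
    (A := R ⧸ P) (K' := FractionRing (R ⧸ P))
  haveI := hfin
  haveI := hloc
  haveI hic : IsIntegrallyClosed (integralClosure (R ⧸ P) (FractionRing (R ⧸ P))) :=
    integralClosure.isIntegrallyClosedOfFiniteExtension (FractionRing (R ⧸ P))
  have hinj : Function.Injective
      (algebraMap (R ⧸ P) (integralClosure (R ⧸ P) (FractionRing (R ⧸ P)))) := by
    intro a b hab
    apply IsFractionRing.injective (R ⧸ P) (FractionRing (R ⧸ P))
    exact congrArg (Subtype.val) hab
  have hdim : (2 : WithBot ℕ∞) ≤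
      ringKrullDim (integralClosure (R ⧸ P) (FractionRing (R ⧸ P))) :=
    (hR P hP).trans (Groth.Agent.Lib.Helper12.ringKrullDim_le_of_isIntegral_of_injective hinj)
  letI : Algebra R (integralClosure (R ⧸ P) (FractionRing (R ⧸ P))) :=
    ((algebraMap (R ⧸ P) (integralClosure (R ⧸ P) (FractionRing (R ⧸ P)))).comp
      (Ideal.Quotient.mk P)).toAlgebra
  haveI : IsScalarTower R (R ⧸ P) (integralClosure (R ⧸ P) (FractionRing (R ⧸ P))) :=
    IsScalarTower.of_algebraMap_eq (fun _ => rfl)
  haveI : Module.Finite R (integralClosure (R ⧸ P) (FractionRing (R ⧸ P))) :=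
    Module.Finite.trans (R ⧸ P) _
  refine core R S (integralClosure (R ⧸ P) (FractionRing (R ⧸ P))) hdim Q hQ ?_
  intro a ha
  rw [hPdef]
  rw [RingHom.mem_ker] at ha
  have h1 : algebraMap (R ⧸ P) (integralClosure (R ⧸ P) (FractionRing (R ⧸ P)))
      (Ideal.Quotient.mk P a) = 0 := ha
  rw [map_eq_zero_iff _ hinj, Ideal.Quotient.eq_zero_iff_mem] at h1
  exact h1

end Groth.Agent.Lib.Helper27.C2Flat
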