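import Mathlib
import Groth.Prelude.Def_CycDet

/-!
# Determinants of finite length modules: basic lemmas

`spanBefore` calculus, the three admissible relations as equalities of symbols, the
"change entries by earlier span" lemma, and moving a socle element to the front.
-/

set_option autoImplicit false
universe u v
open IsLocalRing CycDet

namespace Groth.Agent.Lib.Helper27.CD

variable {R : Type u} [CommRing R] [IsLocalRing R] {M : Type v} [AddCommGroup M] [Module R M]

theorem spanBefore_zero {l : ℕ} (e : Fin l → M) : spanBefore R M e 0 = ⊥ := by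
  unfold spanBefore
  have : {j : Fin l | (j : ℕ) < 0} = ∅ := by ext j; simp
  rw [this, Set.image_empty, Submodule.span_empty]

theorem mem_spanBefore {l : ℕ} (e : Fin l → M) {i : ℕ} (j : Fin l) (h : (j : ℕ) < i) :
    e j ∈ spanBefore R M e i :=
  Submodule.subset_span ⟨j, h, rfl⟩

theorem spanBefore_le_iff {l : ℕ} (e : Fin l → M) (i : ℕ) (S : Submodule R M) :
    spanBefore R M e i ≤ S ↔ ∀ j : Fin l, (j : ℕ) < i → e j ∈ S := by
  unfold spanBefore
  rw [Submodule.span_le]
  constructor
  · intro h j hj; exact h ⟨j, hj, rfl⟩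
  · rintro h _ ⟨j, hj, rfl⟩; exact h j hj

theorem spanBefore_mono {l : ℕ} (e : Fin l → M) {i j : ℕ} (h : i ≤ j) :
    spanBefore R M e i ≤ spanBefore R M e j := by
  rw [spanBefore_le_iff]
  intro k hk
  exact mem_spanBefore e k (lt_of_lt_of_le hk h)

theorem spanBefore_succ {l : ℕ} (e : Fin l → M) (k : ℕ) (hk : k < l) :
    spanBefore R M e (k + 1) = spanBefore R M e k ⊔ Submodule.span R {e ⟨k, hk⟩} := by
  apply le_antisymm
  · rw [spanBefore_le_iff]
    intro j hj
    rcases Nat.lt_succ_iff_lt_or_eq.mp hj with h | h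
    · exact Submodule.mem_sup_left (mem_spanBefore e j h)
    · have : j = ⟨k, hk⟩ := Fin.ext h
      rw [this]
      exact Submodule.mem_sup_right (Submodule.mem_span_singleton_self _)
  · apply sup_le (spanBefore_mono e (Nat.le_succ _))
    rw [Submodule.span_singleton_le_iff_mem]
    exact mem_spanBefore e ⟨k, hk⟩ (Nat.lt_succ_self _)

theorem spanBefore_of_le {l : ℕ} (e : Fin l → M) {i : ℕ} (h : l ≤ i) :
    spanBefore R M e i = Submodule.span R (Set.range e) := by
  unfold spanBefore
  congr 1
  ext x
  constructor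
  · rintro ⟨j, -, rfl⟩; exact ⟨j, rfl⟩
  · rintro ⟨j, rfl⟩; exact ⟨j, lt_of_lt_of_le j.2 h, rfl⟩

theorem spanBefore_eq_of_mem {l : ℕ} (e e' : Fin l → M) (i : ℕ)
    (h1 : ∀ j : Fin l, (j : ℕ) < i → e j ∈ spanBefore R M e' i)
    (h2 : ∀ j : Fin l, (j : ℕ) < i → e' j ∈ spanBefore R M e i) :
    spanBefore R M e i = spanBefore R M e' i :=
  le_antisymm ((spanBefore_le_iff e i _).mpr h1) ((spanBefore_le_iff e' i _).mpr h2)

theorem spanBefore_congr {l : ℕ} (e e' : Fin l → M) (i : ℕ)
    (h : ∀ j : Fin l, (j : ℕ) < i → e j = e' j) : spanBefore R M e i = spanBefore R M e' i := by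
  apply spanBefore_eq_of_mem
  · intro j hj; rw [h j hj]; exact mem_spanBefore e' j hj
  · intro j hj; rw [← h j hj]; exact mem_spanBefore e j hj

theorem spanBefore_update {l : ℕ} (e : Fin l → M) (a : Fin l) (y : M) (i : ℕ) (hi : i ≤ (a : ℕ)) :
    spanBefore R M (Function.update e a y) i = spanBefore R M e i :=
  spanBefore_congr _ _ i (fun j hj => Function.update_of_ne (fun h => by rw [h] at hj; omega) _ _)

theorem spanBefore_eq_of_sub_mem {l : ℕ} (e e' : Fin l → M) (k : ℕ)
    (h : ∀ j : Fin l, (j : ℕ) < k → e j - e' j ∈ spanBefore R M e j) :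
    spanBefore R M e k = spanBefore R M e' k := by
  induction k with
  | zero => rw [spanBefore_zero, spanBefore_zero]
  | succ k ih =>
    have ih' := ih (fun j hj => h j (Nat.lt_succ_of_lt hj))
    by_cases hk : k < l
    · have ha : e ⟨k, hk⟩ - e' ⟨k, hk⟩ ∈ spanBefore R M e k := h ⟨k, hk⟩ (Nat.lt_succ_self k)
      rw [spanBefore_succ e k hk, spanBefore_succ e' k hk, ← ih']
      apply le_antisymm
      · apply sup_le le_sup_left
        rw [Submodule.span_singleton_le_iff_mem]
        have : e ⟨k, hk⟩ = (e ⟨k, hk⟩ - e' ⟨k, hk⟩) + e' ⟨k, hk⟩ := by abel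
        rw [this]
        exact add_mem (Submodule.mem_sup_left ha)
          (Submodule.mem_sup_right (Submodule.mem_span_singleton_self _))
      · apply sup_le le_sup_left
        rw [Submodule.span_singleton_le_iff_mem]
        have : e' ⟨k, hk⟩ = e ⟨k, hk⟩ - (e ⟨k, hk⟩ - e' ⟨k, hk⟩) := by abel
        rw [this]
        exact sub_mem (Submodule.mem_sup_right (Submodule.mem_span_singleton_self _))
          (Submodule.mem_sup_left ha)
    · push Not at hk
      rw [spanBefore_of_le e (by omega : l ≤ k + 1), spanBefore_of_le e' (by omega : l ≤ k + 1),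
        ← spanBefore_of_le e hk, ← spanBefore_of_le e' hk]
      exact ih'

theorem swap_val_lt {l : ℕ} (a b j : Fin l) (i : ℕ) (hj : (j : ℕ) < i)
    (h : ((a : ℕ) < i ∧ (b : ℕ) < i) ∨ (i ≤ (a : ℕ) ∧ i ≤ (b : ℕ))) :
    ((Equiv.swap a b j : Fin l) : ℕ) < i := by
  by_cases hja : j = a
  · rw [hja, Equiv.swap_apply_left]
    rcases h with h | h
    · exact h.2
    · rw [hja] at hj; omega
  · by_cases hjb : j = b
    · rw [hjb, Equiv.swap_apply_right]
      rcases h with h | h
      · exact h.1
      · rw [hjb] at hj; omega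
    · rw [Equiv.swap_apply_of_ne_of_ne hja hjb]; exact hj

theorem spanBefore_comp_swap {l : ℕ} (e : Fin l → M) (a b : Fin l) (i : ℕ)
    (h : ((a : ℕ) < i ∧ (b : ℕ) < i) ∨ (i ≤ (a : ℕ) ∧ i ≤ (b : ℕ))) :
    spanBefore R M (e ∘ Equiv.swap a b) i = spanBefore R M e i := by
  apply spanBefore_eq_of_mem
  · intro j hj
    exact mem_spanBefore e _ (swap_val_lt a b j i hj h)
  · intro j hj
    have : e j = (e ∘ Equiv.swap a b) (Equiv.swap a b j) := by
      rw [Function.comp_apply, Equiv.swap_apply_self]
    rw [this]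
    exact mem_spanBefore _ _ (swap_val_lt a b j i hj h)

theorem spanBefore_map {N : Type*} [AddCommGroup N] [Module R N] (φ : M →ₗ[R] N) {l : ℕ}
    (g : Fin l → M) (i : ℕ) :
    spanBefore R N (φ ∘ g) i = (spanBefore R M g i).map φ := by
  unfold spanBefore
  rw [Submodule.map_span, Set.image_comp]

/-! ### Symbols -/

/-- The class of an admissible tuple in `DetOfLen`. -/
noncomputable def sy {l : ℕ} (e : Adm R M l) : DetOfLen R M l :=
  Submodule.Quotient.mk (sym R M e)

theorem sy_eq_zero {l : ℕ} (e : Adm R M l) (a : Fin l) (h : e.1 a ∈ spanBefore R M e.1 a) :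
    sy e = 0 := by
  unfold sy
  rw [Submodule.Quotient.mk_eq_zero]
  exact Submodule.subset_span (Or.inl (Or.inl ⟨e, a, h, rfl⟩))

theorem sy_relB {l : ℕ} (e e' : Adm R M l) (a : Fin l) (c : Rˣ)
    (h1 : ∀ j, j ≠ a → e.1 j = e'.1 j)
    (h2 : e.1 a - (c : R) • e'.1 a ∈ spanBefore R M e.1 a) :
    sy e = residue R (c : R) • sy e' := by
  have : sym R M e - residue R (c : R) • sym R M e' ∈
      Submodule.span (ResidueField R) (relSet R M l) :=
    Submodule.subset_span (Or.inl (Or.inr ⟨e, e', a, c, h1, h2, rfl⟩))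
  have h3 := (Submodule.Quotient.mk_eq_zero _).mpr this
  rw [Submodule.Quotient.mk_sub, Submodule.Quotient.mk_smul, sub_eq_zero] at h3
  exact h3

theorem sy_relC {l : ℕ} (e e' : Adm R M l) (a b : Fin l) (hab : (b : ℕ) + 1 = (a : ℕ))
    (h1 : ∀ r ∈ maximalIdeal R, r • e.1 a ∈ spanBefore R M e.1 b)
    (h2 : e'.1 = e.1 ∘ Equiv.swap a b) :
    sy e = - sy e' := by
  have : sym R M e + sym R M e' ∈ Submodule.span (ResidueField R) (relSet R M l) :=
    Submodule.subset_span (Or.inr ⟨e, e', a, b, hab, h1, h2, rfl⟩)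
  have h3 := (Submodule.Quotient.mk_eq_zero _).mpr this
  rw [Submodule.Quotient.mk_add] at h3
  exact eq_neg_of_add_eq_zero_left h3

theorem exists_smul_of_forall_sy {l : ℕ} (v₀ : DetOfLen R M l)
    (h : ∀ e : Adm R M l, ∃ r : ResidueField R, r • v₀ = sy e) :
    ∀ v : DetOfLen R M l, ∃ r : ResidueField R, r • v₀ = v := by
  intro v
  induction v using Submodule.Quotient.induction_on with
  | H φ =>
    induction φ using Finsupp.induction_linear with
    | zero => exact ⟨0, by rw [zero_smul, Submodule.Quotient.mk_zero]⟩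
    | add φ ψ hφ hψ =>
      obtain ⟨r, hr⟩ := hφ
      obtain ⟨s, hs⟩ := hψ
      exact ⟨r + s, by rw [add_smul, hr, hs, Submodule.Quotient.mk_add]⟩
    | single e c =>
      obtain ⟨r, hr⟩ := h e
      refine ⟨c * r, ?_⟩
      have : (Submodule.Quotient.mk (Finsupp.single e c) : DetOfLen R M l) = c • sy e := by
        unfold sy CycDet.sym
        rw [← Submodule.Quotient.mk_smul, Finsupp.smul_single, smul_eq_mul, mul_one]
      rw [this, ← hr, smul_smul]

/-! ### Changing entries by elements of the earlier span -/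

theorem sy_eq_of_sub_mem_aux {l : ℕ} (k : ℕ) : ∀ (e e' : Adm R M l),
    (∀ i : Fin l, e.1 i - e'.1 i ∈ spanBefore R M e.1 i) →
    (∀ i : Fin l, k ≤ (i : ℕ) → e.1 i = e'.1 i) → sy e = sy e' := by
  induction k with
  | zero =>
    intro e e' _ h
    have : e = e' := Subtype.ext (funext fun i => h i (Nat.zero_le _))
    rw [this]
  | succ k ih =>
    intro e e' hd hag
    by_cases hk : k < l
    · obtain ⟨a, ha⟩ : ∃ a : Fin l, (a : ℕ) = k := ⟨⟨k, hk⟩, rfl⟩
      have hsp : ∀ i : ℕ, spanBefore R M e.1 i = spanBefore R M e'.1 i :=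
        fun i => spanBefore_eq_of_sub_mem e.1 e'.1 i (fun j _ => hd j)
      have hsp'' : ∀ i : ℕ, spanBefore R M (Function.update e'.1 a (e.1 a)) i =
          spanBefore R M e'.1 i := by
        intro i
        apply spanBefore_eq_of_sub_mem
        intro j _
        by_cases hja : j = a
        · rw [hja, Function.update_self, spanBefore_update _ _ _ _ le_rfl, ← hsp]
          exact hd a
        · rw [Function.update_of_ne hja, sub_self]; exact zero_mem _
      have hadm : IsAdmissible R M (Function.update e'.1 a (e.1 a)) := by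
        intro i r hr
        rw [hsp'']
        by_cases hia : i = a
        · rw [hia, Function.update_self, ← hsp]; exact e.2 a r hr
        · rw [Function.update_of_ne hia]; exact e'.2 i r hr
      have h1 : sy e = sy (⟨_, hadm⟩ : Adm R M l) := by
        apply ih
        · intro i
          show e.1 i - Function.update e'.1 a (e.1 a) i ∈ _
          by_cases hia : i = a
          · rw [hia, Function.update_self, sub_self]; exact zero_mem _
          · rw [Function.update_of_ne hia]; exact hd i
        · intro i hi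
          show e.1 i = Function.update e'.1 a (e.1 a) i
          by_cases hia : i = a
          · rw [hia, Function.update_self]
          · rw [Function.update_of_ne hia]
            apply hag
            have : (i : ℕ) ≠ k := fun h => hia (Fin.ext (h.trans ha.symm))
            omega
      have h2 : sy (⟨_, hadm⟩ : Adm R M l) = sy e' := by
        have := sy_relB (⟨_, hadm⟩ : Adm R M l) e' a 1
          (fun j hj => Function.update_of_ne hj _ _) (by
          show Function.update e'.1 a (e.1 a) a - ((1 : Rˣ) : R) • e'.1 a ∈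
            spanBefore R M (Function.update e'.1 a (e.1 a)) a
          rw [Function.update_self, Units.val_one, one_smul, hsp'', ← hsp]
          exact hd a)
        rw [this, Units.val_one, map_one, one_smul]
      rw [h1, h2]
    · exact ih e e' hd (fun i hi => by have := i.2; omega)

theorem sy_eq_of_sub_mem {l : ℕ} (e e' : Adm R M l)
    (h : ∀ i : Fin l, e.1 i - e'.1 i ∈ spanBefore R M e.1 i) : sy e = sy e' :=
  sy_eq_of_sub_mem_aux l e e' h (fun i hi => by have := i.2; omega)

end Groth.Agent.Lib.Helper27.CD
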