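import Mathlib
import Groth.Agent.Lib.Helper27.CD1

/-!
# Determinants of finite length modules: `dim ≤ 1`
-/

set_option autoImplicit false
universe u v
open IsLocalRing CycDet

namespace Groth.Agent.Lib.Helper27.CD

variable {R : Type u} [CommRing R] [IsLocalRing R] {M : Type v} [AddCommGroup M] [Module R M]

variable (R) in
/-- The tuple generates the module. -/
def Gen {l : ℕ} (e : Fin l → M) : Prop := spanBefore R M e l = ⊤

/-- Generating and every step is strict. -/
def Good {l : ℕ} (f : Adm R M l) : Prop :=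
  Gen R f.1 ∧ ∀ a : Fin l, f.1 a ∉ spanBefore R M f.1 a

theorem front_replace {l : ℕ} (e : Adm R M l) (hg : Gen R e.1) (y : M)
    (hy : ∀ r ∈ maximalIdeal R, r • y = 0) (hy0 : y ≠ 0) :
    ∃ (a : Fin l) (e' : Adm R M l) (c : ResidueField R),
      e'.1 a = y ∧ Gen R e'.1 ∧ sy e = c • sy e' := by
  have hex : ∃ n, y ∈ spanBefore R M e.1 n := ⟨l, by rw [hg]; trivial⟩
  obtain ⟨n, hn, hmin⟩ : ∃ n, y ∈ spanBefore R M e.1 n ∧ ∀ m < n, y ∉ spanBefore R M e.1 m := by
    classical
    exact ⟨Nat.find hex, Nat.find_spec hex, fun m hm => Nat.find_min hex hm⟩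
  have hn0 : n ≠ 0 := by
    intro h0
    rw [h0, spanBefore_zero, Submodule.mem_bot] at hn
    exact hy0 hn
  have hnl : n ≤ l := by
    by_contra hlt
    push Not at hlt
    exact hmin l hlt (by rw [hg]; trivial)
  obtain ⟨i, hi⟩ : ∃ i, n = i + 1 := Nat.exists_eq_succ_of_ne_zero hn0
  have hil : i < l := by omega
  have hni : y ∉ spanBefore R M e.1 i := hmin i (by omega)
  rw [hi, spanBefore_succ e.1 i hil, Submodule.mem_sup] at hn
  obtain ⟨s, hs, z, hz, hsz⟩ := hn
  rw [Submodule.mem_span_singleton] at hz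
  obtain ⟨c, rfl⟩ := hz
  obtain ⟨a, ha⟩ : ∃ a : Fin l, a = ⟨i, hil⟩ := ⟨_, rfl⟩
  rw [← ha] at hsz
  have hai : (a : ℕ) = i := by rw [ha]
  have hcu : IsUnit c := by
    by_contra hc
    have hcm : c ∈ maximalIdeal R := (mem_maximalIdeal c).mpr hc
    apply hni
    rw [← hsz]
    have := e.2 a c hcm
    rw [hai] at this
    exact add_mem hs this
  obtain ⟨u, hu⟩ := hcu
  have hsp : ∀ j : ℕ, spanBefore R M (Function.update e.1 a y) j = spanBefore R M e.1 j := by
    intro j
    apply spanBefore_eq_of_mem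
    · intro j' hj'
      by_cases hja : j' = a
      · rw [hja, Function.update_self, ← hsz]
        rw [hja] at hj'
        exact add_mem (spanBefore_mono e.1 (by omega) hs)
          (Submodule.smul_mem _ _ (mem_spanBefore e.1 a hj'))
      · rw [Function.update_of_ne hja]; exact mem_spanBefore e.1 j' hj'
    · intro j' hj'
      by_cases hja : j' = a
      · rw [hja] at hj' ⊢
        have h1 : e.1 a = ((u⁻¹ : Rˣ) : R) • (y - s) := by
          rw [← hsz, add_sub_cancel_left, ← hu, smul_smul, Units.inv_mul, one_smul]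
        rw [h1]
        apply Submodule.smul_mem
        apply sub_mem
        · have := mem_spanBefore (R := R) (Function.update e.1 a y) a hj'
          rwa [Function.update_self] at this
        · have h2 : s ∈ spanBefore R M (Function.update e.1 a y) i := by
            rw [spanBefore_update _ _ _ _ (by omega)]; exact hs
          exact spanBefore_mono _ (by omega) h2
      · have := mem_spanBefore (R := R) (Function.update e.1 a y) j' hj'
        rwa [Function.update_of_ne hja] at this
  have hadm : IsAdmissible R M (Function.update e.1 a y) := by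
    intro j r hr
    rw [hsp]
    by_cases hja : j = a
    · rw [hja, Function.update_self, hy r hr]; exact zero_mem _
    · rw [Function.update_of_ne hja]; exact e.2 j r hr
  have hrel := sy_relB (⟨_, hadm⟩ : Adm R M l) e a u
    (fun j hj => Function.update_of_ne hj _ _) (by
      show Function.update e.1 a y a - (u : R) • e.1 a ∈
        spanBefore R M (Function.update e.1 a y) a
      rw [Function.update_self, hsp, hu, ← hsz, add_sub_cancel_right, hai]
      exact hs)
  have hne : residue R (u : R) ≠ 0 := (residue_ne_zero_iff_isUnit _).mpr u.isUnit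
  refine ⟨a, ⟨_, hadm⟩, (residue R (u : R))⁻¹, Function.update_self _ _ _, ?_, ?_⟩
  · show spanBefore R M (Function.update e.1 a y) l = ⊤
    rw [hsp]; exact hg
  · rw [hrel, smul_smul, inv_mul_cancel₀ hne, one_smul]

theorem front_move {l : ℕ} (n : ℕ) : ∀ (e : Adm R M l) (a : Fin l), (a : ℕ) = n →
    (∀ r ∈ maximalIdeal R, r • e.1 a = 0) →
    ∃ (e' : Adm R M l) (h0 : 0 < l) (c : ResidueField R),
      e'.1 ⟨0, h0⟩ = e.1 a ∧ (Gen R e.1 → Gen R e'.1) ∧ sy e = c • sy e' := by
  induction n with
  | zero =>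
    intro e a ha hy
    have h0 : 0 < l := a.pos
    have h1 : (⟨0, h0⟩ : Fin l) = a := Fin.ext ha.symm
    exact ⟨e, h0, 1, by rw [h1], id, (one_smul _ _).symm⟩
  | succ n ih =>
    intro e a ha hy
    have hnl : n < l := by have := a.2; omega
    obtain ⟨b, hb⟩ : ∃ b : Fin l, (b : ℕ) = n := ⟨⟨n, hnl⟩, rfl⟩
    have hab : (b : ℕ) + 1 = (a : ℕ) := by omega
    have hsp : ∀ i : ℕ, (i ≤ (b : ℕ) ∨ (a : ℕ) < i) →
        spanBefore R M (e.1 ∘ Equiv.swap a b) i = spanBefore R M e.1 i := by
      intro i hi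
      apply spanBefore_comp_swap
      rcases hi with hi | hi
      · right; omega
      · left; omega
    have hadm : IsAdmissible R M (e.1 ∘ Equiv.swap a b) := by
      intro i r hr
      by_cases hib : i = b
      · rw [hib, Function.comp_apply, Equiv.swap_apply_right, hy r hr]; exact zero_mem _
      · by_cases hia : i = a
        · rw [hia, Function.comp_apply, Equiv.swap_apply_left]
          have h1 : r • e.1 b ∈ spanBefore R M e.1 b := e.2 b r hr
          rw [← hsp b (Or.inl le_rfl)] at h1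
          exact spanBefore_mono _ (by omega) h1
        · have h1 : (i : ℕ) ≠ a := fun h => hia (Fin.ext h)
          have h2 : (i : ℕ) ≠ b := fun h => hib (Fin.ext h)
          rw [Function.comp_apply, Equiv.swap_apply_of_ne_of_ne hia hib, hsp i (by omega)]
          exact e.2 i r hr
    have hrel := sy_relC e (⟨_, hadm⟩ : Adm R M l) a b hab
      (fun r hr => by rw [hy r hr]; exact zero_mem _) rfl
    obtain ⟨e', h0, c, h1, h2, h3⟩ := ih (⟨_, hadm⟩ : Adm R M l) b hb (by
      intro r hr
      show r • (e.1 ∘ Equiv.swap a b) b = 0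
      rw [Function.comp_apply, Equiv.swap_apply_right]
      exact hy r hr)
    refine ⟨e', h0, -c, ?_, ?_, ?_⟩
    · rw [h1]
      show (e.1 ∘ Equiv.swap a b) b = e.1 a
      rw [Function.comp_apply, Equiv.swap_apply_right]
    · intro hg
      apply h2
      show spanBefore R M (e.1 ∘ Equiv.swap a b) l = ⊤
      rw [hsp l (Or.inr a.2)]
      exact hg
    · rw [hrel, h3, neg_smul]

/-! ### The quotient by a socle element -/

theorem spanBefore_cons_succ {k : ℕ} (x : M) (g : Fin k → M) (i : ℕ) :
    spanBefore R M (Fin.cons x g : Fin (k + 1) → M) (i + 1) =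
      Submodule.span R {x} ⊔ spanBefore R M g i := by
  apply le_antisymm
  · rw [spanBefore_le_iff]
    intro j hj
    rcases Fin.eq_zero_or_eq_succ j with rfl | ⟨j', rfl⟩
    · rw [Fin.cons_zero]
      exact Submodule.mem_sup_left (Submodule.mem_span_singleton_self _)
    · rw [Fin.cons_succ]
      rw [Fin.val_succ] at hj
      exact Submodule.mem_sup_right (mem_spanBefore g j' (by omega))
  · apply sup_le
    · rw [Submodule.span_singleton_le_iff_mem]
      have := mem_spanBefore (R := R) (Fin.cons x g : Fin (k + 1) → M) 0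
        (by rw [Fin.val_zero]; omega : ((0 : Fin (k + 1)) : ℕ) < i + 1)
      rwa [Fin.cons_zero] at this
    · rw [spanBefore_le_iff]
      intro j' hj'
      have := mem_spanBefore (R := R) (Fin.cons x g : Fin (k + 1) → M) j'.succ
        (by rw [Fin.val_succ]; omega : ((j'.succ : Fin (k + 1)) : ℕ) < i + 1)
      rwa [Fin.cons_succ] at this

theorem mem_spanBefore_cons_iff {k : ℕ} (x : M) (g : Fin k → M) (i : ℕ) (z : M) :
    z ∈ spanBefore R M (Fin.cons x g : Fin (k + 1) → M) (i + 1) ↔
      (Submodule.span R {x}).mkQ z ∈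
        spanBefore R (M ⧸ Submodule.span R {x}) ((Submodule.span R {x}).mkQ ∘ g) i := by
  rw [spanBefore_cons_succ, spanBefore_map, ← Submodule.mem_comap, Submodule.comap_map_eq,
    Submodule.ker_mkQ, sup_comm]

theorem isAdmissible_cons {k : ℕ} (x : M) (hx : ∀ r ∈ maximalIdeal R, r • x = 0)
    (g : Fin k → M)
    (hg : IsAdmissible R (M ⧸ Submodule.span R {x}) ((Submodule.span R {x}).mkQ ∘ g)) :
    IsAdmissible R M (Fin.cons x g : Fin (k + 1) → M) := by
  intro i r hr
  rcases Fin.eq_zero_or_eq_succ i with rfl | ⟨j, rfl⟩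
  · rw [Fin.cons_zero, hx r hr]; exact zero_mem _
  · rw [Fin.cons_succ, Fin.val_succ, mem_spanBefore_cons_iff, map_smul]
    exact hg j r hr

theorem isAdmissible_of_cons {k : ℕ} (x : M) (g : Fin k → M)
    (h : IsAdmissible R M (Fin.cons x g : Fin (k + 1) → M)) :
    IsAdmissible R (M ⧸ Submodule.span R {x}) ((Submodule.span R {x}).mkQ ∘ g) := by
  intro j r hr
  have h1 := h j.succ r hr
  rw [Fin.cons_succ, Fin.val_succ, mem_spanBefore_cons_iff, map_smul] at h1
  exact h1

variable (R) in
/-- A set-theoretic section of the quotient map. -/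
noncomputable def sec (x : M) : (M ⧸ Submodule.span R {x}) → M :=
  Function.surjInv (Submodule.mkQ_surjective _)

theorem mkQ_sec (x : M) (n : M ⧸ Submodule.span R {x}) :
    (Submodule.span R {x}).mkQ (sec R x n) = n :=
  Function.surjInv_eq _ n

theorem mkQ_comp_sec {k : ℕ} (x : M) (g : Fin k → M ⧸ Submodule.span R {x}) :
    ((Submodule.span R {x}).mkQ ∘ fun j => sec R x (g j)) = g :=
  funext fun j => mkQ_sec x _

/-- Lift of an admissible tuple of the quotient, with `x` put in front. -/
noncomputable def lift0 {k : ℕ} (x : M) (hx : ∀ r ∈ maximalIdeal R, r • x = 0)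
    (g : Adm R (M ⧸ Submodule.span R {x}) k) : Adm R M (k + 1) :=
  ⟨Fin.cons x (fun j => sec R x (g.1 j)), isAdmissible_cons x hx _ (by
    rw [mkQ_comp_sec]; exact g.2)⟩

theorem lift0_val {k : ℕ} (x : M) (hx : ∀ r ∈ maximalIdeal R, r • x = 0)
    (g : Adm R (M ⧸ Submodule.span R {x}) k) :
    (lift0 x hx g).1 = Fin.cons x (fun j => sec R x (g.1 j)) := rfl

theorem psi0_rel {k : ℕ} (x : M) (hx : ∀ r ∈ maximalIdeal R, r • x = 0) :
    ∀ z ∈ relSet R (M ⧸ Submodule.span R {x}) k,
      Finsupp.linearCombination (ResidueField R) (fun g => sy (lift0 x hx g)) z = 0 := by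
  rintro z ((⟨g, a, hga, rfl⟩ | ⟨g, g', a, c, hag, hmem, rfl⟩) | ⟨g, g', a, b, hab, hm, hsw, rfl⟩)
  · unfold sym
    rw [Finsupp.linearCombination_single, one_smul]
    apply sy_eq_zero (lift0 x hx g) a.succ
    rw [lift0_val, Fin.cons_succ, Fin.val_succ, mem_spanBefore_cons_iff, mkQ_sec, mkQ_comp_sec]
    exact hga
  · unfold sym
    rw [map_sub, map_smul, Finsupp.linearCombination_single, Finsupp.linearCombination_single,
      one_smul, one_smul, sub_eq_zero]
    apply sy_relB (lift0 x hx g) (lift0 x hx g') a.succ c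
    · intro j hj
      rw [lift0_val, lift0_val]
      rcases Fin.eq_zero_or_eq_succ j with rfl | ⟨j', rfl⟩
      · rw [Fin.cons_zero, Fin.cons_zero]
      · rw [Fin.cons_succ, Fin.cons_succ]
        have : j' ≠ a := fun h => hj (by rw [h])
        rw [hag j' this]
    · rw [lift0_val, lift0_val, Fin.cons_succ, Fin.cons_succ, Fin.val_succ,
        mem_spanBefore_cons_iff, map_sub, map_smul, mkQ_sec, mkQ_sec, mkQ_comp_sec]
      exact hmem
  · unfold sym
    rw [map_add, Finsupp.linearCombination_single, Finsupp.linearCombination_single,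
      one_smul, one_smul]
    have := sy_relC (lift0 x hx g) (lift0 x hx g') a.succ b.succ
      (by rw [Fin.val_succ, Fin.val_succ]; omega) (by
        intro r hr
        rw [lift0_val, Fin.cons_succ, Fin.val_succ, mem_spanBefore_cons_iff, map_smul, mkQ_sec,
          mkQ_comp_sec]
        exact hm r hr) (by
        rw [lift0_val, lift0_val]
        funext j
        rcases Fin.eq_zero_or_eq_succ j with rfl | ⟨j', rfl⟩
        · rw [Function.comp_apply, Equiv.swap_apply_of_ne_of_ne (Fin.succ_ne_zero a).symm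
            (Fin.succ_ne_zero b).symm, Fin.cons_zero, Fin.cons_zero]
        · rw [Function.comp_apply, (Fin.succ_injective _).swap_apply, Fin.cons_succ,
            Fin.cons_succ, hsw, Function.comp_apply])
    rw [this, neg_add_cancel]

/-- The map `det(M/x) → det(M)`, `[ḡ] ↦ [x, g]`. -/
noncomputable def Psi {k : ℕ} (x : M) (hx : ∀ r ∈ maximalIdeal R, r • x = 0) :
    DetOfLen R (M ⧸ Submodule.span R {x}) k →ₗ[ResidueField R] DetOfLen R M (k + 1) :=
  Submodule.liftQ _ (Finsupp.linearCombination _ (fun g => sy (lift0 x hx g))) (by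
    rw [Submodule.span_le]
    intro z hz
    exact LinearMap.mem_ker.mpr (psi0_rel x hx z hz))

theorem Psi_sy {k : ℕ} (x : M) (hx : ∀ r ∈ maximalIdeal R, r • x = 0)
    (g : Adm R (M ⧸ Submodule.span R {x}) k) : Psi x hx (sy g) = sy (lift0 x hx g) := by
  unfold Psi sy
  rw [Submodule.liftQ_apply]
  unfold sym
  rw [Finsupp.linearCombination_single, one_smul]

theorem sy_eq_Psi {k : ℕ} (x : M) (hx : ∀ r ∈ maximalIdeal R, r • x = 0)
    (e : Adm R M (k + 1)) (g : Fin k → M) (he : e.1 = Fin.cons x g)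
    (gb : Adm R (M ⧸ Submodule.span R {x}) k)
    (hgb : gb.1 = (Submodule.span R {x}).mkQ ∘ g) : sy e = Psi x hx (sy gb) := by
  rw [Psi_sy]
  apply sy_eq_of_sub_mem
  intro i
  rw [he, lift0_val]
  rcases Fin.eq_zero_or_eq_succ i with rfl | ⟨j, rfl⟩
  · rw [Fin.cons_zero, Fin.cons_zero, sub_self]; exact zero_mem _
  · rw [Fin.cons_succ, Fin.cons_succ, Fin.val_succ, mem_spanBefore_cons_iff, map_sub, mkQ_sec,
      hgb, Function.comp_apply, sub_self]
    exact zero_mem _

theorem caseI {k : ℕ}
    (IH : ∀ (N : Type v) [AddCommGroup N] [Module R N] (e f : Adm R N k),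
      Gen R e.1 → Good f → ∃ c : ResidueField R, sy e = c • sy f)
    (e f : Adm R M (k + 1)) (h0 : e.1 0 = f.1 0) (he : Gen R e.1) (hf : Good f) :
    ∃ c : ResidueField R, sy e = c • sy f := by
  obtain ⟨x, hx0⟩ : ∃ x, x = f.1 0 := ⟨_, rfl⟩
  have hx : ∀ r ∈ maximalIdeal R, r • x = 0 := by
    intro r hr
    have := f.2 0 r hr
    rwa [Fin.val_zero, spanBefore_zero, Submodule.mem_bot, ← hx0] at this
  have he' : e.1 = Fin.cons x (Fin.tail e.1) := by
    rw [hx0, ← h0]; exact (Fin.cons_self_tail e.1).symm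
  have hf' : f.1 = Fin.cons x (Fin.tail f.1) := by
    rw [hx0]; exact (Fin.cons_self_tail f.1).symm
  have hea : IsAdmissible R (M ⧸ Submodule.span R {x})
      ((Submodule.span R {x}).mkQ ∘ Fin.tail e.1) :=
    isAdmissible_of_cons x _ (he' ▸ e.2)
  have hfa : IsAdmissible R (M ⧸ Submodule.span R {x})
      ((Submodule.span R {x}).mkQ ∘ Fin.tail f.1) :=
    isAdmissible_of_cons x _ (hf' ▸ f.2)
  have hgen : ∀ (g : Fin k → M), spanBefore R M (Fin.cons x g : Fin (k + 1) → M) (k + 1) = ⊤ →
      spanBefore R (M ⧸ Submodule.span R {x}) ((Submodule.span R {x}).mkQ ∘ g) k = ⊤ := by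
    intro g hg
    rw [eq_top_iff]
    intro n _
    obtain ⟨z, rfl⟩ := Submodule.mkQ_surjective _ n
    rw [← mem_spanBefore_cons_iff, hg]
    trivial
  have heg : Gen R ((Submodule.span R {x}).mkQ ∘ Fin.tail e.1) := by
    apply hgen
    rw [← he']; exact he
  have hfg : Good (⟨_, hfa⟩ : Adm R (M ⧸ Submodule.span R {x}) k) := by
    refine ⟨?_, ?_⟩
    · apply hgen
      rw [← hf']; exact hf.1
    · intro a h
      apply hf.2 a.succ
      rw [hf', Fin.cons_succ, Fin.val_succ, mem_spanBefore_cons_iff]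
      exact h
  obtain ⟨c, hc⟩ := IH _ (⟨_, hea⟩ : Adm R (M ⧸ Submodule.span R {x}) k) ⟨_, hfa⟩ heg hfg
  refine ⟨c, ?_⟩
  rw [sy_eq_Psi x hx e _ he' ⟨_, hea⟩ rfl, sy_eq_Psi x hx f _ hf' ⟨_, hfa⟩ rfl, hc, map_smul]

theorem main (l : ℕ) : ∀ (M' : Type v) [AddCommGroup M'] [Module R M'] (e f : Adm R M' l),
    Gen R e.1 → Good f → ∃ c : ResidueField R, sy e = c • sy f := by
  induction l with
  | zero =>
    intro M' _ _ e f _ _
    refine ⟨1, ?_⟩
    have : e = f := Subtype.ext (funext fun i => i.elim0)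
    rw [this, one_smul]
  | succ k ih =>
    intro M' _ _ e f he hf
    have hy : ∀ r ∈ maximalIdeal R, r • f.1 0 = 0 := by
      intro r hr
      have := f.2 0 r hr
      rwa [Fin.val_zero, spanBefore_zero, Submodule.mem_bot] at this
    have hy0 : f.1 0 ≠ 0 := by
      intro h
      apply hf.2 0
      rw [h]; exact zero_mem _
    obtain ⟨a, e1, c1, h1a, h1g, h1s⟩ := front_replace e he (f.1 0) hy hy0
    obtain ⟨e2, h0, c2, h2a, h2g, h2s⟩ := front_move (a : ℕ) e1 a rfl (by rw [h1a]; exact hy)
    obtain ⟨c3, h3⟩ := caseI ih e2 f (by rw [← h1a, ← h2a]; rfl) (h2g h1g) hf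
    exact ⟨c1 * c2 * c3, by rw [h1s, h2s, h3, smul_smul, smul_smul]⟩

theorem gen_of_strict {l : ℕ} (hl : (l : ℕ∞) = Module.length R M) [IsArtinian R M]
    [IsNoetherian R M] (e : Fin l → M) (hs : ∀ a : Fin l, e a ∉ spanBefore R M e a) :
    Gen R e := by
  have key : ∀ i : ℕ, i ≤ l → (i : ℕ∞) ≤ Order.height (spanBefore R M e i) := by
    intro i
    induction i with
    | zero => intro _; rw [Nat.cast_zero]; exact bot_le
    | succ i ih =>
      intro hi
      have hil : i < l := hi
      have h1 := ih (by omega)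
      have hlt : spanBefore R M e i < spanBefore R M e (i + 1) := by
        refine lt_of_le_of_ne (spanBefore_mono e (Nat.le_succ i)) ?_
        intro heq
        apply hs ⟨i, hil⟩
        show e ⟨i, hil⟩ ∈ spanBefore R M e i
        rw [heq]
        exact mem_spanBefore e ⟨i, hil⟩ (Nat.lt_succ_self i)
      have h2 := Submodule.height_strictMono hlt
      calc ((i + 1 : ℕ) : ℕ∞) = (i : ℕ∞) + 1 := by push_cast; rfl
        _ ≤ Order.height (spanBefore R M e i) + 1 := by gcongr
        _ ≤ Order.height (spanBefore R M e (i + 1)) := Order.add_one_le_of_lt h2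
  unfold Gen
  by_contra hne
  have h1 := Submodule.length_lt hne
  rw [Module.length_submodule, ← hl] at h1
  exact absurd (key l le_rfl) (not_le.mpr h1)

/-- `dim det ≤ 1`, in the form: all elements are multiples of one. -/
theorem exists_generator (hM : IsFiniteLength R M) :
    ∃ v₀ : Det R M, ∀ v : Det R M, ∃ r : ResidueField R, r • v₀ = v := by
  obtain ⟨hN, hA⟩ := isFiniteLength_iff_isNoetherian_isArtinian.mp hM
  have hl : (((Module.length R M).toNat : ℕ) : ℕ∞) = Module.length R M :=
    ENat.natCast_toNat (Module.length_ne_top_iff.mpr hM)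
  by_cases hgood : ∃ f : Adm R M (Module.length R M).toNat, Good f
  · obtain ⟨f, hf⟩ := hgood
    refine ⟨sy f, exists_smul_of_forall_sy _ (fun e => ?_)⟩
    by_cases hstrict : ∀ a : Fin (Module.length R M).toNat, e.1 a ∉ spanBefore R M e.1 a
    · obtain ⟨c, hc⟩ := main _ M e f (gen_of_strict hl e.1 hstrict) hf
      exact ⟨c, hc.symm⟩
    · push Not at hstrict
      obtain ⟨a, ha⟩ := hstrict
      exact ⟨0, by rw [sy_eq_zero e a ha, zero_smul]⟩
  · refine ⟨0, exists_smul_of_forall_sy _ (fun e => ⟨0, ?_⟩)⟩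
    rw [smul_zero]
    by_cases hstrict : ∀ a : Fin (Module.length R M).toNat, e.1 a ∉ spanBefore R M e.1 a
    · exact absurd ⟨e, gen_of_strict hl e.1 hstrict, hstrict⟩ hgood
    · push Not at hstrict
      obtain ⟨a, ha⟩ := hstrict
      exact (sy_eq_zero e a ha).symm

end Groth.Agent.Lib.Helper27.CD
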