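import Mathlib
import Groth.Agent.Lib.Helper27.CD2

/-!
# Determinant of a vector space over the residue field is the top exterior power
-/

set_option autoImplicit false
universe u v
open IsLocalRing CycDet

namespace Groth.Agent.Lib.Helper27.CD

variable {R : Type u} [CommRing R] [IsLocalRing R] {M : Type v} [AddCommGroup M] [Module R M]
  [Module (ResidueField R) M] [IsScalarTower R (ResidueField R) M]

theorem residue_smul (r : R) (m : M) : residue R r • m = r • m := by
  rw [← ResidueField.algebraMap_eq, algebraMap_smul]

theorem isAdmissible_of_vectorSpace {l : ℕ} (v : Fin l → M) : IsAdmissible R M v := by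
  intro i r hr
  rw [← residue_smul, (residue_eq_zero_iff r).mpr hr, zero_smul]
  exact zero_mem _

theorem ιMulti_eq_zero_of_mem {l : ℕ} (v : Fin l → M) (a : Fin l)
    (h : v a ∈ spanBefore R M v a) :
    exteriorPower.ιMulti (ResidueField R) l v = 0 := by
  apply AlternatingMap.map_linearDependent
  intro hli
  have h1 : v a ∉ Submodule.span (ResidueField R) (v '' {j : Fin l | (j : ℕ) < (a : ℕ)}) :=
    hli.notMem_span_image (by simp)
  apply h1
  have h2 : Submodule.span R (v '' {j : Fin l | (j : ℕ) < (a : ℕ)}) ≤
      (Submodule.span (ResidueField R) (v '' {j : Fin l | (j : ℕ) < (a : ℕ)})).restrictScalars R :=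
    Submodule.span_le_restrictScalars R (ResidueField R) _
  exact h2 h

/-- The map from the free space on admissible tuples to the exterior power. -/
noncomputable def toExt0 (l : ℕ) :
    CycDet.Free R M l →ₗ[ResidueField R] ⋀[ResidueField R]^l M :=
  Finsupp.linearCombination (ResidueField R)
    (fun e : Adm R M l => exteriorPower.ιMulti (ResidueField R) l e.1)

theorem toExt0_rel (l : ℕ) : ∀ z ∈ relSet R M l, toExt0 (R := R) (M := M) l z = 0 := by
  rintro z ((⟨e, a, hea, rfl⟩ | ⟨e, e', a, c, hag, hmem, rfl⟩) | ⟨e, e', a, b, hab, hm, hsw, rfl⟩)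
  · unfold toExt0 sym
    rw [Finsupp.linearCombination_single, one_smul]
    exact ιMulti_eq_zero_of_mem e.1 a hea
  · unfold toExt0 sym
    rw [map_sub, map_smul, Finsupp.linearCombination_single, Finsupp.linearCombination_single,
      one_smul, one_smul, sub_eq_zero]
    obtain ⟨t, ht⟩ : ∃ t, t = e.1 a - (c : R) • e'.1 a := ⟨_, rfl⟩
    have he : e.1 = Function.update e'.1 a ((c : R) • e'.1 a + t) := by
      funext j
      by_cases hj : j = a
      · rw [hj, Function.update_self, ht]; abel
      · rw [Function.update_of_ne hj, hag j hj]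
    have h0 : exteriorPower.ιMulti (ResidueField R) l (Function.update e'.1 a t) = 0 := by
      apply ιMulti_eq_zero_of_mem _ a
      rw [Function.update_self, spanBefore_update _ _ _ _ le_rfl,
        ← spanBefore_congr e.1 e'.1 a (fun j hj => hag j (by intro h; rw [h] at hj; omega)), ht]
      exact hmem
    rw [he, AlternatingMap.map_update_add, ← residue_smul, AlternatingMap.map_update_smul,
      Function.update_eq_self, h0, add_zero]
  · unfold toExt0 sym
    have hne : a ≠ b := fun h => by rw [h] at hab; omega
    rw [map_add, Finsupp.linearCombination_single, Finsupp.linearCombination_single,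
      one_smul, one_smul, hsw, AlternatingMap.map_swap _ _ hne, add_neg_cancel]

/-- The map `det → ⋀^l`. -/
noncomputable def toExt (l : ℕ) :
    DetOfLen R M l →ₗ[ResidueField R] ⋀[ResidueField R]^l M :=
  Submodule.liftQ _ (toExt0 l) (by
    rw [Submodule.span_le]
    intro z hz
    exact LinearMap.mem_ker.mpr (toExt0_rel l z hz))

theorem toExt_sy {l : ℕ} (e : Adm R M l) :
    toExt l (sy e) = exteriorPower.ιMulti (ResidueField R) l e.1 := by
  unfold toExt sy
  rw [Submodule.liftQ_apply]
  unfold toExt0 sym
  rw [Finsupp.linearCombination_single, one_smul]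

theorem toExt_surjective (l : ℕ) : Function.Surjective (toExt (R := R) (M := M) l) := by
  rw [← LinearMap.range_eq_top, eq_top_iff, ← exteriorPower.ιMulti_span (ResidueField R) l M,
    Submodule.span_le]
  rintro _ ⟨v, rfl⟩
  exact ⟨sy ⟨v, isAdmissible_of_vectorSpace v⟩, toExt_sy _⟩

theorem length_eq_finrank [Module.Finite (ResidueField R) M] :
    Module.length R M = (Module.finrank (ResidueField R) M : ℕ∞) := by
  have hs : Function.Surjective (algebraMap R (ResidueField R)) := by
    rw [ResidueField.algebraMap_eq]; exact residue_surjective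
  rw [Module.length_eq_of_surjective (S := R) (R := ResidueField R) (M := M) hs,
    Module.length_eq_finrank]

theorem exists_equiv [Module.Finite (ResidueField R) M] :
    ∃ Φ : Det R M ≃ₗ[ResidueField R] (⋀[ResidueField R]^((Module.length R M).toNat) M),
      ∀ e : Adm R M (Module.length R M).toNat,
        Φ (symbol R M e) =
          exteriorPower.ιMulti (ResidueField R) ((Module.length R M).toNat) e.1 := by
  have hlen := length_eq_finrank (R := R) (M := M)
  have hM : IsFiniteLength R M := by
    rw [← Module.length_ne_top_iff, hlen]; exact ENat.coe_ne_top _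
  have hl : (Module.length R M).toNat = Module.finrank (ResidueField R) M := by
    rw [hlen, ENat.toNat_coe]
  obtain ⟨v₀, hv₀⟩ := exists_generator hM
  have hsurj := toExt_surjective (R := R) (M := M) (Module.length R M).toNat
  have hfr : Module.finrank (ResidueField R)
      (⋀[ResidueField R]^((Module.length R M).toNat) M) = 1 := by
    rw [exteriorPower.finrank_eq, hl, Nat.choose_self]
  haveI : Nontrivial (⋀[ResidueField R]^((Module.length R M).toNat) M) :=
    Module.nontrivial_of_finrank_pos (R := ResidueField R) (by rw [hfr]; exact one_pos)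
  obtain ⟨w, hw⟩ := exists_ne (0 : ⋀[ResidueField R]^((Module.length R M).toNat) M)
  obtain ⟨v, hv⟩ := hsurj w
  have hv₀ne : toExt (Module.length R M).toNat v₀ ≠ 0 := by
    intro h0
    obtain ⟨r, hr⟩ := hv₀ v
    apply hw
    rw [← hv, ← hr, map_smul, h0, smul_zero]
  have hinj : Function.Injective (toExt (R := R) (M := M) (Module.length R M).toNat) := by
    rw [injective_iff_map_eq_zero]
    intro x hx
    obtain ⟨s, hs⟩ := hv₀ x
    rw [← hs, map_smul, smul_eq_zero] at hx
    rcases hx with hx | hx
    · rw [← hs, hx, zero_smul]
    · exact absurd hx hv₀ne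
  exact ⟨LinearEquiv.ofBijective _ ⟨hinj, hsurj⟩, fun e => toExt_sy e⟩

end Groth.Agent.Lib.Helper27.CD
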