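import Mathlib
import Groth.Agent.Lib.Helper27.CD2

/-!
# Determinants of finite length modules: the expansion map along a socle element (part 1)
-/

set_option autoImplicit false
universe u v
open IsLocalRing CycDet

namespace Groth.Agent.Lib.Helper27.CD

variable {R : Type u} [CommRing R] [IsLocalRing R] {M : Type v} [AddCommGroup M] [Module R M]

theorem succAbove_val {k : ℕ} (i : Fin (k + 1)) (j : Fin k) :
    ((i.succAbove j : Fin (k + 1)) : ℕ) =
      if (j : ℕ) < (i : ℕ) then (j : ℕ) else (j : ℕ) + 1 := by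
  by_cases h : (j : ℕ) < (i : ℕ)
  · rw [if_pos h, Fin.succAbove_of_castSucc_lt i j
      (by rw [Fin.lt_def, Fin.val_castSucc]; exact h), Fin.val_castSucc]
  · rw [if_neg h, Fin.succAbove_of_le_castSucc i j
      (by rw [Fin.le_def, Fin.val_castSucc]; omega), Fin.val_succ]

theorem swap_succAbove {k : ℕ} (a b : Fin (k + 1)) (hab : (b : ℕ) + 1 = (a : ℕ)) (j : Fin k) :
    Equiv.swap a b (a.succAbove j) = b.succAbove j := by
  have h1 := succAbove_val a j
  have h2 := succAbove_val b j
  by_cases hb : a.succAbove j = b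
  · rw [hb, Equiv.swap_apply_right]
    apply Fin.ext
    rw [hb] at h1
    rw [h2]
    split_ifs at h1 ⊢ <;> omega
  · rw [Equiv.swap_apply_of_ne_of_ne (Fin.succAbove_ne a j) hb]
    apply Fin.ext
    have h3 : ((a.succAbove j : Fin (k + 1)) : ℕ) ≠ (b : ℕ) := fun h => hb (Fin.ext h)
    rw [h1] at h3 ⊢
    rw [h2]
    split_ifs at h3 ⊢ <;> omega

theorem swap_succAbove' {k : ℕ} (a b : Fin (k + 1)) (hab : (b : ℕ) + 1 = (a : ℕ)) (j : Fin k) :
    Equiv.swap a b (b.succAbove j) = a.succAbove j := by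
  rw [← swap_succAbove a b hab j, Equiv.swap_apply_self]

/-- Remove the `i`-th entry. -/
def rem {k : ℕ} (i : Fin (k + 1)) (e : Fin (k + 1) → M) : Fin k → M := fun t => e (i.succAbove t)

theorem spanBefore_le_rem {k : ℕ} (e : Fin (k + 1) → M) (i : Fin (k + 1)) (j : ℕ)
    (hj : j ≤ (i : ℕ)) : spanBefore R M e j ≤ spanBefore R M (rem i e) j := by
  rw [spanBefore_le_iff]
  intro t ht
  have htk : (t : ℕ) < k := by have := i.2; omega
  have h1 : i.succAbove ⟨t, htk⟩ = t := by
    apply Fin.ext
    rw [succAbove_val]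
    simp only []
    rw [if_pos (by omega)]
  have h2 : e t = rem i e ⟨t, htk⟩ := by unfold rem; rw [h1]
  rw [h2]
  exact mem_spanBefore _ _ ht

theorem spanBefore_succ_le_rem {k : ℕ} (e : Fin (k + 1) → M) (i : Fin (k + 1)) (j : ℕ)
    (hj : (i : ℕ) ≤ j) :
    spanBefore R M e (j + 1) ≤ spanBefore R M (rem i e) j ⊔ Submodule.span R {e i} := by
  rw [spanBefore_le_iff]
  intro t ht
  by_cases hti : t = i
  · rw [hti]; exact Submodule.mem_sup_right (Submodule.mem_span_singleton_self _)
  · obtain ⟨t', ht'⟩ := Fin.exists_succAbove_eq hti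
    have h1 := succAbove_val i t'
    rw [ht'] at h1
    have h2 : (t' : ℕ) < j := by split_ifs at h1 <;> omega
    have h3 : e t = rem i e t' := by unfold rem; rw [ht']
    rw [h3]
    exact Submodule.mem_sup_left (mem_spanBefore _ _ h2)

theorem G {k : ℕ} (x : M) (e : Fin (k + 1) → M) (i : Fin (k + 1))
    (hπ : (Submodule.span R {x}).mkQ (e i) ∈
      spanBefore R (M ⧸ Submodule.span R {x}) ((Submodule.span R {x}).mkQ ∘ rem i e) i)
    (j : ℕ) (z : M) (hz : z ∈ spanBefore R M e (if j < (i : ℕ) then j else j + 1)) :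
    (Submodule.span R {x}).mkQ z ∈
      spanBefore R (M ⧸ Submodule.span R {x}) ((Submodule.span R {x}).mkQ ∘ rem i e) j := by
  rw [spanBefore_map]
  by_cases hji : j < (i : ℕ)
  · rw [if_pos hji] at hz
    exact Submodule.mem_map_of_mem (spanBefore_le_rem e i j (by omega) hz)
  · rw [if_neg hji] at hz
    have h1 := spanBefore_succ_le_rem e i j (by omega) hz
    rw [Submodule.mem_sup] at h1
    obtain ⟨p, hp, q, hq, rfl⟩ := h1
    rw [Submodule.mem_span_singleton] at hq
    obtain ⟨r, rfl⟩ := hq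
    rw [map_add, map_smul]
    refine add_mem (Submodule.mem_map_of_mem hp) (Submodule.smul_mem _ _ ?_)
    rw [← spanBefore_map]
    exact spanBefore_mono _ (by omega) hπ

/-- Entry data of `x` in the tuple `e`: `x` enters the flag at position `i` with coefficient `c`. -/
structure Ent (x : M) {k : ℕ} (e : Fin (k + 1) → M) (i : Fin (k + 1)) (c : R) : Prop where
  notMem : x ∉ spanBefore R M e i
  mem : x - c • e i ∈ spanBefore R M e i

namespace Ent

variable {x : M} {k : ℕ} {e : Fin (k + 1) → M} {i : Fin (k + 1)} {c : R}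

theorem isUnit (he : IsAdmissible R M e) (h : Ent x e i c) : IsUnit c := by
  by_contra hc
  have hcm : c ∈ maximalIdeal R := (mem_maximalIdeal c).mpr hc
  apply h.notMem
  have : x = (x - c • e i) + c • e i := by abel
  rw [this]
  exact add_mem h.mem (he i c hcm)

theorem mem_succ (h : Ent x e i c) : x ∈ spanBefore R M e ((i : ℕ) + 1) := by
  have : x = (x - c • e i) + c • e i := by abel
  rw [this]
  exact add_mem (spanBefore_mono e (Nat.le_succ _) h.mem)
    (Submodule.smul_mem _ _ (mem_spanBefore e i (Nat.lt_succ_self _)))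

theorem mem_top (h : Ent x e i c) : x ∈ spanBefore R M e (k + 1) :=
  spanBefore_mono e (by have := i.2; omega) h.mem_succ

theorem ne_zero (h : Ent x e i c) : x ≠ 0 := fun h0 => h.notMem (h0 ▸ zero_mem _)

theorem index_unique {i' : Fin (k + 1)} {c' : R} (h : Ent x e i c) (h' : Ent x e i' c') :
    i = i' := by
  by_contra hne
  rcases lt_or_gt_of_ne (fun hv => hne (Fin.ext hv) : (i : ℕ) ≠ (i' : ℕ)) with hlt | hlt
  · exact h'.notMem (spanBefore_mono e (by omega) h.mem_succ)
  · exact h.notMem (spanBefore_mono e (by omega) h'.mem_succ)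

theorem residue_unique {c' : R} (he : IsAdmissible R M e) (h : Ent x e i c) (h' : Ent x e i c') :
    residue R c = residue R c' := by
  by_contra hne
  have hu : IsUnit (c' - c) := (residue_ne_zero_iff_isUnit _).mp (by
    rw [map_sub]; exact sub_ne_zero.mpr (Ne.symm hne))
  obtain ⟨u, hu⟩ := hu
  have h1 : (c' - c) • e i ∈ spanBefore R M e i := by
    have := sub_mem h.mem h'.mem
    have h2 : (c' - c) • e i = (x - c • e i) - (x - c' • e i) := by rw [sub_smul]; abel
    rw [h2]; exact this
  have h3 : e i ∈ spanBefore R M e i := by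
    have h4 : e i = ((u⁻¹ : Rˣ) : R) • ((c' - c) • e i) := by
      rw [← hu, smul_smul, Units.inv_mul, one_smul]
    rw [h4]; exact Submodule.smul_mem _ _ h1
  apply h.notMem
  have : x = (x - c • e i) + c • e i := by abel
  rw [this]
  exact add_mem h.mem (Submodule.smul_mem _ _ h3)

theorem hpi (he : IsAdmissible R M e) (h : Ent x e i c) :
    (Submodule.span R {x}).mkQ (e i) ∈
      spanBefore R (M ⧸ Submodule.span R {x}) ((Submodule.span R {x}).mkQ ∘ rem i e) i := by
  obtain ⟨u, hu⟩ := h.isUnit he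
  have hπx : (Submodule.span R {x}).mkQ x = 0 := by
    rw [Submodule.mkQ_apply, Submodule.Quotient.mk_eq_zero]
    exact Submodule.mem_span_singleton_self x
  have h1 : (Submodule.span R {x}).mkQ (x - c • e i) ∈
      spanBefore R (M ⧸ Submodule.span R {x}) ((Submodule.span R {x}).mkQ ∘ rem i e) i := by
    rw [spanBefore_map]
    exact Submodule.mem_map_of_mem (spanBefore_le_rem e i i le_rfl h.mem)
  have h2 : (Submodule.span R {x}).mkQ (e i) =
      (-((u⁻¹ : Rˣ) : R)) • (Submodule.span R {x}).mkQ (x - c • e i) := by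
    rw [map_sub, map_smul, hπx, zero_sub, smul_neg, neg_smul, neg_neg, smul_smul, ← hu,
      Units.inv_mul, one_smul]
  rw [h2]
  exact Submodule.smul_mem _ _ h1

theorem G' (he : IsAdmissible R M e) (h : Ent x e i c) (j : ℕ) (z : M)
    (hz : z ∈ spanBefore R M e (if j < (i : ℕ) then j else j + 1)) :
    (Submodule.span R {x}).mkQ z ∈
      spanBefore R (M ⧸ Submodule.span R {x}) ((Submodule.span R {x}).mkQ ∘ rem i e) j :=
  G x e i (h.hpi he) j z hz

theorem isAdmissible_red (he : IsAdmissible R M e) (h : Ent x e i c) :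
    IsAdmissible R (M ⧸ Submodule.span R {x}) ((Submodule.span R {x}).mkQ ∘ rem i e) := by
  intro j r hr
  show r • (Submodule.span R {x}).mkQ (e (i.succAbove j)) ∈ _
  rw [← map_smul]
  apply h.G' he
  rw [← succAbove_val]
  exact he (i.succAbove j) r hr

end Ent

theorem exists_ent {k : ℕ} (x : M) (hx0 : x ≠ 0) (e : Fin (k + 1) → M)
    (h : x ∈ spanBefore R M e (k + 1)) : ∃ (i : Fin (k + 1)) (c : R), Ent x e i c := by
  have hex : ∃ n, x ∈ spanBefore R M e n := ⟨k + 1, h⟩
  obtain ⟨n, hn, hmin⟩ : ∃ n, x ∈ spanBefore R M e n ∧ ∀ m < n, x ∉ spanBefore R M e m := by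
    classical
    exact ⟨Nat.find hex, Nat.find_spec hex, fun m hm => Nat.find_min hex hm⟩
  have hn0 : n ≠ 0 := by
    intro h0
    rw [h0, spanBefore_zero, Submodule.mem_bot] at hn
    exact hx0 hn
  have hnl : n ≤ k + 1 := by
    by_contra hlt
    push Not at hlt
    exact hmin (k + 1) hlt h
  obtain ⟨i, hi⟩ : ∃ i, n = i + 1 := Nat.exists_eq_succ_of_ne_zero hn0
  have hil : i < k + 1 := by omega
  have hni : x ∉ spanBefore R M e i := hmin i (by omega)
  rw [hi, spanBefore_succ e i hil, Submodule.mem_sup] at hn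
  obtain ⟨s, hs, z, hz, hsz⟩ := hn
  rw [Submodule.mem_span_singleton] at hz
  obtain ⟨c, rfl⟩ := hz
  refine ⟨⟨i, hil⟩, c, hni, ?_⟩
  rw [← hsz, add_sub_cancel_right]
  exact hs

/-- The value attached to entry data. -/
noncomputable def entVal (x : M) {k : ℕ} (e : Adm R M (k + 1)) (i : Fin (k + 1)) (c : R)
    (h : Ent x e.1 i c) : DetOfLen R (M ⧸ Submodule.span R {x}) k :=
  ((-1 : ResidueField R) ^ (i : ℕ) * (residue R c)⁻¹) •
    sy (⟨_, h.isAdmissible_red e.2⟩ : Adm R (M ⧸ Submodule.span R {x}) k)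

theorem entVal_unique (x : M) {k : ℕ} (e : Adm R M (k + 1)) (i i' : Fin (k + 1)) (c c' : R)
    (h : Ent x e.1 i c) (h' : Ent x e.1 i' c') : entVal x e i c h = entVal x e i' c' h' := by
  obtain rfl := h.index_unique h'
  unfold entVal
  rw [h.residue_unique e.2 h']

/-- The expansion of a symbol along `x`. -/
noncomputable def phi0 (x : M) {k : ℕ} (e : Adm R M (k + 1)) :
    DetOfLen R (M ⧸ Submodule.span R {x}) k := by
  classical
  exact if h : ∃ (i : Fin (k + 1)) (c : R), Ent x e.1 i c then
    entVal x e h.choose h.choose_spec.choose h.choose_spec.choose_spec else 0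

theorem phi0_eq {x : M} {k : ℕ} {e : Adm R M (k + 1)} {i : Fin (k + 1)} {c : R}
    (h : Ent x e.1 i c) : phi0 x e = entVal x e i c h := by
  unfold phi0
  rw [dif_pos ⟨i, c, h⟩]
  exact entVal_unique x e _ _ _ _ _ _

theorem phi0_none {x : M} {k : ℕ} {e : Adm R M (k + 1)}
    (h : ¬ ∃ (i : Fin (k + 1)) (c : R), Ent x e.1 i c) : phi0 x e = 0 := by
  unfold phi0
  rw [dif_neg h]

/-! ### Relation (a) -/

theorem phi0_relA {x : M} {k : ℕ} (e : Adm R M (k + 1)) (a : Fin (k + 1))
    (ha : e.1 a ∈ spanBefore R M e.1 a) : phi0 x e = 0 := by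
  by_cases h : ∃ (i : Fin (k + 1)) (c : R), Ent x e.1 i c
  · obtain ⟨i, c, h⟩ := h
    rw [phi0_eq h]
    unfold entVal
    have hai : a ≠ i := by
      rintro rfl
      apply h.notMem
      have : x = (x - c • e.1 a) + c • e.1 a := by abel
      rw [this]
      exact add_mem h.mem (Submodule.smul_mem _ _ ha)
    obtain ⟨a₁, ha₁⟩ := Fin.exists_succAbove_eq hai
    rw [smul_eq_zero]
    right
    apply sy_eq_zero _ a₁
    show (Submodule.span R {x}).mkQ (e.1 (i.succAbove a₁)) ∈ _
    apply h.G' e.2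
    rw [← succAbove_val, ha₁]
    exact ha
  · exact phi0_none h

/-! ### Relation (b) -/

theorem spanBefore_eq_of_relB {l : ℕ} (e e' : Fin l → M) (a : Fin l) (u : Rˣ)
    (hag : ∀ j, j ≠ a → e j = e' j) (hmem : e a - (u : R) • e' a ∈ spanBefore R M e a) (j : ℕ) :
    spanBefore R M e j = spanBefore R M e' j := by
  have hsa : spanBefore R M e a = spanBefore R M e' a :=
    spanBefore_congr e e' a (fun t ht => hag t (fun h => by rw [h] at ht; omega))
  apply spanBefore_eq_of_mem
  · intro t ht
    by_cases hta : t = a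
    · rw [hta] at ht ⊢
      have : e a = (e a - (u : R) • e' a) + (u : R) • e' a := by abel
      rw [this]
      refine add_mem (spanBefore_mono e' (by omega) (hsa ▸ hmem))
        (Submodule.smul_mem _ _ (mem_spanBefore e' a ht))
    · rw [hag t hta]; exact mem_spanBefore e' t ht
  · intro t ht
    by_cases hta : t = a
    · rw [hta] at ht ⊢
      have : e' a = ((u⁻¹ : Rˣ) : R) • (e a - (e a - (u : R) • e' a)) := by
        rw [sub_sub_cancel, smul_smul, Units.inv_mul, one_smul]
      rw [this]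
      refine Submodule.smul_mem _ _ (sub_mem (mem_spanBefore e a ht)
        (spanBefore_mono e (by omega) hmem))
    · rw [← hag t hta]; exact mem_spanBefore e t ht

theorem ent_relB {x : M} {k : ℕ} (e e' : Fin (k + 1) → M) (a : Fin (k + 1)) (u : Rˣ)
    (hag : ∀ j, j ≠ a → e j = e' j) (hmem : e a - (u : R) • e' a ∈ spanBefore R M e a)
    (i : Fin (k + 1)) (c : R) (h : Ent x e i c) :
    Ent x e' i (if i = a then c * (u : R) else c) := by
  have hsp := spanBefore_eq_of_relB e e' a u hag hmem
  refine ⟨by rw [← hsp]; exact h.notMem, ?_⟩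
  rw [← hsp]
  by_cases hia : i = a
  · rw [if_pos hia]
    subst hia
    have : x - (c * (u : R)) • e' i = (x - c • e i) + c • (e i - (u : R) • e' i) := by
      rw [smul_sub, mul_smul]; abel
    rw [this]
    exact add_mem h.mem (Submodule.smul_mem _ _ hmem)
  · rw [if_neg hia, ← hag i hia]
    exact h.mem

theorem phi0_relB {x : M} {k : ℕ} (e e' : Adm R M (k + 1)) (a : Fin (k + 1)) (u : Rˣ)
    (hag : ∀ j, j ≠ a → e.1 j = e'.1 j)
    (hmem : e.1 a - (u : R) • e'.1 a ∈ spanBefore R M e.1 a) :
    phi0 x e = residue R (u : R) • phi0 x e' := by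
  have hune : residue R (u : R) ≠ 0 := (residue_ne_zero_iff_isUnit _).mpr u.isUnit
  by_cases h : ∃ (i : Fin (k + 1)) (c : R), Ent x e.1 i c
  · obtain ⟨i, c, h⟩ := h
    have h' := ent_relB e.1 e'.1 a u hag hmem i c h
    rw [phi0_eq h, phi0_eq h']
    by_cases hia : i = a
    · subst hia
      have hrem : rem i e.1 = rem i e'.1 := by
        funext j
        unfold rem
        exact hag _ (Fin.succAbove_ne i j)
      have hsub : (⟨_, h.isAdmissible_red e.2⟩ : Adm R (M ⧸ Submodule.span R {x}) k) =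
          ⟨_, h'.isAdmissible_red e'.2⟩ := Subtype.ext (by
        show (Submodule.span R {x}).mkQ ∘ rem i e.1 = (Submodule.span R {x}).mkQ ∘ rem i e'.1
        rw [hrem])
      unfold entVal
      rw [hsub, smul_smul]
      congr 1
      have hcne : residue R c ≠ 0 := (residue_ne_zero_iff_isUnit _).mpr (h.isUnit e.2)
      simp only [if_true, map_mul]
      field_simp
    · obtain ⟨a₁, ha₁⟩ := Fin.exists_succAbove_eq (Ne.symm hia)
      have hrel := sy_relB (⟨_, h.isAdmissible_red e.2⟩ : Adm R (M ⧸ Submodule.span R {x}) k)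
        ⟨_, h'.isAdmissible_red e'.2⟩ a₁ u (by
          intro j hj
          show (Submodule.span R {x}).mkQ (e.1 (i.succAbove j)) =
            (Submodule.span R {x}).mkQ (e'.1 (i.succAbove j))
          rw [hag _ (fun hh => hj (Fin.succAbove_right_injective (hh.trans ha₁.symm)))]) (by
          show (Submodule.span R {x}).mkQ (e.1 (i.succAbove a₁)) -
            (u : R) • (Submodule.span R {x}).mkQ (e'.1 (i.succAbove a₁)) ∈ _
          rw [← map_smul, ← map_sub]
          apply h.G' e.2
          rw [← succAbove_val, ha₁]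
          exact hmem)
      unfold entVal
      simp only [if_neg hia]
      rw [hrel, smul_smul, smul_smul, mul_comm]
  · have h' : ¬ ∃ (i : Fin (k + 1)) (c : R), Ent x e'.1 i c := by
      rintro ⟨i, c, h'⟩
      apply h
      have hmem' : e'.1 a - ((u⁻¹ : Rˣ) : R) • e.1 a ∈ spanBefore R M e'.1 a := by
        rw [← spanBefore_eq_of_relB e.1 e'.1 a u hag hmem]
        have : e'.1 a - ((u⁻¹ : Rˣ) : R) • e.1 a =
            (-((u⁻¹ : Rˣ) : R)) • (e.1 a - (u : R) • e'.1 a) := by
          rw [smul_sub, smul_smul, neg_mul, Units.inv_mul, neg_smul, neg_smul, one_smul]; abel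
        rw [this]
        exact Submodule.smul_mem _ _ hmem
      exact ⟨i, _, ent_relB e'.1 e.1 a u⁻¹ (fun j hj => (hag j hj).symm) hmem' i c h'⟩
    rw [phi0_none h, phi0_none h', smul_zero]

end Groth.Agent.Lib.Helper27.CD
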