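import Mathlib
import Groth.Agent.Lib.Helper27.CD4

/-!
# Determinants of finite length modules: the expansion map (part 2) and nonvanishing
-/

set_option autoImplicit false
universe u v
open IsLocalRing CycDet

namespace Groth.Agent.Lib.Helper27.CD

variable {R : Type u} [CommRing R] [IsLocalRing R] {M : Type v} [AddCommGroup M] [Module R M]

theorem ent_swap_of_ne {x : M} {k : ℕ} (e : Fin (k + 1) → M) (a b : Fin (k + 1))
    (hab : (b : ℕ) + 1 = (a : ℕ)) (i : Fin (k + 1)) (c : R) (hia : i ≠ a) (hib : i ≠ b)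
    (h : Ent x e i c) : Ent x (e ∘ Equiv.swap a b) i c := by
  have h1 : (i : ℕ) ≠ (a : ℕ) := fun hh => hia (Fin.ext hh)
  have h2 : (i : ℕ) ≠ (b : ℕ) := fun hh => hib (Fin.ext hh)
  have hsp : spanBefore R M (e ∘ Equiv.swap a b) i = spanBefore R M e i :=
    spanBefore_comp_swap e a b i (by omega)
  refine ⟨by rw [hsp]; exact h.notMem, ?_⟩
  rw [hsp, Function.comp_apply, Equiv.swap_apply_of_ne_of_ne hia hib]
  exact h.mem

theorem entVal_swap_of_ne {x : M} {k : ℕ} (e e' : Adm R M (k + 1)) (a b : Fin (k + 1))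
    (hab : (b : ℕ) + 1 = (a : ℕ)) (hsw : e'.1 = e.1 ∘ Equiv.swap a b)
    (hm : ∀ r ∈ maximalIdeal R, r • e.1 a ∈ spanBefore R M e.1 b)
    (i : Fin (k + 1)) (c : R) (hia : i ≠ a) (hib : i ≠ b)
    (h : Ent x e.1 i c) (h' : Ent x e'.1 i c) :
    entVal x e i c h + entVal x e' i c h' = 0 := by
  obtain ⟨a₁, ha₁⟩ := Fin.exists_succAbove_eq (Ne.symm hia)
  obtain ⟨b₁, hb₁⟩ := Fin.exists_succAbove_eq (Ne.symm hib)
  have hva := succAbove_val i a₁
  rw [ha₁] at hva
  have hvb := succAbove_val i b₁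
  rw [hb₁] at hvb
  have hab₁ : (b₁ : ℕ) + 1 = (a₁ : ℕ) := by split_ifs at hva hvb <;> omega
  have hrel := sy_relC (⟨_, h.isAdmissible_red e.2⟩ : Adm R (M ⧸ Submodule.span R {x}) k)
    ⟨_, h'.isAdmissible_red e'.2⟩ a₁ b₁ hab₁ (by
      intro r hr
      show r • (Submodule.span R {x}).mkQ (e.1 (i.succAbove a₁)) ∈ _
      rw [← map_smul, ha₁]
      apply h.G' e.2
      rw [← succAbove_val, hb₁]
      exact hm r hr) (by
      show (Submodule.span R {x}).mkQ ∘ rem i e'.1 =
        ((Submodule.span R {x}).mkQ ∘ rem i e.1) ∘ Equiv.swap a₁ b₁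
      funext j
      show (Submodule.span R {x}).mkQ (e'.1 (i.succAbove j)) =
        (Submodule.span R {x}).mkQ (e.1 (i.succAbove (Equiv.swap a₁ b₁ j)))
      rw [hsw, Function.comp_apply, ← ha₁, ← hb₁, Fin.succAbove_right_injective.swap_apply])
  unfold entVal
  rw [hrel, smul_neg, neg_add_cancel]

theorem entVal_zero_of_BB {x : M} {k : ℕ} (e e' : Adm R M (k + 1)) (a b : Fin (k + 1))
    (hab : (b : ℕ) + 1 = (a : ℕ)) (hsw : e'.1 = e.1 ∘ Equiv.swap a b) (c d : R)
    (h : Ent x e.1 b c) (h' : Ent x e'.1 b d) : entVal x e b c h = 0 := by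
  have hbk : (b : ℕ) < k := by have := a.2; omega
  obtain ⟨b₁, hb₁⟩ : ∃ b₁ : Fin k, (b₁ : ℕ) = (b : ℕ) := ⟨⟨b, hbk⟩, rfl⟩
  have hsa : b.succAbove b₁ = a := by
    apply Fin.ext
    rw [succAbove_val, if_neg (by omega)]
    omega
  unfold entVal
  rw [smul_eq_zero]
  right
  apply sy_eq_zero _ b₁
  show (Submodule.span R {x}).mkQ (e.1 (b.succAbove b₁)) ∈
    spanBefore R _ ((Submodule.span R {x}).mkQ ∘ rem b e.1) b₁
  rw [hsa, hb₁]
  have h1 := h'.hpi e'.2
  have h2 : e'.1 b = e.1 a := by rw [hsw, Function.comp_apply, Equiv.swap_apply_right]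
  rw [h2] at h1
  have h3 : spanBefore R (M ⧸ Submodule.span R {x})
      ((Submodule.span R {x}).mkQ ∘ rem b e'.1) b =
      spanBefore R _ ((Submodule.span R {x}).mkQ ∘ rem b e.1) b := by
    apply spanBefore_congr
    intro t ht
    show (Submodule.span R {x}).mkQ (e'.1 (b.succAbove t)) =
      (Submodule.span R {x}).mkQ (e.1 (b.succAbove t))
    have hv := succAbove_val b t
    rw [if_pos ht] at hv
    rw [hsw, Function.comp_apply, Equiv.swap_apply_of_ne_of_ne]
    · intro hh; rw [hh] at hv; omega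
    · intro hh; rw [hh] at hv; omega
  rw [← h3]
  exact h1

theorem entVal_swap_BA {x : M} {k : ℕ} (e e' : Adm R M (k + 1)) (a b : Fin (k + 1))
    (hab : (b : ℕ) + 1 = (a : ℕ)) (hsw : e'.1 = e.1 ∘ Equiv.swap a b) (c c' : R)
    (h : Ent x e.1 b c) (h' : Ent x e'.1 a c') :
    entVal x e b c h + entVal x e' a c' h' = 0 := by
  have h2 : e'.1 a = e.1 b := by rw [hsw, Function.comp_apply, Equiv.swap_apply_left]
  have hsb : spanBefore R M e'.1 b = spanBefore R M e.1 b := by
    rw [hsw]; exact spanBefore_comp_swap e.1 a b b (Or.inr ⟨by omega, le_rfl⟩)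
  have h'' : Ent x e'.1 a c := ⟨h'.notMem, by
    rw [h2]
    refine spanBefore_mono e'.1 (by omega : (b : ℕ) ≤ (a : ℕ)) ?_
    rw [hsb]; exact h.mem⟩
  rw [entVal_unique x e' a a c' c h' h'']
  have hrem : rem a e'.1 = rem b e.1 := by
    funext j
    unfold rem
    rw [hsw, Function.comp_apply, swap_succAbove a b hab]
  have hsub : (⟨_, h''.isAdmissible_red e'.2⟩ : Adm R (M ⧸ Submodule.span R {x}) k) =
      ⟨_, h.isAdmissible_red e.2⟩ := Subtype.ext (by
    show (Submodule.span R {x}).mkQ ∘ rem a e'.1 = (Submodule.span R {x}).mkQ ∘ rem b e.1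
    rw [hrem])
  unfold entVal
  rw [hsub, ← add_smul, ← hab, pow_succ]
  have : (-1 : ResidueField R) ^ (b : ℕ) * (residue R c)⁻¹ +
      (-1) ^ (b : ℕ) * -1 * (residue R c)⁻¹ = 0 := by ring
  rw [this, zero_smul]

theorem entVal_swap_AA {x : M} {k : ℕ} (e e' : Adm R M (k + 1)) (a b : Fin (k + 1))
    (hab : (b : ℕ) + 1 = (a : ℕ)) (hsw : e'.1 = e.1 ∘ Equiv.swap a b) (c r : R)
    (h : Ent x e.1 a c) (h' : Ent x e'.1 a r) :
    entVal x e a c h + entVal x e' a r h' = 0 := by
  have hbk : (b : ℕ) < k := by have := a.2; omega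
  obtain ⟨b₁, hb₁⟩ : ∃ b₁ : Fin k, (b₁ : ℕ) = (b : ℕ) := ⟨⟨b, hbk⟩, rfl⟩
  have hsb₁ : a.succAbove b₁ = b := by
    apply Fin.ext
    rw [succAbove_val, if_pos (by omega)]
    exact hb₁
  have hea : e'.1 a = e.1 b := by rw [hsw, Function.comp_apply, Equiv.swap_apply_left]
  have heb : e'.1 b = e.1 a := by rw [hsw, Function.comp_apply, Equiv.swap_apply_right]
  have hsb : spanBefore R M e'.1 b = spanBefore R M e.1 b := by
    rw [hsw]; exact spanBefore_comp_swap e.1 a b b (Or.inr ⟨by omega, le_rfl⟩)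
  -- decompose `x - c • e a`
  have hmem := h.mem
  rw [← hab, spanBefore_succ e.1 (b : ℕ) b.2, Fin.eta, Submodule.mem_sup] at hmem
  obtain ⟨s₀, hs₀, q, hq, hsum⟩ := hmem
  rw [Submodule.mem_span_singleton] at hq
  obtain ⟨ρ, rfl⟩ := hq
  have hsum' : s₀ + ρ • e.1 b + c • e.1 a = x := by
    rw [eq_sub_iff_add_eq] at hsum; exact hsum
  have hs₀' : s₀ ∈ spanBefore R M e'.1 b := by rw [hsb]; exact hs₀
  have h'' : Ent x e'.1 a ρ := ⟨h'.notMem, by
    rw [hea]
    have : x - ρ • e.1 b = s₀ + c • e.1 a := by rw [← hsum']; abel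
    rw [this, ← heb]
    exact add_mem (spanBefore_mono e'.1 (by omega : (b : ℕ) ≤ (a : ℕ)) hs₀')
      (Submodule.smul_mem _ _ (mem_spanBefore e'.1 b (by omega)))⟩
  rw [entVal_unique x e' a a r ρ h' h'']
  obtain ⟨uc, huc⟩ := h.isUnit e.2
  obtain ⟨uρ, huρ⟩ := h''.isUnit e'.2
  obtain ⟨w, hw⟩ : ∃ w : Rˣ, (w : R) = -(((uc⁻¹ : Rˣ) : R) * ρ) :=
    ⟨-(uc⁻¹ * uρ), by rw [Units.val_neg, Units.val_mul, huρ]⟩
  have hπx : (Submodule.span R {x}).mkQ x = 0 := by
    rw [Submodule.mkQ_apply, Submodule.Quotient.mk_eq_zero]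
    exact Submodule.mem_span_singleton_self x
  have hxs : x - s₀ = c • e.1 a + ρ • e.1 b := by rw [← hsum']; abel
  have key : e.1 a - (w : R) • e.1 b = ((uc⁻¹ : Rˣ) : R) • (x - s₀) := by
    rw [hxs, smul_add, smul_smul, smul_smul, ← huc, Units.inv_mul, one_smul, hw, neg_smul,
      sub_neg_eq_add]
  have hrel := sy_relB (⟨_, h''.isAdmissible_red e'.2⟩ : Adm R (M ⧸ Submodule.span R {x}) k)
    ⟨_, h.isAdmissible_red e.2⟩ b₁ w (by
      intro j hj
      show (Submodule.span R {x}).mkQ (e'.1 (a.succAbove j)) =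
        (Submodule.span R {x}).mkQ (e.1 (a.succAbove j))
      rw [hsw, Function.comp_apply, Equiv.swap_apply_of_ne_of_ne (Fin.succAbove_ne a j)
        (fun hh => hj (Fin.succAbove_right_injective (hh.trans hsb₁.symm)))]) (by
      show (Submodule.span R {x}).mkQ (e'.1 (a.succAbove b₁)) -
        (w : R) • (Submodule.span R {x}).mkQ (e.1 (a.succAbove b₁)) ∈
          spanBefore R _ ((Submodule.span R {x}).mkQ ∘ rem a e'.1) b₁
      rw [hsb₁, heb, ← map_smul, ← map_sub, key, map_smul, map_sub, hπx, zero_sub]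
      refine Submodule.smul_mem _ _ (neg_mem ?_)
      apply h''.G' e'.2
      rw [if_pos (by omega), hb₁]
      exact hs₀')
  have hcne : residue R c ≠ 0 := (residue_ne_zero_iff_isUnit _).mpr (h.isUnit e.2)
  have hρne : residue R ρ ≠ 0 := (residue_ne_zero_iff_isUnit _).mpr (h''.isUnit e'.2)
  have hinv : residue R ((uc⁻¹ : Rˣ) : R) = (residue R c)⁻¹ := by
    rw [← huc]
    exact eq_inv_of_mul_eq_one_left (by rw [← map_mul, Units.inv_mul, map_one])
  unfold entVal
  rw [hrel, smul_smul, ← add_smul, hw, map_neg, map_mul, hinv]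
  have : (-1 : ResidueField R) ^ (a : ℕ) * (residue R c)⁻¹ +
      (-1) ^ (a : ℕ) * (residue R ρ)⁻¹ * -((residue R c)⁻¹ * residue R ρ) = 0 := by
    field_simp
    ring
  rw [this, zero_smul]

theorem phi0_relC {x : M} {k : ℕ} (e e' : Adm R M (k + 1)) (a b : Fin (k + 1))
    (hab : (b : ℕ) + 1 = (a : ℕ))
    (hm : ∀ r ∈ maximalIdeal R, r • e.1 a ∈ spanBefore R M e.1 b)
    (hsw : e'.1 = e.1 ∘ Equiv.swap a b) : phi0 x e + phi0 x e' = 0 := by
  have hsw' : e.1 = e'.1 ∘ Equiv.swap a b := by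
    rw [hsw]; funext j
    rw [Function.comp_apply, Function.comp_apply, Equiv.swap_apply_self]
  have htop : spanBefore R M e'.1 (k + 1) = spanBefore R M e.1 (k + 1) := by
    rw [hsw]; exact spanBefore_comp_swap e.1 a b (k + 1) (Or.inl ⟨a.2, b.2⟩)
  by_cases he : ∃ (i : Fin (k + 1)) (c : R), Ent x e.1 i c
  · obtain ⟨i, c, h⟩ := he
    obtain ⟨i', c', h'⟩ := exists_ent x h.ne_zero e'.1 (by rw [htop]; exact h.mem_top)
    by_cases hia : i = a
    · have ha : Ent x e.1 a c := hia ▸ h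
      by_cases hia' : i' = a
      · have ha' : Ent x e'.1 a c' := hia' ▸ h'
        rw [phi0_eq ha, phi0_eq ha']
        exact entVal_swap_AA e e' a b hab hsw c c' ha ha'
      · by_cases hib' : i' = b
        · have hb' : Ent x e'.1 b c' := hib' ▸ h'
          rw [phi0_eq ha, phi0_eq hb', add_comm]
          exact entVal_swap_BA e' e a b hab hsw' c' c hb' ha
        · have ht := ent_swap_of_ne e'.1 a b hab i' c' hia' hib' h'
          rw [← hsw'] at ht
          exact absurd ((h.index_unique ht).symm.trans hia) hia'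
    · by_cases hib : i = b
      · have hb : Ent x e.1 b c := hib ▸ h
        by_cases hia' : i' = a
        · have ha' : Ent x e'.1 a c' := hia' ▸ h'
          rw [phi0_eq hb, phi0_eq ha']
          exact entVal_swap_BA e e' a b hab hsw c c' hb ha'
        · by_cases hib' : i' = b
          · have hb' : Ent x e'.1 b c' := hib' ▸ h'
            rw [phi0_eq hb, phi0_eq hb', entVal_zero_of_BB e e' a b hab hsw c c' hb hb',
              entVal_zero_of_BB e' e a b hab hsw' c' c hb' hb, add_zero]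
          · have ht := ent_swap_of_ne e'.1 a b hab i' c' hia' hib' h'
            rw [← hsw'] at ht
            exact absurd ((h.index_unique ht).symm.trans hib) hib'
      · have ht := ent_swap_of_ne e.1 a b hab i c hia hib h
        rw [← hsw] at ht
        rw [phi0_eq h, phi0_eq ht]
        exact entVal_swap_of_ne e e' a b hab hsw hm i c hia hib h ht
  · have he' : ¬ ∃ (i : Fin (k + 1)) (c : R), Ent x e'.1 i c := by
      rintro ⟨i', c', h'⟩
      apply he
      exact exists_ent x h'.ne_zero e.1 (by rw [← htop]; exact h'.mem_top)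
    rw [phi0_none he, phi0_none he', add_zero]

theorem phi0_rel {x : M} {k : ℕ} : ∀ z ∈ relSet R M (k + 1),
    Finsupp.linearCombination (ResidueField R) (fun e : Adm R M (k + 1) => phi0 x e) z = 0 := by
  rintro z ((⟨e, a, hea, rfl⟩ | ⟨e, e', a, c, hag, hmem, rfl⟩) | ⟨e, e', a, b, hab, hm, hsw, rfl⟩)
  · unfold sym
    rw [Finsupp.linearCombination_single, one_smul]
    exact phi0_relA e a hea
  · unfold sym
    rw [map_sub, map_smul, Finsupp.linearCombination_single, Finsupp.linearCombination_single,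
      one_smul, one_smul, sub_eq_zero]
    exact phi0_relB e e' a c hag hmem
  · unfold sym
    rw [map_add, Finsupp.linearCombination_single, Finsupp.linearCombination_single,
      one_smul, one_smul]
    exact phi0_relC e e' a b hab hm hsw

/-- The expansion map `det(M) → det(M/x)`. -/
noncomputable def Phi (x : M) {k : ℕ} :
    DetOfLen R M (k + 1) →ₗ[ResidueField R] DetOfLen R (M ⧸ Submodule.span R {x}) k :=
  Submodule.liftQ _ (Finsupp.linearCombination _ (fun e : Adm R M (k + 1) => phi0 x e)) (by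
    rw [Submodule.span_le]
    intro z hz
    exact LinearMap.mem_ker.mpr (phi0_rel z hz))

theorem Phi_sy (x : M) {k : ℕ} (e : Adm R M (k + 1)) : Phi x (sy e) = phi0 x e := by
  unfold Phi sy
  rw [Submodule.liftQ_apply]
  unfold sym
  rw [Finsupp.linearCombination_single, one_smul]

theorem gen_tail {k : ℕ} (x : M) (g : Fin k → M)
    (hg : spanBefore R M (Fin.cons x g : Fin (k + 1) → M) (k + 1) = ⊤) :
    spanBefore R (M ⧸ Submodule.span R {x}) ((Submodule.span R {x}).mkQ ∘ g) k = ⊤ := by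
  rw [eq_top_iff]
  intro n _
  obtain ⟨z, rfl⟩ := Submodule.mkQ_surjective _ n
  rw [← mem_spanBefore_cons_iff, hg]
  trivial

theorem good_tail {k : ℕ} (x : M) (g : Fin k → M) (f : Adm R M (k + 1))
    (hf' : f.1 = Fin.cons x g) (hf : Good f)
    (hfa : IsAdmissible R (M ⧸ Submodule.span R {x}) ((Submodule.span R {x}).mkQ ∘ g)) :
    Good (⟨_, hfa⟩ : Adm R (M ⧸ Submodule.span R {x}) k) := by
  refine ⟨?_, ?_⟩
  · apply gen_tail
    rw [← hf']; exact hf.1
  · intro a h
    apply hf.2 a.succ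
    rw [hf', Fin.cons_succ, Fin.val_succ, mem_spanBefore_cons_iff]
    exact h

theorem sy_ne_zero (l : ℕ) : ∀ (M' : Type v) [AddCommGroup M'] [Module R M'] (f : Adm R M' l),
    Good f → sy f ≠ 0 := by
  induction l with
  | zero =>
    intro M' _ _ f _ h
    unfold sy at h
    rw [Submodule.Quotient.mk_eq_zero] at h
    have hrel : relSet R M' 0 = ∅ := by
      ext z
      simp only [Set.mem_empty_iff_false, iff_false]
      rintro ((⟨_, a, _⟩ | ⟨_, _, a, _⟩) | ⟨_, _, a, _⟩) <;> exact a.elim0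
    rw [hrel, Submodule.span_empty, Submodule.mem_bot] at h
    unfold sym at h
    exact one_ne_zero (Finsupp.single_eq_zero.mp h)
  | succ k ih =>
    intro M' _ _ f hf h
    obtain ⟨x, hx0⟩ : ∃ x, x = f.1 0 := ⟨_, rfl⟩
    have hxne : x ≠ 0 := by
      intro h0
      apply hf.2 0
      rw [← hx0, h0]; exact zero_mem _
    have hf' : f.1 = Fin.cons x (Fin.tail f.1) := by
      rw [hx0]; exact (Fin.cons_self_tail f.1).symm
    have hent : Ent x f.1 0 (1 : R) := ⟨by
      rw [Fin.val_zero, spanBefore_zero, Submodule.mem_bot]; exact hxne, by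
      rw [one_smul, ← hx0, sub_self]; exact zero_mem _⟩
    have h1 : Phi x (sy f) = 0 := by rw [h, map_zero]
    rw [Phi_sy, phi0_eq hent] at h1
    unfold entVal at h1
    rw [Fin.val_zero, pow_zero, map_one, inv_one, one_mul, one_smul] at h1
    have hfa : IsAdmissible R (M' ⧸ Submodule.span R {x})
        ((Submodule.span R {x}).mkQ ∘ Fin.tail f.1) :=
      isAdmissible_of_cons x _ (hf' ▸ f.2)
    have hgood := good_tail x (Fin.tail f.1) f hf' hf hfa
    apply ih _ ⟨_, hfa⟩ hgood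
    have : (⟨_, hent.isAdmissible_red f.2⟩ : Adm R (M' ⧸ Submodule.span R {x}) k) =
        ⟨_, hfa⟩ := Subtype.ext (by
      show (Submodule.span R {x}).mkQ ∘ rem 0 f.1 = (Submodule.span R {x}).mkQ ∘ Fin.tail f.1
      rfl)
    rw [← this]
    exact h1

end Groth.Agent.Lib.Helper27.CD
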