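import Mathlib
import Groth.Agent.Lib.Helper27.CD5

/-!
# Determinants of finite length modules: generating tuples of the right length are strict
-/

set_option autoImplicit false
universe u v
open IsLocalRing CycDet

namespace Groth.Agent.Lib.Helper27.CD

variable {R : Type u} [CommRing R] [IsLocalRing R] {M : Type v} [AddCommGroup M] [Module R M]

theorem length_span_singleton_le_one (x : M) (hx : ∀ r ∈ maximalIdeal R, r • x = 0) :
    Module.length R (Submodule.span R {x}) ≤ 1 := by
  haveI : IsSimpleModule R (R ⧸ maximalIdeal R) :=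
    isSimpleModule_iff_isCoatom.mpr (Ideal.isMaximal_def.mp (maximalIdeal.isMaximal R))
  let φ : (R ⧸ maximalIdeal R) →ₗ[R] Submodule.span R {x} :=
    Submodule.liftQ (maximalIdeal R)
      (LinearMap.toSpanSingleton R _ ⟨x, Submodule.mem_span_singleton_self x⟩) (by
      intro r hr
      rw [LinearMap.mem_ker, LinearMap.toSpanSingleton_apply]
      apply Subtype.ext
      rw [Submodule.coe_smul, Submodule.coe_zero]
      exact hx r hr)
  have hφ : Function.Surjective φ := by
    rintro ⟨y, hy⟩
    obtain ⟨r, rfl⟩ := Submodule.mem_span_singleton.mp hy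
    refine ⟨Submodule.Quotient.mk r, ?_⟩
    apply Subtype.ext
    show ((Submodule.liftQ (maximalIdeal R)
      (LinearMap.toSpanSingleton R _ ⟨x, Submodule.mem_span_singleton_self x⟩) _
        (Submodule.Quotient.mk r) : Submodule.span R {x}) : M) = r • x
    rw [Submodule.liftQ_apply, LinearMap.toSpanSingleton_apply, Submodule.coe_smul]
  calc Module.length R (Submodule.span R {x})
      ≤ Module.length R (R ⧸ maximalIdeal R) := Module.length_le_of_surjective φ hφ
    _ = 1 := Module.length_eq_one _ _

open scoped Classical in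
theorem length_le_card_step {k : ℕ} (x : M) (g : Fin k → M)
    (hadm : IsAdmissible R M (Fin.cons x g : Fin (k + 1) → M))
    (IH : Module.length R (M ⧸ Submodule.span R {x}) ≤
      ((Finset.univ.filter (fun j : Fin k => ((Submodule.span R {x}).mkQ ∘ g) j ∉
        spanBefore R (M ⧸ Submodule.span R {x}) ((Submodule.span R {x}).mkQ ∘ g) j)).card : ℕ∞)) :
    Module.length R M ≤
      ((Finset.univ.filter (fun i : Fin (k + 1) => (Fin.cons x g : Fin (k + 1) → M) i ∉
        spanBefore R M (Fin.cons x g : Fin (k + 1) → M) i)).card : ℕ∞) := by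
  have hx : ∀ r ∈ maximalIdeal R, r • x = 0 := by
    intro r hr
    have := hadm 0 r hr
    rwa [Fin.val_zero, spanBefore_zero, Submodule.mem_bot, Fin.cons_zero] at this
  have hadd := Module.length_eq_add_of_exact (Submodule.span R {x}).subtype
    (Submodule.span R {x}).mkQ (Submodule.injective_subtype _) (Submodule.mkQ_surjective _)
    (LinearMap.exact_subtype_mkQ _)
  have hcnt : (Finset.univ.filter (fun j : Fin k => (Fin.cons x g : Fin (k + 1) → M) j.succ ∉
      spanBefore R M (Fin.cons x g : Fin (k + 1) → M) (j.succ : Fin (k + 1)))) =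
      Finset.univ.filter (fun j : Fin k => ((Submodule.span R {x}).mkQ ∘ g) j ∉
        spanBefore R (M ⧸ Submodule.span R {x}) ((Submodule.span R {x}).mkQ ∘ g) j) := by
    apply Finset.filter_congr
    intro j _
    rw [Fin.cons_succ, Fin.val_succ, mem_spanBefore_cons_iff]
    rfl
  rw [Fin.card_filter_univ_succ, hcnt, hadd]
  by_cases hx0 : x = 0
  · have h0 : Module.length R (Submodule.span R {x}) = 0 := by
      rw [hx0, Submodule.span_zero_singleton]
      exact Module.length_bot
    have hp : ¬ ((Fin.cons x g : Fin (k + 1) → M) 0 ∉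
        spanBefore R M (Fin.cons x g : Fin (k + 1) → M) ((0 : Fin (k + 1)) : ℕ)) := by
      rw [Fin.cons_zero, hx0, not_not]; exact zero_mem _
    rw [if_neg hp, h0, zero_add]
    exact IH
  · have hp : (Fin.cons x g : Fin (k + 1) → M) 0 ∉
        spanBefore R M (Fin.cons x g : Fin (k + 1) → M) ((0 : Fin (k + 1)) : ℕ) := by
      rw [Fin.cons_zero, Fin.val_zero, spanBefore_zero, Submodule.mem_bot]; exact hx0
    rw [if_pos hp, Nat.cast_add, Nat.cast_one, add_comm]
    exact add_le_add IH (length_span_singleton_le_one x hx)

open scoped Classical in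
theorem length_le_card (k : ℕ) : ∀ (M' : Type v) [AddCommGroup M'] [Module R M']
    (e : Fin k → M'), IsAdmissible R M' e → Gen R e →
    Module.length R M' ≤
      ((Finset.univ.filter (fun i : Fin k => e i ∉ spanBefore R M' e i)).card : ℕ∞) := by
  induction k with
  | zero =>
    intro M' _ _ e _ hg
    unfold Gen at hg
    rw [spanBefore_zero] at hg
    haveI : Subsingleton M' :=
      (Submodule.subsingleton_iff R).mp (subsingleton_of_bot_eq_top hg)
    rw [Module.length_eq_zero]
    exact zero_le
  | succ k ih =>
    intro M' _ _ e he hg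
    obtain ⟨x, hx0⟩ : ∃ x, x = e 0 := ⟨_, rfl⟩
    have he' : e = Fin.cons x (Fin.tail e) := by
      rw [hx0]; exact (Fin.cons_self_tail e).symm
    have hadm : IsAdmissible R M' (Fin.cons x (Fin.tail e) : Fin (k + 1) → M') := he' ▸ he
    have hgen : spanBefore R M' (Fin.cons x (Fin.tail e) : Fin (k + 1) → M') (k + 1) = ⊤ := by
      rw [← he']; exact hg
    have hIH := ih (M' ⧸ Submodule.span R {x}) _ (isAdmissible_of_cons x _ hadm)
      (gen_tail x _ hgen)
    have := length_le_card_step x (Fin.tail e) hadm hIH
    rw [← he'] at this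
    exact this

theorem strict_of_gen {l : ℕ} (hl : (l : ℕ∞) = Module.length R M) (e : Adm R M l)
    (hg : Gen R e.1) : ∀ a : Fin l, e.1 a ∉ spanBefore R M e.1 a := by
  classical
  have h1 := length_le_card l M e.1 e.2 hg
  rw [← hl, Nat.cast_le] at h1
  have h2 : (Finset.univ.filter (fun i : Fin l => e.1 i ∉ spanBefore R M e.1 i)).card =
      (Finset.univ : Finset (Fin l)).card := by
    apply le_antisymm (Finset.card_filter_le _ _)
    rw [Finset.card_univ, Fintype.card_fin]
    exact h1
  intro a
  exact (Finset.card_filter_eq_iff.mp h2) a (Finset.mem_univ a)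

/-- The symbol of a generating admissible tuple of length `length(M)` is nonzero. -/
theorem symbol_ne_zero (hM : IsFiniteLength R M) (e : Adm R M (Module.length R M).toNat)
    (he : Submodule.span R (Set.range e.1) = ⊤) : symbol R M e ≠ 0 := by
  have hl : (((Module.length R M).toNat : ℕ) : ℕ∞) = Module.length R M :=
    ENat.natCast_toNat (Module.length_ne_top_iff.mpr hM)
  have hg : Gen R e.1 := by
    unfold Gen
    rw [spanBefore_of_le e.1 le_rfl]; exact he
  exact sy_ne_zero _ M e ⟨hg, strict_of_gen hl e hg⟩

end Groth.Agent.Lib.Helper27.CD
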