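import Mathlib
import Groth.Agent.Lib.Helper27.CD6

/-!
# Determinants of finite length modules: multiplicativity in short exact sequences
(construction of the pairing `det(K) × det(M) → det(L)`)
-/

set_option autoImplicit false
universe u v
open IsLocalRing CycDet

namespace Groth.Agent.Lib.Helper27.CD

variable {R : Type u} [CommRing R] [IsLocalRing R] {K L M : Type v}
  [AddCommGroup K] [Module R K] [AddCommGroup L] [Module R L] [AddCommGroup M] [Module R M]

/-! ### `spanBefore` of an appended tuple -/

theorem spanBefore_append_le {n m : ℕ} (u : Fin n → L) (v : Fin m → L) (j : ℕ) (hj : j ≤ n) :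
    spanBefore R L (Fin.append u v) j = spanBefore R L u j := by
  apply le_antisymm
  · rw [spanBefore_le_iff]
    intro k hk
    have hkn : (k : ℕ) < n := lt_of_lt_of_le hk hj
    have hk' : k = Fin.castAdd m ⟨k, hkn⟩ := Fin.ext (by simp)
    rw [hk', Fin.append_left]
    exact mem_spanBefore u ⟨k, hkn⟩ hk
  · rw [spanBefore_le_iff]
    intro k hk
    have := mem_spanBefore (R := R) (Fin.append u v) (Fin.castAdd m k)
      (by rw [Fin.val_castAdd]; exact hk : ((Fin.castAdd m k : Fin (n + m)) : ℕ) < j)
    rwa [Fin.append_left] at this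

theorem spanBefore_append_add {n m : ℕ} (u : Fin n → L) (v : Fin m → L) (i : ℕ) :
    spanBefore R L (Fin.append u v) (n + i) =
      Submodule.span R (Set.range u) ⊔ spanBefore R L v i := by
  apply le_antisymm
  · rw [spanBefore_le_iff]
    intro k hk
    induction k using Fin.addCases with
    | left a =>
      rw [Fin.append_left]
      exact Submodule.mem_sup_left (Submodule.subset_span ⟨a, rfl⟩)
    | right b =>
      rw [Fin.val_natAdd] at hk
      rw [Fin.append_right]
      exact Submodule.mem_sup_right (mem_spanBefore v b (by omega))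
  · apply sup_le
    · rw [Submodule.span_le]
      rintro _ ⟨a, rfl⟩
      show u a ∈ spanBefore R L (Fin.append u v) (n + i)
      have := mem_spanBefore (R := R) (Fin.append u v) (Fin.castAdd m a)
        (by rw [Fin.val_castAdd]; have := a.2; omega :
          ((Fin.castAdd m a : Fin (n + m)) : ℕ) < n + i)
      rwa [Fin.append_left] at this
    · rw [spanBefore_le_iff]
      intro b hb
      have := mem_spanBefore (R := R) (Fin.append u v) (Fin.natAdd n b)
        (by rw [Fin.val_natAdd]; omega : ((Fin.natAdd n b : Fin (n + m)) : ℕ) < n + i)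
      rwa [Fin.append_right] at this

theorem mem_spanBefore_append_iff {n m : ℕ} (π : L →ₗ[R] M) (u : Fin n → L)
    (hker : LinearMap.ker π = Submodule.span R (Set.range u)) (v : Fin m → L) (i : ℕ) (z : L) :
    z ∈ spanBefore R L (Fin.append u v) (n + i) ↔ π z ∈ spanBefore R M (π ∘ v) i := by
  rw [spanBefore_append_add, spanBefore_map, ← Submodule.mem_comap, Submodule.comap_map_eq, hker,
    sup_comm]

theorem isAdmissible_append {n m : ℕ} (π : L →ₗ[R] M) (u : Fin n → L)
    (hu : IsAdmissible R L u) (hker : LinearMap.ker π = Submodule.span R (Set.range u))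
    (v : Fin m → L) (hv : IsAdmissible R M (π ∘ v)) :
    IsAdmissible R L (Fin.append u v) := by
  intro k r hr
  induction k using Fin.addCases with
  | left a =>
    rw [Fin.append_left, Fin.val_castAdd, spanBefore_append_le u v _ a.2.le]
    exact hu a r hr
  | right b =>
    rw [Fin.append_right, Fin.val_natAdd, mem_spanBefore_append_iff π u hker, map_smul]
    exact hv b r hr

theorem castAdd_ne_natAdd {n m : ℕ} (i : Fin n) (j : Fin m) :
    Fin.castAdd m i ≠ Fin.natAdd n j := by
  intro h
  have h1 := congrArg Fin.val h
  rw [Fin.val_castAdd, Fin.val_natAdd] at h1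
  have := i.2
  omega

theorem append_comp_swap_right {n m : ℕ} (u : Fin n → L) (v : Fin m → L) (a b : Fin m) :
    Fin.append u (v ∘ Equiv.swap a b) =
      Fin.append u v ∘ Equiv.swap (Fin.natAdd n a) (Fin.natAdd n b) := by
  funext k
  induction k using Fin.addCases with
  | left i =>
    rw [Fin.append_left, Function.comp_apply,
      Equiv.swap_apply_of_ne_of_ne (castAdd_ne_natAdd i a) (castAdd_ne_natAdd i b),
      Fin.append_left]
  | right j =>
    rw [Fin.append_right, Function.comp_apply, Function.comp_apply,
      (Fin.natAdd_injective m n).swap_apply, Fin.append_right]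

theorem append_comp_swap_left {n m : ℕ} (u : Fin n → L) (v : Fin m → L) (a b : Fin n) :
    Fin.append (u ∘ Equiv.swap a b) v =
      Fin.append u v ∘ Equiv.swap (Fin.castAdd m a) (Fin.castAdd m b) := by
  funext k
  induction k using Fin.addCases with
  | left i =>
    rw [Fin.append_left, Function.comp_apply, Function.comp_apply,
      (Fin.castAdd_injective n m).swap_apply, Fin.append_left]
  | right j =>
    rw [Fin.append_right, Function.comp_apply,
      Equiv.swap_apply_of_ne_of_ne (castAdd_ne_natAdd a j).symm (castAdd_ne_natAdd b j).symm,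
      Fin.append_right]

/-! ### Step 1: lifting symbols of the quotient -/

theorem comp_surjInv {m : ℕ} (g : L →ₗ[R] M) (hg : Function.Surjective g) (t : Fin m → M) :
    (g ∘ fun j => Function.surjInv hg (t j)) = t :=
  funext fun j => Function.surjInv_eq hg _

/-- Append set-theoretic lifts of an admissible tuple of the quotient to a generating
admissible tuple of the kernel. -/
noncomputable def liftA (g : L →ₗ[R] M) (hg : Function.Surjective g) {n m : ℕ} (u : Fin n → L)
    (hu : IsAdmissible R L u) (hker : LinearMap.ker g = Submodule.span R (Set.range u))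
    (t : Adm R M m) : Adm R L (n + m) :=
  ⟨Fin.append u (fun j => Function.surjInv hg (t.1 j)),
    isAdmissible_append g u hu hker _ (by rw [comp_surjInv]; exact t.2)⟩

theorem liftA_val (g : L →ₗ[R] M) (hg : Function.Surjective g) {n m : ℕ} (u : Fin n → L)
    (hu : IsAdmissible R L u) (hker : LinearMap.ker g = Submodule.span R (Set.range u))
    (t : Adm R M m) :
    (liftA g hg u hu hker t).1 = Fin.append u (fun j => Function.surjInv hg (t.1 j)) := rfl

theorem psiA_rel (g : L →ₗ[R] M) (hg : Function.Surjective g) {n m : ℕ} (u : Fin n → L)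
    (hu : IsAdmissible R L u) (hker : LinearMap.ker g = Submodule.span R (Set.range u)) :
    ∀ z ∈ relSet R M m,
      Finsupp.linearCombination (ResidueField R) (fun t => sy (liftA g hg u hu hker t)) z = 0 := by
  rintro z ((⟨t, a, hta, rfl⟩ | ⟨t, t', a, c, hag, hmem, rfl⟩) | ⟨t, t', a, b, hab, hm, hsw, rfl⟩)
  · unfold sym
    rw [Finsupp.linearCombination_single, one_smul]
    apply sy_eq_zero (liftA g hg u hu hker t) (Fin.natAdd n a)
    rw [liftA_val, Fin.append_right, Fin.val_natAdd, mem_spanBefore_append_iff g u hker,
      Function.surjInv_eq hg, comp_surjInv]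
    exact hta
  · unfold sym
    rw [map_sub, map_smul, Finsupp.linearCombination_single, Finsupp.linearCombination_single,
      one_smul, one_smul, sub_eq_zero]
    apply sy_relB (liftA g hg u hu hker t) (liftA g hg u hu hker t') (Fin.natAdd n a) c
    · intro j hj
      rw [liftA_val, liftA_val]
      induction j using Fin.addCases with
      | left i => rw [Fin.append_left, Fin.append_left]
      | right j' =>
        rw [Fin.append_right, Fin.append_right]
        have : j' ≠ a := fun h => hj (by rw [h])
        rw [hag j' this]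
    · rw [liftA_val, liftA_val, Fin.append_right, Fin.append_right, Fin.val_natAdd,
        mem_spanBefore_append_iff g u hker, map_sub, map_smul, Function.surjInv_eq hg,
        Function.surjInv_eq hg, comp_surjInv]
      exact hmem
  · unfold sym
    rw [map_add, Finsupp.linearCombination_single, Finsupp.linearCombination_single,
      one_smul, one_smul]
    have := sy_relC (liftA g hg u hu hker t) (liftA g hg u hu hker t') (Fin.natAdd n a)
      (Fin.natAdd n b) (by rw [Fin.val_natAdd, Fin.val_natAdd]; omega) (by
        intro r hr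
        rw [liftA_val, Fin.append_right, Fin.val_natAdd, mem_spanBefore_append_iff g u hker,
          map_smul, Function.surjInv_eq hg, comp_surjInv]
        exact hm r hr) (by
        rw [liftA_val, liftA_val]
        have h1 : (fun j => Function.surjInv hg (t'.1 j)) =
            (fun j => Function.surjInv hg (t.1 j)) ∘ Equiv.swap a b := by
          funext j
          rw [hsw]
          rfl
        rw [h1, append_comp_swap_right])
    rw [this, neg_add_cancel]

/-- The map `det(M) → det(L)`, `[t̄] ↦ [u, t]`. -/
noncomputable def PsiA (g : L →ₗ[R] M) (hg : Function.Surjective g) {n : ℕ} (u : Fin n → L)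
    (hu : IsAdmissible R L u) (hker : LinearMap.ker g = Submodule.span R (Set.range u)) (m : ℕ) :
    DetOfLen R M m →ₗ[ResidueField R] DetOfLen R L (n + m) :=
  Submodule.liftQ _ (Finsupp.linearCombination _ (fun t => sy (liftA g hg u hu hker t))) (by
    rw [Submodule.span_le]
    intro z hz
    exact LinearMap.mem_ker.mpr (psiA_rel g hg u hu hker z hz))

theorem PsiA_sy (g : L →ₗ[R] M) (hg : Function.Surjective g) {n : ℕ} (u : Fin n → L)
    (hu : IsAdmissible R L u) (hker : LinearMap.ker g = Submodule.span R (Set.range u)) {m : ℕ}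
    (t : Adm R M m) : PsiA g hg u hu hker m (sy t) = sy (liftA g hg u hu hker t) := by
  unfold PsiA sy
  rw [Submodule.liftQ_apply]
  unfold sym
  rw [Finsupp.linearCombination_single, one_smul]

/-! ### Step 2: dependence on the tuple of the kernel -/

theorem hom_ext_sy {V : Type*} [AddCommGroup V] [Module (ResidueField R) V] {l : ℕ}
    (φ ψ : DetOfLen R M l →ₗ[ResidueField R] V) (h : ∀ e : Adm R M l, φ (sy e) = ψ (sy e)) :
    φ = ψ := by
  apply LinearMap.ext
  intro v
  induction v using Submodule.Quotient.induction_on with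
  | H x =>
    induction x using Finsupp.induction_linear with
    | zero => rw [Submodule.Quotient.mk_zero, map_zero, map_zero]
    | add x y hx hy => rw [Submodule.Quotient.mk_add, map_add, map_add, hx, hy]
    | single e c =>
      have : (Submodule.Quotient.mk (Finsupp.single e c) : DetOfLen R M l) = c • sy e := by
        unfold sy CycDet.sym
        rw [← Submodule.Quotient.mk_smul, Finsupp.smul_single, smul_eq_mul, mul_one]
      rw [this, map_smul, map_smul, h e]

theorem isAdmissible_map (f : K →ₗ[R] L) {n : ℕ} (e : Fin n → K) (he : IsAdmissible R K e) :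
    IsAdmissible R L (f ∘ e) := by
  intro i r hr
  rw [spanBefore_map, Function.comp_apply, ← f.map_smul r (e i)]
  exact Submodule.mem_map_of_mem (he i r hr)

theorem ker_eq_span_of_gen (f : K →ₗ[R] L) (g : L →ₗ[R] M)
    (hfg : LinearMap.range f = LinearMap.ker g) {n : ℕ} (e : Fin n → K) (he : Gen R e) :
    LinearMap.ker g = Submodule.span R (Set.range (f ∘ e)) := by
  unfold Gen at he
  rw [← hfg, Set.range_comp, ← Submodule.map_span, ← spanBefore_of_le e le_rfl, he,
    Submodule.map_top]

open scoped Classical in
/-- For a generating admissible tuple `e` of `K`: the map `[t̄] ↦ [f e, t]`; zero otherwise. -/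
noncomputable def Bfun (f : K →ₗ[R] L) (g : L →ₗ[R] M) (hg : Function.Surjective g)
    (hfg : LinearMap.range f = LinearMap.ker g) (n m : ℕ) (e : Adm R K n) :
    DetOfLen R M m →ₗ[ResidueField R] DetOfLen R L (n + m) :=
  if h : Gen R e.1 then
    PsiA g hg (f ∘ e.1) (isAdmissible_map f e.1 e.2) (ker_eq_span_of_gen f g hfg e.1 h) m
  else 0

/-- The tuple `(f e, lifts of t)`. -/
noncomputable def liftB (f : K →ₗ[R] L) (g : L →ₗ[R] M) (hg : Function.Surjective g)
    (hfg : LinearMap.range f = LinearMap.ker g) {n m : ℕ} (e : Adm R K n) (h : Gen R e.1)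
    (t : Adm R M m) : Adm R L (n + m) :=
  liftA g hg (f ∘ e.1) (isAdmissible_map f e.1 e.2) (ker_eq_span_of_gen f g hfg e.1 h) t

theorem liftB_val (f : K →ₗ[R] L) (g : L →ₗ[R] M) (hg : Function.Surjective g)
    (hfg : LinearMap.range f = LinearMap.ker g) {n m : ℕ} (e : Adm R K n) (h : Gen R e.1)
    (t : Adm R M m) :
    (liftB f g hg hfg e h t).1 =
      Fin.append (f ∘ e.1) (fun j => Function.surjInv hg (t.1 j)) := rfl

theorem Bfun_sy (f : K →ₗ[R] L) (g : L →ₗ[R] M) (hg : Function.Surjective g)
    (hfg : LinearMap.range f = LinearMap.ker g) {n m : ℕ} (e : Adm R K n) (h : Gen R e.1)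
    (t : Adm R M m) : Bfun f g hg hfg n m e (sy t) = sy (liftB f g hg hfg e h t) := by
  unfold Bfun liftB
  rw [dif_pos h, PsiA_sy]

theorem Bfun_of_not_gen (f : K →ₗ[R] L) (g : L →ₗ[R] M) (hg : Function.Surjective g)
    (hfg : LinearMap.range f = LinearMap.ker g) {n : ℕ} (m : ℕ) (e : Adm R K n)
    (h : ¬ Gen R e.1) : Bfun f g hg hfg n m e = 0 := by
  unfold Bfun
  rw [dif_neg h]

theorem spanBefore_liftB_le (f : K →ₗ[R] L) (g : L →ₗ[R] M) (hg : Function.Surjective g)
    (hfg : LinearMap.range f = LinearMap.ker g) {n m : ℕ} (e : Adm R K n) (h : Gen R e.1)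
    (t : Adm R M m) (j : ℕ) (hj : j ≤ n) :
    spanBefore R L (liftB f g hg hfg e h t).1 j = (spanBefore R K e.1 j).map f := by
  rw [liftB_val, spanBefore_append_le _ _ j hj, spanBefore_map]

theorem gen_liftB (f : K →ₗ[R] L) (g : L →ₗ[R] M) (hg : Function.Surjective g)
    (hfg : LinearMap.range f = LinearMap.ker g) {n m : ℕ} (e : Adm R K n) (h : Gen R e.1)
    (t : Adm R M m) (ht : Gen R t.1) : Gen R (liftB f g hg hfg e h t).1 := by
  have ht' : spanBefore R M t.1 m = ⊤ := ht
  unfold Gen
  rw [eq_top_iff]
  intro z _
  rw [liftB_val, mem_spanBefore_append_iff g _ (ker_eq_span_of_gen f g hfg e.1 h), comp_surjInv,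
    ht']
  trivial

theorem gen_iff_of_relB {n : ℕ} (e e' : Fin n → K) (a : Fin n) (c : Rˣ)
    (hag : ∀ j, j ≠ a → e j = e' j) (hmem : e a - (c : R) • e' a ∈ spanBefore R K e a) :
    Gen R e ↔ Gen R e' := by
  unfold Gen
  rw [spanBefore_eq_of_relB e e' a c hag hmem n]

theorem bfun_rel (f : K →ₗ[R] L) (g : L →ₗ[R] M) (hg : Function.Surjective g)
    (hfg : LinearMap.range f = LinearMap.ker g) {n : ℕ} (m : ℕ) :
    ∀ z ∈ relSet R K n,
      Finsupp.linearCombination (ResidueField R) (fun e => Bfun f g hg hfg n m e) z = 0 := by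
  rintro z ((⟨e, a, hea, rfl⟩ | ⟨e, e', a, c, hag, hmem, rfl⟩) | ⟨e, e', a, b, hab, hm, hsw, rfl⟩)
  · unfold sym
    rw [Finsupp.linearCombination_single, one_smul]
    by_cases h : Gen R e.1
    · apply hom_ext_sy
      intro t
      rw [Bfun_sy f g hg hfg e h, LinearMap.zero_apply]
      apply sy_eq_zero _ (Fin.castAdd m a)
      rw [Fin.val_castAdd, spanBefore_liftB_le f g hg hfg e h t a a.2.le, liftB_val,
        Fin.append_left]
      exact Submodule.mem_map_of_mem hea
    · exact Bfun_of_not_gen f g hg hfg m e h
  · unfold sym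
    rw [map_sub, map_smul, Finsupp.linearCombination_single, Finsupp.linearCombination_single,
      one_smul, one_smul, sub_eq_zero]
    have hgen : Gen R e.1 ↔ Gen R e'.1 := gen_iff_of_relB e.1 e'.1 a c hag hmem
    by_cases h : Gen R e.1
    · have h' := hgen.mp h
      apply hom_ext_sy
      intro t
      rw [LinearMap.smul_apply, Bfun_sy f g hg hfg e h, Bfun_sy f g hg hfg e' h']
      apply sy_relB _ _ (Fin.castAdd m a) c
      · intro j hj
        rw [liftB_val, liftB_val]
        induction j using Fin.addCases with
        | left i =>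
          have : i ≠ a := fun h => hj (by rw [h])
          rw [Fin.append_left, Fin.append_left, Function.comp_apply, Function.comp_apply,
            hag i this]
        | right j' => rw [Fin.append_right, Fin.append_right]
      · have h3 : f (e.1 a) - (c : R) • f (e'.1 a) = f (e.1 a - (c : R) • e'.1 a) := by
          rw [map_sub, map_smul]
        rw [Fin.val_castAdd, spanBefore_liftB_le f g hg hfg e h t a a.2.le, liftB_val, liftB_val,
          Fin.append_left, Fin.append_left, Function.comp_apply, Function.comp_apply, h3]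
        exact Submodule.mem_map_of_mem hmem
    · have h' : ¬ Gen R e'.1 := fun h2 => h (hgen.mpr h2)
      rw [Bfun_of_not_gen f g hg hfg m e h, Bfun_of_not_gen f g hg hfg m e' h', smul_zero]
  · unfold sym
    rw [map_add, Finsupp.linearCombination_single, Finsupp.linearCombination_single,
      one_smul, one_smul]
    have hgen : Gen R e.1 ↔ Gen R e'.1 := by
      unfold Gen
      rw [hsw, spanBefore_comp_swap e.1 a b n (Or.inl ⟨a.2, b.2⟩)]
    by_cases h : Gen R e.1
    · have h' := hgen.mp h
      apply hom_ext_sy
      intro t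
      rw [LinearMap.add_apply, LinearMap.zero_apply, Bfun_sy f g hg hfg e h,
        Bfun_sy f g hg hfg e' h']
      have := sy_relC (liftB f g hg hfg e h t) (liftB f g hg hfg e' h' t) (Fin.castAdd m a)
        (Fin.castAdd m b) (by rw [Fin.val_castAdd, Fin.val_castAdd]; exact hab) (by
          intro r hr
          have h3 : r • f (e.1 a) = f (r • e.1 a) := by rw [map_smul]
          rw [Fin.val_castAdd, spanBefore_liftB_le f g hg hfg e h t b b.2.le, liftB_val,
            Fin.append_left, Function.comp_apply, h3]
          exact Submodule.mem_map_of_mem (hm r hr)) (by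
          rw [liftB_val, liftB_val, hsw, ← Function.comp_assoc, append_comp_swap_left])
      rw [this, neg_add_cancel]
    · have h' : ¬ Gen R e'.1 := fun h2 => h (hgen.mpr h2)
      rw [Bfun_of_not_gen f g hg hfg m e h, Bfun_of_not_gen f g hg hfg m e' h', add_zero]

/-- The bilinear pairing `det(K) → det(M) → det(L)`. -/
noncomputable def Bmap (f : K →ₗ[R] L) (g : L →ₗ[R] M) (hg : Function.Surjective g)
    (hfg : LinearMap.range f = LinearMap.ker g) (n m : ℕ) :
    DetOfLen R K n →ₗ[ResidueField R]
      (DetOfLen R M m →ₗ[ResidueField R] DetOfLen R L (n + m)) :=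
  Submodule.liftQ _ (Finsupp.linearCombination _ (fun e => Bfun f g hg hfg n m e)) (by
    rw [Submodule.span_le]
    intro z hz
    exact LinearMap.mem_ker.mpr (bfun_rel f g hg hfg m z hz))

theorem Bmap_sy (f : K →ₗ[R] L) (g : L →ₗ[R] M) (hg : Function.Surjective g)
    (hfg : LinearMap.range f = LinearMap.ker g) {n : ℕ} (m : ℕ) (e : Adm R K n) :
    Bmap f g hg hfg n m (sy e) = Bfun f g hg hfg n m e := by
  unfold Bmap sy
  rw [Submodule.liftQ_apply]
  unfold sym
  rw [Finsupp.linearCombination_single, one_smul]

end Groth.Agent.Lib.Helper27.CD
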