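import Mathlib
import Groth.Agent.Lib.Helper27.CD7

/-!
# Determinants of finite length modules: multiplicativity in short exact sequences
-/

set_option autoImplicit false
universe u v
open IsLocalRing CycDet TensorProduct

namespace Groth.Agent.Lib.Helper27.CD

variable {R : Type u} [CommRing R] [IsLocalRing R] {K L M : Type v}
  [AddCommGroup K] [Module R K] [AddCommGroup L] [Module R L] [AddCommGroup M] [Module R M]

/-- A nonzero Artinian module over a local ring has a nonzero element killed by the maximal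
ideal. -/
theorem exists_socle [IsArtinian R M] [Nontrivial M] :
    ∃ x : M, x ≠ 0 ∧ ∀ r ∈ maximalIdeal R, r • x = 0 := by
  obtain ⟨N, hN, hmin⟩ :=
    IsArtinian.set_has_minimal {N : Submodule R M | N ≠ ⊥} ⟨⊤, top_ne_bot⟩
  obtain ⟨x, hxN, hx0⟩ := Submodule.exists_mem_ne_zero_of_ne_bot hN
  refine ⟨x, hx0, fun r hr => ?_⟩
  by_contra hrx
  have h1 : Submodule.span R {r • x} ≠ ⊥ := by
    intro h
    apply hrx
    have : r • x ∈ Submodule.span R {r • x} := Submodule.mem_span_singleton_self _
    rw [h, Submodule.mem_bot] at this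
    exact this
  have h2 : Submodule.span R {r • x} ≤ N := by
    rw [Submodule.span_singleton_le_iff_mem]
    exact N.smul_mem r hxN
  have h3 : Submodule.span R {r • x} = N := by
    by_contra hne
    exact hmin _ h1 (lt_of_le_of_ne h2 hne)
  have h4 : x ∈ Submodule.span R {r • x} := by rw [h3]; exact hxN
  obtain ⟨s, hs⟩ := Submodule.mem_span_singleton.mp h4
  have hu : IsUnit (1 - s * r) := by
    apply IsLocalRing.isUnit_one_sub_self_of_mem_nonunits
    exact (IsLocalRing.mem_maximalIdeal _).mp ((maximalIdeal R).mul_mem_left s hr)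
  have h5 : (1 - s * r) • x = 0 := by
    rw [sub_smul, one_smul, mul_smul, hs, sub_self]
  obtain ⟨w, hw⟩ := hu
  apply hx0
  calc x = ((↑w⁻¹ : R) * (w : R)) • x := by rw [Units.inv_mul, one_smul]
    _ = (↑w⁻¹ : R) • ((w : R) • x) := mul_smul _ _ _
    _ = 0 := by rw [hw, h5, smul_zero]

theorem exists_good (l : ℕ) : ∀ (M' : Type v) [AddCommGroup M'] [Module R M'],
    (l : ℕ∞) = Module.length R M' → ∃ f : Adm R M' l, Good f := by
  induction l with
  | zero =>
    intro M' _ _ hl
    rw [Nat.cast_zero] at hl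
    haveI : Subsingleton M' := Module.length_eq_zero_iff.mp hl.symm
    refine ⟨⟨fun i => i.elim0, fun i => i.elim0⟩, ?_, fun a => a.elim0⟩
    show spanBefore R M' _ 0 = ⊤
    rw [eq_top_iff]
    intro z _
    rw [Subsingleton.elim z 0]
    exact zero_mem _
  | succ k ih =>
    intro M' _ _ hl
    have hfin : IsFiniteLength R M' := by
      rw [← Module.length_ne_top_iff, ← hl]
      exact ENat.coe_ne_top _
    obtain ⟨hN, hA⟩ := isFiniteLength_iff_isNoetherian_isArtinian.mp hfin
    haveI : Nontrivial M' := by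
      rw [← Module.length_pos_iff (R := R), ← hl]
      exact_mod_cast Nat.succ_pos k
    obtain ⟨x, hx0, hx⟩ := exists_socle (R := R) (M := M')
    have hadd := Module.length_eq_add_of_exact (Submodule.span R {x}).subtype
      (Submodule.span R {x}).mkQ (Submodule.injective_subtype _) (Submodule.mkQ_surjective _)
      (LinearMap.exact_subtype_mkQ _)
    have h1 : Module.length R (Submodule.span R {x}) = 1 := by
      apply le_antisymm (length_span_singleton_le_one x hx)
      rw [Order.one_le_iff_pos, Module.length_pos_iff]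
      exact ⟨⟨⟨x, Submodule.mem_span_singleton_self x⟩, 0,
        fun h => hx0 (congrArg Subtype.val h)⟩⟩
    have hk : (k : ℕ∞) = Module.length R (M' ⧸ Submodule.span R {x}) := by
      rw [h1, ← hl] at hadd
      have hne : Module.length R (M' ⧸ Submodule.span R {x}) ≠ ⊤ := by
        intro h
        rw [h, add_top] at hadd
        exact ENat.coe_ne_top _ hadd
      obtain ⟨q, hq⟩ := ENat.ne_top_iff_exists.mp hne
      rw [← hq] at hadd ⊢
      have h2 : k + 1 = 1 + q := by exact_mod_cast hadd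
      have h3 : k = q := by omega
      rw [h3]
    obtain ⟨f', hf'⟩ := ih (M' ⧸ Submodule.span R {x}) hk
    have hgen : Gen R (lift0 x hx f').1 := by
      have hf1 : spanBefore R (M' ⧸ Submodule.span R {x}) f'.1 k = ⊤ := hf'.1
      unfold Gen
      rw [eq_top_iff]
      intro z _
      rw [lift0_val, mem_spanBefore_cons_iff, mkQ_comp_sec, hf1]
      trivial
    exact ⟨lift0 x hx f', hgen, strict_of_gen hl _ hgen⟩

theorem exists_smul_of_good {l : ℕ} (hl : (l : ℕ∞) = Module.length R M) (f : Adm R M l)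
    (hf : Good f) : ∀ v : DetOfLen R M l, ∃ r : ResidueField R, r • sy f = v := by
  have hfin : IsFiniteLength R M := by
    rw [← Module.length_ne_top_iff, ← hl]
    exact ENat.coe_ne_top _
  obtain ⟨hN, hA⟩ := isFiniteLength_iff_isNoetherian_isArtinian.mp hfin
  refine exists_smul_of_forall_sy _ (fun e => ?_)
  by_cases hstrict : ∀ a : Fin l, e.1 a ∉ spanBefore R M e.1 a
  · obtain ⟨c, hc⟩ := main _ M e f (gen_of_strict hl e.1 hstrict) hf
    exact ⟨c, hc.symm⟩
  · push Not at hstrict
    obtain ⟨a, ha⟩ := hstrict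
    exact ⟨0, by rw [sy_eq_zero e a ha, zero_smul]⟩

theorem det_ses_core (f : K →ₗ[R] L) (g : L →ₗ[R] M) (hf : Function.Injective f)
    (hg : Function.Surjective g) (hfg : LinearMap.range f = LinearMap.ker g) (n m : ℕ)
    (hn : (n : ℕ∞) = Module.length R K) (hm : (m : ℕ∞) = Module.length R M) :
    ∃ γ : (DetOfLen R K n ⊗[ResidueField R] DetOfLen R M m) ≃ₗ[ResidueField R]
        DetOfLen R L (n + m),
      ∀ (eK : Adm R K n) (eM : Adm R M m) (eL : Adm R L (n + m)), sy eK ≠ 0 →
        (∀ i : Fin n, eL.1 (Fin.castAdd m i) = f (eK.1 i)) →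
        (∀ j : Fin m, g (eL.1 (Fin.natAdd n j)) = eM.1 j) →
        γ (sy eK ⊗ₜ sy eM) = sy eL := by
  have hL : ((n + m : ℕ) : ℕ∞) = Module.length R L := by
    rw [Module.length_eq_add_of_exact f g hf hg (LinearMap.exact_iff.mpr hfg.symm), ← hn, ← hm,
      Nat.cast_add]
  have hfinK : IsFiniteLength R K := by
    rw [← Module.length_ne_top_iff, ← hn]; exact ENat.coe_ne_top _
  obtain ⟨hNK, hAK⟩ := isFiniteLength_iff_isNoetherian_isArtinian.mp hfinK
  obtain ⟨e0, he0⟩ := exists_good (R := R) n K hn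
  obtain ⟨t0, ht0⟩ := exists_good (R := R) m M hm
  obtain ⟨G0, hG0⟩ : ∃ G0, G0 = liftB f g hg hfg e0 he0.1 t0 := ⟨_, rfl⟩
  have hG0gen : Gen R G0.1 := by rw [hG0]; exact gen_liftB f g hg hfg e0 he0.1 t0 ht0.1
  have hG0good : Good G0 := ⟨hG0gen, strict_of_gen hL G0 hG0gen⟩
  have hG0ne : sy G0 ≠ 0 := sy_ne_zero _ L G0 hG0good
  obtain ⟨γ', hγ'⟩ : ∃ γ' : (DetOfLen R K n ⊗[ResidueField R] DetOfLen R M m) →ₗ[ResidueField R]
      DetOfLen R L (n + m), γ' = TensorProduct.lift (Bmap f g hg hfg n m) := ⟨_, rfl⟩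
  have hform : ∀ (e : Adm R K n) (h : Gen R e.1) (t : Adm R M m),
      γ' (sy e ⊗ₜ sy t) = sy (liftB f g hg hfg e h t) := by
    intro e h t
    rw [hγ', TensorProduct.lift.tmul, Bmap_sy, Bfun_sy f g hg hfg e h t]
  have h0 : γ' (sy e0 ⊗ₜ sy t0) = sy G0 := by rw [hG0]; exact hform e0 he0.1 t0
  have hall : ∀ z : DetOfLen R K n ⊗[ResidueField R] DetOfLen R M m,
      ∃ r : ResidueField R, z = r • (sy e0 ⊗ₜ[ResidueField R] sy t0) := by
    intro z
    induction z using TensorProduct.induction_on with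
    | zero => exact ⟨0, by rw [zero_smul]⟩
    | tmul x y =>
      obtain ⟨a, ha⟩ := exists_smul_of_good hn e0 he0 x
      obtain ⟨b, hb⟩ := exists_smul_of_good hm t0 ht0 y
      exact ⟨a * b, by rw [← ha, ← hb, TensorProduct.smul_tmul_smul]⟩
    | add x y hx hy =>
      obtain ⟨a, ha⟩ := hx
      obtain ⟨b, hb⟩ := hy
      exact ⟨a + b, by rw [ha, hb, add_smul]⟩
  have hinj : Function.Injective γ' := by
    rw [injective_iff_map_eq_zero]
    intro z hz
    obtain ⟨r, hr⟩ := hall z
    rw [hr, map_smul, h0] at hz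
    rcases smul_eq_zero.mp hz with h | h
    · rw [hr, h, zero_smul]
    · exact absurd h hG0ne
  have hsurj : Function.Surjective γ' := by
    intro v
    obtain ⟨r, hr⟩ := exists_smul_of_good hL G0 hG0good v
    exact ⟨r • (sy e0 ⊗ₜ sy t0), by rw [map_smul, h0, hr]⟩
  refine ⟨LinearEquiv.ofBijective γ' ⟨hinj, hsurj⟩, ?_⟩
  intro eK eM eL hne h1 h2
  have hstrict : ∀ a : Fin n, eK.1 a ∉ spanBefore R K eK.1 a :=
    fun a ha => hne (sy_eq_zero eK a ha)
  have hgenK : Gen R eK.1 := gen_of_strict hn eK.1 hstrict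
  rw [LinearEquiv.ofBijective_apply, hform eK hgenK eM]
  apply sy_eq_of_sub_mem
  intro i
  induction i using Fin.addCases with
  | left a =>
    rw [liftB_val, Fin.append_left, Function.comp_apply, h1 a, sub_self]
    exact zero_mem _
  | right b =>
    rw [liftB_val, Fin.append_right, Fin.val_natAdd,
      mem_spanBefore_append_iff g _ (ker_eq_span_of_gen f g hfg eK.1 hgenK), map_sub,
      Function.surjInv_eq hg, h2 b, sub_self]
    exact zero_mem _

/-- The determinant is multiplicative in short exact sequences. -/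
theorem det_ses (f : K →ₗ[R] L) (g : L →ₗ[R] M) (hf : Function.Injective f)
    (hg : Function.Surjective g) (hfg : LinearMap.range f = LinearMap.ker g) (n m l' : ℕ)
    (hlen : n + m = l')
    (hn : (n : ℕ∞) = Module.length R K) (hm : (m : ℕ∞) = Module.length R M) :
    ∃ γ : (DetOfLen R K n ⊗[ResidueField R] DetOfLen R M m) ≃ₗ[ResidueField R]
        DetOfLen R L l',
      ∀ (eK : Adm R K n) (eM : Adm R M m) (eL : Adm R L l'), sy eK ≠ 0 →
        (∀ i : Fin n, eL.1 (Fin.cast hlen (Fin.castAdd m i)) = f (eK.1 i)) →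
        (∀ j : Fin m, g (eL.1 (Fin.cast hlen (Fin.natAdd n j))) = eM.1 j) →
        γ (sy eK ⊗ₜ sy eM) = sy eL := by
  subst hlen
  exact det_ses_core f g hf hg hfg n m hn hm

end Groth.Agent.Lib.Helper27.CD
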