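import Mathlib
import Groth.Prelude.Def_W4bk4boschfrg79
import Groth.Agent.Lib.Helper27.CplTensorC

/-!
Basic facts on complete localizations `A⟨f⁻¹⟩ = CLoc I f`: completeness, density of `A_f`,
and the truncations `A⟨f⁻¹⟩ / I^k` as localizations of `A / I^k A`.
-/

set_option autoImplicit false
universe u

namespace Groth.Agent.Lib.Helper27.CLocBasic

open AdicRing
open Groth.Agent.Lib.Helper27

variable {R : Type u} [CommRing R] (I : Ideal R) (hI : I.FG) {A : Type u} [CommRing A]
  [Algebra R A] (f : A)

instance isScalarTower_cLoc : IsScalarTower R (Localization.Away f) (CLoc I f) :=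
  IsScalarTower.of_algebraMap_eq (fun _ => rfl)

instance isScalarTower_cLoc' : IsScalarTower A (Localization.Away f) (CLoc I f) :=
  IsScalarTower.of_algebraMap_eq (fun _ => rfl)

instance isScalarTower_cLoc'' : IsScalarTower R A (CLoc I f) :=
  IsScalarTower.of_algebraMap_eq (fun r => by
    show algebraMap (Localization.Away f) (CLoc I f) (algebraMap R (Localization.Away f) r) =
      algebraMap (Localization.Away f) (CLoc I f)
        (algebraMap A (Localization.Away f) (algebraMap R A r))
    rw [← IsScalarTower.algebraMap_apply R A (Localization.Away f)])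

lemma map_map_cLoc (K : Ideal R) :
    (K.map (algebraMap R (Localization.Away f))).map
      (algebraMap (Localization.Away f) (CLoc I f)) = K.map (algebraMap R (CLoc I f)) := by
  rw [Ideal.map_map]
  rfl

lemma map_map_cLoc' (K : Ideal R) :
    (K.map (algebraMap R A)).map (algebraMap A (CLoc I f)) = K.map (algebraMap R (CLoc I f)) := by
  rw [Ideal.map_map, ← IsScalarTower.algebraMap_eq]

include hI in
theorem isAdicComplete_cLoc : IsAdicComplete (I.map (algebraMap R (CLoc I f))) (CLoc I f) := by
  have h := AdicCompletion.isAdicComplete_self (I.map (algebraMap R (Localization.Away f)))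
    (hI.map _)
  rw [map_map_cLoc] at h
  exact h

include hI in
/-- density of `A_f` modulo `I^k`. -/
theorem exists_sub_mem (k : ℕ) (b : CLoc I f) : ∃ s : Localization.Away f,
    b - algebraMap (Localization.Away f) (CLoc I f) s ∈ (I ^ k).map (algebraMap R (CLoc I f)) := by
  obtain ⟨s, hs⟩ := CplTensorC.exists_sub_mem_pow (I.map (algebraMap R (Localization.Away f)))
    (hI.map _) k b
  refine ⟨s, ?_⟩
  rw [← Ideal.map_pow, map_map_cLoc] at hs
  exact hs

/-- `A_f ∩ I^k A⟨f⁻¹⟩ = I^k A_f`. -/
theorem mem_of_algebraMap_mem (k : ℕ) (s : Localization.Away f)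
    (hs : algebraMap (Localization.Away f) (CLoc I f) s ∈ (I ^ k).map (algebraMap R (CLoc I f))) :
    s ∈ (I ^ k).map (algebraMap R (Localization.Away f)) := by
  rw [← map_map_cLoc] at hs
  have h := CplTensorC.mem_of_algebraMap_mem_map (I.map (algebraMap R (Localization.Away f)))
    ((I ^ k).map (algebraMap R (Localization.Away f))) k (by rw [Ideal.map_pow]) s hs
  exact h

/-- the truncation map `A / I^k A → A⟨f⁻¹⟩ / I^k A⟨f⁻¹⟩`. -/
noncomputable def truncMap (k : ℕ) :
    A ⧸ (I ^ k).map (algebraMap R A) →+* CLoc I f ⧸ (I ^ k).map (algebraMap R (CLoc I f)) :=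
  Ideal.quotientMap _ (algebraMap A (CLoc I f)) (by
    rw [← Ideal.map_le_iff_le_comap, map_map_cLoc'])

lemma truncMap_mk (k : ℕ) (a : A) :
    truncMap I f k (Ideal.Quotient.mk _ a) = Ideal.Quotient.mk _ (algebraMap A (CLoc I f) a) := rfl

include hI in
/-- `A⟨f⁻¹⟩ / I^k` is the localization of `A / I^k A` at `f`. -/
theorem isLocalization_truncMap (k : ℕ) :
    letI := (truncMap I f k).toAlgebra
    IsLocalization.Away (Ideal.Quotient.mk ((I ^ k).map (algebraMap R A)) f)
      (CLoc I f ⧸ (I ^ k).map (algebraMap R (CLoc I f))) := by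
  letI := (truncMap I f k).toAlgebra
  have halg : ∀ x, algebraMap (A ⧸ (I ^ k).map (algebraMap R A))
      (CLoc I f ⧸ (I ^ k).map (algebraMap R (CLoc I f))) x = truncMap I f k x := fun _ => rfl
  have hfu : IsUnit (algebraMap A (CLoc I f) f) := by
    have : algebraMap A (CLoc I f) f = algebraMap (Localization.Away f) (CLoc I f)
        (algebraMap A (Localization.Away f) f) := rfl
    rw [this]
    exact (IsLocalization.Away.algebraMap_isUnit f).map _
  rw [IsLocalization.Away, isLocalization_iff]
  refine ⟨?_, ?_, ?_⟩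
  · rintro ⟨_, m, rfl⟩
    rw [halg, map_pow]
    apply IsUnit.pow
    rw [truncMap_mk]
    exact hfu.map _
  · intro z
    obtain ⟨b, rfl⟩ := Ideal.Quotient.mk_surjective z
    obtain ⟨s, hs⟩ := exists_sub_mem I hI f k b
    obtain ⟨a, y, rfl⟩ := IsLocalization.exists_mk'_eq (Submonoid.powers f) s
    obtain ⟨m, hm⟩ := y.2
    refine ⟨⟨Ideal.Quotient.mk _ a, ⟨Ideal.Quotient.mk _ (f ^ m), m, by rw [map_pow]⟩⟩, ?_⟩
    show Ideal.Quotient.mk _ b * truncMap I f k (Ideal.Quotient.mk _ (f ^ m)) =
      truncMap I f k (Ideal.Quotient.mk _ a)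
    rw [truncMap_mk, truncMap_mk, ← map_mul, Ideal.Quotient.eq]
    have h1 : IsLocalization.mk' (Localization.Away f) a y *
        algebraMap A (Localization.Away f) (f ^ m) = algebraMap A (Localization.Away f) a := by
      have hm' : f ^ m = (y : A) := hm
      rw [hm']
      exact IsLocalization.mk'_spec _ _ _
    have h2 : algebraMap A (CLoc I f) a =
        algebraMap (Localization.Away f) (CLoc I f)
          (IsLocalization.mk' (Localization.Away f) a y) * algebraMap A (CLoc I f) (f ^ m) := by
      have e1 : algebraMap A (CLoc I f) a = algebraMap (Localization.Away f) (CLoc I f)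
          (algebraMap A (Localization.Away f) a) := rfl
      have e2 : algebraMap A (CLoc I f) (f ^ m) = algebraMap (Localization.Away f) (CLoc I f)
          (algebraMap A (Localization.Away f) (f ^ m)) := rfl
      rw [e1, e2, ← map_mul, h1]
    rw [h2, ← sub_mul]
    exact Ideal.mul_mem_right _ _ hs
  · intro x y hxy
    obtain ⟨a, rfl⟩ := Ideal.Quotient.mk_surjective x
    obtain ⟨a', rfl⟩ := Ideal.Quotient.mk_surjective y
    rw [halg, halg, truncMap_mk, truncMap_mk, Ideal.Quotient.eq, ← map_sub] at hxy
    have h1 : algebraMap A (Localization.Away f) (a - a') ∈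
        (I ^ k).map (algebraMap R (Localization.Away f)) :=
      mem_of_algebraMap_mem I f k _ hxy
    have h2 : (I ^ k).map (algebraMap R (Localization.Away f)) =
        ((I ^ k).map (algebraMap R A)).map (algebraMap A (Localization.Away f)) := by
      rw [Ideal.map_map, ← IsScalarTower.algebraMap_eq]
    rw [h2, IsLocalization.algebraMap_mem_map_algebraMap_iff (Submonoid.powers f)] at h1
    obtain ⟨_, ⟨m, rfl⟩, hm⟩ := h1
    refine ⟨⟨Ideal.Quotient.mk _ (f ^ m), m, by rw [map_pow]⟩, ?_⟩
    show Ideal.Quotient.mk _ (f ^ m) * Ideal.Quotient.mk _ a =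
      Ideal.Quotient.mk _ (f ^ m) * Ideal.Quotient.mk _ a'
    rw [← map_mul, ← map_mul, Ideal.Quotient.eq, ← mul_sub]
    exact hm

end Groth.Agent.Lib.Helper27.CLocBasic
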