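import Mathlib
import Groth.Agent.Lib.Helper27.CLocBasic

/-!
The truncations of `A → A⟨f⁻¹⟩` are flat.
-/

set_option autoImplicit false
universe u

namespace Groth.Agent.Lib.Helper27.CLocFlat

open AdicRing TensorProduct
open Groth.Agent.Lib.Helper27 Groth.Agent.Lib.Helper27.CLocBasic

variable {R : Type u} [CommRing R] (I : Ideal R) (hI : I.FG) {A : Type u} [CommRing A]
  [Algebra R A] (f : A)

include hI in
theorem flat_trunc_tensor (k : ℕ) :
    Module.Flat (A ⧸ (I ^ k).map (algebraMap R A))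
      ((A ⧸ (I ^ k).map (algebraMap R A)) ⊗[A] CLoc I f) := by
  letI alg := (truncMap I f k).toAlgebra
  haveI hloc : IsLocalization.Away (Ideal.Quotient.mk ((I ^ k).map (algebraMap R A)) f)
      (CLoc I f ⧸ (I ^ k).map (algebraMap R (CLoc I f))) := isLocalization_truncMap I hI f k
  haveI hflat : Module.Flat (A ⧸ (I ^ k).map (algebraMap R A))
      (CLoc I f ⧸ (I ^ k).map (algebraMap R (CLoc I f))) :=
    IsLocalization.flat _ (Submonoid.powers (Ideal.Quotient.mk ((I ^ k).map (algebraMap R A)) f))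
  haveI : IsScalarTower A (A ⧸ (I ^ k).map (algebraMap R A))
      (CLoc I f ⧸ (I ^ k).map (algebraMap R (CLoc I f))) :=
    IsScalarTower.of_algebraMap_eq (fun a => rfl)
  -- the chain of linear equivalences
  let e₁ := TensorProduct.quotTensorEquivQuotSMul (CLoc I f) ((I ^ k).map (algebraMap R A))
  have heq : (((I ^ k).map (algebraMap R A)) • ⊤ : Submodule A (CLoc I f)) =
      ((I ^ k).map (algebraMap R (CLoc I f))).restrictScalars A := by
    rw [Ideal.smul_top_eq_map, map_map_cLoc']
  let e₂ := Submodule.quotEquivOfEq _ _ heq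
  let e₃ := Submodule.Quotient.restrictScalarsEquiv A ((I ^ k).map (algebraMap R (CLoc I f)))
  let e : ((A ⧸ (I ^ k).map (algebraMap R A)) ⊗[A] CLoc I f) ≃ₗ[A]
      (CLoc I f ⧸ (I ^ k).map (algebraMap R (CLoc I f))) := e₁ ≪≫ₗ e₂ ≪≫ₗ e₃
  exact Module.Flat.of_linearEquiv
    (e.extendScalarsOfSurjective Ideal.Quotient.mk_surjective)

end Groth.Agent.Lib.Helper27.CLocFlat
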