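import Mathlib
import Groth.Agent.Lib.Helper27.CLocBasic
import Groth.Agent.Lib.Helper27.RPowLift
import Groth.Agent.Lib.Helper27.AdicTrunc

/-!
Complete localizations of algebras topologically of finite type are topologically of finite type.
Also: complete algebras with truncation of finite type are topologically of finite type.
-/

set_option autoImplicit false
universe u

namespace Groth.Agent.Lib.Helper27.CLocTft

open AdicRing
open Groth.Agent.Lib.Helper27 Groth.Agent.Lib.Helper27.CLocBasic

variable {R : Type u} [CommRing R] (I : Ideal R) (hI : I.FG) {A : Type u} [CommRing A]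
  [Algebra R A] (f : A)

lemma phi_ofP {n : ℕ} (φ : RPow R I n →ₐ[R] A) (p : MvPolynomial (Fin n) R) :
    φ (algebraMap (MvPolynomial (Fin n) R) (RPow R I n) p) =
      MvPolynomial.aeval (fun l => φ (algebraMap (MvPolynomial (Fin n) R) (RPow R I n)
        (MvPolynomial.X l))) p := by
  have h := MvPolynomial.aeval_unique (φ.comp
    (IsScalarTower.toAlgHom R (MvPolynomial (Fin n) R) (RPow R I n)))
  exact AlgHom.congr_fun h p

include hI in
theorem tft_cLoc (hA : TopFiniteType R I A) : TopFiniteType R I (CLoc I f) := by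
  classical
  obtain ⟨n, π, hπ⟩ := hA
  haveI hc : IsAdicComplete (I.map (algebraMap R (CLoc I f))) (CLoc I f) :=
    isAdicComplete_cLoc I hI f
  set y : Fin n → A := fun l => π (algebraMap (MvPolynomial (Fin n) R) (RPow R I n)
    (MvPolynomial.X l)) with hy
  set g : CLoc I f := algebraMap (Localization.Away f) (CLoc I f)
    (IsLocalization.Away.invSelf f) with hg
  set x : Fin (n + 1) → CLoc I f :=
    Fin.snoc (fun l => algebraMap A (CLoc I f) (y l)) g with hx
  refine ⟨n + 1, RPowLift.liftX R I (CLoc I f) x,
    RPowLift.liftX_surjective R I (CLoc I f) x hI ?_⟩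
  intro b
  obtain ⟨s, hs⟩ := exists_sub_mem I hI f 1 b
  rw [pow_one] at hs
  obtain ⟨a, w, rfl⟩ := IsLocalization.exists_mk'_eq (Submonoid.powers f) s
  obtain ⟨m, hm⟩ := w.2
  obtain ⟨z, rfl⟩ := hπ a
  obtain ⟨q, hq⟩ := AdicTrunc.exists_sub_mem hI 1 z
  rw [pow_one] at hq
  refine ⟨MvPolynomial.rename Fin.castSucc q * MvPolynomial.X (Fin.last n) ^ m, ?_⟩
  -- `mk' a w = a * (1/f)^m`
  have h1 : IsLocalization.mk' (Localization.Away f) (π z) w =
      algebraMap A (Localization.Away f) (π z) * IsLocalization.Away.invSelf f ^ m := by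
    rw [IsLocalization.mk'_eq_iff_eq_mul, mul_assoc, ← hm, map_pow, ← mul_pow,
      mul_comm (IsLocalization.Away.invSelf f), IsLocalization.Away.mul_invSelf, one_pow, mul_one]
  have h2 : algebraMap (Localization.Away f) (CLoc I f)
      (IsLocalization.mk' (Localization.Away f) (π z) w) =
      algebraMap A (CLoc I f) (π z) * g ^ m := by
    rw [h1, map_mul, map_pow]
    rfl
  have h3 : MvPolynomial.aeval x
      (MvPolynomial.rename Fin.castSucc q * MvPolynomial.X (Fin.last n) ^ m) =
      algebraMap A (CLoc I f) (MvPolynomial.aeval y q) * g ^ m := by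
    rw [map_mul, map_pow, MvPolynomial.aeval_X, MvPolynomial.aeval_rename]
    have e1 : x (Fin.last n) = g := by rw [hx, Fin.snoc_last]
    have e2 : x ∘ Fin.castSucc = fun l => algebraMap A (CLoc I f) (y l) := by
      funext l
      rw [hx, Function.comp_apply, Fin.snoc_castSucc]
    rw [e1, e2]
    congr 1
    have e3 := AlgHom.congr_fun (MvPolynomial.comp_aeval y
      (IsScalarTower.toAlgHom R A (CLoc I f))) q
    exact e3.symm
  have h4 : π z - MvPolynomial.aeval y q ∈ I.map (algebraMap R A) := by
    rw [← phi_ofP I π q, ← map_sub]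
    exact AdicTrunc.phi_mem_of_mem π I hq
  have h5 : algebraMap A (CLoc I f) (π z - MvPolynomial.aeval y q) ∈
      I.map (algebraMap R (CLoc I f)) := by
    rw [← map_map_cLoc' I f I]
    exact Ideal.mem_map_of_mem _ h4
  have e : b - MvPolynomial.aeval x
      (MvPolynomial.rename Fin.castSucc q * MvPolynomial.X (Fin.last n) ^ m) =
      (b - algebraMap (Localization.Away f) (CLoc I f)
        (IsLocalization.mk' (Localization.Away f) (π z) w)) +
      algebraMap A (CLoc I f) (π z - MvPolynomial.aeval y q) * g ^ m := by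
    rw [h2, h3, map_sub]
    ring
  rw [e]
  exact Ideal.add_mem _ hs (Ideal.mul_mem_right _ _ h5)

end Groth.Agent.Lib.Helper27.CLocTft
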