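import Mathlib
import Groth.Agent.Lib.Helper27.CLocBasic
import Groth.Agent.Lib.Helper27.CLocTft

/-!
Descent of finiteness conditions on truncations along a covering by complete localizations.
-/

set_option autoImplicit false
universe u

namespace Groth.Agent.Lib.Helper27.CLocSpan

open AdicRing
open Groth.Agent.Lib.Helper27 Groth.Agent.Lib.Helper27.CLocBasic

section general

variable {R : Type u} [CommRing R] (I : Ideal R) (hI : I.FG) (B : Type u) [CommRing B]
  [Algebra R B]

/-- the truncation map `R / K → B / K B`. -/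
noncomputable abbrev qm (K : Ideal R) : R ⧸ K →+* B ⧸ K.map (algebraMap R B) :=
  Ideal.quotientMap (K.map (algebraMap R B)) (algebraMap R B) Ideal.le_comap_map

include hI in
theorem finiteType_trunc_of_tft (hB : TopFiniteType R I B) (j : ℕ) :
    (qm B (I ^ j)).FiniteType := by
  obtain ⟨m, φ, hφ⟩ := hB
  have h1 : qm B (I ^ j) = (AdicTrunc.theta φ (I ^ j)).comp MvPolynomial.C :=
    (AdicTrunc.theta_comp_C φ _).symm
  rw [h1]
  have hC : (MvPolynomial.C : R ⧸ I ^ j →+* MvPolynomial (Fin m) (R ⧸ I ^ j)).FiniteType := by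
    rw [← MvPolynomial.algebraMap_eq, RingHom.finiteType_algebraMap]
    infer_instance
  exact (RingHom.FiniteType.of_surjective _ (AdicTrunc.theta_surjective φ hφ hI j)).comp hC

include hI in
theorem tft_of_finiteType_trunc [IsAdicComplete (I.map (algebraMap R B)) B]
    (ft : (qm B (I ^ 1)).FiniteType) : TopFiniteType R I B := by
  letI alg0 : Algebra (R ⧸ I ^ 1) (B ⧸ (I ^ 1).map (algebraMap R B)) := (qm B (I ^ 1)).toAlgebra
  have ft' : Algebra.FiniteType (R ⧸ I ^ 1) (B ⧸ (I ^ 1).map (algebraMap R B)) := ft
  obtain ⟨m, g, hg⟩ := Algebra.FiniteType.iff_quotient_mvPolynomial''.mp ft'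
  choose x hx using fun i => Ideal.Quotient.mk_surjective (g (MvPolynomial.X i))
  have hgmap : ∀ p : MvPolynomial (Fin m) R,
      g (MvPolynomial.map (Ideal.Quotient.mk (I ^ 1)) p) =
        Ideal.Quotient.mk _ (MvPolynomial.aeval x p) := by
    intro p
    have h2 : g.toRingHom.comp (MvPolynomial.map (Ideal.Quotient.mk (I ^ 1))) =
        (Ideal.Quotient.mk ((I ^ 1).map (algebraMap R B))).comp
          (MvPolynomial.aeval x : MvPolynomial (Fin m) R →ₐ[R] B).toRingHom := by
      apply MvPolynomial.ringHom_ext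
      · intro r
        simp only [RingHom.comp_apply, MvPolynomial.map_C]
        have h3 : g.toRingHom (MvPolynomial.C (Ideal.Quotient.mk (I ^ 1) r)) =
            algebraMap (R ⧸ I ^ 1) _ (Ideal.Quotient.mk (I ^ 1) r) := g.commutes _
        rw [h3, RingHom.algebraMap_toAlgebra, Ideal.quotientMap_mk]
        simp
      · intro i
        simp only [RingHom.comp_apply, MvPolynomial.map_X]
        show g (MvPolynomial.X i) = _
        rw [← hx i]
        simp
    exact RingHom.congr_fun h2 p
  have hgen : ∀ b : B, ∃ p : MvPolynomial (Fin m) R,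
      b - MvPolynomial.aeval x p ∈ I.map (algebraMap R B) := by
    intro b
    obtain ⟨pb, hpb⟩ := hg (Ideal.Quotient.mk _ b)
    obtain ⟨p, rfl⟩ := MvPolynomial.map_surjective (Ideal.Quotient.mk (I ^ 1))
      Ideal.Quotient.mk_surjective pb
    refine ⟨p, ?_⟩
    rw [hgmap, Ideal.Quotient.eq, pow_one] at hpb
    rw [← neg_sub]
    exact (Ideal.neg_mem_iff _).mpr hpb
  exact ⟨m, RPowLift.liftX R I B x, RPowLift.liftX_surjective R I B x hI hgen⟩

end general

section loc

/-- transfer along a model of the localization. -/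
theorem finiteType_comp_algebraMap_away {R₀ S₀ Q : Type u} [CommRing R₀] [CommRing S₀]
    [CommRing Q] (φ : R₀ →+* S₀) (r : S₀) (ψ : S₀ →+* Q)
    (hloc : letI := ψ.toAlgebra; IsLocalization.Away r Q) (h : (ψ.comp φ).FiniteType) :
    ((algebraMap S₀ (Localization.Away r)).comp φ).FiniteType := by
  letI := ψ.toAlgebra
  haveI := hloc
  let e := IsLocalization.algEquiv (Submonoid.powers r) Q (Localization.Away r)
  have h1 : algebraMap S₀ (Localization.Away r) = e.toAlgHom.toRingHom.comp ψ := by
    ext s
    exact (e.commutes s).symm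
  rw [h1, RingHom.comp_assoc]
  exact (RingHom.FiniteType.of_surjective _ e.surjective).comp h

theorem finitePresentation_comp_algebraMap_away {R₀ S₀ Q : Type u} [CommRing R₀] [CommRing S₀]
    [CommRing Q] (φ : R₀ →+* S₀) (r : S₀) (ψ : S₀ →+* Q)
    (hloc : letI := ψ.toAlgebra; IsLocalization.Away r Q) (h : (ψ.comp φ).FinitePresentation) :
    ((algebraMap S₀ (Localization.Away r)).comp φ).FinitePresentation := by
  letI := ψ.toAlgebra
  haveI := hloc
  let e := IsLocalization.algEquiv (Submonoid.powers r) Q (Localization.Away r)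
  have h1 : algebraMap S₀ (Localization.Away r) = e.toAlgHom.toRingHom.comp ψ := by
    ext s
    exact (e.commutes s).symm
  rw [h1, RingHom.comp_assoc]
  have hk : RingHom.ker e.toAlgHom.toRingHom = ⊥ :=
    (RingHom.injective_iff_ker_eq_bot _).mp e.injective
  have hfg : (RingHom.ker e.toAlgHom.toRingHom).FG := by rw [hk]; exact Submodule.fg_bot
  exact (RingHom.FinitePresentation.of_surjective e.toAlgHom.toRingHom e.surjective hfg).comp h

end loc

section span

variable {R : Type u} [CommRing R] (I : Ideal R) (hI : I.FG) {A : Type u} [CommRing A]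
  [Algebra R A]

lemma qm_cLoc (f : A) (k : ℕ) :
    qm (CLoc I f) (I ^ k) = (truncMap I f k).comp (qm A (I ^ k)) := by
  apply Ideal.Quotient.ringHom_ext
  ext r
  simp only [RingHom.comp_apply, Ideal.quotientMap_mk, truncMap_mk]
  rw [← IsScalarTower.algebraMap_apply R A (CLoc I f)]

include hI in
theorem finiteType_of_span {r : ℕ} (f : Fin r → A) (hf : Ideal.span (Set.range f) = ⊤) (k : ℕ)
    (h : ∀ i, (qm (CLoc I (f i)) (I ^ k)).FiniteType) : (qm A (I ^ k)).FiniteType := by
  apply RingHom.finiteType_ofLocalizationSpanTarget (qm A (I ^ k))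
    (Set.range fun i => Ideal.Quotient.mk ((I ^ k).map (algebraMap R A)) (f i))
  · rw [Set.range_comp', ← Ideal.map_span, hf, Ideal.map_top]
  · rintro ⟨_, i, rfl⟩
    apply finiteType_comp_algebraMap_away _ _ (truncMap I (f i) k)
      (isLocalization_truncMap I hI (f i) k)
    rw [← qm_cLoc]
    exact h i

include hI in
theorem finitePresentation_of_span {r : ℕ} (f : Fin r → A)
    (hf : Ideal.span (Set.range f) = ⊤) (k : ℕ)
    (h : ∀ i, (qm (CLoc I (f i)) (I ^ k)).FinitePresentation) :
    (qm A (I ^ k)).FinitePresentation := by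
  apply RingHom.finitePresentation_ofLocalizationSpanTarget (qm A (I ^ k))
    (Set.range fun i => Ideal.Quotient.mk ((I ^ k).map (algebraMap R A)) (f i))
  · rw [Set.range_comp', ← Ideal.map_span, hf, Ideal.map_top]
  · rintro ⟨_, i, rfl⟩
    apply finitePresentation_comp_algebraMap_away _ _ (truncMap I (f i) k)
      (isLocalization_truncMap I hI (f i) k)
    rw [← qm_cLoc]
    exact h i

include hI in
theorem finitePresentation_cLoc (f : A) (k : ℕ) (h : (qm A (I ^ k)).FinitePresentation) :
    (qm (CLoc I f) (I ^ k)).FinitePresentation := by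
  rw [qm_cLoc]
  refine RingHom.FinitePresentation.comp ?_ h
  letI := (truncMap I f k).toAlgebra
  haveI := isLocalization_truncMap I hI f k
  have : Algebra.FinitePresentation (A ⧸ (I ^ k).map (algebraMap R A))
      (CLoc I f ⧸ (I ^ k).map (algebraMap R (CLoc I f))) :=
    IsLocalization.Away.finitePresentation
      (Ideal.Quotient.mk ((I ^ k).map (algebraMap R A)) f)
  exact this

end span

end Groth.Agent.Lib.Helper27.CLocSpan
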