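import Mathlib
import Groth.Agent.Lib.Helper27.CLocBasic

/-!
Power torsion and complete localizations.
-/

set_option autoImplicit false
universe u

namespace Groth.Agent.Lib.Helper27.CLocTors

open AdicRing TensorProduct
open Groth.Agent.Lib.Helper27 Groth.Agent.Lib.Helper27.CLocBasic

/-- Flat base change preserves the absence of `J`-torsion for finitely generated `J`. -/
theorem noTorsion_of_flat {R : Type*} [CommRing R] (J : Ideal R) (hJ : J.FG)
    (A : Type*) [CommRing A] [Algebra R A] (M : Type*) [AddCommGroup M] [Module A M]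
    [Module R M] [IsScalarTower R A M] [Module.Flat A M]
    (hA : ∀ a : A, (∀ c ∈ J, c • a = 0) → a = 0) (x : M) (hx : ∀ c ∈ J, c • x = 0) : x = 0 := by
  classical
  obtain ⟨m, c, hc⟩ := Submodule.fg_iff_exists_fin_generating_family.mp hJ
  have hcmem : ∀ j, c j ∈ J := fun j => hc ▸ Submodule.subset_span ⟨j, rfl⟩
  let u : A →ₗ[A] (Fin m → A) :=
    LinearMap.pi (fun j => (algebraMap R A (c j)) • (LinearMap.id : A →ₗ[A] A))
  have hu : Function.Injective u := by
    rw [injective_iff_map_eq_zero]
    intro a ha
    apply hA
    -- every element of `J` kills `a`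
    have h1 : ∀ j, c j • a = 0 := by
      intro j
      have := congrFun ha j
      simpa [u, Algebra.smul_def] using this
    intro d hd
    rw [← hc] at hd
    induction hd using Submodule.span_induction with
    | mem d hd => obtain ⟨j, rfl⟩ := hd; exact h1 j
    | zero => exact zero_smul _ _
    | add d₁ d₂ _ _ h₁ h₂ => rw [add_smul, h₁, h₂, add_zero]
    | smul r d _ h => rw [smul_eq_mul, mul_smul, h, smul_zero]
  have hinj := Module.Flat.lTensor_preserves_injective_linearMap (M := M) u hu
  have h0 : (u.lTensor M) (x ⊗ₜ[A] (1 : A)) = 0 := by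
    rw [LinearMap.lTensor_tmul]
    have hu1 : u 1 = ∑ j, (algebraMap R A (c j)) • (Pi.single j (1 : A) : Fin m → A) := by
      funext j
      simp [u, Finset.sum_apply, Pi.single_apply]
    rw [hu1, TensorProduct.tmul_sum]
    refine Finset.sum_eq_zero fun j _ => ?_
    have : (algebraMap R A (c j)) • x = 0 := by
      rw [algebraMap_smul]; exact hx _ (hcmem j)
    rw [TensorProduct.tmul_smul, TensorProduct.smul_tmul', this, TensorProduct.zero_tmul]
  have h1 : x ⊗ₜ[A] (1 : A) = 0 := hinj (by rw [h0, map_zero])
  have h2 := congrArg (TensorProduct.rid A M) h1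
  simpa using h2

variable {R : Type u} [CommRing R] (I : Ideal R) {A : Type u} [CommRing A] [Algebra R A]

/-- descent of the absence of power torsion along a covering by complete localizations. -/
theorem noPowTorsion_of_span [IsHausdorff (I.map (algebraMap R A)) A] {r : ℕ} (f : Fin r → A)
    (hf : Ideal.span (Set.range f) = ⊤)
    (h : ∀ i, NoPowTorsion I (CLoc I (f i))) : NoPowTorsion I A := by
  intro a n ha
  apply (isHausdorff_iff.mp (inferInstance : IsHausdorff (I.map (algebraMap R A)) A))
  intro k
  rw [SModEq.zero, smul_eq_mul, Ideal.mul_top, ← Ideal.map_pow]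
  apply Submodule.mem_of_span_eq_top_of_smul_pow_mem _ (Set.range f) hf
  rintro ⟨_, i, rfl⟩
  have h0 : algebraMap A (CLoc I (f i)) a = 0 := by
    apply h i _ n
    intro c hc
    have e : c • algebraMap A (CLoc I (f i)) a = algebraMap A (CLoc I (f i)) (c • a) :=
      (map_smul (IsScalarTower.toAlgHom R A (CLoc I (f i))) c a).symm
    rw [e, ha c hc, map_zero]
  have h1 : algebraMap A (Localization.Away (f i)) a ∈
      (I ^ k).map (algebraMap R (Localization.Away (f i))) := by
    apply mem_of_algebraMap_mem I (f i) k
    have e : algebraMap (Localization.Away (f i)) (CLoc I (f i))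
        (algebraMap A (Localization.Away (f i)) a) = algebraMap A (CLoc I (f i)) a := rfl
    rw [e, h0]
    exact Ideal.zero_mem _
  have h2 : (I ^ k).map (algebraMap R (Localization.Away (f i))) =
      ((I ^ k).map (algebraMap R A)).map (algebraMap A (Localization.Away (f i))) := by
    rw [Ideal.map_map, ← IsScalarTower.algebraMap_eq]
  rw [h2, IsLocalization.algebraMap_mem_map_algebraMap_iff (Submonoid.powers (f i))] at h1
  obtain ⟨_, ⟨m, rfl⟩, hm⟩ := h1
  exact ⟨m, hm⟩

end Groth.Agent.Lib.Helper27.CLocTors
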