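import Mathlib
import Groth.Agent.Lib.Helper4.SerreNormal

/-!
# Principal ideals in normal Noetherian domains are determined in codimension one
-/

set_option autoImplicit false
set_option linter.style.haveILetI false
universe u

namespace Groth.Agent.Lib.Helper27.CartEqA

open Groth.Agent.Lib.Helper4

/-- In a Noetherian integrally closed domain, membership in a principal ideal can be checked at
the primes of height one. -/
theorem mem_span_of_forall_height_one (A : Type u) [CommRing A] [IsDomain A] [IsNoetherianRing A]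
    [IsIntegrallyClosed A] (g h : A) (hh : h ≠ 0)
    (H : ∀ P : Ideal A, P.IsPrime → P.height = 1 → ∃ s : A, s ∉ P ∧ s * g ∈ Ideal.span {h}) :
    g ∈ Ideal.span {h} := by
  classical
  have hS2 : LocCoh.HasSk 2 A A := by
    refine ((SerreNormal.serre_criterion A).mp ?_).2
    intro p hp
    haveI : IsIntegrallyClosed (Localization.AtPrime p) :=
      isIntegrallyClosed_of_isLocalization _ p.primeCompl p.primeCompl_le_nonZeroDivisors
    exact ⟨inferInstance, inferInstance⟩
  by_contra hg
  -- the class of `g` in `A / (h)` is nonzero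
  have hgbar : (Ideal.Quotient.mk (Ideal.span {h}) g) ≠ 0 := by
    rwa [Ne, Ideal.Quotient.eq_zero_iff_mem]
  obtain ⟨P, hP, hle⟩ := exists_le_isAssociatedPrime_of_isNoetherianRing (R := A)
    (M := A ⧸ Ideal.span {h}) _ hgbar
  rw [isAssociatedPrime_iff] at hP
  obtain ⟨hPprime, zbar, hzbar⟩ := hP
  obtain ⟨z, rfl⟩ := Ideal.Quotient.mk_surjective zbar
  haveI := hPprime
  have hsmul : ∀ r y : A, r • (Ideal.Quotient.mk (Ideal.span {h}) y) = 0 ↔
      r * y ∈ Ideal.span {h} := by
    intro r y
    rw [Algebra.smul_def, Ideal.Quotient.algebraMap_eq, ← map_mul,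
      Ideal.Quotient.eq_zero_iff_mem]
  have hz : ∀ r : A, r ∈ P ↔ r * z ∈ Ideal.span {h} := by
    intro r
    rw [hzbar, Submodule.mem_colon_singleton, Submodule.mem_bot, hsmul]
  have hht : P.height ≤ 1 :=
    SerreNormal.height_le_one_of_colon hS2 h (mem_nonZeroDivisors_of_ne_zero hh) P z hz
  have hhP : h ∈ P := by
    rw [hz]; exact Ideal.mul_mem_right _ _ (Ideal.mem_span_singleton_self h)
  have hht1 : P.height = 1 := by
    apply le_antisymm hht
    by_contra hlt
    have h0 : P.height = 0 := by
      have : P.height < 1 := not_le.mp hlt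
      exact Order.lt_one_iff.mp this
    rw [Ideal.height_eq_zero_iff, IsDomain.minimalPrimes_eq_singleton_bot] at h0
    have hbot : P = ⊥ := h0
    rw [hbot] at hhP
    exact hh hhP
  obtain ⟨s, hsP, hsg⟩ := H P hPprime hht1
  -- annihilator
  apply hsP
  apply hle
  rw [Submodule.mem_colon_singleton, Submodule.mem_bot, hsmul]
  exact hsg

/-- Comparison of two elements of a valuation ring through a local homomorphism. -/
theorem dvd_of_map_eq_mul (O B' : Type*) [CommRing O] [IsDomain O] [ValuationRing O]
    [CommRing B'] [IsLocalRing B'] (ψ : O →+* B') [IsLocalHom ψ] (g h : O) (c : B')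
    (hc : ψ g = ψ h * c) (hg : ψ g ≠ 0) : h ∣ g := by
  rcases ValuationRing.dvd_total h g with hd | ⟨w, hw⟩
  · exact hd
  · by_cases hwu : IsUnit w
    · obtain ⟨u, rfl⟩ := hwu
      exact ⟨↑u⁻¹, by rw [hw, mul_assoc, Units.mul_inv, mul_one]⟩
    · exfalso
      apply hg
      have hψw : ψ w ∈ IsLocalRing.maximalIdeal B' := by
        rw [IsLocalRing.mem_maximalIdeal, mem_nonunits_iff]
        exact fun hu => hwu ((isUnit_map_iff ψ w).mp hu)
      have h1 : ψ g * (1 - ψ w * c) = 0 := by
        have : ψ h = ψ g * ψ w := by rw [hw, map_mul]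
        rw [mul_sub, mul_one, sub_eq_zero]
        conv_lhs => rw [hc, this]
        ring
      have hunit : IsUnit (1 - ψ w * c) := by
        have hmem : ψ w * c ∈ IsLocalRing.maximalIdeal B' := Ideal.mul_mem_right _ _ hψw
        have := IsLocalRing.isUnit_one_sub_self_of_mem_nonunits _ hmem
        exact this
      exact (hunit.mul_left_eq_zero).mp h1

end Groth.Agent.Lib.Helper27.CartEqA
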