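import Mathlib
import Groth.Prelude.Def_CInt
import Groth.Agent.Lib.Helper27.CartEqA
import Groth.Agent.Lib.Helper27.PurB
import Groth.Agent.Lib.Helper28.IdealComap

/-!
# Locally principal ideal sheaves on a normal scheme are determined by their pullback along a
surjective morphism with schematically dense generic part
-/

set_option autoImplicit false
set_option linter.style.haveILetI false
universe u
open AlgebraicGeometry CategoryTheory TopologicalSpace

namespace Groth.Agent.Lib.Helper27.CartEqB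

variable {S S' : Scheme.{u}}

lemma isIntegrallyClosed_of_stalks' {V : S.Opens} (hV : IsAffineOpen V) [IsDomain Γ(S, V)]
    (hY : ∀ y : S, IsIntegrallyClosed (S.presheaf.stalk y)) :
    IsIntegrallyClosed Γ(S, V) := by
  exact @IsIntegrallyClosed.of_isLocalization_maximal Γ(S, V) _
    (fun P hP => S.presheaf.stalk (hV.fromSpec ⟨P, hP.isPrime⟩))
    (fun P hP => inferInstance)
    (fun P hP => TopCat.Presheaf.algebra_section_stalk S.presheaf
      ⟨hV.fromSpec ⟨P, hP.isPrime⟩, PurB.fromSpec_mem hV _⟩)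
    (fun P hP => hV.isLocalization_stalk' ⟨P, hP.isPrime⟩ (PurB.fromSpec_mem hV _))
    inferInstance (fun P hP => hY _)

/-- Off the support, a generator of the ideal is invertible. -/
lemma mem_basicOpen_of_notMem_support (D : S.IdealSheafData) (W : S.affineOpens)
    (g : Γ(S, W.1)) (hg : D.ideal W = Ideal.span {g}) (x : S) (hxW : x ∈ W.1)
    (hx : x ∉ D.support) : x ∈ S.basicOpen g := by
  rw [Scheme.IdealSheafData.mem_support_iff_of_mem hxW, Scheme.mem_zeroLocus_iff] at hx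
  push Not at hx
  obtain ⟨r, hr, hxr⟩ := hx
  rw [hg] at hr
  obtain ⟨a, rfl⟩ := Ideal.mem_span_singleton'.mp hr
  rw [Scheme.basicOpen_mul] at hxr
  exact hxr.2

/-- A section invertible over the preimage of `U` has nonzero germs, if the preimage of `U` is
schematically dense. -/
lemma germ_ne_zero (f : S' ⟶ S) (U : S.Opens) (hU' : CInt.IsSchematicallyDense (f ⁻¹ᵁ U))
    (W : S.Opens) (g : Γ(S, W)) (hgU : W ⊓ U ≤ S.basicOpen g) (W' : S'.Opens)
    (e : W' ≤ f ⁻¹ᵁ W) (ξ' : S') (hξ' : ξ' ∈ W') :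
    S'.presheaf.germ W' ξ' hξ' ((f.appLE W W' e).hom g) ≠ 0 := by
  intro h0
  obtain ⟨b, hb⟩ : ∃ b : Γ(S', W'), b = (f.appLE W W' e).hom g := ⟨_, rfl⟩
  rw [← hb] at h0
  have h0' : S'.presheaf.germ W' ξ' hξ' b = S'.presheaf.germ W' ξ' hξ' 0 := by
    rw [h0, map_zero]
  obtain ⟨N, hξN, iU, iV, hres⟩ := S'.presheaf.germ_eq ξ' hξ' hξ' b 0 h0'
  rw [map_zero] at hres
  have hNW : N ≤ W' := iU.le
  -- `N ⊓ f⁻¹U ≤ basicOpen b`
  have hsub : N ⊓ f ⁻¹ᵁ U ≤ S'.basicOpen b := by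
    intro y hy
    have hyW' : y ∈ W' := hNW hy.1
    have hfy : f y ∈ S.basicOpen g := hgU ⟨e hyW', hy.2⟩
    have : y ∈ S'.basicOpen ((f.app W).hom g) := by
      rw [← Scheme.Hom.preimage_basicOpen]
      exact hfy
    rw [hb, Scheme.Hom.appLE, CommRingCat.hom_comp, RingHom.comp_apply, Scheme.basicOpen_res]
    exact ⟨hyW', this⟩
  -- the restriction of `b` to `N ⊓ f⁻¹U` is a unit and zero
  have hunit : IsUnit (S'.presheaf.map (homOfLE hsub).op
      (S'.presheaf.map (homOfLE (S'.basicOpen_le b)).op b)) :=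
    (S'.toRingedSpace.isUnit_res_basicOpen b).map _
  have hzero : S'.presheaf.map (homOfLE hsub).op
      (S'.presheaf.map (homOfLE (S'.basicOpen_le b)).op b) = 0 := by
    have h1 : S'.presheaf.map (homOfLE hsub).op
        (S'.presheaf.map (homOfLE (S'.basicOpen_le b)).op b) =
        S'.presheaf.map (homOfLE (inf_le_left : N ⊓ f ⁻¹ᵁ U ≤ N)).op (S'.presheaf.map iU.op b) := by
      rw [← CommRingCat.comp_apply, ← CommRingCat.comp_apply, ← Functor.map_comp,
        ← Functor.map_comp]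
      rfl
    rw [h1, hres, map_zero]
  rw [hzero] at hunit
  have h10 : (1 : Γ(S', N ⊓ f ⁻¹ᵁ U)) = 0 := by
    have := hunit.mul_left_eq_zero (a := (1 : Γ(S', N ⊓ f ⁻¹ᵁ U)))
    exact this.mp (mul_zero _)
  have h10N : (1 : Γ(S', N)) = 0 := by
    apply hU' N
    rw [map_one, map_zero]
    exact h10
  have h1 : S'.basicOpen (1 : Γ(S', N)) = N := S'.basicOpen_of_isUnit isUnit_one
  rw [h10N, Scheme.basicOpen_zero] at h1
  have : ξ' ∈ (⊥ : S'.Opens) := h1 ▸ hξN
  exact this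

/-- The key comparison on an integral affine open. -/
theorem ideal_le_of_comap_le [IsLocallyNoetherian S]
    (hnorm : ∀ x : S, IsDomain (S.presheaf.stalk x) ∧ IsIntegrallyClosed (S.presheaf.stalk x))
    (f : S' ⟶ S) (hsurj : Function.Surjective f) (U : S.Opens) (hU : Dense (U : Set S))
    (hU' : CInt.IsSchematicallyDense (f ⁻¹ᵁ U)) (D E : S.IdealSheafData)
    (hDU : (D.support : Set S) ⊆ (U : Set S)ᶜ) (hEU : (E.support : Set S) ⊆ (U : Set S)ᶜ)
    (hle : D.comap f ≤ E.comap f)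
    (W : S.affineOpens) [IsDomain Γ(S, W.1)] (g h : Γ(S, W.1))
    (hDg : D.ideal W = Ideal.span {g}) (hEh : E.ideal W = Ideal.span {h}) :
    D.ideal W ≤ E.ideal W := by
  classical
  have hW : IsAffineOpen W.1 := W.2
  haveI : IsNoetherianRing Γ(S, W.1) := IsLocallyNoetherian.component_noetherian W
  haveI : IsIntegrallyClosed Γ(S, W.1) :=
    isIntegrallyClosed_of_stalks' hW (fun y => (hnorm y).2)
  have hgU : W.1 ⊓ U ≤ S.basicOpen g := fun x hx =>
    mem_basicOpen_of_notMem_support D W g hDg x hx.1 (fun hs => hDU hs hx.2)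
  have hhU : W.1 ⊓ U ≤ S.basicOpen h := fun x hx =>
    mem_basicOpen_of_notMem_support E W h hEh x hx.1 (fun hs => hEU hs hx.2)
  have hh0 : h ≠ 0 := by
    rintro rfl
    have hne : (W.1 : Set S).Nonempty := by
      by_contra hemp
      rw [Set.not_nonempty_iff_eq_empty] at hemp
      have hbot : W.1 = ⊥ := Opens.ext hemp
      have hsub : Subsingleton Γ(S, W.1) := by rw [hbot]; infer_instance
      exact not_subsingleton _ hsub
    obtain ⟨x, hxW, hxU⟩ := hU.inter_open_nonempty _ W.1.2 hne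
    have := hhU ⟨hxW, hxU⟩
    rw [Scheme.basicOpen_zero] at this
    exact this
  rw [hDg, hEh, Ideal.span_singleton_le_iff_mem]
  apply CartEqA.mem_span_of_forall_height_one _ g h hh0
  intro P hP hht
  let y : PrimeSpectrum Γ(S, W.1) := ⟨P, hP⟩
  have hyW : hW.fromSpec y ∈ W.1 := PurB.fromSpec_mem hW y
  obtain ⟨ξ', hξ'⟩ := hsurj (hW.fromSpec y)
  have hfW : f ξ' ∈ W.1 := by rw [hξ']; exact hyW
  have hyeq : hW.primeIdealOf ⟨f ξ', hfW⟩ = y := by
    apply hW.fromSpec.isOpenEmbedding.injective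
    rw [hW.fromSpec_primeIdealOf]
    exact hξ'
  have hPx : (hW.primeIdealOf ⟨f ξ', hfW⟩).asIdeal = P := by rw [hyeq]
  -- an affine neighbourhood upstairs
  obtain ⟨W', hW', hξW', e⟩ : ∃ W' : S'.Opens, IsAffineOpen W' ∧ ξ' ∈ W' ∧ W' ≤ f ⁻¹ᵁ W.1 := by
    obtain ⟨_, ⟨V, hV, rfl⟩, hxV, hle⟩ :=
      S'.isBasis_affineOpens.exists_subset_of_mem_open (show ξ' ∈ ((f ⁻¹ᵁ W.1 : S'.Opens) : Set S')
        from hfW) (f ⁻¹ᵁ W.1).2
    exact ⟨V, hV, hxV, hle⟩
  -- the pulled back ideals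
  have hmem : (f.appLE W.1 W' e).hom g ∈ Ideal.span {(f.appLE W.1 W' e).hom h} := by
    have h1 := hle ⟨W', hW'⟩
    rw [Groth.Agent.Lib.Helper28.ideal_comap_of_le D f W ⟨W', hW'⟩ e,
      Groth.Agent.Lib.Helper28.ideal_comap_of_le E f W ⟨W', hW'⟩ e, hDg, hEh, Ideal.map_span,
      Ideal.map_span, Set.image_singleton, Set.image_singleton,
      Ideal.span_singleton_le_iff_mem] at h1
    exact h1
  obtain ⟨c, hc⟩ := Ideal.mem_span_singleton'.mp hmem
  -- the local ring downstairs is a valuation ring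
  haveI : IsDomain (S.presheaf.stalk (f ξ')) := (hnorm _).1
  haveI : IsIntegrallyClosed (S.presheaf.stalk (f ξ')) := (hnorm _).2
  letI := S.presheaf.algebra_section_stalk (⟨f ξ', hfW⟩ : W.1)
  haveI hloc : IsLocalization.AtPrime (S.presheaf.stalk (f ξ'))
      (hW.primeIdealOf ⟨f ξ', hfW⟩).asIdeal := hW.isLocalization_stalk ⟨f ξ', hfW⟩
  have hdim : ringKrullDim (S.presheaf.stalk (f ξ')) = 1 := by
    rw [IsLocalization.AtPrime.ringKrullDim_eq_height (hW.primeIdealOf ⟨f ξ', hfW⟩).asIdeal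
      (S.presheaf.stalk (f ξ')), hPx, hht]
    rfl
  haveI : Ring.KrullDimLE 1 (S.presheaf.stalk (f ξ')) := by
    rw [Ring.krullDimLE_iff, hdim]
    rfl
  haveI hval : ValuationRing (S.presheaf.stalk (f ξ')) := by
    have h3 : IsIntegrallyClosed (S.presheaf.stalk (f ξ')) ∧
        ∀ Q : Ideal (S.presheaf.stalk (f ξ')), Q ≠ ⊥ → Q.IsPrime →
          Q = IsLocalRing.maximalIdeal (S.presheaf.stalk (f ξ')) :=
      ⟨inferInstance, fun Q hQ hQ' => IsLocalRing.eq_maximalIdeal (hQ'.isMaximal_of_ne_bot hQ)⟩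
    exact ((tfae_of_isNoetherianRing_of_isLocalRing_of_isDomain
      (S.presheaf.stalk (f ξ'))).out 3 1).mp h3
  -- compare through the stalk map
  have hψg : (f.stalkMap ξ').hom (S.presheaf.germ W.1 (f ξ') hfW g) =
      S'.presheaf.germ W' ξ' hξW' ((f.appLE W.1 W' e).hom g) :=
    (PurB.germ_appLE f e ξ' hξW' g).symm
  have hψh : (f.stalkMap ξ').hom (S.presheaf.germ W.1 (f ξ') hfW h) =
      S'.presheaf.germ W' ξ' hξW' ((f.appLE W.1 W' e).hom h) :=
    (PurB.germ_appLE f e ξ' hξW' h).symm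
  have hdvd : S.presheaf.germ W.1 (f ξ') hfW h ∣ S.presheaf.germ W.1 (f ξ') hfW g := by
    refine CartEqA.dvd_of_map_eq_mul _ _ (f.stalkMap ξ').hom _ _
      (S'.presheaf.germ W' ξ' hξW' c) ?_ ?_
    · rw [hψg, hψh, ← hc, map_mul, mul_comm]
    · rw [hψg]
      exact germ_ne_zero f U hU' W.1 g hgU W' e ξ' hξW'
  obtain ⟨w, hw⟩ := hdvd
  obtain ⟨⟨a, s⟩, has⟩ := IsLocalization.surj (hW.primeIdealOf ⟨f ξ', hfW⟩).asIdeal.primeCompl w
  refine ⟨s.1, ?_, ?_⟩
  · rw [← hPx]
    exact s.2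
  · rw [Ideal.mem_span_singleton']
    refine ⟨a, ?_⟩
    apply IsLocalization.injective (S.presheaf.stalk (f ξ'))
      (Ideal.primeCompl_le_nonZeroDivisors (hW.primeIdealOf ⟨f ξ', hfW⟩).asIdeal)
    rw [map_mul, map_mul]
    have hg' : algebraMap Γ(S, W.1) (S.presheaf.stalk (f ξ')) g =
        S.presheaf.germ W.1 (f ξ') hfW g := rfl
    have hh' : algebraMap Γ(S, W.1) (S.presheaf.stalk (f ξ')) h =
        S.presheaf.germ W.1 (f ξ') hfW h := rfl
    rw [hg', hh', hw, ← has]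
    ring

end Groth.Agent.Lib.Helper27.CartEqB
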