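import Mathlib
import Groth.Prelude.Def_W4bk4boschfrg79

/-!
Chart algebras `A[f_j / f_i]` of a blowing-up: elementary torsion facts.
-/

set_option autoImplicit false
universe u

namespace Groth.Agent.Lib.Helper27.ChartTors

open AdicRing MvPolynomial

variable {A : Type u} [CommRing A] {ι : Type} (f : ι → A) (i : ι)

lemma mk_rel (j : {j : ι // j ≠ i}) :
    algebraMap A (chartAlg f i) (f j.1) =
      algebraMap A (chartAlg f i) (f i) * Ideal.Quotient.mk _ (X j) := by
  have h : Ideal.Quotient.mk (Ideal.span (Set.range fun j : {j : ι // j ≠ i} =>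
      MvPolynomial.C (f i) * MvPolynomial.X j - MvPolynomial.C (f j.1)))
      (C (f i) * X j - C (f j.1)) = 0 :=
    Ideal.Quotient.eq_zero_iff_mem.mpr (Ideal.subset_span ⟨j, rfl⟩)
  rw [map_sub, map_mul, sub_eq_zero] at h
  exact h.symm

lemma algebraMap_mem_span (j : ι) :
    algebraMap A (chartAlg f i) (f j) ∈
      Ideal.span {algebraMap A (chartAlg f i) (f i)} := by
  by_cases h : j = i
  · subst h
    exact Ideal.mem_span_singleton_self _
  · rw [mk_rel f i ⟨j, h⟩]
    exact Ideal.mul_mem_right _ _ (Ideal.mem_span_singleton_self _)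

/-- evaluation `ζ_j ↦ f_j / f_i` to the localization. -/
noncomputable def ev : chartAlg f i →ₐ[A] Localization.Away (f i) :=
  Ideal.Quotient.liftₐ _
    (aeval (fun j : {j : ι // j ≠ i} => IsLocalization.mk' (Localization.Away (f i)) (f j.1)
      (⟨f i, Submonoid.mem_powers _⟩ : Submonoid.powers (f i))))
    (by
      have hle : Ideal.span (Set.range fun j : {j : ι // j ≠ i} =>
          MvPolynomial.C (f i) * MvPolynomial.X j - MvPolynomial.C (f j.1)) ≤
          RingHom.ker (aeval (fun j : {j : ι // j ≠ i} =>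
            IsLocalization.mk' (Localization.Away (f i)) (f j.1)
              (⟨f i, Submonoid.mem_powers _⟩ : Submonoid.powers (f i))) :
            MvPolynomial {j : ι // j ≠ i} A →ₐ[A] Localization.Away (f i)).toRingHom := by
        rw [Ideal.span_le]
        rintro _ ⟨j, rfl⟩
        rw [SetLike.mem_coe, RingHom.mem_ker]
        show aeval _ (C (f i) * X j - C (f j.1)) = 0
        rw [map_sub, map_mul, aeval_C, aeval_C, aeval_X, sub_eq_zero]
        exact IsLocalization.mk'_spec' (Localization.Away (f i)) (f j.1)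
          (⟨f i, Submonoid.mem_powers _⟩ : Submonoid.powers (f i))
      intro a ha
      exact hle ha)

lemma exists_pow_mul_eq_zero (b : A) (hb : algebraMap A (chartAlg f i) b = 0) :
    ∃ M : ℕ, f i ^ M * b = 0 := by
  have h : algebraMap A (Localization.Away (f i)) b = 0 := by
    rw [← (ev f i).commutes b, hb, map_zero]
  obtain ⟨⟨_, M, rfl⟩, hM⟩ := (IsLocalization.map_eq_zero_iff (Submonoid.powers (f i)) _ b).mp h
  exact ⟨M, hM⟩

lemma exists_pow_mul_eq (P : MvPolynomial {j : ι // j ≠ i} A) :
    ∃ (d : ℕ) (a : A), algebraMap A (chartAlg f i) (f i) ^ d *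
      (Ideal.Quotient.mk _ P : chartAlg f i) = algebraMap A (chartAlg f i) a := by
  induction P using MvPolynomial.induction_on with
  | C a => exact ⟨0, a, by rw [pow_zero, one_mul]; rfl⟩
  | add P Q hP hQ =>
    obtain ⟨d₁, a₁, h₁⟩ := hP
    obtain ⟨d₂, a₂, h₂⟩ := hQ
    refine ⟨d₁ + d₂, f i ^ d₂ * a₁ + f i ^ d₁ * a₂, ?_⟩
    rw [map_add, map_add, map_mul, map_mul, map_pow, map_pow, ← h₁, ← h₂, pow_add]
    ring
  | mul_X P j hP =>
    obtain ⟨d, a, h⟩ := hP
    refine ⟨d + 1, a * f j.1, ?_⟩
    rw [map_mul, map_mul, ← h, mk_rel f i j, pow_succ]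
    ring

variable {R : Type u} [CommRing R] (I : Ideal R) [Algebra R A]

/-- `I`-power torsion of the chart algebra is `f_i`-power torsion when `A` has no `I`-power
torsion. -/
theorem exists_pow_mul_eq_zero_of_torsion (hT : NoPowTorsion I A) (n : ℕ) (S : Finset R)
    (hS : Ideal.span (S : Set R) = I ^ n)
    (τ : chartAlg f i) (hτ : ∀ a ∈ S, algebraMap R (chartAlg f i) a * τ = 0) :
    ∃ N : ℕ, algebraMap A (chartAlg f i) (f i) ^ N * τ = 0 := by
  classical
  obtain ⟨P, rfl⟩ := Ideal.Quotient.mk_surjective τ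
  obtain ⟨d, a, hda⟩ := exists_pow_mul_eq f i P
  have h1 : ∀ s ∈ S, ∃ M : ℕ, f i ^ M * (algebraMap R A s * a) = 0 := by
    intro s hs
    apply exists_pow_mul_eq_zero f i
    rw [map_mul, ← hda, ← IsScalarTower.algebraMap_apply R A (chartAlg f i), mul_left_comm,
      hτ s hs, mul_zero]
  choose! M hM using h1
  have h2 : ∀ s ∈ S, algebraMap R A s * (f i ^ S.sup M * a) = 0 := by
    intro s hs
    have hle : M s ≤ S.sup M := Finset.le_sup hs
    obtain ⟨e, he⟩ := Nat.exists_eq_add_of_le hle
    rw [he, pow_add]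
    have := hM s hs
    calc algebraMap R A s * (f i ^ M s * f i ^ e * a)
        = f i ^ e * (f i ^ M s * (algebraMap R A s * a)) := by ring
      _ = 0 := by rw [this, mul_zero]
  have h3 : f i ^ S.sup M * a = 0 := by
    apply hT _ n
    intro a' ha'
    rw [← hS] at ha'
    rw [Algebra.smul_def]
    induction ha' using Submodule.span_induction with
    | mem s hs => exact h2 s hs
    | zero => rw [map_zero, zero_mul]
    | add x y _ _ hx hy => rw [map_add, add_mul, hx, hy, add_zero]
    | smul c x _ hx => rw [smul_eq_mul, map_mul, mul_assoc, hx, mul_zero]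
  refine ⟨S.sup M + d, ?_⟩
  rw [pow_add, mul_assoc, hda, ← map_pow, ← map_mul, h3, map_zero]

end Groth.Agent.Lib.Helper27.ChartTors
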