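import Groth.Agent.Lib.Helper7.ChevalleyGen

/-!
# Chevalley's lemma for downward directed families of ideals (helper27)

* `mem_of_forall_mem_sup_pow`: ideals of a Noetherian local ring are closed for the adic topology.
* `chevalley_directed`: in a complete Noetherian local ring, a downward directed family of ideals
  contains, for each `n`, a member inside `sInf 𝓕 ⊔ 𝔪 ^ n`.
-/

set_option autoImplicit false

open IsLocalRing

namespace Groth.Agent.Lib.Helper27.ChevDir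

theorem mem_of_forall_mem_sup_pow {A : Type*} [CommRing A] [IsLocalRing A] [IsNoetherianRing A]
    (I : Ideal A) (x : A) (hx : ∀ j : ℕ, x ∈ I ⊔ maximalIdeal A ^ j) : x ∈ I := by
  have hbot : (⨅ j : ℕ, maximalIdeal A ^ j • (⊤ : Submodule A (A ⧸ I))) = ⊥ :=
    Ideal.iInf_pow_smul_eq_bot_of_isLocalRing (maximalIdeal A) (maximalIdeal.isMaximal A).ne_top
  have hmem : (Ideal.Quotient.mk I x) ∈
      ⨅ j : ℕ, maximalIdeal A ^ j • (⊤ : Submodule A (A ⧸ I)) := by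
    rw [Submodule.mem_iInf]
    intro j
    obtain ⟨a, ha, b, hb, hab⟩ := Submodule.mem_sup.mp (hx j)
    have h3 : Ideal.Quotient.mk I x = b • (1 : A ⧸ I) := by
      rw [Algebra.smul_def, mul_one]
      show Ideal.Quotient.mk I x = Ideal.Quotient.mk I b
      rw [Ideal.Quotient.eq]
      have : x - b = a := by rw [← hab]; ring
      rw [this]; exact ha
    rw [h3]
    exact Submodule.smul_mem_smul hb Submodule.mem_top
  rw [hbot, Submodule.mem_bot] at hmem
  exact Ideal.Quotient.eq_zero_iff_mem.1 hmem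

theorem chevalley_directed {A : Type*} [CommRing A] [IsLocalRing A] [IsNoetherianRing A]
    [IsAdicComplete (maximalIdeal A) A] (𝓕 : Set (Ideal A)) (hne : 𝓕.Nonempty)
    (hdir : ∀ I ∈ 𝓕, ∀ J ∈ 𝓕, ∃ K ∈ 𝓕, K ≤ I ⊓ J) (n : ℕ) :
    ∃ I ∈ 𝓕, I ≤ sInf 𝓕 ⊔ maximalIdeal A ^ n := by
  classical
  set 𝔪 := maximalIdeal A with h𝔪
  -- step 1: stabilisation modulo each power
  have stab : ∀ k : ℕ, ∃ I₀ ∈ 𝓕, ∀ I ∈ 𝓕, I₀ ≤ I ⊔ 𝔪 ^ k := by
    intro k
    cases k with
    | zero =>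
      obtain ⟨I₀, hI₀⟩ := hne
      refine ⟨I₀, hI₀, fun I _ => ?_⟩
      rw [pow_zero, Ideal.one_eq_top, sup_top_eq]
      exact le_top
    | succ k =>
      haveI : IsArtinianRing (A ⧸ 𝔪 ^ (k + 1)) :=
        Groth.Agent.Lib.Helper7.ChevalleyGen.isArtinianRing_quot_pow k
      let S : Set (Ideal (A ⧸ 𝔪 ^ (k + 1))) :=
        (fun I : Ideal A => I.map (Ideal.Quotient.mk (𝔪 ^ (k + 1)))) '' 𝓕
      have hS : S.Nonempty := hne.image _
      obtain ⟨M', ⟨I₀, hI₀, rfl⟩, hmin⟩ := IsArtinian.set_has_minimal S hS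
      refine ⟨I₀, hI₀, fun I hI => ?_⟩
      obtain ⟨K, hK, hKle⟩ := hdir I₀ hI₀ I hI
      have hKm : K.map (Ideal.Quotient.mk (𝔪 ^ (k + 1))) ≤
          I₀.map (Ideal.Quotient.mk (𝔪 ^ (k + 1))) := Ideal.map_mono (hKle.trans inf_le_left)
      have heq : K.map (Ideal.Quotient.mk (𝔪 ^ (k + 1))) =
          I₀.map (Ideal.Quotient.mk (𝔪 ^ (k + 1))) := by
        by_contra hne'
        exact hmin _ ⟨K, hK, rfl⟩ (lt_of_le_of_ne hKm hne')
      have e2 := congrArg (Ideal.comap (Ideal.Quotient.mk (𝔪 ^ (k + 1)))) heq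
      rw [Ideal.comap_map_of_surjective' _ Ideal.Quotient.mk_surjective,
        Ideal.comap_map_of_surjective' _ Ideal.Quotient.mk_surjective, Ideal.mk_ker] at e2
      calc I₀ ≤ I₀ ⊔ 𝔪 ^ (k + 1) := le_sup_left
        _ = K ⊔ 𝔪 ^ (k + 1) := e2.symm
        _ ≤ I ⊔ 𝔪 ^ (k + 1) := sup_le_sup_right (hKle.trans inf_le_right) _
  choose c hc𝓕 hc using stab
  -- step 2: a decreasing sequence in 𝓕 below the `c k`
  have next : ∀ (k : ℕ) (J : Ideal A), J ∈ 𝓕 → ∃ J' ∈ 𝓕, J' ≤ J ⊓ c (k + 1) :=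
    fun k J hJ => hdir J hJ (c (k + 1)) (hc𝓕 (k + 1))
  choose! nxt hnxt𝓕 hnxt using next
  let K : ℕ → Ideal A := fun q => Nat.rec (c 0) (fun k J => nxt k J) q
  have hK0 : K 0 = c 0 := rfl
  have hKs : ∀ q, K (q + 1) = nxt q (K q) := fun q => rfl
  have hK𝓕 : ∀ q, K q ∈ 𝓕 := by
    intro q
    induction q with
    | zero => exact hc𝓕 0
    | succ q ih => rw [hKs]; exact hnxt𝓕 q (K q) ih
  have hKstep : ∀ q, K (q + 1) ≤ K q := fun q => by
    rw [hKs]; exact (hnxt q (K q) (hK𝓕 q)).trans inf_le_left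
  have hanti : Antitone K := antitone_nat_of_succ_le hKstep
  have hKc : ∀ q, K q ≤ c q := by
    intro q
    cases q with
    | zero => exact le_of_eq hK0
    | succ q => rw [hKs]; exact (hnxt q (K q) (hK𝓕 q)).trans inf_le_right
  have hinf : (⨅ q, K q) ≤ sInf 𝓕 := by
    refine le_sInf fun I hI => ?_
    intro x hx
    apply mem_of_forall_mem_sup_pow I x
    intro j
    have h1 : x ∈ K j := (Ideal.mem_iInf.mp hx) j
    exact hc j I hI (hKc j h1)
  obtain ⟨q, hq⟩ := Groth.Agent.Lib.Helper7.ChevalleyGen.chevalley K hanti n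
  exact ⟨K q, hK𝓕 q, hq.trans (sup_le_sup_right hinf _)⟩

end Groth.Agent.Lib.Helper27.ChevDir
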