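import Mathlib
import Groth.Agent.Lib.Helper11.Birat6
import Groth.Agent.Lib.Helper12.BiratFinFibre

/-!
# A proper birational morphism with `f_* O_X = O_Y` is an isomorphism in codimension one
-/

set_option autoImplicit false
set_option linter.style.haveILetI false
universe u
open AlgebraicGeometry CategoryTheory CategoryTheory.Limits TopologicalSpace

namespace Groth.Agent.Lib.Helper27.CodimTwoIso

variable {X Y : Scheme.{u}}

theorem le_one_of_not_two_le (d : WithBot ℕ∞) (h : ¬ (2 : WithBot ℕ∞) ≤ d) : d ≤ 1 := by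
  have h' : d < 2 := not_le.mp h
  induction d using WithBot.recBotCoe with
  | bot => exact bot_le
  | coe n =>
    have h2 : (n : WithBot ℕ∞) < ((2 : ℕ∞) : WithBot ℕ∞) := h'
    rw [WithBot.coe_lt_coe] at h2
    have : n ≤ 1 := ENat.lt_two_iff.mp h2
    exact_mod_cast this

theorem app_bijective_of_eq (f : X ⟶ Y) {D D' : Y.Opens} (e : D' = D)
    (h : Function.Bijective (f.app D).hom) : Function.Bijective (f.app D').hom := by
  subst e; exact h

theorem isIso_presheaf_map_eqToHom {U V : X.Opens} (e : U = V) :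
    IsIso (X.presheaf.map (eqToHom e).op) := by
  haveI : IsIso (eqToHom e).op := isIso_op _
  exact Functor.map_isIso _ _

/-- A morphism over an affine open with affine preimage and bijective sections is an isomorphism
there. -/
theorem isIso_restrict_of_app_bijective (f : X ⟶ Y) (D : Y.Opens) (hD : IsAffineOpen D)
    (hfD : IsAffineOpen (f ⁻¹ᵁ D)) (h : Function.Bijective (f.app D).hom) :
    IsIso (f ∣_ D) := by
  haveI : IsAffine D.toScheme := hD
  have : (MorphismProperty.isomorphisms Scheme) (f ∣_ D) := by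
    rw [HasAffineProperty.iff_of_isAffine (P := MorphismProperty.isomorphisms Scheme)]
    refine ⟨hfD, ?_⟩
    rw [ConcreteCategory.isIso_iff_bijective]
    have key : ∀ z, (f ∣_ D).appTop.hom z = (X.presheaf.map
        (eqToHom (image_morphismRestrict_preimage f D ⊤)).op).hom
          ((f.app (D.ι ''ᵁ ⊤)).hom z) :=
      fun z => ConcreteCategory.congr_hom (morphismRestrict_appTop f D) z
    have hb : Function.Bijective (X.presheaf.map
        (eqToHom (image_morphismRestrict_preimage f D ⊤)).op).hom := by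
      haveI := isIso_presheaf_map_eqToHom (X := X) (image_morphismRestrict_preimage f D ⊤)
      exact ConcreteCategory.bijective_of_isIso _
    have hb2 := app_bijective_of_eq f (D.ι_image_top) h
    constructor
    · intro z z' hzz'
      apply hb2.1
      apply hb.1
      exact (key z).symm.trans (hzz'.trans (key z'))
    · intro x
      obtain ⟨y, hy⟩ := hb.2 x
      obtain ⟨z, hz⟩ := hb2.2 y
      exact ⟨z, (key z).trans ((congrArg _ hz).trans hy)⟩
  exact this

/-- If `f` is finite over `V`, then for affine `W ≤ V` the preimage is affine. -/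
theorem isAffineOpen_preimage_of_isFinite_restrict (f : X ⟶ Y) (V W : Y.Opens) (hWV : W ≤ V)
    (hW : IsAffineOpen W) (hfin : IsFinite (f ∣_ V)) : IsAffineOpen (f ⁻¹ᵁ W) := by
  have h1 : IsAffineOpen (V.ι ⁻¹ᵁ W) :=
    hW.preimage_of_isOpenImmersion V.ι (by rw [Scheme.Opens.opensRange_ι]; exact hWV)
  have e : V.ι ''ᵁ (V.ι ⁻¹ᵁ W) = W := by
    rw [Scheme.Hom.image_preimage_eq_opensRange_inf, Scheme.Opens.opensRange_ι,
      inf_eq_right.mpr hWV]
  have h2 : IsAffineOpen ((f ∣_ V) ⁻¹ᵁ (V.ι ⁻¹ᵁ W)) := h1.preimage (f ∣_ V)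
  have h3 : IsAffineOpen ((f ⁻¹ᵁ V).ι ''ᵁ ((f ∣_ V) ⁻¹ᵁ (V.ι ⁻¹ᵁ W))) :=
    h2.image_of_isOpenImmersion _
  have h4 : (f ⁻¹ᵁ V).ι ''ᵁ ((f ∣_ V) ⁻¹ᵁ (V.ι ⁻¹ᵁ W)) = f ⁻¹ᵁ W := by
    rw [image_morphismRestrict_preimage, e]
  rw [h4] at h3
  exact h3

/-- A proper birational morphism between integral locally Noetherian schemes with
`f_* O_X = O_Y` is an isomorphism over an open subset whose complement has codimension at
least two. -/
theorem exists_open_isIso_codim_two [IsLocallyNoetherian X] [IsLocallyNoetherian Y]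
    [IsIntegral X] [IsIntegral Y] (f : X ⟶ Y) [IsProper f]
    (hbir : ∃ U : Y.Opens, (U : Set Y).Nonempty ∧ IsIso (f ∣_ U))
    (hO : ∀ U : Y.Opens, Function.Bijective (f.app U)) :
    ∃ V : Y.Opens, IsIso (f ∣_ V) ∧
      ∀ y : Y, y ∉ (V : Set Y) → 2 ≤ ringKrullDim (Y.presheaf.stalk y) := by
  classical
  obtain ⟨V, hViso, hVmax⟩ := Groth.Agent.Lib.Helper11.Birat6.exists_maximal_iso_open f
  refine ⟨V, hViso, ?_⟩
  intro y hyV
  by_contra hdim
  have hle1 : ringKrullDim (Y.presheaf.stalk y) ≤ 1 := le_one_of_not_two_le _ hdim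
  apply hyV
  obtain ⟨U₀, hU₀ne, hU₀iso⟩ := hbir
  have hd : Dense (U₀ : Set Y) := U₀.2.dense hU₀ne
  have hd' : Dense ((f ⁻¹ᵁ U₀ : X.Opens) : Set X) := by
    apply (f ⁻¹ᵁ U₀).2.dense
    obtain ⟨v, hv⟩ := hU₀ne
    obtain ⟨w, -⟩ := (f ∣_ U₀).surjective ⟨v, hv⟩
    exact ⟨w.1, w.2⟩
  have hfin : (f ⁻¹' {y}).Finite :=
    Groth.Agent.Lib.Helper12.BiratFinFibre.finite_fibre f U₀ hd hd' hU₀iso y hle1
  obtain ⟨V', hyV', hV'fin⟩ :=
    exists_isFinite_morphismRestrict_of_finite_preimage_singleton f y hfin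
  obtain ⟨D, hD, hyD, hDle⟩ : ∃ D : Y.Opens, IsAffineOpen D ∧ y ∈ D ∧ D ≤ V' := by
    obtain ⟨_, ⟨D, hD, rfl⟩, hyD, hle⟩ :=
      Y.isBasis_affineOpens.exists_subset_of_mem_open hyV' V'.2
    exact ⟨D, hD, hyD, hle⟩
  have hfD : IsAffineOpen (f ⁻¹ᵁ D) :=
    isAffineOpen_preimage_of_isFinite_restrict f V' D hDle hD hV'fin
  haveI hisoD : IsIso (f ∣_ D) := isIso_restrict_of_app_bijective f D hD hfD (hO D)
  obtain ⟨x', hx'⟩ := (f ∣_ D).surjective ⟨y, hyD⟩
  have hxy : f ((f ⁻¹ᵁ D).ι x') = y := by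
    have h1 := morphismRestrict_base_coe f D x'
    rw [hx'] at h1
    exact h1.symm
  have := hVmax ((f ⁻¹ᵁ D).ι x') ⟨f ⁻¹ᵁ D, x'.2, by rw [← morphismRestrict_ι]; infer_instance⟩
  rw [hxy] at this
  exact this

end Groth.Agent.Lib.Helper27.CodimTwoIso
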