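import Mathlib

/-!
# Primes of coheight one in a Noetherian local ring (helper27)

* `dimensionLEOne_of_forall_mem`: a Noetherian local domain having a nonzero element that lies
  in every nonzero prime has dimension `≤ 1`.
* `exists_prime_dimensionLEOne_not_mem`: in a reduced Noetherian local ring which is not a field,
  every nonzero element avoids some prime `P ≠ 𝔪` with `A ⧸ P` of dimension `≤ 1`.
-/

set_option autoImplicit false

open IsLocalRing

namespace Groth.Agent.Lib.Helper27.CohtOne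

theorem dimensionLEOne_of_forall_mem (E : Type*) [CommRing E] [IsDomain E] [IsLocalRing E]
    [IsNoetherianRing E] (y : E) (hy0 : y ≠ 0)
    (hy : ∀ p : Ideal E, p.IsPrime → p ≠ ⊥ → y ∈ p) : Ring.DimensionLEOne E := by
  classical
  refine ⟨fun {p} hp0 hpp => ?_⟩
  by_contra hmax
  haveI := hpp
  have hpm : p < maximalIdeal E :=
    lt_of_le_of_ne (le_maximalIdeal hpp.ne_top)
      (fun h => hmax (h ▸ maximalIdeal.isMaximal E))
  have hbp : (⊥ : Ideal E) < p := bot_lt_iff_ne_bot.mpr hp0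
  haveI : (⊥ : Ideal E).IsPrime := Ideal.isPrime_bot
  -- height of the maximal ideal is at least two
  have hht : (2 : ℕ∞) ≤ (maximalIdeal E).height := by
    have h1 := Ideal.height_add_one_le_of_lt_of_isPrime hbp
    have h2 := Ideal.height_add_one_le_of_lt_of_isPrime hpm
    have h3 : (1 : ℕ∞) ≤ p.height := le_trans (by simp) h1
    calc (2 : ℕ∞) = 1 + 1 := by norm_num
      _ ≤ p.height + 1 := by gcongr
      _ ≤ _ := h2
  have hym : y ∈ maximalIdeal E := hy _ inferInstance (ne_bot_of_gt hpm)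
  -- the minimal primes over (y)
  have hfin : (Ideal.span {y}).minimalPrimes.Finite :=
    Ideal.finite_minimalPrimes_of_isNoetherianRing E _
  let s : Finset (Ideal E) := hfin.toFinset
  have hs : ∀ q ∈ s, q ∈ (Ideal.span {y}).minimalPrimes := fun q hq => hfin.mem_toFinset.mp hq
  have hnot : ¬ ((maximalIdeal E : Set E) ⊆ ⋃ q ∈ (↑s : Set (Ideal E)), (id q : Ideal E)) := by
    intro hsub
    have hpr : ∀ q ∈ s, q ≠ (⊥ : Ideal E) → q ≠ (⊥ : Ideal E) → (id q : Ideal E).IsPrime :=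
      fun q hq _ _ => (hs q hq).1.1
    obtain ⟨q, hq, hle⟩ := (Ideal.subset_union_prime (f := id) ⊥ ⊥ hpr).mp hsub
    have hqmin := hs q hq
    haveI := hqmin.1.1
    have hqeq : q = maximalIdeal E :=
      le_antisymm (le_maximalIdeal hqmin.1.1.ne_top) hle
    have h1 : q.height ≤ 1 :=
      Ideal.height_le_one_of_isPrincipal_of_mem_minimalPrimes (Ideal.span {y}) q hqmin
    rw [hqeq] at h1
    have : (2 : ℕ∞) ≤ 1 := hht.trans h1
    exact absurd this (by norm_num)
  obtain ⟨z, hzm, hz⟩ := Set.not_subset.mp hnot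
  have hz' : ∀ q ∈ (Ideal.span {y}).minimalPrimes, z ∉ q := by
    intro q hq hzq
    apply hz
    simp only [Set.mem_iUnion]
    exact ⟨q, hfin.mem_toFinset.mpr hq, hzq⟩
  have hyne : Ideal.span {y} ≠ ⊤ := by
    intro h
    rw [Ideal.span_singleton_eq_top] at h
    exact (mem_maximalIdeal y).mp hym h
  obtain ⟨q₀, hq₀⟩ := Ideal.nonempty_minimalPrimes hyne
  have hz0 : z ≠ 0 := fun h => hz' q₀ hq₀ (h ▸ q₀.zero_mem)
  have hzne : Ideal.span {z} ≠ ⊤ := by
    intro h
    rw [Ideal.span_singleton_eq_top] at h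
    exact (mem_maximalIdeal z).mp hzm h
  obtain ⟨P', hP'⟩ := Ideal.nonempty_minimalPrimes hzne
  haveI := hP'.1.1
  have hzP' : z ∈ P' := hP'.1.2 (Ideal.subset_span rfl)
  have hP'0 : P' ≠ ⊥ := fun h => hz0 (by rw [h] at hzP'; exact hzP')
  have hyP' : y ∈ P' := hy P' inferInstance hP'0
  have hP'ht : P'.height ≤ 1 :=
    Ideal.height_le_one_of_isPrincipal_of_mem_minimalPrimes (Ideal.span {z}) P' hP'
  obtain ⟨q, hq, hqle⟩ := Ideal.exists_minimalPrimes_le
    (I := Ideal.span {y}) (J := P') ((Ideal.span_singleton_le_iff_mem _).mpr hyP')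
  haveI := hq.1.1
  have hq0 : q ≠ ⊥ := fun h => hy0 (by
    have : y ∈ q := hq.1.2 (Ideal.subset_span rfl)
    rw [h] at this; exact this)
  have hqP : q = P' := by
    by_contra hne
    have hlt : q < P' := lt_of_le_of_ne hqle hne
    have h1 := Ideal.height_add_one_le_of_lt_of_isPrime hlt
    have h0 := Ideal.height_add_one_le_of_lt_of_isPrime (bot_lt_iff_ne_bot.mpr hq0)
    have h3 : (1 : ℕ∞) ≤ q.height := le_trans (by simp) h0
    have : (2 : ℕ∞) ≤ 1 := by
      calc (2 : ℕ∞) = 1 + 1 := by norm_num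
        _ ≤ q.height + 1 := by gcongr
        _ ≤ P'.height := h1
        _ ≤ 1 := hP'ht
    exact absurd this (by norm_num)
  exact hz' q hq (hqP ▸ hzP')

theorem exists_prime_dimensionLEOne_not_mem (A : Type*) [CommRing A] [IsLocalRing A]
    [IsNoetherianRing A] [IsReduced A] (hA : ¬ IsField A) (x : A) (hx : x ≠ 0) :
    ∃ P : Ideal A, P.IsPrime ∧ P ≠ maximalIdeal A ∧ Ring.DimensionLEOne (A ⧸ P) ∧ x ∉ P := by
  classical
  -- reduce to the case `x ∈ 𝔪`
  wlog hxm : x ∈ maximalIdeal A generalizing x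
  · have hu : IsUnit x := by
      by_contra h
      exact hxm ((mem_maximalIdeal x).mpr h)
    have hm : maximalIdeal A ≠ ⊥ := fun h => hA (IsLocalRing.isField_iff_maximalIdeal_eq.mpr h)
    obtain ⟨y, hym, hy0⟩ := Submodule.exists_mem_ne_zero_of_ne_bot hm
    obtain ⟨P, hP, hPm, hdim, -⟩ := this y hy0 hym
    exact ⟨P, hP, hPm, hdim, fun hxP => hP.ne_top (Ideal.eq_top_of_isUnit_mem _ hxP hu)⟩
  -- a prime maximal among those avoiding `x`
  have hnil : ¬ IsNilpotent x := fun h => hx (IsReduced.eq_zero x h)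
  let S : Set (Ideal A) := {P | P.IsPrime ∧ x ∉ P}
  have hS : S.Nonempty := by
    have : x ∉ nilradical A := hnil
    rw [nilradical_eq_sInf, Ideal.mem_sInf] at this
    push Not at this
    obtain ⟨P, hP, hxP⟩ := this
    exact ⟨P, hP, hxP⟩
  obtain ⟨Q, ⟨hQ, hxQ⟩, hQmax⟩ := set_has_maximal_iff_noetherian.mpr
    (inferInstance : IsNoetherian A A) S hS
  haveI := hQ
  refine ⟨Q, hQ, fun h => hxQ (h ▸ hxm), ?_, hxQ⟩
  haveI : IsLocalRing (A ⧸ Q) :=
    IsLocalRing.of_surjective' (Ideal.Quotient.mk Q) Ideal.Quotient.mk_surjective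
  refine dimensionLEOne_of_forall_mem (A ⧸ Q) (Ideal.Quotient.mk Q x)
    (fun h => hxQ (Ideal.Quotient.eq_zero_iff_mem.mp h)) ?_
  intro p hp hp0
  by_contra hxp
  have hcp : (p.comap (Ideal.Quotient.mk Q)) ∈ S :=
    ⟨hp.comap _, fun h => hxp (Ideal.mem_comap.mp h)⟩
  have hle : Q ≤ p.comap (Ideal.Quotient.mk Q) := by
    intro a ha
    rw [Ideal.mem_comap, Ideal.Quotient.eq_zero_iff_mem.mpr ha]
    exact p.zero_mem
  have hlt : Q < p.comap (Ideal.Quotient.mk Q) := by
    refine lt_of_le_of_ne hle (fun h => hp0 ?_)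
    rw [eq_bot_iff]
    intro b hb
    obtain ⟨a, rfl⟩ := Ideal.Quotient.mk_surjective b
    have : a ∈ p.comap (Ideal.Quotient.mk Q) := hb
    rw [← h] at this
    rw [Ideal.mem_bot, Ideal.Quotient.eq_zero_iff_mem]
    exact this
  exact hQmax _ hcp hlt

end Groth.Agent.Lib.Helper27.CohtOne
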