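import Groth.Agent.Lib.Helper27.NagCompl2

/-!
# Coheight-one primes of complete local rings give finite DVR quotients (helper27)
-/

set_option autoImplicit false
set_option linter.style.haveILetI false

universe u

open IsLocalRing

namespace Groth.Agent.Lib.Helper27.CohtOneDVR

theorem exists_dvr (A : Type u) [CommRing A] [IsLocalRing A] [IsNoetherianRing A]
    [IsAdicComplete (maximalIdeal A) A] (P : Ideal A) [P.IsPrime] (hPm : P ≠ maximalIdeal A)
    [Ring.DimensionLEOne (A ⧸ P)] :
    ∃ (V : Type u) (_ : CommRing V) (_ : IsDomain V) (_ : IsDiscreteValuationRing V)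
      (φ : A →+* V), IsLocalHom φ ∧ φ.Finite ∧ RingHom.ker φ = P := by
  haveI : IsLocalRing (A ⧸ P) :=
    IsLocalRing.of_surjective' (Ideal.Quotient.mk P) Ideal.Quotient.mk_surjective
  haveI : IsAdicComplete (maximalIdeal (A ⧸ P)) (A ⧸ P) := by
    have h := Groth.Agent.Lib.Helper15.CS.isAdicComplete_quotient (maximalIdeal A) P
    have e : (maximalIdeal A).map (algebraMap A (A ⧸ P)) = maximalIdeal (A ⧸ P) :=
      map_maximalIdeal_of_surjective (Ideal.Quotient.mk _) Ideal.Quotient.mk_surjective
    rwa [e] at h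
  obtain ⟨hfin, hloc, -⟩ := Groth.Agent.Lib.Helper27.NagCompl.integralClosure_complete
    (A := A ⧸ P) (K' := FractionRing (A ⧸ P))
  haveI := hfin
  haveI := hloc
  haveI : IsNoetherianRing (integralClosure (A ⧸ P) (FractionRing (A ⧸ P))) := by
    have h := IsNoetherianRing.of_finite (A ⧸ P) (integralClosure (A ⧸ P) (FractionRing (A ⧸ P)))
    exact h
  haveI hic : IsIntegrallyClosed (integralClosure (A ⧸ P) (FractionRing (A ⧸ P))) :=
    integralClosure.isIntegrallyClosedOfFiniteExtension (FractionRing (A ⧸ P))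
  have hDnf : ¬ IsField (A ⧸ P) := fun h =>
    hPm (IsLocalRing.eq_maximalIdeal (Ideal.Quotient.maximal_of_isField P h))
  have hinj : Function.Injective
      (algebraMap (A ⧸ P) (integralClosure (A ⧸ P) (FractionRing (A ⧸ P)))) := by
    intro a b hab
    apply IsFractionRing.injective (A ⧸ P) (FractionRing (A ⧸ P))
    have := congrArg (Subtype.val) hab
    exact this
  have hVnf : ¬ IsField (integralClosure (A ⧸ P) (FractionRing (A ⧸ P))) := fun h =>
    hDnf (isField_of_isIntegral_of_isField hinj h)
  haveI hded : IsDedekindDomain (integralClosure (A ⧸ P) (FractionRing (A ⧸ P))) :=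
    { toIsDomain := inferInstance
      toIsDedekindRing :=
        { toIsNoetherian := inferInstance
          toDimensionLEOne := inferInstance
          toIsIntegralClosure := hic } }
  have hdvr : IsDiscreteValuationRing (integralClosure (A ⧸ P) (FractionRing (A ⧸ P))) :=
    ((IsDiscreteValuationRing.TFAE _ hVnf).out 0 2).mpr hded
  refine ⟨integralClosure (A ⧸ P) (FractionRing (A ⧸ P)), inferInstance, inferInstance, hdvr,
    (algebraMap (A ⧸ P) (integralClosure (A ⧸ P) (FractionRing (A ⧸ P)))).comp
      (Ideal.Quotient.mk P), ?_, ?_, ?_⟩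
  · -- local
    refine ⟨fun a ha => ?_⟩
    by_contra hna
    have ham : a ∈ maximalIdeal A := (mem_maximalIdeal a).mpr hna
    have h1 : (Ideal.Quotient.mk P a) ∈ maximalIdeal (A ⧸ P) := by
      rw [← map_maximalIdeal_of_surjective (Ideal.Quotient.mk P) Ideal.Quotient.mk_surjective]
      exact Ideal.mem_map_of_mem _ ham
    haveI hmax : ((maximalIdeal (integralClosure (A ⧸ P) (FractionRing (A ⧸ P)))).comap
        (algebraMap (A ⧸ P) (integralClosure (A ⧸ P) (FractionRing (A ⧸ P))))).IsMaximal :=
      Ideal.isMaximal_comap_of_isIntegral_of_isMaximal _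
    have h2 := IsLocalRing.eq_maximalIdeal hmax
    rw [← h2, Ideal.mem_comap] at h1
    exact (mem_maximalIdeal _).mp h1 ha
  · exact RingHom.Finite.comp (RingHom.finite_algebraMap.mpr hfin)
      (RingHom.Finite.of_surjective _ Ideal.Quotient.mk_surjective)
  · ext a
    rw [RingHom.mem_ker, RingHom.comp_apply, map_eq_zero_iff _ hinj, Ideal.Quotient.eq_zero_iff_mem]

end Groth.Agent.Lib.Helper27.CohtOneDVR
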