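import Mathlib
import Groth.Prelude.Def_EtRam
import Groth.Agent.Lib.Helper27.ASR4

/-! Tame / unramified extensions in towers (valuation subring formulation of `EtRam`). -/

set_option autoImplicit false

namespace Groth.Agent.Lib.Helper27.TT
open IsLocalRing

universe u

section Val
variable {L : Type*} [Field L]

theorem val_lt_one_iff (V : ValuationSubring L) {x : L} (hx : x ≠ 0) :
    V.valuation x < 1 ↔ x⁻¹ ∉ V := by
  rw [← V.valuation_le_one_iff, map_inv₀, not_le,
    one_lt_inv₀ (zero_lt_iff.mpr ((Valuation.ne_zero_iff _).mpr hx))]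

end Val

section Ext
variable {L M : Type*} [Field L] [Field M] [Algebra L M]

/-- Chevalley: every valuation subring extends to an overfield. -/
theorem exists_ext (V : ValuationSubring L) :
    ∃ W : ValuationSubring M, W.comap (algebraMap L M) = V := by
  obtain ⟨W, hle, hloc⟩ :=
    (LocalSubring.range ((algebraMap L M).comp V.subtype)).exists_le_valuationSubring
  refine ⟨W, ?_⟩
  ext x
  rw [ValuationSubring.mem_comap]
  constructor
  · intro hx
    by_contra hxV
    have hx0 : x ≠ 0 := fun h0 => hxV (h0 ▸ V.zero_mem)
    have hinv : x⁻¹ ∈ V := (V.mem_or_inv_mem x).resolve_left hxV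
    have hy : algebraMap L M x⁻¹ ∈
        (LocalSubring.range ((algebraMap L M).comp V.subtype)).toSubring := by
      rw [LocalSubring.range_toSubring]
      exact ⟨⟨x⁻¹, hinv⟩, rfl⟩
    have hyu : IsUnit (Subring.inclusion hle ⟨algebraMap L M x⁻¹, hy⟩) := by
      refine isUnit_iff_exists_inv.mpr ⟨⟨algebraMap L M x, hx⟩, Subtype.ext ?_⟩
      show algebraMap L M x⁻¹ * algebraMap L M x = 1
      rw [← map_mul, inv_mul_cancel₀ hx0, map_one]
    obtain ⟨z, hz⟩ := isUnit_iff_exists_inv.mp (hloc.map_nonunit _ hyu)
    have hz2 : ∀ m : M, m ∈ (LocalSubring.range ((algebraMap L M).comp V.subtype)).toSubring →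
        m ∈ ((algebraMap L M).comp V.subtype).range := fun m hm => by
      rwa [LocalSubring.range_toSubring] at hm
    obtain ⟨v, hv⟩ := hz2 _ z.2
    have h1 : algebraMap L M x⁻¹ * algebraMap L M (v : L) = 1 := by
      have h0 : algebraMap L M x⁻¹ * (z : M) = 1 := congrArg Subtype.val hz
      rw [← hv] at h0
      exact h0
    have h2 : x⁻¹ * (v : L) = 1 := by
      apply (algebraMap L M).injective
      rw [map_mul, h1, map_one]
    have h3 : (v : L) = x := by
      calc (v : L) = x * (x⁻¹ * (v : L)) := by rw [← mul_assoc, mul_inv_cancel₀ hx0, one_mul]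
        _ = x := by rw [h2, mul_one]
    exact hxV (h3 ▸ v.2)
  · intro hx
    have : algebraMap L M x ∈ W.toLocalSubring.toSubring := by
      apply hle
      rw [LocalSubring.range_toSubring]
      exact ⟨⟨x, hx⟩, rfl⟩
    exact this

end Ext

section ExtU
variable {L M : Type u} [Field L] [Field M] [Algebra L M]

theorem dominates_VW (W : ValuationSubring M) :
    EtRam.Dominates (W.comap (algebraMap L M))
      ((algebraMap L M).comp (W.comap (algebraMap L M)).subtype) W := by
  refine ⟨fun x => x.2, fun x hx => ?_⟩
  rw [ValuationSubring.valuation_lt_one_iff] at hx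
  show W.valuation (algebraMap L M (x : L)) < 1
  by_cases h0 : (x : L) = 0
  · rw [h0, map_zero, map_zero]; exact zero_lt_one
  · rw [val_lt_one_iff _ ((map_ne_zero _).mpr h0), ← map_inv₀]
    exact (val_lt_one_iff _ h0).mp hx

end ExtU

section Tower
variable {L M : Type*} [Field L] [Field M] [Algebra L M]
  {V : ValuationSubring L} {W : ValuationSubring M} [algVW : Algebra V W]
  (hVW : ∀ x : V, ((algebraMap V W x : W) : M) = algebraMap L M (x : L))
  (hcomap : ∀ x : L, algebraMap L M x ∈ W → x ∈ V)
include hVW

theorem injective_VW : Function.Injective (algebraMap V W) := by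
  intro x y hxy
  apply Subtype.ext
  apply (algebraMap L M).injective
  rw [← hVW, ← hVW, hxy]

include hcomap

theorem isLocalHom_VW : IsLocalHom (algebraMap V W) := by
  constructor
  intro x hx
  obtain ⟨w, hw⟩ := isUnit_iff_exists_inv.mp hx
  have h1 : algebraMap L M (x : L) * (w : M) = 1 := by
    rw [← hVW]; exact congrArg Subtype.val hw
  have hx0 : (x : L) ≠ 0 := by
    intro h0; rw [h0, map_zero, zero_mul] at h1; exact zero_ne_one h1
  have hw' : (w : M) = algebraMap L M (x : L)⁻¹ := by
    rw [map_inv₀]; exact eq_inv_of_mul_eq_one_right h1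
  have hinv : (x : L)⁻¹ ∈ V := hcomap _ (hw' ▸ w.2)
  exact isUnit_iff_exists_inv.mpr ⟨⟨_, hinv⟩, Subtype.ext (mul_inv_cancel₀ hx0)⟩

end Tower

section LocalHom
variable {A : Type u} [CommRing A] [IsLocalRing A] {L : Type u} [Field L] [Algebra A L]

theorem isLocalHom_of_dominates {V : ValuationSubring L}
    (hV : EtRam.Dominates A (algebraMap A L) V)
    [algAV : Algebra A V] (hAV : ∀ a : A, ((algebraMap A V a : V) : L) = algebraMap A L a) :
    IsLocalHom (algebraMap A V) := by
  constructor
  intro a ha
  by_contra hna
  have hmem : a ∈ maximalIdeal A := (mem_maximalIdeal a).mpr hna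
  have hlt := hV.2 a hmem
  rw [← hAV] at hlt
  have := (V.valuation_eq_one_iff _).mp ha
  exact hlt.ne this

end LocalHom

section DVR
variable {A : Type u} {K : Type u} [CommRing A] [IsDomain A] [IsDiscreteValuationRing A]
  [Field K] [Algebra A K] [IsFractionRing A K]
  {L : Type u} [Field L] [Algebra K L] [Algebra A L] [IsScalarTower A K L]
  [FiniteDimensional K L] [Algebra.IsSeparable K L]

include K in
theorem isDVR_of_dominates {V : ValuationSubring L}
    (h : EtRam.Dominates A (algebraMap A L) V) : IsDiscreteValuationRing V := by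
  classical
  haveI hBd : IsDedekindDomain (integralClosure A L) := integralClosure.isDedekindDomain A K L
  haveI hBf : IsFractionRing (integralClosure A L) L :=
    integralClosure.isFractionRing_of_finite_extension K L
  have hBV : ∀ b : integralClosure A L, algebraMap (integralClosure A L) L b ∈ V := by
    intro b
    obtain ⟨H, hH, hroot⟩ := b.2
    exact ASR.mem_of_monic_root h H hH _ (by rw [Polynomial.aeval_def]; exact hroot)
  let ι : integralClosure A L →+* V :=
    RingHom.codRestrict (algebraMap (integralClosure A L) L) V hBV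
  have hι : ∀ b, ((ι b : V) : L) = (b : L) := fun _ => rfl
  let P : Ideal (integralClosure A L) := (maximalIdeal V).comap ι
  haveI hPp : P.IsPrime := Ideal.comap_isPrime ι _
  obtain ⟨π, hπ⟩ := IsDiscreteValuationRing.exists_irreducible A
  have hπmem : π ∈ maximalIdeal A := (mem_maximalIdeal π).mpr hπ.not_isUnit
  have hP0 : P ≠ ⊥ := by
    intro hbot
    have hmem : algebraMap A (integralClosure A L) π ∈ P := by
      show ι (algebraMap A (integralClosure A L) π) ∈ maximalIdeal V
      rw [ValuationSubring.valuation_lt_one_iff]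
      exact h.2 π hπmem
    rw [hbot, Ideal.mem_bot] at hmem
    have : algebraMap A L π = 0 := congrArg Subtype.val hmem
    exact hπ.ne_zero (ASR.algebraMap_AL_injective A K L (by rw [this, map_zero]))
  haveI : IsDiscreteValuationRing (Localization.AtPrime P) :=
    IsLocalization.AtPrime.isDiscreteValuationRing_of_dedekind_domain _ hP0 _
  have hunits : ∀ s : P.primeCompl, IsUnit (ι s) := by
    intro s
    exact notMem_maximalIdeal.mp s.2
  let φ : Localization.AtPrime P →+* V := IsLocalization.lift (M := P.primeCompl) hunits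
  have hφinj : Function.Injective φ := by
    rw [injective_iff_map_eq_zero]
    intro z hz
    obtain ⟨b, s, rfl⟩ := IsLocalization.exists_mk'_eq P.primeCompl z
    rw [IsLocalization.lift_mk'_spec, mul_zero] at hz
    have hb : b = 0 := Subtype.ext (show (b : L) = 0 from congrArg Subtype.val hz)
    rw [hb, IsLocalization.mk'_zero]
  have hφsurj : Function.Surjective φ := by
    letI : Algebra (Localization.AtPrime P) L := (V.subtype.comp φ).toAlgebra
    haveI : IsScalarTower (integralClosure A L) (Localization.AtPrime P) L :=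
      .of_algebraMap_eq fun b => by
        show (b : L) = ((φ (algebraMap _ _ b) : V) : L)
        rw [IsLocalization.lift_eq]
        exact (hι b).symm
    haveI : IsFractionRing (Localization.AtPrime P) L :=
      IsFractionRing.isFractionRing_of_isDomain_of_isLocalization P.primeCompl _ _
    intro x
    rcases ValuationRing.isInteger_or_isInteger (Localization.AtPrime P) (x : L) with
      ⟨y, hy⟩ | ⟨y, hy⟩
    · exact ⟨y, Subtype.ext hy⟩
    · by_cases hx0 : (x : L) = 0
      · exact ⟨0, by rw [map_zero]; exact Subtype.ext hx0.symm⟩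
      obtain ⟨b, s, rfl⟩ := IsLocalization.exists_mk'_eq P.primeCompl y
      have hyv : ((φ (IsLocalization.mk' _ b s) : V) : L) = (x : L)⁻¹ := hy
      have hvx : φ (IsLocalization.mk' _ b s) * x = 1 :=
        Subtype.ext (by show ((φ _ : V) : L) * (x : L) = 1; rw [hyv, inv_mul_cancel₀ hx0])
      have hspec : ι b = ι s * φ (IsLocalization.mk' _ b s) :=
        (IsLocalization.lift_mk'_spec _ _ _ _).mp rfl
      have hbP : b ∉ P := by
        intro hbP
        have h1 : ι s * φ (IsLocalization.mk' _ b s) ∈ maximalIdeal V := hspec ▸ hbP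
        have h2 : φ (IsLocalization.mk' _ b s) ∈ maximalIdeal V := by
          have := Ideal.mul_mem_left _ ((hunits s).unit⁻¹ : Vˣ).1 h1
          rwa [← mul_assoc, IsUnit.val_inv_mul, one_mul] at this
        exact (mem_maximalIdeal _).mp h2 (isUnit_iff_exists_inv.mpr ⟨x, hvx⟩)
      refine ⟨IsLocalization.mk' _ (s : integralClosure A L) (⟨b, hbP⟩ : P.primeCompl), ?_⟩
      rw [IsLocalization.lift_mk'_spec]
      show ι s = ι b * x
      rw [hspec, mul_assoc, hvx, mul_one]
  exact IsDiscreteValuationRing.RingEquivClass.isDiscreteValuationRing (RingEquiv.ofBijective φ ⟨hφinj, hφsurj⟩)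

end DVR

end Groth.Agent.Lib.Helper27.TT
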