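import Mathlib
import Groth.Prelude.Def_EtRam
import Groth.Agent.Lib.Helper27.TameTower

/-! Tame / unramified extensions in towers: main lemmas. -/

set_option autoImplicit false

namespace Groth.Agent.Lib.Helper27.TT
open IsLocalRing

universe u

section Main
variable {A : Type u} {K : Type u} [CommRing A] [IsDomain A] [IsDiscreteValuationRing A]
  [Field K] [Algebra A K] [IsFractionRing A K]
  {L M : Type u} [Field L] [Field M] [Algebra K L] [Algebra K M] [Algebra L M]
  [IsScalarTower K L M]
  [Algebra A L] [IsScalarTower A K L] [Algebra A M] [IsScalarTower A K M] [IsScalarTower A L M]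

omit [IsDomain A] [IsDiscreteValuationRing A] [IsFractionRing A K] [IsScalarTower K L M]
  [IsScalarTower A K L] [IsScalarTower A K M] [Algebra K L] [Algebra K M] [Algebra A K] in
theorem dominates_comap [IsLocalRing A] {W : ValuationSubring M}
    (hW : EtRam.Dominates A (algebraMap A M) W) :
    EtRam.Dominates A (algebraMap A L) (W.comap (algebraMap L M)) := by
  have e : ∀ a : A, algebraMap L M (algebraMap A L a) = algebraMap A M a := fun a =>
    (IsScalarTower.algebraMap_apply A L M a).symm
  refine ⟨fun a => ?_, fun a ha => ?_⟩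
  · rw [ValuationSubring.mem_comap, e]; exact hW.1 a
  · by_cases h0 : algebraMap A L a = 0
    · rw [h0, map_zero]; exact zero_lt_one
    · have hM0 : algebraMap A M a ≠ 0 := by rw [← e]; exact (map_ne_zero _).mpr h0
      rw [val_lt_one_iff _ h0, ValuationSubring.mem_comap, map_inv₀, e,
        ← val_lt_one_iff _ hM0]
      exact hW.2 a ha

omit [IsDomain A] [IsDiscreteValuationRing A] [IsFractionRing A K] [IsScalarTower K L M]
  [IsScalarTower A K L] [IsScalarTower A K M] [Algebra K L] [Algebra K M] [Algebra A K] in
theorem dominates_of_comap [IsLocalRing A] {W : ValuationSubring M}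
    (hV : EtRam.Dominates A (algebraMap A L) (W.comap (algebraMap L M))) :
    EtRam.Dominates A (algebraMap A M) W := by
  have e : ∀ a : A, algebraMap L M (algebraMap A L a) = algebraMap A M a := fun a =>
    (IsScalarTower.algebraMap_apply A L M a).symm
  refine ⟨fun a => ?_, fun a ha => ?_⟩
  · rw [← e]; exact hV.1 a
  · by_cases h0 : algebraMap A L a = 0
    · rw [← e, h0, map_zero, map_zero]; exact zero_lt_one
    · have hM0 : algebraMap A M a ≠ 0 := by rw [← e]; exact (map_ne_zero _).mpr h0
      rw [val_lt_one_iff _ hM0, ← e, ← map_inv₀]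
      exact (val_lt_one_iff _ h0).mp (hV.2 a ha)

section Core
variable {V : ValuationSubring L} {W : ValuationSubring M}
  [algAV : Algebra A V] [algAW : Algebra A W] [algVW : Algebra V W]
  (hAV : ∀ a : A, ((algebraMap A V a : V) : L) = algebraMap A L a)
  (hAW : ∀ a : A, ((algebraMap A W a : W) : M) = algebraMap A M a)
  (hVW : ∀ x : V, ((algebraMap V W x : W) : M) = algebraMap L M (x : L))
  (hcomap : ∀ x : L, algebraMap L M x ∈ W → x ∈ V)

include hAV hAW hVW in
omit [IsDomain A] [IsDiscreteValuationRing A] [IsFractionRing A K] [IsScalarTower K L M]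
  [IsScalarTower A K L] [IsScalarTower A K M] [Algebra K L] [Algebra K M] [Algebra A K] in
theorem isScalarTower_AVW : IsScalarTower A V W :=
  .of_algebraMap_eq fun a => Subtype.ext (by
    rw [hAW, hVW, hAV, ← IsScalarTower.algebraMap_apply])

include hAV hAW hVW hcomap in
theorem ram_mul [FiniteDimensional K M] [Algebra.IsSeparable K M]
    (hV : EtRam.Dominates A (algebraMap A L) V) (hW : EtRam.Dominates A (algebraMap A M) W) :
    Ideal.ramificationIdx' (maximalIdeal A) (maximalIdeal W) =
      Ideal.ramificationIdx' (maximalIdeal A) (maximalIdeal V) *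
        Ideal.ramificationIdx' (maximalIdeal V) (maximalIdeal W) := by
  haveI : FiniteDimensional K L := Module.Finite.left K L M
  haveI : Algebra.IsSeparable K L := Algebra.isSeparable_tower_bot_of_isSeparable K L M
  haveI := isDVR_of_dominates (K := K) hV
  haveI := isDVR_of_dominates (K := K) hW
  haveI : IsScalarTower A V W := isScalarTower_AVW hAV hAW hVW
  have hloc : IsLocalHom (algebraMap V W) := isLocalHom_VW hVW hcomap
  have hinjAW : Function.Injective (algebraMap A W) := fun a b hab =>
    ASR.algebraMap_AL_injective A K M (by rw [← hAW, ← hAW, hab])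
  apply Ideal.ramificationIdx'_algebra_tower
  · rw [Ne, Ideal.map_eq_bot_iff_of_injective (injective_VW hVW)]
    exact IsDiscreteValuationRing.not_a_field V
  · rw [Ne, Ideal.map_eq_bot_iff_of_injective hinjAW]
    exact IsDiscreteValuationRing.not_a_field A
  · exact ((local_hom_TFAE (algebraMap V W)).out 0 2).mp hloc

include hAV hAW hVW hcomap in
include K in
theorem weaklyUnram_bot [hlocAV : IsLocalHom (algebraMap A V)]
    (h : EtRam.IsWeaklyUnramified A W) : EtRam.IsWeaklyUnramified A V := by
  obtain ⟨π, hπ⟩ := IsDiscreteValuationRing.exists_irreducible A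
  have hmax : maximalIdeal A = Ideal.span {π} := hπ.maximalIdeal_eq
  unfold EtRam.IsWeaklyUnramified at h ⊢
  apply le_antisymm
  · exact ((local_hom_TFAE (algebraMap A V)).out 0 2).mp hlocAV
  · intro x hx
    haveI := isLocalHom_VW hVW hcomap
    have hxW : algebraMap V W x ∈ maximalIdeal W := by
      rw [mem_maximalIdeal, mem_nonunits_iff] at hx ⊢
      exact fun hu => hx (isUnit_of_map_unit (algebraMap V W) x hu)
    rw [← h, hmax, Ideal.map_span, Set.image_singleton, Ideal.mem_span_singleton'] at hxW
    obtain ⟨w, hw⟩ := hxW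
    have hwM : (w : M) * algebraMap A M π = algebraMap L M (x : L) := by
      rw [← hAW, ← hVW, ← hw]; rfl
    have hπL : algebraMap A L π ≠ 0 := fun h0 =>
      hπ.ne_zero (ASR.algebraMap_AL_injective A K L (by rw [h0, map_zero]))
    have hπM : algebraMap A M π ≠ 0 := fun h0 =>
      hπ.ne_zero (ASR.algebraMap_AL_injective A K M (by rw [h0, map_zero]))
    have ht : (x : L) / algebraMap A L π ∈ V := by
      apply hcomap
      rw [map_div₀, ← hwM, ← IsScalarTower.algebraMap_apply A L M, mul_div_assoc,
        div_self hπM, mul_one]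
      exact w.2
    have hx' : x = ⟨_, ht⟩ * algebraMap A V π := by
      apply Subtype.ext
      show (x : L) = (x : L) / algebraMap A L π * ((algebraMap A V π : V) : L)
      rw [hAV, div_mul_cancel₀ _ hπL]
    rw [hx', hmax, Ideal.map_span, Set.image_singleton]
    exact Ideal.mul_mem_left _ _ (Ideal.subset_span rfl)

include hAV hAW hVW in
omit [IsDomain A] [IsDiscreteValuationRing A] [IsFractionRing A K] [IsScalarTower K L M]
  [IsScalarTower A K L] [IsScalarTower A K M] [Algebra K L] [Algebra K M] [Algebra A K] in
theorem weaklyUnram_trans [IsLocalRing A] (h1 : EtRam.IsWeaklyUnramified A V)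
    (h2 : EtRam.IsWeaklyUnramified V W) : EtRam.IsWeaklyUnramified A W := by
  haveI : IsScalarTower A V W := isScalarTower_AVW hAV hAW hVW
  unfold EtRam.IsWeaklyUnramified at h1 h2 ⊢
  rw [IsScalarTower.algebraMap_eq A V W, ← Ideal.map_map, h1, h2]

end Core

end Main

end Groth.Agent.Lib.Helper27.TT
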