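import Mathlib
import Groth.Prelude.Def_EtRam
import Groth.Agent.Lib.Helper27.TameTower

/-! Unramified extensions of a DVR are formally unramified (valuation subring formulation). -/

set_option autoImplicit false

namespace Groth.Agent.Lib.Helper27.UBC
open IsLocalRing

universe u

section DVR
variable {A : Type u} {K : Type u} [CommRing A] [IsDomain A] [IsDiscreteValuationRing A]
  [Field K] [Algebra A K] [IsFractionRing A K]
  {L : Type u} [Field L] [Algebra K L] [Algebra A L] [IsScalarTower A K L]
  [FiniteDimensional K L] [Algebra.IsSeparable K L]

include K in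
/-- A valuation subring of a finite separable extension dominating a DVR is essentially of finite
type over it (it is a localization of the integral closure). -/
theorem essFiniteType_of_dominates {V : ValuationSubring L}
    (h : EtRam.Dominates A (algebraMap A L) V) [Algebra A V]
    (hAV : ∀ a : A, ((algebraMap A V a : V) : L) = algebraMap A L a) :
    Algebra.EssFiniteType A V := by
  classical
  haveI hBd : IsDedekindDomain (integralClosure A L) := integralClosure.isDedekindDomain A K L
  haveI hBf : IsFractionRing (integralClosure A L) L :=
    integralClosure.isFractionRing_of_finite_extension K L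
  haveI hfin : Module.Finite A (integralClosure A L) := IsIntegralClosure.finite A K L _
  have hBV : ∀ b : integralClosure A L, algebraMap (integralClosure A L) L b ∈ V := by
    intro b
    obtain ⟨H, hH, hroot⟩ := b.2
    exact ASR.mem_of_monic_root h H hH _ (by rw [Polynomial.aeval_def]; exact hroot)
  let ι : integralClosure A L →+* V :=
    RingHom.codRestrict (algebraMap (integralClosure A L) L) V hBV
  have hι : ∀ b, ((ι b : V) : L) = (b : L) := fun _ => rfl
  let P : Ideal (integralClosure A L) := (maximalIdeal V).comap ι
  haveI hPp : P.IsPrime := Ideal.comap_isPrime ι _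
  have hunits : ∀ s : P.primeCompl, IsUnit (ι s) := by
    intro s
    exact notMem_maximalIdeal.mp s.2
  let φ : Localization.AtPrime P →+* V := IsLocalization.lift (M := P.primeCompl) hunits
  have hφsurj : Function.Surjective φ := by
    letI : Algebra (Localization.AtPrime P) L := (V.subtype.comp φ).toAlgebra
    haveI : IsScalarTower (integralClosure A L) (Localization.AtPrime P) L :=
      .of_algebraMap_eq fun b => by
        show (b : L) = ((φ (algebraMap _ _ b) : V) : L)
        rw [IsLocalization.lift_eq]
        exact (hι b).symm
    haveI : IsFractionRing (Localization.AtPrime P) L :=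
      IsFractionRing.isFractionRing_of_isDomain_of_isLocalization P.primeCompl _ _
    intro x
    rcases ValuationRing.isInteger_or_isInteger (Localization.AtPrime P) (x : L) with
      ⟨y, hy⟩ | ⟨y, hy⟩
    · exact ⟨y, Subtype.ext hy⟩
    · by_cases hx0 : (x : L) = 0
      · exact ⟨0, by rw [map_zero]; exact Subtype.ext hx0.symm⟩
      obtain ⟨b, s, rfl⟩ := IsLocalization.exists_mk'_eq P.primeCompl y
      have hyv : ((φ (IsLocalization.mk' _ b s) : V) : L) = (x : L)⁻¹ := hy
      have hvx : φ (IsLocalization.mk' _ b s) * x = 1 :=
        Subtype.ext (by show ((φ _ : V) : L) * (x : L) = 1; rw [hyv, inv_mul_cancel₀ hx0])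
      have hspec : ι b = ι s * φ (IsLocalization.mk' _ b s) :=
        (IsLocalization.lift_mk'_spec _ _ _ _).mp rfl
      have hbP : b ∉ P := by
        intro hbP
        have h1 : ι s * φ (IsLocalization.mk' _ b s) ∈ maximalIdeal V := hspec ▸ hbP
        have h2 : φ (IsLocalization.mk' _ b s) ∈ maximalIdeal V := by
          have := Ideal.mul_mem_left _ ((hunits s).unit⁻¹ : Vˣ).1 h1
          rwa [← mul_assoc, IsUnit.val_inv_mul, one_mul] at this
        exact (mem_maximalIdeal _).mp h2 (isUnit_iff_exists_inv.mpr ⟨x, hvx⟩)
      refine ⟨IsLocalization.mk' _ (s : integralClosure A L) (⟨b, hbP⟩ : P.primeCompl), ?_⟩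
      rw [IsLocalization.lift_mk'_spec]
      show ι s = ι b * x
      rw [hspec, mul_assoc, hvx, mul_one]
  let φA : Localization.AtPrime P →ₐ[A] V :=
    { φ with
      commutes' := fun a => by
        show φ (algebraMap A (Localization.AtPrime P) a) = algebraMap A V a
        rw [IsScalarTower.algebraMap_apply A (integralClosure A L) (Localization.AtPrime P),
          IsLocalization.lift_eq]
        apply Subtype.ext
        rw [hAV, hι]
        rfl }
  exact Algebra.EssFiniteType.of_surjective φA hφsurj

include K in
/-- Weakly unramified with separable residue extension ⇒ formally unramified. -/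
theorem formallyUnramified_of_unramified {V : ValuationSubring L}
    (h : EtRam.Dominates A (algebraMap A L) V) [Algebra A V]
    (hAV : ∀ a : A, ((algebraMap A V a : V) : L) = algebraMap A L a)
    [IsLocalHom (algebraMap A V)]
    (hw : EtRam.IsWeaklyUnramified A V)
    [Algebra.IsSeparable (ResidueField A) (ResidueField V)] :
    Algebra.FormallyUnramified A V := by
  haveI := essFiniteType_of_dominates (K := K) h hAV
  exact Algebra.FormallyUnramified.of_map_maximalIdeal hw

end DVR

end Groth.Agent.Lib.Helper27.UBC
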