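import Mathlib
import Groth.Prelude.Def_EtRam
import Groth.Agent.Lib.Helper27.UBC1

/-! Base change of unramified extensions of DVRs: abstract core. -/

set_option autoImplicit false

namespace Groth.Agent.Lib.Helper27.UBC
open IsLocalRing TensorProduct

universe u

/-- A local homomorphism from a local ring with principal maximal ideal onto "enough" of a local
domain which is separated for the image of the generator is surjective. -/
theorem surjective_of_principal {R : Type*} [CommRing R] [IsLocalRing R]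
    {V : Type*} [CommRing V] [IsDomain V]
    (χ : R →+* V) [IsLocalHom χ] (π : R) (hπ : maximalIdeal R = Ideal.span {π})
    (hsep : ∀ x : V, x ≠ 0 → ∃ n : ℕ, x ∉ Ideal.span {(χ π) ^ n})
    (hfrac : ∀ y : V, ∃ t₁ t₂ : R, χ t₂ ≠ 0 ∧ y * χ t₂ = χ t₁) :
    Function.Surjective χ := by
  have key : ∀ n : ℕ, ∀ t : R, χ t ∉ Ideal.span {(χ π) ^ n} →
      ∃ (m : ℕ) (u : R), IsUnit u ∧ χ t = (χ π) ^ m * χ u := by
    intro n
    induction n with
    | zero =>
      intro t ht
      exact absurd (by rw [pow_zero, Ideal.span_singleton_one]; trivial) ht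
    | succ n ih =>
      intro t ht
      by_cases hu : IsUnit t
      · exact ⟨0, t, hu, by rw [pow_zero, one_mul]⟩
      · have hmem : t ∈ maximalIdeal R := (mem_maximalIdeal t).mpr hu
        rw [hπ, Ideal.mem_span_singleton] at hmem
        obtain ⟨t', rfl⟩ := hmem
        have ht' : χ t' ∉ Ideal.span {(χ π) ^ n} := by
          intro hc
          apply ht
          rw [Ideal.mem_span_singleton] at hc ⊢
          obtain ⟨c, hc⟩ := hc
          exact ⟨c, by rw [map_mul, hc, pow_succ]; ring⟩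
        obtain ⟨m, u, hu, hm⟩ := ih t' ht'
        exact ⟨m + 1, u, hu, by rw [map_mul, hm, pow_succ]; ring⟩
  intro y
  by_cases hy : y = 0
  · exact ⟨0, by rw [map_zero, hy]⟩
  obtain ⟨t₁, t₂, h2, h12⟩ := hfrac y
  have h1 : χ t₁ ≠ 0 := by rw [← h12]; exact mul_ne_zero hy h2
  obtain ⟨n₁, hn₁⟩ := hsep _ h1
  obtain ⟨n₂, hn₂⟩ := hsep _ h2
  obtain ⟨a, u₁, hu₁, ha⟩ := key n₁ t₁ hn₁
  obtain ⟨b, u₂, hu₂, hb⟩ := key n₂ t₂ hn₂
  have hπa : (χ π) ^ a ≠ 0 := fun h0 => h1 (by rw [ha, h0, zero_mul])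
  have hπb : (χ π) ^ b ≠ 0 := fun h0 => h2 (by rw [hb, h0, zero_mul])
  have hπnu : ¬ IsUnit (χ π) := by
    intro hu
    have : IsUnit π := isUnit_of_map_unit χ π hu
    have hmem : π ∈ maximalIdeal R := by rw [hπ]; exact Ideal.mem_span_singleton_self π
    exact (mem_maximalIdeal π).mp hmem this
  rcases le_or_gt b a with hba | hab
  · refine ⟨π ^ (a - b) * u₁ * ((hu₂.unit⁻¹ : Rˣ) : R), ?_⟩
    have hinv : χ u₂ * χ ((hu₂.unit⁻¹ : Rˣ) : R) = 1 := by
      rw [← map_mul, IsUnit.mul_val_inv, map_one]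
    have e1 : (χ π) ^ b * (y * χ u₂) = (χ π) ^ b * ((χ π) ^ (a - b) * χ u₁) := by
      rw [← mul_assoc ((χ π) ^ b) ((χ π) ^ (a - b)), ← pow_add, Nat.add_sub_cancel' hba, ← ha,
        ← h12, hb]
      ring
    have e2 := mul_left_cancel₀ hπb e1
    rw [map_mul, map_mul, map_pow, ← e2, mul_assoc, hinv, mul_one]
  · exfalso
    have e1 : (χ π) ^ a * ((χ π) ^ (b - a) * (y * χ u₂)) = (χ π) ^ a * χ u₁ := by
      rw [← mul_assoc ((χ π) ^ a) ((χ π) ^ (b - a)), ← pow_add, Nat.add_sub_cancel' hab.le, ← ha,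
        ← h12, hb]
      ring
    have e2 := mul_left_cancel₀ hπa e1
    have hu : IsUnit ((χ π) ^ (b - a) * (y * χ u₂)) := by rw [e2]; exact hu₁.map χ
    have hu' : IsUnit ((χ π) ^ (b - a)) := isUnit_of_mul_isUnit_left hu
    exact hπnu ((isUnit_pow_iff (by omega)).mp hu')

section Abstract
variable {A B V' V : Type u} [CommRing A] [CommRing B] [IsDomain B] [IsDiscreteValuationRing B]
  [Algebra A B] [CommRing V'] [Algebra A V'] [Algebra.FormallyUnramified A V']
  [Algebra.EssFiniteType A V']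
  [CommRing V] [IsDomain V] [IsLocalRing V] [Algebra B V] [IsLocalHom (algebraMap B V)]

theorem abstract_main (ψ : B ⊗[A] V' →ₐ[B] V)
    (hsep : ∀ π : B, Irreducible π → ∀ x : V, x ≠ 0 →
      ∃ n : ℕ, x ∉ Ideal.span {(algebraMap B V π) ^ n})
    (hfrac : ∀ y : V, ∃ t₁ t₂ : B ⊗[A] V', ψ t₂ ≠ 0 ∧ y * ψ t₂ = ψ t₁) :
    EtRam.IsWeaklyUnramified B V ∧
      Algebra.IsSeparable (ResidueField B) (ResidueField V) := by
  classical
  let T := B ⊗[A] V'
  let 𝔮 : Ideal T := (maximalIdeal V).comap ψ.toRingHom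
  haveI h𝔮 : 𝔮.IsPrime := Ideal.comap_isPrime _ _
  let T𝔮 := Localization.AtPrime 𝔮
  haveI : Algebra.FormallyUnramified T T𝔮 := Algebra.FormallyUnramified.of_isLocalization 𝔮.primeCompl
  haveI : Algebra.FormallyUnramified B T𝔮 := Algebra.FormallyUnramified.comp B T T𝔮
  have hunits : ∀ s : 𝔮.primeCompl, IsUnit (ψ.toRingHom s) := by
    intro s
    exact notMem_maximalIdeal.mp s.2
  let χ : T𝔮 →+* V := IsLocalization.lift (M := 𝔮.primeCompl) hunits
  have hχalg : ∀ t : T, χ (algebraMap T T𝔮 t) = ψ t := fun t => IsLocalization.lift_eq _ _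
  have hχB : ∀ b : B, χ (algebraMap B T𝔮 b) = algebraMap B V b := by
    intro b
    rw [IsScalarTower.algebraMap_apply B T T𝔮, hχalg, AlgHom.commutes]
  haveI hχloc : IsLocalHom χ := by
    constructor
    intro z hz
    obtain ⟨t, s, rfl⟩ := IsLocalization.exists_mk'_eq 𝔮.primeCompl z
    have hspec : ψ.toRingHom t = ψ.toRingHom s * χ (IsLocalization.mk' _ t s) :=
      (IsLocalization.lift_mk'_spec _ _ _ _).mp rfl
    have htu : IsUnit (ψ.toRingHom t) := by rw [hspec]; exact (hunits s).mul hz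
    have ht𝔮 : t ∉ 𝔮 := fun hmem => (mem_maximalIdeal _).mp hmem htu
    exact (IsLocalization.AtPrime.isUnit_mk'_iff T𝔮 𝔮 t s).mpr ht𝔮
  haveI hBloc : IsLocalHom (algebraMap B T𝔮) := by
    constructor
    intro b hb
    have : IsUnit (algebraMap B V b) := by rw [← hχB]; exact hb.map χ
    exact isUnit_of_map_unit (algebraMap B V) b this
  have hmax : (maximalIdeal B).map (algebraMap B T𝔮) = maximalIdeal T𝔮 :=
    Algebra.FormallyUnramified.map_maximalIdeal
  haveI hsepT : Algebra.IsSeparable (ResidueField B) (ResidueField T𝔮) := inferInstance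
  obtain ⟨π, hπ⟩ := IsDiscreteValuationRing.exists_irreducible B
  have hmB : maximalIdeal B = Ideal.span {π} := hπ.maximalIdeal_eq
  have hmT : maximalIdeal T𝔮 = Ideal.span {algebraMap B T𝔮 π} := by
    rw [← hmax, hmB, Ideal.map_span, Set.image_singleton]
  have hχsurj : Function.Surjective χ := by
    refine surjective_of_principal χ (algebraMap B T𝔮 π) hmT ?_ ?_
    · intro x hx
      rw [hχB]
      exact hsep π hπ x hx
    · intro y
      obtain ⟨t₁, t₂, h2, h12⟩ := hfrac y
      exact ⟨algebraMap T T𝔮 t₁, algebraMap T T𝔮 t₂, by rw [hχalg]; exact h2, by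
        rw [hχalg, hχalg]; exact h12⟩
  have hcomp : χ.comp (algebraMap B T𝔮) = algebraMap B V := RingHom.ext hχB
  refine ⟨?_, ?_⟩
  · show (maximalIdeal B).map (algebraMap B V) = maximalIdeal V
    rw [← hcomp, ← Ideal.map_map, hmax]
    exact IsLocalRing.map_maximalIdeal_of_surjective χ hχsurj
  · let ρ : ResidueField T𝔮 →ₐ[ResidueField B] ResidueField V :=
      { ResidueField.map χ with
        commutes' := fun r => by
          obtain ⟨b, rfl⟩ := residue_surjective r
          show ResidueField.map χ (ResidueField.map (algebraMap B T𝔮) (residue B b)) =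
            ResidueField.map (algebraMap B V) (residue B b)
          rw [ResidueField.map_residue, ResidueField.map_residue, ResidueField.map_residue, hχB] }
    have hρsurj : Function.Surjective ρ := by
      intro x
      obtain ⟨v, rfl⟩ := residue_surjective x
      obtain ⟨z, rfl⟩ := hχsurj v
      exact ⟨residue T𝔮 z, ResidueField.map_residue χ z⟩
    refine ⟨fun x => ?_⟩
    obtain ⟨z, rfl⟩ := hρsurj x
    exact (Algebra.IsSeparable.isSeparable (ResidueField B) z).map ρ ρ.toRingHom.injective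

end Abstract

end Groth.Agent.Lib.Helper27.UBC
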