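import Mathlib
import Groth.Prelude.Def_EtRam
import Groth.Agent.Lib.Helper27.UBC2

/-! Weak unramifiedness via a local ring with principal maximal ideal: core lemmas. -/

set_option autoImplicit false

namespace Groth.Agent.Lib.Helper27.WU
open IsLocalRing TensorProduct

universe u

/-- Core: if `ψ : T → W` into a local domain is such that the prime `𝔮 = ψ⁻¹ 𝔪_W` becomes
principal (generated by `ϖ`) after localizing, and `W` is separated and "generated by fractions",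
then `𝔪_W` is generated by `ψ ϖ`, and every element of `W` is a fraction with unit denominator. -/
theorem core {T W : Type*} [CommRing T] [CommRing W] [IsDomain W] [IsLocalRing W]
    (ψ : T →+* W) (ϖ : T) (hϖ : ψ ϖ ∈ maximalIdeal W)
    (hq : ∀ t : T, ψ t ∈ maximalIdeal W →
      ∃ s : T, ψ s ∉ maximalIdeal W ∧ s * t ∈ Ideal.span {ϖ})
    (hsep : ∀ x : W, x ≠ 0 → ∃ n : ℕ, x ∉ Ideal.span {(ψ ϖ) ^ n})
    (hfrac : ∀ y : W, ∃ t₁ t₂ : T, ψ t₂ ≠ 0 ∧ y * ψ t₂ = ψ t₁) :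
    maximalIdeal W = Ideal.span {ψ ϖ} ∧
      ∀ w : W, ∃ t s : T, ψ s ∉ maximalIdeal W ∧ w * ψ s = ψ t := by
  classical
  let 𝔮 : Ideal T := (maximalIdeal W).comap ψ
  haveI h𝔮 : 𝔮.IsPrime := Ideal.comap_isPrime _ _
  let T𝔮 := Localization.AtPrime 𝔮
  have hunits : ∀ s : 𝔮.primeCompl, IsUnit (ψ s) := by
    intro s
    exact notMem_maximalIdeal.mp s.2
  let χ : T𝔮 →+* W := IsLocalization.lift (M := 𝔮.primeCompl) hunits
  have hχalg : ∀ t : T, χ (algebraMap T T𝔮 t) = ψ t := fun t => IsLocalization.lift_eq _ _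
  haveI hχloc : IsLocalHom χ := by
    constructor
    intro z hz
    obtain ⟨t, s, rfl⟩ := IsLocalization.exists_mk'_eq 𝔮.primeCompl z
    have hspec : ψ t = ψ s * χ (IsLocalization.mk' _ t s) :=
      (IsLocalization.lift_mk'_spec _ _ _ _).mp rfl
    have htu : IsUnit (ψ t) := by rw [hspec]; exact (hunits s).mul hz
    have ht𝔮 : t ∉ 𝔮 := fun hmem => (mem_maximalIdeal _).mp hmem htu
    exact (IsLocalization.AtPrime.isUnit_mk'_iff T𝔮 𝔮 t s).mpr ht𝔮
  have hmT : maximalIdeal T𝔮 = Ideal.span {algebraMap T T𝔮 ϖ} := by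
    apply le_antisymm
    · intro z hz
      obtain ⟨t, s₀, rfl⟩ := IsLocalization.exists_mk'_eq 𝔮.primeCompl z
      have ht : t ∈ 𝔮 := (IsLocalization.AtPrime.mk'_mem_maximal_iff T𝔮 𝔮 t s₀).mp hz
      obtain ⟨s, hs, hst⟩ := hq t ht
      rw [Ideal.mem_span_singleton] at hst ⊢
      obtain ⟨c, hc⟩ := hst
      have hs' : s ∈ 𝔮.primeCompl := hs
      refine ⟨IsLocalization.mk' T𝔮 c ((⟨s, hs'⟩ : 𝔮.primeCompl) * s₀), ?_⟩
      rw [IsLocalization.mul_mk'_eq_mk'_of_mul, IsLocalization.mk'_eq_iff_eq]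
      congr 1
      show s * (s₀ : T) * t = (s₀ : T) * (ϖ * c)
      rw [← hc]
      ring
    · rw [Ideal.span_le, Set.singleton_subset_iff]
      show algebraMap T T𝔮 ϖ ∈ maximalIdeal T𝔮
      rw [← IsLocalization.mk'_one (M := 𝔮.primeCompl) T𝔮 ϖ,
        IsLocalization.AtPrime.mk'_mem_maximal_iff T𝔮 𝔮]
      exact hϖ
  have hχsurj : Function.Surjective χ := by
    refine UBC.surjective_of_principal χ (algebraMap T T𝔮 ϖ) hmT ?_ ?_
    · intro x hx
      rw [hχalg]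
      exact hsep x hx
    · intro y
      obtain ⟨t₁, t₂, h2, h12⟩ := hfrac y
      exact ⟨algebraMap T T𝔮 t₁, algebraMap T T𝔮 t₂, by rw [hχalg]; exact h2, by
        rw [hχalg, hχalg]; exact h12⟩
  refine ⟨?_, ?_⟩
  · rw [← IsLocalRing.map_maximalIdeal_of_surjective χ hχsurj, hmT, Ideal.map_span,
      Set.image_singleton, hχalg]
  · intro w
    obtain ⟨z, rfl⟩ := hχsurj w
    obtain ⟨t, s, rfl⟩ := IsLocalization.exists_mk'_eq 𝔮.primeCompl z
    refine ⟨t, s, s.2, ?_⟩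
    have hspec : ψ t = ψ s * χ (IsLocalization.mk' _ t s) :=
      (IsLocalization.lift_mk'_spec _ _ _ _).mp rfl
    rw [hspec, mul_comm]

/-- A reduced algebra over a field is "von Neumann regular" at algebraic elements. -/
theorem exists_eq_sq_mul {ℓ R : Type*} [Field ℓ] [CommRing R] [Algebra ℓ R] [IsReduced R]
    (x : R) (hx : IsAlgebraic ℓ x) : ∃ y : R, x = x * x * y := by
  obtain ⟨p, hp0, hpx⟩ := hx
  obtain ⟨q, hpq, hq⟩ := Polynomial.exists_eq_pow_rootMultiplicity_mul_and_not_dvd p hp0 0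
  rw [map_zero, sub_zero] at hpq hq
  have hq0 : q.coeff 0 ≠ 0 := fun h0 => hq (Polynomial.X_dvd_iff.mpr h0)
  set a := Polynomial.rootMultiplicity 0 p with ha
  have h1 : x ^ a * Polynomial.aeval x q = 0 := by
    rw [← hpx, hpq, map_mul, map_pow, Polynomial.aeval_X]
  have h2 : x * Polynomial.aeval x q = 0 := by
    apply IsReduced.eq_zero
    refine ⟨a + 1, ?_⟩
    have e : (x * Polynomial.aeval x q) ^ (a + 1) =
        x ^ a * Polynomial.aeval x q * (x * Polynomial.aeval x q ^ a) := by ring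
    rw [e, h1, zero_mul]
  have h3 : Polynomial.aeval x q =
      Polynomial.aeval x q.divX * x + algebraMap ℓ R (q.coeff 0) := by
    conv_lhs => rw [← Polynomial.divX_mul_X_add q]
    rw [map_add, map_mul, Polynomial.aeval_X, Polynomial.aeval_C]
  rw [h3] at h2
  refine ⟨-(algebraMap ℓ R (q.coeff 0)⁻¹ * Polynomial.aeval x q.divX), ?_⟩
  have hinv : algebraMap ℓ R (q.coeff 0)⁻¹ * algebraMap ℓ R (q.coeff 0) = 1 := by
    rw [← map_mul, inv_mul_cancel₀ hq0, map_one]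
  have h4 : x * algebraMap ℓ R (q.coeff 0) = -(x * x * Polynomial.aeval x q.divX) := by
    rw [eq_neg_iff_add_eq_zero, ← h2]
    ring
  calc x = x * algebraMap ℓ R (q.coeff 0) * algebraMap ℓ R (q.coeff 0)⁻¹ := by
        rw [mul_assoc, mul_comm (algebraMap ℓ R (q.coeff 0)), hinv, mul_one]
    _ = _ := by rw [h4]; ring

section Frac
variable {T M : Type*} [CommRing T] [Field M] (ψ : T →+* M)

/-- `y` is a fraction of elements in the image of `ψ`. -/
def IsFrac (y : M) : Prop := ∃ t₁ t₂ : T, ψ t₂ ≠ 0 ∧ y * ψ t₂ = ψ t₁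

variable {ψ}

theorem isFrac_map (t : T) : IsFrac ψ (ψ t) := ⟨t, 1, by rw [map_one]; exact one_ne_zero, by
  rw [map_one, mul_one]⟩

theorem isFrac_div {a b : T} (hb : ψ b ≠ 0) : IsFrac ψ (ψ a / ψ b) :=
  ⟨a, b, hb, div_mul_cancel₀ _ hb⟩

theorem IsFrac.add {y z : M} (hy : IsFrac ψ y) (hz : IsFrac ψ z) : IsFrac ψ (y + z) := by
  obtain ⟨t₁, t₂, h2, h12⟩ := hy
  obtain ⟨t₁', t₂', h2', h12'⟩ := hz
  refine ⟨t₁ * t₂' + t₁' * t₂, t₂ * t₂', ?_, ?_⟩
  · rw [map_mul]; exact mul_ne_zero h2 h2'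
  · rw [map_mul, map_add, map_mul, map_mul, ← h12, ← h12']
    ring

theorem IsFrac.mul {y z : M} (hy : IsFrac ψ y) (hz : IsFrac ψ z) : IsFrac ψ (y * z) := by
  obtain ⟨t₁, t₂, h2, h12⟩ := hy
  obtain ⟨t₁', t₂', h2', h12'⟩ := hz
  refine ⟨t₁ * t₁', t₂ * t₂', ?_, ?_⟩
  · rw [map_mul]; exact mul_ne_zero h2 h2'
  · rw [map_mul, map_mul, ← h12, ← h12']
    ring

end Frac

end Groth.Agent.Lib.Helper27.WU
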