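import Mathlib
import Groth.Prelude.Def_EtRam
import Groth.Agent.Lib.Helper27.WU1
import Groth.Agent.Lib.Helper27.TameTower2

/-! Separatedness of valuation rings of algebraic extensions over a DVR. -/

set_option autoImplicit false

namespace Groth.Agent.Lib.Helper27.WU
open IsLocalRing TensorProduct

universe u

section Sep
variable {B L M : Type u} [CommRing B] [IsDomain B] [IsDiscreteValuationRing B] [Field L]
  [Algebra B L] [IsFractionRing B L]
  [Field M] [Algebra L M] [Algebra B M] [IsScalarTower B L M] [Algebra.IsAlgebraic L M]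
  {W : ValuationSubring M} (hW : EtRam.Dominates B (algebraMap B M) W)

include L hW

theorem exists_dvd_algebraMap (x : W) (hx : x ≠ 0) :
    ∃ (b : B) (v : W), b ≠ 0 ∧ (⟨algebraMap B M b, hW.1 b⟩ : W) = x * v := by
  haveI : Algebra.IsAlgebraic B L := IsLocalization.isAlgebraic L (nonZeroDivisors B)
  haveI : Algebra.IsAlgebraic B M := Algebra.IsAlgebraic.trans B L M
  have hxM : (x : M) ≠ 0 := fun h0 => hx (Subtype.ext h0)
  obtain ⟨b, hb0, hint⟩ := IsAlgebraic.exists_integral_multiple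
    (Algebra.IsAlgebraic.isAlgebraic (R := B) ((x : M)⁻¹))
  have hmem : b • (x : M)⁻¹ ∈ W := by
    obtain ⟨H, hH, hroot⟩ := hint
    exact ASR.mem_of_monic_root hW H hH _ (by rw [Polynomial.aeval_def]; exact hroot)
  refine ⟨b, ⟨_, hmem⟩, hb0, Subtype.ext ?_⟩
  show algebraMap B M b = (x : M) * (b • (x : M)⁻¹)
  rw [Algebra.smul_def]
  field_simp

theorem sep (ϖ : W) (hϖ : ¬ IsUnit ϖ) (π : B) (hπ : Irreducible π) (k : ℕ) (c : W)
    (hk : ϖ ^ k = ⟨algebraMap B M π, hW.1 π⟩ * c) :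
    ∀ x : W, x ≠ 0 → ∃ n : ℕ, x ∉ Ideal.span {ϖ ^ n} := by
  intro x hx
  obtain ⟨b, v, hb0, hbv⟩ := exists_dvd_algebraMap (L := L) hW x hx
  obtain ⟨n, u, hbu⟩ := IsDiscreteValuationRing.eq_unit_mul_pow_irreducible hb0 hπ
  let ι : B →+* W := RingHom.codRestrict (algebraMap B M) W hW.1
  have hιb : ι b = x * v := hbv
  have hιπ : ϖ ^ k = ι π * c := hk
  refine ⟨k * n + 1, fun hmem => ?_⟩
  rw [Ideal.mem_span_singleton] at hmem
  obtain ⟨d, hd⟩ := hmem
  have hϖ0 : ϖ ≠ 0 := by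
    intro h0
    apply hx
    rw [hd, h0, zero_pow (Nat.succ_ne_zero _), zero_mul]
  have e1 : ϖ ^ (k * n) * (ϖ * (d * v * c ^ n)) = ϖ ^ (k * n) * ι (u : B) := by
    have : ι b * c ^ n = ϖ ^ (k * n) * ι (u : B) := by
      rw [hbu, map_mul, map_pow, pow_mul, hιπ, mul_pow]
      ring
    rw [← this, hιb, hd, pow_succ]
    ring
  have e2 := mul_left_cancel₀ (pow_ne_zero _ hϖ0) e1
  have hu : IsUnit (ϖ * (d * v * c ^ n)) := by rw [e2]; exact u.isUnit.map ι
  exact hϖ (isUnit_of_mul_isUnit_left hu)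

end Sep

end Groth.Agent.Lib.Helper27.WU
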