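import Mathlib
import Groth.Prelude.Def_EtRam
import Groth.Agent.Lib.Helper27.WU2
import Groth.Agent.Lib.Helper12.KrullAkizuki

/-! Valuation rings of finite (possibly inseparable) extensions dominating a DVR are DVRs. -/

set_option autoImplicit false

namespace Groth.Agent.Lib.Helper27.WU
open IsLocalRing TensorProduct

universe u

section DVRfin
variable {A K K₁ : Type u} [CommRing A] [IsDomain A] [IsDiscreteValuationRing A] [Field K]
  [Algebra A K] [IsFractionRing A K]
  [Field K₁] [Algebra K K₁] [Algebra A K₁] [IsScalarTower A K K₁] [FiniteDimensional K K₁]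

include K in
theorem isDVR_of_dominates_finite {V : ValuationSubring K₁}
    (h : EtRam.Dominates A (algebraMap A K₁) V) : IsDiscreteValuationRing V := by
  classical
  let bs := Module.finBasis K K₁
  obtain ⟨y, hy0, hy⟩ := exists_integral_multiples A K (Finset.univ.image bs)
  let β : Fin (Module.finrank K K₁) → K₁ := fun i => y • bs i
  have hβint : ∀ i, IsIntegral A (β i) := fun i =>
    hy _ (Finset.mem_image_of_mem _ (Finset.mem_univ i))
  let A₁ : Subalgebra A K₁ := Algebra.adjoin A (Set.range β)
  have hfg : A₁.toSubmodule.FG :=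
    fg_adjoin_of_finite (Set.finite_range _) (by rintro _ ⟨i, rfl⟩; exact hβint i)
  haveI : Module.Finite A A₁ := ⟨(Submodule.fg_top _).mpr hfg⟩
  haveI : IsNoetherianRing A₁ := IsNoetherianRing.of_finite A A₁
  haveI : Algebra.IsIntegral A A₁ := Algebra.IsIntegral.of_finite A A₁
  haveI : Ring.DimensionLEOne A₁ := Ring.DimensionLEOne.of_isIntegral A A₁
  have hinjA : Function.Injective (algebraMap A K₁) := ASR.algebraMap_AL_injective A K K₁
  have hy' : algebraMap A K y ≠ 0 := by
    intro h0
    exact hy0 (IsFractionRing.injective A K (by rw [h0, map_zero]))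
  haveI : IsFractionRing A₁ K₁ := by
    refine IsFractionRing.of_field (R := A₁) K₁ ?_
    intro z
    obtain ⟨s, hs⟩ := IsLocalization.exist_integer_multiples_of_finset (nonZeroDivisors A)
      (Finset.univ.image fun i => bs.repr z i / algebraMap A K y)
    have hs0 : algebraMap A K₁ (s : A) ≠ 0 := by
      intro h0
      exact nonZeroDivisors.ne_zero s.2 (hinjA (by rw [h0, map_zero]))
    choose a ha using fun i => hs _ (Finset.mem_image_of_mem _ (Finset.mem_univ i))
    have hz : algebraMap A K₁ (s : A) * z = ∑ i, a i • β i := by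
      conv_lhs => rw [← bs.sum_repr z, Finset.mul_sum]
      refine Finset.sum_congr rfl fun i _ => ?_
      have h1 : algebraMap A K (a i) = (s : A) • (bs.repr z i / algebraMap A K y) := ha i
      show _ = a i • (y • bs i)
      rw [← IsScalarTower.algebraMap_smul K (a i), h1, ← IsScalarTower.algebraMap_smul K y,
        IsScalarTower.algebraMap_apply A K K₁, ← Algebra.smul_def, smul_smul, smul_smul,
        Algebra.smul_def (s : A)]
      congr 1
      field_simp
    refine ⟨(⟨∑ i, a i • β i, ?_⟩ : A₁),
      (⟨algebraMap A K₁ (s : A), Subalgebra.algebraMap_mem _ _⟩ : A₁), ?_⟩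
    · exact Subalgebra.sum_mem _ fun i _ =>
        Subalgebra.smul_mem _ (Algebra.subset_adjoin (Set.mem_range_self i)) _
    · show z = (∑ i, a i • β i) / algebraMap A K₁ (s : A)
      rw [← hz, mul_div_cancel_left₀ _ hs0]
  have hA₁V : ∀ r : A₁, algebraMap A₁ K₁ r ∈ V := by
    intro r
    have hint : IsIntegral A (r : K₁) :=
      (Algebra.IsIntegral.isIntegral (R := A) r).map (A₁.val)
    obtain ⟨H, hH, hroot⟩ := hint
    exact ASR.mem_of_monic_root h H hH _ (by rw [Polynomial.aeval_def]; exact hroot)
  have hne : V ≠ ⊤ := by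
    intro htop
    obtain ⟨π, hπ⟩ := IsDiscreteValuationRing.exists_irreducible A
    have hπmem : π ∈ maximalIdeal A := (mem_maximalIdeal π).mpr hπ.not_isUnit
    have hlt := h.2 π hπmem
    have hπ0 : algebraMap A K₁ π ≠ 0 := fun h0 => hπ.ne_zero (hinjA (by rw [h0, map_zero]))
    rw [TT.val_lt_one_iff _ hπ0] at hlt
    exact hlt (htop ▸ ValuationSubring.mem_top _)
  exact Groth.Agent.Lib.Helper12.KA.isDiscreteValuationRing_of_le V hA₁V hne

end DVRfin

end Groth.Agent.Lib.Helper27.WU
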