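import Mathlib
import Groth.Prelude.Def_EtRam
import Groth.Agent.Lib.Helper27.WU1

/-! The fibre `B ⊗_A V₁ / (π₁)` is von Neumann regular when `κ_B/κ_A` is geometrically reduced. -/

set_option autoImplicit false

namespace Groth.Agent.Lib.Helper27.WU
open IsLocalRing TensorProduct

universe u

section Fibre
variable {A B V₁ : Type u} [CommRing A] [IsLocalRing A] [CommRing B] [IsLocalRing B]
  [CommRing V₁] [IsLocalRing V₁]
  [Algebra A B] [IsLocalHom (algebraMap A B)] [Algebra A V₁] [IsLocalHom (algebraMap A V₁)]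

theorem exists_sq_mul_sub_mem_of_isReduced
    (hw : (maximalIdeal A).map (algebraMap A B) = maximalIdeal B) (π₁ : V₁)
    (hπ₁ : maximalIdeal V₁ = Ideal.span {π₁})
    [Algebra.IsAlgebraic (ResidueField A) (ResidueField V₁)]
    [hEred : IsReduced (ResidueField B ⊗[ResidueField A] ResidueField V₁)]
    (t : B ⊗[A] V₁) :
    ∃ y : B ⊗[A] V₁, t - t * t * y ∈ Ideal.span {(1 : B) ⊗ₜ[A] π₁} := by
  classical
  let kA := ResidueField A
  let kB := ResidueField B
  let k₁ := ResidueField V₁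
  let E := kB ⊗[kA] k₁
  let J : Ideal (B ⊗[A] V₁) := Ideal.span {(1 : B) ⊗ₜ[A] π₁}
  haveI : Algebra.IsIntegral kA k₁ := Algebra.IsAlgebraic.isIntegral
  haveI hEint : Algebra.IsIntegral kB E := inferInstance
  -- the map `Φ`
  letI algAE : Algebra A E := ((algebraMap kA E).comp (residue A)).toAlgebra
  let fB : B →ₐ[A] E :=
    { toRingHom := (Algebra.TensorProduct.includeLeft : kB →ₐ[kA] E).toRingHom.comp (residue B)
      commutes' := fun a => by
        show (Algebra.TensorProduct.includeLeft : kB →ₐ[kA] E)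
          (algebraMap kA kB (residue A a)) = algebraMap kA E (residue A a)
        exact AlgHom.commutes _ _ }
  let fV : V₁ →ₐ[A] E :=
    { toRingHom := (Algebra.TensorProduct.includeRight : k₁ →ₐ[kA] E).toRingHom.comp (residue V₁)
      commutes' := fun a => by
        show (Algebra.TensorProduct.includeRight : k₁ →ₐ[kA] E)
          (algebraMap kA k₁ (residue A a)) = algebraMap kA E (residue A a)
        exact AlgHom.commutes _ _ }
  let Φ : B ⊗[A] V₁ →ₐ[A] E := Algebra.TensorProduct.productMap fB fV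
  have hΦ : ∀ (b : B) (v : V₁), Φ (b ⊗ₜ v) = (residue B b) ⊗ₜ[kA] (residue V₁ v) := by
    intro b v
    show (residue B b ⊗ₜ[kA] (1 : k₁)) * ((1 : kB) ⊗ₜ[kA] residue V₁ v) = _
    rw [Algebra.TensorProduct.tmul_mul_tmul, mul_one, one_mul]
  have hΦsurj : Function.Surjective Φ := by
    intro z
    induction z using TensorProduct.induction_on with
    | zero => exact ⟨0, map_zero _⟩
    | tmul x y =>
      obtain ⟨b, rfl⟩ := residue_surjective x
      obtain ⟨v, rfl⟩ := residue_surjective y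
      exact ⟨b ⊗ₜ v, hΦ b v⟩
    | add z z' hz hz' =>
      obtain ⟨t, rfl⟩ := hz
      obtain ⟨t', rfl⟩ := hz'
      exact ⟨t + t', map_add _ _ _⟩
  -- the map `Ξ`
  have hJV : ∀ v ∈ maximalIdeal V₁, (1 : B) ⊗ₜ[A] v ∈ J := by
    intro v hv
    rw [hπ₁, Ideal.mem_span_singleton] at hv
    obtain ⟨c, rfl⟩ := hv
    have : (1 : B) ⊗ₜ[A] (π₁ * c) = (1 ⊗ₜ π₁) * (1 ⊗ₜ c) := by
      rw [Algebra.TensorProduct.tmul_mul_tmul, one_mul]
    rw [this]
    exact Ideal.mul_mem_right _ _ (Ideal.mem_span_singleton_self _)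
  have hJB : ∀ b ∈ maximalIdeal B, b ⊗ₜ[A] (1 : V₁) ∈ J := by
    intro b hb
    rw [← hw] at hb
    have hle : (maximalIdeal A).map (algebraMap A B) ≤
        J.comap (Algebra.TensorProduct.includeLeft : B →ₐ[A] B ⊗[A] V₁).toRingHom := by
      rw [Ideal.map_le_iff_le_comap]
      intro a ha
      show (algebraMap A B a) ⊗ₜ[A] (1 : V₁) ∈ J
      rw [Algebra.TensorProduct.tmul_one_eq_one_tmul]
      apply hJV
      exact (mem_maximalIdeal _).mpr
        (map_nonunit (algebraMap A V₁) a ((mem_maximalIdeal a).mp ha))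
    exact hle hb
  let ξV : k₁ →+* (B ⊗[A] V₁) ⧸ J := Ideal.Quotient.lift (maximalIdeal V₁)
    ((Ideal.Quotient.mk J).comp
      (Algebra.TensorProduct.includeRight : V₁ →ₐ[A] B ⊗[A] V₁).toRingHom)
    (fun v hv => Ideal.Quotient.eq_zero_iff_mem.mpr (hJV v hv))
  let ξB : kB →+* (B ⊗[A] V₁) ⧸ J := Ideal.Quotient.lift (maximalIdeal B)
    ((Ideal.Quotient.mk J).comp
      (Algebra.TensorProduct.includeLeft : B →ₐ[A] B ⊗[A] V₁).toRingHom)
    (fun b hb => Ideal.Quotient.eq_zero_iff_mem.mpr (hJB b hb))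
  have hξV : ∀ v : V₁, ξV (residue V₁ v) = Ideal.Quotient.mk J (1 ⊗ₜ v) := fun v => rfl
  have hξB : ∀ b : B, ξB (residue B b) = Ideal.Quotient.mk J (b ⊗ₜ 1) := fun b => rfl
  letI algkAQ : Algebra kA ((B ⊗[A] V₁) ⧸ J) := (ξB.comp (algebraMap kA kB)).toAlgebra
  let gB : kB →ₐ[kA] (B ⊗[A] V₁) ⧸ J := { toRingHom := ξB, commutes' := fun r => rfl }
  let gV : k₁ →ₐ[kA] (B ⊗[A] V₁) ⧸ J :=
    { toRingHom := ξV
      commutes' := fun r => by
        obtain ⟨a, rfl⟩ := residue_surjective r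
        show ξV (residue V₁ (algebraMap A V₁ a)) = ξB (residue B (algebraMap A B a))
        rw [hξV, hξB, Algebra.TensorProduct.tmul_one_eq_one_tmul] }
  let Ξ : E →ₐ[kA] (B ⊗[A] V₁) ⧸ J := Algebra.TensorProduct.productMap gB gV
  have hΞΦ : ∀ t : B ⊗[A] V₁, Ξ (Φ t) = Ideal.Quotient.mk J t := by
    intro t
    induction t using TensorProduct.induction_on with
    | zero => rw [map_zero, map_zero, map_zero]
    | tmul b v =>
      rw [hΦ]
      show ξB (residue B b) * ξV (residue V₁ v) = _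
      rw [hξB, hξV, ← map_mul, Algebra.TensorProduct.tmul_mul_tmul, mul_one, one_mul]
    | add t t' ht ht' => rw [map_add, map_add, ht, ht', map_add]
  -- conclude
  obtain ⟨y₀, hy₀⟩ := exists_eq_sq_mul (ℓ := kB) (Φ t)
    (Algebra.IsIntegral.isIntegral (R := kB) (Φ t)).isAlgebraic
  obtain ⟨y, rfl⟩ := hΦsurj y₀
  refine ⟨y, ?_⟩
  rw [← Ideal.Quotient.eq_zero_iff_mem, ← hΞΦ, map_sub, map_mul, map_mul, ← hy₀, sub_self,
    map_zero]

theorem exists_sq_mul_sub_mem
    (hw : (maximalIdeal A).map (algebraMap A B) = maximalIdeal B) (π₁ : V₁)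
    (hπ₁ : maximalIdeal V₁ = Ideal.span {π₁})
    [Algebra.IsAlgebraic (ResidueField A) (ResidueField V₁)]
    [Algebra.IsGeometricallyReduced (ResidueField A) (ResidueField B)]
    (t : B ⊗[A] V₁) :
    ∃ y : B ⊗[A] V₁, t - t * t * y ∈ Ideal.span {(1 : B) ⊗ₜ[A] π₁} := by
  haveI hEred : IsReduced (ResidueField B ⊗[ResidueField A] ResidueField V₁) :=
    isReduced_of_injective
      (Algebra.TensorProduct.comm (ResidueField A) (ResidueField B) (ResidueField V₁)).toRingHom
      (Algebra.TensorProduct.comm (ResidueField A) (ResidueField B) (ResidueField V₁)).injective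
  exact exists_sq_mul_sub_mem_of_isReduced hw π₁ hπ₁ t

end Fibre

end Groth.Agent.Lib.Helper27.WU
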