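import Mathlib
import Groth.Prelude.Def_EtRam
import Groth.Agent.Lib.Helper27.WU1

/-! Geometric reducedness of a compositum of residue fields. -/

set_option autoImplicit false

namespace Groth.Agent.Lib.Helper27.WU
open IsLocalRing TensorProduct

universe u

theorem isReduced_of_surjective_vnr {R S : Type*} [CommRing R] [CommRing S] (Θ : R →+* S)
    (hΘ : Function.Surjective Θ) (hv : ∀ x : R, ∃ y : R, x = x * x * y) : IsReduced S := by
  constructor
  intro s hs
  obtain ⟨n, hn⟩ := hs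
  obtain ⟨x, rfl⟩ := hΘ s
  obtain ⟨y, hy⟩ := hv x
  have key : ∀ m : ℕ, x = x ^ (m + 1) * y ^ m := by
    intro m
    induction m with
    | zero => simp
    | succ m ih =>
      calc x = x ^ (m + 1) * y ^ m := ih
        _ = x ^ m * x * y ^ m := by ring
        _ = x ^ m * (x * x * y) * y ^ m := by rw [← hy]
        _ = x ^ (m + 1 + 1) * y ^ (m + 1) := by ring
  have := congrArg Θ (key n)
  rw [map_mul, map_pow, pow_succ, hn, zero_mul, zero_mul] at this
  exact this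

section Compositum

theorem geomReduced_of_compositum (k : Type u) {k₁ ℓ Λ : Type u} [Field k] [Field k₁] [Field ℓ]
    [Field Λ] [Algebra k k₁] [Algebra.IsAlgebraic k k₁] [Algebra k ℓ]
    [Algebra.IsGeometricallyReduced k ℓ]
    [Algebra k₁ Λ] [Algebra ℓ Λ] [Algebra k Λ] [IsScalarTower k k₁ Λ] [IsScalarTower k ℓ Λ]
    (hgen : Algebra.adjoin ℓ (Set.range (algebraMap k₁ Λ)) = ⊤) :
    Algebra.IsGeometricallyReduced k₁ Λ := by
  rw [Algebra.isGeometricallyReduced_field_iff]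
  let Ω := AlgebraicClosure k₁
  haveI : Algebra.IsAlgebraic k Ω := Algebra.IsAlgebraic.trans k k₁ Ω
  haveI h1 : IsReduced (Ω ⊗[k] ℓ) := inferInstance
  haveI h2 : IsReduced (ℓ ⊗[k] Ω) :=
    isReduced_of_injective (Algebra.TensorProduct.comm k ℓ Ω).toRingHom
      (Algebra.TensorProduct.comm k ℓ Ω).injective
  haveI : Algebra.IsIntegral k Ω := Algebra.IsAlgebraic.isIntegral
  haveI h3 : Algebra.IsIntegral ℓ (ℓ ⊗[k] Ω) := inferInstance
  let f₁ : ℓ →ₐ[k] Ω ⊗[k₁] Λ :=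
    { toRingHom := (Algebra.TensorProduct.includeRight : Λ →ₐ[k₁] Ω ⊗[k₁] Λ).toRingHom.comp
        (algebraMap ℓ Λ)
      commutes' := fun r => by
        show (1 : Ω) ⊗ₜ[k₁] (algebraMap ℓ Λ (algebraMap k ℓ r)) = algebraMap k (Ω ⊗[k₁] Λ) r
        rw [Algebra.TensorProduct.algebraMap_apply, ← IsScalarTower.algebraMap_apply k ℓ Λ,
          IsScalarTower.algebraMap_apply k k₁ Λ, IsScalarTower.algebraMap_apply k k₁ Ω,
          Algebra.TensorProduct.tmul_one_eq_one_tmul] }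
  let f₂ : Ω →ₐ[k] Ω ⊗[k₁] Λ :=
    (Algebra.TensorProduct.includeLeft : Ω →ₐ[k₁] Ω ⊗[k₁] Λ).restrictScalars k
  let Θ : ℓ ⊗[k] Ω →ₐ[k] Ω ⊗[k₁] Λ := Algebra.TensorProduct.productMap f₁ f₂
  have hΘ : ∀ (l : ℓ) (ω : Ω), Θ (l ⊗ₜ ω) = ω ⊗ₜ[k₁] (algebraMap ℓ Λ l) := by
    intro l ω
    show ((1 : Ω) ⊗ₜ[k₁] (algebraMap ℓ Λ l)) * (ω ⊗ₜ[k₁] (1 : Λ)) = _
    rw [Algebra.TensorProduct.tmul_mul_tmul, one_mul, mul_one]
  have hsurj : Function.Surjective Θ := by
    have key : ∀ (x : Λ) (ω : Ω), ω ⊗ₜ[k₁] x ∈ Θ.range := by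
      intro x
      have hx : x ∈ Algebra.adjoin ℓ (Set.range (algebraMap k₁ Λ)) := by
        rw [hgen]; trivial
      induction hx using Algebra.adjoin_induction with
      | mem x hx =>
        obtain ⟨c, rfl⟩ := hx
        intro ω
        refine ⟨(1 : ℓ) ⊗ₜ (c • ω), ?_⟩
        show Θ ((1 : ℓ) ⊗ₜ (c • ω)) = _
        rw [hΘ, map_one, Algebra.algebraMap_eq_smul_one c, TensorProduct.smul_tmul]
      | algebraMap l =>
        intro ω
        exact ⟨l ⊗ₜ ω, hΘ l ω⟩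
      | add x y _ _ hx hy =>
        intro ω
        rw [TensorProduct.tmul_add]
        exact Subalgebra.add_mem _ (hx ω) (hy ω)
      | mul x y _ _ hx hy =>
        intro ω
        have : ω ⊗ₜ[k₁] (x * y) = (ω ⊗ₜ[k₁] x) * ((1 : Ω) ⊗ₜ[k₁] y) := by
          rw [Algebra.TensorProduct.tmul_mul_tmul, mul_one]
        rw [this]
        exact Subalgebra.mul_mem _ (hx ω) (hy 1)
    intro z
    induction z using TensorProduct.induction_on with
    | zero => exact ⟨0, map_zero _⟩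
    | tmul ω x => exact key x ω
    | add z z' hz hz' =>
      obtain ⟨t, rfl⟩ := hz
      obtain ⟨t', rfl⟩ := hz'
      exact ⟨t + t', map_add _ _ _⟩
  exact isReduced_of_surjective_vnr Θ.toRingHom hsurj fun x =>
    exists_eq_sq_mul (ℓ := ℓ) x (Algebra.IsIntegral.isIntegral (R := ℓ) x).isAlgebraic

end Compositum

end Groth.Agent.Lib.Helper27.WU
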