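import Mathlib
import Groth.Prelude.Def_EtRam
import Groth.Agent.Lib.Helper27.WU3
import Groth.Agent.Lib.Helper27.WU4
import Groth.Agent.Lib.Helper27.WU5

/-! Weakly unramified + geometrically reduced residue extension: abstract main theorem. -/

set_option autoImplicit false

namespace Groth.Agent.Lib.Helper27.WU
open IsLocalRing TensorProduct

universe u

section ResAlg
variable {A K K₁ : Type u} [CommRing A] [IsDomain A] [IsDiscreteValuationRing A] [Field K]
  [Algebra A K] [IsFractionRing A K]
  [Field K₁] [Algebra K K₁] [Algebra A K₁] [IsScalarTower A K K₁] [Algebra.IsAlgebraic K K₁]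

include K in
theorem residue_isAlgebraic {V : ValuationSubring K₁} [Algebra A V]
    (hAV : ∀ a : A, ((algebraMap A V a : V) : K₁) = algebraMap A K₁ a)
    [IsLocalHom (algebraMap A V)] :
    Algebra.IsAlgebraic (ResidueField A) (ResidueField V) := by
  classical
  haveI : Algebra.IsAlgebraic A K := IsLocalization.isAlgebraic K (nonZeroDivisors A)
  haveI : Algebra.IsAlgebraic A K₁ := Algebra.IsAlgebraic.trans A K K₁
  have hinjA : Function.Injective (algebraMap A K₁) := ASR.algebraMap_AL_injective A K K₁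
  obtain ⟨π, hπ⟩ := IsDiscreteValuationRing.exists_irreducible A
  refine ⟨fun x => ?_⟩
  obtain ⟨v, rfl⟩ := residue_surjective x
  obtain ⟨p, hp0, hpv⟩ := Algebra.IsAlgebraic.isAlgebraic (R := A) (v : K₁)
  have hCπ : ¬ IsUnit (Polynomial.C π : Polynomial A) := by
    rw [Polynomial.isUnit_C]; exact hπ.not_isUnit
  obtain ⟨n, q, hq, hpq⟩ := WfDvdMonoid.max_power_factor' hp0 hCπ
  have hqv : Polynomial.aeval (v : K₁) q = 0 := by
    rw [hpq, map_mul, map_pow, Polynomial.aeval_C] at hpv
    rcases mul_eq_zero.mp hpv with h | h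
    · exfalso
      have : algebraMap A K₁ π = 0 := pow_eq_zero_iff (fun hn => by
        rw [hn, pow_zero] at h
        exact one_ne_zero h) |>.mp h
      exact hπ.ne_zero (hinjA (by rw [this, map_zero]))
    · exact h
  have hcomp : (V.subtype).comp (algebraMap A V) = algebraMap A K₁ := RingHom.ext hAV
  have hqV : Polynomial.eval₂ (algebraMap A V) v q = 0 := by
    apply Subtype.ext
    show V.subtype (Polynomial.eval₂ (algebraMap A V) v q) = 0
    rw [Polynomial.hom_eval₂, hcomp]
    exact hqv
  refine ⟨q.map (residue A), ?_, ?_⟩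
  · intro h0
    apply hq
    rw [Polynomial.C_dvd_iff_dvd_coeff]
    intro i
    have : residue A (q.coeff i) = 0 := by
      rw [← Polynomial.coeff_map, h0, Polynomial.coeff_zero]
    rw [residue_eq_zero_iff, hπ.maximalIdeal_eq, Ideal.mem_span_singleton] at this
    exact this
  · rw [Polynomial.aeval_def, Polynomial.eval₂_map]
    have : (algebraMap (ResidueField A) (ResidueField V)).comp (residue A) =
        (residue V).comp (algebraMap A V) := rfl
    rw [this, ← Polynomial.hom_eval₂, hqV, map_zero]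

end ResAlg

section Abstract
variable {A B V₁ W : Type u} [CommRing A] [IsLocalRing A] [CommRing B] [IsLocalRing B]
  [CommRing V₁] [IsLocalRing V₁]
  [Algebra A B] [IsLocalHom (algebraMap A B)] [Algebra A V₁] [IsLocalHom (algebraMap A V₁)]
  [CommRing W] [IsDomain W] [IsLocalRing W] [Algebra B W] [IsLocalHom (algebraMap B W)]
  [Algebra V₁ W] [IsLocalHom (algebraMap V₁ W)]
  [Algebra A W] [IsScalarTower A B W] [IsScalarTower A V₁ W]

theorem weak_abstract
    (hw : (maximalIdeal A).map (algebraMap A B) = maximalIdeal B) (π₁ : V₁)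
    (hπ₁ : maximalIdeal V₁ = Ideal.span {π₁})
    [Algebra.IsAlgebraic (ResidueField A) (ResidueField V₁)]
    [IsReduced (ResidueField B ⊗[ResidueField A] ResidueField V₁)]
    (hsep : ∀ x : W, x ≠ 0 → ∃ n : ℕ, x ∉ Ideal.span {(algebraMap V₁ W π₁) ^ n})
    (hfrac : ∀ y : W, ∃ t₁ t₂ : B ⊗[A] V₁,
      Algebra.TensorProduct.productMap (IsScalarTower.toAlgHom A B W)
        (IsScalarTower.toAlgHom A V₁ W) t₂ ≠ 0 ∧
      y * Algebra.TensorProduct.productMap (IsScalarTower.toAlgHom A B W)
        (IsScalarTower.toAlgHom A V₁ W) t₂ =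
        Algebra.TensorProduct.productMap (IsScalarTower.toAlgHom A B W)
          (IsScalarTower.toAlgHom A V₁ W) t₁) :
    EtRam.IsWeaklyUnramified V₁ W ∧
      ∀ w : W, ∃ t s : B ⊗[A] V₁,
        Algebra.TensorProduct.productMap (IsScalarTower.toAlgHom A B W)
          (IsScalarTower.toAlgHom A V₁ W) s ∉ maximalIdeal W ∧
        w * Algebra.TensorProduct.productMap (IsScalarTower.toAlgHom A B W)
          (IsScalarTower.toAlgHom A V₁ W) s =
          Algebra.TensorProduct.productMap (IsScalarTower.toAlgHom A B W)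
            (IsScalarTower.toAlgHom A V₁ W) t := by
  classical
  let ψ : B ⊗[A] V₁ →ₐ[A] W := Algebra.TensorProduct.productMap (IsScalarTower.toAlgHom A B W)
    (IsScalarTower.toAlgHom A V₁ W)
  have hψ : ∀ (b : B) (v : V₁), ψ (b ⊗ₜ v) = algebraMap B W b * algebraMap V₁ W v :=
    fun _ _ => rfl
  have hϖ : ψ ((1 : B) ⊗ₜ π₁) = algebraMap V₁ W π₁ := by rw [hψ, map_one, one_mul]
  have hπ₁mem : π₁ ∈ maximalIdeal V₁ := by rw [hπ₁]; exact Ideal.mem_span_singleton_self _
  have hϖmem : ψ.toRingHom ((1 : B) ⊗ₜ π₁) ∈ maximalIdeal W := by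
    show ψ ((1 : B) ⊗ₜ π₁) ∈ maximalIdeal W
    rw [hϖ]
    exact (mem_maximalIdeal _).mpr
      (map_nonunit (algebraMap V₁ W) π₁ ((mem_maximalIdeal _).mp hπ₁mem))
  have hq : ∀ t : B ⊗[A] V₁, ψ.toRingHom t ∈ maximalIdeal W →
      ∃ s : B ⊗[A] V₁, ψ.toRingHom s ∉ maximalIdeal W ∧
        s * t ∈ Ideal.span {(1 : B) ⊗ₜ[A] π₁} := by
    intro t ht
    obtain ⟨y, hy⟩ := exists_sq_mul_sub_mem_of_isReduced hw π₁ hπ₁ t
    refine ⟨1 - t * y, ?_, ?_⟩
    · show ψ (1 - t * y) ∉ maximalIdeal W
      rw [map_sub, map_one, map_mul]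
      have hmem : ψ t * ψ y ∈ maximalIdeal W := Ideal.mul_mem_right _ _ ht
      exact notMem_maximalIdeal.mpr (IsLocalRing.isUnit_one_sub_self_of_mem_nonunits _ hmem)
    · have : (1 - t * y) * t = t - t * t * y := by ring
      rw [this]; exact hy
  obtain ⟨hmax, hall⟩ := core ψ.toRingHom ((1 : B) ⊗ₜ π₁) hϖmem hq
    (fun x hx => by
      show ∃ n : ℕ, x ∉ Ideal.span {(ψ ((1 : B) ⊗ₜ π₁)) ^ n}
      rw [hϖ]; exact hsep x hx) hfrac
  refine ⟨?_, hall⟩
  show (maximalIdeal V₁).map (algebraMap V₁ W) = maximalIdeal W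
  rw [hπ₁, Ideal.map_span, Set.image_singleton, hmax]
  show _ = Ideal.span {ψ ((1 : B) ⊗ₜ π₁)}
  rw [hϖ]

theorem main_abstract
    (hw : (maximalIdeal A).map (algebraMap A B) = maximalIdeal B) (π₁ : V₁)
    (hπ₁ : maximalIdeal V₁ = Ideal.span {π₁})
    [Algebra.IsAlgebraic (ResidueField A) (ResidueField V₁)]
    [Algebra.IsGeometricallyReduced (ResidueField A) (ResidueField B)]
    (hsep : ∀ x : W, x ≠ 0 → ∃ n : ℕ, x ∉ Ideal.span {(algebraMap V₁ W π₁) ^ n})
    (hfrac : ∀ y : W, ∃ t₁ t₂ : B ⊗[A] V₁,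
      Algebra.TensorProduct.productMap (IsScalarTower.toAlgHom A B W)
        (IsScalarTower.toAlgHom A V₁ W) t₂ ≠ 0 ∧
      y * Algebra.TensorProduct.productMap (IsScalarTower.toAlgHom A B W)
        (IsScalarTower.toAlgHom A V₁ W) t₂ =
        Algebra.TensorProduct.productMap (IsScalarTower.toAlgHom A B W)
          (IsScalarTower.toAlgHom A V₁ W) t₁) :
    EtRam.IsWeaklyUnramified V₁ W ∧
      ∀ (alg : Algebra (ResidueField V₁) (ResidueField W)),
        (∀ v : V₁, @algebraMap _ _ _ _ alg (residue V₁ v) = residue W (algebraMap V₁ W v)) →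
        @Algebra.IsGeometricallyReduced (ResidueField V₁) (ResidueField W) _ _ alg := by
  classical
  haveI hEred : IsReduced (ResidueField B ⊗[ResidueField A] ResidueField V₁) :=
    isReduced_of_injective
      (Algebra.TensorProduct.comm (ResidueField A) (ResidueField B) (ResidueField V₁)).toRingHom
      (Algebra.TensorProduct.comm (ResidueField A) (ResidueField B) (ResidueField V₁)).injective
  obtain ⟨hweak, hall⟩ := weak_abstract hw π₁ hπ₁ hsep hfrac
  let ψ : B ⊗[A] V₁ →ₐ[A] W := Algebra.TensorProduct.productMap (IsScalarTower.toAlgHom A B W)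
    (IsScalarTower.toAlgHom A V₁ W)
  have hψ : ∀ (b : B) (v : V₁), ψ (b ⊗ₜ v) = algebraMap B W b * algebraMap V₁ W v :=
    fun _ _ => rfl
  refine ⟨hweak, ?_⟩
  · intro alg halg
    letI := alg
    haveI hlocAW : IsLocalHom (algebraMap A W) := by
      rw [IsScalarTower.algebraMap_eq A B W]
      exact RingHom.isLocalHom_comp _ _
    haveI : IsScalarTower (ResidueField A) (ResidueField V₁) (ResidueField W) := by
      refine .of_algebraMap_eq fun r => ?_
      obtain ⟨a, rfl⟩ := residue_surjective r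
      rw [ResidueField.algebraMap_residue, ResidueField.algebraMap_residue, halg,
        ← IsScalarTower.algebraMap_apply]
    apply geomReduced_of_compositum (ResidueField A) (ℓ := ResidueField B)
    have halg' : ∀ x ∈ Set.range (algebraMap (ResidueField V₁) (ResidueField W)),
        IsAlgebraic (ResidueField B) x := by
      rintro _ ⟨c, rfl⟩
      have hc : IsAlgebraic (ResidueField A) c := Algebra.IsAlgebraic.isAlgebraic c
      exact (hc.algebraMap (A := ResidueField W)).tower_top (ResidueField B)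
    have hSeq := IntermediateField.adjoin_toSubalgebra_of_isAlgebraic halg'
    have hψF : ∀ t : B ⊗[A] V₁, residue W (ψ t) ∈ IntermediateField.adjoin (ResidueField B)
        (Set.range (algebraMap (ResidueField V₁) (ResidueField W))) := by
      intro t
      induction t using TensorProduct.induction_on with
      | zero => rw [map_zero, map_zero]; exact zero_mem _
      | tmul b v =>
        rw [hψ, map_mul, ← halg, ← ResidueField.algebraMap_residue]
        exact mul_mem (IntermediateField.algebraMap_mem _ _)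
          (IntermediateField.subset_adjoin _ _ ⟨_, rfl⟩)
      | add t t' ht ht' => rw [map_add, map_add]; exact add_mem ht ht'
    rw [eq_top_iff]
    intro x _
    rw [← hSeq]
    obtain ⟨w, rfl⟩ := residue_surjective x
    obtain ⟨t, s, hs, hws⟩ := hall w
    have hs0 : residue W (ψ s) ≠ 0 := by
      rw [Ne, residue_eq_zero_iff]; exact hs
    have : residue W w = residue W (ψ t) / residue W (ψ s) := by
      rw [eq_div_iff hs0, ← map_mul]
      exact congrArg _ hws
    rw [this]
    show _ ∈ IntermediateField.adjoin (ResidueField B)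
        (Set.range (algebraMap (ResidueField V₁) (ResidueField W)))
    exact div_mem (hψF t) (hψF s)

end Abstract

end Groth.Agent.Lib.Helper27.WU
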