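import Mathlib
import Groth.Prelude.Def_EtRam
import Groth.Agent.Lib.Helper27.WU6

/-! Ingredients for the tame (Abhyankar) case: reducedness of `R[X]/(f)` for separable `f`,
and the comparison maps with the tensor product of residue fields. -/

set_option autoImplicit false

namespace Groth.Agent.Lib.Helper27.WU
open IsLocalRing TensorProduct Polynomial

universe u

/-- `R[X]/(f)` is reduced when `R` is reduced and `f` is monic and separable. -/
theorem isReduced_adjoinRoot_of_separable {R : Type*} [CommRing R] [IsReduced R] (f : R[X])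
    (hf : f.Monic) (hs : f.Separable) : IsReduced (AdjoinRoot f) := by
  classical
  rcases subsingleton_or_nontrivial R with hR | hR
  · haveI : Subsingleton (AdjoinRoot f) := by
      refine ⟨fun x y => ?_⟩
      obtain ⟨g, rfl⟩ := AdjoinRoot.mk_surjective x
      obtain ⟨h, rfl⟩ := AdjoinRoot.mk_surjective y
      rw [Subsingleton.elim g h]
    exact ⟨fun x _ => Subsingleton.elim _ _⟩
  constructor
  intro x hx
  obtain ⟨n, hn⟩ := hx
  obtain ⟨g, rfl⟩ := AdjoinRoot.mk_surjective x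
  by_cases hn0 : n = 0
  · rw [hn0, pow_zero] at hn
    rw [← mul_one (AdjoinRoot.mk f g), hn, mul_zero]
  have hmod : AdjoinRoot.mk f g = AdjoinRoot.mk f (g %ₘ f) := by
    rw [AdjoinRoot.mk_eq_mk]
    exact ⟨g /ₘ f, by rw [eq_comm, eq_sub_iff_add_eq, add_comm, Polynomial.modByMonic_add_div g f]⟩
  rw [hmod] at hn ⊢
  set r := g %ₘ f with hr
  have hdeg : r.degree < f.degree := Polynomial.degree_modByMonic_lt g hf
  have hdvd : f ∣ r ^ n := by
    rw [← map_pow, AdjoinRoot.mk_eq_zero] at hn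
    exact hn
  suffices hr0 : r = 0 by rw [hr0, map_zero]
  ext i
  rw [Polynomial.coeff_zero]
  have hnil : r.coeff i ∈ nilradical R := by
    rw [nilradical_eq_sInf, Ideal.mem_sInf]
    intro 𝔭 h𝔭
    haveI : 𝔭.IsPrime := h𝔭
    let φ : R →+* FractionRing (R ⧸ 𝔭) :=
      (algebraMap (R ⧸ 𝔭) (FractionRing (R ⧸ 𝔭))).comp (Ideal.Quotient.mk 𝔭)
    have hfs : (f.map φ).Separable := hs.map
    have hfm : (f.map φ).Monic := hf.map φ
    have hd : f.map φ ∣ (r.map φ) ^ n := by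
      rw [← Polynomial.map_pow]
      exact Polynomial.map_dvd φ hdvd
    have hd' : f.map φ ∣ r.map φ :=
      (hfs.squarefree.dvd_pow_iff_dvd hn0).mp hd
    have hdeg' : (r.map φ).degree < (f.map φ).degree := by
      rw [hf.degree_map φ]
      exact lt_of_le_of_lt (Polynomial.degree_map_le) hdeg
    have hr0 : r.map φ = 0 := Polynomial.eq_zero_of_dvd_of_degree_lt hd' hdeg'
    have hc : φ (r.coeff i) = 0 := by
      rw [← Polynomial.coeff_map, hr0, Polynomial.coeff_zero]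
    have hinj : Function.Injective (algebraMap (R ⧸ 𝔭) (FractionRing (R ⧸ 𝔭))) :=
      IsFractionRing.injective _ _
    have : Ideal.Quotient.mk 𝔭 (r.coeff i) = 0 := hinj (by rw [map_zero]; exact hc)
    exact Ideal.Quotient.eq_zero_iff_mem.mp this
  rw [nilradical_eq_zero] at hnil
  exact hnil

section Maps
variable {A B V₁ : Type u} [CommRing A] [IsLocalRing A] [CommRing B] [IsLocalRing B]
  [CommRing V₁] [IsLocalRing V₁]
  [Algebra A B] [IsLocalHom (algebraMap A B)] [Algebra A V₁] [IsLocalHom (algebraMap A V₁)]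

variable (A B V₁) in
theorem exists_Phi : ∃ Φ : B ⊗[A] V₁ →+* ResidueField B ⊗[ResidueField A] ResidueField V₁,
    (∀ (b : B) (v : V₁), Φ (b ⊗ₜ v) = (residue B b) ⊗ₜ[ResidueField A] (residue V₁ v)) ∧
      Function.Surjective Φ := by
  classical
  let kA := ResidueField A
  let kB := ResidueField B
  let k₁ := ResidueField V₁
  let E := kB ⊗[kA] k₁
  letI algAE : Algebra A E := ((algebraMap kA E).comp (residue A)).toAlgebra
  let fB : B →ₐ[A] E :=
    { toRingHom := (Algebra.TensorProduct.includeLeft : kB →ₐ[kA] E).toRingHom.comp (residue B)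
      commutes' := fun a => by
        show (Algebra.TensorProduct.includeLeft : kB →ₐ[kA] E)
          (algebraMap kA kB (residue A a)) = algebraMap kA E (residue A a)
        exact AlgHom.commutes _ _ }
  let fV : V₁ →ₐ[A] E :=
    { toRingHom := (Algebra.TensorProduct.includeRight : k₁ →ₐ[kA] E).toRingHom.comp (residue V₁)
      commutes' := fun a => by
        show (Algebra.TensorProduct.includeRight : k₁ →ₐ[kA] E)
          (algebraMap kA k₁ (residue A a)) = algebraMap kA E (residue A a)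
        exact AlgHom.commutes _ _ }
  let Φ : B ⊗[A] V₁ →ₐ[A] E := Algebra.TensorProduct.productMap fB fV
  have hΦ : ∀ (b : B) (v : V₁), Φ (b ⊗ₜ v) = (residue B b) ⊗ₜ[kA] (residue V₁ v) := by
    intro b v
    show (residue B b ⊗ₜ[kA] (1 : k₁)) * ((1 : kB) ⊗ₜ[kA] residue V₁ v) = _
    rw [Algebra.TensorProduct.tmul_mul_tmul, mul_one, one_mul]
  refine ⟨Φ.toRingHom, hΦ, ?_⟩
  intro z
  induction z using TensorProduct.induction_on with
  | zero => exact ⟨0, map_zero _⟩
  | tmul x y =>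
    obtain ⟨b, rfl⟩ := residue_surjective x
    obtain ⟨v, rfl⟩ := residue_surjective y
    exact ⟨b ⊗ₜ v, hΦ b v⟩
  | add z z' hz hz' =>
    obtain ⟨t, rfl⟩ := hz
    obtain ⟨t', rfl⟩ := hz'
    exact ⟨t + t', map_add _ _ _⟩

theorem exists_Xi {T' : Type u} [CommRing T'] (jB : B →+* T') (jV : V₁ →+* T')
    (hcompat : ∀ a : A, jB (algebraMap A B a) = jV (algebraMap A V₁ a))
    (I' : Ideal T') (hB : ∀ b ∈ maximalIdeal B, jB b ∈ I')
    (hV : ∀ v ∈ maximalIdeal V₁, jV v ∈ I') :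
    ∃ Ξ : ResidueField B ⊗[ResidueField A] ResidueField V₁ →+* T' ⧸ I',
      ∀ (b : B) (v : V₁), Ξ ((residue B b) ⊗ₜ[ResidueField A] (residue V₁ v)) =
        Ideal.Quotient.mk I' (jB b * jV v) := by
  classical
  let kA := ResidueField A
  let kB := ResidueField B
  let k₁ := ResidueField V₁
  let ξV : k₁ →+* T' ⧸ I' := Ideal.Quotient.lift (maximalIdeal V₁)
    ((Ideal.Quotient.mk I').comp jV)
    (fun v hv => Ideal.Quotient.eq_zero_iff_mem.mpr (hV v hv))
  let ξB : kB →+* T' ⧸ I' := Ideal.Quotient.lift (maximalIdeal B)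
    ((Ideal.Quotient.mk I').comp jB)
    (fun b hb => Ideal.Quotient.eq_zero_iff_mem.mpr (hB b hb))
  have hξV : ∀ v : V₁, ξV (residue V₁ v) = Ideal.Quotient.mk I' (jV v) := fun v => rfl
  have hξB : ∀ b : B, ξB (residue B b) = Ideal.Quotient.mk I' (jB b) := fun b => rfl
  letI algkAQ : Algebra kA (T' ⧸ I') := (ξB.comp (algebraMap kA kB)).toAlgebra
  let gB : kB →ₐ[kA] T' ⧸ I' := { toRingHom := ξB, commutes' := fun r => rfl }
  let gV : k₁ →ₐ[kA] T' ⧸ I' :=
    { toRingHom := ξV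
      commutes' := fun r => by
        obtain ⟨a, rfl⟩ := residue_surjective r
        show ξV (residue V₁ (algebraMap A V₁ a)) = ξB (residue B (algebraMap A B a))
        rw [hξV, hξB, hcompat] }
  let Ξ : kB ⊗[kA] k₁ →ₐ[kA] T' ⧸ I' := Algebra.TensorProduct.productMap gB gV
  refine ⟨Ξ.toRingHom, fun b v => ?_⟩
  show ξB (residue B b) * ξV (residue V₁ v) = _
  rw [hξB, hξV, ← map_mul]

end Maps

/-- Variant of `core` where the divisibility is only required after applying `ψ`. -/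
theorem core' {T W : Type*} [CommRing T] [CommRing W] [IsDomain W] [IsLocalRing W]
    (ψ : T →+* W) (ϖ : T) (hϖ : ψ ϖ ∈ maximalIdeal W)
    (hq : ∀ t : T, ψ t ∈ maximalIdeal W →
      ∃ s c : T, ψ s ∉ maximalIdeal W ∧ ψ (s * t) = ψ (ϖ * c))
    (hsep : ∀ x : W, x ≠ 0 → ∃ n : ℕ, x ∉ Ideal.span {(ψ ϖ) ^ n})
    (hfrac : ∀ y : W, ∃ t₁ t₂ : T, ψ t₂ ≠ 0 ∧ y * ψ t₂ = ψ t₁) :
    maximalIdeal W = Ideal.span {ψ ϖ} ∧
      ∀ w : W, ∃ t s : T, ψ s ∉ maximalIdeal W ∧ w * ψ s = ψ t := by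
  obtain ⟨h1, h2⟩ := core (T := ψ.range) (W := W) ψ.range.subtype ⟨ψ ϖ, ϖ, rfl⟩ hϖ
    (by
      rintro ⟨_, t, rfl⟩ ht
      obtain ⟨s, c, hs, hsc⟩ := hq t ht
      refine ⟨⟨ψ s, s, rfl⟩, hs, ?_⟩
      rw [Ideal.mem_span_singleton]
      refine ⟨⟨ψ c, c, rfl⟩, Subtype.ext ?_⟩
      show ψ s * ψ t = ψ ϖ * ψ c
      rw [← map_mul, hsc, map_mul])
    hsep
    (by
      intro y
      obtain ⟨t₁, t₂, h2, h12⟩ := hfrac y
      exact ⟨⟨ψ t₁, t₁, rfl⟩, ⟨ψ t₂, t₂, rfl⟩, h2, h12⟩)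
  refine ⟨h1, fun w => ?_⟩
  obtain ⟨⟨_, t, rfl⟩, ⟨_, s, rfl⟩, hs, hws⟩ := h2 w
  exact ⟨t, s, hs, hws⟩

end Groth.Agent.Lib.Helper27.WU
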