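import Mathlib
import Groth.Prelude.Def_EtRam
import Groth.Agent.Lib.Helper27.WU11

/-! Tame base change: the abstract two-variable version of the Abhyankar computation. -/

set_option autoImplicit false

namespace Groth.Agent.Lib.Helper27.TBC
open IsLocalRing TensorProduct Polynomial

universe u

section Generic
variable {R₀ W : Type*} [CommRing R₀] [CommRing W] (ψ : R₀ →+* W) (x : R₀)

theorem mk_eq_of_eq {t₁ t₂ : R₀} (h : ψ t₁ = ψ t₂) :
    Ideal.Quotient.mk (Ideal.span {x} ⊔ RingHom.ker ψ) t₁ =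
      Ideal.Quotient.mk (Ideal.span {x} ⊔ RingHom.ker ψ) t₂ := by
  rw [Ideal.Quotient.eq]
  exact Ideal.mem_sup_right (RingHom.mem_ker.mpr (by rw [map_sub, h, sub_self]))

theorem mem_of_eq_mul {t c : R₀} (h : ψ t = ψ (x * c)) :
    t ∈ Ideal.span {x} ⊔ RingHom.ker ψ := by
  have : t = x * c + (t - x * c) := by ring
  rw [this]
  exact Ideal.add_mem _
    (Ideal.mem_sup_left (Ideal.mul_mem_right _ _ (Ideal.mem_span_singleton_self _)))
    (Ideal.mem_sup_right (RingHom.mem_ker.mpr (by rw [map_sub, h, sub_self])))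

theorem hq_generic {E' : Type*} [CommRing E'] [IsLocalRing W] (Φ : R₀ →+* E')
    (hΦ : Function.Surjective Φ)
    (Ξ : E' →+* R₀ ⧸ (Ideal.span {x} ⊔ RingHom.ker ψ))
    (hΞΦ : ∀ t, Ξ (Φ t) = Ideal.Quotient.mk (Ideal.span {x} ⊔ RingHom.ker ψ) t)
    (hvnr : ∀ y : E', ∃ z : E', y = y * y * z) :
    ∀ t : R₀, ψ t ∈ maximalIdeal W →
      ∃ s c : R₀, ψ s ∉ maximalIdeal W ∧ ψ (s * t) = ψ (x * c) := by
  intro t ht
  obtain ⟨y₀, hy₀⟩ := hvnr (Φ t)
  obtain ⟨y, rfl⟩ := hΦ y₀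
  have hmemI : t - t * t * y ∈ Ideal.span {x} ⊔ RingHom.ker ψ := by
    rw [← Ideal.Quotient.eq_zero_iff_mem, ← hΞΦ, map_sub, map_mul, map_mul, ← hy₀, sub_self,
      map_zero]
  obtain ⟨z, hz, k, hk, hzk⟩ := Submodule.mem_sup.mp hmemI
  rw [Ideal.mem_span_singleton] at hz
  obtain ⟨c, rfl⟩ := hz
  refine ⟨1 - t * y, c, ?_, ?_⟩
  · rw [map_sub, map_one, map_mul]
    have hmem : ψ t * ψ y ∈ maximalIdeal W := Ideal.mul_mem_right _ _ ht
    exact notMem_maximalIdeal.mpr (IsLocalRing.isUnit_one_sub_self_of_mem_nonunits _ hmem)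
  · have : (1 - t * y) * t = x * c + k := by rw [hzk]; ring
    rw [this, map_add, (RingHom.mem_ker).mp hk, add_zero]

end Generic

section Abstract
variable {A B V' W T : Type u} [CommRing A] [IsLocalRing A] [CommRing B] [IsLocalRing B]
  [CommRing V'] [IsLocalRing V']
  [Algebra A B] [IsLocalHom (algebraMap A B)] [Algebra A V'] [IsLocalHom (algebraMap A V')]
  [CommRing W] [IsDomain W] [IsLocalRing W] [Algebra B W] [IsLocalHom (algebraMap B W)]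
  [Algebra V' W] [IsLocalHom (algebraMap V' W)] [CommRing T]

/-- The evaluation map `T[X][Y] → W`, `X ↦ θ`, `Y ↦ ϖ`. -/
noncomputable def ev (ψ : T →+* W) (θ ϖ : W) : T[X][X] →+* W :=
  eval₂RingHom (eval₂RingHom ψ θ) ϖ

theorem ev_X (ψ : T →+* W) (θ ϖ : W) : ev ψ θ ϖ X = ϖ := eval₂_X _ _

theorem ev_CX (ψ : T →+* W) (θ ϖ : W) : ev ψ θ ϖ (C X) = θ := by
  show eval₂ _ ϖ (C X) = θ
  rw [eval₂_C]
  exact eval₂_X _ _

theorem ev_CC (ψ : T →+* W) (θ ϖ : W) (t : T) : ev ψ θ ϖ (C (C t)) = ψ t := by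
  show eval₂ _ ϖ (C (C t)) = _
  rw [eval₂_C]
  exact eval₂_C _ _

local notation "kA" => ResidueField A
local notation "kB" => ResidueField B
local notation "k'" => ResidueField V'
local notation "EE" => ResidueField B ⊗[ResidueField A] ResidueField V'

theorem weak_abstract (jB : B →+* T) (jV : V' →+* T) (ψ : T →+* W)
    (hcompat : ∀ x : A, jB (algebraMap A B x) = jV (algebraMap A V' x))
    (hψB : ∀ x : B, ψ (jB x) = algebraMap B W x) (hψV : ∀ v : V', ψ (jV v) = algebraMap V' W v)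
    (hind : ∀ (P : T → Prop), P 0 → (∀ x v, P (jB x * jV v)) →
      (∀ t t', P t → P t' → P (t + t')) → ∀ t, P t)
    (Φ : T →+* EE)
    (hΦ : ∀ x v, Φ (jB x * jV v) = (residue B x) ⊗ₜ[kA] (residue V' v))
    (hΦsurj : Function.Surjective Φ)
    (πB : B) (hπB : maximalIdeal B = Ideal.span {πB})
    (π' : V') (hπ' : maximalIdeal V' = Ideal.span {π'})
    [Algebra.IsAlgebraic kA k'] [IsReduced EE]
    (g a b r s : ℕ) (hg : (g : kA) ≠ 0) (ha : a ≠ 0) (hb : b ≠ 0)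
    (uB : Bˣ) (u' : V'ˣ) (θ ϖ : W)
    (hθ : θ ^ g * algebraMap V' W u' = algebraMap B W uB)
    (hϖB : algebraMap B W πB = ϖ ^ a * θ ^ r)
    (hϖ' : algebraMap V' W π' = ϖ ^ b * θ ^ s)
    (hϖ : ϖ ∈ maximalIdeal W)
    (hsep : ∀ x : W, x ≠ 0 → ∃ n : ℕ, x ∉ Ideal.span {ϖ ^ n})
    (hfrac : ∀ y : W, ∃ t₁ t₂ : T, ψ t₂ ≠ 0 ∧ y * ψ t₂ = ψ t₁) :
    maximalIdeal W = Ideal.span {ϖ} ∧
      ∀ w : W, ∃ t s : T[X][X],
        ev ψ θ ϖ s ∉ maximalIdeal W ∧ w * ev ψ θ ϖ s = ev ψ θ ϖ t := by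
  classical
  have hψX : ev ψ θ ϖ X = ϖ := ev_X ψ θ ϖ
  have hψCX : ev ψ θ ϖ (C X) = θ := ev_CX ψ θ ϖ
  have hψCC : ∀ t : T, ev ψ θ ϖ (C (C t)) = ψ t := ev_CC ψ θ ϖ
  haveI : Algebra.IsIntegral kA k' := Algebra.IsAlgebraic.isIntegral
  haveI hEint : Algebra.IsIntegral kB EE := inferInstance
  have hg0 : g ≠ 0 := by
    rintro rfl
    exact hg Nat.cast_zero
  -- the polynomial
  let c₀ : T := jB (uB : B) * jV ((u'⁻¹ : V'ˣ) : V')
  have hc₀u : IsUnit (Φ c₀) := by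
    refine isUnit_iff_exists_inv.mpr ⟨Φ (jB ((uB⁻¹ : Bˣ) : B) * jV (u' : V')), ?_⟩
    rw [hΦ, hΦ, Algebra.TensorProduct.tmul_mul_tmul, ← map_mul, ← map_mul, Units.mul_inv,
      Units.inv_mul, map_one, map_one]
    rfl
  let f : EE[X] := X ^ g - C (Φ c₀)
  have hfm : f.Monic := monic_X_pow_sub_C _ hg0
  have hgE : IsUnit ((g : ℕ) : EE) := by
    have : ((g : ℕ) : EE) = algebraMap kA EE ((g : ℕ) : kA) := (map_natCast _ _).symm
    rw [this]
    exact (isUnit_iff_ne_zero.mpr hg).map _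
  have hfs : f.Separable := separable_X_pow_sub_C_unit hc₀u.unit hgE
  haveI hE'red : IsReduced (AdjoinRoot f) := WU.isReduced_adjoinRoot_of_separable f hfm hfs
  haveI : Module.Finite EE (AdjoinRoot f) := hfm.finite_adjoinRoot
  haveI : Algebra.IsIntegral EE (AdjoinRoot f) := Algebra.IsIntegral.of_finite EE _
  haveI : Algebra.IsIntegral kB (AdjoinRoot f) := Algebra.IsIntegral.trans EE
  let Φ₁ : T[X] →+* AdjoinRoot f :=
    eval₂RingHom ((AdjoinRoot.of f).comp Φ) (AdjoinRoot.root f)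
  have hΦ₁C : ∀ t : T, Φ₁ (C t) = AdjoinRoot.of f (Φ t) := fun t => eval₂_C _ _
  have hΦ₁X : Φ₁ X = AdjoinRoot.root f := eval₂_X _ _
  have hΦ₁surj : Function.Surjective Φ₁ := by
    intro z
    obtain ⟨p, rfl⟩ := AdjoinRoot.mk_surjective z
    obtain ⟨p₀, rfl⟩ := Polynomial.map_surjective Φ hΦsurj p
    refine ⟨p₀, ?_⟩
    show eval₂ ((AdjoinRoot.of f).comp Φ) (AdjoinRoot.root f) p₀ = _
    rw [← eval₂_map, ← AdjoinRoot.aeval_eq, aeval_def, AdjoinRoot.algebraMap_eq]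
  let Φ₂ : T[X][X] →+* AdjoinRoot f := eval₂RingHom Φ₁ 0
  have hΦ₂C : ∀ p : T[X], Φ₂ (C p) = Φ₁ p := fun p => eval₂_C _ _
  have hΦ₂X : Φ₂ X = 0 := eval₂_X _ _
  have hΦ₂surj : Function.Surjective Φ₂ := by
    intro z
    obtain ⟨p, rfl⟩ := hΦ₁surj z
    exact ⟨C p, hΦ₂C p⟩
  -- the ideal
  let I : Ideal T[X][X] := Ideal.span {(X : T[X][X])} ⊔ RingHom.ker (ev ψ θ ϖ)
  have ha1 : a = (a - 1) + 1 := by omega
  have hb1 : b = (b - 1) + 1 := by omega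
  obtain ⟨Ξ₀, hΞ₀⟩ := WU.exists_Xi (A := A) (B := B) (V₁ := V') (T' := T[X][X])
    ((C.comp C).comp jB) ((C.comp C).comp jV)
    (fun x => by
      show C (C (jB (algebraMap A B x))) = C (C (jV (algebraMap A V' x)))
      rw [hcompat])
    I
    (fun x hx => by
      rw [hπB, Ideal.mem_span_singleton] at hx
      obtain ⟨x', rfl⟩ := hx
      show C (C (jB (πB * x'))) ∈ I
      refine mem_of_eq_mul (ev ψ θ ϖ) X
        (c := X ^ (a - 1) * (C X) ^ r * C (C (jB x'))) ?_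
      have e1 : ev ψ θ ϖ (X * (X ^ (a - 1) * (C X) ^ r * C (C (jB x')))) =
          ϖ * (ϖ ^ (a - 1) * θ ^ r * algebraMap B W x') := by
        simp only [map_mul, map_pow, hψX, hψCX, hψCC, hψB]
      rw [e1, hψCC, hψB, map_mul, hϖB]
      conv_lhs => rw [ha1, pow_succ]
      ring)
    (fun x hx => by
      rw [hπ', Ideal.mem_span_singleton] at hx
      obtain ⟨x', rfl⟩ := hx
      show C (C (jV (π' * x'))) ∈ I
      refine mem_of_eq_mul (ev ψ θ ϖ) X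
        (c := X ^ (b - 1) * (C X) ^ s * C (C (jV x'))) ?_
      have e1 : ev ψ θ ϖ (X * (X ^ (b - 1) * (C X) ^ s * C (C (jV x')))) =
          ϖ * (ϖ ^ (b - 1) * θ ^ s * algebraMap V' W x') := by
        simp only [map_mul, map_pow, hψX, hψCX, hψCC, hψV]
      rw [e1, hψCC, hψV, map_mul, hϖ']
      conv_lhs => rw [hb1, pow_succ]
      ring)
  have hΞ₀' : ∀ (x : B) (v : V'), Ξ₀ ((residue B x) ⊗ₜ[kA] (residue V' v)) =
      Ideal.Quotient.mk I (C (C (jB x * jV v))) := by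
    intro x v
    rw [hΞ₀]
    show Ideal.Quotient.mk I (C (C (jB x)) * C (C (jV v))) = _
    rw [← C_mul, ← C_mul]
  have hΞ₀Φ : ∀ t : T, Ξ₀ (Φ t) = Ideal.Quotient.mk I (C (C t)) := by
    intro t
    refine hind (fun t => Ξ₀ (Φ t) = Ideal.Quotient.mk I (C (C t))) ?_ ?_ ?_ t
    · rw [map_zero, map_zero, map_zero, map_zero, map_zero]
    · intro x v
      rw [hΦ, hΞ₀']
    · intro t t' ht ht'
      rw [map_add, map_add, ht, ht', C_add, C_add, map_add]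
  have hψc₀ : ev ψ θ ϖ (C (C c₀)) * algebraMap V' W u' = algebraMap B W uB := by
    rw [hψCC, map_mul, hψB, hψV, mul_assoc, ← map_mul, Units.inv_mul, map_one, mul_one]
  have hu'0 : algebraMap V' W u' ≠ 0 := by
    intro h0
    have : IsUnit (algebraMap V' W u') := u'.isUnit.map _
    rw [h0] at this
    exact not_isUnit_zero this
  have hrel : f.eval₂ Ξ₀ (Ideal.Quotient.mk I (C X)) = 0 := by
    show eval₂ Ξ₀ (Ideal.Quotient.mk I (C X)) (X ^ g - C (Φ c₀)) = 0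
    rw [eval₂_sub, eval₂_X_pow, eval₂_C, hΞ₀Φ, sub_eq_zero, ← map_pow]
    refine mk_eq_of_eq (ev ψ θ ϖ) X ?_
    rw [map_pow, hψCX]
    apply mul_right_cancel₀ hu'0
    rw [hθ, hψc₀]
  let Ξ' : AdjoinRoot f →+* T[X][X] ⧸ I := AdjoinRoot.lift Ξ₀ (Ideal.Quotient.mk I (C X)) hrel
  have hΞΦ₁ : ∀ p : T[X], Ξ' (Φ₁ p) = Ideal.Quotient.mk I (C p) := by
    have : Ξ'.comp Φ₁ = (Ideal.Quotient.mk I).comp C := by
      refine Polynomial.ringHom_ext (fun t => ?_) ?_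
      · show Ξ' (Φ₁ (C t)) = _
        rw [hΦ₁C, AdjoinRoot.lift_of, hΞ₀Φ]
        rfl
      · show Ξ' (Φ₁ X) = _
        rw [hΦ₁X, AdjoinRoot.lift_root]
        rfl
    exact fun p => RingHom.congr_fun this p
  have hΞΦ : ∀ t : T[X][X], Ξ' (Φ₂ t) = Ideal.Quotient.mk I t := by
    have : Ξ'.comp Φ₂ = Ideal.Quotient.mk I := by
      refine Polynomial.ringHom_ext (fun p => ?_) ?_
      · show Ξ' (Φ₂ (C p)) = _
        rw [hΦ₂C, hΞΦ₁]
      · show Ξ' (Φ₂ X) = _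
        rw [hΦ₂X, map_zero, eq_comm, Ideal.Quotient.eq_zero_iff_mem]
        exact Ideal.mem_sup_left (Ideal.mem_span_singleton_self _)
    exact fun t => RingHom.congr_fun this t
  have hq : ∀ t : T[X][X], ev ψ θ ϖ t ∈ maximalIdeal W →
      ∃ s c : T[X][X], ev ψ θ ϖ s ∉ maximalIdeal W ∧
        ev ψ θ ϖ (s * t) = ev ψ θ ϖ (X * c) :=
    hq_generic (ev ψ θ ϖ) X Φ₂ hΦ₂surj Ξ' hΞΦ (fun y => WU.exists_eq_sq_mul (ℓ := kB) y
      (Algebra.IsIntegral.isIntegral (R := kB) y).isAlgebraic)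
  have hϖmem : ev ψ θ ϖ X ∈ maximalIdeal W := by rw [hψX]; exact hϖ
  obtain ⟨hmax, hall⟩ := WU.core' (ev ψ θ ϖ) X hϖmem hq
    (fun x hx => by rw [hψX]; exact hsep x hx)
    (fun y => by
      obtain ⟨t₁, t₂, h2, h12⟩ := hfrac y
      exact ⟨C (C t₁), C (C t₂), by rw [hψCC]; exact h2, by rw [hψCC, hψCC]; exact h12⟩)
  rw [hψX] at hmax
  exact ⟨hmax, hall⟩

end Abstract

end Groth.Agent.Lib.Helper27.TBC
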