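import Mathlib
import Groth.Prelude.Def_EtRam
import Groth.Agent.Lib.Helper27.TBC1

/-! Tame base change: separability of the residue field extension (abstract version). -/

set_option autoImplicit false

namespace Groth.Agent.Lib.Helper27.TBC
open IsLocalRing TensorProduct Polynomial

universe u

section Abstract
variable {A B V' W T : Type u} [CommRing A] [IsLocalRing A] [CommRing B] [IsLocalRing B]
  [CommRing V'] [IsLocalRing V']
  [Algebra A B] [IsLocalHom (algebraMap A B)] [Algebra A V'] [IsLocalHom (algebraMap A V')]
  [CommRing W] [IsDomain W] [IsLocalRing W] [Algebra B W] [IsLocalHom (algebraMap B W)]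
  [Algebra V' W] [IsLocalHom (algebraMap V' W)] [CommRing T]
  [Algebra A W] [IsScalarTower A B W] [IsScalarTower A V' W]

local notation "kA" => ResidueField A
local notation "kB" => ResidueField B
local notation "k'" => ResidueField V'
local notation "kW" => ResidueField W

theorem residue_separable (jB : B →+* T) (jV : V' →+* T) (ψ : T →+* W)
    (hψB : ∀ x : B, ψ (jB x) = algebraMap B W x) (hψV : ∀ v : V', ψ (jV v) = algebraMap V' W v)
    (hind : ∀ (P : T → Prop), P 0 → (∀ x v, P (jB x * jV v)) →
      (∀ t t', P t → P t' → P (t + t')) → ∀ t, P t)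
    [Algebra.IsSeparable kA k']
    (g : ℕ) (hg : (g : kA) ≠ 0)
    (uB : Bˣ) (u' : V'ˣ) (θ ϖ : W)
    (hθ : θ ^ g * algebraMap V' W u' = algebraMap B W uB)
    (hϖ : ϖ ∈ maximalIdeal W)
    (hall : ∀ w : W, ∃ t s : T[X][X],
        ev ψ θ ϖ s ∉ maximalIdeal W ∧ w * ev ψ θ ϖ s = ev ψ θ ϖ t) :
    Algebra.IsSeparable kB kW := by
  classical
  haveI hlocAW : IsLocalHom (algebraMap A W) := by
    rw [IsScalarTower.algebraMap_eq A B W]
    exact RingHom.isLocalHom_comp _ _
  haveI : IsScalarTower kA kB kW := by
    refine .of_algebraMap_eq fun x => ?_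
    obtain ⟨x, rfl⟩ := residue_surjective x
    rw [ResidueField.algebraMap_residue, ResidueField.algebraMap_residue,
      ResidueField.algebraMap_residue, ← IsScalarTower.algebraMap_apply]
  haveI : IsScalarTower kA k' kW := by
    refine .of_algebraMap_eq fun x => ?_
    obtain ⟨x, rfl⟩ := residue_surjective x
    rw [ResidueField.algebraMap_residue, ResidueField.algebraMap_residue,
      ResidueField.algebraMap_residue, ← IsScalarTower.algebraMap_apply]
  let S : IntermediateField kB kW := separableClosure kB kW
  have hSB : ∀ x : B, residue W (algebraMap B W x) ∈ S := by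
    intro x
    rw [← ResidueField.algebraMap_residue]
    exact S.algebraMap_mem _
  have hSV : ∀ v : V', residue W (algebraMap V' W v) ∈ S := by
    intro v
    rw [← ResidueField.algebraMap_residue]
    show _ ∈ separableClosure kB kW
    rw [mem_separableClosure_iff]
    have h1 : IsSeparable kA (residue V' v) := Algebra.IsSeparable.isSeparable kA _
    have h2 : IsSeparable kA (algebraMap k' kW (residue V' v)) :=
      h1.map (IsScalarTower.toAlgHom kA k' kW) (algebraMap k' kW).injective
    exact IsSeparable.tower_top (F := kA) (L := kB) h2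
  have hg0 : g ≠ 0 := by
    rintro rfl
    exact hg Nat.cast_zero
  -- `θ̄ ∈ S`
  have hSθ : residue W θ ∈ S := by
    have hu'0 : residue W (algebraMap V' W u') ≠ 0 := by
      rw [Ne, residue_eq_zero_iff, mem_maximalIdeal, mem_nonunits_iff, not_not]
      exact u'.isUnit.map _
    have huB0 : residue W (algebraMap B W uB) ≠ 0 := by
      rw [Ne, residue_eq_zero_iff, mem_maximalIdeal, mem_nonunits_iff, not_not]
      exact uB.isUnit.map _
    let c : S := ⟨residue W (algebraMap B W uB) / residue W (algebraMap V' W u'),
      S.div_mem (hSB _) (hSV _)⟩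
    have hc0 : c ≠ 0 := by
      intro h0
      have : (c : kW) = 0 := by rw [h0]; rfl
      exact div_ne_zero huB0 hu'0 this
    have hgS : ((g : ℕ) : S) ≠ 0 := by
      have e : ((g : ℕ) : S) = algebraMap kA S ((g : ℕ) : kA) := (map_natCast _ _).symm
      rw [e]
      exact (_root_.map_ne_zero _).mpr hg
    have hsepP : (X ^ g - C c : S[X]).Separable := separable_X_pow_sub_C c hgS hc0
    have hroot : aeval (residue W θ) (X ^ g - C c : S[X]) = 0 := by
      rw [map_sub, map_pow, aeval_X, aeval_C]
      show residue W θ ^ g - residue W (algebraMap B W uB) / residue W (algebraMap V' W u') = 0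
      rw [sub_eq_zero, eq_div_iff hu'0, ← map_pow, ← map_mul, hθ]
    have hsepθ : IsSeparable S (residue W θ) := hsepP.of_dvd (minpoly.dvd S _ hroot)
    haveI : Algebra.IsSeparable kB S := separableClosure.isSeparable kB kW
    have : IsSeparable kB (residue W θ) :=
      IsSeparable.of_algebra_isSeparable_of_isSeparable kB hsepθ
    exact mem_separableClosure_iff.mpr this
  have hSϖ : residue W ϖ ∈ S := by
    rw [(residue_eq_zero_iff ϖ).mpr hϖ]
    exact S.zero_mem
  -- the image of `T[X][X]` lies in `S`
  have hST : ∀ t : T, residue W (ψ t) ∈ S := by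
    intro t
    refine hind (fun t => residue W (ψ t) ∈ S) ?_ ?_ ?_ t
    · rw [map_zero, map_zero]; exact S.zero_mem
    · intro x v
      rw [map_mul, hψB, hψV, map_mul]
      exact S.mul_mem (hSB x) (hSV v)
    · intro t t' ht ht'
      rw [map_add, map_add]
      exact S.add_mem ht ht'
  have hS₁ : ∀ p : T[X], residue W (ev ψ θ ϖ (C p)) ∈ S := by
    intro p
    induction p using Polynomial.induction_on with
    | C t => rw [ev_CC]; exact hST t
    | add p q hp hq =>
      rw [C_add, map_add, map_add]
      exact S.add_mem hp hq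
    | monomial n t h =>
      rw [pow_succ, ← mul_assoc, C_mul, map_mul, map_mul, ev_CX]
      exact S.mul_mem h hSθ
  have hS₂ : ∀ p : T[X][X], residue W (ev ψ θ ϖ p) ∈ S := by
    intro p
    induction p using Polynomial.induction_on with
    | C t => exact hS₁ t
    | add p q hp hq =>
      rw [map_add, map_add]
      exact S.add_mem hp hq
    | monomial n t h =>
      rw [pow_succ, ← mul_assoc, map_mul, map_mul, ev_X]
      exact S.mul_mem h hSϖ
  have htop : ∀ y : kW, y ∈ S := by
    intro y
    obtain ⟨w, rfl⟩ := residue_surjective y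
    obtain ⟨t, s, hs, hws⟩ := hall w
    have hs0 : residue W (ev ψ θ ϖ s) ≠ 0 := by
      rw [Ne, residue_eq_zero_iff]
      exact hs
    have : residue W w = residue W (ev ψ θ ϖ t) / residue W (ev ψ θ ϖ s) := by
      rw [eq_div_iff hs0, ← map_mul, hws]
    rw [this]
    exact S.div_mem (hS₂ t) (hS₂ s)
  exact ⟨fun y => mem_separableClosure_iff.mp (htop y)⟩

end Abstract

end Groth.Agent.Lib.Helper27.TBC
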