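import Mathlib
import Groth.Prelude.Def_EtRam
import Groth.Agent.Lib.Helper27.WU11

/-! The tame (Abhyankar) abstract theorem: weak unramifiedness. -/

set_option autoImplicit false

namespace Groth.Agent.Lib.Helper27.WU
open IsLocalRing TensorProduct Polynomial

universe u

section TameAbstract
variable {A B V₁ W : Type u} [CommRing A] [IsLocalRing A] [CommRing B] [IsLocalRing B]
  [CommRing V₁] [IsLocalRing V₁]
  [Algebra A B] [IsLocalHom (algebraMap A B)] [Algebra A V₁] [IsLocalHom (algebraMap A V₁)]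
  [CommRing W] [IsDomain W] [IsLocalRing W] [Algebra B W] [IsLocalHom (algebraMap B W)]
  [Algebra V₁ W] [IsLocalHom (algebraMap V₁ W)]
  [Algebra A W] [IsScalarTower A B W] [IsScalarTower A V₁ W]

theorem tame_weak_abstract
    (π₁ : V₁) (hπ₁ : maximalIdeal V₁ = Ideal.span {π₁})
    [Algebra.IsAlgebraic (ResidueField A) (ResidueField V₁)]
    [Algebra.IsGeometricallyReduced (ResidueField A) (ResidueField B)]
    (e : ℕ) (he : (e : ResidueField A) ≠ 0) (uB : Bˣ) (u₁ : V₁ˣ) (θ : W)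
    (hθ : θ ^ e * algebraMap V₁ W u₁ = algebraMap B W uB)
    (hmB : ∀ b ∈ maximalIdeal B, ∃ t : (B ⊗[A] V₁)[X], algebraMap B W b =
      algebraMap V₁ W π₁ * (eval₂ (Algebra.TensorProduct.productMap (IsScalarTower.toAlgHom A B W)
        (IsScalarTower.toAlgHom A V₁ W)).toRingHom θ t))
    (hsep : ∀ x : W, x ≠ 0 → ∃ n : ℕ, x ∉ Ideal.span {(algebraMap V₁ W π₁) ^ n})
    (hfrac : ∀ y : W, ∃ t₁ t₂ : B ⊗[A] V₁,
      Algebra.TensorProduct.productMap (IsScalarTower.toAlgHom A B W)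
        (IsScalarTower.toAlgHom A V₁ W) t₂ ≠ 0 ∧
      y * Algebra.TensorProduct.productMap (IsScalarTower.toAlgHom A B W)
        (IsScalarTower.toAlgHom A V₁ W) t₂ =
        Algebra.TensorProduct.productMap (IsScalarTower.toAlgHom A B W)
          (IsScalarTower.toAlgHom A V₁ W) t₁) :
    EtRam.IsWeaklyUnramified V₁ W ∧
      ∀ w : W, ∃ t s : (B ⊗[A] V₁)[X],
        eval₂ (Algebra.TensorProduct.productMap (IsScalarTower.toAlgHom A B W)
          (IsScalarTower.toAlgHom A V₁ W)).toRingHom θ s ∉ maximalIdeal W ∧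
        w * eval₂ (Algebra.TensorProduct.productMap (IsScalarTower.toAlgHom A B W)
          (IsScalarTower.toAlgHom A V₁ W)).toRingHom θ s =
          eval₂ (Algebra.TensorProduct.productMap (IsScalarTower.toAlgHom A B W)
            (IsScalarTower.toAlgHom A V₁ W)).toRingHom θ t := by
  classical
  let kA := ResidueField A
  let kB := ResidueField B
  let k₁ := ResidueField V₁
  let E := kB ⊗[kA] k₁
  let T := B ⊗[A] V₁
  let ψ : T →ₐ[A] W := Algebra.TensorProduct.productMap (IsScalarTower.toAlgHom A B W)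
    (IsScalarTower.toAlgHom A V₁ W)
  have hψ : ∀ (b : B) (v : V₁), ψ (b ⊗ₜ v) = algebraMap B W b * algebraMap V₁ W v :=
    fun _ _ => rfl
  let ψ' : T[X] →+* W := eval₂RingHom ψ.toRingHom θ
  have hψ'C : ∀ t : T, ψ' (C t) = ψ t := fun t => eval₂_C _ _
  have hψ'X : ψ' X = θ := eval₂_X _ _
  haveI hEred : IsReduced E :=
    isReduced_of_injective (Algebra.TensorProduct.comm kA kB k₁).toRingHom
      (Algebra.TensorProduct.comm kA kB k₁).injective
  haveI : Algebra.IsIntegral kA k₁ := Algebra.IsAlgebraic.isIntegral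
  haveI hEint : Algebra.IsIntegral kB E := inferInstance
  obtain ⟨Φ, hΦ, hΦsurj⟩ := exists_Phi A B V₁
  have he0 : e ≠ 0 := by
    rintro rfl
    exact he Nat.cast_zero
  -- the polynomial
  let c₀ : T := (uB : B) ⊗ₜ[A] ((u₁⁻¹ : V₁ˣ) : V₁)
  have hc₀u : IsUnit (Φ c₀) := by
    refine isUnit_iff_exists_inv.mpr ⟨Φ (((uB⁻¹ : Bˣ) : B) ⊗ₜ[A] (u₁ : V₁)), ?_⟩
    rw [← map_mul, Algebra.TensorProduct.tmul_mul_tmul, Units.mul_inv, Units.inv_mul]
    exact map_one Φ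
  let f : E[X] := X ^ e - C (Φ c₀)
  have hfm : f.Monic := monic_X_pow_sub_C _ he0
  have heE : IsUnit ((e : ℕ) : E) := by
    have : ((e : ℕ) : E) = algebraMap kA E ((e : ℕ) : kA) := (map_natCast _ _).symm
    rw [this]
    exact (isUnit_iff_ne_zero.mpr he).map _
  have hfs : f.Separable := separable_X_pow_sub_C_unit hc₀u.unit heE
  haveI hE'red : IsReduced (AdjoinRoot f) := isReduced_adjoinRoot_of_separable f hfm hfs
  haveI : Module.Finite E (AdjoinRoot f) := hfm.finite_adjoinRoot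
  haveI : Algebra.IsIntegral E (AdjoinRoot f) := Algebra.IsIntegral.of_finite E _
  haveI : Algebra.IsIntegral kB (AdjoinRoot f) := Algebra.IsIntegral.trans E
  let Φ' : T[X] →+* AdjoinRoot f :=
    eval₂RingHom ((AdjoinRoot.of f).comp Φ) (AdjoinRoot.root f)
  have hΦ'C : ∀ t : T, Φ' (C t) = AdjoinRoot.of f (Φ t) := fun t => eval₂_C _ _
  have hΦ'X : Φ' X = AdjoinRoot.root f := eval₂_X _ _
  have hΦ'surj : Function.Surjective Φ' := by
    intro z
    obtain ⟨g, rfl⟩ := AdjoinRoot.mk_surjective z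
    obtain ⟨g₀, rfl⟩ := Polynomial.map_surjective Φ hΦsurj g
    refine ⟨g₀, ?_⟩
    show eval₂ ((AdjoinRoot.of f).comp Φ) (AdjoinRoot.root f) g₀ = _
    rw [← eval₂_map, ← AdjoinRoot.aeval_eq, aeval_def, AdjoinRoot.algebraMap_eq]
  -- the ideal
  let ϖ₀ : T := (1 : B) ⊗ₜ[A] π₁
  let I : Ideal T[X] := Ideal.span {C ϖ₀} ⊔ RingHom.ker ψ'
  have hkerI : ∀ t : T[X], ψ' t = 0 → t ∈ I := fun t ht =>
    Ideal.mem_sup_right ((RingHom.mem_ker).mpr ht)
  have hϖ : ψ' (C ϖ₀) = algebraMap V₁ W π₁ := by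
    rw [hψ'C, hψ, map_one, one_mul]
  obtain ⟨Ξ₀, hΞ₀⟩ := exists_Xi (A := A) (B := B) (V₁ := V₁) (T' := T[X])
    (C.comp (Algebra.TensorProduct.includeLeft : B →ₐ[A] T).toRingHom)
    (C.comp (Algebra.TensorProduct.includeRight : V₁ →ₐ[A] T).toRingHom)
    (fun a => by
      show C ((algebraMap A B a) ⊗ₜ[A] (1 : V₁)) = C ((1 : B) ⊗ₜ[A] (algebraMap A V₁ a))
      rw [Algebra.TensorProduct.tmul_one_eq_one_tmul])
    I
    (fun b hb => by
      obtain ⟨t, ht⟩ := hmB b hb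
      show C (b ⊗ₜ[A] (1 : V₁)) ∈ I
      have : C (b ⊗ₜ[A] (1 : V₁)) = C ϖ₀ * t + (C (b ⊗ₜ[A] (1 : V₁)) - C ϖ₀ * t) := by ring
      rw [this]
      refine I.add_mem (Ideal.mem_sup_left
        (Ideal.mul_mem_right _ _ (Ideal.mem_span_singleton_self _))) (hkerI _ ?_)
      rw [map_sub, map_mul, hϖ, hψ'C, hψ, map_one, mul_one, ht]
      exact sub_self _)
    (fun v hv => by
      rw [hπ₁, Ideal.mem_span_singleton] at hv
      obtain ⟨c, rfl⟩ := hv
      show C ((1 : B) ⊗ₜ[A] (π₁ * c)) ∈ I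
      have : C ((1 : B) ⊗ₜ[A] (π₁ * c)) = C ϖ₀ * C ((1 : B) ⊗ₜ[A] c) := by
        rw [← C_mul, Algebra.TensorProduct.tmul_mul_tmul, one_mul]
      rw [this]
      exact Ideal.mem_sup_left (Ideal.mul_mem_right _ _ (Ideal.mem_span_singleton_self _)))
  have hΞ₀' : ∀ (b : B) (v : V₁), Ξ₀ ((residue B b) ⊗ₜ[kA] (residue V₁ v)) =
      Ideal.Quotient.mk I (C (b ⊗ₜ[A] v)) := by
    intro b v
    rw [hΞ₀]
    show Ideal.Quotient.mk I (C (b ⊗ₜ[A] (1 : V₁)) * C ((1 : B) ⊗ₜ[A] v)) = _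
    rw [← C_mul, Algebra.TensorProduct.tmul_mul_tmul, mul_one, one_mul]
  have hΞ₀Φ : ∀ t : T, Ξ₀ (Φ t) = Ideal.Quotient.mk I (C t) := by
    intro t
    induction t using TensorProduct.induction_on with
    | zero => rw [map_zero, map_zero, map_zero, map_zero]
    | tmul b v => rw [hΦ, hΞ₀']
    | add t t' ht ht' => rw [map_add, map_add, ht, ht', C_add, map_add]
  have hrel : f.eval₂ Ξ₀ (Ideal.Quotient.mk I X) = 0 := by
    show eval₂ Ξ₀ (Ideal.Quotient.mk I X) (X ^ e - C (Φ c₀)) = 0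
    rw [eval₂_sub, eval₂_X_pow, eval₂_C, hΞ₀Φ, ← map_pow, ← map_sub,
      Ideal.Quotient.eq_zero_iff_mem]
    apply hkerI
    rw [map_sub, map_pow, hψ'X, hψ'C, hψ, sub_eq_zero, ← hθ, mul_assoc, ← map_mul,
      Units.mul_inv, map_one, mul_one]
  let Ξ' : AdjoinRoot f →+* T[X] ⧸ I := AdjoinRoot.lift Ξ₀ (Ideal.Quotient.mk I X) hrel
  have hΞΦ : ∀ t : T[X], Ξ' (Φ' t) = Ideal.Quotient.mk I t := by
    have : Ξ'.comp Φ' = Ideal.Quotient.mk I := by
      refine Polynomial.ringHom_ext (fun a => ?_) ?_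
      · show Ξ' (Φ' (C a)) = _
        rw [hΦ'C, AdjoinRoot.lift_of, hΞ₀Φ]
      · show Ξ' (Φ' X) = _
        rw [hΦ'X, AdjoinRoot.lift_root]
    exact fun t => RingHom.congr_fun this t
  have hπ₁mem : π₁ ∈ maximalIdeal V₁ := by rw [hπ₁]; exact Ideal.mem_span_singleton_self _
  have hϖmem : ψ' (C ϖ₀) ∈ maximalIdeal W := by
    rw [hϖ]
    exact (mem_maximalIdeal _).mpr
      (map_nonunit (algebraMap V₁ W) π₁ ((mem_maximalIdeal _).mp hπ₁mem))
  have hq : ∀ t : T[X], ψ' t ∈ maximalIdeal W →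
      ∃ s c : T[X], ψ' s ∉ maximalIdeal W ∧ ψ' (s * t) = ψ' (C ϖ₀ * c) := by
    intro t ht
    obtain ⟨y₀, hy₀⟩ := exists_eq_sq_mul (ℓ := kB) (Φ' t)
      (Algebra.IsIntegral.isIntegral (R := kB) (Φ' t)).isAlgebraic
    obtain ⟨y, rfl⟩ := hΦ'surj y₀
    have hmemI : t - t * t * y ∈ I := by
      rw [← Ideal.Quotient.eq_zero_iff_mem, ← hΞΦ, map_sub, map_mul, map_mul, ← hy₀, sub_self,
        map_zero]
    obtain ⟨a, ha, k, hk, hak⟩ := Submodule.mem_sup.mp hmemI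
    rw [Ideal.mem_span_singleton] at ha
    obtain ⟨c, rfl⟩ := ha
    refine ⟨1 - t * y, c, ?_, ?_⟩
    · rw [map_sub, map_one, map_mul]
      have hmem : ψ' t * ψ' y ∈ maximalIdeal W := Ideal.mul_mem_right _ _ ht
      exact notMem_maximalIdeal.mpr (IsLocalRing.isUnit_one_sub_self_of_mem_nonunits _ hmem)
    · have : (1 - t * y) * t = C ϖ₀ * c + k := by rw [hak]; ring
      rw [this, map_add, (RingHom.mem_ker).mp hk, add_zero]
  obtain ⟨hmax, hall⟩ := core' ψ' (C ϖ₀) hϖmem hq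
    (fun x hx => by rw [hϖ]; exact hsep x hx)
    (fun y => by
      obtain ⟨t₁, t₂, h2, h12⟩ := hfrac y
      exact ⟨C t₁, C t₂, by rw [hψ'C]; exact h2, by rw [hψ'C, hψ'C]; exact h12⟩)
  refine ⟨?_, hall⟩
  show (maximalIdeal V₁).map (algebraMap V₁ W) = maximalIdeal W
  rw [hπ₁, Ideal.map_span, Set.image_singleton, hmax, hϖ]

end TameAbstract

end Groth.Agent.Lib.Helper27.WU
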