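import Mathlib
import Groth.Prelude.Def_EtRam
import Groth.Agent.Lib.Helper27.WU12

/-! Geometric reducedness of a compositum of residue fields with an adjoined tame root. -/

set_option autoImplicit false

namespace Groth.Agent.Lib.Helper27.WU
open IsLocalRing TensorProduct Polynomial

universe u

theorem geomReduced_of_compositum_root (k : Type u) {k₁ ℓ Λ : Type u} [Field k] [Field k₁]
    [Field ℓ] [Field Λ] [Algebra k k₁] [Algebra.IsAlgebraic k k₁] [Algebra k ℓ]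
    [Algebra.IsGeometricallyReduced k ℓ]
    [Algebra k₁ Λ] [Algebra ℓ Λ] [Algebra k Λ] [IsScalarTower k k₁ Λ] [IsScalarTower k ℓ Λ]
    (e : ℕ) (he : (e : k) ≠ 0) (cℓ : ℓ) (c₁ : k₁) (hcℓ : cℓ ≠ 0) (hc₁ : c₁ ≠ 0) (θ : Λ)
    (hθ : θ ^ e = algebraMap ℓ Λ cℓ * algebraMap k₁ Λ c₁)
    (hgen : Algebra.adjoin ℓ (Set.range (algebraMap k₁ Λ) ∪ {θ}) = ⊤) :
    Algebra.IsGeometricallyReduced k₁ Λ := by
  classical
  rw [Algebra.isGeometricallyReduced_field_iff]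
  let Ω := AlgebraicClosure k₁
  haveI : Algebra.IsAlgebraic k Ω := Algebra.IsAlgebraic.trans k k₁ Ω
  haveI h1 : IsReduced (Ω ⊗[k] ℓ) := inferInstance
  haveI h2 : IsReduced (ℓ ⊗[k] Ω) :=
    isReduced_of_injective (Algebra.TensorProduct.comm k ℓ Ω).toRingHom
      (Algebra.TensorProduct.comm k ℓ Ω).injective
  haveI : Algebra.IsIntegral k Ω := Algebra.IsAlgebraic.isIntegral
  haveI h3 : Algebra.IsIntegral ℓ (ℓ ⊗[k] Ω) := inferInstance
  have he0 : e ≠ 0 := by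
    rintro rfl
    exact he Nat.cast_zero
  let f₁ : ℓ →ₐ[k] Ω ⊗[k₁] Λ :=
    { toRingHom := (Algebra.TensorProduct.includeRight : Λ →ₐ[k₁] Ω ⊗[k₁] Λ).toRingHom.comp
        (algebraMap ℓ Λ)
      commutes' := fun r => by
        show (1 : Ω) ⊗ₜ[k₁] (algebraMap ℓ Λ (algebraMap k ℓ r)) = algebraMap k (Ω ⊗[k₁] Λ) r
        rw [Algebra.TensorProduct.algebraMap_apply, ← IsScalarTower.algebraMap_apply k ℓ Λ,
          IsScalarTower.algebraMap_apply k k₁ Λ, IsScalarTower.algebraMap_apply k k₁ Ω,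
          Algebra.TensorProduct.tmul_one_eq_one_tmul] }
  let f₂ : Ω →ₐ[k] Ω ⊗[k₁] Λ :=
    (Algebra.TensorProduct.includeLeft : Ω →ₐ[k₁] Ω ⊗[k₁] Λ).restrictScalars k
  let Θ : ℓ ⊗[k] Ω →ₐ[k] Ω ⊗[k₁] Λ := Algebra.TensorProduct.productMap f₁ f₂
  have hΘ : ∀ (l : ℓ) (ω : Ω), Θ (l ⊗ₜ ω) = ω ⊗ₜ[k₁] (algebraMap ℓ Λ l) := by
    intro l ω
    show ((1 : Ω) ⊗ₜ[k₁] (algebraMap ℓ Λ l)) * (ω ⊗ₜ[k₁] (1 : Λ)) = _
    rw [Algebra.TensorProduct.tmul_mul_tmul, one_mul, mul_one]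
  -- the polynomial
  let c : ℓ ⊗[k] Ω := cℓ ⊗ₜ[k] (algebraMap k₁ Ω c₁)
  have hcu : IsUnit c := by
    refine isUnit_iff_exists_inv.mpr ⟨cℓ⁻¹ ⊗ₜ[k] (algebraMap k₁ Ω c₁)⁻¹, ?_⟩
    rw [Algebra.TensorProduct.tmul_mul_tmul, mul_inv_cancel₀ hcℓ,
      mul_inv_cancel₀ ((_root_.map_ne_zero _).mpr hc₁)]
    rfl
  let f : (ℓ ⊗[k] Ω)[X] := X ^ e - C c
  have hfm : f.Monic := monic_X_pow_sub_C _ he0
  have heR : IsUnit ((e : ℕ) : ℓ ⊗[k] Ω) := by
    have : ((e : ℕ) : ℓ ⊗[k] Ω) = algebraMap k (ℓ ⊗[k] Ω) ((e : ℕ) : k) := (map_natCast _ _).symm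
    rw [this]
    exact (isUnit_iff_ne_zero.mpr he).map _
  have hfs : f.Separable := separable_X_pow_sub_C_unit hcu.unit heR
  haveI hR₀red : IsReduced (AdjoinRoot f) := isReduced_adjoinRoot_of_separable f hfm hfs
  haveI : Module.Finite (ℓ ⊗[k] Ω) (AdjoinRoot f) := hfm.finite_adjoinRoot
  haveI : Algebra.IsIntegral (ℓ ⊗[k] Ω) (AdjoinRoot f) := Algebra.IsIntegral.of_finite _ _
  haveI : Algebra.IsIntegral ℓ (AdjoinRoot f) := Algebra.IsIntegral.trans (ℓ ⊗[k] Ω)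
  have hrel : f.eval₂ Θ.toRingHom ((1 : Ω) ⊗ₜ[k₁] θ) = 0 := by
    show eval₂ Θ.toRingHom ((1 : Ω) ⊗ₜ[k₁] θ) (X ^ e - C c) = 0
    rw [eval₂_sub, eval₂_X_pow, eval₂_C]
    show ((1 : Ω) ⊗ₜ[k₁] θ) ^ e - Θ c = 0
    rw [hΘ, Algebra.TensorProduct.tmul_pow, one_pow, hθ, sub_eq_zero,
      show algebraMap k₁ Ω c₁ = c₁ • (1 : Ω) from Algebra.algebraMap_eq_smul_one c₁,
      TensorProduct.smul_tmul, Algebra.smul_def, mul_comm]
  let Θ' : AdjoinRoot f →+* Ω ⊗[k₁] Λ := AdjoinRoot.lift Θ.toRingHom ((1 : Ω) ⊗ₜ[k₁] θ) hrel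
  have hΘ'of : ∀ z : ℓ ⊗[k] Ω, Θ' (AdjoinRoot.of f z) = Θ z := fun z => AdjoinRoot.lift_of _
  have hΘ'root : Θ' (AdjoinRoot.root f) = (1 : Ω) ⊗ₜ[k₁] θ := AdjoinRoot.lift_root _
  have hsurj : Function.Surjective Θ' := by
    have key : ∀ (x : Λ) (ω : Ω), ω ⊗ₜ[k₁] x ∈ Θ'.range := by
      intro x
      have hx : x ∈ Algebra.adjoin ℓ (Set.range (algebraMap k₁ Λ) ∪ {θ}) := by
        rw [hgen]; trivial
      induction hx using Algebra.adjoin_induction with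
      | mem x hx =>
        rcases hx with ⟨c', rfl⟩ | hx
        · intro ω
          refine ⟨AdjoinRoot.of f ((1 : ℓ) ⊗ₜ (c' • ω)), ?_⟩
          rw [hΘ'of, hΘ, map_one, Algebra.algebraMap_eq_smul_one c', TensorProduct.smul_tmul]
        · rw [Set.mem_singleton_iff] at hx
          subst hx
          intro ω
          refine ⟨AdjoinRoot.of f ((1 : ℓ) ⊗ₜ ω) * AdjoinRoot.root f, ?_⟩
          rw [map_mul, hΘ'of, hΘ'root, hΘ, map_one, Algebra.TensorProduct.tmul_mul_tmul, mul_one,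
            one_mul]
      | algebraMap l =>
        intro ω
        exact ⟨AdjoinRoot.of f (l ⊗ₜ ω), by rw [hΘ'of, hΘ]⟩
      | add x y _ _ hx hy =>
        intro ω
        rw [TensorProduct.tmul_add]
        exact Subring.add_mem _ (hx ω) (hy ω)
      | mul x y _ _ hx hy =>
        intro ω
        have : ω ⊗ₜ[k₁] (x * y) = (ω ⊗ₜ[k₁] x) * ((1 : Ω) ⊗ₜ[k₁] y) := by
          rw [Algebra.TensorProduct.tmul_mul_tmul, mul_one]
        rw [this]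
        exact Subring.mul_mem _ (hx ω) (hy 1)
    intro z
    induction z using TensorProduct.induction_on with
    | zero => exact ⟨0, map_zero _⟩
    | tmul ω x => exact key x ω
    | add z z' hz hz' =>
      obtain ⟨t, rfl⟩ := hz
      obtain ⟨t', rfl⟩ := hz'
      exact ⟨t + t', map_add _ _ _⟩
  exact isReduced_of_surjective_vnr Θ' hsurj fun x =>
    exists_eq_sq_mul (ℓ := ℓ) x (Algebra.IsIntegral.isIntegral (R := ℓ) x).isAlgebraic

end Groth.Agent.Lib.Helper27.WU
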