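import Mathlib
import Groth.Prelude.Def_EtRam
import Groth.Agent.Lib.Helper27.WU13

/-! The tame (Abhyankar) abstract theorem: full statement. -/

set_option autoImplicit false

namespace Groth.Agent.Lib.Helper27.WU
open IsLocalRing TensorProduct Polynomial

universe u

section TameAbstract
variable {A B V₁ W : Type u} [CommRing A] [IsLocalRing A] [CommRing B] [IsLocalRing B]
  [CommRing V₁] [IsLocalRing V₁]
  [Algebra A B] [IsLocalHom (algebraMap A B)] [Algebra A V₁] [IsLocalHom (algebraMap A V₁)]
  [CommRing W] [IsDomain W] [IsLocalRing W] [Algebra B W] [IsLocalHom (algebraMap B W)]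
  [Algebra V₁ W] [IsLocalHom (algebraMap V₁ W)]
  [Algebra A W] [IsScalarTower A B W] [IsScalarTower A V₁ W]

theorem tame_abstract
    (π₁ : V₁) (hπ₁ : maximalIdeal V₁ = Ideal.span {π₁})
    [Algebra.IsAlgebraic (ResidueField A) (ResidueField V₁)]
    [Algebra.IsGeometricallyReduced (ResidueField A) (ResidueField B)]
    (e : ℕ) (he : (e : ResidueField A) ≠ 0) (uB : Bˣ) (u₁ : V₁ˣ) (θ : W)
    (hθ : θ ^ e * algebraMap V₁ W u₁ = algebraMap B W uB)
    (hmB : ∀ b ∈ maximalIdeal B, ∃ t : (B ⊗[A] V₁)[X], algebraMap B W b =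
      algebraMap V₁ W π₁ * (eval₂ (Algebra.TensorProduct.productMap (IsScalarTower.toAlgHom A B W)
        (IsScalarTower.toAlgHom A V₁ W)).toRingHom θ t))
    (hsep : ∀ x : W, x ≠ 0 → ∃ n : ℕ, x ∉ Ideal.span {(algebraMap V₁ W π₁) ^ n})
    (hfrac : ∀ y : W, ∃ t₁ t₂ : B ⊗[A] V₁,
      Algebra.TensorProduct.productMap (IsScalarTower.toAlgHom A B W)
        (IsScalarTower.toAlgHom A V₁ W) t₂ ≠ 0 ∧
      y * Algebra.TensorProduct.productMap (IsScalarTower.toAlgHom A B W)
        (IsScalarTower.toAlgHom A V₁ W) t₂ =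
        Algebra.TensorProduct.productMap (IsScalarTower.toAlgHom A B W)
          (IsScalarTower.toAlgHom A V₁ W) t₁) :
    EtRam.IsWeaklyUnramified V₁ W ∧
      ∀ (alg : Algebra (ResidueField V₁) (ResidueField W)),
        (∀ v : V₁, @algebraMap _ _ _ _ alg (residue V₁ v) = residue W (algebraMap V₁ W v)) →
        @Algebra.IsGeometricallyReduced (ResidueField V₁) (ResidueField W) _ _ alg := by
  classical
  obtain ⟨hweak, hall⟩ := tame_weak_abstract π₁ hπ₁ e he uB u₁ θ hθ hmB hsep hfrac
  refine ⟨hweak, ?_⟩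
  let ψ : B ⊗[A] V₁ →ₐ[A] W := Algebra.TensorProduct.productMap (IsScalarTower.toAlgHom A B W)
    (IsScalarTower.toAlgHom A V₁ W)
  have hψ : ∀ (b : B) (v : V₁), ψ (b ⊗ₜ v) = algebraMap B W b * algebraMap V₁ W v :=
    fun _ _ => rfl
  intro alg halg
  letI := alg
  haveI hlocAW : IsLocalHom (algebraMap A W) := by
    rw [IsScalarTower.algebraMap_eq A B W]
    exact RingHom.isLocalHom_comp _ _
  haveI : IsScalarTower (ResidueField A) (ResidueField V₁) (ResidueField W) := by
    refine .of_algebraMap_eq fun r => ?_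
    obtain ⟨a, rfl⟩ := residue_surjective r
    rw [ResidueField.algebraMap_residue, ResidueField.algebraMap_residue, halg,
      ← IsScalarTower.algebraMap_apply]
  have he0 : e ≠ 0 := by
    rintro rfl
    exact he Nat.cast_zero
  have hθ' : θ ^ e = algebraMap B W uB * algebraMap V₁ W ((u₁⁻¹ : V₁ˣ) : V₁) := by
    rw [← hθ, mul_assoc, ← map_mul, Units.mul_inv, map_one, mul_one]
  have hθres : (residue W θ) ^ e = algebraMap (ResidueField B) (ResidueField W) (residue B uB) *
      algebraMap (ResidueField V₁) (ResidueField W) (residue V₁ ((u₁⁻¹ : V₁ˣ) : V₁)) := by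
    rw [← map_pow, hθ', map_mul, halg, ResidueField.algebraMap_residue]
  have hu1 : residue B (uB : B) ≠ 0 := by
    rw [Ne, residue_eq_zero_iff]
    exact notMem_maximalIdeal.mpr uB.isUnit
  have hu2 : residue V₁ ((u₁⁻¹ : V₁ˣ) : V₁) ≠ 0 := by
    rw [Ne, residue_eq_zero_iff]
    exact notMem_maximalIdeal.mpr (u₁⁻¹).isUnit
  apply geomReduced_of_compositum_root (ResidueField A) (ℓ := ResidueField B) e he
    (residue B uB) (residue V₁ ((u₁⁻¹ : V₁ˣ) : V₁)) hu1 hu2 (residue W θ) hθres
  have halg' : ∀ x ∈ Set.range (algebraMap (ResidueField V₁) (ResidueField W)) ∪ {residue W θ},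
      IsAlgebraic (ResidueField B) x := by
    have hrange : ∀ c : ResidueField V₁, IsAlgebraic (ResidueField B)
        (algebraMap (ResidueField V₁) (ResidueField W) c) := by
      intro c
      have hc : IsAlgebraic (ResidueField A) c := Algebra.IsAlgebraic.isAlgebraic c
      exact (hc.algebraMap (A := ResidueField W)).tower_top (ResidueField B)
    rintro x (⟨c, rfl⟩ | hx)
    · exact hrange c
    · rw [Set.mem_singleton_iff] at hx
      subst hx
      have h1 : IsIntegral (ResidueField B) ((residue W θ) ^ e) := by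
        rw [hθres]
        exact isIntegral_algebraMap.mul (hrange _).isIntegral
      exact (IsIntegral.of_pow (Nat.pos_of_ne_zero he0) h1).isAlgebraic
  have hSeq := IntermediateField.adjoin_toSubalgebra_of_isAlgebraic halg'
  have hψF : ∀ t : B ⊗[A] V₁, residue W (ψ t) ∈ IntermediateField.adjoin (ResidueField B)
      (Set.range (algebraMap (ResidueField V₁) (ResidueField W)) ∪ {residue W θ}) := by
    intro t
    induction t using TensorProduct.induction_on with
    | zero => rw [map_zero, map_zero]; exact zero_mem _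
    | tmul b v =>
      rw [hψ, map_mul, ← halg, ← ResidueField.algebraMap_residue]
      exact mul_mem (IntermediateField.algebraMap_mem _ _)
        (IntermediateField.subset_adjoin _ _ (Set.mem_union_left _ ⟨_, rfl⟩))
    | add t t' ht ht' => rw [map_add, map_add]; exact add_mem ht ht'
  have hθF : residue W θ ∈ IntermediateField.adjoin (ResidueField B)
      (Set.range (algebraMap (ResidueField V₁) (ResidueField W)) ∪ {residue W θ}) :=
    IntermediateField.subset_adjoin _ _ (Set.mem_union_right _ (Set.mem_singleton _))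
  have hψ'F : ∀ t : (B ⊗[A] V₁)[X], residue W (eval₂ ψ.toRingHom θ t) ∈
      IntermediateField.adjoin (ResidueField B)
        (Set.range (algebraMap (ResidueField V₁) (ResidueField W)) ∪ {residue W θ}) := by
    intro t
    induction t using Polynomial.induction_on' with
    | add p q hp hq => rw [eval₂_add, map_add]; exact add_mem hp hq
    | monomial n a =>
      rw [eval₂_monomial, map_mul, map_pow]
      exact mul_mem (hψF a) (pow_mem hθF n)
  rw [eq_top_iff]
  intro x _
  rw [← hSeq]
  obtain ⟨w, rfl⟩ := residue_surjective x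
  obtain ⟨t, s, hs, hws⟩ := hall w
  have hs0 : residue W (eval₂ ψ.toRingHom θ s) ≠ 0 := by
    rw [Ne, residue_eq_zero_iff]; exact hs
  have : residue W w = residue W (eval₂ ψ.toRingHom θ t) / residue W (eval₂ ψ.toRingHom θ s) := by
    rw [eq_div_iff hs0, ← map_mul]
    exact congrArg _ hws
  rw [this]
  show _ ∈ IntermediateField.adjoin (ResidueField B)
      (Set.range (algebraMap (ResidueField V₁) (ResidueField W)) ∪ {residue W θ})
  exact div_mem (hψ'F t) (hψ'F s)

end TameAbstract

end Groth.Agent.Lib.Helper27.WU
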