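import Mathlib
import Groth.Prelude.Def_EtRam
import Groth.Agent.Lib.Helper27.WU14

/-! Field extensions of perfect fields are geometrically reduced; ramification index in DVRs. -/

set_option autoImplicit false

namespace Groth.Agent.Lib.Helper27.WU
open IsLocalRing TensorProduct Polynomial

universe u

theorem geomReduced_of_perfectField {k ℓ : Type u} [Field k] [PerfectField k] [Field ℓ]
    [Algebra k ℓ] : Algebra.IsGeometricallyReduced k ℓ := by
  classical
  rw [Algebra.isGeometricallyReduced_field_iff]
  let Ω := AlgebraicClosure k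
  haveI : Algebra.IsSeparable k Ω := Algebra.IsAlgebraic.isSeparable_of_perfectField
  have hred : IsReduced (ℓ ⊗[k] Ω) := by
    apply IsReduced.tensorProduct_of_flat_of_forall_fg
    intro F hF
    haveI : Algebra.IsIntegral k F := ⟨fun x =>
      (isIntegral_algHom_iff F.val Subtype.val_injective).mp
        (Algebra.IsIntegral.isIntegral (R := k) (x : Ω))⟩
    haveI : Algebra.FiniteType k F := (Subalgebra.fg_iff_finiteType F).mp hF
    haveI : Module.Finite k F := Algebra.IsIntegral.finite
    have hFfield : IsField F := Subalgebra.isField_of_algebraic F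
    letI : Field F := hFfield.toField
    haveI : Algebra.IsSeparable k F :=
      (Subalgebra.isSeparable_iff).mpr (fun x _ => Algebra.IsSeparable.isSeparable k x)
    haveI : Algebra.FormallyUnramified k F := Algebra.FormallyUnramified.of_isSeparable k F
    haveI : Algebra.FormallyUnramified ℓ (ℓ ⊗[k] F) := inferInstance
    haveI : Algebra.EssFiniteType ℓ (ℓ ⊗[k] F) := inferInstance
    exact Algebra.FormallyUnramified.isReduced_of_field ℓ (ℓ ⊗[k] F)
  exact isReduced_of_injective (Algebra.TensorProduct.comm k Ω ℓ).toRingHom
    (Algebra.TensorProduct.comm k Ω ℓ).injective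

theorem ramificationIdx'_eq {A V : Type*} [CommRing A] [IsLocalRing A] [CommRing V] [IsDomain V]
    [IsDiscreteValuationRing V] [Algebra A V] (πA : A)
    (hπA : maximalIdeal A = Ideal.span {πA}) (π : V) (hπ : Irreducible π) (n : ℕ) (u : Vˣ)
    (h : algebraMap A V πA = u * π ^ n) :
    Ideal.ramificationIdx' (maximalIdeal A) (maximalIdeal V) = n := by
  apply Ideal.ramificationIdx'_spec
  · rw [hπA, Ideal.map_span, Set.image_singleton, hπ.maximalIdeal_eq, Ideal.span_singleton_pow,
      Ideal.span_singleton_le_span_singleton, h]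
    exact Dvd.intro_left _ rfl
  · rw [hπA, Ideal.map_span, Set.image_singleton, hπ.maximalIdeal_eq, Ideal.span_singleton_pow,
      Ideal.span_singleton_le_span_singleton, h]
    rintro ⟨c, hc⟩
    have e1 : π ^ n * (u : V) = π ^ n * (π * c) := by
      rw [mul_comm, hc, pow_succ]; ring
    have e2 := mul_left_cancel₀ (pow_ne_zero n hπ.ne_zero) e1
    exact hπ.not_isUnit (isUnit_of_mul_isUnit_left (e2 ▸ u.isUnit))

end Groth.Agent.Lib.Helper27.WU
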