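import Mathlib
import Groth.Prelude.Def_EtRam
import Groth.Agent.Lib.Helper27.WU6

/-! Totally ramified extensions: the unique valuation ring is the integral closure, and
`[K₁ : K] ≤ e`. -/

set_option autoImplicit false

namespace Groth.Agent.Lib.Helper27.WU
open IsLocalRing TensorProduct

universe u

theorem mem_valuationSubring_of_isIntegral {A L : Type*} [CommRing A] [Field L] [Algebra A L]
    (R : ValuationSubring L) (hR : ∀ a, algebraMap A L a ∈ R) {x : L} (hx : IsIntegral A x) :
    x ∈ R := by
  obtain ⟨p, hp, hpx⟩ := hx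
  let f : A →+* R := (algebraMap A L).codRestrict R.toSubring hR
  have hxR : IsIntegral R x := by
    refine ⟨p.map f, hp.map f, ?_⟩
    rw [Polynomial.eval₂_map]
    exact hpx
  obtain ⟨y, hy⟩ := IsIntegrallyClosed.isIntegral_iff.mp hxR
  rw [← hy]; exact y.2

section Unique
variable {A K K₁ : Type u} [CommRing A] [IsDomain A] [IsDiscreteValuationRing A] [Field K]
  [Algebra A K] [IsFractionRing A K]
  [Field K₁] [Algebra K K₁] [Algebra A K₁] [IsScalarTower A K K₁] [Algebra.IsAlgebraic K K₁]

include K in
/-- If only one valuation subring dominates `A`, its elements are integral over `A`. -/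
theorem isIntegral_of_unique {V₁ : ValuationSubring K₁}
    (huniq : ∀ V : ValuationSubring K₁, EtRam.Dominates A (algebraMap A K₁) V → V = V₁)
    {x : K₁} (hx : x ∈ V₁) : IsIntegral A x := by
  classical
  have hinjA : Function.Injective (algebraMap A K₁) := ASR.algebraMap_AL_injective A K K₁
  let s : Set K₁ := Set.range (algebraMap A K₁)
  have hmem : x ∈ (⨅ V : {V : ValuationSubring K₁ // s ⊆ V.toSubring}, V.1.toSubring) := by
    rw [Subring.mem_iInf]
    rintro ⟨V, hV⟩
    show x ∈ V
    have hAV : ∀ a : A, algebraMap A K₁ a ∈ V := fun a => hV ⟨a, rfl⟩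
    by_cases hdom : ∀ a ∈ maximalIdeal A, V.valuation (algebraMap A K₁ a) < 1
    · rw [huniq V ⟨hAV, hdom⟩]; exact hx
    · push_neg at hdom
      obtain ⟨a, ha, hav⟩ := hdom
      have ha0 : a ≠ 0 := by
        rintro rfl
        rw [map_zero, map_zero] at hav
        exact not_le.mpr zero_lt_one hav
      have ha0' : algebraMap A K₁ a ≠ 0 := fun h0 => ha0 (hinjA (by rw [h0, map_zero]))
      have hainv : (algebraMap A K₁ a)⁻¹ ∈ V := by
        by_contra hn
        exact not_lt.mpr hav ((TT.val_lt_one_iff V ha0').mpr hn)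
      obtain ⟨π, hπ⟩ := IsDiscreteValuationRing.exists_irreducible A
      obtain ⟨i, u, hau⟩ := IsDiscreteValuationRing.eq_unit_mul_pow_irreducible ha0 hπ
      have hi : i ≠ 0 := by
        rintro rfl
        rw [pow_zero, mul_one] at hau
        exact (mem_maximalIdeal a).mp ha (hau ▸ u.isUnit)
      have hπinv : (algebraMap A K₁ π)⁻¹ ∈ V := by
        have hπ0 : algebraMap A K₁ π ≠ 0 := fun h0 => hπ.ne_zero (hinjA (by rw [h0, map_zero]))
        have : (algebraMap A K₁ π)⁻¹ =
            algebraMap A K₁ ((u : A) * π ^ (i - 1)) * (algebraMap A K₁ a)⁻¹ := by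
          rw [hau, map_mul, map_mul, map_pow, map_pow]
          have hu0 : algebraMap A K₁ (u : A) ≠ 0 := fun h0 =>
            u.ne_zero (hinjA (by rw [h0, map_zero]))
          field_simp
          rw [← pow_succ', Nat.sub_add_cancel (Nat.pos_of_ne_zero hi)]
        rw [this]
        exact V.mul_mem _ _ (hAV _) hainv
      have hKV : ∀ k : K, algebraMap K K₁ k ∈ V := by
        intro k
        obtain ⟨a', b, hb, rfl⟩ := IsFractionRing.div_surjective (A := A) k
        have hb0 : b ≠ 0 := nonZeroDivisors.ne_zero hb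
        obtain ⟨j, w, hbw⟩ := IsDiscreteValuationRing.eq_unit_mul_pow_irreducible hb0 hπ
        rw [map_div₀, ← IsScalarTower.algebraMap_apply, ← IsScalarTower.algebraMap_apply, hbw,
          map_mul, map_pow, div_eq_mul_inv, mul_inv, ← inv_pow]
        have hwinv : (algebraMap A K₁ (w : A))⁻¹ = algebraMap A K₁ ((w⁻¹ : Aˣ) : A) := by
          have : algebraMap A K₁ (w : A) * algebraMap A K₁ ((w⁻¹ : Aˣ) : A) = 1 := by
            rw [← map_mul, Units.mul_inv, map_one]
          exact inv_eq_of_mul_eq_one_right this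
        rw [hwinv]
        exact V.mul_mem _ _ (hAV _) (V.mul_mem _ _ (hAV _) (pow_mem hπinv j))
      exact mem_valuationSubring_of_isIntegral V hKV
        (Algebra.IsAlgebraic.isIntegral.isIntegral (R := K) x)
  rw [iInf_valuationSubring_superset] at hmem
  have hint : IsIntegral (Subring.closure s) x := hmem
  let g : A →+* Subring.closure s :=
    (algebraMap A K₁).codRestrict (Subring.closure s) fun a => Subring.subset_closure ⟨a, rfl⟩
  have hg : Function.Surjective g := by
    rintro ⟨y, hy⟩
    have : Subring.closure s = (algebraMap A K₁).range := by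
      show Subring.closure (Set.range (algebraMap A K₁)) = _
      rw [← RingHom.coe_range, Subring.closure_eq]
    rw [this] at hy
    obtain ⟨a, rfl⟩ := hy
    exact ⟨a, rfl⟩
  letI : Algebra A (Subring.closure s) := g.toAlgebra
  haveI : IsScalarTower A (Subring.closure s) K₁ := .of_algebraMap_eq fun _ => rfl
  haveI : Algebra.IsIntegral A (Subring.closure s) := Algebra.isIntegral_of_surjective hg
  exact isIntegral_trans x hint

end Unique

section Finrank
variable {A K K₁ : Type u} [CommRing A] [IsDomain A] [IsDiscreteValuationRing A] [Field K]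
  [Algebra A K] [IsFractionRing A K]
  [Field K₁] [Algebra K K₁] [Algebra A K₁] [IsScalarTower A K K₁] [FiniteDimensional K K₁]
  [Algebra.IsSeparable K K₁]

include K in
theorem finrank_le_of_unique {V₁ : ValuationSubring K₁}
    (hV₁ : EtRam.Dominates A (algebraMap A K₁) V₁)
    (huniq : ∀ V : ValuationSubring K₁, EtRam.Dominates A (algebraMap A K₁) V → V = V₁)
    [Algebra A V₁] (hAV : ∀ a : A, ((algebraMap A V₁ a : V₁) : K₁) = algebraMap A K₁ a)
    (hres : Function.Surjective (fun a : A => residue V₁ (algebraMap A V₁ a)))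
    (π₁ : V₁) (hπ₁ : maximalIdeal V₁ = Ideal.span {π₁}) (πA : A)
    (hπA : πA ∈ maximalIdeal A) (e₁ : ℕ) (c : V₁)
    (hc : π₁ ^ e₁ = algebraMap A V₁ πA * c) :
    Module.finrank K K₁ ≤ e₁ := by
  classical
  -- finiteness of `V₁` over `A`
  haveI hfinC : Module.Finite A (integralClosure A K₁) := IsIntegralClosure.finite A K K₁ _
  let ι : integralClosure A K₁ →ₗ[A] V₁ :=
    { toFun := fun x => ⟨(x : K₁), mem_valuationSubring_of_isIntegral V₁ hV₁.1 x.2⟩
      map_add' := fun x y => rfl
      map_smul' := fun a x => by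
        apply Subtype.ext
        rw [RingHom.id_apply, Algebra.smul_def (R := A) (A := V₁), MulMemClass.coe_mul, hAV]
        show a • (x : K₁) = _
        rw [Algebra.smul_def] }
  have hιsurj : Function.Surjective ι := by
    intro v
    exact ⟨⟨(v : K₁), isIntegral_of_unique (K := K) huniq v.2⟩, rfl⟩
  haveI hfinV : Module.Finite A V₁ := Module.Finite.of_surjective ι hιsurj
  -- the filtration
  let N : Submodule A V₁ := Submodule.span A (Set.range fun i : Fin e₁ => π₁ ^ (i : ℕ))
  have hfil : ∀ j : ℕ, j ≤ e₁ → ∀ x : V₁, ∃ n ∈ N, ∃ x' : V₁, x = n + π₁ ^ j * x' := by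
    intro j
    induction j with
    | zero => intro _ x; exact ⟨0, N.zero_mem, x, by rw [pow_zero, one_mul, zero_add]⟩
    | succ j ih =>
      intro hj x
      obtain ⟨n, hn, x', hx⟩ := ih (Nat.le_of_succ_le hj) x
      obtain ⟨a, ha⟩ := hres (residue V₁ x')
      have hmem : x' - algebraMap A V₁ a ∈ maximalIdeal V₁ := by
        rw [← residue_eq_zero_iff, map_sub, sub_eq_zero]
        exact ha.symm
      rw [hπ₁, Ideal.mem_span_singleton] at hmem
      obtain ⟨x'', hx''⟩ := hmem
      refine ⟨n + a • π₁ ^ j, N.add_mem hn (N.smul_mem a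
        (Submodule.subset_span ⟨⟨j, hj⟩, rfl⟩)), x'', ?_⟩
      have : x' = algebraMap A V₁ a + π₁ * x'' := by rw [← hx'']; ring
      rw [hx, this, Algebra.smul_def, pow_succ]
      ring
  have htop : (⊤ : Submodule A V₁) ≤ N := by
    apply Submodule.le_of_le_smul_of_le_jacobson_bot Module.Finite.fg_top
      (IsLocalRing.maximalIdeal_le_jacobson (⊥ : Ideal A))
    intro x _
    obtain ⟨n, hn, x', hx⟩ := hfil e₁ le_rfl x
    rw [hx, hc, mul_assoc, ← Algebra.smul_def]
    exact Submodule.add_mem_sup hn (Submodule.smul_mem_smul hπA Submodule.mem_top)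
  -- spanning `K₁`
  haveI : Algebra.IsAlgebraic A K := IsLocalization.isAlgebraic K (nonZeroDivisors A)
  haveI : Algebra.IsAlgebraic A K₁ := Algebra.IsAlgebraic.trans A K K₁
  have hinjA : Function.Injective (algebraMap A K₁) := ASR.algebraMap_AL_injective A K K₁
  have hspanV : ∀ v : V₁, (v : K₁) ∈
      Submodule.span K (Set.range fun i : Fin e₁ => ((π₁ : K₁)) ^ (i : ℕ)) := by
    intro v
    have hv : v ∈ N := htop Submodule.mem_top
    induction hv using Submodule.span_induction with
    | mem v hv =>
      obtain ⟨i, rfl⟩ := hv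
      exact Submodule.subset_span ⟨i, rfl⟩
    | zero => exact Submodule.zero_mem _
    | add v w _ _ hv hw => exact Submodule.add_mem _ hv hw
    | smul a v _ hv =>
      have : ((a • v : V₁) : K₁) = algebraMap A K a • (v : K₁) := by
        rw [Algebra.smul_def, MulMemClass.coe_mul, hAV, Algebra.smul_def,
          ← IsScalarTower.algebraMap_apply]
      rw [this]
      exact Submodule.smul_mem _ _ hv
  have hspan : Submodule.span K (Set.range fun i : Fin e₁ => ((π₁ : K₁)) ^ (i : ℕ)) = ⊤ := by
    rw [eq_top_iff]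
    intro y _
    obtain ⟨a, ha0, hint⟩ := IsAlgebraic.exists_integral_multiple
      (Algebra.IsAlgebraic.isAlgebraic (R := A) y)
    have hmem : a • y ∈ V₁ := mem_valuationSubring_of_isIntegral V₁ hV₁.1 hint
    have h1 := hspanV ⟨a • y, hmem⟩
    have ha0' : algebraMap A K a ≠ 0 := fun h0 =>
      ha0 (IsFractionRing.injective A K (by rw [h0, map_zero]))
    have : y = (algebraMap A K a)⁻¹ • (a • y) := by
      rw [← IsScalarTower.algebraMap_smul K a y, smul_smul, inv_mul_cancel₀ ha0', one_smul]
    rw [this]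
    exact Submodule.smul_mem _ _ h1
  have := finrank_le_of_span_eq_top hspan
  rwa [Fintype.card_fin] at this

end Finrank

end Groth.Agent.Lib.Helper27.WU
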