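import Mathlib
import Groth.Prelude.Def_EtRam
import Groth.Agent.Lib.Helper27.TBC2
import Groth.Agent.Lib.Helper27.UBC1
import Groth.Agent.Lib.Helper27.TameTower2
import Groth.Agent.Lib.Helper27.WU15
import Groth.Agent.Lib.Helper27.WU8

/-! Tame base change: numerical and field-theoretic preliminaries, and the concrete statement. -/

set_option autoImplicit false

namespace Groth.Agent.Lib.Helper27.TBC
open IsLocalRing TensorProduct

universe u

theorem exists_bezout (e' eB : ℕ) (he' : e' ≠ 0) (heB : eB ≠ 0) :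
    ∃ g a b r s : ℕ, e' = g * a ∧ eB = g * b ∧ a ≠ 0 ∧ b ≠ 0 ∧ g ≠ 0 ∧ s * a = r * b + 1 := by
  have hg0 : 0 < Nat.gcd e' eB := Nat.gcd_pos_of_pos_left _ (Nat.pos_of_ne_zero he')
  have hcop : Nat.Coprime (e' / Nat.gcd e' eB) (eB / Nat.gcd e' eB) :=
    Nat.coprime_div_gcd_div_gcd hg0
  have h1 : e' = Nat.gcd e' eB * (e' / Nat.gcd e' eB) :=
    (Nat.mul_div_cancel' (Nat.gcd_dvd_left _ _)).symm
  have h2 : eB = Nat.gcd e' eB * (eB / Nat.gcd e' eB) :=
    (Nat.mul_div_cancel' (Nat.gcd_dvd_right _ _)).symm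
  have ha0 : e' / Nat.gcd e' eB ≠ 0 := by
    intro h0; rw [h0, mul_zero] at h1; exact he' h1
  have hb0 : eB / Nat.gcd e' eB ≠ 0 := by
    intro h0; rw [h0, mul_zero] at h2; exact heB h2
  generalize e' / Nat.gcd e' eB = a at *
  generalize eB / Nat.gcd e' eB = b at *
  rcases Nat.lt_or_ge 1 b with hb | hb
  · obtain ⟨m, -, hm⟩ := Nat.exists_mul_mod_eq_one_of_coprime hcop hb
    refine ⟨_, a, b, a * m / b, m, h1, h2, ha0, hb0, hg0.ne', ?_⟩
    have := Nat.div_add_mod (a * m) b
    rw [hm] at this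
    rw [mul_comm m a, mul_comm (a * m / b) b]
    exact this.symm
  · have hb1 : b = 1 := by omega
    refine ⟨_, a, b, a - 1, 1, h1, h2, ha0, hb0, hg0.ne', ?_⟩
    rw [hb1]
    omega

theorem field_identities {F : Type*} [Field F] (P Q : F) (hP : P ≠ 0) (hQ : Q ≠ 0) (a b r s : ℕ)
    (h : s * a = r * b + 1) :
    (Q ^ s / P ^ r) ^ a * (P ^ a / Q ^ b) ^ r = Q ∧
      (Q ^ s / P ^ r) ^ b * (P ^ a / Q ^ b) ^ s = P := by
  have hPr : P ^ (r * a) ≠ 0 := pow_ne_zero _ hP
  have hQr : Q ^ (b * r) ≠ 0 := pow_ne_zero _ hQ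
  have hPs : P ^ (r * b) ≠ 0 := pow_ne_zero _ hP
  have hQs : Q ^ (b * s) ≠ 0 := pow_ne_zero _ hQ
  constructor
  · rw [div_pow, div_pow, ← pow_mul, ← pow_mul, ← pow_mul, ← pow_mul, div_mul_div_comm,
      div_eq_iff (mul_ne_zero hPr hQr), h, pow_succ, mul_comm a r, mul_comm b r]
    ring
  · rw [div_pow, div_pow, ← pow_mul, ← pow_mul, ← pow_mul, ← pow_mul, div_mul_div_comm,
      div_eq_iff (mul_ne_zero hPs hQs), mul_comm a s, h, pow_succ, mul_comm s b]
    ring

theorem sep_of_dvr {W : Type*} [CommRing W] [IsDomain W] [IsDiscreteValuationRing W] (ϖ : W)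
    (hϖ : ϖ ∈ maximalIdeal W) : ∀ x : W, x ≠ 0 → ∃ n : ℕ, x ∉ Ideal.span {ϖ ^ n} := by
  intro x hx
  by_contra hall
  push Not at hall
  apply hx
  have : x ∈ (⨅ i : ℕ, maximalIdeal W ^ i) := by
    rw [Ideal.mem_iInf]
    intro n
    have h1 : Ideal.span {ϖ ^ n} ≤ maximalIdeal W ^ n := by
      rw [← Ideal.span_singleton_pow]
      exact Ideal.pow_right_mono ((Ideal.span_singleton_le_iff_mem _).mpr hϖ) n
    exact h1 (hall n)
  rw [Ideal.iInf_pow_eq_bot_of_isLocalRing _ (Ideal.IsMaximal.ne_top inferInstance)] at this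
  exact this

/-- The residue field extension of a separable residue extension base-changes to a reduced
ring. -/
theorem isReduced_tensor_residue {A B V' : Type u} [CommRing A] [IsLocalRing A] [CommRing B]
    [IsLocalRing B] [CommRing V'] [IsLocalRing V'] [Algebra A B] [IsLocalHom (algebraMap A B)]
    [Algebra A V'] [IsLocalHom (algebraMap A V')] [Algebra.EssFiniteType A V']
    [Algebra.IsSeparable (ResidueField A) (ResidueField V')] :
    IsReduced (ResidueField B ⊗[ResidueField A] ResidueField V') := by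
  haveI : Algebra.FiniteType V' (ResidueField V') :=
    Algebra.FiniteType.of_surjective (Algebra.ofId V' (ResidueField V'))
      (residue_surjective)
  haveI : Algebra.EssFiniteType V' (ResidueField V') := inferInstance
  haveI : Algebra.EssFiniteType A (ResidueField V') := Algebra.EssFiniteType.comp A V' _
  haveI : Algebra.EssFiniteType (ResidueField A) (ResidueField V') :=
    Algebra.EssFiniteType.of_comp A (ResidueField A) (ResidueField V')
  haveI : Algebra.FormallyUnramified (ResidueField A) (ResidueField V') :=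
    Algebra.FormallyUnramified.of_isSeparable _ _
  exact Algebra.FormallyUnramified.isReduced_of_field (ResidueField B) _

end Groth.Agent.Lib.Helper27.TBC
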