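import Mathlib
import Groth.Prelude.Def_EtRam
import Groth.Agent.Lib.Helper27.TBC3
import Groth.Agent.Lib.Helper27.WU3

/-! Tame base change: the concrete statement. -/

set_option autoImplicit false

namespace Groth.Agent.Lib.Helper27.TBC
open IsLocalRing TensorProduct

universe u

theorem main (A B K L K' : Type u) [CommRing A] [IsDomain A]
    [IsDiscreteValuationRing A] [CommRing B] [IsDomain B] [IsDiscreteValuationRing B] [Algebra A B]
    [IsLocalHom (algebraMap A B)]
    [Field K] [Field L] [Field K'] [Algebra A K] [IsFractionRing A K] [Algebra B L] [IsFractionRing B L]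
    [Algebra K L] [Algebra A L] [IsScalarTower A K L] [IsScalarTower A B L]
    [Algebra K K'] [FiniteDimensional K K'] [Algebra.IsSeparable K K']
    (h : EtRam.IsTamelyRamified A ((algebraMap K K').comp (algebraMap A K)))
    (F : Type u) [Field F] [Algebra (K' ⊗[K] L) F] (hF : Function.Surjective (algebraMap (K' ⊗[K] L) F)) :
    EtRam.IsTamelyRamified B ((algebraMap (K' ⊗[K] L) F).comp
      ((Algebra.TensorProduct.includeRight : L →ₐ[K] K' ⊗[K] L).toRingHom.comp (algebraMap B L))) := by
  classical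
  intro V hV hlocV
  -- the maps into `F`
  let jL : L →+* F := (algebraMap (K' ⊗[K] L) F).comp
    (Algebra.TensorProduct.includeRight : L →ₐ[K] K' ⊗[K] L).toRingHom
  let jK' : K' →+* F := (algebraMap (K' ⊗[K] L) F).comp
    (Algebra.TensorProduct.includeLeft : K' →ₐ[K] K' ⊗[K] L).toRingHom
  let gB : B →+* F := (algebraMap (K' ⊗[K] L) F).comp
      ((Algebra.TensorProduct.includeRight : L →ₐ[K] K' ⊗[K] L).toRingHom.comp (algebraMap B L))
  have hcompat : ∀ k : K, jK' (algebraMap K K' k) = jL (algebraMap K L k) := by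
    intro k
    show algebraMap (K' ⊗[K] L) F ((algebraMap K K' k) ⊗ₜ[K] (1 : L)) =
      algebraMap (K' ⊗[K] L) F ((1 : K') ⊗ₜ[K] (algebraMap K L k))
    rw [Algebra.TensorProduct.tmul_one_eq_one_tmul]
  have halg : ∀ (k' : K') (l : L), algebraMap (K' ⊗[K] L) F (k' ⊗ₜ[K] l) = jK' k' * jL l := by
    intro k' l
    show _ = algebraMap (K' ⊗[K] L) F (k' ⊗ₜ[K] (1 : L)) *
      algebraMap (K' ⊗[K] L) F ((1 : K') ⊗ₜ[K] l)
    rw [← map_mul, Algebra.TensorProduct.tmul_mul_tmul, mul_one, one_mul]
  letI algBV : Algebra B V := (RingHom.codRestrict gB V hV.1).toAlgebra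
  letI algLF : Algebra L F := jL.toAlgebra
  letI algK'F : Algebra K' F := jK'.toAlgebra
  letI algBF : Algebra B F := gB.toAlgebra
  letI algKF : Algebra K F := (jL.comp (algebraMap K L)).toAlgebra
  letI algAF : Algebra A F := (gB.comp (algebraMap A B)).toAlgebra
  letI algAK' : Algebra A K' := ((algebraMap K K').comp (algebraMap A K)).toAlgebra
  haveI : IsScalarTower A K K' := .of_algebraMap_eq fun _ => rfl
  haveI : IsScalarTower K L F := .of_algebraMap_eq fun _ => rfl
  haveI : IsScalarTower K K' F := .of_algebraMap_eq fun k => (hcompat k).symm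
  haveI : IsScalarTower B L F := .of_algebraMap_eq fun _ => rfl
  haveI : IsScalarTower A B F := .of_algebraMap_eq fun _ => rfl
  have hAF : ∀ a : A, algebraMap A F a = jK' (algebraMap A K' a) := by
    intro a
    show jL (algebraMap B L (algebraMap A B a)) = jK' (algebraMap K K' (algebraMap A K a))
    rw [hcompat, ← IsScalarTower.algebraMap_apply A B L, ← IsScalarTower.algebraMap_apply A K L]
  haveI : IsScalarTower A K' F := .of_algebraMap_eq hAF
  -- the valuation ring downstairs
  have hVA : EtRam.Dominates A (algebraMap A F) V := by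
    refine ⟨fun a => hV.1 (algebraMap A B a), fun a ha => hV.2 _ ?_⟩
    exact (mem_maximalIdeal _).mpr (map_nonunit (algebraMap A B) a ((mem_maximalIdeal a).mp ha))
  have hV' : EtRam.Dominates A (algebraMap A K') (V.comap (algebraMap K' F)) :=
    TT.dominates_comap hVA
  letI algAV' : Algebra A (V.comap (algebraMap K' F)) :=
    (RingHom.codRestrict ((algebraMap K K').comp (algebraMap A K)) (V.comap (algebraMap K' F))
      hV'.1).toAlgebra
  haveI hlocV' : IsLocalHom (algebraMap A (V.comap (algebraMap K' F))) :=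
    TT.isLocalHom_of_dominates hV' (fun _ => rfl)
  obtain ⟨hsepres, htame⟩ := h (V.comap (algebraMap K' F)) hV'
  haveI : Algebra.EssFiniteType A (V.comap (algebraMap K' F)) :=
    UBC.essFiniteType_of_dominates (K := K) hV' (fun _ => rfl)
  haveI : IsDiscreteValuationRing (V.comap (algebraMap K' F)) :=
    WU.isDVR_of_dominates_finite (K := K) hV'
  haveI hEred : IsReduced (ResidueField B ⊗[ResidueField A]
      ResidueField (V.comap (algebraMap K' F))) := isReduced_tensor_residue
  -- algebra structures on `V`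
  letI algAV : Algebra A V := ((algebraMap B V).comp (algebraMap A B)).toAlgebra
  haveI : IsScalarTower A B V := .of_algebraMap_eq fun _ => rfl
  letI algV'V : Algebra (V.comap (algebraMap K' F)) V :=
    (EtRam.inclOfComap V (algebraMap K' F)).toAlgebra
  haveI hlocV'V : IsLocalHom (algebraMap (V.comap (algebraMap K' F)) V) :=
    EtRam.isLocalHom_inclOfComap V _
  haveI : IsScalarTower A (V.comap (algebraMap K' F)) V :=
    .of_algebraMap_eq fun a => Subtype.ext (hAF a)
  -- integrality and finiteness of `F` over `L`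
  haveI hfinLF : Module.Finite L F := by
    let φ : L ⊗[K] K' →ₐ[L] F :=
      Algebra.TensorProduct.productLeftAlgHom (Algebra.ofId L F) (IsScalarTower.toAlgHom K K' F)
    have hφ : Function.Surjective φ := by
      intro y
      obtain ⟨z, rfl⟩ := hF y
      induction z using TensorProduct.induction_on with
      | zero => exact ⟨0, by rw [map_zero, map_zero]⟩
      | tmul k' l =>
        refine ⟨l ⊗ₜ k', ?_⟩
        rw [halg, mul_comm]
        rfl
      | add z z' hz hz' =>
        obtain ⟨w, hw⟩ := hz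
        obtain ⟨w', hw'⟩ := hz'
        exact ⟨w + w', by rw [map_add, map_add, hw, hw']⟩
    exact Module.Finite.of_surjective φ.toLinearMap hφ
  haveI : IsDiscreteValuationRing V := WU.isDVR_of_dominates_finite (K := L) (A := B) hV
  -- uniformizers
  obtain ⟨πA, hπA⟩ := IsDiscreteValuationRing.exists_irreducible A
  obtain ⟨πB, hπB⟩ := IsDiscreteValuationRing.exists_irreducible B
  obtain ⟨π', hπ'⟩ := IsDiscreteValuationRing.exists_irreducible (V.comap (algebraMap K' F))
  have hinjAL : Function.Injective (algebraMap A L) := ASR.algebraMap_AL_injective A K L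
  have hinjAK' : Function.Injective (algebraMap A K') := ASR.algebraMap_AL_injective A K K'
  have hπAB0 : algebraMap A B πA ≠ 0 := by
    intro h0
    have : algebraMap A L πA = 0 := by rw [IsScalarTower.algebraMap_apply A B L, h0, map_zero]
    exact hπA.ne_zero (hinjAL (by rw [this, map_zero]))
  obtain ⟨eB, uB, huB⟩ := IsDiscreteValuationRing.eq_unit_mul_pow_irreducible hπAB0 hπB
  have hπA0 : algebraMap A (V.comap (algebraMap K' F)) πA ≠ 0 := by
    intro h0
    have : algebraMap A K' πA = 0 := congrArg Subtype.val h0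
    exact hπA.ne_zero (hinjAK' (by rw [this, map_zero]))
  obtain ⟨e', u', hu'⟩ := IsDiscreteValuationRing.eq_unit_mul_pow_irreducible hπA0 hπ'
  have he' : Ideal.ramificationIdx' (maximalIdeal A)
      (maximalIdeal (V.comap (algebraMap K' F))) = e' :=
    WU.ramificationIdx'_eq πA hπA.maximalIdeal_eq π' hπ' e' u' hu'
  have he'0 : e' ≠ 0 := by
    rintro rfl
    rw [pow_zero, mul_one] at hu'
    exact hπA.not_isUnit (isUnit_of_map_unit (algebraMap A (V.comap (algebraMap K' F))) πA
      (hu' ▸ u'.isUnit))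
  have heB0 : eB ≠ 0 := by
    rintro rfl
    rw [pow_zero, mul_one] at huB
    exact hπA.not_isUnit (isUnit_of_map_unit (algebraMap A B) πA (huB ▸ uB.isUnit))
  obtain ⟨g, a, b, r, s, hga, hgb, ha0, hb0, hg0, hsr⟩ := exists_bezout e' eB he'0 heB0
  have hgk : ((g : ℕ) : ResidueField A) ≠ 0 := by
    obtain ⟨p, hp⟩ := CharP.exists (ResidueField A)
    rw [Ne, CharP.cast_eq_zero_iff (ResidueField A) p g]
    rcases CharP.char_is_prime_or_zero (ResidueField A) p with hpp | hp0
    · intro hdvd
      exact htame p hpp hp (by rw [he', hga]; exact Dvd.dvd.mul_right hdvd a)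
    · rw [hp0, zero_dvd_iff]
      exact hg0
  -- elements of `F`
  have hP0 : jK' (π' : K') ≠ 0 := by
    apply (map_ne_zero _).mpr
    intro h0
    exact hπ'.ne_zero (Subtype.ext h0)
  have hgBinj : Function.Injective gB := by
    have : Function.Injective (algebraMap B L) := IsFractionRing.injective B L
    exact jL.injective.comp this
  have hQ0 : gB πB ≠ 0 := by
    intro h0
    exact hπB.ne_zero (hgBinj (by rw [h0, map_zero]))
  have hAFπ' : algebraMap A F πA = jK' ((u' : V.comap (algebraMap K' F)) : K') *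
      jK' (π' : K') ^ e' := by
    rw [hAF, ← map_pow, ← map_mul]
    exact congrArg _ (congrArg Subtype.val hu')
  have hAFπB : algebraMap A F πA = gB (uB : B) * gB πB ^ eB := by
    show gB (algebraMap A B πA) = _
    rw [huB, map_mul, map_pow]
  obtain ⟨hid1, hid2⟩ := field_identities (jK' (π' : K')) (gB πB) hP0 hQ0 a b r s hsr
  have hθF : (jK' (π' : K') ^ a / gB πB ^ b) ^ g *
      jK' ((u' : V.comap (algebraMap K' F)) : K') = gB (uB : B) := by
    rw [div_pow, ← pow_mul, ← pow_mul, mul_comm a g, mul_comm b g, ← hga, ← hgb,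
      div_mul_eq_mul_div, div_eq_iff (pow_ne_zero _ hQ0), mul_comm, ← hAFπ', hAFπB]
  have hvu' : V.valuation (jK' ((u' : V.comap (algebraMap K' F)) : K')) = 1 := by
    have h1 : IsUnit (algebraMap (V.comap (algebraMap K' F)) V (u' : _)) := u'.isUnit.map _
    exact (V.valuation_eq_one_iff _).mp h1
  have hvuB : V.valuation (gB (uB : B)) = 1 := by
    have h1 : IsUnit (algebraMap B V (uB : B)) := uB.isUnit.map _
    exact (V.valuation_eq_one_iff _).mp h1
  have hvθ : V.valuation (jK' (π' : K') ^ a / gB πB ^ b) = 1 := by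
    have h1 := congrArg V.valuation hθF
    rw [map_mul, map_pow, hvu', hvuB, mul_one] at h1
    exact (pow_eq_one_iff_of_nonneg zero_le hg0).mp h1
  have hvQ : V.valuation (gB πB) < 1 :=
    hV.2 πB ((mem_maximalIdeal _).mpr hπB.not_isUnit)
  have hvϖ : V.valuation (gB πB ^ s / jK' (π' : K') ^ r) < 1 := by
    have h1 := congrArg V.valuation hid1
    rw [map_mul, map_pow, map_pow, hvθ, one_pow, mul_one] at h1
    rw [← h1] at hvQ
    exact (pow_lt_one_iff ha0).mp hvQ
  let θ : V := ⟨jK' (π' : K') ^ a / gB πB ^ b, (V.valuation_le_one_iff _).mp hvθ.le⟩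
  let ϖ : V := ⟨gB πB ^ s / jK' (π' : K') ^ r, (V.valuation_le_one_iff _).mp hvϖ.le⟩
  have hθunit : IsUnit θ := (V.valuation_eq_one_iff θ).mpr hvθ
  have hϖmem : ϖ ∈ maximalIdeal V := (V.valuation_lt_one_iff ϖ).mpr hvϖ
  have hθ : θ ^ g * algebraMap (V.comap (algebraMap K' F)) V (u' : _) = algebraMap B V uB :=
    Subtype.ext hθF
  have hϖB : algebraMap B V πB = ϖ ^ a * θ ^ r := Subtype.ext hid1.symm
  have hϖ' : algebraMap (V.comap (algebraMap K' F)) V π' = ϖ ^ b * θ ^ s :=
    Subtype.ext hid2.symm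
  -- the tensor product
  let ψ : B ⊗[A] (V.comap (algebraMap K' F)) →ₐ[A] V :=
    Algebra.TensorProduct.productMap (IsScalarTower.toAlgHom A B V)
      (IsScalarTower.toAlgHom A (V.comap (algebraMap K' F)) V)
  have hψ : ∀ (x : B) (v : V.comap (algebraMap K' F)),
      ((ψ (x ⊗ₜ[A] v) : V) : F) = gB x * jK' (v : K') := fun x v => rfl
  let jB : B →+* B ⊗[A] (V.comap (algebraMap K' F)) :=
    (Algebra.TensorProduct.includeLeft : B →ₐ[A] B ⊗[A] (V.comap (algebraMap K' F))).toRingHom
  let jV : (V.comap (algebraMap K' F)) →+* B ⊗[A] (V.comap (algebraMap K' F)) :=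
    (Algebra.TensorProduct.includeRight :
      (V.comap (algebraMap K' F)) →ₐ[A] B ⊗[A] (V.comap (algebraMap K' F))).toRingHom
  have hjj : ∀ (x : B) (v : V.comap (algebraMap K' F)), jB x * jV v = x ⊗ₜ[A] v := by
    intro x v
    show (x ⊗ₜ[A] (1 : V.comap (algebraMap K' F))) * ((1 : B) ⊗ₜ[A] v) = _
    rw [Algebra.TensorProduct.tmul_mul_tmul, mul_one, one_mul]
  have hψB : ∀ x : B, ψ.toRingHom (jB x) = algebraMap B V x := by
    intro x
    show ψ (x ⊗ₜ[A] (1 : V.comap (algebraMap K' F))) = _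
    refine Subtype.ext ?_
    rw [hψ]
    show gB x * jK' 1 = gB x
    rw [map_one, mul_one]
  have hψV : ∀ v : V.comap (algebraMap K' F), ψ.toRingHom (jV v) =
      algebraMap (V.comap (algebraMap K' F)) V v := by
    intro v
    show ψ ((1 : B) ⊗ₜ[A] v) = _
    refine Subtype.ext ?_
    rw [hψ, map_one, one_mul]
    rfl
  have hind : ∀ (P : B ⊗[A] (V.comap (algebraMap K' F)) → Prop), P 0 →
      (∀ x v, P (jB x * jV v)) → (∀ t t', P t → P t' → P (t + t')) → ∀ t, P t := by
    intro P h0 hmul hadd t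
    induction t using TensorProduct.induction_on with
    | zero => exact h0
    | tmul x v => rw [← hjj]; exact hmul x v
    | add t t' ht ht' => exact hadd t t' ht ht'
  obtain ⟨Φ, hΦ, hΦsurj⟩ := WU.exists_Phi A B (V.comap (algebraMap K' F))
  have hΦ' : ∀ x v, Φ (jB x * jV v) = (residue B x) ⊗ₜ[ResidueField A]
      (residue (V.comap (algebraMap K' F)) v) := by
    intro x v
    rw [hjj, hΦ]
  -- fractions
  have key : ∀ z : K' ⊗[K] L, ∃ t₁ t₂ : B ⊗[A] (V.comap (algebraMap K' F)),
      ((ψ t₂ : V) : F) ≠ 0 ∧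
        algebraMap (K' ⊗[K] L) F z * ((ψ t₂ : V) : F) = ((ψ t₁ : V) : F) := by
    intro z
    induction z using TensorProduct.induction_on with
    | zero =>
      refine ⟨0, 1, ?_, ?_⟩
      · rw [map_one]; exact one_ne_zero
      · rw [map_zero, map_zero, zero_mul]; rfl
    | tmul k' l =>
      obtain ⟨v₁, v₂, hv₂, hv⟩ :=
        IsFractionRing.div_surjective (A := V.comap (algebraMap K' F)) k'
      obtain ⟨b₁, b₂, hb₂, hb⟩ := IsFractionRing.div_surjective (A := B) l
      have hv₂0 : (v₂ : K') ≠ 0 := by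
        intro h0
        exact nonZeroDivisors.ne_zero hv₂ (Subtype.ext h0)
      have hb₂0 : algebraMap B L b₂ ≠ 0 := by
        intro h0
        exact nonZeroDivisors.ne_zero hb₂ (IsFractionRing.injective B L (by rw [h0, map_zero]))
      have hjv : jK' (v₂ : K') ≠ 0 := (map_ne_zero jK').mpr hv₂0
      have hjb : jL (algebraMap B L b₂) ≠ 0 := (map_ne_zero jL).mpr hb₂0
      refine ⟨b₁ ⊗ₜ v₁, b₂ ⊗ₜ v₂, ?_, ?_⟩
      · rw [hψ]; exact mul_ne_zero hjb hjv
      · rw [hψ, hψ, halg, ← hv, ← hb]
        show jK' ((v₁ : K') / (v₂ : K')) * jL (algebraMap B L b₁ / algebraMap B L b₂) *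
          (jL (algebraMap B L b₂) * jK' (v₂ : K')) = jL (algebraMap B L b₁) * jK' (v₁ : K')
        rw [map_div₀, map_div₀]
        field_simp
    | add z z' hz hz' =>
      obtain ⟨t₁, t₂, h2, h12⟩ := hz
      obtain ⟨t₁', t₂', h2', h12'⟩ := hz'
      refine ⟨t₁ * t₂' + t₁' * t₂, t₂ * t₂', ?_, ?_⟩
      · rw [map_mul]; exact mul_ne_zero h2 h2'
      · rw [map_mul, map_add, map_add, map_mul, map_mul]
        show (_ + _) * (((ψ t₂ : V) : F) * ((ψ t₂' : V) : F)) =
          ((ψ t₁ : V) : F) * ((ψ t₂' : V) : F) + ((ψ t₁' : V) : F) * ((ψ t₂ : V) : F)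
        rw [← h12, ← h12']
        ring
  have hfrac : ∀ y : V, ∃ t₁ t₂ : B ⊗[A] (V.comap (algebraMap K' F)),
      ψ.toRingHom t₂ ≠ 0 ∧ y * ψ.toRingHom t₂ = ψ.toRingHom t₁ := by
    intro y
    obtain ⟨z, hz⟩ := hF (y : F)
    obtain ⟨t₁, t₂, h2, h12⟩ := key z
    refine ⟨t₁, t₂, fun h0 => h2 (by show ((ψ t₂ : V) : F) = 0; rw [show ψ t₂ = 0 from h0]; rfl),
      Subtype.ext ?_⟩
    show (y : F) * ((ψ t₂ : V) : F) = ((ψ t₁ : V) : F)
    rw [← hz, h12]
  haveI := hsepres
  haveI : Algebra.IsAlgebraic (ResidueField A) (ResidueField (V.comap (algebraMap K' F))) :=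
    Algebra.IsSeparable.isAlgebraic _ _
  obtain ⟨hmax, hall⟩ := weak_abstract jB jV ψ.toRingHom
    (fun x => by
      show (algebraMap A B x) ⊗ₜ[A] (1 : V.comap (algebraMap K' F)) =
        (1 : B) ⊗ₜ[A] (algebraMap A (V.comap (algebraMap K' F)) x)
      rw [Algebra.TensorProduct.tmul_one_eq_one_tmul])
    hψB hψV hind Φ hΦ' hΦsurj πB hπB.maximalIdeal_eq π' hπ'.maximalIdeal_eq g a b r s hgk ha0 hb0
    uB u' θ ϖ hθ hϖB hϖ' hϖmem (sep_of_dvr ϖ hϖmem) hfrac
  have hsepV : Algebra.IsSeparable (ResidueField B) (ResidueField V) :=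
    residue_separable jB jV ψ.toRingHom hψB hψV hind g hgk uB u' θ ϖ hθ hϖmem hall
  refine ⟨hsepV, fun p hp hcp => ?_⟩
  have hϖirr : Irreducible ϖ := (IsDiscreteValuationRing.irreducible_iff_uniformizer ϖ).mpr hmax
  have heV : Ideal.ramificationIdx' (maximalIdeal B) (maximalIdeal V) = a :=
    WU.ramificationIdx'_eq πB hπB.maximalIdeal_eq ϖ hϖirr a (hθunit.unit ^ r) (by
      rw [hϖB, mul_comm, Units.val_pow_eq_pow_val, IsUnit.unit_spec])
  rw [heV]
  haveI := hcp
  haveI : CharP (ResidueField A) p :=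
    RingHom.charP (algebraMap (ResidueField A) (ResidueField B))
      (algebraMap (ResidueField A) (ResidueField B)).injective p
  intro hpa
  exact htame p hp inferInstance (by rw [he', hga]; exact Dvd.dvd.mul_left hpa g)

end Groth.Agent.Lib.Helper27.TBC
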