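import Mathlib
import Groth.Prelude.Def_EtRam
import Groth.Agent.Lib.Helper27.TameTower2

/-! Tame / unramified extensions in towers: final statements. -/

set_option autoImplicit false

namespace Groth.Agent.Lib.Helper27.TT
open IsLocalRing

universe u

section Final
variable {A : Type u} {K : Type u} [CommRing A] [IsDomain A] [IsDiscreteValuationRing A]
  [Field K] [Algebra A K] [IsFractionRing A K]
  {L M : Type u} [Field L] [Field M] [Algebra K L] [Algebra K M] [Algebra L M]
  [IsScalarTower K L M]
  [Algebra A L] [IsScalarTower A K L] [Algebra A M] [IsScalarTower A K M] [IsScalarTower A L M]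
  [FiniteDimensional K M] [Algebra.IsSeparable K M]

include K in
theorem tame_bot (hM : EtRam.IsTamelyRamified A (algebraMap A M)) :
    EtRam.IsTamelyRamified A (algebraMap A L) := by
  intro V hV hlocV
  obtain ⟨W, rfl⟩ := exists_ext (M := M) V
  have hW : EtRam.Dominates A (algebraMap A M) W := dominates_of_comap hV
  letI algAV : Algebra A (W.comap (algebraMap L M)) :=
    (RingHom.codRestrict (algebraMap A L) (W.comap (algebraMap L M)) hV.1).toAlgebra
  letI algAW : Algebra A W := (RingHom.codRestrict (algebraMap A M) W hW.1).toAlgebra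
  letI algVW : Algebra (W.comap (algebraMap L M)) W :=
    (EtRam.inclOfComap W (algebraMap L M)).toAlgebra
  haveI hlocW : IsLocalHom (algebraMap A W) := isLocalHom_of_dominates hW (fun _ => rfl)
  haveI hlocVW : IsLocalHom (algebraMap (W.comap (algebraMap L M)) W) :=
    isLocalHom_VW (fun _ => rfl) (fun _ h => h)
  haveI : IsScalarTower A (W.comap (algebraMap L M)) W :=
    isScalarTower_AVW (fun _ => rfl) (fun _ => rfl) (fun _ => rfl)
  obtain ⟨hs, hr⟩ := hM W hW
  refine ⟨Algebra.isSeparable_tower_bot_of_isSeparable (ResidueField A)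
    (ResidueField (W.comap (algebraMap L M))) (ResidueField W),
    fun p hp hchar hdvd => hr p hp hchar ?_⟩
  rw [ram_mul (K := K) (fun _ => rfl) (fun _ => rfl) (fun _ => rfl) (fun _ h => h) hV hW]
  exact Dvd.dvd.mul_right hdvd _

include K in
theorem unram_bot (hM : EtRam.IsUnramifiedExt A (algebraMap A M)) :
    EtRam.IsUnramifiedExt A (algebraMap A L) := by
  intro V hV hlocV
  obtain ⟨W, rfl⟩ := exists_ext (M := M) V
  have hW : EtRam.Dominates A (algebraMap A M) W := dominates_of_comap hV
  letI algAV : Algebra A (W.comap (algebraMap L M)) :=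
    (RingHom.codRestrict (algebraMap A L) (W.comap (algebraMap L M)) hV.1).toAlgebra
  letI algAW : Algebra A W := (RingHom.codRestrict (algebraMap A M) W hW.1).toAlgebra
  letI algVW : Algebra (W.comap (algebraMap L M)) W :=
    (EtRam.inclOfComap W (algebraMap L M)).toAlgebra
  haveI hlocW : IsLocalHom (algebraMap A W) := isLocalHom_of_dominates hW (fun _ => rfl)
  haveI hlocVW : IsLocalHom (algebraMap (W.comap (algebraMap L M)) W) :=
    isLocalHom_VW (fun _ => rfl) (fun _ h => h)
  haveI : IsScalarTower A (W.comap (algebraMap L M)) W :=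
    isScalarTower_AVW (fun _ => rfl) (fun _ => rfl) (fun _ => rfl)
  obtain ⟨hw, hs⟩ := hM W hW
  exact ⟨weaklyUnram_bot (K := K) (V := W.comap (algebraMap L M)) (W := W) (fun _ => rfl) (fun _ => rfl) (fun _ => rfl) (fun _ h => h) hw,
    Algebra.isSeparable_tower_bot_of_isSeparable (ResidueField A)
      (ResidueField (W.comap (algebraMap L M))) (ResidueField W)⟩

include K in
theorem tame_trans (hL : EtRam.IsTamelyRamified A (algebraMap A L))
    (hML : ∀ V : ValuationSubring L, EtRam.Dominates A (algebraMap A L) V →
      EtRam.IsTamelyRamified V ((algebraMap L M).comp V.subtype)) :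
    EtRam.IsTamelyRamified A (algebraMap A M) := by
  intro W hW hlocW
  have hV : EtRam.Dominates A (algebraMap A L) (W.comap (algebraMap L M)) := dominates_comap hW
  have hVW := dominates_VW (L := L) W
  letI algAV : Algebra A (W.comap (algebraMap L M)) :=
    (RingHom.codRestrict (algebraMap A L) (W.comap (algebraMap L M)) hV.1).toAlgebra
  letI algAW : Algebra A W := (RingHom.codRestrict (algebraMap A M) W hW.1).toAlgebra
  letI algVW : Algebra (W.comap (algebraMap L M)) W :=
    (RingHom.codRestrict ((algebraMap L M).comp (W.comap (algebraMap L M)).subtype) W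
      hVW.1).toAlgebra
  haveI hlocV : IsLocalHom (algebraMap A (W.comap (algebraMap L M))) :=
    isLocalHom_of_dominates hV (fun _ => rfl)
  haveI hlocVW : IsLocalHom (algebraMap (W.comap (algebraMap L M)) W) :=
    isLocalHom_VW (fun _ => rfl) (fun _ h => h)
  haveI : IsScalarTower A (W.comap (algebraMap L M)) W :=
    isScalarTower_AVW (fun _ => rfl) (fun _ => rfl) (fun _ => rfl)
  obtain ⟨hs1, hr1⟩ := hL _ hV
  obtain ⟨hs2, hr2⟩ := hML _ hV W hVW
  refine ⟨Algebra.IsSeparable.trans (F := ResidueField A)
    (E := ResidueField (W.comap (algebraMap L M))) (K := ResidueField W),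
    fun p hp hchar hdvd => ?_⟩
  rw [ram_mul (K := K) (fun _ => rfl) (fun _ => rfl) (fun _ => rfl) (fun _ h => h) hV hW] at hdvd
  rcases (Nat.Prime.dvd_mul hp).mp hdvd with h1 | h2
  · exact hr1 p hp hchar h1
  · exact hr2 p hp (charP_of_injective_algebraMap (algebraMap (ResidueField A)
      (ResidueField (W.comap (algebraMap L M)))).injective p) h2

include K in
theorem unram_trans (hL : EtRam.IsUnramifiedExt A (algebraMap A L))
    (hML : ∀ V : ValuationSubring L, EtRam.Dominates A (algebraMap A L) V →
      EtRam.IsUnramifiedExt V ((algebraMap L M).comp V.subtype)) :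
    EtRam.IsUnramifiedExt A (algebraMap A M) := by
  intro W hW hlocW
  have hV : EtRam.Dominates A (algebraMap A L) (W.comap (algebraMap L M)) := dominates_comap hW
  have hVW := dominates_VW (L := L) W
  letI algAV : Algebra A (W.comap (algebraMap L M)) :=
    (RingHom.codRestrict (algebraMap A L) (W.comap (algebraMap L M)) hV.1).toAlgebra
  letI algAW : Algebra A W := (RingHom.codRestrict (algebraMap A M) W hW.1).toAlgebra
  letI algVW : Algebra (W.comap (algebraMap L M)) W :=
    (RingHom.codRestrict ((algebraMap L M).comp (W.comap (algebraMap L M)).subtype) W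
      hVW.1).toAlgebra
  haveI hlocV : IsLocalHom (algebraMap A (W.comap (algebraMap L M))) :=
    isLocalHom_of_dominates hV (fun _ => rfl)
  haveI hlocVW : IsLocalHom (algebraMap (W.comap (algebraMap L M)) W) :=
    isLocalHom_VW (fun _ => rfl) (fun _ h => h)
  haveI : IsScalarTower A (W.comap (algebraMap L M)) W :=
    isScalarTower_AVW (fun _ => rfl) (fun _ => rfl) (fun _ => rfl)
  obtain ⟨hw1, hs1⟩ := hL _ hV
  obtain ⟨hw2, hs2⟩ := hML _ hV W hVW
  exact ⟨weaklyUnram_trans (V := W.comap (algebraMap L M)) (W := W) (fun _ => rfl) (fun _ => rfl) (fun _ => rfl) hw1 hw2,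
    Algebra.IsSeparable.trans (F := ResidueField A)
      (E := ResidueField (W.comap (algebraMap L M))) (K := ResidueField W)⟩

end Final

end Groth.Agent.Lib.Helper27.TT
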