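import Mathlib
import Groth.Prelude.Def_EtRam
import Groth.Agent.Lib.Helper27.UBC2
import Groth.Agent.Lib.Helper27.TameTower2

/-! Base change of unramified extensions of DVRs: the concrete statement. -/

set_option autoImplicit false

namespace Groth.Agent.Lib.Helper27.UBC
open IsLocalRing TensorProduct

universe u

theorem main (A B K L K' : Type u) [CommRing A] [IsDomain A]
    [IsDiscreteValuationRing A] [CommRing B] [IsDomain B] [IsDiscreteValuationRing B] [Algebra A B]
    [IsLocalHom (algebraMap A B)]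
    [Field K] [Field L] [Field K'] [Algebra A K] [IsFractionRing A K] [Algebra B L] [IsFractionRing B L]
    [Algebra K L] [Algebra A L] [IsScalarTower A K L] [IsScalarTower A B L]
    [Algebra K K'] [FiniteDimensional K K'] [Algebra.IsSeparable K K']
    (h : EtRam.IsUnramifiedExt A ((algebraMap K K').comp (algebraMap A K)))
    (F : Type u) [Field F] [Algebra (K' ⊗[K] L) F] (hF : Function.Surjective (algebraMap (K' ⊗[K] L) F)) :
    EtRam.IsUnramifiedExt B ((algebraMap (K' ⊗[K] L) F).comp
      ((Algebra.TensorProduct.includeRight : L →ₐ[K] K' ⊗[K] L).toRingHom.comp (algebraMap B L))) := by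
  classical
  intro V hV hlocV
  -- the maps into `F`
  let jL : L →+* F := (algebraMap (K' ⊗[K] L) F).comp
    (Algebra.TensorProduct.includeRight : L →ₐ[K] K' ⊗[K] L).toRingHom
  let jK' : K' →+* F := (algebraMap (K' ⊗[K] L) F).comp
    (Algebra.TensorProduct.includeLeft : K' →ₐ[K] K' ⊗[K] L).toRingHom
  let gB : B →+* F := (algebraMap (K' ⊗[K] L) F).comp
      ((Algebra.TensorProduct.includeRight : L →ₐ[K] K' ⊗[K] L).toRingHom.comp (algebraMap B L))
  have hcompat : ∀ k : K, jK' (algebraMap K K' k) = jL (algebraMap K L k) := by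
    intro k
    show algebraMap (K' ⊗[K] L) F ((algebraMap K K' k) ⊗ₜ[K] (1 : L)) =
      algebraMap (K' ⊗[K] L) F ((1 : K') ⊗ₜ[K] (algebraMap K L k))
    rw [Algebra.TensorProduct.tmul_one_eq_one_tmul]
  have halg : ∀ (k' : K') (l : L), algebraMap (K' ⊗[K] L) F (k' ⊗ₜ[K] l) = jK' k' * jL l := by
    intro k' l
    show _ = algebraMap (K' ⊗[K] L) F (k' ⊗ₜ[K] (1 : L)) *
      algebraMap (K' ⊗[K] L) F ((1 : K') ⊗ₜ[K] l)
    rw [← map_mul, Algebra.TensorProduct.tmul_mul_tmul, mul_one, one_mul]
  letI algBV : Algebra B V := (RingHom.codRestrict gB V hV.1).toAlgebra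
  letI algLF : Algebra L F := jL.toAlgebra
  letI algK'F : Algebra K' F := jK'.toAlgebra
  letI algBF : Algebra B F := gB.toAlgebra
  letI algKF : Algebra K F := (jL.comp (algebraMap K L)).toAlgebra
  letI algAF : Algebra A F := (gB.comp (algebraMap A B)).toAlgebra
  letI algAK' : Algebra A K' := ((algebraMap K K').comp (algebraMap A K)).toAlgebra
  haveI : IsScalarTower A K K' := .of_algebraMap_eq fun _ => rfl
  haveI : IsScalarTower K L F := .of_algebraMap_eq fun _ => rfl
  haveI : IsScalarTower K K' F := .of_algebraMap_eq fun k => (hcompat k).symm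
  haveI : IsScalarTower B L F := .of_algebraMap_eq fun _ => rfl
  haveI : IsScalarTower A B F := .of_algebraMap_eq fun _ => rfl
  have hAF : ∀ a : A, algebraMap A F a = jK' (algebraMap A K' a) := by
    intro a
    show jL (algebraMap B L (algebraMap A B a)) = jK' (algebraMap K K' (algebraMap A K a))
    rw [hcompat, ← IsScalarTower.algebraMap_apply A B L, ← IsScalarTower.algebraMap_apply A K L]
  haveI : IsScalarTower A K' F := .of_algebraMap_eq hAF
  -- the valuation ring downstairs
  have hVA : EtRam.Dominates A (algebraMap A F) V := by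
    refine ⟨fun a => hV.1 (algebraMap A B a), fun a ha => hV.2 _ ?_⟩
    exact (mem_maximalIdeal _).mpr (map_nonunit (algebraMap A B) a ((mem_maximalIdeal a).mp ha))
  have hV' : EtRam.Dominates A (algebraMap A K') (V.comap (algebraMap K' F)) :=
    TT.dominates_comap hVA
  letI algAV' : Algebra A (V.comap (algebraMap K' F)) :=
    (RingHom.codRestrict ((algebraMap K K').comp (algebraMap A K)) (V.comap (algebraMap K' F))
      hV'.1).toAlgebra
  haveI hlocV' : IsLocalHom (algebraMap A (V.comap (algebraMap K' F))) :=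
    TT.isLocalHom_of_dominates hV' (fun _ => rfl)
  obtain ⟨hw, hs⟩ := h (V.comap (algebraMap K' F)) hV'
  haveI : Algebra.EssFiniteType A (V.comap (algebraMap K' F)) :=
    essFiniteType_of_dominates (K := K) hV' (fun _ => rfl)
  haveI : Algebra.FormallyUnramified A (V.comap (algebraMap K' F)) :=
    formallyUnramified_of_unramified (K := K) hV' (fun _ => rfl) hw
  -- algebra structures on `V`
  letI algAV : Algebra A V := ((algebraMap B V).comp (algebraMap A B)).toAlgebra
  haveI : IsScalarTower A B V := .of_algebraMap_eq fun _ => rfl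
  letI algV'V : Algebra (V.comap (algebraMap K' F)) V :=
    (EtRam.inclOfComap V (algebraMap K' F)).toAlgebra
  haveI : IsScalarTower A (V.comap (algebraMap K' F)) V :=
    .of_algebraMap_eq fun a => Subtype.ext (hAF a)
  let ψ : B ⊗[A] (V.comap (algebraMap K' F)) →ₐ[B] V :=
    Algebra.TensorProduct.productLeftAlgHom (Algebra.ofId B V)
      (IsScalarTower.toAlgHom A (V.comap (algebraMap K' F)) V)
  have hψ : ∀ (b : B) (v : V.comap (algebraMap K' F)),
      ((ψ (b ⊗ₜ[A] v) : V) : F) = gB b * jK' (v : K') := fun b v => rfl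
  have hgBinj : Function.Injective gB := by
    have : Function.Injective (algebraMap B L) := IsFractionRing.injective B L
    exact jL.injective.comp this
  -- integrality of `F` over `L`
  haveI hintLF : Algebra.IsIntegral L F := by
    refine ⟨fun y => ?_⟩
    obtain ⟨z, rfl⟩ := hF y
    induction z using TensorProduct.induction_on with
    | zero => rw [map_zero]; exact isIntegral_zero
    | tmul k' l =>
      rw [halg]
      have h1 : IsIntegral K (algebraMap K' F k') :=
        (Algebra.IsIntegral.isIntegral (R := K) k').algebraMap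
      exact (h1.tower_top (A := L)).mul isIntegral_algebraMap
    | add z z' hz hz' => rw [map_add]; exact hz.add hz'
  haveI : Algebra.IsAlgebraic B L := IsLocalization.isAlgebraic L (nonZeroDivisors B)
  haveI : Algebra.IsAlgebraic B F := Algebra.IsAlgebraic.trans B L F
  refine abstract_main (A := A) (B := B) (V' := V.comap (algebraMap K' F)) (V := V) ψ ?_ ?_
  · -- separatedness
    intro π hπ x hx
    have hxF : (x : F) ≠ 0 := fun h0 => hx (Subtype.ext h0)
    obtain ⟨b, hb0, hint⟩ := IsAlgebraic.exists_integral_multiple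
      (Algebra.IsAlgebraic.isAlgebraic (R := B) ((x : F)⁻¹))
    have hmem : b • (x : F)⁻¹ ∈ V := by
      obtain ⟨H, hH, hroot⟩ := hint
      exact ASR.mem_of_monic_root hV H hH _ (by rw [Polynomial.aeval_def]; exact hroot)
    obtain ⟨n, u, hbu⟩ := IsDiscreteValuationRing.eq_unit_mul_pow_irreducible hb0 hπ
    refine ⟨n + 1, fun hmemx => ?_⟩
    rw [Ideal.mem_span_singleton] at hmemx
    obtain ⟨c, hc⟩ := hmemx
    obtain ⟨v, hbv⟩ : ∃ v : V, algebraMap B V b = x * v := by
      refine ⟨⟨_, hmem⟩, Subtype.ext ?_⟩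
      show gB b = (x : F) * (b • (x : F)⁻¹)
      rw [Algebra.smul_def]
      show gB b = (x : F) * (gB b * (x : F)⁻¹)
      field_simp
    have hπV0 : algebraMap B V π ≠ 0 := by
      intro h0
      have : gB π = 0 := congrArg Subtype.val h0
      exact hπ.ne_zero (hgBinj (by rw [this, map_zero]))
    have e1 : (algebraMap B V π) ^ n * algebraMap B V (u : B) =
        (algebraMap B V π) ^ n * (algebraMap B V π * (c * v)) := by
      rw [← map_pow, ← map_mul, mul_comm (π ^ n), ← hbu, hbv, hc, map_pow, pow_succ]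
      ring
    have e2 := mul_left_cancel₀ (pow_ne_zero n hπV0) e1
    have hu : IsUnit (algebraMap B V π * (c * v)) := by
      rw [← e2]; exact u.isUnit.map _
    have hπu : IsUnit (algebraMap B V π) := isUnit_of_mul_isUnit_left hu
    exact hπ.not_isUnit (isUnit_of_map_unit (algebraMap B V) π hπu)
  · -- fractions
    have key : ∀ z : K' ⊗[K] L, ∃ t₁ t₂ : B ⊗[A] (V.comap (algebraMap K' F)),
        ((ψ t₂ : V) : F) ≠ 0 ∧
          algebraMap (K' ⊗[K] L) F z * ((ψ t₂ : V) : F) = ((ψ t₁ : V) : F) := by
      intro z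
      induction z using TensorProduct.induction_on with
      | zero =>
        refine ⟨0, 1, ?_, ?_⟩
        · rw [map_one]; exact one_ne_zero
        · rw [map_zero, map_zero, zero_mul]; rfl
      | tmul k' l =>
        obtain ⟨v₁, v₂, hv₂, hv⟩ :=
          IsFractionRing.div_surjective (A := V.comap (algebraMap K' F)) k'
        obtain ⟨b₁, b₂, hb₂, hb⟩ := IsFractionRing.div_surjective (A := B) l
        have hv₂0 : (v₂ : K') ≠ 0 := by
          intro h0
          exact nonZeroDivisors.ne_zero hv₂ (Subtype.ext h0)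
        have hb₂0 : algebraMap B L b₂ ≠ 0 := by
          intro h0
          exact nonZeroDivisors.ne_zero hb₂ (IsFractionRing.injective B L (by rw [h0, map_zero]))
        have hjv : jK' (v₂ : K') ≠ 0 := (map_ne_zero jK').mpr hv₂0
        have hjb : jL (algebraMap B L b₂) ≠ 0 := (map_ne_zero jL).mpr hb₂0
        refine ⟨b₁ ⊗ₜ v₁, b₂ ⊗ₜ v₂, ?_, ?_⟩
        · rw [hψ]; exact mul_ne_zero hjb hjv
        · rw [hψ, hψ, halg, ← hv, ← hb]
          show jK' ((v₁ : K') / (v₂ : K')) * jL (algebraMap B L b₁ / algebraMap B L b₂) *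
            (jL (algebraMap B L b₂) * jK' (v₂ : K')) = jL (algebraMap B L b₁) * jK' (v₁ : K')
          rw [map_div₀, map_div₀]
          field_simp
      | add z z' hz hz' =>
        obtain ⟨t₁, t₂, h2, h12⟩ := hz
        obtain ⟨t₁', t₂', h2', h12'⟩ := hz'
        refine ⟨t₁ * t₂' + t₁' * t₂, t₂ * t₂', ?_, ?_⟩
        · rw [map_mul]; exact mul_ne_zero h2 h2'
        · rw [map_mul, map_add, map_add, map_mul, map_mul]
          show (_ + _) * (((ψ t₂ : V) : F) * ((ψ t₂' : V) : F)) =
            ((ψ t₁ : V) : F) * ((ψ t₂' : V) : F) + ((ψ t₁' : V) : F) * ((ψ t₂ : V) : F)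
          rw [← h12, ← h12']
          ring
    intro y
    obtain ⟨z, hz⟩ := hF (y : F)
    obtain ⟨t₁, t₂, h2, h12⟩ := key z
    refine ⟨t₁, t₂, fun h0 => h2 (by rw [h0]; rfl), Subtype.ext ?_⟩
    show (y : F) * ((ψ t₂ : V) : F) = ((ψ t₁ : V) : F)
    rw [← hz, h12]

end Groth.Agent.Lib.Helper27.UBC
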