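import Mathlib
import Groth.Prelude.Def_EtRam
import Groth.Agent.Lib.Helper27.TBC4
import Groth.Agent.Lib.Helper27.UBC3
import Groth.Agent.Lib.Helper27.TameTower3

/-! Composita of unramified / tamely ramified extensions. -/

set_option autoImplicit false

namespace Groth.Agent.Lib.Helper27.Comp
open IsLocalRing TensorProduct

universe u

section Gen
variable {K L₁ L₂ M : Type*} [Field K] [Field L₁] [Field L₂] [Field M] [Algebra K L₁]
  [Algebra K L₂] [Algebra K M]
  (ι₁ : L₁ →ₐ[K] M) (ι₂ : L₂ →ₐ[K] M)
  (hsurj : Function.Surjective (Algebra.TensorProduct.productMap ι₁ ι₂))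

include hsurj

theorem finite_of_surjective [FiniteDimensional K L₁] [FiniteDimensional K L₂] :
    FiniteDimensional K M :=
  Module.Finite.of_surjective (Algebra.TensorProduct.productMap ι₁ ι₂).toLinearMap hsurj

theorem separable_of_surjective [Algebra.IsSeparable K L₁] [Algebra.IsSeparable K L₂] :
    Algebra.IsSeparable K M := by
  rw [← separableClosure.eq_top_iff, eq_top_iff]
  intro y _
  obtain ⟨z, rfl⟩ := hsurj y
  clear ‹_ ∈ (⊤ : IntermediateField K M)›
  induction z using TensorProduct.induction_on with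
  | zero => rw [map_zero]; exact (separableClosure K M).zero_mem
  | tmul l₁ l₂ =>
    rw [Algebra.TensorProduct.productMap_apply_tmul]
    refine (separableClosure K M).mul_mem ?_ ?_
    · exact mem_separableClosure_iff.mpr
        ((Algebra.IsSeparable.isSeparable K l₁).map ι₁ ι₁.injective)
    · exact mem_separableClosure_iff.mpr
        ((Algebra.IsSeparable.isSeparable K l₂).map ι₂ ι₂.injective)
  | add z z' hz hz' => rw [map_add]; exact (separableClosure K M).add_mem hz hz'

end Gen

section Main
variable (A K : Type u) [CommRing A] [IsDomain A] [IsDiscreteValuationRing A] [Field K]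
  [Algebra A K] [IsFractionRing A K]
  {L₁ L₂ M : Type u} [Field L₁] [Field L₂] [Field M] [Algebra K L₁] [Algebra K L₂] [Algebra K M]
  [FiniteDimensional K L₁] [FiniteDimensional K L₂] [Algebra.IsSeparable K L₁]
  [Algebra.IsSeparable K L₂] [FiniteDimensional K M] [Algebra.IsSeparable K M]
  (ι₁ : L₁ →ₐ[K] M) (ι₂ : L₂ →ₐ[K] M)
  (hsurj : Function.Surjective (Algebra.TensorProduct.productMap ι₁ ι₂))

include hsurj

theorem unram_compositum
    (h₁ : EtRam.IsUnramifiedExt A ((algebraMap K L₁).comp (algebraMap A K)))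
    (h₂ : EtRam.IsUnramifiedExt A ((algebraMap K L₂).comp (algebraMap A K))) :
    EtRam.IsUnramifiedExt A ((algebraMap K M).comp (algebraMap A K)) := by
  classical
  letI algAL₂ : Algebra A L₂ := ((algebraMap K L₂).comp (algebraMap A K)).toAlgebra
  haveI : IsScalarTower A K L₂ := .of_algebraMap_eq fun _ => rfl
  letI algAM : Algebra A M := ((algebraMap K M).comp (algebraMap A K)).toAlgebra
  haveI : IsScalarTower A K M := .of_algebraMap_eq fun _ => rfl
  letI algL₂M : Algebra L₂ M := ι₂.toRingHom.toAlgebra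
  haveI : IsScalarTower K L₂ M := .of_algebraMap_eq fun k => (ι₂.commutes k).symm
  haveI : IsScalarTower A L₂ M := .of_algebraMap_eq fun a => by
    show algebraMap K M (algebraMap A K a) = ι₂ (algebraMap K L₂ (algebraMap A K a))
    rw [ι₂.commutes]
  refine TT.unram_trans (K := K) (L := L₂) (M := M) h₂ ?_
  intro V hV
  letI algAV : Algebra A V := (RingHom.codRestrict (algebraMap A L₂) V hV.1).toAlgebra
  haveI : IsLocalHom (algebraMap A V) := TT.isLocalHom_of_dominates hV (fun _ => rfl)
  haveI : IsDiscreteValuationRing V := WU.isDVR_of_dominates_finite (K := K) hV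
  haveI : IsScalarTower A V L₂ := .of_algebraMap_eq fun _ => rfl
  letI algTM : Algebra (L₁ ⊗[K] L₂) M :=
    (Algebra.TensorProduct.productMap ι₁ ι₂).toRingHom.toAlgebra
  have key := UBC.main A V K L₂ L₁ h₁ M hsurj
  have e : (algebraMap (L₁ ⊗[K] L₂) M).comp
      ((Algebra.TensorProduct.includeRight : L₂ →ₐ[K] L₁ ⊗[K] L₂).toRingHom.comp
        (algebraMap V L₂)) = (algebraMap L₂ M).comp V.subtype := by
    ext v
    show Algebra.TensorProduct.productMap ι₁ ι₂ ((1 : L₁) ⊗ₜ[K] (v : L₂)) = ι₂ v
    rw [Algebra.TensorProduct.productMap_apply_tmul, map_one, one_mul]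
  rw [← e]
  exact key

theorem tame_compositum
    (h₁ : EtRam.IsTamelyRamified A ((algebraMap K L₁).comp (algebraMap A K)))
    (h₂ : EtRam.IsTamelyRamified A ((algebraMap K L₂).comp (algebraMap A K))) :
    EtRam.IsTamelyRamified A ((algebraMap K M).comp (algebraMap A K)) := by
  classical
  letI algAL₂ : Algebra A L₂ := ((algebraMap K L₂).comp (algebraMap A K)).toAlgebra
  haveI : IsScalarTower A K L₂ := .of_algebraMap_eq fun _ => rfl
  letI algAM : Algebra A M := ((algebraMap K M).comp (algebraMap A K)).toAlgebra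
  haveI : IsScalarTower A K M := .of_algebraMap_eq fun _ => rfl
  letI algL₂M : Algebra L₂ M := ι₂.toRingHom.toAlgebra
  haveI : IsScalarTower K L₂ M := .of_algebraMap_eq fun k => (ι₂.commutes k).symm
  haveI : IsScalarTower A L₂ M := .of_algebraMap_eq fun a => by
    show algebraMap K M (algebraMap A K a) = ι₂ (algebraMap K L₂ (algebraMap A K a))
    rw [ι₂.commutes]
  refine TT.tame_trans (K := K) (L := L₂) (M := M) h₂ ?_
  intro V hV
  letI algAV : Algebra A V := (RingHom.codRestrict (algebraMap A L₂) V hV.1).toAlgebra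
  haveI : IsLocalHom (algebraMap A V) := TT.isLocalHom_of_dominates hV (fun _ => rfl)
  haveI : IsDiscreteValuationRing V := WU.isDVR_of_dominates_finite (K := K) hV
  haveI : IsScalarTower A V L₂ := .of_algebraMap_eq fun _ => rfl
  letI algTM : Algebra (L₁ ⊗[K] L₂) M :=
    (Algebra.TensorProduct.productMap ι₁ ι₂).toRingHom.toAlgebra
  have key := TBC.main A V K L₂ L₁ h₁ M hsurj
  have e : (algebraMap (L₁ ⊗[K] L₂) M).comp
      ((Algebra.TensorProduct.includeRight : L₂ →ₐ[K] L₁ ⊗[K] L₂).toRingHom.comp
        (algebraMap V L₂)) = (algebraMap L₂ M).comp V.subtype := by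
    ext v
    show Algebra.TensorProduct.productMap ι₁ ι₂ ((1 : L₁) ⊗ₜ[K] (v : L₂)) = ι₂ v
    rw [Algebra.TensorProduct.productMap_apply_tmul, map_one, one_mul]
  rw [← e]
  exact key

end Main

end Groth.Agent.Lib.Helper27.Comp
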