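import Mathlib
import Groth.Prelude.Def_EtRam
import Groth.Agent.Lib.Helper27.Comp1

/-! Existence of composita and Galois closures with a property stable under composita. -/

set_option autoImplicit false

namespace Groth.Agent.Lib.Helper27.Comp
open IsLocalRing TensorProduct

universe u

/-- Two finite separable extensions embed into a common finite separable extension generated by
their images. -/
theorem exists_compositum (K L₁ L₂ : Type u) [Field K] [Field L₁] [Field L₂] [Algebra K L₁]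
    [Algebra K L₂] [FiniteDimensional K L₁] [FiniteDimensional K L₂] [Algebra.IsSeparable K L₁]
    [Algebra.IsSeparable K L₂] :
    ∃ (M : Type u) (_ : Field M) (_ : Algebra K M) (_ : FiniteDimensional K M)
      (_ : Algebra.IsSeparable K M) (ι₁ : L₁ →ₐ[K] M) (ι₂ : L₂ →ₐ[K] M),
      Function.Surjective (Algebra.TensorProduct.productMap ι₁ ι₂) := by
  classical
  haveI : Nontrivial (L₁ ⊗[K] L₂) := inferInstance
  obtain ⟨𝔪, h𝔪⟩ := Ideal.exists_maximal (L₁ ⊗[K] L₂)
  letI : Field ((L₁ ⊗[K] L₂) ⧸ 𝔪) := Ideal.Quotient.field 𝔪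
  let ι₁ : L₁ →ₐ[K] (L₁ ⊗[K] L₂) ⧸ 𝔪 :=
    (Ideal.Quotient.mkₐ K 𝔪).comp Algebra.TensorProduct.includeLeft
  let ι₂ : L₂ →ₐ[K] (L₁ ⊗[K] L₂) ⧸ 𝔪 :=
    (Ideal.Quotient.mkₐ K 𝔪).comp Algebra.TensorProduct.includeRight
  have hprod : ∀ z, Algebra.TensorProduct.productMap ι₁ ι₂ z = Ideal.Quotient.mkₐ K 𝔪 z := by
    intro z
    induction z using TensorProduct.induction_on with
    | zero => rw [map_zero, map_zero]
    | tmul x y =>
      rw [Algebra.TensorProduct.productMap_apply_tmul]
      show Ideal.Quotient.mkₐ K 𝔪 (x ⊗ₜ[K] (1 : L₂)) * Ideal.Quotient.mkₐ K 𝔪 ((1 : L₁) ⊗ₜ[K] y) = _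
      rw [← map_mul, Algebra.TensorProduct.tmul_mul_tmul, mul_one, one_mul]
    | add z z' hz hz' => rw [map_add, map_add, hz, hz']
  have hsurj : Function.Surjective (Algebra.TensorProduct.productMap ι₁ ι₂) := by
    intro y
    obtain ⟨z, rfl⟩ := Ideal.Quotient.mkₐ_surjective K 𝔪 y
    exact ⟨z, hprod z⟩
  exact ⟨(L₁ ⊗[K] L₂) ⧸ 𝔪, inferInstance, inferInstance, finite_of_surjective ι₁ ι₂ hsurj,
    separable_of_surjective ι₁ ι₂ hsurj, ι₁, ι₂, hsurj⟩

theorem sup_surjective {K Ω : Type*} [Field K] [Field Ω] [Algebra K Ω]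
    (E₁ E₂ : IntermediateField K Ω) [Algebra.IsAlgebraic K E₁] :
    Function.Surjective (Algebra.TensorProduct.productMap
      (IntermediateField.inclusion (le_sup_left : E₁ ≤ E₁ ⊔ E₂))
      (IntermediateField.inclusion (le_sup_right : E₂ ≤ E₁ ⊔ E₂))) := by
  have hval : ∀ z : E₁ ⊗[K] E₂, ((Algebra.TensorProduct.productMap
      (IntermediateField.inclusion (le_sup_left : E₁ ≤ E₁ ⊔ E₂))
      (IntermediateField.inclusion (le_sup_right : E₂ ≤ E₁ ⊔ E₂)) z : ↥(E₁ ⊔ E₂)) : Ω) =
      Algebra.TensorProduct.productMap E₁.val E₂.val z := by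
    intro z
    induction z using TensorProduct.induction_on with
    | zero => rw [map_zero, map_zero]; rfl
    | tmul x y =>
      rw [Algebra.TensorProduct.productMap_apply_tmul, Algebra.TensorProduct.productMap_apply_tmul]
      rfl
    | add z z' hz hz' =>
      rw [map_add, map_add, ← hz, ← hz']
      rfl
  intro y
  have hy : (y : Ω) ∈ (E₁ ⊔ E₂).toSubalgebra := y.2
  rw [IntermediateField.sup_toSubalgebra_of_isAlgebraic_left, ← IntermediateField.range_val,
    ← IntermediateField.range_val E₂, ← Algebra.TensorProduct.productMap_range] at hy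
  obtain ⟨z, hz⟩ := hy
  exact ⟨z, Subtype.ext ((hval z).trans hz)⟩

/-- Galois closures inherit every property stable under subextensions and composita. -/
theorem exists_galois_of (K : Type u) [Field K]
    (Q : ∀ (M : Type u) [Field M] [Algebra K M], Prop)
    (hbot : ∀ (E M : Type u) [Field E] [Field M] [Algebra K E] [Algebra K M]
      [FiniteDimensional K M] [Algebra.IsSeparable K M] (_ : E →ₐ[K] M), Q M → Q E)
    (hcomp : ∀ (L₁ L₂ M : Type u) [Field L₁] [Field L₂] [Field M] [Algebra K L₁] [Algebra K L₂]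
      [Algebra K M] [FiniteDimensional K L₁] [FiniteDimensional K L₂] [Algebra.IsSeparable K L₁]
      [Algebra.IsSeparable K L₂] [FiniteDimensional K M] [Algebra.IsSeparable K M]
      (ι₁ : L₁ →ₐ[K] M) (ι₂ : L₂ →ₐ[K] M),
      Function.Surjective (Algebra.TensorProduct.productMap ι₁ ι₂) → Q L₁ → Q L₂ → Q M)
    (L : Type u) [Field L] [Algebra K L] [FiniteDimensional K L] [Algebra.IsSeparable K L]
    (hL : Q L) :
    ∃ (M : Type u) (_ : Field M) (_ : Algebra K M) (_ : FiniteDimensional K M) (_ : IsGalois K M)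
      (_ : L →ₐ[K] M), Q M := by
  classical
  let ι : L →ₐ[K] SeparableClosure K := IsSepClosed.lift
  letI algLΩ : Algebra L (SeparableClosure K) := ι.toRingHom.toAlgebra
  haveI : IsScalarTower K L (SeparableClosure K) := .of_algebraMap_eq fun k => (ι.commutes k).symm
  have hsepE : ∀ E : IntermediateField K (SeparableClosure K), Algebra.IsSeparable K E :=
    fun E => Algebra.isSeparable_tower_bot_of_isSeparable K E (SeparableClosure K)
  let P : IntermediateField K (SeparableClosure K) → Prop :=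
    fun E => FiniteDimensional K E ∧ Q E
  have hP : P (IntermediateField.normalClosure K L (SeparableClosure K)) := by
    rw [normalClosure_def, ← Finset.sup_univ_eq_iSup,
      ← Finset.sup'_eq_sup ⟨ι, Finset.mem_univ ι⟩]
    refine Finset.sup'_induction _ _ ?_ ?_
    · rintro E₁ ⟨hf₁, hQ₁⟩ E₂ ⟨hf₂, hQ₂⟩
      haveI := hsepE E₁
      haveI := hsepE E₂
      haveI := hsepE (E₁ ⊔ E₂)
      have hsurj := sup_surjective E₁ E₂
      haveI hf : FiniteDimensional K ↥(E₁ ⊔ E₂) := finite_of_surjective _ _ hsurj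
      exact ⟨hf, hcomp E₁ E₂ ↥(E₁ ⊔ E₂) _ _ hsurj hQ₁ hQ₂⟩
    · intro σ _
      have e : L ≃ₐ[K] σ.fieldRange := AlgEquiv.ofInjectiveField σ
      exact ⟨e.toLinearEquiv.finiteDimensional, hbot σ.fieldRange L e.symm.toAlgHom hL⟩
  obtain ⟨hfin, hQ⟩ := hP
  haveI := hsepE (IntermediateField.normalClosure K L (SeparableClosure K))
  exact ⟨IntermediateField.normalClosure K L (SeparableClosure K), inferInstance, inferInstance,
    hfin, ⟨⟩, IsScalarTower.toAlgHom K L _, hQ⟩

end Groth.Agent.Lib.Helper27.Comp
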