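import Mathlib
import Groth.Prelude.Def_EtRam
import Groth.Agent.Lib.Helper27.Comp2

/-! Galois closures and composita of unramified / tamely ramified extensions. -/

set_option autoImplicit false

namespace Groth.Agent.Lib.Helper27.Comp
open IsLocalRing TensorProduct

universe u

section
variable (A K : Type u) [CommRing A] [IsDomain A] [IsDiscreteValuationRing A] [Field K]
  [Algebra A K] [IsFractionRing A K]

theorem unram_of_algHom (E M : Type u) [Field E] [Field M] [Algebra K E] [Algebra K M]
    [FiniteDimensional K M] [Algebra.IsSeparable K M] (f : E →ₐ[K] M)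
    (h : EtRam.IsUnramifiedExt A ((algebraMap K M).comp (algebraMap A K))) :
    EtRam.IsUnramifiedExt A ((algebraMap K E).comp (algebraMap A K)) := by
  letI algAE : Algebra A E := ((algebraMap K E).comp (algebraMap A K)).toAlgebra
  haveI : IsScalarTower A K E := .of_algebraMap_eq fun _ => rfl
  letI algAM : Algebra A M := ((algebraMap K M).comp (algebraMap A K)).toAlgebra
  haveI : IsScalarTower A K M := .of_algebraMap_eq fun _ => rfl
  letI algEM : Algebra E M := f.toRingHom.toAlgebra
  haveI : IsScalarTower K E M := .of_algebraMap_eq fun k => (f.commutes k).symm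
  haveI : IsScalarTower A E M := .of_algebraMap_eq fun a => by
    show algebraMap K M (algebraMap A K a) = f (algebraMap K E (algebraMap A K a))
    rw [f.commutes]
  exact TT.unram_bot (K := K) (L := E) (M := M) h

theorem tame_of_algHom (E M : Type u) [Field E] [Field M] [Algebra K E] [Algebra K M]
    [FiniteDimensional K M] [Algebra.IsSeparable K M] (f : E →ₐ[K] M)
    (h : EtRam.IsTamelyRamified A ((algebraMap K M).comp (algebraMap A K))) :
    EtRam.IsTamelyRamified A ((algebraMap K E).comp (algebraMap A K)) := by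
  letI algAE : Algebra A E := ((algebraMap K E).comp (algebraMap A K)).toAlgebra
  haveI : IsScalarTower A K E := .of_algebraMap_eq fun _ => rfl
  letI algAM : Algebra A M := ((algebraMap K M).comp (algebraMap A K)).toAlgebra
  haveI : IsScalarTower A K M := .of_algebraMap_eq fun _ => rfl
  letI algEM : Algebra E M := f.toRingHom.toAlgebra
  haveI : IsScalarTower K E M := .of_algebraMap_eq fun k => (f.commutes k).symm
  haveI : IsScalarTower A E M := .of_algebraMap_eq fun a => by
    show algebraMap K M (algebraMap A K a) = f (algebraMap K E (algebraMap A K a))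
    rw [f.commutes]
  exact TT.tame_bot (K := K) (L := E) (M := M) h

theorem galois_unram (L : Type u) [Field L] [Algebra K L] [FiniteDimensional K L]
    [Algebra.IsSeparable K L]
    (h : EtRam.IsUnramifiedExt A ((algebraMap K L).comp (algebraMap A K))) :
    ∃ (M : Type u) (_ : Field M) (_ : Algebra K M) (_ : FiniteDimensional K M) (_ : IsGalois K M)
      (_ : L →ₐ[K] M), EtRam.IsUnramifiedExt A ((algebraMap K M).comp (algebraMap A K)) :=
  exists_galois_of K
    (fun M _ _ => EtRam.IsUnramifiedExt A ((algebraMap K M).comp (algebraMap A K)))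
    (fun E M _ _ _ _ _ _ f hM => unram_of_algHom A K E M f hM)
    (fun L₁ L₂ M _ _ _ _ _ _ _ _ _ _ _ _ ι₁ ι₂ hsurj h₁ h₂ =>
      unram_compositum A K ι₁ ι₂ hsurj h₁ h₂) L h

theorem galois_tame (L : Type u) [Field L] [Algebra K L] [FiniteDimensional K L]
    [Algebra.IsSeparable K L]
    (h : EtRam.IsTamelyRamified A ((algebraMap K L).comp (algebraMap A K))) :
    ∃ (M : Type u) (_ : Field M) (_ : Algebra K M) (_ : FiniteDimensional K M) (_ : IsGalois K M)
      (_ : L →ₐ[K] M), EtRam.IsTamelyRamified A ((algebraMap K M).comp (algebraMap A K)) :=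
  exists_galois_of K
    (fun M _ _ => EtRam.IsTamelyRamified A ((algebraMap K M).comp (algebraMap A K)))
    (fun E M _ _ _ _ _ _ f hM => tame_of_algHom A K E M f hM)
    (fun L₁ L₂ M _ _ _ _ _ _ _ _ _ _ _ _ ι₁ ι₂ hsurj h₁ h₂ =>
      tame_compositum A K ι₁ ι₂ hsurj h₁ h₂) L h

theorem comp_unram (L₁ L₂ : Type u) [Field L₁] [Field L₂] [Algebra K L₁] [Algebra K L₂]
    [FiniteDimensional K L₁] [FiniteDimensional K L₂]
    [Algebra.IsSeparable K L₁] [Algebra.IsSeparable K L₂]
    (h₁ : EtRam.IsUnramifiedExt A ((algebraMap K L₁).comp (algebraMap A K)))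
    (h₂ : EtRam.IsUnramifiedExt A ((algebraMap K L₂).comp (algebraMap A K))) :
    ∃ (M : Type u) (_ : Field M) (_ : Algebra K M) (_ : FiniteDimensional K M)
      (_ : Algebra.IsSeparable K M) (_ : L₁ →ₐ[K] M) (_ : L₂ →ₐ[K] M),
      EtRam.IsUnramifiedExt A ((algebraMap K M).comp (algebraMap A K)) := by
  obtain ⟨M, iF, iA, iFin, iSep, ι₁, ι₂, hsurj⟩ := exists_compositum K L₁ L₂
  exact ⟨M, iF, iA, iFin, iSep, ι₁, ι₂, unram_compositum A K ι₁ ι₂ hsurj h₁ h₂⟩

theorem comp_tame (L₁ L₂ : Type u) [Field L₁] [Field L₂] [Algebra K L₁] [Algebra K L₂]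
    [FiniteDimensional K L₁] [FiniteDimensional K L₂]
    [Algebra.IsSeparable K L₁] [Algebra.IsSeparable K L₂]
    (h₁ : EtRam.IsTamelyRamified A ((algebraMap K L₁).comp (algebraMap A K)))
    (h₂ : EtRam.IsTamelyRamified A ((algebraMap K L₂).comp (algebraMap A K))) :
    ∃ (M : Type u) (_ : Field M) (_ : Algebra K M) (_ : FiniteDimensional K M)
      (_ : Algebra.IsSeparable K M) (_ : L₁ →ₐ[K] M) (_ : L₂ →ₐ[K] M),
      EtRam.IsTamelyRamified A ((algebraMap K M).comp (algebraMap A K)) := by
  obtain ⟨M, iF, iA, iFin, iSep, ι₁, ι₂, hsurj⟩ := exists_compositum K L₁ L₂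
  exact ⟨M, iF, iA, iFin, iSep, ι₁, ι₂, tame_compositum A K ι₁ ι₂ hsurj h₁ h₂⟩

end

end Groth.Agent.Lib.Helper27.Comp
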