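import Mathlib

/-!
Completion of a right exact sequence is exact in the middle when the completed middle term is finite.
-/

set_option autoImplicit false

namespace Groth.Agent.Lib.Helper27.ComplExactFin

open IsLocalRing

section

variable {S : Type*} [CommRing S] [IsNoetherianRing S] [IsLocalRing S]
  {M' M M'' : Type*} [AddCommGroup M'] [AddCommGroup M] [AddCommGroup M'']
  [Module S M'] [Module S M] [Module S M'']

theorem range_map_eq_ker_map (f : M' →ₗ[S] M) (g : M →ₗ[S] M'') (hfg : Function.Exact f g)
    (hg : Function.Surjective g) [Module.Finite S (AdicCompletion (maximalIdeal S) M)] :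
    LinearMap.range (AdicCompletion.map (maximalIdeal S) f) =
      LinearMap.ker (AdicCompletion.map (maximalIdeal S) g) := by
  have hmfg : (maximalIdeal S).FG := IsNoetherian.noetherian _
  apply le_antisymm
  · rintro _ ⟨y, rfl⟩
    rw [LinearMap.mem_ker, AdicCompletion.map_comp_apply, hfg.linearMap_comp_eq_zero,
      AdicCompletion.map_zero]
    rfl
  · intro x hx
    rw [LinearMap.mem_ker] at hx
    let N : Submodule S (AdicCompletion (maximalIdeal S) M) :=
      (LinearMap.range (AdicCompletion.map (maximalIdeal S) f)).restrictScalars S
    have key : ∀ n : ℕ, x ∈ N ⊔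
        ((maximalIdeal S) ^ n • ⊤ : Submodule S (AdicCompletion (maximalIdeal S) M)) := by
      intro n
      obtain ⟨a, rfl⟩ := AdicCompletion.mk_surjective (maximalIdeal S) M x
      have h1 : (AdicCompletion.mk (maximalIdeal S) M''
          (AdicCompletion.AdicCauchySequence.map (maximalIdeal S) g a)).val n = 0 := by
        rw [← AdicCompletion.map_mk, hx]; rfl
      have h2 : g (a n) ∈ ((maximalIdeal S) ^ n • ⊤ : Submodule S M'') := by
        rw [← Submodule.Quotient.mk_eq_zero]
        exact h1
      have h3 : ((maximalIdeal S) ^ n • ⊤ : Submodule S M'') =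
          ((maximalIdeal S) ^ n • ⊤ : Submodule S M).map g := by
        rw [Submodule.map_smul'', Submodule.map_top, LinearMap.range_eq_top.mpr hg]
      rw [h3] at h2
      obtain ⟨y, hy, hgy⟩ := h2
      have h4 : a n - y ∈ LinearMap.ker g := by
        rw [LinearMap.mem_ker, map_sub, hgy, sub_self]
      rw [hfg.linearMap_ker_eq] at h4
      obtain ⟨z, hz⟩ := h4
      have h5 : AdicCompletion.mk (maximalIdeal S) M a -
          AdicCompletion.map (maximalIdeal S) f (AdicCompletion.of (maximalIdeal S) M' z) ∈
          ((maximalIdeal S) ^ n • ⊤ : Submodule S (AdicCompletion (maximalIdeal S) M)) := by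
        rw [AdicCompletion.pow_smul_top_eq_ker_eval hmfg, LinearMap.mem_ker, map_sub,
          AdicCompletion.map_of, AdicCompletion.eval_of]
        show Submodule.Quotient.mk (a n) - Submodule.Quotient.mk (f z) = 0
        rw [hz, ← Submodule.Quotient.mk_sub, Submodule.Quotient.mk_eq_zero]
        have : a n - (a n - y) = y := by abel
        rw [this]
        exact hy
      have h6 : AdicCompletion.mk (maximalIdeal S) M a =
          AdicCompletion.map (maximalIdeal S) f (AdicCompletion.of (maximalIdeal S) M' z) +
          (AdicCompletion.mk (maximalIdeal S) M a -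
          AdicCompletion.map (maximalIdeal S) f (AdicCompletion.of (maximalIdeal S) M' z)) := by
        abel
      rw [h6]
      exact Submodule.add_mem_sup (LinearMap.mem_range_self _ _) h5
    have hzero : N.mkQ x = 0 := by
      apply IsHausdorff.haus' (I := maximalIdeal S)
      intro n
      rw [SModEq.zero]
      obtain ⟨a, ha, b, hb, hab⟩ := Submodule.mem_sup.mp (key n)
      rw [← hab, map_add, Submodule.mkQ_apply, (Submodule.Quotient.mk_eq_zero N).mpr ha, zero_add]
      have h7 : ((maximalIdeal S) ^ n • ⊤ : Submodule S (AdicCompletion (maximalIdeal S) M)).map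
          N.mkQ ≤ ((maximalIdeal S) ^ n • ⊤ :
            Submodule S (AdicCompletion (maximalIdeal S) M ⧸ N)) := by
        rw [Submodule.map_smul'']
        exact smul_mono_right _ le_top
      exact h7 (Submodule.mem_map_of_mem hb)
    exact (Submodule.Quotient.mk_eq_zero N).mp hzero

end

end Groth.Agent.Lib.Helper27.ComplExactFin
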