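import Mathlib
import Groth.Agent.Lib.Helper27.ComplExactFin
import Groth.Agent.Lib.Helper6.CompletedKaehler
import Groth.Agent.Lib.Helper1.FFAdic

/-!
The completed cotangent sequence of a finite map of complete local algebras.
-/

set_option autoImplicit false
universe u
open scoped TensorProduct

namespace Groth.Agent.Lib.Helper27.ComplKaehlerExact

open IsLocalRing

theorem main (k R S : Type u) [Field k] [CommRing R] [IsNoetherianRing R]
    [IsLocalRing R] [Algebra k R] [IsAdicComplete (IsLocalRing.maximalIdeal R) R]
    [CommRing S] [IsNoetherianRing S] [IsLocalRing S] [Algebra k S]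
    [IsAdicComplete (IsLocalRing.maximalIdeal S) S] [Algebra R S] [IsScalarTower k R S]
    [Module.Finite R S]
    [Module.Finite (IsLocalRing.ResidueField S) (Ω[IsLocalRing.ResidueField S⁄k])] :
    IsAdicComplete (IsLocalRing.maximalIdeal S) (Ω[S⁄R]) ∧
      Function.Surjective (AdicCompletion.map (IsLocalRing.maximalIdeal S)
        (KaehlerDifferential.map k R S S)) ∧
      LinearMap.range (AdicCompletion.map (IsLocalRing.maximalIdeal S)
        (KaehlerDifferential.mapBaseChange k R S)) =
        LinearMap.ker (AdicCompletion.map (IsLocalRing.maximalIdeal S)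
          (KaehlerDifferential.map k R S S)) := by
  have hsurj : Function.Surjective (KaehlerDifferential.map k R S S) :=
    KaehlerDifferential.map_surjective k R S
  refine ⟨?_, AdicCompletion.map_surjective _ hsurj, ?_⟩
  · haveI : Module.Finite S (Ω[S⁄R]) := inferInstance
    exact Groth.Agent.Lib.Helper1.FFAdic.isAdicComplete_of_finite (maximalIdeal S) (Ω[S⁄R])
  · haveI h1 : Module.Finite (S ⧸ maximalIdeal S) (Ω[S ⧸ maximalIdeal S⁄k]) :=
      ‹Module.Finite (IsLocalRing.ResidueField S) (Ω[IsLocalRing.ResidueField S⁄k])›
    haveI h2 : Module.Finite (S ⧸ maximalIdeal S) (maximalIdeal S).Cotangent :=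
      (inferInstance : FiniteDimensional (ResidueField S) (CotangentSpace S))
    haveI : Module.Finite S (AdicCompletion (maximalIdeal S) (Ω[S⁄k])) :=
      Groth.Agent.Lib.Helper6.CompletedKaehler.finite_completedKaehler (A := k) (maximalIdeal S)
    exact Groth.Agent.Lib.Helper27.ComplExactFin.range_map_eq_ker_map
      (KaehlerDifferential.mapBaseChange k R S) (KaehlerDifferential.map k R S S)
      (KaehlerDifferential.exact_mapBaseChange_map k R S) hsurj

end Groth.Agent.Lib.Helper27.ComplKaehlerExact
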