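import Mathlib
import Groth.Prelude.Def_W4bk4boschfrg79
import Groth.Agent.Lib.Helper27.CplTensorC
import Groth.Agent.Lib.Helper27.RPowLift
import Groth.Agent.Lib.Helper27.AdicTrunc
import Groth.Agent.Lib.Helper27.CLocTft

/-!
The `I`-adic completion `Ĉ` of an arbitrary `R`-algebra `C`: completeness, density of `C`,
and: if `C` is of finite type over an algebra topologically of finite type, then `Ĉ` is
topologically of finite type.
-/

set_option autoImplicit false
universe u

namespace Groth.Agent.Lib.Helper27.CplAlg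

open AdicRing
open Groth.Agent.Lib.Helper27

variable {R : Type u} [CommRing R] (I : Ideal R) (hI : I.FG) (C : Type u) [CommRing C]
  [Algebra R C]

/-- the `I`-adic completion of an `R`-algebra. -/
abbrev Cpl : Type u := AdicCompletion (I.map (algebraMap R C)) C

instance isScalarTower_cpl : IsScalarTower R C (Cpl I C) :=
  IsScalarTower.of_algebraMap_eq (fun _ => rfl)

instance isScalarTower_cpl' {A : Type u} [CommRing A] [Algebra R A] [Algebra A C]
    [IsScalarTower R A C] : IsScalarTower R A (Cpl I C) :=
  IsScalarTower.of_algebraMap_eq (fun r => by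
    show algebraMap C (Cpl I C) (algebraMap R C r) =
      algebraMap C (Cpl I C) (algebraMap A C (algebraMap R A r))
    rw [← IsScalarTower.algebraMap_apply R A C])

instance isScalarTower_cpl'' {A : Type u} [CommRing A] [Algebra A C] :
    IsScalarTower A C (Cpl I C) :=
  IsScalarTower.of_algebraMap_eq (fun _ => rfl)

lemma map_map_cpl (K : Ideal R) :
    (K.map (algebraMap R C)).map (algebraMap C (Cpl I C)) = K.map (algebraMap R (Cpl I C)) := by
  rw [Ideal.map_map]
  rfl

include hI in
theorem isAdicComplete_cpl : IsAdicComplete (I.map (algebraMap R (Cpl I C))) (Cpl I C) := by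
  have h := AdicCompletion.isAdicComplete_self (I.map (algebraMap R C)) (hI.map _)
  rw [map_map_cpl] at h
  exact h

include hI in
/-- density of `C` modulo `I^k`. -/
theorem exists_sub_mem (k : ℕ) (b : Cpl I C) : ∃ s : C,
    b - algebraMap C (Cpl I C) s ∈ (I ^ k).map (algebraMap R (Cpl I C)) := by
  obtain ⟨s, hs⟩ := CplTensorC.exists_sub_mem_pow (I.map (algebraMap R C)) (hI.map _) k b
  refine ⟨s, ?_⟩
  rw [← Ideal.map_pow, map_map_cpl] at hs
  exact hs

/-- `C ∩ I^k Ĉ = I^k C`. -/
theorem mem_of_algebraMap_mem (k : ℕ) (s : C)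
    (hs : algebraMap C (Cpl I C) s ∈ (I ^ k).map (algebraMap R (Cpl I C))) :
    s ∈ (I ^ k).map (algebraMap R C) := by
  rw [← map_map_cpl] at hs
  exact CplTensorC.mem_of_algebraMap_mem_map (I.map (algebraMap R C))
    ((I ^ k).map (algebraMap R C)) k (by rw [Ideal.map_pow]) s hs

variable {A : Type u} [CommRing A] [Algebra R A] [Algebra A C] [IsScalarTower R A C]

include hI in
/-- the completion of a finite type algebra over a tft algebra is tft. -/
theorem tft_cpl (hA : TopFiniteType R I A) [Algebra.FiniteType A C] :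
    TopFiniteType R I (Cpl I C) := by
  classical
  obtain ⟨n, π, hπ⟩ := hA
  obtain ⟨m, ψ, hψ⟩ := (Algebra.FiniteType.iff_quotient_mvPolynomial'' (R := A) (S := C)).mp
    inferInstance
  haveI hc : IsAdicComplete (I.map (algebraMap R (Cpl I C))) (Cpl I C) :=
    isAdicComplete_cpl I hI C
  set y : Fin n → A := fun l => π (algebraMap (MvPolynomial (Fin n) R) (RPow R I n)
    (MvPolynomial.X l)) with hy
  set x : Fin (n + m) → Cpl I C :=
    Fin.append (fun l => algebraMap A (Cpl I C) (y l))
      (fun j => algebraMap C (Cpl I C) (ψ (MvPolynomial.X j))) with hx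
  refine ⟨n + m, RPowLift.liftX R I (Cpl I C) x,
    RPowLift.liftX_surjective R I (Cpl I C) x hI ?_⟩
  -- polynomial approximation of elements of `C`
  have key : ∀ P : MvPolynomial (Fin m) A, ∃ p : MvPolynomial (Fin (n + m)) R,
      algebraMap C (Cpl I C) (ψ P) - MvPolynomial.aeval x p ∈
        I.map (algebraMap R (Cpl I C)) := by
    intro P
    induction P using MvPolynomial.induction_on with
    | C a =>
      obtain ⟨z, rfl⟩ := hπ a
      obtain ⟨q, hq⟩ := AdicTrunc.exists_sub_mem hI 1 z
      rw [pow_one] at hq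
      refine ⟨MvPolynomial.rename (Fin.castAdd m) q, ?_⟩
      have h4 : π z - MvPolynomial.aeval y q ∈ I.map (algebraMap R A) := by
        rw [← CLocTft.phi_ofP I π q, ← map_sub]
        exact AdicTrunc.phi_mem_of_mem π I hq
      have h3 : MvPolynomial.aeval x (MvPolynomial.rename (Fin.castAdd m) q) =
          algebraMap A (Cpl I C) (MvPolynomial.aeval y q) := by
        rw [MvPolynomial.aeval_rename]
        have e2 : x ∘ Fin.castAdd m = fun l => algebraMap A (Cpl I C) (y l) := by
          funext l
          rw [hx, Function.comp_apply, Fin.append_left]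
        rw [e2]
        have e3 := AlgHom.congr_fun (MvPolynomial.comp_aeval y
          (IsScalarTower.toAlgHom R A (Cpl I C))) q
        exact e3.symm
      have h5 : ψ (MvPolynomial.C (π z)) = algebraMap A C (π z) := by
        rw [← MvPolynomial.algebraMap_eq, AlgHom.commutes]
      rw [h3, h5, ← IsScalarTower.algebraMap_apply A C (Cpl I C), ← map_sub]
      have h6 : (I.map (algebraMap R A)).map (algebraMap A (Cpl I C)) =
          I.map (algebraMap R (Cpl I C)) := by
        rw [Ideal.map_map, ← IsScalarTower.algebraMap_eq]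
      rw [← h6]
      exact Ideal.mem_map_of_mem _ h4
    | add P Q hP hQ =>
      obtain ⟨p, hp⟩ := hP
      obtain ⟨q, hq⟩ := hQ
      refine ⟨p + q, ?_⟩
      have e : algebraMap C (Cpl I C) (ψ (P + Q)) - MvPolynomial.aeval x (p + q) =
          (algebraMap C (Cpl I C) (ψ P) - MvPolynomial.aeval x p) +
          (algebraMap C (Cpl I C) (ψ Q) - MvPolynomial.aeval x q) := by
        rw [map_add, map_add, map_add]; ring
      rw [e]
      exact Ideal.add_mem _ hp hq
    | mul_X P j hP =>
      obtain ⟨p, hp⟩ := hP
      refine ⟨p * MvPolynomial.X (Fin.natAdd n j), ?_⟩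
      have e1 : x (Fin.natAdd n j) = algebraMap C (Cpl I C) (ψ (MvPolynomial.X j)) := by
        rw [hx, Fin.append_right]
      have e : algebraMap C (Cpl I C) (ψ (P * MvPolynomial.X j)) -
          MvPolynomial.aeval x (p * MvPolynomial.X (Fin.natAdd n j)) =
          (algebraMap C (Cpl I C) (ψ P) - MvPolynomial.aeval x p) *
            algebraMap C (Cpl I C) (ψ (MvPolynomial.X j)) := by
        rw [map_mul, map_mul, map_mul, MvPolynomial.aeval_X, e1]; ring
      rw [e]
      exact Ideal.mul_mem_right _ _ hp
  intro b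
  obtain ⟨s, hs⟩ := exists_sub_mem I hI C 1 b
  rw [pow_one] at hs
  obtain ⟨P, rfl⟩ := hψ s
  obtain ⟨p, hp⟩ := key P
  refine ⟨p, ?_⟩
  have e : b - MvPolynomial.aeval x p =
      (b - algebraMap C (Cpl I C) (ψ P)) +
      (algebraMap C (Cpl I C) (ψ P) - MvPolynomial.aeval x p) := by ring
  rw [e]
  exact Ideal.add_mem _ hs hp

end Groth.Agent.Lib.Helper27.CplAlg
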