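import Mathlib
import Groth.Agent.Lib.Helper27.CplAlg

/-!
The truncations of `C → Ĉ` are isomorphisms, hence flat.
-/

set_option autoImplicit false
universe u

namespace Groth.Agent.Lib.Helper27.CplFlat

open AdicRing TensorProduct
open Groth.Agent.Lib.Helper27 Groth.Agent.Lib.Helper27.CplAlg

variable {R : Type u} [CommRing R] (I : Ideal R) (hI : I.FG) (C : Type u) [CommRing C]
  [Algebra R C]

/-- the truncation map `C / I^k C → Ĉ / I^k Ĉ`. -/
noncomputable def truncMap (k : ℕ) :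
    C ⧸ (I ^ k).map (algebraMap R C) →+* Cpl I C ⧸ (I ^ k).map (algebraMap R (Cpl I C)) :=
  Ideal.quotientMap _ (algebraMap C (Cpl I C)) (by
    rw [← Ideal.map_le_iff_le_comap, map_map_cpl])

lemma truncMap_mk (k : ℕ) (a : C) :
    truncMap I C k (Ideal.Quotient.mk _ a) = Ideal.Quotient.mk _ (algebraMap C (Cpl I C) a) := rfl

include hI in
theorem truncMap_bijective (k : ℕ) : Function.Bijective (truncMap I C k) := by
  constructor
  · rw [injective_iff_map_eq_zero]
    intro x hx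
    obtain ⟨a, rfl⟩ := Ideal.Quotient.mk_surjective x
    rw [truncMap_mk, Ideal.Quotient.eq_zero_iff_mem] at hx
    rw [Ideal.Quotient.eq_zero_iff_mem]
    exact mem_of_algebraMap_mem I C k a hx
  · intro z
    obtain ⟨b, rfl⟩ := Ideal.Quotient.mk_surjective z
    obtain ⟨s, hs⟩ := exists_sub_mem I hI C k b
    refine ⟨Ideal.Quotient.mk _ s, ?_⟩
    rw [truncMap_mk, eq_comm, Ideal.Quotient.eq]
    exact hs

include hI in
theorem flat_trunc_tensor (k : ℕ) :
    Module.Flat (C ⧸ (I ^ k).map (algebraMap R C))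
      ((C ⧸ (I ^ k).map (algebraMap R C)) ⊗[C] Cpl I C) := by
  letI alg := (truncMap I C k).toAlgebra
  haveI : IsScalarTower C (C ⧸ (I ^ k).map (algebraMap R C))
      (Cpl I C ⧸ (I ^ k).map (algebraMap R (Cpl I C))) :=
    IsScalarTower.of_algebraMap_eq (fun a => rfl)
  let e₀ : (C ⧸ (I ^ k).map (algebraMap R C)) ≃ₗ[C ⧸ (I ^ k).map (algebraMap R C)]
      (Cpl I C ⧸ (I ^ k).map (algebraMap R (Cpl I C))) :=
    LinearEquiv.ofBijective (Algebra.linearMap _ _) (truncMap_bijective I hI C k)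
  haveI hflat : Module.Flat (C ⧸ (I ^ k).map (algebraMap R C))
      (Cpl I C ⧸ (I ^ k).map (algebraMap R (Cpl I C))) :=
    Module.Flat.of_linearEquiv e₀.symm
  -- the chain of linear equivalences
  let e₁ := TensorProduct.quotTensorEquivQuotSMul (Cpl I C) ((I ^ k).map (algebraMap R C))
  have heq : (((I ^ k).map (algebraMap R C)) • ⊤ : Submodule C (Cpl I C)) =
      ((I ^ k).map (algebraMap R (Cpl I C))).restrictScalars C := by
    rw [Ideal.smul_top_eq_map, map_map_cpl]
  let e₂ := Submodule.quotEquivOfEq _ _ heq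
  let e₃ := Submodule.Quotient.restrictScalarsEquiv C ((I ^ k).map (algebraMap R (Cpl I C)))
  let e : ((C ⧸ (I ^ k).map (algebraMap R C)) ⊗[C] Cpl I C) ≃ₗ[C]
      (Cpl I C ⧸ (I ^ k).map (algebraMap R (Cpl I C))) := e₁ ≪≫ₗ e₂ ≪≫ₗ e₃
  exact Module.Flat.of_linearEquiv
    (e.extendScalarsOfSurjective Ideal.Quotient.mk_surjective)

end Groth.Agent.Lib.Helper27.CplFlat
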