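import Mathlib
import Groth.Agent.S0545
import Groth.Agent.Lib.Helper8.HenselNil
import Groth.Agent.Lib.Helper15.ComplSemilocal
import Groth.Agent.Lib.Helper15.ComplSurj

/-!
# Semi-local complete rings (helper27)

`D` a ring complete for an ideal `K` with `D ⧸ K` Artinian (generalising
`Helper15.FiniteComplete`): for every maximal ideal `m`,
* `algebraMap_localization_surjective`: `D → D_m` is surjective;
* `exists_pow_maximalIdeal_le`: a power of the maximal ideal of `D_m` lies in `K D_m`;
* `isAdicComplete_map_localization`, `isAdicComplete_localization` (for `D` Noetherian): `D_m` is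
  complete for `K D_m` and for its maximal ideal.
-/

set_option autoImplicit false

namespace Groth.Agent.Lib.Helper27.SemiLocCpl

open IsLocalRing Groth.Agent.Lib.Helper15

variable {D : Type*} [CommRing D] (K : Ideal D) [IsAdicComplete K D] [IsArtinianRing (D ⧸ K)]

include K

theorem algebraMap_localization_surjective (m : MaximalSpectrum D) :
    Function.Surjective (algebraMap D (Localization.AtPrime m.asIdeal)) := by
  haveI := ComplSemilocal.finite_maximalSpectrum K
  obtain ⟨e, he, hem, hem'⟩ := ComplSemilocal.exists_idem K m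
  intro x
  obtain ⟨⟨s, t⟩, hst⟩ := IsLocalization.surj m.asIdeal.primeCompl x
  have ht : (t : D) ∉ m.asIdeal := t.2
  have hsup : Ideal.span {(t : D)} ⊔ Ideal.span {1 - e} = ⊤ := by
    by_contra hne
    obtain ⟨M, hM, hle⟩ := Ideal.exists_le_maximal _ hne
    have htM : (t : D) ∈ M := hle (Ideal.mem_sup_left (Ideal.mem_span_singleton_self _))
    have heM : 1 - e ∈ M := hle (Ideal.mem_sup_right (Ideal.mem_span_singleton_self _))
    by_cases hMm : (⟨M, hM⟩ : MaximalSpectrum D) = m
    · have h1 : M = m.asIdeal := congrArg MaximalSpectrum.asIdeal hMm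
      exact ht (h1 ▸ htM)
    · have h1 : e ∈ M := hem' ⟨M, hM⟩ hMm
      apply hM.ne_top
      rw [Ideal.eq_top_iff_one]
      have : (1 : D) = (1 - e) + e := by ring
      rw [this]
      exact add_mem heM h1
  have h1mem : (1 : D) ∈ Ideal.span {(t : D)} ⊔ Ideal.span {1 - e} := by
    rw [hsup]; exact Submodule.mem_top
  obtain ⟨a', ha', b', hb', hab⟩ := Submodule.mem_sup.1 h1mem
  obtain ⟨a, rfl⟩ := Ideal.mem_span_singleton'.1 ha'
  obtain ⟨b, rfl⟩ := Ideal.mem_span_singleton'.1 hb'
  have h0 : algebraMap D (Localization.AtPrime m.asIdeal) (1 - e) = 0 :=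
    (IsLocalization.map_eq_zero_iff m.asIdeal.primeCompl _ (1 - e)).2
      ⟨⟨e, hem⟩, by simp [mul_sub, he.eq]⟩
  have h1 : algebraMap D (Localization.AtPrime m.asIdeal) a *
      algebraMap D (Localization.AtPrime m.asIdeal) t = 1 := by
    have h2 := congrArg (algebraMap D (Localization.AtPrime m.asIdeal)) hab
    rw [map_add, map_mul, map_mul, h0, mul_zero, add_zero, map_one] at h2
    exact h2
  refine ⟨a * s, ?_⟩
  rw [map_mul, ← hst]
  linear_combination x * h1

theorem exists_pow_maximalIdeal_le (m : MaximalSpectrum D) :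
    ∃ N : ℕ, maximalIdeal (Localization.AtPrime m.asIdeal) ^ N ≤
      K.map (algebraMap D (Localization.AtPrime m.asIdeal)) := by
  classical
  haveI := ComplSemilocal.finite_maximalSpectrum K
  haveI := Fintype.ofFinite (MaximalSpectrum D)
  obtain ⟨N, 𝔠, hN, h𝔠m, h𝔠, hmul⟩ := ComplSemilocal.exists_pow_mul_le K m
  have h𝔠top : 𝔠.map (algebraMap D (Localization.AtPrime m.asIdeal)) = ⊤ := by
    obtain ⟨c, hc, hcm⟩ := SetLike.not_le_iff_exists.1 h𝔠m
    exact Ideal.eq_top_of_isUnit_mem _ (Ideal.mem_map_of_mem _ hc)
      (IsLocalization.map_units (Localization.AtPrime m.asIdeal)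
        (⟨c, hcm⟩ : m.asIdeal.primeCompl))
  refine ⟨N, ?_⟩
  have h1 := Ideal.map_mono (f := algebraMap D (Localization.AtPrime m.asIdeal)) hmul
  rw [Ideal.map_mul, Ideal.map_pow, Ideal.map_pow, Localization.AtPrime.map_eq_maximalIdeal,
    h𝔠top, Ideal.top_pow, Ideal.mul_top] at h1
  exact h1

theorem isAdicComplete_map_localization [IsNoetherianRing D] (m : MaximalSpectrum D) :
    IsAdicComplete (K.map (algebraMap D (Localization.AtPrime m.asIdeal)))
      (Localization.AtPrime m.asIdeal) := by
  have hsurj := algebraMap_localization_surjective K m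
  rw [IsAdicComplete.map_algebraMap_iff]
  haveI : Module.Finite D (Localization.AtPrime m.asIdeal) :=
    Module.Finite.of_surjective (Algebra.linearMap D (Localization.AtPrime m.asIdeal)) hsurj
  haveI : IsHausdorff K (Localization.AtPrime m.asIdeal) :=
    IsHausdorff.of_le_jacobson K _ (IsAdicComplete.le_jacobson_bot K)
  haveI : IsPrecomplete K (Localization.AtPrime m.asIdeal) :=
    CS.isPrecomplete_of_surjective K (Algebra.linearMap D (Localization.AtPrime m.asIdeal)) hsurj
  exact {}

theorem isAdicComplete_localization [IsNoetherianRing D] (m : MaximalSpectrum D) :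
    IsAdicComplete (maximalIdeal (Localization.AtPrime m.asIdeal))
      (Localization.AtPrime m.asIdeal) := by
  haveI : IsNoetherianRing (Localization.AtPrime m.asIdeal) :=
    IsLocalization.isNoetherianRing m.asIdeal.primeCompl _ inferInstance
  haveI hc1 := isAdicComplete_map_localization K m
  obtain ⟨N, hpow⟩ := exists_pow_maximalIdeal_le K m
  haveI : IsAdicComplete
      ((maximalIdeal (Localization.AtPrime m.asIdeal)).map
        (Ideal.Quotient.mk (K.map (algebraMap D (Localization.AtPrime m.asIdeal)))))
      (Localization.AtPrime m.asIdeal ⧸ (K.map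
          (algebraMap D (Localization.AtPrime m.asIdeal)))) := by
    refine Groth.Agent.Lib.Helper8.isAdicComplete_of_pow_eq_bot _ N ?_
    rw [← Ideal.map_pow, eq_bot_iff]
    exact (Ideal.map_mono hpow).trans_eq (Ideal.map_quotient_self _)
  exact Groth.Agent.S0545.result (Localization.AtPrime m.asIdeal)
    (K.map (algebraMap D (Localization.AtPrime m.asIdeal))) _

end Groth.Agent.Lib.Helper27.SemiLocCpl
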