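import Mathlib
import Groth.Agent.Lib.Helper27.CplTensorA
import Groth.Agent.Lib.Helper27.SemiLocCpl
import Groth.Agent.Lib.Helper7.AdicFlat
import Groth.Agent.Lib.Helper4.FlatRing

/-!
# Completed tensor product `A ⊗̂_k k'` of a complete local ring with a field extension (helper27)

`A` a Noetherian local `k`-algebra with residue field finite over `k`, `k'/k` a field extension,
`C` the `𝔪(A ⊗_k k')`-adic completion of `A ⊗_k k'`.  Then `C` is Noetherian, semi-local, flat over
`A`; its localizations at maximal ideals are complete, faithfully flat over `A`, of the same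
dimension, with residue field finite over `k'`.
-/

set_option autoImplicit false
universe u
open TensorProduct IsLocalRing

namespace Groth.Agent.Lib.Helper27.CplTensorB

open Groth.Agent.Lib.Helper27.CplTensor Groth.Agent.Lib.Helper15

variable (k : Type u) [Field k] (A : Type u) [CommRing A] [IsNoetherianRing A] [IsLocalRing A]
  [Algebra k A] (k' : Type u) [Field k'] [Algebra k k']

/-- the completed tensor product -/
abbrev Cpl : Type u := AdicCompletion (mT k A k') (A ⊗[k] k')

/-- the ideal `𝔪 C`. -/
noncomputable abbrev JC : Ideal (Cpl k A k') := (mT k A k').map (algebraMap (A ⊗[k] k') (Cpl k A k'))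

lemma JC_eq : JC k A k' = (maximalIdeal A).map (algebraMap A (Cpl k A k')) := by
  change ((maximalIdeal A).map (algebraMap A (A ⊗[k] k'))).map
    (algebraMap (A ⊗[k] k') (Cpl k A k')) = _
  rw [Ideal.map_map]
  rfl

instance isAdicComplete_JC : IsAdicComplete (JC k A k') (Cpl k A k') :=
  AdicCompletion.isAdicComplete_self _ (mT_fg k A k')

/-- `T/𝔪T → C/𝔪C`. -/
noncomputable def gMap : (A ⊗[k] k') ⧸ mT k A k' →+* Cpl k A k' ⧸ JC k A k' :=
  Ideal.quotientMap (JC k A k') (algebraMap (A ⊗[k] k') (Cpl k A k')) Ideal.le_comap_map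

lemma gMap_surjective : Function.Surjective (gMap k A k') := by
  intro y
  obtain ⟨c, rfl⟩ := Ideal.Quotient.mk_surjective y
  obtain ⟨t, ht⟩ := exists_sub_mem_map k A k' c
  refine ⟨Ideal.Quotient.mk _ t, ?_⟩
  change Ideal.Quotient.mk _ (algebraMap _ _ t) = _
  rw [eq_comm, Ideal.Quotient.eq]
  exact ht

lemma hI1 : (maximalIdeal A).map (algebraMap A (A ⊗[k] k')) = mT k A k' := rfl

/-- `k' ⊗ κ → C/𝔪C`. -/
noncomputable def Phi : k' ⊗[k] (A ⧸ maximalIdeal A) →+* Cpl k A k' ⧸ JC k A k' :=
  (gMap k A k').comp ((Ideal.quotEquivOfEq (hI1 k A k')).toRingHom.comp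
    ((Algebra.TensorProduct.quotientTensorEquiv (R := k) k k' A
        (maximalIdeal A)).toRingEquiv.toRingHom.comp
      (Algebra.TensorProduct.comm k k' (A ⧸ maximalIdeal A)).toRingEquiv.toRingHom))

lemma Phi_surjective : Function.Surjective (Phi k A k') := by
  intro y
  obtain ⟨x, rfl⟩ := gMap_surjective k A k' y
  obtain ⟨x2, rfl⟩ := (Ideal.quotEquivOfEq (hI1 k A k')).surjective x
  obtain ⟨x3, rfl⟩ := (Algebra.TensorProduct.quotientTensorEquiv (R := k) k k' A
        (maximalIdeal A)).surjective x2
  obtain ⟨x4, rfl⟩ := (Algebra.TensorProduct.comm k k' (A ⧸ maximalIdeal A)).surjective x3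
  exact ⟨x4, rfl⟩

section Fin
variable [Module.Finite k (ResidueField A)]

lemma finite_tensor : Module.Finite k' (k' ⊗[k] (A ⧸ maximalIdeal A)) := by
  haveI : Module.Finite k (A ⧸ maximalIdeal A) := ‹Module.Finite k (ResidueField A)›
  infer_instance

instance isArtinianRing_quot : IsArtinianRing (Cpl k A k' ⧸ JC k A k') := by
  haveI := finite_tensor k A k'
  haveI : IsArtinianRing (k' ⊗[k] (A ⧸ maximalIdeal A)) := IsArtinianRing.of_finite k' _
  exact (Phi_surjective k A k').isArtinianRing

instance isNoetherianRing_cpl : IsNoetherianRing (Cpl k A k') := by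
  have hJfg : (JC k A k').FG := (mT_fg k A k').map _
  haveI : IsNoetherianRing (Cpl k A k' ⧸ JC k A k') := by
    haveI := finite_tensor k A k'
    haveI : IsNoetherianRing (k' ⊗[k] (A ⧸ maximalIdeal A)) := IsNoetherianRing.of_finite k' _
    exact isNoetherianRing_of_surjective _ _ (Phi k A k') (Phi_surjective k A k')
  exact CN.isNoetherianRing_of_fg_of_complete _ hJfg

theorem finite_maximalSpectrum : Finite (MaximalSpectrum (Cpl k A k')) :=
  ComplSemilocal.finite_maximalSpectrum (JC k A k')

theorem isAdicComplete_map : IsAdicComplete ((maximalIdeal A).map (algebraMap A (Cpl k A k')))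
    (Cpl k A k') := by
  rw [← JC_eq]; infer_instance

end Fin

lemma flat_quot (n : ℕ) :
    Module.Flat (A ⧸ maximalIdeal A ^ n)
      (Cpl k A k' ⧸ (maximalIdeal A ^ n).map (algebraMap A (Cpl k A k'))) := by
  rw [← RingHom.flat_algebraMap_iff]
  have hfg := mT_fg k A k'
  have h1 : (maximalIdeal A ^ n).map (algebraMap A (Cpl k A k')) = (JC k A k') ^ n := by
    rw [Ideal.map_pow, JC_eq]
  have hI : (mT k A k') ^ n = (maximalIdeal A ^ n).map (algebraMap A (A ⊗[k] k')) := by
    rw [Ideal.map_pow]; rfl
  let e := Algebra.TensorProduct.quotientTensorEquiv (R := k) k k' A (maximalIdeal A ^ n)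
  let θ : (Cpl k A k' ⧸ (maximalIdeal A ^ n).map (algebraMap A (Cpl k A k'))) →+*
      (A ⧸ maximalIdeal A ^ n) ⊗[k] k' :=
    (e.symm.toRingEquiv.toRingHom).comp ((Ideal.quotEquivOfEq hI).toRingHom.comp
      ((quotEval (mT k A k') n).comp (Ideal.quotEquivOfEq h1).toRingHom))
  have hθ : Function.Bijective θ :=
    e.symm.bijective.comp ((Ideal.quotEquivOfEq hI).bijective.comp
      ((quotEval_bijective (mT k A k') hfg n).comp (Ideal.quotEquivOfEq h1).bijective))
  rw [← RingHom.Flat.comp_iff_of_bijective_left hθ]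
  have h4 : θ.comp (algebraMap (A ⧸ maximalIdeal A ^ n)
      (Cpl k A k' ⧸ (maximalIdeal A ^ n).map (algebraMap A (Cpl k A k')))) =
      algebraMap (A ⧸ maximalIdeal A ^ n) ((A ⧸ maximalIdeal A ^ n) ⊗[k] k') := by
    apply Ideal.Quotient.ringHom_ext
    refine RingHom.ext fun a => ?_
    change e.symm (Ideal.quotEquivOfEq hI (quotEval (mT k A k') n (Ideal.quotEquivOfEq h1
      (Ideal.Quotient.mk _ (algebraMap A (Cpl k A k') a))))) = _
    rw [Ideal.quotEquivOfEq_mk, quotEval_mk]
    have h5 : algebraMap A (Cpl k A k') a =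
        algebraMap (A ⊗[k] k') (Cpl k A k') (a ⊗ₜ[k] (1 : k')) := rfl
    rw [h5, AlgHom.commutes, Ideal.Quotient.algebraMap_eq, Ideal.quotEquivOfEq_mk]
    exact Algebra.TensorProduct.quotientTensorEquiv_symm_apply_tmul k k' A _ a 1
  rw [h4]
  exact RingHom.flat_algebraMap_iff.mpr inferInstance

section Fin2
variable [Module.Finite k (ResidueField A)]

theorem flat_A : Module.Flat A (Cpl k A k') := by
  have hJ : (maximalIdeal A).map (algebraMap A (Cpl k A k')) ≤ Ideal.jacobson ⊥ := by
    rw [← JC_eq]; exact IsAdicComplete.le_jacobson_bot _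
  refine Groth.Agent.Lib.Helper7.flat_of_forall_flat_quotient_pow_of_finite (B := Cpl k A k')
    (maximalIdeal A) hJ (Cpl k A k') ?_
  intro n _
  haveI := flat_quot k A k' n
  exact Module.Flat.of_linearEquiv
    (Groth.Agent.Lib.Helper7.quotTensorEquivQuotMap (maximalIdeal A ^ n))

variable (M : MaximalSpectrum (Cpl k A k'))

lemma JC_le : JC k A k' ≤ M.asIdeal :=
  ComplSemilocal.le_maximal (JC k A k') M.asIdeal M.isMaximal

instance isLocalHom_loc : IsLocalHom (algebraMap A (Localization.AtPrime M.asIdeal)) := by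
  constructor
  intro a ha
  by_contra hna
  have h1 : a ∈ maximalIdeal A := (mem_maximalIdeal a).mpr (mem_nonunits_iff.mpr hna)
  have h2 : algebraMap A (Cpl k A k') a ∈ M.asIdeal :=
    JC_le k A k' M (by rw [JC_eq]; exact Ideal.mem_map_of_mem _ h1)
  have h3 : algebraMap (Cpl k A k') (Localization.AtPrime M.asIdeal)
      (algebraMap A (Cpl k A k') a) ∈ maximalIdeal (Localization.AtPrime M.asIdeal) := by
    rw [← Localization.AtPrime.map_eq_maximalIdeal]; exact Ideal.mem_map_of_mem _ h2
  exact (mem_nonunits_iff.mp ((mem_maximalIdeal _).mp h3))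
    (by rw [← IsScalarTower.algebraMap_apply]; exact ha)

theorem isNoetherianRing_loc : IsNoetherianRing (Localization.AtPrime M.asIdeal) :=
  IsLocalization.isNoetherianRing M.asIdeal.primeCompl _ inferInstance

theorem flat_loc : Module.Flat A (Localization.AtPrime M.asIdeal) := by
  haveI := flat_A k A k'
  haveI : Module.Flat (Cpl k A k') (Localization.AtPrime M.asIdeal) :=
    IsLocalization.flat _ M.asIdeal.primeCompl
  exact Module.Flat.trans A (Cpl k A k') _

theorem faithfullyFlat_loc : Module.FaithfullyFlat A (Localization.AtPrime M.asIdeal) := by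
  haveI := flat_loc k A k' M
  exact Module.FaithfullyFlat.of_flat_of_isLocalHom

theorem isAdicComplete_loc :
    IsAdicComplete (maximalIdeal (Localization.AtPrime M.asIdeal))
      (Localization.AtPrime M.asIdeal) :=
  SemiLocCpl.isAdicComplete_localization (JC k A k') M

theorem ringKrullDim_loc :
    ringKrullDim (Localization.AtPrime M.asIdeal) = ringKrullDim A := by
  haveI := isNoetherianRing_loc k A k' M
  haveI := flat_loc k A k' M
  have hFle : (maximalIdeal A).map (algebraMap A (Localization.AtPrime M.asIdeal)) ≤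
      maximalIdeal (Localization.AtPrime M.asIdeal) :=
    Ideal.map_le_iff_le_comap.mpr (fun x hx => map_nonunit _ x hx)
  haveI : Nontrivial (Localization.AtPrime M.asIdeal ⧸
      (maximalIdeal A).map (algebraMap A (Localization.AtPrime M.asIdeal))) :=
    Ideal.Quotient.nontrivial_iff.mpr
      (ne_top_of_le_ne_top (maximalIdeal.isMaximal _).ne_top hFle)
  haveI : IsLocalRing (Localization.AtPrime M.asIdeal ⧸
      (maximalIdeal A).map (algebraMap A (Localization.AtPrime M.asIdeal))) :=
    IsLocalRing.of_surjective' (Ideal.Quotient.mk _) Ideal.Quotient.mk_surjective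
  have h0 : ringKrullDim (Localization.AtPrime M.asIdeal ⧸
      (maximalIdeal A).map (algebraMap A (Localization.AtPrime M.asIdeal))) = 0 := by
    have hsurj := SemiLocCpl.algebraMap_localization_surjective (JC k A k') M
    have hle : JC k A k' ≤ ((maximalIdeal A).map
        (algebraMap A (Localization.AtPrime M.asIdeal))).comap
        (algebraMap (Cpl k A k') (Localization.AtPrime M.asIdeal)) := by
      rw [← Ideal.map_le_iff_le_comap, JC_eq, Ideal.map_map]
      exact le_of_eq rfl
    have hq : Function.Surjective (Ideal.quotientMap _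
        (algebraMap (Cpl k A k') (Localization.AtPrime M.asIdeal)) hle) :=
      Ideal.quotientMap_surjective hsurj
    haveI : IsArtinianRing (Localization.AtPrime M.asIdeal ⧸
        (maximalIdeal A).map (algebraMap A (Localization.AtPrime M.asIdeal))) :=
      hq.isArtinianRing
    haveI : Ring.KrullDimLE 0 (Localization.AtPrime M.asIdeal ⧸
        (maximalIdeal A).map (algebraMap A (Localization.AtPrime M.asIdeal))) :=
      isArtinianRing_iff_krullDimLE_zero.mp inferInstance
    exact ringKrullDimZero_iff_ringKrullDim_eq_zero.mp inferInstance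
  rw [Groth.Agent.Lib.Helper4.FlatRing.dim_eq_add_fibRing A (Localization.AtPrime M.asIdeal), h0,
    add_zero]

theorem finite_residue :
    (((Ideal.Quotient.mk M.asIdeal).comp (algebraMap (A ⊗[k] k') (Cpl k A k'))).comp
      (Algebra.TensorProduct.includeRight (R := k) (A := A) (B := k')).toRingHom).Finite := by
  haveI := finite_tensor k A k'
  have hπ : Function.Surjective (Ideal.Quotient.factor (JC_le k A k' M)) :=
    Ideal.Quotient.factor_surjective _
  have h1 : (algebraMap k' (k' ⊗[k] (A ⧸ maximalIdeal A))).Finite :=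
    RingHom.finite_algebraMap.mpr inferInstance
  have h2 : (((Ideal.Quotient.factor (JC_le k A k' M)).comp (Phi k A k')).comp
      (algebraMap k' (k' ⊗[k] (A ⧸ maximalIdeal A)))).Finite :=
    RingHom.Finite.comp (RingHom.Finite.of_surjective _ (hπ.comp (Phi_surjective k A k'))) h1
  have heq : ((Ideal.Quotient.mk M.asIdeal).comp (algebraMap (A ⊗[k] k') (Cpl k A k'))).comp
      (Algebra.TensorProduct.includeRight (R := k) (A := A) (B := k')).toRingHom =
      ((Ideal.Quotient.factor (JC_le k A k' M)).comp (Phi k A k')).comp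
      (algebraMap k' (k' ⊗[k] (A ⧸ maximalIdeal A))) := by
    refine RingHom.ext fun c => ?_
    rfl
  rw [heq]
  exact h2

end Fin2

end Groth.Agent.Lib.Helper27.CplTensorB
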