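import Mathlib
import Groth.Agent.Lib.Helper27.CplTensorC

/-!
`Ĉ ⊗_C M → M̂` is injective as soon as `Ĉ ⊗_C M` is separated for the `JĈ`-adic topology
(no Noetherian hypothesis).
-/

set_option autoImplicit false
universe u

open TensorProduct

namespace Groth.Agent.Lib.Helper27.CplTensorInj

open Groth.Agent.Lib.Helper27

variable {C : Type u} [CommRing C] (J : Ideal C)

lemma evalₐ_eq_zero_of_mem (n : ℕ) (e : AdicCompletion J C)
    (he : e ∈ (J ^ n).map (algebraMap C (AdicCompletion J C))) :
    AdicCompletion.evalₐ J n e = 0 := by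
  have h : (J ^ n).map (algebraMap C (AdicCompletion J C)) ≤
      RingHom.ker (AdicCompletion.evalₐ J n).toRingHom := by
    rw [Ideal.map_le_iff_le_comap]
    intro j hj
    rw [Ideal.mem_comap, RingHom.mem_ker]
    show AdicCompletion.evalₐ J n (algebraMap C (AdicCompletion J C) j) = 0
    rw [AlgHom.commutes, Ideal.Quotient.algebraMap_eq, Ideal.Quotient.eq_zero_iff_mem]
    exact hj
  exact h he

theorem ofTensorProduct_injective_of_isHausdorff (hJ : J.FG)
    (M : Type u) [AddCommGroup M] [Module C M]
    [hH : IsHausdorff (J.map (algebraMap C (AdicCompletion J C))) (AdicCompletion J C ⊗[C] M)] :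
    Function.Injective (AdicCompletion.ofTensorProduct J M) := by
  rw [injective_iff_map_eq_zero]
  intro z hz
  apply IsHausdorff.haus hH z
  intro n
  rw [SModEq.zero]
  -- Step A
  have hA : ∀ z : AdicCompletion J C ⊗[C] M, ∃ m : M,
      z - (1 : AdicCompletion J C) ⊗ₜ[C] m ∈
      ((J.map (algebraMap C (AdicCompletion J C))) ^ n • ⊤ :
        Submodule (AdicCompletion J C) (AdicCompletion J C ⊗[C] M)) := by
    intro z
    induction z using TensorProduct.induction_on with
    | zero => exact ⟨0, by simp⟩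
    | tmul b m' =>
      obtain ⟨s, hs⟩ := CplTensorC.exists_sub_mem_pow J hJ n b
      refine ⟨s • m', ?_⟩
      have e : b ⊗ₜ[C] m' - (1 : AdicCompletion J C) ⊗ₜ[C] (s • m') =
          (b - algebraMap C _ s) • ((1 : AdicCompletion J C) ⊗ₜ[C] m') := by
        rw [TensorProduct.smul_tmul', smul_eq_mul, mul_one, TensorProduct.sub_tmul,
          ← TensorProduct.smul_tmul, Algebra.algebraMap_eq_smul_one]
      rw [e, ← Ideal.map_pow]
      exact Submodule.smul_mem_smul hs Submodule.mem_top
    | add x y hx hy =>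
      obtain ⟨m1, h1⟩ := hx
      obtain ⟨m2, h2⟩ := hy
      refine ⟨m1 + m2, ?_⟩
      have e : x + y - (1 : AdicCompletion J C) ⊗ₜ[C] (m1 + m2) =
          (x - (1 : AdicCompletion J C) ⊗ₜ[C] m1) + (y - (1 : AdicCompletion J C) ⊗ₜ[C] m2) := by
        rw [TensorProduct.tmul_add]; abel
      rw [e]
      exact Submodule.add_mem _ h1 h2
  -- Step B
  have hsm : ∀ (e : AdicCompletion J C) (x : AdicCompletion J M),
      AdicCompletion.eval J M n (e • x) =
        AdicCompletion.evalₐ J n e • AdicCompletion.eval J M n x := by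
    intro e x
    rw [AdicCompletion.eval_apply, AdicCompletion.smul_eval,
      AdicCompletion.val_smul_eq_evalₐ_smul]
    rfl
  have hB : ∀ w ∈ ((J.map (algebraMap C (AdicCompletion J C))) ^ n • ⊤ :
        Submodule (AdicCompletion J C) (AdicCompletion J C ⊗[C] M)),
      AdicCompletion.eval J M n (AdicCompletion.ofTensorProduct J M w) = 0 := by
    intro w hw
    refine Submodule.smul_induction_on hw ?_ ?_
    · intro e he w' _
      rw [map_smul, hsm]
      rw [← Ideal.map_pow] at he
      rw [evalₐ_eq_zero_of_mem J n e he, zero_smul]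
    · intro x y hx hy
      rw [map_add, map_add, hx, hy, add_zero]
  obtain ⟨m, hm⟩ := hA z
  have h1 := hB _ hm
  rw [map_sub, hz, zero_sub, map_neg, neg_eq_zero,
    AdicCompletion.ofTensorProduct_tmul, one_smul, AdicCompletion.eval_of,
    Submodule.mkQ_apply, Submodule.Quotient.mk_eq_zero] at h1
  have h2 : m ∈ (J ^ n • ⊤ : Submodule C M) := h1
  have h3 : (1 : AdicCompletion J C) ⊗ₜ[C] m ∈
      ((J.map (algebraMap C (AdicCompletion J C))) ^ n • ⊤ :
        Submodule (AdicCompletion J C) (AdicCompletion J C ⊗[C] M)) := by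
    refine Submodule.smul_induction_on h2 ?_ ?_
    · intro j hj m'' _
      have e : (1 : AdicCompletion J C) ⊗ₜ[C] (j • m'') =
          (algebraMap C (AdicCompletion J C) j) • ((1 : AdicCompletion J C) ⊗ₜ[C] m'') := by
        rw [TensorProduct.smul_tmul', smul_eq_mul, mul_one, ← TensorProduct.smul_tmul,
          Algebra.algebraMap_eq_smul_one]
      rw [e, ← Ideal.map_pow]
      exact Submodule.smul_mem_smul (Ideal.mem_map_of_mem _ hj) Submodule.mem_top
    · intro x y hx hy
      rw [TensorProduct.tmul_add]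
      exact Submodule.add_mem _ hx hy
  have e : z = (z - (1 : AdicCompletion J C) ⊗ₜ[C] m) + (1 : AdicCompletion J C) ⊗ₜ[C] m := by
    abel
  rw [e]
  exact Submodule.add_mem _ hm h3

end Groth.Agent.Lib.Helper27.CplTensorInj
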