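import Mathlib

/-!
# Cubic forms: linear substitutions and the symmetric trilinear form of a homogeneous cubic
-/

namespace Groth.Agent.Lib.Helper27.Cubic

open MvPolynomial

variable {n : ℕ}

/-- Evaluating a linear substitution. -/
theorem eval_subst (A : Matrix (Fin n) (Fin n) ℂ) (f : MvPolynomial (Fin n) ℂ) (v : Fin n → ℂ) :
    eval v (aeval (fun i : Fin n => ∑ j : Fin n, C (A i j) * X j) f) = eval (A.mulVec v) f := by
  rw [map_aeval]
  have h1 : (eval v).comp (algebraMap ℂ (MvPolynomial (Fin n) ℂ)) = RingHom.id ℂ := by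
    ext x; simp
  rw [h1]
  have h2 : (fun i : Fin n => eval v (∑ j : Fin n, C (A i j) * X j)) = A.mulVec v := by
    funext i
    simp [Matrix.mulVec, dotProduct]
  rw [h2]
  rfl

/-- A linear substitution equals `g` iff the polynomial functions agree. -/
theorem subst_eq_iff (A : Matrix (Fin n) (Fin n) ℂ) (f g : MvPolynomial (Fin n) ℂ) :
    aeval (fun i : Fin n => ∑ j : Fin n, C (A i j) * X j) f = g ↔
      ∀ v : Fin n → ℂ, eval (A.mulVec v) f = eval v g := by
  constructor
  · intro h v
    rw [← h, eval_subst]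
  · intro h
    apply MvPolynomial.funext
    intro v
    rw [eval_subst, h]

theorem pderiv_comm (f : MvPolynomial (Fin n) ℂ) (i j : Fin n) :
    pderiv i (pderiv j f) = pderiv j (pderiv i f) := by
  induction f using MvPolynomial.induction_on with
  | C a => simp
  | add p q hp hq => simp [hp, hq]
  | mul_X p k h =>
    simp only [pderiv_mul, map_add, h, pderiv_X]
    by_cases hik : i = k <;> by_cases hjk : j = k <;> simp [Pi.single_apply, hik, hjk] <;> ring

/-- the coefficient tensor of a cubic -/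
noncomputable def ten (f : MvPolynomial (Fin n) ℂ) (i j k : Fin n) : ℂ :=
  coeff 0 (pderiv i (pderiv j (pderiv k f))) / 6

theorem ten_comm12 (f : MvPolynomial (Fin n) ℂ) (i j k : Fin n) : ten f i j k = ten f j i k := by
  unfold ten; rw [pderiv_comm]

theorem ten_comm23 (f : MvPolynomial (Fin n) ℂ) (i j k : Fin n) : ten f i j k = ten f i k j := by
  unfold ten; rw [pderiv_comm f j k]

/-- the symmetric trilinear form of a cubic -/
noncomputable def T (f : MvPolynomial (Fin n) ℂ) (u v w : Fin n → ℂ) : ℂ :=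
  ∑ i, ∑ j, ∑ k, ten f i j k * u i * v j * w k

variable (f : MvPolynomial (Fin n) ℂ)

theorem T_comm12 (u v w : Fin n → ℂ) : T f u v w = T f v u w := by
  unfold T
  rw [Finset.sum_comm]
  refine Finset.sum_congr rfl fun i _ => Finset.sum_congr rfl fun j _ =>
    Finset.sum_congr rfl fun k _ => ?_
  rw [ten_comm12]; ring

theorem T_comm23 (u v w : Fin n → ℂ) : T f u v w = T f u w v := by
  unfold T
  refine Finset.sum_congr rfl fun i _ => ?_
  rw [Finset.sum_comm]
  refine Finset.sum_congr rfl fun j _ => Finset.sum_congr rfl fun k _ => ?_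
  rw [ten_comm23]; ring

theorem T_comm13 (u v w : Fin n → ℂ) : T f u v w = T f w v u := by
  rw [T_comm12, T_comm23, T_comm12]

theorem T_add_left (u u' v w : Fin n → ℂ) : T f (u + u') v w = T f u v w + T f u' v w := by
  unfold T
  simp only [Pi.add_apply, mul_add, add_mul, Finset.sum_add_distrib]

theorem T_smul_left (c : ℂ) (u v w : Fin n → ℂ) : T f (c • u) v w = c * T f u v w := by
  unfold T
  simp only [Pi.smul_apply, smul_eq_mul, Finset.mul_sum]
  refine Finset.sum_congr rfl fun i _ => Finset.sum_congr rfl fun j _ =>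
    Finset.sum_congr rfl fun k _ => ?_
  ring

theorem T_add_mid (u v v' w : Fin n → ℂ) : T f u (v + v') w = T f u v w + T f u v' w := by
  rw [T_comm12, T_add_left, T_comm12 f v, T_comm12 f v']

theorem T_smul_mid (c : ℂ) (u v w : Fin n → ℂ) : T f u (c • v) w = c * T f u v w := by
  rw [T_comm12, T_smul_left, T_comm12 f v]

theorem T_add_right (u v w w' : Fin n → ℂ) : T f u v (w + w') = T f u v w + T f u v w' := by
  rw [T_comm13, T_add_left, T_comm13 f w, T_comm13 f w']

theorem T_smul_right (c : ℂ) (u v w : Fin n → ℂ) : T f u v (c • w) = c * T f u v w := by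
  rw [T_comm13, T_smul_left, T_comm13 f w]

theorem T_neg_left (u v w : Fin n → ℂ) : T f (-u) v w = - T f u v w := by
  have := T_smul_left f (-1) u v w
  simpa using this

theorem T_neg_mid (u v w : Fin n → ℂ) : T f u (-v) w = - T f u v w := by
  have := T_smul_mid f (-1) u v w
  simpa using this

theorem T_neg_right (u v w : Fin n → ℂ) : T f u v (-w) = - T f u v w := by
  have := T_smul_right f (-1) u v w
  simpa using this

theorem T_sub_left (u u' v w : Fin n → ℂ) : T f (u - u') v w = T f u v w - T f u' v w := by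
  rw [sub_eq_add_neg, T_add_left, T_neg_left]; ring

theorem T_sub_mid (u v v' w : Fin n → ℂ) : T f u (v - v') w = T f u v w - T f u v' w := by
  rw [sub_eq_add_neg, T_add_mid, T_neg_mid]; ring

theorem T_sub_right (u v w w' : Fin n → ℂ) : T f u v (w - w') = T f u v w - T f u v w' := by
  rw [sub_eq_add_neg, T_add_right, T_neg_right]; ring

theorem T_zero_left (v w : Fin n → ℂ) : T f 0 v w = 0 := by
  have := T_smul_left f 0 0 v w
  simpa using this

theorem T_zero_mid (u w : Fin n → ℂ) : T f u 0 w = 0 := by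
  rw [T_comm12, T_zero_left]

theorem T_zero_right (u v : Fin n → ℂ) : T f u v 0 = 0 := by
  rw [T_comm13, T_zero_left]

variable {f}

/-- a homogeneous polynomial of degree 0 is constant -/
theorem eq_C_of_isHomogeneous_zero {g : MvPolynomial (Fin n) ℂ} (hg : g.IsHomogeneous 0) :
    g = C (coeff 0 g) := by
  rw [← totalDegree_zero_iff_isHomogeneous, totalDegree_eq_zero_iff_eq_C] at hg
  exact hg

/-- Euler's identity, evaluated. -/
theorem euler_eval {g : MvPolynomial (Fin n) ℂ} {d : ℕ} (hg : g.IsHomogeneous d) (v : Fin n → ℂ) :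
    ∑ i, v i * eval v (pderiv i g) = d * eval v g := by
  have := congrArg (eval v) hg.sum_X_mul_pderiv
  simpa using this

theorem eval_pderiv2 (hf : f.IsHomogeneous 3) (v : Fin n → ℂ) (j k : Fin n) :
    eval v (pderiv j (pderiv k f)) = ∑ i, v i * (6 * ten f i j k) := by
  have h1 : (pderiv j (pderiv k f)).IsHomogeneous 1 := hf.pderiv.pderiv
  have h := euler_eval h1 v
  rw [Nat.cast_one, one_mul] at h
  rw [← h]
  refine Finset.sum_congr rfl fun i _ => ?_
  have h0 : (pderiv i (pderiv j (pderiv k f))).IsHomogeneous 0 := h1.pderiv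
  rw [eq_C_of_isHomogeneous_zero h0, eval_C]
  unfold ten
  ring

theorem eval_pderiv1 (hf : f.IsHomogeneous 3) (v : Fin n → ℂ) (k : Fin n) :
    eval v (pderiv k f) = 3 * ∑ i, ∑ j, ten f i j k * v i * v j := by
  have h2 : (pderiv k f).IsHomogeneous 2 := hf.pderiv
  have h := euler_eval h2 v
  have h' : eval v (pderiv k f) = (1/2) * ∑ j, v j * eval v (pderiv j (pderiv k f)) := by
    rw [h]; push_cast; ring
  rw [h']
  simp_rw [eval_pderiv2 hf]
  rw [Finset.sum_comm, Finset.mul_sum, Finset.mul_sum]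
  refine Finset.sum_congr rfl fun i _ => ?_
  rw [Finset.mul_sum, Finset.mul_sum, Finset.mul_sum]
  refine Finset.sum_congr rfl fun j _ => ?_
  ring

/-- `3 T(w,v,v)` is the derivative of `f` at `v` in the direction `w`. -/
theorem sum_mul_eval_pderiv (hf : f.IsHomogeneous 3) (v w : Fin n → ℂ) :
    ∑ k, w k * eval v (pderiv k f) = 3 * T f v v w := by
  simp_rw [eval_pderiv1 hf]
  unfold T
  calc ∑ k, w k * (3 * ∑ i, ∑ j, ten f i j k * v i * v j)
      = 3 * ∑ k, ∑ i, ∑ j, ten f i j k * v i * v j * w k := by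
        rw [Finset.mul_sum]
        refine Finset.sum_congr rfl fun k _ => ?_
        rw [Finset.mul_sum, Finset.mul_sum, Finset.mul_sum]
        refine Finset.sum_congr rfl fun i _ => ?_
        rw [Finset.mul_sum, Finset.mul_sum, Finset.mul_sum]
        refine Finset.sum_congr rfl fun j _ => ?_
        ring
    _ = 3 * ∑ i, ∑ j, ∑ k, ten f i j k * v i * v j * w k := by
        have h : ∑ k, ∑ i, ∑ j, ten f i j k * v i * v j * w k =
            ∑ i, ∑ j, ∑ k, ten f i j k * v i * v j * w k := by
          rw [Finset.sum_comm]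
          exact Finset.sum_congr rfl fun i _ => Finset.sum_comm
        rw [h]

theorem eval_eq_T (hf : f.IsHomogeneous 3) (v : Fin n → ℂ) : eval v f = T f v v v := by
  have h := euler_eval hf v
  have h3 := sum_mul_eval_pderiv hf v v
  rw [h3] at h
  push_cast at h
  linear_combination (-1/3 : ℂ) * h

theorem eval_pderiv_eq_T (hf : f.IsHomogeneous 3) (v : Fin n → ℂ) (k : Fin n) :
    eval v (pderiv k f) = 3 * T f v v (Pi.single k 1) := by
  rw [← sum_mul_eval_pderiv hf]
  simp [Pi.single_apply]

/-- Taylor expansion of the cubic along a line. -/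
theorem T_cube_add_smul (f : MvPolynomial (Fin n) ℂ) (v w : Fin n → ℂ) (t : ℂ) :
    T f (v + t • w) (v + t • w) (v + t • w) =
      T f v v v + 3 * t * T f v v w + 3 * t ^ 2 * T f v w w + t ^ 3 * T f w w w := by
  simp only [T_add_left, T_add_mid, T_add_right, T_smul_left, T_smul_mid, T_smul_right]
  simp only [T_comm12 f, T_comm23 f]
  ring

theorem eval_add_smul (hf : f.IsHomogeneous 3) (v w : Fin n → ℂ) (t : ℂ) :
    eval (v + t • w) f =
      eval v f + 3 * t * T f v v w + 3 * t ^ 2 * T f v w w + t ^ 3 * eval w f := by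
  rw [eval_eq_T hf, eval_eq_T hf, eval_eq_T hf, T_cube_add_smul]

/-- coefficient extraction for cubic polynomial functions in one variable -/
theorem cubic_coeffs_eq {a0 a1 a2 a3 b0 b1 b2 b3 : ℂ}
    (h : ∀ t : ℂ, a0 + a1 * t + a2 * t ^ 2 + a3 * t ^ 3 = b0 + b1 * t + b2 * t ^ 2 + b3 * t ^ 3) :
    a0 = b0 ∧ a1 = b1 ∧ a2 = b2 ∧ a3 = b3 := by
  have h0 := h 0
  have h1 := h 1
  have hm1 := h (-1)
  have h2 := h 2
  norm_num at h0 h1 hm1 h2
  refine ⟨h0, ?_, ?_, ?_⟩
  · linear_combination h1 - (1/3 : ℂ) * hm1 - (1/6 : ℂ) * h2 - (1/2 : ℂ) * h0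
  · linear_combination (1/2 : ℂ) * h1 + (1/2 : ℂ) * hm1 - h0
  · linear_combination (1/6 : ℂ) * h2 - (1/2 : ℂ) * h1 - (1/6 : ℂ) * hm1 + (1/2 : ℂ) * h0

end Groth.Agent.Lib.Helper27.Cubic
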