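import Mathlib
import Groth.Prelude.Def_W4c5monodromycubicsHesse
import Groth.Agent.Lib.Helper27.CubicBasic

/-!
# Plane cubics: linear algebra tools in dimension three, the Hesse cubic
-/

namespace Groth.Agent.Lib.Helper27.Cubic

open MvPolynomial

/-- components of the cross product of two independent vectors do not all vanish -/
theorem cross_ne_zero_of_linearIndependent {v w : Fin 3 → ℂ} (h : LinearIndependent ℂ ![v, w]) :
    v 1 * w 2 - v 2 * w 1 ≠ 0 ∨ v 2 * w 0 - v 0 * w 2 ≠ 0 ∨ v 0 * w 1 - v 1 * w 0 ≠ 0 := by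
  have h' := crossProduct_ne_zero_iff_linearIndependent.mpr h
  by_contra hcon
  push Not at hcon
  apply h'
  funext i
  fin_cases i
  · simpa [crossProduct] using hcon.1
  · simpa [crossProduct] using hcon.2.1
  · simpa [crossProduct] using hcon.2.2

/-- A symmetric `3 × 3` matrix with a two-dimensional totally isotropic subspace is singular. -/
theorem det_eq_zero_of_isotropic (m11 m12 m13 m22 m23 m33 : ℂ) (v w : Fin 3 → ℂ)
    (hlin : LinearIndependent ℂ ![v, w])
    (h11 : m11 * v 0 * v 0 + m12 * (v 0 * v 1 + v 1 * v 0) + m13 * (v 0 * v 2 + v 2 * v 0) +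
      m22 * v 1 * v 1 + m23 * (v 1 * v 2 + v 2 * v 1) + m33 * v 2 * v 2 = 0)
    (h12 : m11 * v 0 * w 0 + m12 * (v 0 * w 1 + v 1 * w 0) + m13 * (v 0 * w 2 + v 2 * w 0) +
      m22 * v 1 * w 1 + m23 * (v 1 * w 2 + v 2 * w 1) + m33 * v 2 * w 2 = 0)
    (h22 : m11 * w 0 * w 0 + m12 * (w 0 * w 1 + w 1 * w 0) + m13 * (w 0 * w 2 + w 2 * w 0) +
      m22 * w 1 * w 1 + m23 * (w 1 * w 2 + w 2 * w 1) + m33 * w 2 * w 2 = 0) :
    m11 * (m22 * m33 - m23 ^ 2) - m12 * (m12 * m33 - m23 * m13) + m13 * (m12 * m23 - m22 * m13) = 0 := by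
  set x := v 0
  set y := v 1
  set z := v 2
  set p := w 0
  set q := w 1
  set r := w 2
  rcases cross_ne_zero_of_linearIndependent hlin with hn | hn | hn
  · have key : (y * r - z * q) ^ 2 * (m11 * (m22 * m33 - m23 ^ 2) - m12 * (m12 * m33 - m23 * m13) + m13 * (m12 * m23 - m22 * m13)) = 0 := by
      linear_combination ((m11 * p * p + m12 * (p * q + q * p) + m13 * (p * r + r * p) + m22 * q * q + m23 * (q * r + r * q) + m33 * r * r) * m11 - (m11 * p + m12 * q + m13 * r) ^ 2) * h11 +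
        (2 * (m11 * p + m12 * q + m13 * r) * (m11 * x + m12 * y + m13 * z) - (m11 * x * p + m12 * (x * q + y * p) + m13 * (x * r + z * p) + m22 * y * q + m23 * (y * r + z * q) + m33 * z * r) * m11) * h12 - (m11 * x + m12 * y + m13 * z) ^ 2 * h22
    rcases mul_eq_zero.mp key with h | h
    · exact absurd (pow_eq_zero_iff two_ne_zero |>.mp h) hn
    · exact h
  · have key : (z * p - x * r) ^ 2 * (m11 * (m22 * m33 - m23 ^ 2) - m12 * (m12 * m33 - m23 * m13) + m13 * (m12 * m23 - m22 * m13)) = 0 := by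
      linear_combination ((m11 * p * p + m12 * (p * q + q * p) + m13 * (p * r + r * p) + m22 * q * q + m23 * (q * r + r * q) + m33 * r * r) * m22 - (m12 * p + m22 * q + m23 * r) ^ 2) * h11 +
        (2 * (m12 * p + m22 * q + m23 * r) * (m12 * x + m22 * y + m23 * z) - (m11 * x * p + m12 * (x * q + y * p) + m13 * (x * r + z * p) + m22 * y * q + m23 * (y * r + z * q) + m33 * z * r) * m22) * h12 - (m12 * x + m22 * y + m23 * z) ^ 2 * h22
    rcases mul_eq_zero.mp key with h | h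
    · exact absurd (pow_eq_zero_iff two_ne_zero |>.mp h) hn
    · exact h
  · have key : (x * q - y * p) ^ 2 * (m11 * (m22 * m33 - m23 ^ 2) - m12 * (m12 * m33 - m23 * m13) + m13 * (m12 * m23 - m22 * m13)) = 0 := by
      linear_combination ((m11 * p * p + m12 * (p * q + q * p) + m13 * (p * r + r * p) + m22 * q * q + m23 * (q * r + r * q) + m33 * r * r) * m33 - (m13 * p + m23 * q + m33 * r) ^ 2) * h11 +
        (2 * (m13 * p + m23 * q + m33 * r) * (m13 * x + m23 * y + m33 * z) - (m11 * x * p + m12 * (x * q + y * p) + m13 * (x * r + z * p) + m22 * y * q + m23 * (y * r + z * q) + m33 * z * r) * m33) * h12 - (m13 * x + m23 * y + m33 * z) ^ 2 * h22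
    rcases mul_eq_zero.mp key with h | h
    · exact absurd (pow_eq_zero_iff two_ne_zero |>.mp h) hn
    · exact h


/-- explicit evaluation of the Hesse cubic -/
theorem hesse_eval (k : ℂ) (v : Fin 3 → ℂ) :
    eval v (HesseCubic.form k) = v 0 ^ 3 + v 1 ^ 3 + v 2 ^ 3 - 3 * k * (v 0 * v 1 * v 2) := by
  simp [HesseCubic.form]

/-- If `v` is a flex of the Hesse cubic then a coordinate of `v` vanishes. -/
theorem hesse_flex_coord_zero (k : ℂ) (hk : k ^ 3 ≠ 1) (v w : Fin 3 → ℂ)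
    (hCv : eval v (HesseCubic.form k) = 0) (hlin : LinearIndependent ℂ ![v, w])
    (hw : ∀ t : ℂ, eval (v + t • w) (HesseCubic.form k) = t ^ 3 * eval w (HesseCubic.form k)) :
    v 0 * v 1 * v 2 = 0 := by
  rw [hesse_eval] at hCv
  have hco := cubic_coeffs_eq
    (a0 := v 0 ^ 3 + v 1 ^ 3 + v 2 ^ 3 - 3 * k * (v 0 * v 1 * v 2))
    (a1 := 3 * ((v 0 ^ 2 - k * v 1 * v 2) * w 0 + (v 1 ^ 2 - k * v 0 * v 2) * w 1 +
      (v 2 ^ 2 - k * v 0 * v 1) * w 2))
    (a2 := 3 * ((w 0 ^ 2 - k * w 1 * w 2) * v 0 + (w 1 ^ 2 - k * w 0 * w 2) * v 1 +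
      (w 2 ^ 2 - k * w 0 * w 1) * v 2))
    (a3 := w 0 ^ 3 + w 1 ^ 3 + w 2 ^ 3 - 3 * k * (w 0 * w 1 * w 2))
    (b0 := 0) (b1 := 0) (b2 := 0)
    (b3 := w 0 ^ 3 + w 1 ^ 3 + w 2 ^ 3 - 3 * k * (w 0 * w 1 * w 2)) (by
      intro t
      have := hw t
      simp only [hesse_eval, Pi.add_apply, Pi.smul_apply, smul_eq_mul] at this
      linear_combination this)
  obtain ⟨-, h1, h2, -⟩ := hco
  have hdet := det_eq_zero_of_isotropic (v 0) (-k * v 2 / 2) (-k * v 1 / 2) (v 1) (-k * v 0 / 2) (v 2)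
    v w hlin (by linear_combination hCv) (by linear_combination (1/3 : ℂ) * h1)
    (by linear_combination (1/3 : ℂ) * h2)
  have h3 : (1 - k ^ 3) * (v 0 * v 1 * v 2) = 0 := by
    linear_combination hdet + (k ^ 2 / 4) * hCv
  rcases mul_eq_zero.mp h3 with h | h
  · exact absurd (by linear_combination -h : k ^ 3 = 1) hk
  · exact h

end Groth.Agent.Lib.Helper27.Cubic
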