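import Mathlib
import Groth.Prelude.Def_W4c5monodromycubicsHesse
import Groth.Agent.Lib.Helper27.CubicBasic
import Groth.Agent.Lib.Helper27.CubicPlane

/-!
# Transfer of flexes along linear substitutions; the Hesse group
-/

namespace Groth.Agent.Lib.Helper27.Cubic

open MvPolynomial

/-- the function-level notion of a flex direction -/
def IsFlexPt {n : ℕ} (f : MvPolynomial (Fin n) ℂ) (v : Fin n → ℂ) : Prop :=
  ∃ w : Fin n → ℂ, LinearIndependent ℂ ![v, w] ∧ ∀ t : ℂ, eval (v + t • w) f = t ^ 3 * eval w f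

theorem mulVec_inv_cancel {n : ℕ} (A : Matrix (Fin n) (Fin n) ℂ) (hA : IsUnit A.det) (v : Fin n → ℂ) :
    A.mulVec (A⁻¹.mulVec v) = v := by
  rw [Matrix.mulVec_mulVec, Matrix.mul_nonsing_inv _ hA, Matrix.one_mulVec]

theorem inv_mulVec_cancel {n : ℕ} (A : Matrix (Fin n) (Fin n) ℂ) (hA : IsUnit A.det) (v : Fin n → ℂ) :
    A⁻¹.mulVec (A.mulVec v) = v := by
  rw [Matrix.mulVec_mulVec, Matrix.nonsing_inv_mul _ hA, Matrix.one_mulVec]

/-- flexes transfer along an invertible linear substitution -/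
theorem flex_transfer {n : ℕ} (f g : MvPolynomial (Fin n) ℂ) (A : Matrix (Fin n) (Fin n) ℂ)
    (hA : IsUnit A.det) (c : ℂ) (hc : c ≠ 0)
    (hfg : ∀ X : Fin n → ℂ, eval (A.mulVec X) f = c * eval X g)
    (v : Fin n → ℂ) (hv : v ≠ 0) (hfv : eval v f = 0) (hflex : IsFlexPt f v) :
    A⁻¹.mulVec v ≠ 0 ∧ eval (A⁻¹.mulVec v) g = 0 ∧ IsFlexPt g (A⁻¹.mulVec v) := by
  have hAp := mulVec_inv_cancel A hA v
  refine ⟨?_, ?_, ?_⟩
  · intro h
    rw [h, Matrix.mulVec_zero] at hAp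
    exact hv hAp.symm
  · have := hfg (A⁻¹.mulVec v)
    rw [hAp, hfv] at this
    exact (mul_eq_zero.mp this.symm).resolve_left hc
  · obtain ⟨w, hlin, hw⟩ := hflex
    have hAw := mulVec_inv_cancel A hA w
    refine ⟨A⁻¹.mulVec w, ?_, ?_⟩
    · rw [LinearIndependent.pair_iff] at hlin ⊢
      intro s t hst
      apply hlin s t
      have := congrArg A.mulVec hst
      rw [Matrix.mulVec_add, Matrix.mulVec_smul, Matrix.mulVec_smul, hAp, hAw, Matrix.mulVec_zero] at this
      exact this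
    · intro t
      have h1 := hfg (A⁻¹.mulVec v + t • A⁻¹.mulVec w)
      rw [Matrix.mulVec_add, Matrix.mulVec_smul, hAp, hAw, hw t] at h1
      have h2 := hfg (A⁻¹.mulVec w)
      rw [hAw] at h2
      rw [h2] at h1
      have : c * (t ^ 3 * eval (A⁻¹.mulVec w) g) = c * eval (A⁻¹.mulVec v + t • A⁻¹.mulVec w) g := by
        linear_combination h1
      exact (mul_left_cancel₀ hc this).symm

/-- the Hesse group acts transitively on the nine flexes: every flex is the image of `(0,1,-1)` -/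
theorem hesse_move (k γ c : ℂ) (hγ : γ ^ 3 = 1) (hc : c ≠ 0) (p : Fin 3 → ℂ)
    (hp : p = c • ![0, 1, -γ] ∨ p = c • ![-γ, 0, 1] ∨ p = c • ![1, -γ, 0]) :
    ∃ B : Matrix (Fin 3) (Fin 3) ℂ, IsUnit B.det ∧
      (∀ X : Fin 3 → ℂ, eval (B.mulVec X) (HesseCubic.form k) = eval X (HesseCubic.form k)) ∧
      ∃ d : ℂ, d ≠ 0 ∧ B.mulVec ![0, 1, -1] = d • p := by
  have hγ0 : γ ≠ 0 := by
    rintro rfl
    norm_num at hγ
  rcases hp with hp | hp | hp
  · refine ⟨!![1, 0, 0; 0, γ, 0; 0, 0, γ ^ 2], ?_, ?_, γ / c, div_ne_zero hγ0 hc, ?_⟩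
    · rw [Matrix.det_fin_three]
      simp
      exact hγ0
    · intro X
      simp only [hesse_eval]
      simp [Matrix.mulVec, dotProduct, Fin.sum_univ_three]
      linear_combination (X 1 ^ 3 + X 2 ^ 3 * (γ ^ 3 + 1) - 3 * k * X 0 * X 1 * X 2) * hγ
    · rw [hp]
      funext i
      fin_cases i <;> simp [Matrix.mulVec, dotProduct, Fin.sum_univ_three] <;> field_simp
  · refine ⟨!![0, 0, γ ^ 2; 1, 0, 0; 0, γ, 0], ?_, ?_, γ / c, div_ne_zero hγ0 hc, ?_⟩
    · rw [Matrix.det_fin_three]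
      simp
      exact hγ0
    · intro X
      simp only [hesse_eval]
      simp [Matrix.mulVec, dotProduct, Fin.sum_univ_three]
      linear_combination (X 1 ^ 3 + X 2 ^ 3 * (γ ^ 3 + 1) - 3 * k * X 0 * X 1 * X 2) * hγ
    · rw [hp]
      funext i
      fin_cases i <;> simp [Matrix.mulVec, dotProduct, Fin.sum_univ_three] <;> field_simp
  · refine ⟨!![0, γ, 0; 0, 0, γ ^ 2; 1, 0, 0], ?_, ?_, γ / c, div_ne_zero hγ0 hc, ?_⟩
    · rw [Matrix.det_fin_three]
      simp
      exact hγ0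
    · intro X
      simp only [hesse_eval]
      simp [Matrix.mulVec, dotProduct, Fin.sum_univ_three]
      linear_combination (X 1 ^ 3 + X 2 ^ 3 * (γ ^ 3 + 1) - 3 * k * X 0 * X 1 * X 2) * hγ
    · rw [hp]
      funext i
      fin_cases i <;> simp [Matrix.mulVec, dotProduct, Fin.sum_univ_three] <;> field_simp


/-- flexes transfer forward along an invertible linear substitution -/
theorem flex_transfer' {n : ℕ} (f g : MvPolynomial (Fin n) ℂ) (A : Matrix (Fin n) (Fin n) ℂ)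
    (hA : IsUnit A.det) (c : ℂ)
    (hfg : ∀ X : Fin n → ℂ, eval (A.mulVec X) f = c * eval X g)
    (p : Fin n → ℂ) (hp : p ≠ 0) (hgp : eval p g = 0) (hflex : IsFlexPt g p) :
    A.mulVec p ≠ 0 ∧ eval (A.mulVec p) f = 0 ∧ IsFlexPt f (A.mulVec p) := by
  refine ⟨?_, ?_, ?_⟩
  · intro h
    apply hp
    have := inv_mulVec_cancel A hA p
    rw [h, Matrix.mulVec_zero] at this
    exact this.symm
  · rw [hfg, hgp, mul_zero]
  · obtain ⟨w, hlin, hw⟩ := hflex
    refine ⟨A.mulVec w, ?_, ?_⟩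
    · rw [LinearIndependent.pair_iff] at hlin ⊢
      intro s t hst
      apply hlin s t
      have := congrArg A⁻¹.mulVec hst
      rw [Matrix.mulVec_add, Matrix.mulVec_smul, Matrix.mulVec_smul, inv_mulVec_cancel A hA,
        inv_mulVec_cancel A hA, Matrix.mulVec_zero] at this
      exact this
    · intro t
      rw [← Matrix.mulVec_smul, ← Matrix.mulVec_add, hfg, hfg, hw t]
      ring

/-- a matrix fixing (projectively) the flexes `(0,1,-γ)` and `(-γ,0,1)` for `γ = 1, ω` is scalar -/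
theorem scalar_of_fix_flexes (E : Matrix (Fin 3) (Fin 3) ℂ) (ω : ℂ) (hω : ω ≠ 1) (hω0 : ω ≠ 0)
    (h1 : ∀ γ : ℂ, γ = 1 ∨ γ = ω → ∃ d : ℂ, E.mulVec ![0, 1, -γ] = d • ![0, 1, -γ])
    (h2 : ∀ γ : ℂ, γ = 1 ∨ γ = ω → ∃ d : ℂ, E.mulVec ![-γ, 0, 1] = d • ![-γ, 0, 1]) :
    E = E 0 0 • (1 : Matrix (Fin 3) (Fin 3) ℂ) := by
  have hω' : 1 - ω ≠ 0 := fun h => hω (by linear_combination -h)
  obtain ⟨d1, hd1⟩ := h1 1 (Or.inl rfl)
  obtain ⟨d2, hd2⟩ := h1 ω (Or.inr rfl)
  obtain ⟨d3, hd3⟩ := h2 1 (Or.inl rfl)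
  obtain ⟨d4, hd4⟩ := h2 ω (Or.inr rfl)
  have a0 := congrFun hd1 0
  have a1 := congrFun hd1 1
  have a2 := congrFun hd1 2
  have b0 := congrFun hd2 0
  have b1 := congrFun hd2 1
  have b2 := congrFun hd2 2
  have c0 := congrFun hd3 0
  have c1 := congrFun hd3 1
  have c2 := congrFun hd3 2
  have e0 := congrFun hd4 0
  have e1 := congrFun hd4 1
  have e2 := congrFun hd4 2
  simp [Matrix.mulVec, dotProduct, Fin.sum_univ_three] at a0 a1 a2 b0 b1 b2 c0 c1 c2 e0 e1 e2
  have E02 : E 0 2 = 0 := by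
    have : (1 - ω) * E 0 2 = 0 := by linear_combination b0 - a0
    exact (mul_eq_zero.mp this).resolve_left hω'
  have E01 : E 0 1 = 0 := by rw [E02] at a0; linear_combination a0
  have E10 : E 1 0 = 0 := by
    have : (1 - ω) * E 1 0 = 0 := by linear_combination e1 - c1
    exact (mul_eq_zero.mp this).resolve_left hω'
  have E12 : E 1 2 = 0 := by rw [E10] at c1; linear_combination c1
  rw [E12] at a1 b1
  have hE22 : E 2 2 = E 1 1 := by
    have : (1 - ω) * (E 2 2 - E 1 1) = 0 := by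
      linear_combination b2 - a2 + ω * b1 - a1
    have := (mul_eq_zero.mp this).resolve_left hω'
    linear_combination this
  have E21 : E 2 1 = 0 := by linear_combination a2 + a1 + hE22
  rw [E02] at c0 e0
  have hd3 : d3 = E 0 0 := by linear_combination c0
  have hd4 : d4 = E 0 0 := by
    have : ω * (d4 - E 0 0) = 0 := by linear_combination e0
    have := (mul_eq_zero.mp this).resolve_left hω0
    linear_combination this
  have E20 : E 2 0 = 0 := by
    have : (1 - ω) * E 2 0 = 0 := by linear_combination e2 - c2 + hd4 - hd3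
    exact (mul_eq_zero.mp this).resolve_left hω'
  have hE22' : E 2 2 = E 0 0 := by rw [E20] at c2; linear_combination c2 + hd3
  have hE11 : E 1 1 = E 0 0 := by rw [← hE22, hE22']
  ext i j
  fin_cases i <;> fin_cases j <;> simp [E01, E02, E10, E12, E20, E21, hE11, hE22']

end Groth.Agent.Lib.Helper27.Cubic
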