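import Mathlib

/-!
# Two polynomials in three variables vanishing at the origin have a common nonzero zero
-/

namespace Groth.Agent.Lib.Helper27.Cubic

open MvPolynomial

noncomputable section

private def φ₁ : MvPolynomial (Fin 3) ℂ →ₐ[ℂ] MvPolynomial (Fin 2) ℂ :=
  aeval ![0, X 0, X 1]

private def φ₂ : MvPolynomial (Fin 3) ℂ →ₐ[ℂ] Polynomial ℂ :=
  aeval ![0, 0, Polynomial.X]

private def φ₃ : MvPolynomial (Fin 3) ℂ →ₐ[ℂ] ℂ :=
  aeval (0 : Fin 3 → ℂ)

private def ψ₁ : MvPolynomial (Fin 2) ℂ →ₐ[ℂ] Polynomial ℂ :=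
  aeval ![0, Polynomial.X]

private def ψ₂ : Polynomial ℂ →ₐ[ℂ] ℂ := Polynomial.aeval 0

private theorem ψ₁_comp : ψ₁.comp φ₁ = φ₂ := by
  apply MvPolynomial.algHom_ext
  intro i
  fin_cases i <;> simp [ψ₁, φ₁, φ₂]

private theorem ψ₂_comp : ψ₂.comp φ₂ = φ₃ := by
  apply MvPolynomial.algHom_ext
  intro i
  fin_cases i <;> simp [ψ₂, φ₂, φ₃]

theorem height_vanishingIdeal_zero_ge :
    3 ≤ (vanishingIdeal ℂ ({0} : Set (Fin 3 → ℂ)) : Ideal (MvPolynomial (Fin 3) ℂ)).height := by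
  set q₃ : Ideal (MvPolynomial (Fin 3) ℂ) := vanishingIdeal ℂ ({0} : Set (Fin 3 → ℂ)) with hq₃
  have hq₃' : q₃ = RingHom.ker φ₃ := by
    ext p
    simp [hq₃, φ₃, RingHom.mem_ker]
  set q₁ : Ideal (MvPolynomial (Fin 3) ℂ) := RingHom.ker φ₁ with hq₁
  set q₂ : Ideal (MvPolynomial (Fin 3) ℂ) := RingHom.ker φ₂ with hq₂
  haveI : q₁.IsPrime := RingHom.ker_isPrime _
  haveI : q₂.IsPrime := RingHom.ker_isPrime _
  haveI : q₃.IsPrime := by rw [hq₃]; infer_instance
  have h01 : (⊥ : Ideal (MvPolynomial (Fin 3) ℂ)) < q₁ := by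
    rw [bot_lt_iff_ne_bot]
    intro h
    have : (X 0 : MvPolynomial (Fin 3) ℂ) ∈ q₁ := by
      simp [hq₁, RingHom.mem_ker, φ₁]
    rw [h] at this
    exact X_ne_zero (R := ℂ) (0 : Fin 3) (by simpa using this)
  have h12 : q₁ < q₂ := by
    refine lt_of_le_of_ne ?_ ?_
    · intro p hp
      simp only [hq₁, hq₂, RingHom.mem_ker] at hp ⊢
      have : φ₂ p = ψ₁ (φ₁ p) := by rw [← ψ₁_comp]; rfl
      change φ₂ p = 0
      rw [this]
      change ψ₁ (φ₁ p) = 0
      have hp' : φ₁ p = 0 := hp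
      rw [hp', map_zero]
    · intro h
      have h1 : (X 1 : MvPolynomial (Fin 3) ℂ) ∈ q₂ := by
        simp [hq₂, RingHom.mem_ker, φ₂]
      rw [← h] at h1
      have : (X 0 : MvPolynomial (Fin 2) ℂ) = 0 := by
        simpa [hq₁, RingHom.mem_ker, φ₁] using h1
      exact X_ne_zero (R := ℂ) (0 : Fin 2) this
  have h23 : q₂ < q₃ := by
    refine lt_of_le_of_ne ?_ ?_
    · intro p hp
      rw [hq₃']
      simp only [hq₂, RingHom.mem_ker] at hp ⊢
      have : φ₃ p = ψ₂ (φ₂ p) := by rw [← ψ₂_comp]; rfl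
      change φ₃ p = 0
      rw [this]
      have hp' : φ₂ p = 0 := hp
      rw [hp', map_zero]
    · intro h
      have h1 : (X 2 : MvPolynomial (Fin 3) ℂ) ∈ q₃ := by
        rw [hq₃']
        simp [RingHom.mem_ker, φ₃]
      rw [← h] at h1
      have : (Polynomial.X : Polynomial ℂ) = 0 := by
        simpa [hq₂, RingHom.mem_ker, φ₂] using h1
      exact Polynomial.X_ne_zero this
  haveI : (⊥ : Ideal (MvPolynomial (Fin 3) ℂ)).IsPrime := Ideal.isPrime_bot
  have e1 := Ideal.height_strict_mono_of_isPrime_of_isPrime h01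
  have e2 := Ideal.height_strict_mono_of_isPrime_of_isPrime h12
  have e3 := Ideal.height_strict_mono_of_isPrime_of_isPrime h23
  have f1 : (1 : ℕ∞) ≤ q₁.height := Order.one_le_iff_pos.mpr (lt_of_le_of_lt zero_le e1)
  have f2 : (2 : ℕ∞) ≤ q₂.height := by
    have := Order.add_one_le_of_lt e2
    calc (2 : ℕ∞) = 1 + 1 := by norm_num
      _ ≤ q₁.height + 1 := by gcongr
      _ ≤ _ := this
  have := Order.add_one_le_of_lt e3
  calc (3 : ℕ∞) = 2 + 1 := by norm_num
    _ ≤ q₂.height + 1 := by gcongr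
    _ ≤ _ := this

/-- Two polynomials in three variables over `ℂ` vanishing at the origin have a common zero
other than the origin. -/
theorem exists_common_zero (F G : MvPolynomial (Fin 3) ℂ) (hF : eval 0 F = 0) (hG : eval 0 G = 0) :
    ∃ v : Fin 3 → ℂ, v ≠ 0 ∧ eval v F = 0 ∧ eval v G = 0 := by
  by_contra hcon
  push Not at hcon
  set I : Ideal (MvPolynomial (Fin 3) ℂ) := Ideal.span {F, G} with hI
  have hZ : zeroLocus ℂ I = ({0} : Set (Fin 3 → ℂ)) := by
    ext x
    rw [hI, zeroLocus_span]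
    simp only [Set.mem_insert_iff, Set.mem_singleton_iff, forall_eq_or_imp, forall_eq,
      Set.mem_ofPred_eq]
    constructor
    · rintro ⟨h1, h2⟩
      by_contra hx
      exact hcon x hx (by simpa [aeval_eq_eval] using h1) (by simpa [aeval_eq_eval] using h2)
    · rintro rfl
      exact ⟨by simpa [aeval_eq_eval] using hF, by simpa [aeval_eq_eval] using hG⟩
  set q₃ : Ideal (MvPolynomial (Fin 3) ℂ) := vanishingIdeal ℂ ({0} : Set (Fin 3 → ℂ)) with hq₃
  have hrad : I.radical = q₃ := by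
    rw [hq₃, ← hZ, vanishingIdeal_zeroLocus_eq_radical]
  haveI : q₃.IsPrime := by rw [hq₃]; infer_instance
  have hmin : q₃ ∈ I.minimalPrimes := by
    rw [← Ideal.radical_minimalPrimes, hrad, Ideal.minimalPrimes_eq_subsingleton_self]
    exact Set.mem_singleton _
  have hle : q₃.height ≤ 2 := by
    have := Ideal.height_le_card_of_mem_minimalPrimes_span_finset (s := {F, G}) (p := q₃)
      (by simpa [hI] using hmin)
    refine this.trans ?_
    have : ({F, G} : Finset (MvPolynomial (Fin 3) ℂ)).card ≤ 2 := Finset.card_le_two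
    exact_mod_cast this
  have hge := height_vanishingIdeal_zero_ge
  rw [← hq₃] at hge
  have := hge.trans hle
  norm_num at this

end

end Groth.Agent.Lib.Helper27.Cubic
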