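import Mathlib
import Groth.Agent.Lib.Helper27.CubicBasic
import Groth.Agent.Lib.Helper27.CubicCZ

/-!
# Plane cubics: bases, singular points, existence of a flex
-/

namespace Groth.Agent.Lib.Helper27.Cubic

open MvPolynomial

/-- the matrix with columns `a b c` -/
def cols (a b c : Fin 3 → ℂ) : Matrix (Fin 3) (Fin 3) ℂ := Matrix.of fun i j => ![a, b, c] j i

theorem cols_mulVec (a b c x : Fin 3 → ℂ) :
    (cols a b c).mulVec x = x 0 • a + x 1 • b + x 2 • c := by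
  funext i
  simp [cols, Matrix.mulVec, dotProduct, Fin.sum_univ_three]
  ring

/-- linear independence of three vectors, spelled out -/
def Ind (a b c : Fin 3 → ℂ) : Prop :=
  ∀ x y z : ℂ, x • a + y • b + z • c = 0 → x = 0 ∧ y = 0 ∧ z = 0

theorem det_cols_ne_zero {a b c : Fin 3 → ℂ} (h : Ind a b c) : (cols a b c).det ≠ 0 := by
  intro hdet
  obtain ⟨x, hx, hx0⟩ := Matrix.exists_mulVec_eq_zero_iff.mpr hdet
  rw [cols_mulVec] at hx0
  obtain ⟨h0, h1, h2⟩ := h _ _ _ hx0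
  apply hx
  funext i
  fin_cases i <;> assumption

theorem span_of_ind {a b c : Fin 3 → ℂ} (h : Ind a b c) (s : Fin 3 → ℂ) :
    ∃ x y z : ℂ, s = x • a + y • b + z • c := by
  have hdet := det_cols_ne_zero h
  refine ⟨((cols a b c)⁻¹.mulVec s) 0, ((cols a b c)⁻¹.mulVec s) 1, ((cols a b c)⁻¹.mulVec s) 2, ?_⟩
  rw [← cols_mulVec, Matrix.mulVec_mulVec, Matrix.mul_nonsing_inv _ (isUnit_iff_ne_zero.mpr hdet),
    Matrix.one_mulVec]

theorem ne_zero_of_ind {a b c : Fin 3 → ℂ} (h : Ind a b c) {x y z : ℂ} (hne : ¬(x = 0 ∧ y = 0 ∧ z = 0)) :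
    x • a + y • b + z • c ≠ 0 := fun h0 => hne (h x y z h0)

/-- general ternary cubic with ten coefficients -/
def cub (c0 c1 c2 c3 c4 c5 c6 c7 c8 c9 x y z : ℂ) : ℂ :=
  c0 * x ^ 3 + c1 * x ^ 2 * y + c2 * x ^ 2 * z + c3 * x * y ^ 2 + c4 * x * y * z + c5 * x * z ^ 2 +
    c6 * y ^ 3 + c7 * y ^ 2 * z + c8 * y * z ^ 2 + c9 * z ^ 3

def cubx (c0 c1 c2 c3 c4 c5 c6 c7 c8 c9 x y z : ℂ) : ℂ :=
  3 * c0 * x ^ 2 + 2 * c1 * x * y + 2 * c2 * x * z + c3 * y ^ 2 + c4 * y * z + c5 * z ^ 2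

def cuby (c0 c1 c2 c3 c4 c5 c6 c7 c8 c9 x y z : ℂ) : ℂ :=
  c1 * x ^ 2 + 2 * c3 * x * y + c4 * x * z + 3 * c6 * y ^ 2 + 2 * c7 * y * z + c8 * z ^ 2

def cubz (c0 c1 c2 c3 c4 c5 c6 c7 c8 c9 x y z : ℂ) : ℂ :=
  c2 * x ^ 2 + c4 * x * y + 2 * c5 * x * z + c7 * y ^ 2 + 2 * c8 * y * z + 3 * c9 * z ^ 2

theorem cub_taylor (c0 c1 c2 c3 c4 c5 c6 c7 c8 c9 x y z x' y' z' t : ℂ) :
    cub c0 c1 c2 c3 c4 c5 c6 c7 c8 c9 (x + t * x') (y + t * y') (z + t * z') =
      cub c0 c1 c2 c3 c4 c5 c6 c7 c8 c9 x y z +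
      (cubx c0 c1 c2 c3 c4 c5 c6 c7 c8 c9 x y z * x' + cuby c0 c1 c2 c3 c4 c5 c6 c7 c8 c9 x y z * y' +
        cubz c0 c1 c2 c3 c4 c5 c6 c7 c8 c9 x y z * z') * t +
      (cubx c0 c1 c2 c3 c4 c5 c6 c7 c8 c9 x' y' z' * x + cuby c0 c1 c2 c3 c4 c5 c6 c7 c8 c9 x' y' z' * y +
        cubz c0 c1 c2 c3 c4 c5 c6 c7 c8 c9 x' y' z' * z) * t ^ 2 +
      cub c0 c1 c2 c3 c4 c5 c6 c7 c8 c9 x' y' z' * t ^ 3 := by
  unfold cub cubx cuby cubz
  ring

theorem cub_euler (c0 c1 c2 c3 c4 c5 c6 c7 c8 c9 x y z : ℂ) :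
    3 * cub c0 c1 c2 c3 c4 c5 c6 c7 c8 c9 x y z =
      cubx c0 c1 c2 c3 c4 c5 c6 c7 c8 c9 x y z * x + cuby c0 c1 c2 c3 c4 c5 c6 c7 c8 c9 x y z * y +
        cubz c0 c1 c2 c3 c4 c5 c6 c7 c8 c9 x y z * z := by
  unfold cub cubx cuby cubz
  ring

variable {f : MvPolynomial (Fin 3) ℂ}

/-- A smooth cubic has no singular point, expressed in coordinates with respect to a basis. -/
theorem no_sing (hf : f.IsHomogeneous 3)
    (hsm : ∀ v : Fin 3 → ℂ, v ≠ 0 → eval v f = 0 → ∃ i : Fin 3, eval v (pderiv i f) ≠ 0)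
    {a b c : Fin 3 → ℂ} (hInd : Ind a b c) {c0 c1 c2 c3 c4 c5 c6 c7 c8 c9 : ℂ}
    (hG : ∀ x y z : ℂ, eval (x • a + y • b + z • c) f = cub c0 c1 c2 c3 c4 c5 c6 c7 c8 c9 x y z)
    (x y z : ℂ) (hne : ¬(x = 0 ∧ y = 0 ∧ z = 0))
    (hx : cubx c0 c1 c2 c3 c4 c5 c6 c7 c8 c9 x y z = 0)
    (hy : cuby c0 c1 c2 c3 c4 c5 c6 c7 c8 c9 x y z = 0)
    (hz : cubz c0 c1 c2 c3 c4 c5 c6 c7 c8 c9 x y z = 0) : False := by
  set s : Fin 3 → ℂ := x • a + y • b + z • c with hs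
  have hs0 : s ≠ 0 := ne_zero_of_ind hInd hne
  have hGs : cub c0 c1 c2 c3 c4 c5 c6 c7 c8 c9 x y z = 0 := by
    have := cub_euler c0 c1 c2 c3 c4 c5 c6 c7 c8 c9 x y z
    rw [hx, hy, hz] at this
    linear_combination (1/3 : ℂ) * this
  have hfs : eval s f = 0 := by rw [hs, hG, hGs]
  have key : ∀ d : Fin 3 → ℂ, T f s s d = 0 := by
    intro d
    obtain ⟨x', y', z', hd⟩ := span_of_ind hInd d
    have hco := cubic_coeffs_eq (a0 := eval s f) (a1 := 3 * T f s s d) (a2 := 3 * T f s d d)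
      (a3 := eval d f) (b0 := 0) (b1 := 0)
      (b2 := cubx c0 c1 c2 c3 c4 c5 c6 c7 c8 c9 x' y' z' * x +
        cuby c0 c1 c2 c3 c4 c5 c6 c7 c8 c9 x' y' z' * y + cubz c0 c1 c2 c3 c4 c5 c6 c7 c8 c9 x' y' z' * z)
      (b3 := cub c0 c1 c2 c3 c4 c5 c6 c7 c8 c9 x' y' z') (by
        intro t
        have h1 := eval_add_smul hf s d t
        have h2 : s + t • d = (x + t * x') • a + (y + t * y') • b + (z + t * z') • c := by
          rw [hs, hd]; module
        rw [h2, hG, cub_taylor, hGs, hx, hy, hz] at h1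
        linear_combination -h1)
    have := hco.2.1
    linear_combination (1/3 : ℂ) * this
  obtain ⟨i, hi⟩ := hsm s hs0 hfs
  apply hi
  rw [eval_pderiv_eq_T hf, key, mul_zero]


section lin3
variable {n : ℕ} (g : MvPolynomial (Fin n) ℂ)

theorem T_lin3 (a b c : Fin n → ℂ) (x y z : ℂ) :
    T g (x • a + y • b + z • c) (x • a + y • b + z • c) (x • a + y • b + z • c) =
      cub (T g a a a) (3 * T g a a b) (3 * T g a a c) (3 * T g a b b) (6 * T g a b c) (3 * T g a c c)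
        (T g b b b) (3 * T g b b c) (3 * T g b c c) (T g c c c) x y z := by
  unfold cub
  simp only [T_add_left, T_add_mid, T_add_right, T_smul_left, T_smul_mid, T_smul_right]
  simp only [T_comm12 g, T_comm23 g]
  ring

end lin3

/-- the Hessian matrix of `f` at `v` -/
noncomputable def hessM (f : MvPolynomial (Fin 3) ℂ) (v : Fin 3 → ℂ) : Matrix (Fin 3) (Fin 3) ℂ :=
  Matrix.of fun i j => eval v (pderiv i (pderiv j f))

/-- the Hessian polynomial -/
noncomputable def hessP (f : MvPolynomial (Fin 3) ℂ) : MvPolynomial (Fin 3) ℂ :=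
  Matrix.det (Matrix.of fun i j : Fin 3 => pderiv i (pderiv j f))

theorem eval_hessP (f : MvPolynomial (Fin 3) ℂ) (v : Fin 3 → ℂ) :
    eval v (hessP f) = (hessM f v).det := by
  unfold hessP hessM
  rw [RingHom.map_det]
  rfl

theorem hessM_apply (hf : f.IsHomogeneous 3) (v : Fin 3 → ℂ) (i j : Fin 3) :
    hessM f v i j = ∑ k, v k * (6 * ten f k i j) := by
  simp only [hessM, Matrix.of_apply]
  rw [eval_pderiv2 hf]

theorem six_T_eq (hf : f.IsHomogeneous 3) (v x w : Fin 3 → ℂ) :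
    6 * T f v x w = ∑ i, x i * ((hessM f v).mulVec w) i := by
  simp only [Matrix.mulVec, dotProduct, hessM_apply hf, T]
  simp only [Fin.sum_univ_three]
  ring

theorem eval_hessP_zero (hf : f.IsHomogeneous 3) : eval 0 (hessP f) = 0 := by
  rw [eval_hessP]
  have : hessM f 0 = 0 := by
    ext i j
    rw [hessM_apply hf]
    simp
  rw [this, Matrix.det_zero]

/-- A smooth plane cubic has a flex. -/
theorem exists_flex (hf : f.IsHomogeneous 3)
    (hsm : ∀ v : Fin 3 → ℂ, v ≠ 0 → eval v f = 0 → ∃ i : Fin 3, eval v (pderiv i f) ≠ 0) :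
    ∃ v w : Fin 3 → ℂ, v ≠ 0 ∧ T f v v v = 0 ∧ T f v v w = 0 ∧ T f v w w = 0 ∧
      ∀ a : ℂ, a • v ≠ w := by
  have hf0 : eval 0 f = 0 := by
    rw [eval_eq_T hf, T_zero_left]
  obtain ⟨v, hv, hfv, hhv⟩ := exists_common_zero f (hessP f) hf0 (eval_hessP_zero hf)
  rw [eval_hessP] at hhv
  obtain ⟨w, hw, hMw⟩ := Matrix.exists_mulVec_eq_zero_iff.mpr hhv
  have key : ∀ x : Fin 3 → ℂ, T f v x w = 0 := by
    intro x
    have := six_T_eq hf v x w
    rw [hMw] at this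
    simp at this
    exact this
  refine ⟨v, w, hv, ?_, ?_, ?_, ?_⟩
  · rw [← eval_eq_T hf]; exact hfv
  · exact key v
  · rw [T_comm23]; exact key w
  · intro a ha
    have ha0 : a ≠ 0 := by
      rintro rfl
      apply hw
      rw [← ha]; simp
    obtain ⟨i, hi⟩ := hsm v hv hfv
    apply hi
    rw [eval_pderiv_eq_T hf]
    have := key (Pi.single i 1)
    rw [← ha, T_smul_right] at this
    have h0 : T f v (Pi.single i 1) v = 0 := by
      rcases mul_eq_zero.mp this with h | h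
      · exact absurd h ha0
      · exact h
    rw [T_comm23, h0, mul_zero]


theorem cub_complete_square (c0 c2 c4 c5 c7 c8 c9 : ℂ) (h7 : c7 ≠ 0) (x y z : ℂ) :
    cub c0 0 c2 0 c4 c5 0 c7 c8 c9 x (y - c4 / (2 * c7) * x - c8 / (2 * c7) * z) z =
      cub c0 0 (c2 - c4 ^ 2 / (4 * c7)) 0 0 (c5 - c4 * c8 / (2 * c7)) 0 c7 0
        (c9 - c8 ^ 2 / (4 * c7)) x y z := by
  unfold cub
  field_simp
  ring

theorem cub_complete_cube (c0 c2 c5 c7 c9 : ℂ) (h0 : c0 ≠ 0) (x y z : ℂ) :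
    cub c0 0 c2 0 0 c5 0 c7 0 c9 (x - c2 / (3 * c0) * z) y z =
      cub c0 0 0 0 0 (c5 - c2 ^ 2 / (3 * c0)) 0 c7 0
        (c9 - c2 * c5 / (3 * c0) + 2 * c2 ^ 3 / (27 * c0 ^ 2)) x y z := by
  unfold cub
  field_simp
  ring

theorem ind_shear_mid {a b c : Fin 3 → ℂ} (h : Ind a b c) (k1 k2 : ℂ) :
    Ind (a - k1 • b) b (c - k2 • b) := by
  intro x y z hxyz
  have : x • a + (y - k1 * x - k2 * z) • b + z • c = 0 := by
    rw [← hxyz]; module
  obtain ⟨h1, h2, h3⟩ := h _ _ _ this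
  refine ⟨h1, ?_, h3⟩
  rw [h1, h3] at h2
  simpa using h2

theorem ind_shear_right {a b c : Fin 3 → ℂ} (h : Ind a b c) (k : ℂ) :
    Ind a b (c - k • a) := by
  intro x y z hxyz
  have : (x - k * z) • a + y • b + z • c = 0 := by
    rw [← hxyz]; module
  obtain ⟨h1, h2, h3⟩ := h _ _ _ this
  refine ⟨?_, h2, h3⟩
  rw [h3] at h1
  simpa using h1

/-- Weierstrass normal form of a smooth plane cubic, with respect to a suitable basis. -/
theorem exists_weierstrass (hf : f.IsHomogeneous 3)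
    (hsm : ∀ v : Fin 3 → ℂ, v ≠ 0 → eval v f = 0 → ∃ i : Fin 3, eval v (pderiv i f) ≠ 0) :
    ∃ (a b c : Fin 3 → ℂ) (α p q r : ℂ), Ind a b c ∧ α ≠ 0 ∧ p ≠ 0 ∧
      ∀ x y z : ℂ, eval (x • a + y • b + z • c) f = cub α 0 0 0 0 q 0 p 0 r x y z := by
  obtain ⟨v, w, hv, hvvv, hvvw, hvww, hvw⟩ := exists_flex hf hsm
  have hfv : eval v f = 0 := by rw [eval_eq_T hf]; exact hvvv
  obtain ⟨k, hk⟩ := hsm v hv hfv
  rw [eval_pderiv_eq_T hf] at hk
  set u : Fin 3 → ℂ := Pi.single k 1 with hu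
  have hvvu : T f v v u ≠ 0 := fun h => hk (by rw [h, mul_zero])
  -- independence
  have hInd : Ind w v u := by
    intro x y z hxyz
    have h1 : T f v v (x • w + y • v + z • u) = 0 := by rw [hxyz, T_zero_right]
    simp only [T_add_right, T_smul_right, hvvw, hvvv] at h1
    have hz : z = 0 := by
      rcases mul_eq_zero.mp (by linear_combination h1 : z * T f v v u = 0) with h | h
      · exact h
      · exact absurd h hvvu
    subst hz
    have hx : x = 0 := by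
      by_contra hx
      apply hvw (-y / x)
      have : x • w = -(y • v) := by
        have := hxyz
        simp only [zero_smul, add_zero] at this
        exact eq_neg_of_add_eq_zero_left this
      calc (-y / x) • v = (1 / x) • (-(y • v)) := by module
        _ = (1 / x) • (x • w) := by rw [this]
        _ = w := by rw [smul_smul]; field_simp; simp
    subst hx
    refine ⟨rfl, ?_, rfl⟩
    simp only [zero_smul, add_zero, zero_add] at hxyz
    exact (smul_eq_zero.mp hxyz).resolve_right hv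
  -- the first coordinate form
  have hG0 : ∀ x y z : ℂ, eval (x • w + y • v + z • u) f =
      cub (T f w w w) 0 (3 * T f w w u) 0 (6 * T f w v u) (3 * T f w u u) 0 (3 * T f v v u)
        (3 * T f v u u) (T f u u u) x y z := by
    intro x y z
    rw [eval_eq_T hf, T_lin3]
    have e1 : T f w w v = 0 := by rw [T_comm13, T_comm23]; exact hvww
    have e2 : T f w v v = 0 := by rw [T_comm13]; exact hvvw
    rw [e1, e2, hvvv]
    simp
  -- α ≠ 0
  have hα : T f w w w ≠ 0 := by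
    intro hα
    obtain ⟨s, hs⟩ := IsAlgClosed.exists_eq_mul_self
      (discrim (3 * T f v v u) (6 * T f w v u) (3 * T f w w u))
    obtain ⟨y0, hy0⟩ := exists_quadratic_eq_zero (mul_ne_zero (by norm_num) hvvu) ⟨s, hs⟩
    refine no_sing hf hsm hInd hG0 1 y0 0 (by simp) ?_ ?_ ?_
    · simp [cubx, hα]
    · simp [cuby]
    · simp only [cubz]
      linear_combination hy0
  -- completing the square
  set c7 : ℂ := 3 * T f v v u with hc7
  have hc7' : c7 ≠ 0 := mul_ne_zero (by norm_num) hvvu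
  set κ₁ : ℂ := 6 * T f w v u / (2 * c7) with hκ₁
  set κ₂ : ℂ := 3 * T f v u u / (2 * c7) with hκ₂
  have hInd1 : Ind (w - κ₁ • v) v (u - κ₂ • v) := ind_shear_mid hInd κ₁ κ₂
  have hG1 : ∀ x y z : ℂ, eval (x • (w - κ₁ • v) + y • v + z • (u - κ₂ • v)) f =
      cub (T f w w w) 0 (3 * T f w w u - (6 * T f w v u) ^ 2 / (4 * c7)) 0 0
        (3 * T f w u u - 6 * T f w v u * (3 * T f v u u) / (2 * c7)) 0 c7 0
        (T f u u u - (3 * T f v u u) ^ 2 / (4 * c7)) x y z := by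
    intro x y z
    have : x • (w - κ₁ • v) + y • v + z • (u - κ₂ • v) = x • w + (y - κ₁ * x - κ₂ * z) • v + z • u := by
      module
    rw [this, hG0, hκ₁, hκ₂, cub_complete_square _ _ _ _ _ _ _ hc7']
  set c2' : ℂ := 3 * T f w w u - (6 * T f w v u) ^ 2 / (4 * c7) with hc2'
  set c5' : ℂ := 3 * T f w u u - 6 * T f w v u * (3 * T f v u u) / (2 * c7) with hc5'
  set c9' : ℂ := T f u u u - (3 * T f v u u) ^ 2 / (4 * c7) with hc9'
  set ε : ℂ := c2' / (3 * T f w w w) with hε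
  refine ⟨w - κ₁ • v, v, (u - κ₂ • v) - ε • (w - κ₁ • v), T f w w w, c7,
    c5' - c2' ^ 2 / (3 * T f w w w),
    c9' - c2' * c5' / (3 * T f w w w) + 2 * c2' ^ 3 / (27 * T f w w w ^ 2),
    ind_shear_right hInd1 ε, hα, hc7', ?_⟩
  intro x y z
  have : x • (w - κ₁ • v) + y • v + z • ((u - κ₂ • v) - ε • (w - κ₁ • v)) =
      (x - ε * z) • (w - κ₁ • v) + y • v + z • (u - κ₂ • v) := by
    module
  rw [this, hG1, hε, cub_complete_cube _ _ _ _ _ hα]

end Groth.Agent.Lib.Helper27.Cubic
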