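import Mathlib

/-!
# From Weierstrass form to Hesse form (explicit computation)
-/

namespace Groth.Agent.Lib.Helper27.Cubic

/-- Weierstrass-type cubic `α x³ + p y² z + q x z² + r z³`. -/
def wei (α p q r x y z : ℂ) : ℂ := α * x ^ 3 + p * y ^ 2 * z + q * x * z ^ 2 + r * z ^ 3

theorem wei_stageA (α p q r m β ρ : ℂ)
    (R1 : 3 * α * ρ + p * m ^ 2 = 0) (R2 : 3 * α * ρ ^ 2 + q + 2 * p * β * m = 0)
    (R3 : α * ρ ^ 3 + q * ρ + r + p * β ^ 2 = 0) (x y z : ℂ) :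
    wei α p q r x y z =
      α * (x - ρ * z) ^ 3 + p * z * (y - β * z - m * (x - ρ * z)) * (y + β * z + m * (x - ρ * z)) := by
  unfold wei
  linear_combination ((x - ρ * z) ^ 2 * z) * R1 + ((x - ρ * z) * z ^ 2) * R2 + z ^ 3 * R3

/-- existence of the auxiliary parameter `m` -/
theorem exists_m (α p q r : ℂ) (hα : α ≠ 0) (hp : p ≠ 0) (hqr : ¬(q = 0 ∧ r = 0)) :
    ∃ m : ℂ, m ≠ 0 ∧
      p ^ 4 * m ^ 8 + 18 * q * α * p ^ 2 * m ^ 4 - 108 * α ^ 2 * p * r * m ^ 2 - 27 * α ^ 2 * q ^ 2 = 0 := by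
  by_cases hq : q = 0
  · have hr : r ≠ 0 := fun hr => hqr ⟨hq, hr⟩
    obtain ⟨m, hm⟩ := IsAlgClosed.exists_pow_nat_eq (108 * α ^ 2 * r / p ^ 3) (n := 6) (by norm_num)
    have hm0 : m ≠ 0 := by
      rintro rfl
      have : 108 * α ^ 2 * r / p ^ 3 ≠ 0 :=
        div_ne_zero (mul_ne_zero (mul_ne_zero (by norm_num) (pow_ne_zero _ hα)) hr) (pow_ne_zero _ hp)
      apply this
      rw [← hm]; norm_num
    refine ⟨m, hm0, ?_⟩
    have hm' : p ^ 3 * m ^ 6 = 108 * α ^ 2 * r := by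
      rw [hm]; field_simp
    rw [hq]
    linear_combination (p * m ^ 2) * hm'
  · let P : Polynomial ℂ := Polynomial.C (p ^ 4) * Polynomial.X ^ 8 +
      Polynomial.C (18 * q * α * p ^ 2) * Polynomial.X ^ 4 -
      Polynomial.C (108 * α ^ 2 * p * r) * Polynomial.X ^ 2 - Polynomial.C (27 * α ^ 2 * q ^ 2)
    have hdeg : P.degree = 8 := by
      have hp4 : p ^ 4 ≠ 0 := pow_ne_zero _ hp
      simp only [P]
      compute_degree!
    obtain ⟨m, hm⟩ := IsAlgClosed.exists_root P (by rw [hdeg]; norm_num)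
    have hm' : p ^ 4 * m ^ 8 + 18 * q * α * p ^ 2 * m ^ 4 - 108 * α ^ 2 * p * r * m ^ 2 -
        27 * α ^ 2 * q ^ 2 = 0 := by
      simpa [P, Polynomial.IsRoot] using hm
    refine ⟨m, ?_, hm'⟩
    rintro rfl
    have : 27 * α ^ 2 * q ^ 2 = 0 := by linear_combination -hm'
    have : (27 : ℂ) * α ^ 2 * q ^ 2 ≠ 0 :=
      mul_ne_zero (mul_ne_zero (by norm_num) (pow_ne_zero _ hα)) (pow_ne_zero _ hq)
    contradiction


theorem hesse_stageC (a lam X0 X1 X2 : ℂ) (hroot : 3 * (a + 2) ^ 3 - lam * (a ^ 2 + a + 1) = 0) :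
    ((a * X0 + X1 + X2) + (X0 + a * X1 + X2) + (X0 + X1 + a * X2)) ^ 3 -
      lam * ((a * X0 + X1 + X2) * (X0 + a * X1 + X2) * (X0 + X1 + a * X2)) =
    (lam * (a - 1) ^ 2 / 3) * (X0 ^ 3 + X1 ^ 3 + X2 ^ 3 - 3 * a * (X0 * X1 * X2)) := by
  linear_combination ((X0 + X1 + X2) ^ 3 / 3) * hroot

theorem wei_to_hesse (α p q r : ℂ) (hα : α ≠ 0) (hp : p ≠ 0)
    (hns : ∀ x y z : ℂ, ¬(x = 0 ∧ y = 0 ∧ z = 0) →
      ¬(3 * α * x ^ 2 + q * z ^ 2 = 0 ∧ 2 * p * y * z = 0 ∧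
        p * y ^ 2 + 2 * q * x * z + 3 * r * z ^ 2 = 0)) :
    ∃ (B : Matrix (Fin 3) (Fin 3) ℂ) (k c : ℂ), B.det ≠ 0 ∧ k ^ 3 ≠ 1 ∧ c ≠ 0 ∧
      ∀ X : Fin 3 → ℂ, wei α p q r (B.mulVec X 0) (B.mulVec X 1) (B.mulVec X 2) =
        c * (X 0 ^ 3 + X 1 ^ 3 + X 2 ^ 3 - 3 * k * (X 0 * X 1 * X 2)) := by
  have hqr : ¬(q = 0 ∧ r = 0) := by
    rintro ⟨hq, hr⟩
    refine hns 0 0 1 (by simp) ⟨by simp [hq], by simp, by simp [hr]⟩
  obtain ⟨m, hm0, hPm⟩ := exists_m α p q r hα hp hqr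
  set ρ : ℂ := -(p * m ^ 2) / (3 * α) with hρ
  set β : ℂ := -(3 * α * ρ ^ 2 + q) / (2 * p * m) with hβ
  have R1 : 3 * α * ρ + p * m ^ 2 = 0 := by
    rw [hρ]; field_simp; ring
  have R2 : 3 * α * ρ ^ 2 + q + 2 * p * β * m = 0 := by
    rw [hβ]; field_simp; ring
  have R3 : α * ρ ^ 3 + q * ρ + r + p * β ^ 2 = 0 := by
    have h108 : (108 * α ^ 2 * p * m ^ 2) * (α * ρ ^ 3 + q * ρ + r + p * β ^ 2) = 0 := by
      rw [hβ, hρ]
      field_simp
      linear_combination (-108 : ℂ) * hPm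
    have hne : (108 * α ^ 2 * p * m ^ 2) ≠ 0 :=
      mul_ne_zero (mul_ne_zero (mul_ne_zero (by norm_num) (pow_ne_zero _ hα)) hp) (pow_ne_zero _ hm0)
    exact (mul_eq_zero.mp h108).resolve_left hne
  have hβ0 : β ≠ 0 := by
    intro hb
    refine hns ρ 0 1 (by simp) ⟨?_, by simp, ?_⟩
    · rw [hb] at R2; linear_combination R2
    · rw [hb] at R2 R3; linear_combination 3 * R3 - ρ * R2
  set lam : ℂ := -(4 * m ^ 3 * p) / (α * β) with hlam
  have hlam0 : lam ≠ 0 := by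
    rw [hlam]
    exact div_ne_zero (neg_ne_zero.mpr (mul_ne_zero (mul_ne_zero (by norm_num) (pow_ne_zero _ hm0)) hp))
      (mul_ne_zero hα hβ0)
  have hlam27 : lam ≠ 27 := by
    intro h27
    have L : 27 * α * β + 4 * p * m ^ 3 = 0 := by
      rw [hlam] at h27
      field_simp at h27
      linear_combination -h27
    refine hns (3 * β - ρ * m) 0 (-m) (by simp [hm0]) ⟨?_, by simp, ?_⟩
    · linear_combination m ^ 2 * R2 - 6 * β * m * R1 + β * L
    · have h3 : 3 * α * (p * 0 ^ 2 + 2 * q * (3 * β - ρ * m) * (-m) + 3 * r * (-m) ^ 2) = 0 := by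
        linear_combination 3 * α * (3 * m ^ 2 * R3 + (-6 * β * m - m ^ 2 * ρ) * R2 + 6 * β * m * ρ * R1) +
          β * m * (p * m * L - 4 * p * m ^ 2 * R1)
      exact (mul_eq_zero.mp h3).resolve_left (mul_ne_zero (by norm_num) hα)
  -- the cubic for `a`
  let Q : Polynomial ℂ := 3 * (Polynomial.X + 2) ^ 3 -
    Polynomial.C lam * (Polynomial.X ^ 2 + Polynomial.X + 1)
  have hdegQ : Q.degree = 3 := by
    simp only [Q]
    compute_degree!
  obtain ⟨a, ha⟩ := IsAlgClosed.exists_root Q (by rw [hdegQ]; norm_num)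
  have hroot : 3 * (a + 2) ^ 3 - lam * (a ^ 2 + a + 1) = 0 := by
    simpa [Q, Polynomial.IsRoot] using ha
  have ha1 : a - 1 ≠ 0 := by
    intro h
    have : a = 1 := by linear_combination h
    rw [this] at hroot
    apply hlam27
    linear_combination (-1/3 : ℂ) * hroot
  have ha2 : a ^ 2 + a + 1 ≠ 0 := by
    intro h
    rw [h, mul_zero, sub_zero] at hroot
    have h2 : a + 2 = 0 := by
      have : (a + 2) ^ 3 = 0 := by linear_combination (1/3 : ℂ) * hroot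
      simpa using this
    have : (3 : ℂ) = 0 := by linear_combination h - (a - 1) * h2
    norm_num at this
  have ha3 : a + 2 ≠ 0 := by
    intro h
    have h' : a = -2 := by linear_combination h
    rw [h'] at hroot
    apply hlam0
    linear_combination (-1/3 : ℂ) * hroot
  refine ⟨!![1 / (2 * m) - ρ / (2 * β), 1 / (2 * m), 1 / (2 * m); 0, -1 / 2, 1 / 2; -1 / (2 * β), 0, 0] *
      !![a, 1, 1; 1, a, 1; 1, 1, a], a, (α / (8 * m ^ 3)) * (lam * (a - 1) ^ 2 / 3), ?_, ?_, ?_, ?_⟩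
  · rw [Matrix.det_mul]
    apply mul_ne_zero
    · have : Matrix.det !![1 / (2 * m) - ρ / (2 * β), 1 / (2 * m), 1 / (2 * m); 0, -1 / 2, 1 / 2;
          -1 / (2 * β), 0, 0] = -1 / (4 * m * β) := by
        rw [Matrix.det_fin_three]
        simp
        field_simp
        ring
      rw [this]
      exact div_ne_zero (by norm_num) (mul_ne_zero (mul_ne_zero (by norm_num) hm0) hβ0)
    · have : Matrix.det !![a, 1, 1; 1, a, 1; 1, 1, a] = (a + 2) * (a - 1) ^ 2 := by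
        rw [Matrix.det_fin_three]
        simp
        ring
      rw [this]
      exact mul_ne_zero ha3 (pow_ne_zero _ ha1)
  · intro h
    apply mul_ne_zero ha1 ha2
    linear_combination h
  · exact mul_ne_zero (div_ne_zero hα (mul_ne_zero (by norm_num) (pow_ne_zero _ hm0)))
      (div_ne_zero (mul_ne_zero hlam0 (pow_ne_zero _ ha1)) (by norm_num))
  · intro X
    set U : ℂ := a * X 0 + X 1 + X 2 with hU
    set V : ℂ := X 0 + a * X 1 + X 2 with hV
    set S : ℂ := X 0 + X 1 + a * X 2 with hS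
    have e0 : (!![1 / (2 * m) - ρ / (2 * β), 1 / (2 * m), 1 / (2 * m); 0, -1 / 2, 1 / 2; -1 / (2 * β), 0, 0] *
        !![a, 1, 1; 1, a, 1; 1, 1, a]).mulVec X 0 = (U + V + S) / (2 * m) - ρ * U / (2 * β) := by
      simp [Matrix.mulVec, dotProduct, Fin.sum_univ_three, Matrix.mul_apply, hU, hV, hS]
      ring
    have e1 : (!![1 / (2 * m) - ρ / (2 * β), 1 / (2 * m), 1 / (2 * m); 0, -1 / 2, 1 / 2; -1 / (2 * β), 0, 0] *
        !![a, 1, 1; 1, a, 1; 1, 1, a]).mulVec X 1 = (S - V) / 2 := by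
      simp [Matrix.mulVec, dotProduct, Fin.sum_univ_three, Matrix.mul_apply, hV, hS]
      ring
    have e2 : (!![1 / (2 * m) - ρ / (2 * β), 1 / (2 * m), 1 / (2 * m); 0, -1 / 2, 1 / 2; -1 / (2 * β), 0, 0] *
        !![a, 1, 1; 1, a, 1; 1, 1, a]).mulVec X 2 = -U / (2 * β) := by
      simp [Matrix.mulVec, dotProduct, Fin.sum_univ_three, Matrix.mul_apply, hU]
      ring
    rw [e0, e1, e2, wei_stageA α p q r m β ρ R1 R2 R3]
    have hC := hesse_stageC a lam (X 0) (X 1) (X 2) hroot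
    rw [← hU, ← hV, ← hS] at hC
    have hB : α * ((U + V + S) / (2 * m) - ρ * U / (2 * β) - ρ * (-U / (2 * β))) ^ 3 +
        p * (-U / (2 * β)) * ((S - V) / 2 - β * (-U / (2 * β)) -
          m * ((U + V + S) / (2 * m) - ρ * U / (2 * β) - ρ * (-U / (2 * β)))) *
        ((S - V) / 2 + β * (-U / (2 * β)) +
          m * ((U + V + S) / (2 * m) - ρ * U / (2 * β) - ρ * (-U / (2 * β)))) =
        (α / (8 * m ^ 3)) * ((U + V + S) ^ 3 - lam * (U * V * S)) := by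
      rw [hlam]
      field_simp
      ring
    rw [hB, hC]
    ring

end Groth.Agent.Lib.Helper27.Cubic
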