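import Mathlib
import Groth.Prelude.Def_W4c5monodromycubicsHesse
import Groth.Agent.Lib.Helper27.CubicBasic
import Groth.Agent.Lib.Helper27.CubicPlane
import Groth.Agent.Lib.Helper27.CubicFlex
import Groth.Agent.Lib.Helper27.CubicWeier
import Groth.Agent.Lib.Helper27.CubicAut

/-!
# Automorphisms of the generic Hesse cubic
-/

namespace Groth.Agent.Lib.Helper27.Cubic

open MvPolynomial

theorem cub_coeffs_zero {c0 c1 c2 c3 c4 c5 c6 c7 c8 c9 : ℂ}
    (h : ∀ x y z : ℂ, cub c0 c1 c2 c3 c4 c5 c6 c7 c8 c9 x y z = 0) :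
    c0 = 0 ∧ c1 = 0 ∧ c2 = 0 ∧ c3 = 0 ∧ c4 = 0 ∧ c5 = 0 ∧ c6 = 0 ∧ c7 = 0 ∧ c8 = 0 ∧ c9 = 0 := by
  have h100 := h 1 0 0
  have h010 := h 0 1 0
  have h001 := h 0 0 1
  have h110 := h 1 1 0
  have h1m0 := h 1 (-1) 0
  have h101 := h 1 0 1
  have h10m := h 1 0 (-1)
  have h011 := h 0 1 1
  have h01m := h 0 1 (-1)
  have h111 := h 1 1 1
  unfold cub at h100 h010 h001 h110 h1m0 h101 h10m h011 h01m h111
  norm_num at h100 h010 h001 h110 h1m0 h101 h10m h011 h01m h111
  have e0 : c0 = 0 := h100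
  have e6 : c6 = 0 := h010
  have e9 : c9 = 0 := h001
  have e1 : c1 = 0 := by linear_combination (1/2 : ℂ) * h110 - (1/2 : ℂ) * h1m0 - e6
  have e3 : c3 = 0 := by linear_combination (1/2 : ℂ) * h110 + (1/2 : ℂ) * h1m0 - e0
  have e2 : c2 = 0 := by linear_combination (1/2 : ℂ) * h101 - (1/2 : ℂ) * h10m - e9
  have e5 : c5 = 0 := by linear_combination (1/2 : ℂ) * h101 + (1/2 : ℂ) * h10m - e0
  have e7 : c7 = 0 := by linear_combination (1/2 : ℂ) * h011 - (1/2 : ℂ) * h01m - e9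
  have e8 : c8 = 0 := by linear_combination (1/2 : ℂ) * h011 + (1/2 : ℂ) * h01m - e6
  refine ⟨e0, e1, e2, e3, ?_, e5, e6, e7, e8, e9⟩
  linear_combination h111 - e0 - e1 - e2 - e3 - e5 - e6 - e7 - e8 - e9

/-- Stabiliser of the flex at infinity of a Weierstrass cubic with `q r ≠ 0`. -/
theorem wei_stab (α p q r : ℂ) (hα : α ≠ 0) (hp : p ≠ 0) (hq : q ≠ 0) (hr : r ≠ 0)
    (N : Matrix (Fin 3) (Fin 3) ℂ) (hN : N.det ≠ 0) (c d : ℂ)
    (hcol : N.mulVec ![0, 1, 0] = d • ![0, 1, 0])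
    (hG : ∀ X : Fin 3 → ℂ, wei α p q r (N.mulVec X 0) (N.mulVec X 1) (N.mulVec X 2) =
      c * wei α p q r (X 0) (X 1) (X 2)) :
    ∃ s : ℂ, N = s • (1 : Matrix (Fin 3) (Fin 3) ℂ) ∨ N = s • !![1, 0, 0; 0, -1, 0; 0, 0, 1] := by
  have h01 : N 0 1 = 0 := by
    have := congrFun hcol 0; simpa [Matrix.mulVec, dotProduct, Fin.sum_univ_three] using this
  have h11 : N 1 1 = d := by
    have := congrFun hcol 1; simpa [Matrix.mulVec, dotProduct, Fin.sum_univ_three] using this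
  have h21 : N 2 1 = 0 := by
    have := congrFun hcol 2; simpa [Matrix.mulVec, dotProduct, Fin.sum_univ_three] using this
  set n00 := N 0 0
  set n02 := N 0 2
  set n10 := N 1 0
  set n12 := N 1 2
  set n20 := N 2 0
  set n22 := N 2 2
  have hdet : d * (n00 * n22 - n02 * n20) ≠ 0 := by
    have : N.det = d * (n00 * n22 - n02 * n20) := by
      rw [Matrix.det_fin_three, h01, h11, h21]; ring
    rwa [this] at hN
  have hd : d ≠ 0 := left_ne_zero_of_mul hdet
  have key : ∀ x y z : ℂ, cub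
      (-α * c + α * n00 ^ 3 + n00 * n20 ^ 2 * q + n10 ^ 2 * n20 * p + n20 ^ 3 * r)
      (2 * d * n10 * n20 * p)
      (3 * α * n00 ^ 2 * n02 + 2 * n00 * n20 * n22 * q + n02 * n20 ^ 2 * q + 2 * n10 * n12 * n20 * p +
        n10 ^ 2 * n22 * p + 3 * n20 ^ 2 * n22 * r)
      (d ^ 2 * n20 * p)
      (2 * d * n10 * n22 * p + 2 * d * n12 * n20 * p)
      (3 * α * n00 * n02 ^ 2 - c * q + n00 * n22 ^ 2 * q + 2 * n02 * n20 * n22 * q +
        2 * n10 * n12 * n22 * p + n12 ^ 2 * n20 * p + 3 * n20 * n22 ^ 2 * r)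
      0
      (-c * p + d ^ 2 * n22 * p)
      (2 * d * n12 * n22 * p)
      (α * n02 ^ 3 - c * r + n02 * n22 ^ 2 * q + n12 ^ 2 * n22 * p + n22 ^ 3 * r) x y z = 0 := by
    intro x y z
    have := hG ![x, y, z]
    simp only [Matrix.mulVec, dotProduct, Fin.sum_univ_three, Matrix.cons_val_zero,
      Matrix.cons_val_one, Matrix.cons_val_two, Matrix.head_cons, Matrix.tail_cons, h01, h11, h21] at this
    unfold wei at this
    unfold cub
    linear_combination this
  obtain ⟨e0, -, e2, e3, e4, e5, -, e7, e8, e9⟩ := cub_coeffs_zero key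
  have hn20 : n20 = 0 := by
    have : d ^ 2 * p * n20 = 0 := by linear_combination e3
    exact (mul_eq_zero.mp this).resolve_left (mul_ne_zero (pow_ne_zero _ hd) hp)
  rw [hn20] at e0 e2 e4 e5 hdet
  have hn00 : n00 ≠ 0 := by
    intro h0; apply hdet; rw [h0]; ring
  have hn22 : n22 ≠ 0 := by
    intro h0; apply hdet; rw [h0]; ring
  have hn10 : n10 = 0 := by
    have : (2 * d * n22 * p) * n10 = 0 := by linear_combination e4
    exact (mul_eq_zero.mp this).resolve_left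
      (mul_ne_zero (mul_ne_zero (mul_ne_zero two_ne_zero hd) hn22) hp)
  have hn12 : n12 = 0 := by
    have : (2 * d * n22 * p) * n12 = 0 := by linear_combination e8
    exact (mul_eq_zero.mp this).resolve_left
      (mul_ne_zero (mul_ne_zero (mul_ne_zero two_ne_zero hd) hn22) hp)
  rw [hn10] at e2 e5
  have hn02 : n02 = 0 := by
    have : (3 * α * n00 ^ 2) * n02 = 0 := by linear_combination e2
    exact (mul_eq_zero.mp this).resolve_left
      (mul_ne_zero (mul_ne_zero (by norm_num) hα) (pow_ne_zero _ hn00))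
  rw [hn02] at e5 e9
  rw [hn12] at e9
  have c1 : c = n00 ^ 3 := by
    have : α * (n00 ^ 3 - c) = 0 := by linear_combination e0
    have := (mul_eq_zero.mp this).resolve_left hα
    linear_combination -this
  have c2 : c = n00 * n22 ^ 2 := by
    have : q * (n00 * n22 ^ 2 - c) = 0 := by linear_combination e5
    have := (mul_eq_zero.mp this).resolve_left hq
    linear_combination -this
  have c3 : c = d ^ 2 * n22 := by
    have : p * (d ^ 2 * n22 - c) = 0 := by linear_combination e7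
    have := (mul_eq_zero.mp this).resolve_left hp
    linear_combination -this
  have c4 : c = n22 ^ 3 := by
    have : r * (n22 ^ 3 - c) = 0 := by linear_combination e9
    have := (mul_eq_zero.mp this).resolve_left hr
    linear_combination -this
  have hs : n22 = n00 := by
    have : n22 ^ 2 * (n22 - n00) = 0 := by linear_combination c2 - c4
    exact sub_eq_zero.mp ((mul_eq_zero.mp this).resolve_left (pow_ne_zero _ hn22))
  have hd2 : (d - n00) * (d + n00) = 0 := by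
    have : n22 * (d ^ 2 - n22 ^ 2) = 0 := by linear_combination c4 - c3
    have := (mul_eq_zero.mp this).resolve_left hn22
    rw [hs] at this
    linear_combination this
  refine ⟨n00, ?_⟩
  rcases mul_eq_zero.mp hd2 with hdd | hdd
  · left
    have hd' : d = n00 := by linear_combination hdd
    ext i j
    fin_cases i <;> fin_cases j <;>
      simp [h01, h11, h21, hd', hn02, hn10, hn12, hn20, hs, n00, n02, n10, n12, n20, n22] <;> first | rfl | assumption
  · right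
    have hd' : d = -n00 := by linear_combination hdd
    ext i j
    fin_cases i <;> fin_cases j <;>
      simp [h01, h11, h21, hd', hn02, hn10, hn12, hn20, hs, n00, n02, n10, n12, n20, n22] <;> first | rfl | assumption


/-- Weierstrass coordinates for the Hesse cubic at the flex `(0,1,-1)` -/
noncomputable def Pk (k : ℂ) : Matrix (Fin 3) (Fin 3) ℂ :=
  !![1, 0, 6 * k ^ 2; -k / 2, 1, k ^ 3 - 4; -k / 2, -1, k ^ 3 - 4]

/-- the transposition of the last two coordinates -/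
def tauM : Matrix (Fin 3) (Fin 3) ℂ := !![1, 0, 0; 0, 0, 1; 0, 1, 0]

theorem hesse_Pk (k : ℂ) (X : Fin 3 → ℂ) :
    eval ((Pk k).mulVec X) (HesseCubic.form k) =
      (k ^ 3 - 1) * wei (-1) 24 (12 * k * (k ^ 3 + 8)) (-16 * (k ^ 6 - 20 * k ^ 3 - 8))
        (X 0) (X 1) (X 2) := by
  rw [hesse_eval]
  simp [Pk, Matrix.mulVec, dotProduct, Fin.sum_univ_three, wei]
  ring

theorem Pk_det (k : ℂ) : (Pk k).det = 8 * (k ^ 3 - 1) := by
  rw [Pk, Matrix.det_fin_three]
  simp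
  ring

theorem Pk_e1 (k : ℂ) : (Pk k).mulVec ![0, 1, 0] = ![0, 1, -1] := by
  funext i
  fin_cases i <;> simp [Pk, Matrix.mulVec, dotProduct, Fin.sum_univ_three]

theorem tau_Pk (k : ℂ) : tauM * Pk k = Pk k * !![1, 0, 0; 0, -1, 0; 0, 0, 1] := by
  ext i j
  fin_cases i <;> fin_cases j <;> simp [tauM, Pk, Matrix.mul_apply, Fin.sum_univ_three]

/-- Stabiliser of the flex `(0,1,-1)` of a generic Hesse cubic. -/
theorem hesse_stab (k : ℂ) (hk1 : k ^ 3 ≠ 1) (hk0 : k ≠ 0) (hk8 : k ^ 3 + 8 ≠ 0)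
    (hk6 : k ^ 6 - 20 * k ^ 3 - 8 ≠ 0)
    (E : Matrix (Fin 3) (Fin 3) ℂ) (hE : E.det ≠ 0) (c d : ℂ)
    (hEO : E.mulVec ![0, 1, -1] = d • ![0, 1, -1])
    (hEh : ∀ X : Fin 3 → ℂ, eval (E.mulVec X) (HesseCubic.form k) = c * eval X (HesseCubic.form k)) :
    ∃ s : ℂ, E = s • (1 : Matrix (Fin 3) (Fin 3) ℂ) ∨ E = s • tauM := by
  have hκ : k ^ 3 - 1 ≠ 0 := fun h => hk1 (by linear_combination h)
  have hPdet : (Pk k).det ≠ 0 := by
    rw [Pk_det]; exact mul_ne_zero (by norm_num) hκ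
  have hPu : IsUnit (Pk k).det := isUnit_iff_ne_zero.mpr hPdet
  set P := Pk k with hP
  set N : Matrix (Fin 3) (Fin 3) ℂ := P⁻¹ * E * P with hN
  have hNdet : N.det ≠ 0 := by
    rw [hN, Matrix.det_mul, Matrix.det_mul, Matrix.det_nonsing_inv]
    exact mul_ne_zero (mul_ne_zero (by simpa using hPdet) hE) hPdet
  have hNcol : N.mulVec ![0, 1, 0] = d • ![0, 1, 0] := by
    rw [hN, ← Matrix.mulVec_mulVec, ← Matrix.mulVec_mulVec, hP, Pk_e1, hEO, Matrix.mulVec_smul,
      ← Pk_e1 k, inv_mulVec_cancel _ hPu]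
  have hNG : ∀ X : Fin 3 → ℂ,
      wei (-1) 24 (12 * k * (k ^ 3 + 8)) (-16 * (k ^ 6 - 20 * k ^ 3 - 8))
        (N.mulVec X 0) (N.mulVec X 1) (N.mulVec X 2) =
      c * wei (-1) 24 (12 * k * (k ^ 3 + 8)) (-16 * (k ^ 6 - 20 * k ^ 3 - 8)) (X 0) (X 1) (X 2) := by
    intro X
    have h1 := hesse_Pk k (N.mulVec X)
    have h2 : P.mulVec (N.mulVec X) = E.mulVec (P.mulVec X) := by
      rw [hN, Matrix.mulVec_mulVec, Matrix.mulVec_mulVec]
      congr 1
      rw [← Matrix.mul_assoc, ← Matrix.mul_assoc, Matrix.mul_nonsing_inv _ hPu, Matrix.one_mul]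
    rw [← hP, h2, hEh, hesse_Pk] at h1
    have : (k ^ 3 - 1) * (c * wei (-1) 24 (12 * k * (k ^ 3 + 8)) (-16 * (k ^ 6 - 20 * k ^ 3 - 8))
        (X 0) (X 1) (X 2)) = (k ^ 3 - 1) * wei (-1) 24 (12 * k * (k ^ 3 + 8))
        (-16 * (k ^ 6 - 20 * k ^ 3 - 8)) (N.mulVec X 0) (N.mulVec X 1) (N.mulVec X 2) := by
      linear_combination h1
    exact (mul_left_cancel₀ hκ this).symm
  obtain ⟨s, hs⟩ := wei_stab (-1) 24 (12 * k * (k ^ 3 + 8)) (-16 * (k ^ 6 - 20 * k ^ 3 - 8))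
    (by norm_num) (by norm_num) (mul_ne_zero (mul_ne_zero (by norm_num) hk0) hk8)
    (mul_ne_zero (by norm_num) hk6) N hNdet c d hNcol hNG
  have hEN : E = P * N * P⁻¹ := by
    rw [hN]
    have e1 : P * P⁻¹ = 1 := Matrix.mul_nonsing_inv _ hPu
    calc E = (P * P⁻¹) * E * (P * P⁻¹) := by rw [e1]; simp
      _ = P * (P⁻¹ * E * P) * P⁻¹ := by simp only [Matrix.mul_assoc]
  refine ⟨s, ?_⟩
  rcases hs with hs | hs
  · left
    rw [hEN, hs, Matrix.mul_smul, Matrix.smul_mul, Matrix.mul_one, Matrix.mul_nonsing_inv _ hPu]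
  · right
    have ht := tau_Pk k
    rw [← hP] at ht
    rw [hEN, hs, Matrix.mul_smul, Matrix.smul_mul, ← ht, Matrix.mul_assoc,
      Matrix.mul_nonsing_inv _ hPu, Matrix.mul_one]

end Groth.Agent.Lib.Helper27.Cubic
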