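import Mathlib
import Groth.Agent.Lib.Helper27.CubicHesseAut
import Groth.Agent.S18404

/-!
# The 54 unimodular automorphisms of a generic Hesse cubic
-/

namespace Groth.Agent.Lib.Helper27.Cubic

open MvPolynomial

/-- the nine monomial matrices generating the translations of the Hesse cubic -/
noncomputable def Bmat (j : Fin 3) (γ : ℂ) : Matrix (Fin 3) (Fin 3) ℂ :=
  ![!![1, 0, 0; 0, γ, 0; 0, 0, γ ^ 2], !![0, 0, γ ^ 2; 1, 0, 0; 0, γ, 0],
    !![0, γ, 0; 0, 0, γ ^ 2; 1, 0, 0]] j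

theorem Bmat_hesse (k γ : ℂ) (hγ : γ ^ 3 = 1) (j : Fin 3) (X : Fin 3 → ℂ) :
    eval ((Bmat j γ).mulVec X) (HesseCubic.form k) = eval X (HesseCubic.form k) := by
  simp only [hesse_eval]
  fin_cases j
  · simp [Bmat, Matrix.mulVec, dotProduct, Fin.sum_univ_three]
    linear_combination (X 1 ^ 3 + X 2 ^ 3 * (γ ^ 3 + 1) - 3 * k * X 0 * X 1 * X 2) * hγ
  · simp [Bmat, Matrix.mulVec, dotProduct, Fin.sum_univ_three]
    linear_combination (X 1 ^ 3 + X 2 ^ 3 * (γ ^ 3 + 1) - 3 * k * X 0 * X 1 * X 2) * hγ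
  · simp [Bmat, Matrix.mulVec, dotProduct, Fin.sum_univ_three]
    linear_combination (X 1 ^ 3 + X 2 ^ 3 * (γ ^ 3 + 1) - 3 * k * X 0 * X 1 * X 2) * hγ

theorem Bmat_det (γ : ℂ) (hγ : γ ^ 3 = 1) (j : Fin 3) : (Bmat j γ).det = 1 := by
  fin_cases j
  · simp [Bmat, Matrix.det_fin_three]
    linear_combination hγ
  · simp [Bmat, Matrix.det_fin_three]
    linear_combination hγ
  · simp [Bmat, Matrix.det_fin_three]
    linear_combination hγ

theorem Bmat_O (γ c : ℂ) (hγ : γ ^ 3 = 1) (hc : c ≠ 0) (p : Fin 3 → ℂ)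
    (hp : p = c • ![0, 1, -γ] ∨ p = c • ![-γ, 0, 1] ∨ p = c • ![1, -γ, 0]) :
    ∃ j : Fin 3, ∃ d : ℂ, d ≠ 0 ∧ (Bmat j γ).mulVec ![0, 1, -1] = d • p := by
  have hγ0 : γ ≠ 0 := by
    rintro rfl
    norm_num at hγ
  rcases hp with hp | hp | hp
  · refine ⟨0, γ / c, div_ne_zero hγ0 hc, ?_⟩
    rw [hp]
    funext i
    fin_cases i <;> simp [Bmat, Matrix.mulVec, dotProduct, Fin.sum_univ_three] <;> field_simp
  · refine ⟨1, γ / c, div_ne_zero hγ0 hc, ?_⟩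
    rw [hp]
    funext i
    fin_cases i <;> simp [Bmat, Matrix.mulVec, dotProduct, Fin.sum_univ_three] <;> field_simp
  · refine ⟨2, γ / c, div_ne_zero hγ0 hc, ?_⟩
    rw [hp]
    funext i
    fin_cases i <;> simp [Bmat, Matrix.mulVec, dotProduct, Fin.sum_univ_three] <;> field_simp

theorem tauM_hesse (k : ℂ) (X : Fin 3 → ℂ) :
    eval (tauM.mulVec X) (HesseCubic.form k) = eval X (HesseCubic.form k) := by
  simp only [hesse_eval]
  simp [tauM, Matrix.mulVec, dotProduct, Fin.sum_univ_three]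
  ring

theorem tauM_det : tauM.det = -1 := by
  simp [tauM, Matrix.det_fin_three]

theorem tauM_sq : tauM * tauM = 1 := by
  ext i j
  fin_cases i <;> fin_cases j <;> simp [tauM, Matrix.mul_apply, Fin.sum_univ_three]

/-- every automorphism of a generic Hesse cubic is monomial of an explicit shape -/
theorem hesse_aut_form (k : ℂ) (hk1 : k ^ 3 ≠ 1) (hk0 : k ≠ 0) (hk8 : k ^ 3 + 8 ≠ 0)
    (hk6 : k ^ 6 - 20 * k ^ 3 - 8 ≠ 0)
    (A : Matrix (Fin 3) (Fin 3) ℂ) (hA : A.det ≠ 0) (c : ℂ)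
    (hAh : ∀ X : Fin 3 → ℂ, eval (A.mulVec X) (HesseCubic.form k) = c * eval X (HesseCubic.form k)) :
    ∃ (j : Fin 3) (γ s : ℂ) (v : Fin 2), γ ^ 3 = 1 ∧ A = s • (Bmat j γ * tauM ^ (v : ℕ)) := by
  have hAu : IsUnit A.det := isUnit_iff_ne_zero.mpr hA
  have hO0 : (![0, 1, -1] : Fin 3 → ℂ) ≠ 0 := by
    intro h
    have := congrFun h 1
    simp at this
  have hhO : eval ![0, 1, -1] (HesseCubic.form k) = 0 := by
    rw [hesse_eval]; simp; norm_num
  have hflexO : IsFlexPt (HesseCubic.form k) ![0, 1, -1] :=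
    (Groth.Agent.S18404.result k hk1 _ hO0 hhO).mpr ⟨1, 1, by norm_num, Or.inl (by simp)⟩
  obtain ⟨h1, h2, h3⟩ := flex_transfer' (HesseCubic.form k) (HesseCubic.form k) A hAu c hAh _ hO0 hhO
    hflexO
  obtain ⟨γ, c', hγ, hcase⟩ := (Groth.Agent.S18404.result k hk1 _ h1 h2).mp h3
  have hc' : c' ≠ 0 := by
    rintro rfl
    apply h1
    rcases hcase with h | h | h <;> simpa using h
  obtain ⟨j, d, hd, hBO⟩ := Bmat_O γ c' hγ hc' _ hcase
  set B := Bmat j γ with hB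
  have hBdet : B.det = 1 := Bmat_det γ hγ j
  have hBu : IsUnit B.det := by rw [hBdet]; exact isUnit_one
  have hEdet : (B⁻¹ * A).det ≠ 0 := by
    rw [Matrix.det_mul, Matrix.det_nonsing_inv, hBdet]
    simpa using hA
  have hEO : (B⁻¹ * A).mulVec ![0, 1, -1] = (1 / d) • ![0, 1, -1] := by
    rw [← Matrix.mulVec_mulVec]
    have : A.mulVec ![0, 1, -1] = (1 / d) • B.mulVec ![0, 1, -1] := by
      rw [hBO, smul_smul]; field_simp; simp
    rw [this, Matrix.mulVec_smul, inv_mulVec_cancel B hBu]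
  have hEh : ∀ X : Fin 3 → ℂ, eval ((B⁻¹ * A).mulVec X) (HesseCubic.form k) =
      c * eval X (HesseCubic.form k) := by
    intro X
    rw [← Matrix.mulVec_mulVec, ← Bmat_hesse k γ hγ j (B⁻¹.mulVec (A.mulVec X)), ← hB,
      mulVec_inv_cancel B hBu, hAh]
  obtain ⟨s, hs⟩ := hesse_stab k hk1 hk0 hk8 hk6 (B⁻¹ * A) hEdet c (1 / d) hEO hEh
  have hAB : A = B * (B⁻¹ * A) := by
    rw [← Matrix.mul_assoc, Matrix.mul_nonsing_inv _ hBu, Matrix.one_mul]
  rcases hs with hs | hs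
  · refine ⟨j, γ, s, 0, hγ, ?_⟩
    rw [hAB, hs]
    simp only [Fin.val_zero, pow_zero, Matrix.mul_smul, Matrix.mul_one]
    rfl
  · refine ⟨j, γ, s, 1, hγ, ?_⟩
    rw [hAB, hs]
    simp only [Fin.val_one, pow_one, Matrix.mul_smul]
    rfl


theorem cube_root_cases (ω x : ℂ) (hω : ω ^ 2 + ω + 1 = 0) (hx : x ^ 3 = 1) :
    ∃ u : Fin 3, x = ω ^ (u : ℕ) := by
  have h : (x - 1) * (x - ω) * (x - ω ^ 2) = 0 := by
    linear_combination hx + (x - 1) * (-x + ω - 1) * hω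
  rcases mul_eq_zero.mp h with h | h
  · rcases mul_eq_zero.mp h with h | h
    · exact ⟨0, by simp; linear_combination h⟩
    · exact ⟨1, by simp; linear_combination h⟩
  · exact ⟨2, by simp; linear_combination h⟩

theorem omega_facts (ω : ℂ) (hω : ω ^ 2 + ω + 1 = 0) :
    ω ≠ 0 ∧ ω ≠ 1 ∧ ω ^ 2 ≠ 1 ∧ ω ^ 2 ≠ ω ∧ ω ^ 3 = 1 := by
  have h0 : ω ≠ 0 := by rintro rfl; norm_num at hω
  have h1 : ω ≠ 1 := by rintro rfl; norm_num at hω
  refine ⟨h0, h1, ?_, ?_, by linear_combination (ω - 1) * hω⟩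
  · intro h
    have : ω = -2 := by linear_combination hω - h
    rw [this] at h
    norm_num at h
  · intro h
    have : ω * (ω - 1) = 0 := by linear_combination h
    rcases mul_eq_zero.mp this with h' | h'
    · exact h0 h'
    · exact h1 (by linear_combination h')

theorem omega_pow_inj (ω : ℂ) (hω : ω ^ 2 + ω + 1 = 0) (u u' : Fin 3)
    (h : ω ^ (u : ℕ) = ω ^ (u' : ℕ)) : u = u' := by
  obtain ⟨h0, h1, h2, h3, -⟩ := omega_facts ω hω
  fin_cases u <;> fin_cases u' <;>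
    simp only [Fin.zero_eta, Fin.mk_one, Fin.reduceFinMk, Fin.isValue, Fin.val_zero, Fin.val_one,
      Fin.val_two, pow_zero, pow_one] at h
  · rfl
  · exact absurd h.symm h1
  · exact absurd h.symm h2
  · exact absurd h h1
  · rfl
  · exact absurd h.symm h3
  · exact absurd h h2
  · exact absurd h h3
  · rfl

theorem neg_one_pow_inj (v v' : Fin 2) (h : (-1 : ℂ) ^ (v : ℕ) = (-1) ^ (v' : ℕ)) : v = v' := by
  fin_cases v <;> fin_cases v' <;> simp at h ⊢ <;> norm_num at h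

/-- the explicit family of 54 matrices -/
noncomputable def autF (ω : ℂ) (a : Fin 3 × Fin 3 × Fin 3 × Fin 2) : Matrix (Fin 3) (Fin 3) ℂ :=
  ((-1) ^ (a.2.2.2 : ℕ) * ω ^ (a.2.2.1 : ℕ)) •
    (Bmat a.1 (ω ^ (a.2.1 : ℕ)) * tauM ^ (a.2.2.2 : ℕ))

theorem tauM_pow_det (v : Fin 2) : (tauM ^ (v : ℕ)).det = (-1) ^ (v : ℕ) := by
  rw [Matrix.det_pow, tauM_det]

theorem tauM_pow_hesse (k : ℂ) (v : Fin 2) (X : Fin 3 → ℂ) :
    eval ((tauM ^ (v : ℕ)).mulVec X) (HesseCubic.form k) = eval X (HesseCubic.form k) := by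
  fin_cases v
  · simp
  · simp [tauM_hesse]

theorem tauM_pow_e0 (v : Fin 2) : (tauM ^ (v : ℕ)).mulVec ![1, 0, 0] = ![1, 0, 0] := by
  fin_cases v
  · simp
  · simp only [Fin.mk_one, Fin.val_one, pow_one]
    funext i
    fin_cases i <;> simp [tauM, Matrix.mulVec, dotProduct, Fin.sum_univ_three]

theorem tauM_pow_sq (v : Fin 2) : tauM ^ (v : ℕ) * tauM ^ (v : ℕ) = 1 := by
  fin_cases v
  · simp
  · simp [tauM_sq]

theorem Bmat_e0 (j : Fin 3) (γ : ℂ) : (Bmat j γ).mulVec ![1, 0, 0] = Pi.single j 1 := by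
  funext i
  fin_cases j <;> fin_cases i <;> simp [Bmat, Matrix.mulVec, dotProduct, Fin.sum_univ_three]

theorem Bmat_inj (j : Fin 3) (γ γ' : ℂ) (h : Bmat j γ = Bmat j γ') : γ = γ' := by
  fin_cases j
  · have := congrFun (congrFun h 1) 1
    simpa [Bmat] using this
  · have := congrFun (congrFun h 2) 1
    simpa [Bmat] using this
  · have := congrFun (congrFun h 0) 1
    simpa [Bmat] using this

theorem hesse_smul (k s : ℂ) (X : Fin 3 → ℂ) :
    eval (s • X) (HesseCubic.form k) = s ^ 3 * eval X (HesseCubic.form k) := by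
  simp only [hesse_eval, Pi.smul_apply, smul_eq_mul]
  ring

theorem autF_scalar_ne_zero (ω : ℂ) (hω : ω ^ 2 + ω + 1 = 0) (u : Fin 3) (v : Fin 2) :
    ((-1 : ℂ) ^ (v : ℕ) * ω ^ (u : ℕ)) ≠ 0 :=
  mul_ne_zero (pow_ne_zero _ (by norm_num)) (pow_ne_zero _ (omega_facts ω hω).1)

theorem autF_scalar_cube (ω : ℂ) (hω : ω ^ 2 + ω + 1 = 0) (u : Fin 3) (v : Fin 2) :
    ((-1 : ℂ) ^ (v : ℕ) * ω ^ (u : ℕ)) ^ 3 = (-1) ^ (v : ℕ) := by
  have h3 := (omega_facts ω hω).2.2.2.2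
  rw [mul_pow, ← pow_mul, ← pow_mul, mul_comm (u : ℕ) 3, pow_mul ω, h3, one_pow, mul_one,
    mul_comm (v : ℕ) 3, pow_mul]
  norm_num

theorem autF_det (ω : ℂ) (hω : ω ^ 2 + ω + 1 = 0) (a : Fin 3 × Fin 3 × Fin 3 × Fin 2) :
    (autF ω a).det = 1 := by
  obtain ⟨j, g, u, v⟩ := a
  have h3 := (omega_facts ω hω).2.2.2.2
  have hγ : (ω ^ (g : ℕ)) ^ 3 = 1 := by rw [← pow_mul, mul_comm, pow_mul, h3, one_pow]
  simp only [autF, Matrix.det_smul, Fintype.card_fin, Matrix.det_mul, Bmat_det _ hγ, tauM_pow_det,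
    autF_scalar_cube ω hω, one_mul]
  rw [← mul_pow]
  norm_num

theorem autF_hesse (ω : ℂ) (hω : ω ^ 2 + ω + 1 = 0) (k : ℂ) (a : Fin 3 × Fin 3 × Fin 3 × Fin 2)
    (X : Fin 3 → ℂ) :
    eval ((autF ω a).mulVec X) (HesseCubic.form k) =
      (-1) ^ (a.2.2.2 : ℕ) * eval X (HesseCubic.form k) := by
  obtain ⟨j, g, u, v⟩ := a
  have h3 := (omega_facts ω hω).2.2.2.2
  have hγ : (ω ^ (g : ℕ)) ^ 3 = 1 := by rw [← pow_mul, mul_comm, pow_mul, h3, one_pow]
  simp only [autF, Matrix.smul_mulVec, hesse_smul, autF_scalar_cube ω hω]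
  rw [← Matrix.mulVec_mulVec, Bmat_hesse k _ hγ, tauM_pow_hesse]

theorem autF_injective (ω : ℂ) (hω : ω ^ 2 + ω + 1 = 0) : Function.Injective (autF ω) := by
  rintro ⟨j, g, u, v⟩ ⟨j', g', u', v'⟩ h
  have hcol := congrArg (fun M : Matrix (Fin 3) (Fin 3) ℂ => M.mulVec ![1, 0, 0]) h
  simp only [autF, Matrix.smul_mulVec, ← Matrix.mulVec_mulVec, tauM_pow_e0, Bmat_e0] at hcol
  have hs0 := autF_scalar_ne_zero ω hω u v
  have hjj : j = j' := by
    by_contra hne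
    have := congrFun hcol j
    rw [Pi.smul_apply, Pi.smul_apply, Pi.single_eq_same, Pi.single_eq_of_ne hne, smul_eq_mul,
      smul_eq_mul, mul_one, mul_zero] at this
    exact hs0 this
  subst hjj
  have hss : (-1 : ℂ) ^ (v : ℕ) * ω ^ (u : ℕ) = (-1) ^ (v' : ℕ) * ω ^ (u' : ℕ) := by
    have := congrFun hcol j
    simpa using this
  have hvv : v = v' := by
    apply neg_one_pow_inj
    rw [← autF_scalar_cube ω hω u v, ← autF_scalar_cube ω hω u' v', hss]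
  subst hvv
  have huu : u = u' := by
    apply omega_pow_inj ω hω
    exact mul_left_cancel₀ (pow_ne_zero _ (by norm_num : (-1 : ℂ) ≠ 0)) hss
  subst huu
  have hM : Bmat j (ω ^ (g : ℕ)) * tauM ^ (v : ℕ) = Bmat j (ω ^ (g' : ℕ)) * tauM ^ (v : ℕ) := by
    simp only [autF] at h
    exact smul_right_injective _ hs0 h
  have hB : Bmat j (ω ^ (g : ℕ)) = Bmat j (ω ^ (g' : ℕ)) := by
    have := congrArg (fun M => M * tauM ^ (v : ℕ)) hM
    simpa only [Matrix.mul_assoc, tauM_pow_sq, Matrix.mul_one] using this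
  have hgg : g = g' := omega_pow_inj ω hω _ _ (Bmat_inj j _ _ hB)
  subst hgg
  rfl


theorem autF_surj (ω : ℂ) (hω : ω ^ 2 + ω + 1 = 0) (k : ℂ) (hk1 : k ^ 3 ≠ 1) (hk0 : k ≠ 0)
    (hk8 : k ^ 3 + 8 ≠ 0) (hk6 : k ^ 6 - 20 * k ^ 3 - 8 ≠ 0)
    (A : Matrix (Fin 3) (Fin 3) ℂ) (hdet : A.det = 1) (c : ℂ)
    (hAh : ∀ X : Fin 3 → ℂ, eval (A.mulVec X) (HesseCubic.form k) = c * eval X (HesseCubic.form k)) :
    ∃ a, autF ω a = A := by
  obtain ⟨j, γ, s, v, hγ, hA⟩ := hesse_aut_form k hk1 hk0 hk8 hk6 A (by rw [hdet]; exact one_ne_zero)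
    c hAh
  have hdet' : s ^ 3 * (-1) ^ (v : ℕ) = 1 := by
    have := hdet
    rw [hA, Matrix.det_smul, Fintype.card_fin, Matrix.det_mul, Bmat_det γ hγ, tauM_pow_det,
      one_mul] at this
    exact this
  obtain ⟨g, hg⟩ := cube_root_cases ω γ hω hγ
  have hv3 : ((-1 : ℂ) ^ (v : ℕ)) ^ 3 = (-1) ^ (v : ℕ) := by
    fin_cases v <;> norm_num
  have hv2 : (-1 : ℂ) ^ (v : ℕ) * (-1) ^ (v : ℕ) = 1 := by
    fin_cases v <;> norm_num
  have hs' : ((-1) ^ (v : ℕ) * s) ^ 3 = 1 := by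
    rw [mul_pow, hv3]; linear_combination hdet'
  obtain ⟨u, hu⟩ := cube_root_cases ω _ hω hs'
  refine ⟨(j, g, u, v), ?_⟩
  simp only [autF]
  rw [hA, ← hg, ← hu, ← mul_assoc, hv2, one_mul]

/-- the generic Hesse cubic has exactly 54 unimodular linear automorphisms -/
theorem hesse_aut_card :
    ∃ T : Finset ℂ, ∀ k : ℂ, k ∉ T →
      Nat.card {A : Matrix (Fin 3) (Fin 3) ℂ // A.det = 1 ∧
        ∃ c : ℂ, aeval (fun i : Fin 3 => ∑ j : Fin 3, C (A i j) * X j) (HesseCubic.form k) =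
          C c * HesseCubic.form k} = 54 := by
  obtain ⟨ω, hω⟩ : ∃ ω : ℂ, ω ^ 2 + ω + 1 = 0 := by
    obtain ⟨s, hs⟩ := IsAlgClosed.exists_eq_mul_self (discrim (1 : ℂ) 1 1)
    obtain ⟨x, hx⟩ := exists_quadratic_eq_zero one_ne_zero ⟨s, hs⟩
    exact ⟨x, by linear_combination hx⟩
  let Q : Polynomial ℂ := (Polynomial.X ^ 3 - 1) * Polynomial.X * (Polynomial.X ^ 3 + 8) *
    (Polynomial.X ^ 6 - 20 * Polynomial.X ^ 3 - 8)
  have hQ : Q ≠ 0 := by
    intro h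
    have := congrArg (Polynomial.eval 2) h
    norm_num [Q] at this
  refine ⟨Q.roots.toFinset, fun k hk => ?_⟩
  have hQk : Q.eval k ≠ 0 := by
    intro h
    apply hk
    rw [Multiset.mem_toFinset, Polynomial.mem_roots hQ]
    exact h
  have hQk' : (k ^ 3 - 1) * k * (k ^ 3 + 8) * (k ^ 6 - 20 * k ^ 3 - 8) ≠ 0 := by
    simpa [Q] using hQk
  have hk6 : k ^ 6 - 20 * k ^ 3 - 8 ≠ 0 := right_ne_zero_of_mul hQk'
  have h3 := left_ne_zero_of_mul hQk'
  have hk8 : k ^ 3 + 8 ≠ 0 := right_ne_zero_of_mul h3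
  have h2 := left_ne_zero_of_mul h3
  have hk0 : k ≠ 0 := right_ne_zero_of_mul h2
  have hk1 : k ^ 3 ≠ 1 := fun h => (left_ne_zero_of_mul h2) (by linear_combination h)
  have hP : ∀ a, (autF ω a).det = 1 ∧
      ∃ c : ℂ, aeval (fun i : Fin 3 => ∑ j : Fin 3, C (autF ω a i j) * X j) (HesseCubic.form k) =
        C c * HesseCubic.form k := by
    intro a
    refine ⟨autF_det ω hω a, (-1) ^ (a.2.2.2 : ℕ), ?_⟩
    rw [subst_eq_iff]
    intro X
    rw [autF_hesse ω hω, map_mul, eval_C]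
  let e : (Fin 3 × Fin 3 × Fin 3 × Fin 2) ≃
      {A : Matrix (Fin 3) (Fin 3) ℂ // A.det = 1 ∧
        ∃ c : ℂ, aeval (fun i : Fin 3 => ∑ j : Fin 3, C (A i j) * X j) (HesseCubic.form k) =
          C c * HesseCubic.form k} :=
    Equiv.ofBijective (fun a => ⟨autF ω a, hP a⟩) ⟨by
      intro a b hab
      exact autF_injective ω hω (congrArg Subtype.val hab), by
      rintro ⟨A, hdet, c, hc⟩
      rw [subst_eq_iff] at hc
      have hc' : ∀ X : Fin 3 → ℂ, eval (A.mulVec X) (HesseCubic.form k) =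
          c * eval X (HesseCubic.form k) := by
        intro X; rw [hc, map_mul, eval_C]
      obtain ⟨a, ha⟩ := autF_surj ω hω k hk1 hk0 hk8 hk6 A hdet c hc'
      exact ⟨a, Subtype.ext ha⟩⟩
  rw [← Nat.card_congr e, Nat.card_eq_fintype_card]
  simp [Fintype.card_prod]

end Groth.Agent.Lib.Helper27.Cubic
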