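import Mathlib
import Groth.Agent.Lib.Helper27.CubicBasic
import Groth.Agent.Lib.Helper27.BinaryCubic

/-!
# Cubic surfaces: Eckardt points and their involutions
-/

namespace Groth.Agent.Lib.Helper27.Cubic

open MvPolynomial

/-- Eckardt point predicate (as in the statements) -/
def IsEck (f : MvPolynomial (Fin 4) ℂ) (e : Fin 4 → ℂ) : Prop :=
  ∃ U : Fin 3 → Submodule ℂ (Fin 4 → ℂ), Function.Injective U ∧
    ∀ i : Fin 3, Module.finrank ℂ ↥(U i) = 2 ∧ e ∈ U i ∧ ∀ u ∈ U i, eval u f = 0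

/-- Eckardt involution predicate (as in the statements) -/
def IsEckInv (f : MvPolynomial (Fin 4) ℂ) (A : Matrix (Fin 4) (Fin 4) ℂ) (e : Fin 4 → ℂ) : Prop :=
  A * A = 1 ∧ Module.finrank ℂ ↥(LinearMap.ker (Matrix.toLin' A - LinearMap.id)) = 3 ∧
    A.mulVec e = -e ∧ ∃ c : ℂ, aeval (fun i : Fin 4 => ∑ j : Fin 4, C (A i j) * X j) f = C c * f

/-- vector data of an Eckardt point -/
def EckData (f : MvPolynomial (Fin 4) ℂ) (e : Fin 4 → ℂ) (u : Fin 3 → Fin 4 → ℂ) : Prop :=
  (∀ i, ∀ s t : ℂ, eval (s • e + t • u i) f = 0) ∧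
    ∀ i j, i ≠ j → ∀ a b c : ℂ, a • e + b • u i + c • u j = 0 → a = 0 ∧ b = 0 ∧ c = 0

theorem span_pair_eq_of_finrank {e u : Fin 4 → ℂ} {U : Submodule ℂ (Fin 4 → ℂ)}
    (he : e ≠ 0) (heU : e ∈ U) (huU : u ∈ U) (hu : u ∉ Submodule.span ℂ {e})
    (hU : Module.finrank ℂ ↥U = 2) : U = Submodule.span ℂ {e, u} := by
  have hli : LinearIndependent ℂ ![e, u] := by
    rw [LinearIndependent.pair_iff' he]
    intro a ha
    apply hu
    rw [Submodule.mem_span_singleton]
    exact ⟨a, ha⟩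
  have hfr : Module.finrank ℂ ↥(Submodule.span ℂ {e, u}) = 2 := by
    have := finrank_span_eq_card hli
    have hr : Set.range ![e, u] = {e, u} := by
      simp [Matrix.range_cons, Set.pair_comm]
    rw [hr] at this
    simpa using this
  symm
  apply Submodule.eq_of_le_of_finrank_eq
  · rw [Submodule.span_le]
    rintro x (rfl | rfl)
    · exact heU
    · exact huU
  · rw [hfr, hU]

theorem eckData_of_isEck {f : MvPolynomial (Fin 4) ℂ} {e : Fin 4 → ℂ} (he : e ≠ 0)
    (h : IsEck f e) : ∃ u, EckData f e u := by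
  obtain ⟨U, hinj, hU⟩ := h
  have hex : ∀ i, ∃ u, u ∈ U i ∧ u ∉ Submodule.span ℂ {e} := by
    intro i
    by_contra hcon
    push Not at hcon
    have hle : U i ≤ Submodule.span ℂ {e} := fun x hx => hcon x hx
    have h1 := Submodule.finrank_mono hle
    rw [(hU i).1, finrank_span_singleton he] at h1
    norm_num at h1
  choose u hu using hex
  have hspan : ∀ i, U i = Submodule.span ℂ {e, u i} := fun i =>
    span_pair_eq_of_finrank he (hU i).2.1 (hu i).1 (hu i).2 (hU i).1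
  refine ⟨u, ?_, ?_⟩
  · intro i s t
    apply (hU i).2.2
    exact (U i).add_mem ((U i).smul_mem s (hU i).2.1) ((U i).smul_mem t (hu i).1)
  · intro i j hij a b c habc
    have hc : c = 0 := by
      by_contra hc
      have huj : u j ∈ U i := by
        have : u j = (-a / c) • e + (-b / c) • u i := by
          have h1 : c • u j = -(a • e + b • u i) := by
            rw [eq_neg_iff_add_eq_zero, add_comm]; exact habc
          calc u j = (1 / c) • (c • u j) := by rw [smul_smul]; field_simp; simp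
            _ = (1 / c) • (-(a • e + b • u i)) := by rw [h1]
            _ = _ := by module
        rw [this]
        exact (U i).add_mem ((U i).smul_mem _ (hU i).2.1) ((U i).smul_mem _ (hu i).1)
      have hle : U j ≤ U i := by
        rw [hspan j, Submodule.span_le]
        rintro x (rfl | rfl)
        · exact (hU i).2.1
        · exact huj
      have := Submodule.eq_of_le_of_finrank_eq hle (by rw [(hU i).1, (hU j).1])
      exact hij (hinj this).symm
    subst hc
    have hb : b = 0 := by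
      by_contra hb
      apply (hu i).2
      rw [Submodule.mem_span_singleton]
      refine ⟨-a / b, ?_⟩
      have h1 : b • u i = -(a • e) := by
        rw [eq_neg_iff_add_eq_zero, add_comm]
        simpa using habc
      calc (-a / b) • e = (1 / b) • (-(a • e)) := by module
        _ = (1 / b) • (b • u i) := by rw [h1]
        _ = u i := by rw [smul_smul]; field_simp; simp
    subst hb
    refine ⟨?_, rfl, rfl⟩
    have : a • e = 0 := by simpa using habc
    exact (smul_eq_zero.mp this).resolve_right he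

theorem isEck_of_eckData {f : MvPolynomial (Fin 4) ℂ} {e : Fin 4 → ℂ} (he : e ≠ 0)
    {u : Fin 3 → Fin 4 → ℂ} (h : EckData f e u) : IsEck f e := by
  obtain ⟨hzero, hind⟩ := h
  have hnotin : ∀ i, u i ∉ Submodule.span ℂ {e} := by
    intro i hmem
    rw [Submodule.mem_span_singleton] at hmem
    obtain ⟨a, ha⟩ := hmem
    obtain ⟨j, hj⟩ : ∃ j : Fin 3, i ≠ j := by
      fin_cases i
      · exact ⟨1, by decide⟩
      · exact ⟨0, by decide⟩
      · exact ⟨0, by decide⟩
    have := hind i j hj a (-1) 0 (by rw [ha]; module)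
    norm_num at this
  refine ⟨fun i => Submodule.span ℂ {e, u i}, ?_, ?_⟩
  · intro i j hij
    by_contra hne
    have huj : u j ∈ Submodule.span ℂ {e, u i} := by
      change u j ∈ (fun i => Submodule.span ℂ {e, u i}) i
      rw [hij]
      exact Submodule.subset_span (by simp)
    rw [Submodule.mem_span_pair] at huj
    obtain ⟨a, b, hab⟩ := huj
    have := hind i j hne a b (-1) (by rw [← hab]; module)
    norm_num at this
  · intro i
    refine ⟨?_, Submodule.subset_span (by simp), ?_⟩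
    · have hli : LinearIndependent ℂ ![e, u i] := by
        rw [LinearIndependent.pair_iff' he]
        intro a ha
        apply hnotin i
        rw [Submodule.mem_span_singleton]
        exact ⟨a, ha⟩
      have := finrank_span_eq_card hli
      have hr : Set.range ![e, u i] = {e, u i} := by
        simp [Matrix.range_cons, Set.pair_comm]
      rw [hr] at this
      simpa using this
    · intro x hx
      rw [Submodule.mem_span_pair] at hx
      obtain ⟨a, b, rfl⟩ := hx
      exact hzero i a b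


section basis4

/-- the matrix with columns `a b c d` -/
def cols4 (a b c d : Fin 4 → ℂ) : Matrix (Fin 4) (Fin 4) ℂ := Matrix.of fun i j => ![a, b, c, d] j i

theorem cols4_mulVec (a b c d x : Fin 4 → ℂ) :
    (cols4 a b c d).mulVec x = x 0 • a + x 1 • b + x 2 • c + x 3 • d := by
  funext i
  simp [cols4, Matrix.mulVec, dotProduct, Fin.sum_univ_four]
  ring

/-- linear independence of four vectors, spelled out -/
def Ind4 (a b c d : Fin 4 → ℂ) : Prop :=
  ∀ x y z w : ℂ, x • a + y • b + z • c + w • d = 0 → x = 0 ∧ y = 0 ∧ z = 0 ∧ w = 0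

theorem det_cols4_ne_zero {a b c d : Fin 4 → ℂ} (h : Ind4 a b c d) : (cols4 a b c d).det ≠ 0 := by
  intro hdet
  obtain ⟨x, hx, hx0⟩ := Matrix.exists_mulVec_eq_zero_iff.mpr hdet
  rw [cols4_mulVec] at hx0
  obtain ⟨h0, h1, h2, h3⟩ := h _ _ _ _ hx0
  apply hx
  funext i
  fin_cases i <;> assumption

theorem span_of_ind4 {a b c d : Fin 4 → ℂ} (h : Ind4 a b c d) (s : Fin 4 → ℂ) :
    ∃ x y z w : ℂ, s = x • a + y • b + z • c + w • d := by
  have hdet := det_cols4_ne_zero h
  refine ⟨((cols4 a b c d)⁻¹.mulVec s) 0, ((cols4 a b c d)⁻¹.mulVec s) 1,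
    ((cols4 a b c d)⁻¹.mulVec s) 2, ((cols4 a b c d)⁻¹.mulVec s) 3, ?_⟩
  rw [← cols4_mulVec, Matrix.mulVec_mulVec, Matrix.mul_nonsing_inv _ (isUnit_iff_ne_zero.mpr hdet),
    Matrix.one_mulVec]

end basis4

section Tlin
variable {n : ℕ} (g : MvPolynomial (Fin n) ℂ)

theorem T_single_mid (u w : Fin n → ℂ) (i : Fin n) :
    T g u (Pi.single i 1) w = ∑ a, ∑ c, ten g a i c * u a * w c := by
  unfold T
  refine Finset.sum_congr rfl fun a _ => ?_
  rw [Finset.sum_eq_single i]
  · simp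
  · intro b _ hb
    simp [Pi.single_apply, hb]
  · simp

theorem T_mid_eq_sum (u z w : Fin n → ℂ) :
    T g u z w = ∑ i, z i * T g u (Pi.single i 1) w := by
  simp_rw [T_single_mid, Finset.mul_sum]
  unfold T
  rw [Finset.sum_comm]
  refine Finset.sum_congr rfl fun b _ => Finset.sum_congr rfl fun a _ =>
    Finset.sum_congr rfl fun c _ => ?_
  ring

theorem T_right_eq_sum (u v z : Fin n → ℂ) :
    T g u v z = ∑ i, z i * T g u v (Pi.single i 1) := by
  rw [T_comm23, T_mid_eq_sum]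
  refine Finset.sum_congr rfl fun i _ => ?_
  rw [T_comm23]

/-- dot product form of `z ↦ T u v z` -/
theorem T_right_eq_dot (u v z : Fin n → ℂ) :
    T g u v z = (fun i => T g u v (Pi.single i 1)) ⬝ᵥ z := by
  rw [T_right_eq_sum]
  simp [dotProduct, mul_comm]

end Tlin

theorem dot_mul_dot_eq_zero {n : ℕ} (a b : Fin n → ℂ) (h : ∀ z : Fin n → ℂ, (a ⬝ᵥ z) * (b ⬝ᵥ z) = 0) :
    a = 0 ∨ b = 0 := by
  by_contra hcon
  push Not at hcon
  obtain ⟨ha, hb⟩ := hcon
  obtain ⟨i, hi⟩ : ∃ i, a i ≠ 0 := by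
    by_contra hc; push Not at hc; exact ha (funext hc)
  obtain ⟨j, hj⟩ : ∃ j, b j ≠ 0 := by
    by_contra hc; push Not at hc; exact hb (funext hc)
  have e1 : a ⬝ᵥ (Pi.single i 1) = a i := by simp
  have e2 : b ⬝ᵥ (Pi.single j 1) = b j := by simp
  have h1 := h (Pi.single i 1)
  have h2 := h (Pi.single j 1)
  have h3 := h (Pi.single i 1 + Pi.single j 1)
  rw [dotProduct_add, dotProduct_add] at h3
  rw [e1] at h1 h3
  rw [e2] at h2 h3
  have hb1 : b ⬝ᵥ (Pi.single i 1) = 0 := (mul_eq_zero.mp h1).resolve_left hi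
  have ha2 : a ⬝ᵥ (Pi.single j 1) = 0 := (mul_eq_zero.mp h2).resolve_right hj
  rw [hb1, ha2, add_zero, zero_add] at h3
  exact (mul_ne_zero hi hj) h3

variable {f : MvPolynomial (Fin 4) ℂ}

/-- no singular points, in terms of `T` -/
theorem sing4 (hf : f.IsHomogeneous 3)
    (hsm : ∀ v : Fin 4 → ℂ, v ≠ 0 → eval v f = 0 → ∃ i : Fin 4, eval v (pderiv i f) ≠ 0)
    (z : Fin 4 → ℂ) (hz : z ≠ 0) (h : ∀ d : Fin 4 → ℂ, T f z z d = 0) : False := by
  have hfz : eval z f = 0 := by rw [eval_eq_T hf, h]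
  obtain ⟨i, hi⟩ := hsm z hz hfz
  apply hi
  rw [eval_pderiv_eq_T hf, h, mul_zero]

theorem exists_ell_eq_one (hf : f.IsHomogeneous 3)
    (hsm : ∀ v : Fin 4 → ℂ, v ≠ 0 → eval v f = 0 → ∃ i : Fin 4, eval v (pderiv i f) ≠ 0)
    (e : Fin 4 → ℂ) (he : e ≠ 0) (hfe : eval e f = 0) : ∃ n : Fin 4 → ℂ, T f e e n = 1 := by
  obtain ⟨i, hi⟩ := hsm e he hfe
  rw [eval_pderiv_eq_T hf] at hi
  have h0 : T f e e (Pi.single i 1) ≠ 0 := fun h => hi (by rw [h, mul_zero])
  refine ⟨(1 / T f e e (Pi.single i 1)) • Pi.single i 1, ?_⟩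
  rw [T_smul_right]
  field_simp

/-- structure at a point: a linear form `μ` with `T(e,z,z) = μ(z) T(e,e,z)` -/
def HasStruct (f : MvPolynomial (Fin 4) ℂ) (e μ : Fin 4 → ℂ) : Prop :=
  μ ⬝ᵥ e = 2 ∧ ∀ z : Fin 4 → ℂ, T f e z z = (μ ⬝ᵥ z) * T f e e z


/-- the linear form `z ↦ 2 T(e,z,n) - T(e,e,z) T(e,n,n)` as a coefficient vector -/
noncomputable def muVec (f : MvPolynomial (Fin 4) ℂ) (e n : Fin 4 → ℂ) : Fin 4 → ℂ :=
  fun i => 2 * T f e (Pi.single i 1) n - T f e e (Pi.single i 1) * T f e n n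

theorem muVec_dot (e n z : Fin 4 → ℂ) :
    muVec f e n ⬝ᵥ z = 2 * T f e z n - T f e e z * T f e n n := by
  rw [T_mid_eq_sum f e z n, T_right_eq_sum f e e z]
  simp only [muVec, dotProduct, Finset.mul_sum, Finset.sum_mul, ← Finset.sum_sub_distrib]
  refine Finset.sum_congr rfl fun i _ => ?_
  ring

/-- An Eckardt point has the structure `T(e,z,z) = μ(z) T(e,e,z)`. -/
theorem eck_struct (hf : f.IsHomogeneous 3)
    (hsm : ∀ v : Fin 4 → ℂ, v ≠ 0 → eval v f = 0 → ∃ i : Fin 4, eval v (pderiv i f) ≠ 0)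
    (e : Fin 4 → ℂ) (he : e ≠ 0) (hE : IsEck f e) : ∃ μ, HasStruct f e μ := by
  obtain ⟨u, hzero, hind⟩ := eckData_of_isEck he hE
  have hfe : eval e f = 0 := by simpa using hzero 0 1 0
  have hee : T f e e e = 0 := by rw [← eval_eq_T hf]; exact hfe
  obtain ⟨n, hn⟩ := exists_ell_eq_one hf hsm e he hfe
  have hline : ∀ i, T f e e (u i) = 0 ∧ T f e (u i) (u i) = 0 := by
    intro i
    have hco := cubic_coeffs_eq (a0 := eval e f) (a1 := 3 * T f e e (u i))
      (a2 := 3 * T f e (u i) (u i)) (a3 := eval (u i) f) (b0 := 0) (b1 := 0) (b2 := 0) (b3 := 0) (by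
        intro t
        have h1 := eval_add_smul hf e (u i) t
        have h2 := hzero i 1 t
        rw [one_smul] at h2
        rw [h2] at h1
        linear_combination -h1)
    exact ⟨by linear_combination (1/3 : ℂ) * hco.2.1, by linear_combination (1/3 : ℂ) * hco.2.2.1⟩
  have hInd : Ind4 e (u 0) (u 1) n := by
    intro x y z w h
    have h1 : T f e e (x • e + y • u 0 + z • u 1 + w • n) = 0 := by rw [h, T_zero_right]
    simp only [T_add_right, T_smul_right, (hline 0).1, (hline 1).1, hn, hee] at h1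
    have hw : w = 0 := by linear_combination h1
    subst hw
    have := hind 0 1 (by decide) x y z (by simpa using h)
    exact ⟨this.1, this.2.1, this.2.2, rfl⟩
  obtain ⟨a, b, c, d, h2⟩ := span_of_ind4 hInd (u 2)
  have hd : d = 0 := by
    have h1 := (hline 2).1
    rw [h2] at h1
    simp only [T_add_right, T_smul_right, (hline 0).1, (hline 1).1, hn, hee] at h1
    linear_combination h1
  subst hd
  have hb : b ≠ 0 := by
    rintro rfl
    have := hind 1 2 (by decide) a c (-1) (by rw [h2]; module)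
    norm_num at this
  have hc : c ≠ 0 := by
    rintro rfl
    have := hind 0 2 (by decide) a b (-1) (by rw [h2]; module)
    norm_num at this
  have s1 : T f e (u 0) e = 0 := by rw [T_comm23]; exact (hline 0).1
  have s2 : T f e (u 1) e = 0 := by rw [T_comm23]; exact (hline 1).1
  have s3 : T f e n e = 1 := by rw [T_comm23]; exact hn
  have h01 : T f e (u 0) (u 1) = 0 := by
    have h1 := (hline 2).2
    rw [h2] at h1
    simp only [T_add_mid, T_add_right, T_smul_mid, T_smul_right, zero_smul, add_zero,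
      (hline 0).1, (hline 1).1, (hline 0).2, (hline 1).2, hee, s1, s2,
      T_comm23 f e (u 1) (u 0)] at h1
    have : 2 * b * c * T f e (u 0) (u 1) = 0 := by linear_combination h1
    rcases mul_eq_zero.mp this with h | h
    · exact absurd h (mul_ne_zero (mul_ne_zero two_ne_zero hb) hc)
    · exact h
  have s4 : T f e (u 1) (u 0) = 0 := by rw [T_comm23]; exact h01
  refine ⟨muVec f e n, ?_, ?_⟩
  · rw [muVec_dot, hn, hee]; ring
  · intro z
    rw [muVec_dot]
    obtain ⟨α, β, γ, δ, hz⟩ := span_of_ind4 hInd z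
    rw [hz]
    simp only [T_add_mid, T_add_right, T_smul_mid, T_smul_right,
      (hline 0).1, (hline 1).1, (hline 0).2, (hline 1).2, hee, s1, s2, s3, s4, h01, hn,
      T_comm23 f e n (u 0), T_comm23 f e n (u 1)]
    ring


/-- the reflection `z ↦ z - μ(z) e` -/
noncomputable def reflM (e μ : Fin 4 → ℂ) : Matrix (Fin 4) (Fin 4) ℂ := 1 - Matrix.vecMulVec e μ

theorem reflM_mulVec (e μ z : Fin 4 → ℂ) : (reflM e μ).mulVec z = z - (μ ⬝ᵥ z) • e := by
  unfold reflM
  rw [Matrix.sub_mulVec, Matrix.one_mulVec, Matrix.vecMulVec_mulVec]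
  simp

theorem finrank_ker_of_refl (A : Matrix (Fin 4) (Fin 4) ℂ) (e μ : Fin 4 → ℂ) (he : e ≠ 0)
    (hμ : μ ⬝ᵥ e = 2) (hA : ∀ z, A.mulVec z = z - (μ ⬝ᵥ z) • e) :
    Module.finrank ℂ ↥(LinearMap.ker (Matrix.toLin' A - LinearMap.id)) = 3 := by
  set L : (Fin 4 → ℂ) →ₗ[ℂ] (Fin 4 → ℂ) := Matrix.toLin' A - LinearMap.id with hL
  have hLz : ∀ z, L z = -((μ ⬝ᵥ z) • e) := by
    intro z
    simp only [hL, LinearMap.sub_apply, Matrix.toLin'_apply, LinearMap.id_apply, hA]
    abel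
  have hrange : LinearMap.range L = Submodule.span ℂ {e} := by
    apply le_antisymm
    · rintro x ⟨z, rfl⟩
      rw [hLz, Submodule.mem_span_singleton]
      exact ⟨-(μ ⬝ᵥ z), by simp⟩
    · rw [Submodule.span_le]
      rintro x rfl
      refine ⟨(-1 / 2 : ℂ) • x, ?_⟩
      rw [hLz, dotProduct_smul, hμ, smul_eq_mul]
      rw [← neg_smul]
      norm_num
  have h1 := LinearMap.finrank_range_add_finrank_ker L
  rw [hrange, finrank_span_singleton he, Module.finrank_fin_fun] at h1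
  omega

theorem refl_form (A : Matrix (Fin 4) (Fin 4) ℂ) (e : Fin 4 → ℂ) (he : e ≠ 0)
    (hker : Module.finrank ℂ ↥(LinearMap.ker (Matrix.toLin' A - LinearMap.id)) = 3)
    (hAe : A.mulVec e = -e) :
    ∃ ψ : Fin 4 → ℂ, ψ ⬝ᵥ e = 2 ∧ ∀ z, A.mulVec z = z - (ψ ⬝ᵥ z) • e := by
  set L : (Fin 4 → ℂ) →ₗ[ℂ] (Fin 4 → ℂ) := Matrix.toLin' A - LinearMap.id with hL
  have hLz : ∀ z, L z = A.mulVec z - z := by
    intro z
    simp [hL, Matrix.toLin'_apply]
  have h1 := LinearMap.finrank_range_add_finrank_ker L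
  rw [hker, Module.finrank_fin_fun] at h1
  have hr1 : Module.finrank ℂ ↥(LinearMap.range L) = 1 := by omega
  have hle : Submodule.span ℂ {e} ≤ LinearMap.range L := by
    rw [Submodule.span_le]
    rintro x rfl
    refine ⟨(-1 / 2 : ℂ) • x, ?_⟩
    rw [hLz, Matrix.mulVec_smul, hAe]
    module
  have hrange : Submodule.span ℂ {e} = LinearMap.range L :=
    Submodule.eq_of_le_of_finrank_eq hle (by rw [finrank_span_singleton he, hr1])
  have hs : ∀ z, ∃ s : ℂ, s • e = L z := by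
    intro z
    have : L z ∈ Submodule.span ℂ {e} := by rw [hrange]; exact ⟨z, rfl⟩
    exact Submodule.mem_span_singleton.mp this
  obtain ⟨i₀, hi₀⟩ : ∃ i, e i ≠ 0 := by
    by_contra hc; push Not at hc; exact he (funext hc)
  refine ⟨fun j => ((1 : Matrix (Fin 4) (Fin 4) ℂ) i₀ j - A i₀ j) / e i₀, ?_, ?_⟩
  · have : (fun j => ((1 : Matrix (Fin 4) (Fin 4) ℂ) i₀ j - A i₀ j) / e i₀) ⬝ᵥ e =
        (e i₀ - (A.mulVec e) i₀) / e i₀ := by
      simp only [dotProduct, Matrix.mulVec, div_mul_eq_mul_div, ← Finset.sum_div, sub_mul,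
        Finset.sum_sub_distrib]
      congr 2
      simp [Matrix.one_apply]
    rw [this, hAe]
    simp only [Pi.neg_apply]
    field_simp
    ring
  · intro z
    obtain ⟨s, hs⟩ := hs z
    have hz : (fun j => ((1 : Matrix (Fin 4) (Fin 4) ℂ) i₀ j - A i₀ j) / e i₀) ⬝ᵥ z =
        (z i₀ - (A.mulVec z) i₀) / e i₀ := by
      simp only [dotProduct, Matrix.mulVec, div_mul_eq_mul_div, ← Finset.sum_div, sub_mul,
        Finset.sum_sub_distrib]
      congr 2
      simp [Matrix.one_apply]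
    rw [hz]
    have h2 : A.mulVec z = z + s • e := by
      rw [hs, hLz]; abel
    rw [h2]
    simp only [Pi.add_apply, Pi.smul_apply, smul_eq_mul]
    have : (z i₀ - (z i₀ + s * e i₀)) / e i₀ = -s := by field_simp; ring
    rw [this]
    module


/-- From an Eckardt involution to the structure. -/
theorem inv_struct (hf : f.IsHomogeneous 3)
    (hsm : ∀ v : Fin 4 → ℂ, v ≠ 0 → eval v f = 0 → ∃ i : Fin 4, eval v (pderiv i f) ≠ 0)
    (A : Matrix (Fin 4) (Fin 4) ℂ) (e : Fin 4 → ℂ) (he : e ≠ 0) (hfe : eval e f = 0)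
    (hA : IsEckInv f A e) :
    ∃ ψ, HasStruct f e ψ ∧ (∀ z, A.mulVec z = z - (ψ ⬝ᵥ z) • e) ∧
      ∀ z, eval (A.mulVec z) f = eval z f := by
  obtain ⟨-, hker, hAe, c, hc⟩ := hA
  obtain ⟨ψ, hψe, hψ⟩ := refl_form A e he hker hAe
  rw [subst_eq_iff] at hc
  have hc' : ∀ z, eval (A.mulVec z) f = c * eval z f := by
    intro z; rw [hc, map_mul, eval_C]
  obtain ⟨n, hn⟩ := exists_ell_eq_one hf hsm e he hfe
  have key : ∀ z : Fin 4 → ℂ, (1 - c) * T f e e z = 0 ∧
      -T f e z z + 2 * (ψ ⬝ᵥ z) * T f e e z = c * T f e z z := by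
    intro z
    set p := ψ ⬝ᵥ z with hp
    have hQ : T f z z e = T f e z z := by rw [T_comm13, T_comm12]
    have hl : T f z e e = T f e e z := by rw [T_comm13]
    have hco := cubic_coeffs_eq
      (a0 := eval z f - 3 * p * T f e z z + 3 * p ^ 2 * T f e e z)
      (a1 := -3 * T f e z z + 6 * p * T f e e z) (a2 := 3 * T f e e z) (a3 := 0)
      (b0 := c * eval z f) (b1 := 3 * c * T f e z z) (b2 := 3 * c * T f e e z) (b3 := 0) (by
        intro s
        have h1 := hc' (z + s • e)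
        have h2 : A.mulVec (z + s • e) = z + (-(p + s)) • e := by
          rw [hψ, dotProduct_add, dotProduct_smul, hψe, ← hp]
          simp only [smul_eq_mul]
          module
        rw [h2, eval_add_smul hf, eval_add_smul hf, hfe, hQ, hl] at h1
        linear_combination h1)
    obtain ⟨-, h1, h2, -⟩ := hco
    exact ⟨by linear_combination (1/3 : ℂ) * h2, by linear_combination (1/3 : ℂ) * h1⟩
  have hc1 : c = 1 := by
    have := (key n).1
    rw [hn, mul_one] at this
    linear_combination -this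
  subst hc1
  refine ⟨ψ, ⟨hψe, ?_⟩, hψ, ?_⟩
  · intro z
    have := (key z).2
    linear_combination (-1/2 : ℂ) * this
  · intro z
    rw [hc', one_mul]

theorem struct_unique (hf : f.IsHomogeneous 3)
    (hsm : ∀ v : Fin 4 → ℂ, v ≠ 0 → eval v f = 0 → ∃ i : Fin 4, eval v (pderiv i f) ≠ 0)
    (e : Fin 4 → ℂ) (he : e ≠ 0) (hfe : eval e f = 0) {μ ψ : Fin 4 → ℂ}
    (h1 : HasStruct f e μ) (h2 : HasStruct f e ψ) : μ = ψ := by
  obtain ⟨n, hn⟩ := exists_ell_eq_one hf hsm e he hfe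
  have h : ∀ z : Fin 4 → ℂ, ((μ - ψ) ⬝ᵥ z) * ((fun i => T f e e (Pi.single i 1)) ⬝ᵥ z) = 0 := by
    intro z
    rw [← T_right_eq_dot, sub_dotProduct]
    have a1 := h1.2 z
    have a2 := h2.2 z
    linear_combination a2 - a1
  rcases dot_mul_dot_eq_zero _ _ h with h | h
  · exact sub_eq_zero.mp h
  · exfalso
    have := T_right_eq_dot f e e n
    rw [h, zero_dotProduct, hn] at this
    exact one_ne_zero this

/-- From the structure to the Eckardt involution. -/
theorem struct_inv (hf : f.IsHomogeneous 3) (e : Fin 4 → ℂ) (he : e ≠ 0) (hfe : eval e f = 0)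
    {μ : Fin 4 → ℂ} (h : HasStruct f e μ) : IsEckInv f (reflM e μ) e := by
  obtain ⟨hμe, hμ⟩ := h
  refine ⟨?_, finrank_ker_of_refl _ e μ he hμe (reflM_mulVec e μ), ?_, 1, ?_⟩
  · rw [Matrix.ext_iff_mulVec]
    intro z
    rw [← Matrix.mulVec_mulVec, reflM_mulVec, reflM_mulVec, Matrix.one_mulVec, dotProduct_sub,
      dotProduct_smul, hμe, smul_eq_mul]
    module
  · rw [reflM_mulVec, hμe]
    module
  · rw [subst_eq_iff]
    intro z
    rw [map_mul, eval_C, one_mul, reflM_mulVec]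
    have hQ : T f z z e = T f e z z := by rw [T_comm13, T_comm12]
    have hl : T f z e e = T f e e z := by rw [T_comm13]
    have : z - (μ ⬝ᵥ z) • e = z + (-(μ ⬝ᵥ z)) • e := by module
    rw [this, eval_add_smul hf, hfe, hQ, hl, hμ z]
    ring


theorem struct_polar {e ψ : Fin 4 → ℂ} (h : HasStruct f e ψ) (x y : Fin 4 → ℂ) :
    2 * T f e x y = (ψ ⬝ᵥ x) * T f e e y + (ψ ⬝ᵥ y) * T f e e x := by
  have h1 := h.2 (x + y)
  have h2 := h.2 x
  have h3 := h.2 y
  rw [dotProduct_add] at h1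
  simp only [T_add_mid, T_add_right] at h1
  rw [T_comm23 f e y x] at h1
  linear_combination h1 - h2 - h3

theorem eval_eq_zero_of_isEck {e : Fin 4 → ℂ} (hE : IsEck f e) : eval e f = 0 := by
  obtain ⟨U, -, hU⟩ := hE
  exact (hU 0).2.2 e (hU 0).2.1

theorem ne_zero_of_not_mem_span {e e' : Fin 4 → ℂ} (h : e' ∉ Submodule.span ℂ {e}) : e' ≠ 0 := by
  rintro rfl
  exact h (Submodule.zero_mem _)

theorem smul_add_ne_zero {e e' : Fin 4 → ℂ} (h : e' ∉ Submodule.span ℂ {e}) (s : ℂ) :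
    s • e + e' ≠ 0 := by
  intro h0
  apply h
  rw [Submodule.mem_span_singleton]
  refine ⟨-s, ?_⟩
  have : e' = -(s • e) := by
    rw [eq_neg_iff_add_eq_zero, add_comm]; exact h0
  rw [this]; module

/-- the values of `T` forced by a line `span{e,e'}` lying on the surface -/
theorem line_on_surface (hf : f.IsHomogeneous 3) {e e' : Fin 4 → ℂ}
    (hL : ∀ u ∈ Submodule.span ℂ {e, e'}, eval u f = 0) :
    T f e e e' = 0 ∧ T f e e' e' = 0 := by
  have hco := cubic_coeffs_eq (a0 := eval e f) (a1 := 3 * T f e e e')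
    (a2 := 3 * T f e e' e') (a3 := eval e' f) (b0 := 0) (b1 := 0) (b2 := 0) (b3 := 0) (by
      intro t
      have h1 := eval_add_smul hf e e' t
      have h2 := hL (e + t • e') (by
        rw [Submodule.mem_span_pair]; exact ⟨1, t, by simp⟩)
      rw [h2] at h1
      linear_combination -h1)
  exact ⟨by linear_combination (1/3 : ℂ) * hco.2.1, by linear_combination (1/3 : ℂ) * hco.2.2.1⟩

/-- If the line joining two Eckardt points lies on the surface, each involution fixes the other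
point. -/
theorem struct_dot_eq_zero_of_line (hf : f.IsHomogeneous 3)
    (hsm : ∀ v : Fin 4 → ℂ, v ≠ 0 → eval v f = 0 → ∃ i : Fin 4, eval v (pderiv i f) ≠ 0)
    {e e' ψ ψ' : Fin 4 → ℂ} (he : e ≠ 0) (he' : e' ∉ Submodule.span ℂ {e}) (hfe : eval e f = 0)
    (h : HasStruct f e ψ) (h' : HasStruct f e' ψ')
    (hL : ∀ u ∈ Submodule.span ℂ {e, e'}, eval u f = 0) : ψ ⬝ᵥ e' = 0 := by
  by_contra hne
  obtain ⟨hl1, hl2⟩ := line_on_surface hf hL
  obtain ⟨n, hn⟩ := exists_ell_eq_one hf hsm e he hfe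
  have hl3 : T f e' e' e = 0 := by rw [T_comm13, T_comm23]; exact hl2
  have key : ∀ y : Fin 4 → ℂ, (ψ ⬝ᵥ e') * T f e e y = (ψ' ⬝ᵥ e) * T f e' e' y := by
    intro y
    have a1 := struct_polar h e' y
    have a2 := struct_polar h' e y
    rw [hl1] at a1
    rw [hl3] at a2
    have : T f e' e y = T f e e' y := T_comm12 f e' e y
    rw [this] at a2
    linear_combination a2 - a1
  set ρ : ℂ := (ψ' ⬝ᵥ e) / (ψ ⬝ᵥ e') with hρ
  have hell : ∀ y : Fin 4 → ℂ, T f e e y = ρ * T f e' e' y := by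
    intro y
    rw [hρ]
    field_simp
    linear_combination key y
  have hρ0 : ρ ≠ 0 := by
    intro h0
    have := hell n
    rw [hn, h0, zero_mul] at this
    exact one_ne_zero this
  obtain ⟨s, hs⟩ := IsAlgClosed.exists_eq_mul_self (discrim ρ (ψ' ⬝ᵥ e) 1)
  obtain ⟨s₀, hs₀⟩ := exists_quadratic_eq_zero hρ0 ⟨s, hs⟩
  refine sing4 hf hsm (s₀ • e + e') (smul_add_ne_zero he' s₀) ?_
  intro d
  simp only [T_add_left, T_add_mid, T_smul_left, T_smul_mid]
  have a2 := struct_polar h' e d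
  rw [hl3] at a2
  have e1 : T f e' e d = T f e e' d := T_comm12 f e' e d
  rw [e1] at a2
  rw [hell d]
  linear_combination (T f e' e' d) * hs₀ + s₀ * a2 + s₀ * e1


theorem not_mem_span_symm {e e' : Fin 4 → ℂ} (he : e ≠ 0) (h : e' ∉ Submodule.span ℂ {e}) :
    e ∉ Submodule.span ℂ {e'} := by
  intro hm
  rw [Submodule.mem_span_singleton] at hm
  obtain ⟨a, ha⟩ := hm
  have ha0 : a ≠ 0 := by
    rintro rfl
    apply he
    rw [← ha]; simp
  apply h
  rw [Submodule.mem_span_singleton]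
  refine ⟨1 / a, ?_⟩
  rw [← ha, smul_smul]
  field_simp
  simp


theorem eval_lin2 {n : ℕ} {g : MvPolynomial (Fin n) ℂ} (hg : g.IsHomogeneous 3) (a b : Fin n → ℂ)
    (s t : ℂ) :
    eval (s • a + t • b) g =
      s ^ 3 * eval a g + 3 * s ^ 2 * t * T g a a b + 3 * s * t ^ 2 * T g a b b + t ^ 3 * eval b g := by
  rw [eval_eq_T hg, eval_eq_T hg, eval_eq_T hg]
  simp only [T_add_left, T_add_mid, T_add_right, T_smul_left, T_smul_mid, T_smul_right]
  simp only [T_comm12 g, T_comm23 g]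
  ring

/-- the image of an Eckardt point under a linear automorphism of the surface -/
theorem isEck_map (A : Matrix (Fin 4) (Fin 4) ℂ) (hAA : A * A = 1)
    (hAf : ∀ z, eval (A.mulVec z) f = eval z f) {e' : Fin 4 → ℂ} (he' : e' ≠ 0)
    (hE : IsEck f e') : IsEck f (A.mulVec e') := by
  obtain ⟨u, hzero, hind⟩ := eckData_of_isEck he' hE
  have hinj : ∀ z, A.mulVec z = 0 → z = 0 := by
    intro z hz
    have := congrArg A.mulVec hz
    rwa [Matrix.mulVec_mulVec, hAA, Matrix.one_mulVec, Matrix.mulVec_zero] at this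
  have hne : A.mulVec e' ≠ 0 := fun h => he' (hinj _ h)
  refine isEck_of_eckData hne (u := fun i => A.mulVec (u i)) ⟨?_, ?_⟩
  · intro i s t
    rw [← Matrix.mulVec_smul, ← Matrix.mulVec_smul, ← Matrix.mulVec_add, hAf]
    exact hzero i s t
  · intro i j hij a b c habc
    apply hind i j hij a b c
    apply hinj
    rw [Matrix.mulVec_add, Matrix.mulVec_add, Matrix.mulVec_smul, Matrix.mulVec_smul,
      Matrix.mulVec_smul]
    exact habc

/-- the restriction of `f` to the line through an Eckardt point `e` and another point `e'` of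
the surface -/
theorem eval_line (hf : f.IsHomogeneous 3) {e e' μ : Fin 4 → ℂ} (hfe : eval e f = 0)
    (hfe' : eval e' f = 0) (h : HasStruct f e μ) (s t : ℂ) :
    eval (s • e + t • e') f = 3 * T f e e e' * (s * t * (s + (μ ⬝ᵥ e') * t)) := by
  rw [eval_lin2 hf, hfe, hfe', h.2 e']
  ring


theorem mu_mul_mu {e e' μ μ' : Fin 4 → ℂ} (h : HasStruct f e μ) (h' : HasStruct f e' μ')
    (hne : T f e e e' ≠ 0) : (μ ⬝ᵥ e') * (μ' ⬝ᵥ e) = 1 := by
  have h1 := h'.2 e
  have h2 := h.2 e'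
  have e1 : T f e' e e = T f e e e' := T_comm13 f e' e e
  have e2 : T f e' e' e = T f e e' e' := by rw [T_comm13]
  rw [e1, e2, h2] at h1
  have : T f e e e' * ((μ ⬝ᵥ e') * (μ' ⬝ᵥ e) - 1) = 0 := by linear_combination -h1
  rcases mul_eq_zero.mp this with h0 | h0
  · exact absurd h0 hne
  · linear_combination h0

theorem indep_pair {e e' : Fin 4 → ℂ} (he : e ≠ 0) (he' : e' ∉ Submodule.span ℂ {e}) (a b : ℂ)
    (hab : a • e + b • e' = 0) : a = 0 ∧ b = 0 := by
  have hb : b = 0 := by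
    by_contra hb
    apply he'
    rw [Submodule.mem_span_singleton]
    refine ⟨-a / b, ?_⟩
    have h1 : b • e' = -(a • e) := by
      rw [eq_neg_iff_add_eq_zero, add_comm]; exact hab
    calc (-a / b) • e = (1 / b) • (-(a • e)) := by module
      _ = (1 / b) • (b • e') := by rw [h1]
      _ = e' := by rw [smul_smul]; field_simp; simp
  subst hb
  refine ⟨?_, rfl⟩
  have : a • e = 0 := by simpa using hab
  exact (smul_eq_zero.mp this).resolve_right he

/-- a plane is not the union of three lines -/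
theorem not_three_lines {e e' : Fin 4 → ℂ} (he : e ≠ 0) (he' : e' ∉ Submodule.span ℂ {e})
    (e'' : Fin 4 → ℂ)
    (h : ∀ u ∈ Submodule.span ℂ {e, e'},
      u ∈ Submodule.span ℂ {e} ∨ u ∈ Submodule.span ℂ {e'} ∨ u ∈ Submodule.span ℂ {e''}) : False := by
  have hind := indep_pair he he'
  have key : ∀ k : ℂ, k ≠ 0 → ∃ a : ℂ, a • e'' = e + k • e' := by
    intro k hk
    have hmem : e + k • e' ∈ Submodule.span ℂ {e, e'} := by
      rw [Submodule.mem_span_pair]; exact ⟨1, k, by simp⟩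
    rcases h _ hmem with h1 | h1 | h1
    · exfalso
      rw [Submodule.mem_span_singleton] at h1
      obtain ⟨a, ha⟩ := h1
      have := hind (1 - a) k (by rw [sub_smul, one_smul, ha]; abel)
      exact hk this.2
    · exfalso
      rw [Submodule.mem_span_singleton] at h1
      obtain ⟨a, ha⟩ := h1
      have := hind 1 (k - a) (by rw [sub_smul, one_smul, ha]; abel)
      exact one_ne_zero this.1
    · exact Submodule.mem_span_singleton.mp h1
  obtain ⟨a₁, h₁⟩ := key 1 one_ne_zero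
  obtain ⟨a₂, h₂⟩ := key 2 two_ne_zero
  have h3 : (a₂ - a₁) • e + (a₂ - 2 * a₁) • e' = 0 := by
    have : a₂ • (a₁ • e'') - a₁ • (a₂ • e'') = 0 := by
      rw [smul_smul, smul_smul, mul_comm]; abel
    rw [h₁, h₂] at this
    rw [← this]; module
  obtain ⟨h4, h5⟩ := hind _ _ h3
  have ha1 : a₁ = 0 := by linear_combination h4 - h5
  rw [ha1, zero_smul] at h₁
  have := hind 1 1 (by rw [one_smul] at h₁; rw [one_smul, one_smul]; exact h₁.symm)
  exact one_ne_zero this.1


/-- Conjugating the involution of `e'` by the involution of `e` gives the involution of the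
image point. -/
theorem conj_isEckInv (A A' : Matrix (Fin 4) (Fin 4) ℂ) (e e' ψ ψ' : Fin 4 → ℂ)
    (hAA : A * A = 1) (hA'A' : A' * A' = 1) (hψe : ψ ⬝ᵥ e = 2) (hψ'e' : ψ' ⬝ᵥ e' = 2)
    (hAz : ∀ z, A.mulVec z = z - (ψ ⬝ᵥ z) • e) (hA'z : ∀ z, A'.mulVec z = z - (ψ' ⬝ᵥ z) • e')
    (hAf : ∀ z, eval (A.mulVec z) f = eval z f) (hA'f : ∀ z, eval (A'.mulVec z) f = eval z f)
    (t : ℂ) (ht : t ≠ 0) (e'' : Fin 4 → ℂ) (he'' : e'' = t • A.mulVec e') (he''0 : e'' ≠ 0) :
    IsEckInv f (A * A' * A) e'' := by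
  set χ : Fin 4 → ℂ := (1 / t) • (ψ' - (ψ' ⬝ᵥ e) • ψ) with hχ
  have hAe' : A.mulVec e' = (1 / t) • e'' := by
    rw [he'', smul_smul]; field_simp; simp
  have hform : ∀ z, (A * A' * A).mulVec z = z - (χ ⬝ᵥ z) • e'' := by
    intro z
    rw [← Matrix.mulVec_mulVec, ← Matrix.mulVec_mulVec, hA'z (A.mulVec z), Matrix.mulVec_sub,
      Matrix.mulVec_smul, Matrix.mulVec_mulVec, hAA, Matrix.one_mulVec, hAe', hAz z]
    simp only [hχ, dotProduct_sub, dotProduct_smul, smul_dotProduct, sub_dotProduct, smul_eq_mul]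
    module
  have hχe'' : χ ⬝ᵥ e'' = 2 := by
    rw [he'', hAz e', hχ]
    simp only [dotProduct_sub, dotProduct_smul, smul_dotProduct, sub_dotProduct, smul_eq_mul,
      hψe, hψ'e']
    field_simp
    ring
  refine ⟨?_, finrank_ker_of_refl _ e'' χ he''0 hχe'' hform, ?_, 1, ?_⟩
  · have h1 : A * A' * A * (A * A' * A) = A * (A' * ((A * A) * (A' * A))) := by
      simp only [Matrix.mul_assoc]
    rw [h1, hAA, Matrix.one_mul, ← Matrix.mul_assoc A' A' A, hA'A', Matrix.one_mul, hAA]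
  · rw [hform, hχe'']; module
  · rw [subst_eq_iff]
    intro z
    rw [map_mul, eval_C, one_mul, ← Matrix.mulVec_mulVec, ← Matrix.mulVec_mulVec, hAf, hA'f, hAf]


/-- a nonzero common zero of up to three linear forms on `ℂ⁴` -/
theorem exists_common_kernel (r0 r1 r2 : Fin 4 → ℂ) :
    ∃ k : Fin 4 → ℂ, k ≠ 0 ∧ r0 ⬝ᵥ k = 0 ∧ r1 ⬝ᵥ k = 0 ∧ r2 ⬝ᵥ k = 0 := by
  set M : Matrix (Fin 4) (Fin 4) ℂ := Matrix.of ![r0, r1, r2, 0] with hM
  have hdet : M.det = 0 := Matrix.det_eq_zero_of_row_eq_zero 3 (fun j => by simp [hM])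
  obtain ⟨k, hk, hMk⟩ := Matrix.exists_mulVec_eq_zero_iff.mpr hdet
  refine ⟨k, hk, ?_, ?_, ?_⟩
  · have := congrFun hMk 0; simpa [hM, Matrix.mulVec] using this
  · have := congrFun hMk 1; simpa [hM, Matrix.mulVec] using this
  · have := congrFun hMk 2; simpa [hM, Matrix.mulVec] using this

/-- From the structure to three lines: the point is an Eckardt point. -/
theorem struct_eck (hf : f.IsHomogeneous 3)
    (hsm : ∀ v : Fin 4 → ℂ, v ≠ 0 → eval v f = 0 → ∃ i : Fin 4, eval v (pderiv i f) ≠ 0)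
    (p : Fin 4 → ℂ) (hp : p ≠ 0) (hfp : eval p f = 0) {ψ : Fin 4 → ℂ} (h : HasStruct f p ψ) :
    IsEck f p := by
  have hppp : T f p p p = 0 := by rw [← eval_eq_T hf]; exact hfp
  obtain ⟨n, hn⟩ := exists_ell_eq_one hf hsm p hp hfp
  set ℓv : Fin 4 → ℂ := fun i => T f p p (Pi.single i 1) with hℓv
  have hℓ : ∀ z, T f p p z = ℓv ⬝ᵥ z := fun z => T_right_eq_dot f p p z
  obtain ⟨k₁, hk₁0, hk₁ℓ, hk₁ψ, -⟩ := exists_common_kernel ℓv ψ 0
  obtain ⟨i₁, hi₁⟩ : ∃ i, k₁ i ≠ 0 := by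
    by_contra hc; push Not at hc; exact hk₁0 (funext hc)
  obtain ⟨k₂, hk₂0, hk₂ℓ, hk₂ψ, hk₂ρ⟩ := exists_common_kernel ℓv ψ (Pi.single i₁ 1)
  rw [← hℓ] at hk₁ℓ hk₂ℓ
  have hk₂i : k₂ i₁ = 0 := by simpa using hk₂ρ
  have hInd : Ind4 p k₁ k₂ n := by
    intro a b c d habcd
    have h1 : T f p p (a • p + b • k₁ + c • k₂ + d • n) = 0 := by rw [habcd, T_zero_right]
    simp only [T_add_right, T_smul_right, hppp, hk₁ℓ, hk₂ℓ, hn] at h1
    have hd : d = 0 := by linear_combination h1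
    subst hd
    have h2 : ψ ⬝ᵥ (a • p + b • k₁ + c • k₂ + (0 : ℂ) • n) = 0 := by rw [habcd, dotProduct_zero]
    simp only [dotProduct_add, dotProduct_smul, h.1, hk₁ψ, hk₂ψ, smul_eq_mul] at h2
    have ha : a = 0 := by linear_combination (1/2 : ℂ) * h2
    subst ha
    have h3 := congrFun habcd i₁
    simp only [Pi.add_apply, Pi.smul_apply, smul_eq_mul, hk₂i, Pi.zero_apply] at h3
    have hb : b = 0 := by
      have : b * k₁ i₁ = 0 := by linear_combination h3
      exact (mul_eq_zero.mp this).resolve_right hi₁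
    subst hb
    have hc : c • k₂ = 0 := by simpa using habcd
    exact ⟨rfl, rfl, (smul_eq_zero.mp hc).resolve_right hk₂0, rfl⟩
  -- properties of points of `W = span(k₁,k₂)`
  have hWℓ : ∀ s t : ℂ, T f p p (s • k₁ + t • k₂) = 0 := by
    intro s t
    simp only [T_add_right, T_smul_right, hk₁ℓ, hk₂ℓ]; ring
  have hWψ : ∀ s t : ℂ, ψ ⬝ᵥ (s • k₁ + t • k₂) = 0 := by
    intro s t
    simp only [dotProduct_add, dotProduct_smul, hk₁ψ, hk₂ψ]; simp
  have hWp : ∀ (s t : ℂ) (w : Fin 4 → ℂ), T f p (s • k₁ + t • k₂) w = 0 := by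
    intro s t w
    have := struct_polar h (s • k₁ + t • k₂) w
    rw [hWψ, hWℓ] at this
    linear_combination (1/2 : ℂ) * this
  set a : ℂ := eval k₁ f with ha
  set b : ℂ := 3 * T f k₁ k₁ k₂ with hb
  set c : ℂ := 3 * T f k₁ k₂ k₂ with hc
  set d : ℂ := eval k₂ f with hd
  have hns : ∀ s t : ℂ, ¬(s = 0 ∧ t = 0) →
      ¬(3 * a * s ^ 2 + 2 * b * s * t + c * t ^ 2 = 0 ∧
        b * s ^ 2 + 2 * c * s * t + 3 * d * t ^ 2 = 0) := by
    rintro s₀ t₀ hne ⟨h1, h2⟩
    set x₀ : Fin 4 → ℂ := s₀ • k₁ + t₀ • k₂ with hx₀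
    have q1 : T f k₁ k₂ k₁ = T f k₁ k₁ k₂ := T_comm23 f k₁ k₂ k₁
    have q2 : T f k₂ k₁ k₁ = T f k₁ k₁ k₂ := by rw [T_comm12, T_comm23]
    have q3 : T f k₂ k₂ k₁ = T f k₁ k₂ k₂ := T_comm13 f k₂ k₂ k₁
    have q4 : T f k₂ k₁ k₂ = T f k₁ k₂ k₂ := T_comm12 f k₂ k₁ k₂
    have e1 : T f x₀ x₀ k₁ = 0 := by
      rw [hx₀]
      simp only [T_add_left, T_add_mid, T_smul_left, T_smul_mid]
      rw [q1, q2, q3, ← eval_eq_T hf]
      linear_combination (1/3 : ℂ) * h1
    have e2 : T f x₀ x₀ k₂ = 0 := by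
      rw [hx₀]
      simp only [T_add_left, T_add_mid, T_smul_left, T_smul_mid]
      rw [q4, ← eval_eq_T hf]
      linear_combination (1/3 : ℂ) * h2
    obtain ⟨y₀, hy₀⟩ := IsAlgClosed.exists_eq_mul_self (-(T f x₀ x₀ n))
    refine sing4 hf hsm (y₀ • p + x₀) ?_ ?_
    · intro h0
      have := hInd y₀ s₀ t₀ 0 (by rw [zero_smul, add_zero, ← h0, hx₀]; module)
      exact hne ⟨this.2.1, this.2.2.1⟩
    · intro w
      have hform : ∀ w, T f (y₀ • p + x₀) (y₀ • p + x₀) w = y₀ ^ 2 * T f p p w + T f x₀ x₀ w := by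
        intro w
        simp only [T_add_left, T_add_mid, T_smul_left, T_smul_mid]
        have q1 : T f p x₀ w = 0 := hWp s₀ t₀ w
        have q2 : T f x₀ p w = 0 := by rw [T_comm12]; exact q1
        rw [q1, q2]; ring
      obtain ⟨α, β, γ, δ, hw⟩ := span_of_ind4 hInd w
      rw [hw]
      simp only [T_add_right, T_smul_right, hform, hppp, hk₁ℓ, hk₂ℓ, hn, e1, e2]
      have q3 : T f x₀ x₀ p = 0 := by
        rw [T_comm13]; exact hWp s₀ t₀ x₀
      rw [q3]
      linear_combination (-δ) * hy₀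
  obtain ⟨r, hroot, hdist⟩ := binary_cubic_three_roots a b c d hns
  refine isEck_of_eckData hp (u := fun i => (r i).1 • k₁ + (r i).2 • k₂) ⟨?_, ?_⟩
  · intro i s t
    rw [eval_lin2 hf, hfp, hWℓ, h.2, hWψ, eval_lin2 hf]
    have := hroot i
    simp only [ha, hb, hc, hd] at this
    linear_combination t ^ 3 * this
  · intro i j hij α β γ habc
    have := hInd α (β * (r i).1 + γ * (r j).1) (β * (r i).2 + γ * (r j).2) 0 (by
      rw [← habc]; module)
    obtain ⟨h1, h2, h3, -⟩ := this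
    have hdet := hdist i j hij
    have hβ : β * ((r i).1 * (r j).2 - (r j).1 * (r i).2) = 0 := by
      linear_combination (r j).2 * h2 - (r j).1 * h3
    have hγ : γ * ((r i).1 * (r j).2 - (r j).1 * (r i).2) = 0 := by
      linear_combination (r i).1 * h3 - (r i).2 * h2
    exact ⟨h1, (mul_eq_zero.mp hβ).resolve_right hdet, (mul_eq_zero.mp hγ).resolve_right hdet⟩

end Groth.Agent.Lib.Helper27.Cubic
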