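import Mathlib
import Groth.Agent.Lib.Helper18.DRSeq5
import Groth.Agent.Lib.Helper18.DRHens

/-!
# Derived complete modules with finite reduction are adically separated (helper27)

Pure algebra, in terms of helper18's sequence calculus (`SeqBij f M`: the map
`(w_n) ↦ (w_n - f w_{n+1})` on sequences is bijective).

* `psModule h`: a module `M` with `SeqBij f M` is a module over `A⟦X⟧`, `X` acting as `f`;
* `seqBij_X`, `seqBij_algebraMap`: `A⟦X⟧` is derived complete for `X`, and for `a` if `A` is;
* `hausdorff_aux`, `isHausdorff_of_seqBij`: over a Noetherian ring, a module which is derived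
  complete for `I` and finite modulo `I` is `I`-adically separated.
-/

set_option autoImplicit false
universe u
open PowerSeries

namespace Groth.Agent.Lib.Helper27.DCPow

open Groth.Agent.Lib.Helper18.DR

section Basic

variable {A : Type u} [CommRing A] {M : Type u} [AddCommGroup M] [Module A M]

section Sol

variable {f : A} (h : SeqBij f M)

/-- the unique solution `w` of `w n - f w (n+1) = z n` -/
noncomputable def sol (z : ℕ → M) : ℕ → M := (h.2 z).choose

lemma sol_spec (z : ℕ → M) (n : ℕ) : sol h z n - f • sol h z (n + 1) = z n :=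
  (h.2 z).choose_spec n

lemma sol_succ_eq (z : ℕ → M) (n : ℕ) : sol h z n = z n + f • sol h z (n + 1) :=
  eq_add_of_sub_eq (sol_spec h z n)

lemma sol_unique (z w : ℕ → M) (hw : ∀ n, w n - f • w (n + 1) = z n) : w = sol h z := by
  have h0 := h.1 (fun n => w n - sol h z n) (fun n => by
    have e1 := hw n
    have e2 := sol_spec h z n
    rw [smul_sub, ← sub_eq_zero]
    have e3 : w n - sol h z n - (f • w (n + 1) - f • sol h z (n + 1)) =
        (w n - f • w (n + 1)) - (sol h z n - f • sol h z (n + 1)) := by abel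
    rw [e3, e1, e2, sub_self])
  funext n
  exact sub_eq_zero.1 (congrFun h0 n)

lemma sol_add (z z' : ℕ → M) : sol h (z + z') = sol h z + sol h z' :=
  (sol_unique h (z + z') (sol h z + sol h z') (fun n => by
    have e1 := sol_spec h z n
    have e2 := sol_spec h z' n
    simp only [Pi.add_apply, smul_add]
    rw [← e1, ← e2]; abel)).symm

lemma sol_smul (a : A) (z : ℕ → M) : sol h (a • z) = a • sol h z :=
  (sol_unique h (a • z) (a • sol h z) (fun n => by
    simp only [Pi.smul_apply]
    rw [smul_comm f a, ← smul_sub, sol_spec])).symm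

lemma sol_zero : sol h (0 : ℕ → M) = 0 :=
  (sol_unique h 0 0 (fun n => by simp)).symm

lemma sol_vanish (z : ℕ → M) (k : ℕ) (hz : ∀ n, k ≤ n → z n = 0) (n : ℕ) (hn : k ≤ n) :
    sol h z n = 0 := by
  have h0 := h.1 (fun i => sol h z (i + k)) (fun i => by
    have e := sol_spec h z (i + k)
    rw [hz (i + k) (Nat.le_add_left k i), sub_eq_zero] at e
    rw [e, add_right_comm])
  have := congrFun h0 (n - k)
  simpa [Nat.sub_add_cancel hn] using this

/-- the action of a power series -/
noncomputable def psSmul (g : A⟦X⟧) (m : M) : M := sol h (fun j => coeff j g • m) 0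

lemma psSmul_add (g : A⟦X⟧) (m m' : M) :
    psSmul h g (m + m') = psSmul h g m + psSmul h g m' := by
  unfold psSmul
  have : (fun j => coeff j g • (m + m')) = (fun j => coeff j g • m) + (fun j => coeff j g • m') := by
    funext j; simp [smul_add]
  rw [this, sol_add]; rfl

lemma add_psSmul (g g' : A⟦X⟧) (m : M) :
    psSmul h (g + g') m = psSmul h g m + psSmul h g' m := by
  unfold psSmul
  have : (fun j => coeff j (g + g') • m) = (fun j => coeff j g • m) + (fun j => coeff j g' • m) := by
    funext j; simp [add_smul]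
  rw [this, sol_add]; rfl

lemma psSmul_zero (g : A⟦X⟧) : psSmul h g (0 : M) = 0 := by
  unfold psSmul
  have : (fun j => coeff j g • (0 : M)) = 0 := by funext j; simp
  rw [this, sol_zero]; rfl

lemma zero_psSmul (m : M) : psSmul h (0 : A⟦X⟧) m = 0 := by
  unfold psSmul
  have : (fun j => coeff j (0 : A⟦X⟧) • m) = 0 := by funext j; simp
  rw [this, sol_zero]; rfl

lemma one_psSmul (m : M) : psSmul h (1 : A⟦X⟧) m = m := by
  have h1 : sol h (fun j => coeff j (1 : A⟦X⟧) • m) 1 = 0 :=
    sol_vanish h _ 1 (fun n hn => by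
      rw [coeff_one, if_neg (by omega), zero_smul]) 1 le_rfl
  have h0 := sol_succ_eq h (fun j => coeff j (1 : A⟦X⟧) • m) 0
  rw [zero_add, h1, smul_zero, add_zero] at h0
  unfold psSmul
  rw [h0]; simp

lemma X_psSmul (m : M) : psSmul h (X : A⟦X⟧) m = f • m := by
  have h2 : sol h (fun j => coeff j (X : A⟦X⟧) • m) 2 = 0 :=
    sol_vanish h _ 2 (fun n hn => by
      rw [coeff_X, if_neg (by omega), zero_smul]) 2 le_rfl
  have h1 := sol_succ_eq h (fun j => coeff j (X : A⟦X⟧) • m) 1
  have h0 := sol_succ_eq h (fun j => coeff j (X : A⟦X⟧) • m) 0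
  simp only [zero_add, one_add_one_eq_two] at h0 h1
  unfold psSmul
  rw [h0, h1, h2]; simp

end Sol

lemma fubini {f : A} (W : ℕ → ℕ → M) (V : ℕ → M) (hV : ∀ j, V j - f • V (j + 1) = W j 0) (n : ℕ) :
    (V n + ∑ j ∈ Finset.range n, W j (n - j)) -
      f • (V (n + 1) + ∑ j ∈ Finset.range (n + 1), W j (n + 1 - j)) =
    ∑ j ∈ Finset.range (n + 1), (W j (n - j) - f • W j (n - j + 1)) := by
  have e : ∑ j ∈ Finset.range n, W j (n + 1 - j) = ∑ j ∈ Finset.range n, W j (n - j + 1) :=
    Finset.sum_congr rfl (fun j hj => by rw [Nat.sub_add_comm (Finset.mem_range.1 hj).le])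
  rw [Finset.sum_range_succ (fun j => W j (n + 1 - j)),
    Finset.sum_range_succ (fun j => W j (n - j) - f • W j (n - j + 1)), e,
    Finset.sum_sub_distrib, ← Finset.smul_sum]
  simp only [Nat.sub_self, Nat.add_sub_cancel_left, zero_add]
  rw [← hV n, smul_add, smul_add]
  abel

section Mod

variable {f : A} (h : SeqBij f M)

lemma mul_psSmul (g g' : A⟦X⟧) (m : M) :
    psSmul h (g * g') m = psSmul h g (psSmul h g' m) := by
  set W : ℕ → ℕ → M := fun j => sol h (fun i => (coeff j g * coeff i g') • m) with hW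
  set V : ℕ → M := sol h (fun j => W j 0) with hV
  have hU : (fun n => V n + ∑ j ∈ Finset.range n, W j (n - j)) =
      sol h (fun n => coeff n (g * g') • m) := by
    apply sol_unique
    intro n
    beta_reduce
    rw [fubini W V (fun j => sol_spec h _ j) n]
    rw [coeff_mul, Finset.Nat.sum_antidiagonal_eq_sum_range_succ
      (fun i j => coeff i g * coeff j g') n, Finset.sum_smul, Nat.succ_eq_add_one]
    refine Finset.sum_congr rfl (fun j _ => ?_)
    exact sol_spec h (fun i => (coeff j g * coeff i g') • m) (n - j)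
  have h1 : psSmul h (g * g') m = V 0 := by
    unfold psSmul
    rw [← hU]; simp
  have h2 : (fun j => coeff j g • psSmul h g' m) = fun j => W j 0 := by
    funext j
    have : (fun i => (coeff j g * coeff i g') • m) = coeff j g • (fun i => coeff i g' • m) := by
      funext i; simp [mul_smul]
    change coeff j g • psSmul h g' m = sol h (fun i => (coeff j g * coeff i g') • m) 0
    rw [this, sol_smul]; rfl
  rw [h1]
  change V 0 = sol h (fun j => coeff j g • psSmul h g' m) 0
  rw [h2]

/-- the `A⟦X⟧`-module structure on a derived `f`-complete module, `X` acting as `f` -/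
@[reducible] noncomputable def psModule : Module A⟦X⟧ M where
  smul := psSmul h
  one_smul := one_psSmul h
  mul_smul := mul_psSmul h
  smul_zero := psSmul_zero h
  smul_add := psSmul_add h
  add_smul := add_psSmul h
  zero_smul := zero_psSmul h

lemma isScalarTower_psModule : letI := psModule h; IsScalarTower A A⟦X⟧ M := by
  letI := psModule h
  refine ⟨fun a g m => ?_⟩
  change psSmul h (a • g) m = a • psSmul h g m
  unfold psSmul
  have : (fun j => coeff j (a • g) • m) = a • (fun j => coeff j g • m) := by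
    funext j; simp [mul_smul]
  rw [this, sol_smul]; rfl

lemma X_smul_psModule (m : M) : letI := psModule h; (X : A⟦X⟧) • m = f • m := X_psSmul h m

end Mod

/-- `A⟦X⟧` is derived `X`-complete -/
lemma seqBij_X : SeqBij (X : A⟦X⟧) A⟦X⟧ := by
  constructor
  · intro x hx
    funext n
    ext m
    have h1 := seq_pow_smul x hx n (m + 1)
    rw [h1, smul_eq_mul, coeff_X_pow_mul', if_neg (by omega)]
    simp
  · intro z
    refine ⟨fun n => PowerSeries.mk
      (fun m => ∑ j ∈ Finset.range (m + 1), coeff (m - j) (z (n + j))), fun n => ?_⟩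
    ext m
    beta_reduce
    rw [map_sub, coeff_mk, smul_eq_mul]
    cases m with
    | zero => simp
    | succ m =>
      rw [coeff_succ_X_mul, coeff_mk, Finset.sum_range_succ' _ (m + 1)]
      have e : ∑ j ∈ Finset.range (m + 1), coeff (m + 1 - (j + 1)) (z (n + (j + 1))) =
          ∑ j ∈ Finset.range (m + 1), coeff (m - j) (z (n + 1 + j)) :=
        Finset.sum_congr rfl (fun j _ => by
          rw [Nat.add_sub_add_right, show n + (j + 1) = n + 1 + j by omega])
      rw [e]; simp

/-- if `A` is derived `a`-complete then so is `A⟦X⟧` -/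
lemma seqBij_algebraMap {a : A} (ha : SeqBij a A) : SeqBij (algebraMap A A⟦X⟧ a) A⟦X⟧ := by
  have key : ∀ (p : A⟦X⟧) (m : ℕ), coeff m (algebraMap A A⟦X⟧ a • p) = a • coeff m p :=
    fun p m => by
      have e : algebraMap A A⟦X⟧ a • p = a • p := (Algebra.smul_def a p).symm
      rw [e, coeff_smul]
  constructor
  · intro x hx
    funext n
    ext m
    have h0 := ha.1 (fun n => coeff m (x n)) (fun n => by
      change coeff m (x n) = a • coeff m (x (n + 1))
      rw [← key, ← hx n])
    simpa using congrFun h0 n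
  · intro z
    choose v hv using fun m => ha.2 (fun n => coeff m (z n))
    refine ⟨fun n => PowerSeries.mk (fun m => v m n), fun n => ?_⟩
    ext m
    beta_reduce
    rw [map_sub, key, coeff_mk, coeff_mk]
    exact hv m n

lemma seqSurj_pi_fin {g : A} (t : ℕ) (hg : SeqSurj g A) : SeqSurj g (Fin t → A) := by
  intro z
  choose w hw using fun k => hg (fun n => z n k)
  exact ⟨fun n k => w k n, fun n => funext fun k => hw k n⟩

lemma seqBij_of_smul_eq {B : Type u} [CommRing B] [Module B M] {a : A} {b : B}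
    (hab : ∀ m : M, b • m = a • m) (ha : SeqBij a M) : SeqBij b M := by
  constructor
  · intro x hx
    exact ha.1 x (fun n => (hx n).trans (hab _))
  · intro z
    obtain ⟨w, hw⟩ := ha.2 z
    exact ⟨w, fun n => by rw [hab]; exact hw n⟩

/-- Nakayama for derived complete modules, in the sequence calculus -/
theorem nakayama_seq (s : Finset A) : ∀ (M : Type u) [AddCommGroup M] [Module A M],
    (∀ f ∈ s, SeqBij f M) →
    (Ideal.span (s : Set A)) • (⊤ : Submodule A M) = ⊤ → Subsingleton M := by
  classical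
  induction s using Finset.induction_on with
  | empty =>
    intro M _ _ _ h
    simp only [Finset.coe_empty, Ideal.span_empty, Submodule.bot_smul] at h
    exact (Submodule.subsingleton_iff A).1 (subsingleton_of_bot_eq_top h)
  | insert a s ha ih =>
    intro M _ _ hM h
    have hMa : SeqBij a M := hM a (Finset.mem_insert_self a s)
    let u : M →ₗ[A] M := LinearMap.lsmul A M a
    have hcoker : ∀ f ∈ s, SeqBij f (M ⧸ LinearMap.range u) := fun f hf =>
      have hMf := hM f (Finset.mem_insert_of_mem hf)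
      ⟨seqInj_of_exact u (LinearMap.range u).mkQ (Submodule.mkQ_surjective _) (fun m => by simp)
        (fun y hy => LinearMap.mem_range.1 ((Submodule.Quotient.mk_eq_zero _).1 hy)) hMf.1 hMf.2,
       seqSurj_of_surjective _ (Submodule.mkQ_surjective _) hMf.2⟩
    have htop : (Ideal.span (s : Set A)) • (⊤ : Submodule A (M ⧸ LinearMap.range u)) = ⊤ := by
      rw [eq_top_iff]
      rintro x -
      obtain ⟨m, rfl⟩ := Submodule.mkQ_surjective _ x
      have hm : m ∈ (Ideal.span ((insert a s : Finset A) : Set A)) • (⊤ : Submodule A M) := by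
        rw [h]; trivial
      rw [Finset.coe_insert, Ideal.span_insert, Submodule.sup_smul, Submodule.mem_sup] at hm
      obtain ⟨m₁, hm₁, m₂, hm₂, rfl⟩ := hm
      have h1 : (LinearMap.range u).mkQ m₁ = 0 := by
        rw [Submodule.mkQ_apply, Submodule.Quotient.mk_eq_zero]
        rw [Submodule.ideal_span_singleton_smul] at hm₁
        obtain ⟨m', -, rfl⟩ := (Submodule.mem_smul_pointwise_iff_exists _ _ _).1 hm₁
        exact ⟨m', rfl⟩
      rw [map_add, h1, zero_add]
      have h2 : (LinearMap.range u).mkQ m₂ ∈ Submodule.map (LinearMap.range u).mkQ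
          ((Ideal.span (s : Set A)) • (⊤ : Submodule A M)) := ⟨m₂, hm₂, rfl⟩
      rw [Submodule.map_smul''] at h2
      exact Submodule.smul_mono le_rfl le_top h2
    haveI := ih (M ⧸ LinearMap.range u) hcoker htop
    have hrange : LinearMap.range u = ⊤ := Submodule.Quotient.subsingleton_iff.1 this
    refine subsingleton_of_seqInj hMa.1 (fun m => ?_)
    have : m ∈ LinearMap.range u := by rw [hrange]; trivial
    obtain ⟨m', hm'⟩ := this
    exact ⟨m', hm'⟩

end Basic

section Main

lemma base_case {R : Type u} [CommRing R] [IsNoetherianRing R] (J : Ideal R)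
    (hJ : ∀ g ∈ J, SeqBij g R) {P : Type u} [AddCommGroup P] [Module R P]
    (hP : ∀ g ∈ J, SeqBij g P) (N : Submodule R P) (hN : N.FG)
    (hNP : N ⊔ J • (⊤ : Submodule R P) = ⊤) (x : P)
    (hx : ∀ n : ℕ, x ∈ (J ^ n • (⊤ : Submodule R P))) : x = 0 := by
  haveI : Module.Finite R N := Module.Finite.iff_fg.2 hN
  obtain ⟨t, φ, hφ⟩ := Module.Finite.exists_fin' R N
  have hNs : ∀ g ∈ J, SeqSurj g N := fun g hg =>
    seqSurj_of_surjective φ hφ (seqSurj_pi_fin t (hJ g hg).2)
  have hQ : ∀ g ∈ J, SeqBij g (P ⧸ N) := fun g hg =>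
    ⟨seqInj_of_exact N.subtype N.mkQ (Submodule.mkQ_surjective N) (fun m => by simp)
      (fun y hy => ⟨⟨y, (Submodule.Quotient.mk_eq_zero N).1 hy⟩, rfl⟩) (hP g hg).1 (hNs g hg),
     seqSurj_of_surjective N.mkQ (Submodule.mkQ_surjective N) (hP g hg).2⟩
  have htop : J • (⊤ : Submodule R (P ⧸ N)) = ⊤ := by
    rw [eq_top_iff]
    rintro y -
    obtain ⟨p, rfl⟩ := Submodule.mkQ_surjective N y
    have hp : p ∈ N ⊔ J • (⊤ : Submodule R P) := by rw [hNP]; trivial
    obtain ⟨n, hn, q, hq, rfl⟩ := Submodule.mem_sup.1 hp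
    have h1 : N.mkQ n = 0 := by
      rw [Submodule.mkQ_apply, Submodule.Quotient.mk_eq_zero]; exact hn
    rw [map_add, h1, zero_add]
    have h2 : N.mkQ q ∈ Submodule.map N.mkQ (J • (⊤ : Submodule R P)) := ⟨q, hq, rfl⟩
    rw [Submodule.map_smul''] at h2
    exact Submodule.smul_mono le_rfl le_top h2
  obtain ⟨s, hs⟩ : J.FG := IsNoetherian.noetherian J
  haveI : Subsingleton (P ⧸ N) :=
    nakayama_seq s (P ⧸ N) (fun f hf => hQ f (hs ▸ Ideal.subset_span hf)) (hs ▸ htop)
  have hNtop : N = ⊤ := Submodule.Quotient.subsingleton_iff.1 this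
  haveI : Module.Finite R P := Module.finite_def.2 (hNtop ▸ hN)
  have hK := Ideal.iInf_pow_smul_eq_bot_of_le_jacobson (M := P) J
    (le_jacobson_bot_of_seq J (fun g hg => hJ g hg))
  have hx' : x ∈ (⨅ i : ℕ, J ^ i • ⊤ : Submodule R P) := (Submodule.mem_iInf _).2 hx
  rw [hK] at hx'
  exact (Submodule.mem_bot R).1 hx'

lemma step_mem {R : Type u} [CommRing R] {B : Type u} [CommRing B]
    {P : Type u} [AddCommGroup P] [Module R P] [Module B P]
    (I : Ideal R) (IB : Ideal B) (hI : ∀ a ∈ I, ∃ b ∈ IB, ∀ p : P, a • p = b • p) (n : ℕ) :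
    ∀ y ∈ (I ^ n • (⊤ : Submodule R P)), y ∈ (IB ^ n • (⊤ : Submodule B P)) := by
  induction n with
  | zero => intro y _; simp
  | succ n ih =>
    intro y hy
    rw [pow_succ', Submodule.mul_smul] at hy
    rw [pow_succ', Submodule.mul_smul]
    refine Submodule.smul_induction_on hy (fun a ha z hz => ?_) (fun _ _ h1 h2 => add_mem h1 h2)
    obtain ⟨b, hb, hab⟩ := hI a ha
    rw [hab]
    exact Submodule.smul_mem_smul hb (ih z hz)

theorem hausdorff_aux (r : ℕ) : ∀ (R : Type u) [CommRing R] [IsNoetherianRing R] (J : Ideal R)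
    (_ : ∀ g ∈ J, SeqBij g R) (s : Finset R) (_ : s.card ≤ r)
    (P : Type u) [AddCommGroup P] [Module R P]
    (_ : ∀ g ∈ J ⊔ Ideal.span (s : Set R), SeqBij g P)
    (N : Submodule R P) (_ : N.FG)
    (_ : N ⊔ (J ⊔ Ideal.span (s : Set R)) • (⊤ : Submodule R P) = ⊤) (x : P)
    (_ : ∀ n : ℕ, x ∈ ((J ⊔ Ideal.span (s : Set R)) ^ n • (⊤ : Submodule R P))), x = 0 := by
  induction r with
  | zero =>
    intro R _ _ J hJ s hs P _ _ hP N hN hNP x hx
    have hs0 : s = ∅ := Finset.card_eq_zero.1 (Nat.le_zero.1 hs)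
    subst hs0
    simp only [Finset.coe_empty, Ideal.span_empty, sup_bot_eq] at hP hNP hx
    exact base_case J hJ hP N hN hNP x hx
  | succ r ih =>
    intro R _ _ J hJ s hs P _ _ hP N hN hNP x hx
    classical
    by_cases hs0 : s = ∅
    · exact ih R J hJ s (by rw [hs0]; simp) P hP N hN hNP x hx
    obtain ⟨f, hfs⟩ := Finset.nonempty_iff_ne_empty.2 hs0
    have hfI : f ∈ J ⊔ Ideal.span (s : Set R) := Ideal.mem_sup_right (Ideal.subset_span hfs)
    have hf : SeqBij f P := hP f hfI
    letI : Module R⟦X⟧ P := psModule hf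
    haveI : IsScalarTower R R⟦X⟧ P := isScalarTower_psModule hf
    have hX : ∀ p : P, (X : R⟦X⟧) • p = f • p := X_psSmul hf
    let J' : Ideal R⟦X⟧ := J.map (algebraMap R R⟦X⟧) ⊔ Ideal.span {X}
    let s' : Finset R⟦X⟧ := (s.erase f).image (algebraMap R R⟦X⟧)
    have hJ' : ∀ g ∈ J', SeqBij g R⟦X⟧ := by
      have : J' ≤ completeIdeal (A := R⟦X⟧) R⟦X⟧ :=
        sup_le (Ideal.map_le_iff_le_comap.2 (fun a ha => seqBij_algebraMap (hJ a ha)))
          ((Ideal.span_singleton_le_iff_mem _).2 seqBij_X)
      exact fun g hg => this hg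
    have hs' : s'.card ≤ r := by
      refine Finset.card_image_le.trans ?_
      rw [Finset.card_erase_of_mem hfs]; omega
    have hP' : ∀ g ∈ J' ⊔ Ideal.span (s' : Set R⟦X⟧), SeqBij g P := by
      have : J' ⊔ Ideal.span (s' : Set R⟦X⟧) ≤ completeIdeal (A := R⟦X⟧) P := by
        refine sup_le (sup_le (Ideal.map_le_iff_le_comap.2 (fun a ha => ?_))
          ((Ideal.span_singleton_le_iff_mem _).2 ?_)) (Ideal.span_le.2 ?_)
        · exact seqBij_of_smul_eq (fun p => algebraMap_smul R⟦X⟧ a p)
            (hP a (Ideal.mem_sup_left ha))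
        · exact seqBij_of_smul_eq hX hf
        · intro g hg
          obtain ⟨a, ha, rfl⟩ := Finset.mem_image.1 (Finset.mem_coe.1 hg)
          exact seqBij_of_smul_eq (fun p => algebraMap_smul R⟦X⟧ a p)
            (hP a (Ideal.mem_sup_right (Ideal.subset_span (Finset.mem_of_mem_erase ha))))
      exact fun g hg => this hg
    have hcmp : ∀ a ∈ J ⊔ Ideal.span (s : Set R),
        ∃ b ∈ J' ⊔ Ideal.span (s' : Set R⟦X⟧), ∀ p : P, a • p = b • p := by
      let 𝔠 : Ideal R :=
        { carrier := {a | ∃ b ∈ J' ⊔ Ideal.span (s' : Set R⟦X⟧), ∀ p : P, a • p = b • p}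
          add_mem' := by
            rintro a₁ a₂ ⟨b₁, hb₁, h₁⟩ ⟨b₂, hb₂, h₂⟩
            exact ⟨b₁ + b₂, add_mem hb₁ hb₂, fun p => by rw [add_smul, add_smul, h₁, h₂]⟩
          zero_mem' := ⟨0, zero_mem _, fun p => by rw [zero_smul, zero_smul]⟩
          smul_mem' := by
            rintro c a ⟨b, hb, h₁⟩
            exact ⟨algebraMap R R⟦X⟧ c * b, Ideal.mul_mem_left _ _ hb, fun p => by
              rw [smul_eq_mul, mul_smul, mul_smul, h₁, algebraMap_smul]⟩ }
      have h𝔠 : J ⊔ Ideal.span (s : Set R) ≤ 𝔠 := by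
        refine sup_le (fun a ha => ⟨algebraMap R R⟦X⟧ a,
          Ideal.mem_sup_left (Ideal.mem_sup_left (Ideal.mem_map_of_mem _ ha)),
          fun p => (algebraMap_smul R⟦X⟧ a p).symm⟩) (Ideal.span_le.2 (fun a ha => ?_))
        by_cases haf : a = f
        · exact ⟨X, Ideal.mem_sup_left (Ideal.mem_sup_right (Ideal.mem_span_singleton_self X)),
            fun p => by rw [haf, hX]⟩
        · exact ⟨algebraMap R R⟦X⟧ a, Ideal.mem_sup_right (Ideal.subset_span
            (Finset.mem_coe.2 (Finset.mem_image_of_mem _ (Finset.mem_erase.2 ⟨haf, ha⟩)))),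
            fun p => (algebraMap_smul R⟦X⟧ a p).symm⟩
      exact fun a ha => h𝔠 ha
    let N' : Submodule R⟦X⟧ P := Submodule.span R⟦X⟧ (N : Set P)
    have hN' : N'.FG := by
      obtain ⟨t, ht⟩ := hN
      refine ⟨t, ?_⟩
      change Submodule.span R⟦X⟧ (t : Set P) = Submodule.span R⟦X⟧ (N : Set P)
      rw [← ht, Submodule.span_span_of_tower]
    have hN'P : N' ⊔ (J' ⊔ Ideal.span (s' : Set R⟦X⟧)) • (⊤ : Submodule R⟦X⟧ P) = ⊤ := by
      rw [eq_top_iff]
      rintro p -
      have hp : p ∈ N ⊔ (J ⊔ Ideal.span (s : Set R)) • (⊤ : Submodule R P) := by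
        rw [hNP]; trivial
      obtain ⟨n, hn, q, hq, rfl⟩ := Submodule.mem_sup.1 hp
      refine Submodule.add_mem_sup (Submodule.subset_span hn) ?_
      have := step_mem (J ⊔ Ideal.span (s : Set R)) _ hcmp 1 q (by simpa using hq)
      simpa using this
    exact ih R⟦X⟧ J' hJ' s' hs' P hP' N' hN' hN'P x
      (fun n => step_mem (J ⊔ Ideal.span (s : Set R)) _ hcmp n x (hx n))

/-- Over a Noetherian ring, a module which is derived `I`-complete (in the sequence calculus) and
finitely generated modulo `I` is `I`-adically separated. -/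
theorem isHausdorff_of_seqBij {R : Type u} [CommRing R] [IsNoetherianRing R] (I : Ideal R)
    {P : Type u} [AddCommGroup P] [Module R P] (hP : ∀ g ∈ I, SeqBij g P)
    (N : Submodule R P) (hN : N.FG) (hNP : N ⊔ I • (⊤ : Submodule R P) = ⊤) :
    IsHausdorff I P := by
  obtain ⟨s, hs⟩ : I.FG := IsNoetherian.noetherian I
  have hI : (⊥ : Ideal R) ⊔ Ideal.span (s : Set R) = I := by rw [bot_sup_eq, hs]
  refine ⟨fun x hx => ?_⟩
  refine hausdorff_aux s.card R ⊥ (fun g hg => ?_) s le_rfl P (by rw [hI]; exact hP) N hN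
    (by rw [hI]; exact hNP) x (fun n => ?_)
  · rw [(Submodule.mem_bot R).1 hg]; exact seqBij_zero R
  · rw [hI]
    have := hx n
    rwa [SModEq.zero] at this

end Main

end Groth.Agent.Lib.Helper27.DCPow
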