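import Mathlib
import Groth.Prelude.Def_CAlgX
import Groth.Agent.S4542
import Groth.Agent.Lib.Helper6.FSAdic
import Groth.Agent.Lib.Helper15.FiniteComplete
import Groth.Agent.Lib.Helper27.CplTensorC

/-!
# Extending derivations along an adically formally smooth map to a complete local ring (helper27)
-/

set_option autoImplicit false
universe u
open IsLocalRing

namespace Groth.Agent.Lib.Helper27.DerivExt

variable (A B : Type u) [CommRing A] [CommRing B] [Algebra A B] (D : Derivation ℤ A A)

/-- the twisted structure map `a ↦ a + ε D(a)` into the dual numbers of `B`. -/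
noncomputable def twist : A →+* TrivSqZeroExt B B where
  toFun a := TrivSqZeroExt.inl (algebraMap A B a) + TrivSqZeroExt.inr (algebraMap A B (D a))
  map_one' := by
    ext
    · simp
    · simp
  map_mul' a b := by
    ext
    · simp
    · simp only [TrivSqZeroExt.snd_add, TrivSqZeroExt.snd_mul, TrivSqZeroExt.snd_inl,
        TrivSqZeroExt.snd_inr, TrivSqZeroExt.fst_add, TrivSqZeroExt.fst_inl, TrivSqZeroExt.fst_inr,
        Derivation.leibniz, map_add, map_mul, smul_eq_mul, MulOpposite.smul_eq_mul_unop,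
        MulOpposite.unop_op, zero_add, add_zero]
      ring
  map_zero' := by
    ext
    · simp
    · simp
  map_add' a b := by
    ext
    · simp
    · simp only [TrivSqZeroExt.snd_add, TrivSqZeroExt.snd_inl, TrivSqZeroExt.snd_inr, map_add,
        zero_add]

/-- dual numbers of `B` (with twisted `A`-algebra structure). -/
def Ce (A B : Type u) [CommRing A] [CommRing B] [Algebra A B] (_D : Derivation ℤ A A) : Type u :=
  TrivSqZeroExt B B

noncomputable instance : CommRing (Ce A B D) := inferInstanceAs (CommRing (TrivSqZeroExt B B))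
noncomputable instance : Algebra B (Ce A B D) := inferInstanceAs (Algebra B (TrivSqZeroExt B B))
noncomputable instance : Algebra A (Ce A B D) := (twist A B D).toAlgebra
instance : Module.Finite B (Ce A B D) := inferInstanceAs (Module.Finite B (B × B))

/-- first projection -/
noncomputable def fstH : Ce A B D →+* B := (TrivSqZeroExt.fstHom B B B).toRingHom
/-- inclusion -/
noncomputable def inlH : B →+* Ce A B D := (TrivSqZeroExt.inlHom B B)
/-- second component -/
def sndF : Ce A B D → B := TrivSqZeroExt.snd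

lemma fstH_inlH (b : B) : fstH A B D (inlH A B D b) = b := rfl
lemma sndF_add (x y : Ce A B D) : sndF A B D (x + y) = sndF A B D x + sndF A B D y := rfl
lemma sndF_mul (x y : Ce A B D) : sndF A B D (x * y) =
    fstH A B D x * sndF A B D y + fstH A B D y * sndF A B D x := by
  exact (TrivSqZeroExt.snd_mul (x : TrivSqZeroExt B B) (y : TrivSqZeroExt B B)).trans
    (by
      simp only [smul_eq_mul, MulOpposite.smul_eq_mul_unop, MulOpposite.unop_op]
      rw [mul_comm (TrivSqZeroExt.snd (x : TrivSqZeroExt B B))]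
      rfl)
lemma algebraMap_A_fst (a : A) : fstH A B D (algebraMap A (Ce A B D) a) = algebraMap A B a := by
  change TrivSqZeroExt.fst (TrivSqZeroExt.inl (algebraMap A B a) +
    TrivSqZeroExt.inr (algebraMap A B (D a))) = _
  simp
lemma algebraMap_A_snd (a : A) : sndF A B D (algebraMap A (Ce A B D) a) = algebraMap A B (D a) := by
  change TrivSqZeroExt.snd (TrivSqZeroExt.inl (algebraMap A B a) +
    TrivSqZeroExt.inr (algebraMap A B (D a)) : TrivSqZeroExt B B) = _
  simp only [TrivSqZeroExt.snd_add, TrivSqZeroExt.snd_inl, TrivSqZeroExt.snd_inr, zero_add]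
lemma algebraMap_B_eq : algebraMap B (Ce A B D) = inlH A B D := rfl

lemma ext_iff' (x y : Ce A B D) : x = y ↔ fstH A B D x = fstH A B D y ∧ sndF A B D x = sndF A B D y :=
  ⟨fun h => by rw [h]; exact ⟨rfl, rfl⟩, fun h => TrivSqZeroExt.ext h.1 h.2⟩

lemma ker_sq : (RingHom.ker (fstH A B D)) ^ 2 = ⊥ := by
  rw [eq_bot_iff, pow_two, Ideal.mul_le]
  intro x hx y hy
  rw [RingHom.mem_ker] at hx hy
  rw [Ideal.mem_bot, ext_iff']
  refine ⟨?_, ?_⟩
  · rw [map_mul, hx, zero_mul, map_zero]
  · rw [sndF_mul, hx, hy, zero_mul, zero_mul, add_zero]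
    rfl

lemma fstH_surjective : Function.Surjective (fstH A B D) := fun b => ⟨inlH A B D b, rfl⟩

open Groth.Agent.Lib.Helper15 in
theorem exists_extension [IsLocalRing B] [IsNoetherianRing B]
    [IsAdicComplete (maximalIdeal B) B]
    (hfs : CAlgX.IsAdicFormallySmooth A B (maximalIdeal B)) :
    ∃ D' : Derivation ℤ B B, ∀ a : A, D' (algebraMap A B a) = algebraMap A B (D a) := by
  let 𝔠 : Ideal (Ce A B D) := (maximalIdeal B).map (algebraMap B (Ce A B D))
  haveI hc : IsAdicComplete 𝔠 (Ce A B D) :=
    (IsAdicComplete.map_algebraMap_iff _ _).mpr (FiniteComplete.isAdicComplete_of_finite B _)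
  haveI : IsNoetherianRing (Ce A B D) := IsNoetherianRing.of_finite B _
  let J : Ideal (Ce A B D) := RingHom.ker (fstH A B D)
  have hJ2 : J ^ 2 = ⊥ := ker_sq A B D
  haveI hhaus : IsHausdorff (𝔠.map (Ideal.Quotient.mk J)) (Ce A B D ⧸ J) := by
    apply IsHausdorff.of_le_jacobson
    exact (Ideal.map_mono (IsAdicComplete.le_jacobson_bot 𝔠)).trans
      (Groth.Agent.Lib.Helper27.CplTensorC.map_jacobson_le _ Ideal.Quotient.mk_surjective)
  let u : B →ₐ[A] Ce A B D ⧸ J :=
    { toRingHom := (Ideal.Quotient.mk J).comp (inlH A B D)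
      commutes' := fun a => by
        change Ideal.Quotient.mk J (inlH A B D (algebraMap A B a)) =
          Ideal.Quotient.mk J (algebraMap A (Ce A B D) a)
        rw [Ideal.Quotient.eq, RingHom.mem_ker, map_sub, fstH_inlH, algebraMap_A_fst, sub_self] }
  have hu : ∃ n : ℕ, (maximalIdeal B ^ n).map u.toRingHom ≤ 𝔠.map (Ideal.Quotient.mk J) := by
    refine ⟨1, ?_⟩
    rw [pow_one, Ideal.map_le_iff_le_comap]
    intro b hb
    rw [Ideal.mem_comap]
    change Ideal.Quotient.mk J (inlH A B D b) ∈ _
    exact Ideal.mem_map_of_mem _ (Ideal.mem_map_of_mem _ hb)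
  obtain ⟨v, -, hv⟩ := Groth.Agent.S4542.result (⊥ : Ideal A) (maximalIdeal B) 𝔠
    (Groth.Agent.Lib.Helper6.FSAdic.isFormallySmoothAdic_bot_of_isAdicFormallySmooth hfs)
    ⟨1, by rw [pow_one, Ideal.map_bot]; exact bot_le⟩ J ⟨2, by rw [hJ2]; exact bot_le⟩ u hu
  have hfst : ∀ b : B, fstH A B D (v b) = b := by
    intro b
    have h1 : Ideal.Quotient.mk J (v b) = Ideal.Quotient.mk J (inlH A B D b) :=
      AlgHom.congr_fun hv b
    rw [Ideal.Quotient.eq, RingHom.mem_ker, map_sub, fstH_inlH, sub_eq_zero] at h1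
    exact h1
  let L : B →ₗ[ℤ] B :=
    (AddMonoidHom.mk' (fun b => sndF A B D (v b)) (fun x y => by
      rw [map_add, sndF_add])).toIntLinearMap
  have hL : ∀ b, L b = sndF A B D (v b) := fun b => rfl
  refine ⟨Derivation.mk' L (fun a b => ?_), fun a => ?_⟩
  · rw [hL, hL, hL, map_mul, sndF_mul, hfst, hfst, smul_eq_mul, smul_eq_mul]
  · change L (algebraMap A B a) = _
    rw [hL, AlgHom.commutes, algebraMap_A_snd]

end Groth.Agent.Lib.Helper27.DerivExt
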