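import Mathlib

/-!
# A prime of the generic fibre, closed in it, below a closed point of a closed fibre (ring level)
-/

set_option autoImplicit false
set_option linter.style.haveILetI false
set_option linter.unusedSectionVars false
universe u
open Polynomial

namespace Groth.Agent.Lib.Helper27.DgfA

/-- In a Noetherian domain `D` with a maximal ideal `m` and `0 ≠ π ∈ m` such that every nonzero
prime contained in `m` contains `π`, the ideal `m` is minimal over `(π)`. -/
theorem mem_minimalPrimes_of_forall {D : Type*} [CommRing D] [IsDomain D] [IsNoetherianRing D]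
    (m : Ideal D) [hm : m.IsMaximal] (π : D) (hπ0 : π ≠ 0) (hπm : π ∈ m)
    (hmax : ∀ Q : Ideal D, Q.IsPrime → Q ≤ m → π ∉ Q → Q = ⊥) :
    m ∈ (Ideal.span {π}).minimalPrimes := by
  classical
  have hle : Ideal.span {π} ≤ m := (Ideal.span_singleton_le_iff_mem _).mpr hπm
  obtain ⟨P, hP, hPm⟩ := Ideal.exists_minimalPrimes_le hle
  by_cases hPeq : P = m
  · rw [← hPeq]; exact hP
  exfalso
  have hfin := Ideal.finite_minimalPrimes_of_isNoetherianRing D (Ideal.span {π})
  set F := hfin.toFinset with hF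
  have hFmem : ∀ Q, Q ∈ F ↔ Q ∈ (Ideal.span {π}).minimalPrimes := fun Q => hfin.mem_toFinset
  have hnot : ¬ ((m : Set D) ⊆ ⋃ Q ∈ (↑F : Set (Ideal D)), (Q : Set D)) := by
    intro hsub
    rw [Ideal.subset_union_prime (f := fun Q : Ideal D => Q) ⊥ ⊥
      (fun Q hQ _ _ => ((hFmem Q).mp hQ).isPrime)] at hsub
    obtain ⟨Q, hQ, hmQ⟩ := hsub
    have hQ' := (hFmem Q).mp hQ
    have hQp : Q.IsPrime := hQ'.isPrime
    have hmQ' : m = Q := hm.eq_of_le hQp.ne_top hmQ
    -- `P ≤ m = Q` both minimal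
    have : P = Q := le_antisymm (hmQ' ▸ hPm) (hQ'.2 ⟨hP.isPrime, hP.1.2⟩ (hmQ' ▸ hPm))
    exact hPeq (this.trans hmQ'.symm)
  rw [Set.not_subset] at hnot
  obtain ⟨y, hym, hyF⟩ := hnot
  have hyF' : ∀ Q ∈ (Ideal.span {π}).minimalPrimes, y ∉ Q := by
    intro Q hQ hy
    apply hyF
    simp only [Set.mem_iUnion]
    exact ⟨Q, (hFmem Q).mpr hQ, hy⟩
  have hy0 : y ≠ 0 := fun h => hyF' P hP (h ▸ P.zero_mem)
  have hle2 : Ideal.span {y} ≤ m := (Ideal.span_singleton_le_iff_mem _).mpr hym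
  obtain ⟨Q, hQ, hQm⟩ := Ideal.exists_minimalPrimes_le hle2
  have hQp : Q.IsPrime := hQ.isPrime
  have hQht : Q.height ≤ 1 := Ideal.height_le_one_of_isPrincipal_of_mem_minimalPrimes _ Q hQ
  have hyQ : y ∈ Q := hQ.1.2 (Ideal.mem_span_singleton_self y)
  have hQ0 : Q ≠ ⊥ := fun h => hy0 (by rw [h] at hyQ; exact hyQ)
  have hπQ : π ∈ Q := by
    by_contra h
    exact hQ0 (hmax Q hQp hQm h)
  have hle3 : Ideal.span {π} ≤ Q := (Ideal.span_singleton_le_iff_mem _).mpr hπQ
  obtain ⟨P', hP', hP'Q⟩ := Ideal.exists_minimalPrimes_le hle3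
  have hP'p : P'.IsPrime := hP'.isPrime
  have hπP' : π ∈ P' := hP'.1.2 (Ideal.mem_span_singleton_self π)
  have hP'0 : P' ≠ ⊥ := fun h => hπ0 (by rw [h] at hπP'; exact hπP')
  by_cases hPQ : P' = Q
  · exact hyF' P' hP' (hPQ ▸ hyQ)
  · have hlt : P' < Q := lt_of_le_of_ne hP'Q hPQ
    have h1 : P'.height < Q.height := Ideal.height_strict_mono_of_isPrime hlt
    have h2 : 1 ≤ P'.height := by
      rw [Order.one_le_iff_pos, pos_iff_ne_zero, Ne, Ideal.height_eq_zero_iff_eq_bot]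
      exact hP'0
    have : (1 : ℕ∞) < 1 := lt_of_le_of_lt h2 (lt_of_lt_of_le h1 hQht)
    exact lt_irrefl _ this

end Groth.Agent.Lib.Helper27.DgfA

namespace Groth.Agent.Lib.Helper27.DgfA

theorem quasiFiniteAt_of_mem_minimalPrimes {R : Type u} [CommRing R] {D : Type u} [CommRing D]
    [IsDomain D] [Algebra R D] [Algebra.FiniteType R D] [IsNoetherianRing D]
    (m : Ideal D) [hm : m.IsMaximal] (π : R) (hπm : algebraMap R D π ∈ m)
    (hmin : m ∈ (Ideal.span {algebraMap R D π}).minimalPrimes) :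
    Algebra.QuasiFiniteAt R m := by
  classical
  let qs : PrimeSpectrum D := ⟨m, inferInstance⟩
  apply Algebra.QuasiFiniteAt.of_isOpen_singleton_fiber qs
  rw [isOpen_induced_iff]
  have hfin := Ideal.finite_minimalPrimes_of_isNoetherianRing D (Ideal.span {algebraMap R D π})
  have hfin' : {P ∈ (Ideal.span {algebraMap R D π}).minimalPrimes | P ≠ m}.Finite :=
    hfin.subset (Set.sep_subset _ _)
  refine ⟨⋂ P ∈ {P ∈ (Ideal.span {algebraMap R D π}).minimalPrimes | P ≠ m},
    (PrimeSpectrum.zeroLocus (P : Set D))ᶜ,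
    hfin'.isOpen_biInter fun P _ => (PrimeSpectrum.isClosed_zeroLocus _).isOpen_compl, ?_⟩
  ext ⟨z, hz⟩
  simp only [Set.mem_preimage, Set.mem_iInter, Set.mem_compl_iff, PrimeSpectrum.mem_zeroLocus,
    SetLike.coe_subset_coe, Set.mem_singleton_iff, Set.mem_ofPred_eq, and_imp]
  have hz' : z.asIdeal.comap (algebraMap R D) = m.comap (algebraMap R D) := by
    have := congrArg PrimeSpectrum.asIdeal hz
    exact this
  constructor
  · intro h
    have hπz : algebraMap R D π ∈ z.asIdeal := by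
      have : π ∈ z.asIdeal.comap (algebraMap R D) := by rw [hz']; exact hπm
      exact this
    have hle : Ideal.span {algebraMap R D π} ≤ z.asIdeal :=
      (Ideal.span_singleton_le_iff_mem _).mpr hπz
    obtain ⟨P, hP, hPz⟩ := Ideal.exists_minimalPrimes_le hle
    by_cases hPm : P = m
    · apply Subtype.ext
      apply PrimeSpectrum.ext
      exact (hm.eq_of_le z.2.ne_top (hPm ▸ hPz)).symm
    · exact absurd hPz (h P hP hPm)
  · intro h P hP hPm hPz
    have hzq : z = qs := congrArg Subtype.val h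
    rw [hzq] at hPz
    have hPz' : P ≤ m := hPz
    exact hPm (le_antisymm hPz' (hmin.2 ⟨hP.isPrime, hP.1.2⟩ hPz'))

theorem eq_bot_of_comap_eq_bot {R : Type u} [CommRing R] {D : Type u} [CommRing D] [IsDomain D]
    [IsNoetherianRing R]
    [Algebra R D] [Algebra.FiniteType R D]
    (m : Ideal D) [hm : m.IsMaximal] (π : R) (hπ0 : algebraMap R D π ≠ 0)
    (hπm : algebraMap R D π ∈ m)
    (hmax : ∀ Q : Ideal D, Q.IsPrime → Q ≤ m → algebraMap R D π ∉ Q → Q = ⊥)
    (Q : Ideal D) [Q.IsPrime] (hQ : Q.comap (algebraMap R D) = ⊥) : Q = ⊥ := by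
  haveI : IsNoetherianRing D := Algebra.FiniteType.isNoetherianRing R D
  haveI : Nontrivial R := (algebraMap R D).domain_nontrivial
  have hmin := mem_minimalPrimes_of_forall m (algebraMap R D π) hπ0 hπm hmax
  haveI := quasiFiniteAt_of_mem_minimalPrimes m π hπm hmin
  have hZ := Algebra.ZariskisMainProperty.of_finiteType (R := R) m
  obtain ⟨r, hr, hint⟩ := Algebra.zariskisMainProperty_iff'.mp hZ
  rw [eq_bot_iff]
  intro x hx
  obtain ⟨k, hk⟩ := hint x
  have hr0 : r ≠ 0 := fun h => hr (h ▸ m.zero_mem)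
  by_contra hx0
  have hx0' : x ≠ 0 := hx0
  have hz0 : r ^ k * x ≠ 0 := mul_ne_zero (pow_ne_zero _ hr0) hx0'
  have hzQ : r ^ k * x ∈ Q := Q.mul_mem_left _ hx
  obtain ⟨P, hPmonic, hP⟩ := hk
  obtain ⟨i, hi0, hiQ⟩ := Ideal.exists_coeff_ne_zero_mem_comap_of_root_mem hz0 hzQ hPmonic.ne_zero hP
  rw [hQ] at hiQ
  exact hi0 hiQ

theorem exists_prime {R : Type u} [CommRing R] [IsDedekindDomain R] {B : Type u} [CommRing B]
    [Algebra R B] [Algebra.FiniteType R B]
    (n : Ideal B) [hnp : n.IsPrime] (hn : n.comap (algebraMap R B) = ⊥)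
    (m' : Ideal B) [hm' : m'.IsMaximal] (hnm : n ≤ m')
    (hp0 : m'.comap (algebraMap R B) ≠ ⊥) :
    ∃ q : Ideal B, q.IsPrime ∧ q ≤ m' ∧ q.comap (algebraMap R B) = ⊥ ∧
      ∀ q₂ : Ideal B, q₂.IsPrime → q ≤ q₂ → q₂.comap (algebraMap R B) = ⊥ → q₂ = q := by
  haveI : IsNoetherianRing B := Algebra.FiniteType.isNoetherianRing R B
  obtain ⟨π, hπp, hπ0⟩ := Submodule.exists_mem_ne_zero_of_ne_bot hp0
  have hπm' : algebraMap R B π ∈ m' := hπp
  -- the set of primes below `m'` not containing `π`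
  let S : Set (Ideal B) := {q | q.IsPrime ∧ q ≤ m' ∧ algebraMap R B π ∉ q}
  have hnS : n ∈ S := by
    refine ⟨hnp, hnm, fun h => hπ0 ?_⟩
    have : π ∈ n.comap (algebraMap R B) := h
    rw [hn] at this
    exact this
  obtain ⟨q, hqS, hqmax⟩ := (wellFounded_gt (α := Ideal B)).has_min S ⟨n, hnS⟩
  obtain ⟨hqp, hqm, hπq⟩ := hqS
  have hq0 : q.comap (algebraMap R B) = ⊥ := by
    by_contra h
    haveI : (q.comap (algebraMap R B)).IsPrime := Ideal.comap_isPrime _ _
    have hmax : (q.comap (algebraMap R B)).IsMaximal := Ideal.IsPrime.isMaximal inferInstance h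
    have hle : q.comap (algebraMap R B) ≤ m'.comap (algebraMap R B) := Ideal.comap_mono hqm
    have hne : m'.comap (algebraMap R B) ≠ ⊤ := (Ideal.comap_isPrime _ m').ne_top
    have := hmax.eq_of_le hne hle
    apply hπq
    have h2 : π ∈ q.comap (algebraMap R B) := by rw [this]; exact hπp
    exact h2
  refine ⟨q, hqp, hqm, hq0, ?_⟩
  intro q₂ hq₂p hqq₂ hq₂0
  -- pass to `D = B ⧸ q`
  let D := B ⧸ q
  haveI : IsDomain D := Ideal.Quotient.isDomain q
  let mk : B →+* D := Ideal.Quotient.mk q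
  have hmk : Function.Surjective mk := Ideal.Quotient.mk_surjective
  let m := m'.map mk
  haveI hm : m.IsMaximal := Ideal.IsMaximal.map_of_surjective_of_ker_le hmk (by
    rw [Ideal.mk_ker]; exact hqm)
  have hmcomap : m.comap mk = m' := (Ideal.comap_map_of_surjective' mk hmk m').trans (by
    rw [Ideal.mk_ker]; exact sup_eq_left.mpr hqm)
  have halg : ∀ a : R, algebraMap R D a = mk (algebraMap R B a) := fun a => rfl
  have hπ0D : algebraMap R D π ≠ 0 := by
    rw [halg]
    intro h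
    exact hπq (Ideal.Quotient.eq_zero_iff_mem.mp h)
  have hπmD : algebraMap R D π ∈ m := Ideal.mem_map_of_mem mk hπm'
  have hmaxD : ∀ Q : Ideal D, Q.IsPrime → Q ≤ m → algebraMap R D π ∉ Q → Q = ⊥ := by
    intro Q hQp hQm hπQ
    have h1 : Q.comap mk ∈ S := by
      refine ⟨Ideal.comap_isPrime _ _, ?_, hπQ⟩
      rw [← hmcomap]; exact Ideal.comap_mono hQm
    have h2 : q ≤ Q.comap mk := by
      intro b hb
      show mk b ∈ Q
      rw [Ideal.Quotient.eq_zero_iff_mem.mpr hb]; exact Q.zero_mem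
    have h3 : Q.comap mk = q := by
      by_contra hne
      exact hqmax _ h1 (lt_of_le_of_ne h2 (Ne.symm hne))
    rw [eq_bot_iff]
    intro d hd
    obtain ⟨b, rfl⟩ := hmk d
    have : b ∈ Q.comap mk := hd
    rw [h3] at this
    exact Ideal.Quotient.eq_zero_iff_mem.mpr this
  -- the image of `q₂`
  let Q₂ := q₂.map mk
  have hQ₂comap : Q₂.comap mk = q₂ := (Ideal.comap_map_of_surjective' mk hmk q₂).trans (by
    rw [Ideal.mk_ker]; exact sup_eq_left.mpr hqq₂)
  haveI : Q₂.IsPrime := Ideal.map_isPrime_of_surjective hmk (by rw [Ideal.mk_ker]; exact hqq₂)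
  have hQ₂0 : Q₂.comap (algebraMap R D) = ⊥ := by
    rw [eq_bot_iff]
    intro a ha
    have : algebraMap R B a ∈ Q₂.comap mk := ha
    rw [hQ₂comap] at this
    have h2 : a ∈ q₂.comap (algebraMap R B) := this
    rw [hq₂0] at h2
    exact h2
  have := eq_bot_of_comap_eq_bot m π hπ0D hπmD hmaxD Q₂ hQ₂0
  apply le_antisymm _ hqq₂
  intro b hb
  have h1 : mk b ∈ Q₂ := Ideal.mem_map_of_mem mk hb
  rw [this] at h1
  exact Ideal.Quotient.eq_zero_iff_mem.mp h1

end Groth.Agent.Lib.Helper27.DgfA
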