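import Mathlib
import Groth.Agent.Lib.Helper27.DgfA

/-!
# A closed point of the generic fibre specializing to a closed point of a closed fibre
-/

set_option autoImplicit false
set_option linter.style.haveILetI false
universe u
open AlgebraicGeometry CategoryTheory CategoryTheory.Limits TopologicalSpace

namespace Groth.Agent.Lib.Helper27.DgfB

theorem closed_in_fibre_of_open {X Y : Scheme.{u}} (f : X ⟶ Y) [LocallyOfFiniteType f] (x : X)
    (y : Y) (hxy : f.base x = y)
    (U : X.Opens) (hxU : x ∈ U)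
    (h : ∀ z : X, z ∈ U → f.base z = y → x ⤳ z → z = x) :
    ∀ z : X, f.base z = y → x ⤳ z → z = x := by
  intro z hz hxz
  let F := f.fiber y
  let ι := f.fiberι y
  let xt : F := (f.fiberHomeo y).symm ⟨x, hxy⟩
  have hxt : ι.base xt = x := f.fiberι_fiberHomeo_symm _ _
  have hinj : Function.Injective ι.base := ι.isEmbedding.injective
  have hloc : IsLocallyClosed ({xt} : Set F) := by
    refine ⟨ι.base ⁻¹' U, closure {xt}, U.isOpen.preimage ι.continuous, isClosed_closure, ?_⟩
    ext w
    simp only [Set.mem_singleton_iff, Set.mem_inter_iff, Set.mem_preimage, SetLike.mem_coe]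
    constructor
    · rintro rfl
      refine ⟨?_, subset_closure rfl⟩
      rw [hxt]; exact hxU
    · rintro ⟨hwU, hw⟩
      have hsp : xt ⤳ w := specializes_iff_mem_closure.mpr hw
      have hsp' : x ⤳ ι.base w := by
        have := hsp.map ι.continuous
        rwa [hxt] at this
      have hfw : f.base (ι.base w) = y := by
        have : ι.base w ∈ Set.range ι.base := ⟨w, rfl⟩
        rw [f.range_fiberι] at this
        exact this
      have := h _ hwU hfw hsp'
      exact hinj (this.trans hxt.symm)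
  have hcl : IsClosed ({xt} : Set F) := isClosed_singleton_of_isLocallyClosed_singleton hloc
  let zt : F := (f.fiberHomeo y).symm ⟨z, hz⟩
  have hzt : ι.base zt = z := f.fiberι_fiberHomeo_symm _ _
  have hsp : xt ⤳ zt := by
    rw [← ι.isEmbedding.isInducing.specializes_iff, hxt, hzt]; exact hxz
  have : zt ∈ closure {xt} := specializes_iff_mem_closure.mp hsp
  rw [hcl.closure_eq] at this
  rw [← hzt, ← hxt]; exact congrArg _ this

theorem affine_case {R B : Type u} [CommRing R] [IsDedekindDomain R] [CommRing B] [Algebra R B]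
    [Algebra.FiniteType R B] {X : Scheme.{u}} (f : X ⟶ Spec (CommRingCat.of R))
    [LocallyOfFiniteType f] (j : Spec (CommRingCat.of B) ⟶ X) [IsOpenImmersion j]
    (hjf : j ≫ f = Spec.map (CommRingCat.ofHom (algebraMap R B)))
    (ξ x' : X) (hξ : ξ ⤳ x') (hξ0 : (f.base ξ).asIdeal = ⊥)
    (hξj : ξ ∈ Set.range j.base) (hx'j : x' ∈ Set.range j.base)
    (hx' : IsClosed ({x'} : Set X)) (hne : (f.base x').asIdeal ≠ ⊥) :
    ∃ x : X, (f.base x).asIdeal = ⊥ ∧
      (∀ z : X, (f.base z).asIdeal = ⊥ → x ⤳ z → z = x) ∧ x ⤳ x' := by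
  obtain ⟨η', hη'⟩ := hξj
  obtain ⟨y', hy'⟩ := hx'j
  have hinj : Function.Injective j.base := j.isOpenEmbedding.injective
  have hind := j.isOpenEmbedding.isInducing
  have key : ∀ w : Spec (CommRingCat.of B),
      (f.base (j.base w)).asIdeal = w.asIdeal.comap (algebraMap R B) := by
    intro w
    rw [← Scheme.Hom.comp_apply, hjf]
    rfl
  have hηy : η'.asIdeal ≤ y'.asIdeal := by
    have : η' ⤳ y' := by rw [← hind.specializes_iff, hη', hy']; exact hξ
    exact (PrimeSpectrum.le_iff_specializes _ _).mpr this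
  have hy'cl : IsClosed ({y'} : Set (Spec (CommRingCat.of B))) := by
    have : ({y'} : Set (Spec (CommRingCat.of B))) = j.base ⁻¹' {x'} := by
      ext w
      simp only [Set.mem_singleton_iff, Set.mem_preimage, ← hy', hinj.eq_iff]
    rw [this]
    exact hx'.preimage j.continuous
  haveI hy'max : y'.asIdeal.IsMaximal := (PrimeSpectrum.isClosed_singleton_iff_isMaximal _).mp hy'cl
  haveI : η'.asIdeal.IsPrime := η'.2
  have hη0 : η'.asIdeal.comap (algebraMap R B) = ⊥ := by rw [← key, hη', hξ0]
  have hy0 : y'.asIdeal.comap (algebraMap R B) ≠ ⊥ := by rw [← key, hy']; exact hne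
  obtain ⟨q, hqp, hqy, hq0, hqmax⟩ := DgfA.exists_prime η'.asIdeal hη0 y'.asIdeal hηy hy0
  let qs : Spec (CommRingCat.of B) := ⟨q, hqp⟩
  refine ⟨j.base qs, ?_, ?_, ?_⟩
  · rw [key]; exact hq0
  · intro z hz hxz
    have hfx : (f.base (j.base qs)).asIdeal = ⊥ := by rw [key]; exact hq0
    refine closed_in_fibre_of_open f (j.base qs) (f.base (j.base qs)) rfl j.opensRange ⟨qs, rfl⟩
      ?_ z ?_ hxz
    · rintro z ⟨w, rfl⟩ hzf hxz
      have h1 : qs ⤳ w := hind.specializes_iff.mp hxz
      have h2 : q ≤ w.asIdeal := (PrimeSpectrum.le_iff_specializes qs w).mpr h1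
      have h3 : w.asIdeal.comap (algebraMap R B) = ⊥ := by rw [← key, hzf, hfx]
      have h4 := hqmax w.asIdeal w.2 h2 h3
      congr 1
      exact PrimeSpectrum.ext h4
    · exact PrimeSpectrum.ext (hz.trans hfx.symm)
  · have : qs ⤳ y' := (PrimeSpectrum.le_iff_specializes qs y').mp hqy
    rw [← hy']
    exact this.map j.continuous

theorem main {R : Type u} [CommRing R] [IsDedekindDomain R]
    {X : Scheme.{u}} [IrreducibleSpace X] (f : X ⟶ Spec (CommRingCat.of R)) [LocallyOfFiniteType f]
    (hdom : DenseRange f.base) (x' : X) (hx' : IsClosed ({x'} : Set X))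
    (hs : (f.base x').asIdeal.IsMaximal) :
    ∃ x : X, (f.base x).asIdeal = ⊥ ∧
      (∀ z : X, (f.base z).asIdeal = ⊥ → x ⤳ z → z = x) ∧ x ⤳ x' := by
  by_cases h0 : (f.base x').asIdeal = ⊥
  · refine ⟨x', h0, ?_, specializes_rfl⟩
    intro z _ hz
    have : z ∈ closure {x'} := specializes_iff_mem_closure.mp hz
    rw [hx'.closure_eq] at this
    exact this
  -- generic point
  let ξ := genericPoint X
  have hξ : IsGenericPoint ξ ⊤ := genericPoint_spec X
  have hfξ : (f.base ξ).asIdeal = ⊥ := by
    have h1 : closure {f.base ξ} = Set.univ := by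
      rw [← Set.image_singleton, ← closure_image_closure f.continuous, hξ.def, Set.top_eq_univ,
        Set.image_univ]
      exact hdom.closure_range
    have h1' : PrimeSpectrum.zeroLocus ((f.base ξ).asIdeal : Set R) = Set.univ :=
      (PrimeSpectrum.closure_singleton (f.base ξ)).symm.trans h1
    have h2 : (⟨⊥, Ideal.bot_prime⟩ : PrimeSpectrum R) ∈
        PrimeSpectrum.zeroLocus ((f.base ξ).asIdeal : Set R) := by
      rw [h1']; exact Set.mem_univ _
    rw [PrimeSpectrum.mem_zeroLocus] at h2
    exact le_bot_iff.mp h2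
  obtain ⟨U, hU₀, hxU, -⟩ := Opens.isBasis_iff_nbhd.mp X.isBasis_affineOpens (Opens.mem_top x')
  have hU : IsAffineOpen U := hU₀
  have hξU : ξ ∈ U := by
    have := (hξ.mem_open_set_iff U.isOpen).mpr ⟨x', Set.mem_univ _, hxU⟩
    exact this
  let j : Spec Γ(X, U) ⟶ X := hU.fromSpec
  haveI : IsOpenImmersion j := inferInstanceAs (IsOpenImmersion hU.fromSpec)
  let ψ : CommRingCat.of R ⟶ Γ(X, U) := Spec.preimage (j ≫ f)
  have hψ : Spec.map ψ = j ≫ f := Spec.map_preimage _
  letI : Algebra R Γ(X, U) := ψ.hom.toAlgebra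
  haveI : LocallyOfFiniteType (Spec.map ψ) := by rw [hψ]; infer_instance
  have hft : RingHom.FiniteType ψ.hom :=
    (HasRingHomProperty.Spec_iff (P := @LocallyOfFiniteType)).mp inferInstance
  haveI : Algebra.FiniteType R Γ(X, U) := hft
  have hrange : Set.range j.base = (U : Set X) := hU.range_fromSpec
  exact affine_case (B := Γ(X, U)) f j hψ.symm ξ x' (hξ.specializes (Set.mem_univ _)) hfξ
    (hrange ▸ hξU) (hrange ▸ hxU) hx' h0

end Groth.Agent.Lib.Helper27.DgfB
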