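import Mathlib

/-!
# The algebra `B = A[z]/(s - ∑_j z_j a_j)` and its smooth charts `B_{a_j}`
-/

namespace Groth.Agent.Lib.Helper27.DvrA

open MvPolynomial

universe u

variable {R A : Type u} [CommRing R] [CommRing A] [Algebra R A]
variable {r : ℕ} (s : A) (a : Fin r → A)

/-- the relation -/
noncomputable def relS : MvPolynomial (Fin r) A := C s - ∑ j, C (a j) * X j

/-- the algebra `A[z]/(s - ∑ z_j a_j)` -/
abbrev Bs := MvPolynomial (Fin r) A ⧸ Ideal.span {relS s a}

/-- the class of `z_j` -/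
noncomputable def zs (j : Fin r) : Bs s a := Ideal.Quotient.mk _ (X j)

lemma algebraMap_A_apply (x : A) :
    algebraMap A (Bs s a) x = Ideal.Quotient.mk _ (C x) := rfl

lemma rel_eq : algebraMap A (Bs s a) s = ∑ j, algebraMap A (Bs s a) (a j) * zs s a j := by
  have h : Ideal.Quotient.mk (Ideal.span {relS s a}) (C s) =
      Ideal.Quotient.mk (Ideal.span {relS s a}) (∑ j, C (a j) * X j) :=
    Ideal.Quotient.eq.mpr (Ideal.subset_span (Set.mem_singleton_iff.mpr rfl))
  rw [algebraMap_A_apply, h, map_sum]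
  refine Finset.sum_congr rfl fun j _ => ?_
  rw [map_mul]; rfl

instance [Algebra.FinitePresentation R A] : Algebra.FinitePresentation R (Bs s a) := by
  haveI : Algebra.FinitePresentation A (Bs s a) :=
    Algebra.FinitePresentation.quotient (Submodule.fg_span (Set.finite_singleton _))
  exact Algebra.FinitePresentation.trans R A (Bs s a)

section lift

variable {T : Type u} [CommRing T] [Algebra R T] (ψ : A →ₐ[R] T) (ζ : Fin r → T)
  (hrel : ψ s = ∑ j, ψ (a j) * ζ j)

include hrel in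
lemma aevalTower_relS : (aevalTower ψ ζ : MvPolynomial (Fin r) A →ₐ[R] T) (relS s a) = 0 := by
  unfold relS
  rw [map_sub, map_sum, sub_eq_zero]
  simp only [map_mul, aevalTower_C, aevalTower_X]
  exact hrel

/-- the lift -/
noncomputable def liftS : Bs s a →ₐ[R] T :=
  Ideal.Quotient.liftₐ _ (aevalTower ψ ζ) (fun p hp => by
    have hle : Ideal.span {relS s a} ≤
        RingHom.ker (aevalTower ψ ζ : MvPolynomial (Fin r) A →ₐ[R] T).toRingHom := by
      rw [Ideal.span_le]
      intro q hq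
      rw [Set.mem_singleton_iff] at hq
      subst hq
      exact aevalTower_relS s a ψ ζ hrel
    exact hle hp)

lemma liftS_mk (p : MvPolynomial (Fin r) A) :
    liftS s a ψ ζ hrel (Ideal.Quotient.mk _ p) = aevalTower ψ ζ p := rfl

lemma liftS_algebraMap_A (x : A) : liftS s a ψ ζ hrel (algebraMap A (Bs s a) x) = ψ x := by
  rw [algebraMap_A_apply, liftS_mk, aevalTower_C]

lemma liftS_zs (j : Fin r) : liftS s a ψ ζ hrel (zs s a j) = ζ j := by
  rw [zs, liftS_mk, aevalTower_X]

end lift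

theorem formallySmooth_chart (j₀ : Fin r) [Algebra.FormallySmooth R (Localization.Away (a j₀))] :
    Algebra.FormallySmooth R (Localization.Away (algebraMap A (Bs s a) (a j₀))) := by
  classical
  refine Algebra.FormallySmooth.of_comp_surjective fun T _ _ N hN ub => ?_
  let b₀ : Bs s a := algebraMap A (Bs s a) (a j₀)
  let S₀ := Localization.Away b₀
  let Aa := Localization.Away (a j₀)
  have hNnil : IsNilpotent N := ⟨2, hN⟩
  let mkN : T →+* T ⧸ N := Ideal.Quotient.mk N
  -- Step 1
  let psb0 : A →ₐ[R] T ⧸ N := ub.comp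
    ((IsScalarTower.toAlgHom R (Bs s a) S₀).comp (IsScalarTower.toAlgHom R A (Bs s a)))
  have hpsb0 : ∀ x, psb0 x = ub (algebraMap (Bs s a) S₀ (algebraMap A (Bs s a) x)) :=
    fun x => rfl
  have hb₀unit : IsUnit (algebraMap (Bs s a) S₀ b₀) := IsLocalization.Away.algebraMap_isUnit b₀
  have hunit0 : ∀ y : Submonoid.powers (a j₀), IsUnit (psb0 y) := by
    rintro ⟨_, m, rfl⟩
    show IsUnit (psb0 (a j₀ ^ m))
    rw [map_pow, hpsb0]
    exact (hb₀unit.map ub).pow m
  let psb : Aa →ₐ[R] T ⧸ N :=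
    IsLocalization.liftAlgHom (M := Submonoid.powers (a j₀)) (f := psb0) hunit0
  have hpsb : ∀ x : A, psb (algebraMap A Aa x) = psb0 x := fun x => by
    rw [IsLocalization.liftAlgHom_apply, IsLocalization.lift_eq]; rfl
  -- Step 2
  let ψ' : Aa →ₐ[R] T := Algebra.FormallySmooth.lift N hNnil psb
  have hψ' : ∀ y, mkN (ψ' y) = psb y := fun y => Algebra.FormallySmooth.mk_lift N hNnil psb y
  let ψ : A →ₐ[R] T := ψ'.comp (IsScalarTower.toAlgHom R A Aa)
  have hψ : ∀ x, mkN (ψ x) = ub (algebraMap (Bs s a) S₀ (algebraMap A (Bs s a) x)) := by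
    intro x
    show mkN (ψ' (algebraMap A Aa x)) = _
    rw [hψ', hpsb, hpsb0]
  let v : T := ψ (a j₀)
  let vinv : T := ψ' (IsLocalization.Away.invSelf (a j₀))
  have hv : v * vinv = 1 := by
    show ψ' (algebraMap A Aa (a j₀)) * ψ' (IsLocalization.Away.invSelf (a j₀)) = 1
    rw [← map_mul, IsLocalization.Away.mul_invSelf, map_one]
  -- Step 3
  let sinv : T ⧸ N → T := Function.surjInv (Ideal.Quotient.mk_surjective (I := N))
  have hsinv : ∀ y, mkN (sinv y) = y := Function.surjInv_eq _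
  let ζ' : Fin r → T := fun j => sinv (ub (algebraMap (Bs s a) S₀ (zs s a j)))
  let ζ : Fin r → T := fun j =>
    if j = j₀ then vinv * (ψ s - ∑ j' ∈ Finset.univ.erase j₀, ψ (a j') * ζ' j')
    else ζ' j
  have hζne : ∀ j, j ≠ j₀ → ζ j = ζ' j := fun j hj => if_neg hj
  have hζeq : ζ j₀ = vinv * (ψ s - ∑ j' ∈ Finset.univ.erase j₀, ψ (a j') * ζ' j') := if_pos rfl
  have hrel : ψ s = ∑ j, ψ (a j) * ζ j := by
    rw [← Finset.add_sum_erase Finset.univ _ (Finset.mem_univ j₀), hζeq]
    have h1 : ∑ j ∈ Finset.univ.erase j₀, ψ (a j) * ζ j =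
        ∑ j' ∈ Finset.univ.erase j₀, ψ (a j') * ζ' j' :=
      Finset.sum_congr rfl fun j hj => by rw [hζne j (Finset.ne_of_mem_erase hj)]
    rw [h1]
    show ψ s = v * (vinv * (ψ s - _)) + _
    rw [← mul_assoc, hv, one_mul, sub_add_cancel]
  -- Step 4
  let u₁ : Bs s a →ₐ[R] T := liftS s a ψ ζ hrel
  have hu₁A : ∀ x, u₁ (algebraMap A (Bs s a) x) = ψ x :=
    fun x => liftS_algebraMap_A s a ψ ζ hrel x
  have hu₁z : ∀ j, u₁ (zs s a j) = ζ j := fun j => liftS_zs s a ψ ζ hrel j
  have hunit1 : ∀ y : Submonoid.powers b₀, IsUnit (u₁ y) := by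
    rintro ⟨_, m, rfl⟩
    show IsUnit (u₁ (b₀ ^ m))
    rw [map_pow, hu₁A]
    exact (IsUnit.of_mul_eq_one _ hv).pow m
  let u : S₀ →ₐ[R] T := IsLocalization.liftAlgHom (M := Submonoid.powers b₀) (f := u₁) hunit1
  have hu : ∀ b : Bs s a, u (algebraMap (Bs s a) S₀ b) = u₁ b := fun b => by
    rw [IsLocalization.liftAlgHom_apply, IsLocalization.lift_eq]; rfl
  refine ⟨u, ?_⟩
  -- Step 5
  apply AlgHom.coe_ringHom_injective
  apply IsLocalization.ringHom_ext (Submonoid.powers b₀)
  apply Ideal.Quotient.ringHom_ext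
  apply MvPolynomial.ringHom_ext
  · intro x
    show mkN (u (algebraMap (Bs s a) S₀ (Ideal.Quotient.mk _ (C x)))) =
      ub (algebraMap (Bs s a) S₀ (Ideal.Quotient.mk _ (C x)))
    rw [hu, ← algebraMap_A_apply, hu₁A, hψ]
  · intro j
    show mkN (u (algebraMap (Bs s a) S₀ (zs s a j))) = ub (algebraMap (Bs s a) S₀ (zs s a j))
    rw [hu, hu₁z]
    by_cases hj : j = j₀
    · subst hj
      rw [hζeq, map_mul, map_sub, map_sum]
      have h1 : ∀ j' ∈ Finset.univ.erase j, mkN (ψ (a j') * ζ' j') =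
          ub (algebraMap (Bs s a) S₀ (algebraMap A (Bs s a) (a j') * zs s a j')) := by
        intro j' _
        rw [map_mul, hψ, hsinv, map_mul, map_mul]
      rw [Finset.sum_congr rfl h1, hψ, ← map_sum, ← map_sum, ← map_sub, ← map_sub, rel_eq,
        ← Finset.add_sum_erase Finset.univ _ (Finset.mem_univ j), add_sub_cancel_right,
        map_mul, map_mul]
      have h2 : mkN vinv * ub (algebraMap (Bs s a) S₀ (algebraMap A (Bs s a) (a j))) = 1 := by
        rw [← hψ, ← map_mul, mul_comm, hv, map_one]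
      rw [← mul_assoc, h2, one_mul]
    · rw [hζne j hj, hsinv]

theorem smooth_chart [Algebra.FinitePresentation R A] (j₀ : Fin r)
    [Algebra.FormallySmooth R (Localization.Away (a j₀))] :
    Algebra.Smooth R (Localization.Away (algebraMap A (Bs s a) (a j₀))) := by
  haveI := formallySmooth_chart (R := R) s a j₀
  haveI : Algebra.FinitePresentation (Bs s a)
      (Localization.Away (algebraMap A (Bs s a) (a j₀))) :=
    IsLocalization.Away.finitePresentation (algebraMap A (Bs s a) (a j₀))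
  haveI : Algebra.FinitePresentation R (Localization.Away (algebraMap A (Bs s a) (a j₀))) :=
    Algebra.FinitePresentation.trans R (Bs s a) _
  exact ⟨inferInstance, inferInstance⟩

end Groth.Agent.Lib.Helper27.DvrA
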