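import Mathlib
import Groth.Prelude.Def_Smoothing
import Groth.Agent.Lib.Helper27.PopG
import Groth.Agent.Lib.Helper27.SepA
import Groth.Agent.Lib.Helper27.SepI
import Groth.Agent.Lib.Helper27.DvrA
import Groth.Agent.Lib.Helper27.StdD

/-!
# The algebra `C` with a strictly standard power of `ϖ`
-/

namespace Groth.Agent.Lib.Helper27.DvrB

open MvPolynomial Smoothing KaehlerDifferential
open Groth.Agent.Lib.Helper27 Groth.Agent.Lib.Helper27.DvrA

universe u

set_option maxHeartbeats 800000 in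
theorem exists_C' {R A : Type u} [CommRing R] [IsNoetherianRing R] [CommRing A] [Algebra R A]
    [Algebra.FinitePresentation R A] {r : ℕ} (a : Fin r → A)
    (hsm : ∀ j, Algebra.Smooth R (Localization.Away (a j))) (ϖ : R) (n : ℕ) :
    ∃ (C : Type u) (_ : CommRing C) (_ : Algebra (Bs (algebraMap R A (ϖ ^ n)) a) C)
      (_ : Algebra R C) (_ : IsScalarTower R (Bs (algebraMap R A (ϖ ^ n)) a) C),
      Algebra.FinitePresentation R C ∧
      Nonempty (C →ₐ[Bs (algebraMap R A (ϖ ^ n)) a] Bs (algebraMap R A (ϖ ^ n)) a) ∧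
      (∀ j, algebraMap (Bs (algebraMap R A (ϖ ^ n)) a) C
        (algebraMap A (Bs (algebraMap R A (ϖ ^ n)) a) (a j)) ∈ singularIdeal R C) ∧
      ∃ c : ℕ, 1 ≤ c ∧ IsStrictlyStandard R C (algebraMap R C (ϖ ^ c)) := by
  classical
  let B := Bs (algebraMap R A (ϖ ^ n)) a
  haveI : IsNoetherianRing B := Algebra.FiniteType.isNoetherianRing R B
  obtain ⟨C, iC, iBC, iRC, iT, hfp, hρ, hC⟩ := SepA.main' (R := R) (A := B)
  haveI := hfp
  have hsmB : ∀ j, Algebra.Smooth R (Localization.Away (algebraMap A B (a j))) := by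
    intro j
    haveI : Algebra.FormallySmooth R (Localization.Away (a j)) := (hsm j).1
    exact DvrA.smooth_chart (R := R) (algebraMap R A (ϖ ^ n)) a j
  have haB : ∀ j, algebraMap A B (a j) ∈ singularIdeal R B :=
    fun j => (PopG.mem_singularIdeal_iff _).mpr (hsmB j)
  have hxB : algebraMap R B ϖ ∈ singularIdeal R B := by
    have hrad : (singularIdeal R B).IsRadical := PrimeSpectrum.isRadical_vanishingIdeal _
    apply hrad
    refine ⟨n, ?_⟩
    rw [← map_pow, IsScalarTower.algebraMap_apply R A B, rel_eq]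
    exact Ideal.sum_mem _ fun j _ => Ideal.mul_mem_right _ _ (haB j)
  have hxsm : Algebra.Smooth R (Localization.Away (algebraMap R B ϖ)) :=
    (PopG.mem_singularIdeal_iff _).mp hxB
  have hstd : ∃ e₀ : ℕ, ∀ m, e₀ ≤ m →
      IsStrictlyStandard R C (algebraMap B C (algebraMap R B ϖ) ^ m) := by
    obtain ⟨hs, hfree⟩ := hC (algebraMap R B ϖ) hxsm
    haveI := hs
    haveI := hfree
    haveI : Algebra.FinitePresentation R
        (Localization.Away (algebraMap B C (algebraMap R B ϖ))) := hs.2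
    obtain ⟨q, ⟨e⟩⟩ := SepI.exists_free_equiv
      (S := Localization.Away (algebraMap B C (algebraMap R B ϖ)))
      (M := Ω[Localization.Away (algebraMap B C (algebraMap R B ϖ))⁄R])
    exact StdD.main (algebraMap B C (algebraMap R B ϖ)) 0 q e
  obtain ⟨e₀, he₀⟩ := hstd
  refine ⟨C, iC, iBC, iRC, iT, hfp, hρ, ?_, e₀ + 1, by omega, ?_⟩
  · intro j
    rw [PopG.mem_singularIdeal_iff]
    exact (hC _ (hsmB j)).1
  · have h1 : algebraMap R C (ϖ ^ (e₀ + 1)) =
        algebraMap B C (algebraMap R B ϖ) ^ (e₀ + 1) := by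
      rw [map_pow, IsScalarTower.algebraMap_apply R B C]
    rw [h1]
    exact he₀ _ (by omega)

end Groth.Agent.Lib.Helper27.DvrB
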