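import Mathlib
import Groth.Prelude.Def_Smoothing
import Groth.Agent.Lib.Helper27.PopG
import Groth.Agent.Lib.Helper27.SepE
import Groth.Agent.Lib.Helper27.SepF
import Groth.Agent.Lib.Helper27.SepH
import Groth.Agent.Lib.Helper27.DvrA
import Groth.Agent.Lib.Helper27.DvrB
import Groth.Agent.Lib.Helper27.DvrC
import Groth.Agent.S6822

/-!
# Unramified extensions of discrete valuation rings with separable residue and fraction field
extensions are ind-smooth
-/

namespace Groth.Agent.Lib.Helper27.DvrD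

open Smoothing IsLocalRing
open Groth.Agent.Lib.Helper27 Groth.Agent.Lib.Helper27.DvrA

universe u

lemma ann_quot_bot {S : Type u} [CommRing S] [IsDomain S] (J : Ideal S) (hJ : J = ⊥) (P : S)
    (hP : P ≠ 0) (x : S ⧸ J) (hx : Ideal.Quotient.mk J P ^ 2 * x = 0) :
    Ideal.Quotient.mk J P * x = 0 := by
  subst hJ
  obtain ⟨y, rfl⟩ := Ideal.Quotient.mk_surjective x
  rw [← map_pow, ← map_mul, Ideal.Quotient.eq_zero_iff_mem, Ideal.mem_bot] at hx
  have hy : y = 0 := by
    rcases mul_eq_zero.mp hx with h | h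
    · exact absurd h (pow_ne_zero _ hP)
    · exact h
  rw [hy, map_zero, mul_zero]

theorem case_bot {R Λ K L : Type u} [CommRing R] [IsDomain R] [IsDiscreteValuationRing R]
    [CommRing Λ] [IsDomain Λ] [Algebra R Λ] [NoZeroSMulDivisors R Λ]
    [Field K] [Algebra R K] [IsFractionRing R K] [Field L] [Algebra Λ L] [IsFractionRing Λ L]
    [Algebra K L] [Algebra R L] [IsScalarTower R K L] [IsScalarTower R Λ L]
    [Algebra.IsGeometricallyReduced K L]
    {A : Type u} [CommRing A] [Algebra R A] [Algebra.FinitePresentation R A] (φ : A →ₐ[R] Λ) :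
    Resolvable R φ (⊥ : Ideal Λ) := by
  have hcomap : (⊥ : Ideal Λ).comap (algebraMap R Λ) = ⊥ := by
    rw [← RingHom.ker_eq_comap_bot]
    exact (RingHom.injective_iff_ker_eq_bot _).mp (FaithfulSMul.algebraMap_injective R Λ)
  haveI : IsLocalization.AtPrime K ((⊥ : Ideal Λ).comap (algebraMap R Λ)) := by
    have hsub : ((⊥ : Ideal Λ).comap (algebraMap R Λ)).primeCompl = nonZeroDivisors R := by
      ext x
      rw [Ideal.mem_primeCompl_iff, hcomap, Ideal.mem_bot, mem_nonZeroDivisors_iff_ne_zero]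
    show IsLocalization ((⊥ : Ideal Λ).comap (algebraMap R Λ)).primeCompl K
    rw [hsub]
    infer_instance
  haveI : IsLocalization.AtPrime L (⊥ : Ideal Λ) := by
    show IsLocalization (⊥ : Ideal Λ).primeCompl L
    rw [Ideal.primeCompl_bot]
    infer_instance
  have hdim : ringKrullDim L = 0 := ringKrullDim_eq_zero_of_field L
  have hind : IndSmooth K L := SepE.indSmooth_of_isField (Field.toIsField L)
  exact DvrC.resolvable_of_indSmooth_loc' (Rₚ := K) (Λq := L) φ ⊥ hdim hind

theorem indSmooth_quotient {R Λ : Type u} [CommRing R] [IsDomain R] [IsDiscreteValuationRing R]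
    [CommRing Λ] [IsDomain Λ] [IsDiscreteValuationRing Λ] [Algebra R Λ]
    [NoZeroSMulDivisors R Λ] [IsLocalHom (algebraMap R Λ)]
    (he : (maximalIdeal R).map (algebraMap R Λ) = maximalIdeal Λ)
    [Algebra.IsGeometricallyReduced (ResidueField R) (ResidueField Λ)]
    (ϖ : R) (hmR : maximalIdeal R = Ideal.span {ϖ}) (e : ℕ) (he1 : 1 ≤ e) (K : Ideal R)
    (hK : K = Ideal.span {ϖ ^ e}) :
    IndSmooth (R ⧸ K) (Λ ⧸ K.map (algebraMap R Λ)) := by
  haveI : Module.Flat R Λ := inferInstance
  haveI : Module.Flat (R ⧸ K) (Λ ⧸ K.map (algebraMap R Λ)) :=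
    Module.Flat.of_linearEquiv
      (Algebra.TensorProduct.quotIdealMapEquivQuotTensor Λ K).toLinearEquiv
  have hKm : K ≤ maximalIdeal R := by
    rw [hK, hmR, Ideal.span_singleton_le_iff_mem]
    exact Ideal.pow_mem_of_mem _ (Ideal.mem_span_singleton_self _) e (by omega)
  have hKΛm : K.map (algebraMap R Λ) ≤ maximalIdeal Λ := by
    rw [← he]
    exact Ideal.map_mono hKm
  have hKp : K ≤ RingHom.ker (residue R) := by rw [ker_residue]; exact hKm
  have hKq : K.map (algebraMap R Λ) ≤ RingHom.ker (residue Λ) := by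
    rw [ker_residue]; exact hKΛm
  let p : R ⧸ K →+* ResidueField R := Ideal.Quotient.lift K (residue R) hKp
  let q : Λ ⧸ K.map (algebraMap R Λ) →+* ResidueField Λ :=
    Ideal.Quotient.lift (K.map (algebraMap R Λ)) (residue Λ) hKq
  have hp : Function.Surjective p := by
    intro z
    obtain ⟨y, rfl⟩ := residue_surjective z
    exact ⟨Ideal.Quotient.mk K y, rfl⟩
  have hq : Function.Surjective q := by
    intro z
    obtain ⟨y, rfl⟩ := residue_surjective z
    exact ⟨Ideal.Quotient.mk _ y, rfl⟩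
  have hcomm : ∀ r, q (algebraMap (R ⧸ K) (Λ ⧸ K.map (algebraMap R Λ)) r) =
      algebraMap (ResidueField R) (ResidueField Λ) (p r) := by
    intro r
    obtain ⟨y, rfl⟩ := Ideal.Quotient.mk_surjective r
    rfl
  have hkerp : RingHom.ker p = (maximalIdeal R).map (Ideal.Quotient.mk K) := by
    show RingHom.ker (Ideal.Quotient.lift K (residue R) hKp) = _
    rw [Ideal.ker_quotient_lift, ker_residue]
  have hkerq : RingHom.ker q =
      (maximalIdeal Λ).map (Ideal.Quotient.mk (K.map (algebraMap R Λ))) := by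
    show RingHom.ker (Ideal.Quotient.lift (K.map (algebraMap R Λ)) (residue Λ) hKq) = _
    rw [Ideal.ker_quotient_lift, ker_residue]
  have hnil : IsNilpotent (RingHom.ker p) := by
    refine ⟨e, ?_⟩
    rw [hkerp, hmR, Ideal.map_span, Set.image_singleton, Ideal.span_singleton_pow, ← map_pow]
    have : Ideal.Quotient.mk K (ϖ ^ e) = 0 := by
      rw [Ideal.Quotient.eq_zero_iff_mem, hK]
      exact Ideal.mem_span_singleton_self _
    rw [this]
    exact Ideal.span_singleton_eq_bot.mpr rfl
  have hker : RingHom.ker q =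
      (RingHom.ker p).map (algebraMap (R ⧸ K) (Λ ⧸ K.map (algebraMap R Λ))) := by
    rw [hkerp, hkerq, Ideal.map_map, ← he, Ideal.map_map]
    rfl
  exact DvrC.indSmooth_of_residue p q hp hq hcomm hnil hker

set_option maxHeartbeats 1600000 in
theorem case_max {R Λ : Type u} [CommRing R] [IsDomain R] [IsDiscreteValuationRing R]
    [CommRing Λ] [IsDomain Λ] [IsDiscreteValuationRing Λ] [Algebra R Λ]
    [NoZeroSMulDivisors R Λ] [IsLocalHom (algebraMap R Λ)]
    (he : (maximalIdeal R).map (algebraMap R Λ) = maximalIdeal Λ)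
    [Algebra.IsGeometricallyReduced (ResidueField R) (ResidueField Λ)]
    {A : Type u} [CommRing A] [Algebra R A] [Algebra.FinitePresentation R A] (φ : A →ₐ[R] Λ)
    (hmin : maximalIdeal Λ ∈ (singRad R φ).minimalPrimes) :
    Resolvable R φ (maximalIdeal Λ) := by
  classical
  obtain ⟨ϖ, hϖ⟩ := IsDiscreteValuationRing.exists_irreducible R
  have hmR : maximalIdeal R = Ideal.span {ϖ} := hϖ.maximalIdeal_eq
  have hinj : Function.Injective (algebraMap R Λ) := FaithfulSMul.algebraMap_injective R Λ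
  let ϖ' : Λ := algebraMap R Λ ϖ
  have hmΛ : maximalIdeal Λ = Ideal.span {ϖ'} := by
    rw [← he, hmR, Ideal.map_span, Set.image_singleton]
  have hϖ' : Irreducible ϖ' :=
    (IsDiscreteValuationRing.irreducible_iff_uniformizer ϖ').mpr hmΛ
  have hϖ0 : ϖ ≠ 0 := hϖ.ne_zero
  have hϖ'0 : ϖ' ≠ 0 := hϖ'.ne_zero
  -- generators of the singular ideal
  haveI : IsNoetherianRing A := Algebra.FiniteType.isNoetherianRing R A
  obtain ⟨r, a, ha⟩ := Submodule.fg_iff_exists_fin_generating_family.mp
    (IsNoetherian.noetherian (singularIdeal R A))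
  have ha' : Ideal.span (Set.range a) = singularIdeal R A := ha
  have hsm : ∀ j, Algebra.Smooth R (Localization.Away (a j)) := by
    intro j
    rw [← PopG.mem_singularIdeal_iff, ← ha']
    exact Ideal.subset_span ⟨j, rfl⟩
  have hI : (singularIdeal R A).map φ = Ideal.span (Set.range fun j => φ (a j)) := by
    rw [← ha', Ideal.map_span, ← Set.range_comp]
    rfl
  have hmin' : maximalIdeal Λ ∈ (Ideal.span (Set.range fun j => φ (a j))).minimalPrimes := by
    rw [← hI, ← Ideal.radical_minimalPrimes]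
    exact hmin
  have hIne : Ideal.span (Set.range fun j => φ (a j)) ≠ ⊥ := by
    intro hbot
    have h1 : maximalIdeal Λ ≤ ⊥ := hmin'.2 ⟨Ideal.bot_prime, by rw [hbot]⟩ bot_le
    exact IsDiscreteValuationRing.not_a_field Λ (le_bot_iff.mp h1)
  obtain ⟨n, hn⟩ := IsDiscreteValuationRing.ideal_eq_span_pow_irreducible hIne hϖ'
  have hmem : ϖ' ^ n ∈ Ideal.span (Set.range fun j => φ (a j)) := by
    rw [hn]
    exact Ideal.mem_span_singleton_self _
  obtain ⟨l, hl⟩ := Ideal.mem_span_range_iff_exists_fun.mp hmem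
  obtain ⟨C, iC, iBC, iRC, iT, hfp, ⟨ρ⟩, hCsing, c, hc, hstd⟩ := DvrB.exists_C' a hsm ϖ n
  haveI := hfp
  let B := Bs (algebraMap R A (ϖ ^ n)) a
  have hrel : φ (algebraMap R A (ϖ ^ n)) = ∑ j, φ (a j) * l j := by
    rw [AlgHom.commutes, map_pow, ← hl]
    exact Finset.sum_congr rfl fun j _ => mul_comm _ _
  let hB : B →ₐ[R] Λ := liftS (algebraMap R A (ϖ ^ n)) a φ l hrel
  let φC : C →ₐ[R] Λ := hB.comp (ρ.restrictScalars R)
  let ι : A →+* C := (algebraMap B C).comp (algebraMap A B)
  have hι : ∀ c' : R, ι (algebraMap R A c') = algebraMap R C (algebraMap R R c') := by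
    intro c'
    show algebraMap B C (algebraMap A B (algebraMap R A c')) = algebraMap R C c'
    rw [← IsScalarTower.algebraMap_apply R A B, ← IsScalarTower.algebraMap_apply R B C]
  have hcomp : ∀ x, φC (ι x) = φ x := by
    intro x
    show hB (ρ (algebraMap B C (algebraMap A B x))) = φ x
    rw [AlgHom.commutes]
    exact liftS_algebraMap_A _ a φ l hrel x
  have hsing : ∀ x ∈ singularIdeal R A, ι x ∈ singularIdeal R C := by
    intro x hx
    rw [← ha'] at hx
    have hle : Ideal.span (Set.range a) ≤ (singularIdeal R C).comap ι := by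
      rw [Ideal.span_le]
      rintro _ ⟨j, rfl⟩
      exact hCsing j
    exact hle hx
  refine SepH.resolvable_descend (k := R) (R := R) φ ι hι φC hcomp _ hsing ?_
  -- apply the desingularization lemma
  let K : Ideal R := Ideal.span (Set.range fun _ : Fin 1 => (ϖ ^ c) ^ 8)
  obtain ⟨φK, hφK⟩ := SepH.exists_quotient_map φC K
  have hKe : K = Ideal.span {ϖ ^ (c * 8)} := by
    show Ideal.span (Set.range fun _ : Fin 1 => (ϖ ^ c) ^ 8) = _
    rw [Set.range_const, ← pow_mul]
  refine Groth.Agent.S6822.result φC (maximalIdeal Λ) Nat.one_pos (fun _ : Fin 1 => ϖ ^ c)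
    ?_ ?_ ?_ (fun _ => hstd) K rfl φK hφK ?_
  · intro _
    rw [map_pow, hmΛ]
    exact Ideal.pow_mem_of_mem _ (Ideal.mem_span_singleton_self _) c (by omega)
  · intro i x hx
    have hJ : Ideal.span (Set.range fun j : {j : Fin 1 // (j : ℕ) < (i : ℕ)} =>
        (fun _ : Fin 1 => ϖ ^ c) j ^ 8) = ⊥ := by
      rw [Ideal.span_eq_bot]
      rintro _ ⟨⟨j, hj⟩, rfl⟩
      exact absurd hj (by have := i.isLt; omega)
    exact ann_quot_bot _ hJ _ (pow_ne_zero _ hϖ0) x hx
  · intro i x hx
    have hJ : Ideal.span (Set.range fun j : {j : Fin 1 // (j : ℕ) < (i : ℕ)} =>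
        algebraMap R Λ ((fun _ : Fin 1 => ϖ ^ c) j) ^ 8) = ⊥ := by
      rw [Ideal.span_eq_bot]
      rintro _ ⟨⟨j, hj⟩, rfl⟩
      exact absurd hj (by have := i.isLt; omega)
    have hP : algebraMap R Λ (ϖ ^ c) ≠ 0 := by
      rw [map_pow]
      exact pow_ne_zero _ hϖ'0
    exact ann_quot_bot _ hJ _ hP x hx
  · -- the reduced problem
    have he8 : 1 ≤ c * 8 := by omega
    have hKΛe : K.map (algebraMap R Λ) = Ideal.span {ϖ' ^ (c * 8)} := by
      rw [hKe, Ideal.map_span, Set.image_singleton, map_pow]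
    have hKΛm : K.map (algebraMap R Λ) ≤ maximalIdeal Λ := by
      rw [hKΛe, hmΛ, Ideal.span_singleton_le_iff_mem]
      exact Ideal.pow_mem_of_mem _ (Ideal.mem_span_singleton_self _) _ (by omega)
    haveI h𝔮₀ : ((maximalIdeal Λ).map (Ideal.Quotient.mk (K.map (algebraMap R Λ)))).IsPrime :=
      Ideal.map_isPrime_of_surjective Ideal.Quotient.mk_surjective
        (by rw [Ideal.mk_ker]; exact hKΛm)
    haveI hloc : IsLocalization.AtPrime (Λ ⧸ K.map (algebraMap R Λ))
        ((maximalIdeal Λ).map (Ideal.Quotient.mk (K.map (algebraMap R Λ)))) := by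
      refine IsLocalization.self ?_
      intro x hx
      obtain ⟨y, rfl⟩ := Ideal.Quotient.mk_surjective x
      have hy : y ∉ maximalIdeal Λ := fun h => hx (Ideal.mem_map_of_mem _ h)
      exact (notMem_maximalIdeal.mp hy).map (Ideal.Quotient.mk (K.map (algebraMap R Λ)))
    haveI : Algebra.FinitePresentation R (C ⧸ K.map (algebraMap R C)) :=
      Algebra.FinitePresentation.quotient (by
        rw [hKe, Ideal.map_span]
        exact Submodule.fg_span ((Set.finite_singleton _).image _))
    haveI : Algebra.FinitePresentation (R ⧸ K) (C ⧸ K.map (algebraMap R C)) :=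
      Algebra.FinitePresentation.of_restrict_scalars_finitePresentation R (R ⧸ K) _
    have hdim : ringKrullDim (Λ ⧸ K.map (algebraMap R Λ)) = 0 :=
      SepF.ringKrullDim_quotient_eq_zero (S := Λ) (d := 1) (fun _ => ϖ')
        (by rw [Set.range_const, hmΛ]) (c * 8) (K.map (algebraMap R Λ)) hKΛm
        (fun _ => by rw [hKΛe]; exact Ideal.mem_span_singleton_self _)
    have hunits : ∀ rb : R ⧸ K,
        algebraMap (R ⧸ K) (Λ ⧸ K.map (algebraMap R Λ)) rb ∉
          (maximalIdeal Λ).map (Ideal.Quotient.mk (K.map (algebraMap R Λ))) → IsUnit rb := by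
      intro rb hrb
      obtain ⟨y, rfl⟩ := Ideal.Quotient.mk_surjective rb
      have hy : y ∉ maximalIdeal R := by
        intro h
        apply hrb
        show Ideal.Quotient.mk (K.map (algebraMap R Λ)) (algebraMap R Λ y) ∈ _
        apply Ideal.mem_map_of_mem
        rw [← he]
        exact Ideal.mem_map_of_mem _ h
      exact (notMem_maximalIdeal.mp hy).map (Ideal.Quotient.mk K)
    have hind : IndSmooth (R ⧸ K) (Λ ⧸ K.map (algebraMap R Λ)) :=
      indSmooth_quotient he ϖ hmR (c * 8) he8 K hKe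
    exact SepE.resolvable_of_indSmooth_loc (Λq := Λ ⧸ K.map (algebraMap R Λ)) φK _ hdim hunits
      hind

theorem main {R Λ K L : Type u} [CommRing R] [IsDomain R]
    [IsDiscreteValuationRing R] [CommRing Λ] [IsDomain Λ] [IsDiscreteValuationRing Λ] [Algebra R Λ]
    [NoZeroSMulDivisors R Λ] [IsLocalHom (algebraMap R Λ)]
    (he : (maximalIdeal R).map (algebraMap R Λ) = maximalIdeal Λ)
    [Algebra.IsGeometricallyReduced (ResidueField R) (ResidueField Λ)]
    [Field K] [Algebra R K] [IsFractionRing R K] [Field L] [Algebra Λ L] [IsFractionRing Λ L]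
    [Algebra K L] [Algebra R L] [IsScalarTower R K L] [IsScalarTower R Λ L]
    [Algebra.IsGeometricallyReduced K L] :
    IndSmooth R Λ := by
  apply DvrC.indSmooth_of_forall_resolvable
  intro A _ _ hfp φ 𝔮 h𝔮 hmin
  haveI := hfp
  rcases eq_or_ne 𝔮 ⊥ with rfl | hne
  · exact case_bot (K := K) (L := L) φ
  · have hmax : 𝔮 = maximalIdeal Λ := eq_maximalIdeal (Ideal.IsPrime.isMaximal h𝔮 hne)
    subst hmax
    exact case_max he φ hmin

end Groth.Agent.Lib.Helper27.DvrD
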