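import Mathlib

/-!
# The Eakin–Nagata theorem (Formanek's proof) (helper27)
-/

set_option autoImplicit false

namespace Groth.Agent.Lib.Helper27.EN

variable {R : Type*} [CommRing R]

theorem span_singleton_smul_top_le_iff {M : Type*} [AddCommGroup M] [Module R M] (r : R)
    (N : Submodule R M) :
    Ideal.span {r} • (⊤ : Submodule R M) ≤ N ↔ ∀ m : M, r • m ∈ N := by
  constructor
  · intro h m
    exact h (Submodule.smul_mem_smul (Ideal.mem_span_singleton_self r) Submodule.mem_top)
  · intro h
    rw [Submodule.smul_le]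
    intro r' hr' n _
    obtain ⟨c, rfl⟩ := Ideal.mem_span_singleton'.mp hr'
    rw [mul_smul]
    exact Submodule.smul_mem _ _ (h n)

theorem map_smul_top_of_surjective {M M' : Type*} [AddCommGroup M] [Module R M]
    [AddCommGroup M'] [Module R M'] (f : M →ₗ[R] M') (hf : Function.Surjective f) (J : Ideal R) :
    (J • (⊤ : Submodule R M)).map f = J • (⊤ : Submodule R M') := by
  rw [Submodule.map_smul'', Submodule.map_top, LinearMap.range_eq_top.mpr hf]

/-- quotient transfer -/
theorem isNoetherian_quot_smul_top_of_surjective {M M' : Type*} [AddCommGroup M] [Module R M]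
    [AddCommGroup M'] [Module R M'] (f : M →ₗ[R] M') (hf : Function.Surjective f) (J : Ideal R)
    (h : IsNoetherian R (M ⧸ J • (⊤ : Submodule R M))) :
    IsNoetherian R (M' ⧸ J • (⊤ : Submodule R M')) := by
  let g : M →ₗ[R] (M' ⧸ J • (⊤ : Submodule R M')) := (Submodule.mkQ _).comp f
  have hker : J • (⊤ : Submodule R M) ≤ LinearMap.ker g := by
    intro x hx
    rw [LinearMap.mem_ker]
    show Submodule.Quotient.mk (f x) = 0
    rw [Submodule.Quotient.mk_eq_zero, ← map_smul_top_of_surjective f hf J]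
    exact Submodule.mem_map_of_mem hx
  refine isNoetherian_of_surjective (Submodule.liftQ _ g hker) ?_
  rw [Submodule.range_liftQ, LinearMap.range_eq_top]
  exact (Submodule.mkQ_surjective _).comp hf

theorem isNoetherian_of_forall_ne_bot {M : Type*} [AddCommGroup M] [Module R M]
    [Module.Finite R M]
    (h : ∀ N' : Submodule R M, N' ≠ ⊥ → ∃ r : R,
      IsNoetherian R (M ⧸ Ideal.span {r} • (⊤ : Submodule R M)) ∧
      Ideal.span {r} • (⊤ : Submodule R M) ≤ N') : IsNoetherian R M := by
  rw [isNoetherian_def]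
  intro N'
  by_cases hN : N' = ⊥
  · rw [hN]; exact Submodule.fg_bot
  obtain ⟨r, hr, hle⟩ := h N' hN
  apply Submodule.fg_of_fg_map_of_fg_inf_ker (Submodule.mkQ (Ideal.span {r} • (⊤ : Submodule R M)))
  · exact IsNoetherian.noetherian _
  · rw [Submodule.ker_mkQ, inf_eq_right.mpr hle]
    exact Submodule.FG.smul ⟨{r}, by simp⟩ (Module.finite_def.mp ‹_›)

theorem isNoetherian_of_quotient_same_annihilator {M : Type*} [AddCommGroup M] [Module R M]
    [Module.Finite R M] (N₀ : Submodule R M)
    (hann : ∀ r : R, (∀ m : M, r • m ∈ N₀) → ∀ m : M, r • m = 0)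
    (h : IsNoetherian R (M ⧸ N₀)) : IsNoetherian R M := by
  classical
  obtain ⟨n, ω, hω⟩ := Module.Finite.exists_fin (R := R) (M := M)
  let 𝔞 : Ideal R := Module.annihilator R M
  let φ : R →ₗ[R] (Fin n → M ⧸ N₀) :=
    LinearMap.pi (fun i => LinearMap.toSpanSingleton R _ (Submodule.Quotient.mk (ω i)))
  have hφker : LinearMap.ker φ = 𝔞 := by
    ext r
    rw [LinearMap.mem_ker, Module.mem_annihilator]
    constructor
    · intro hr
      apply hann r
      intro m
      have hm : m ∈ Submodule.span R (Set.range ω) := hω ▸ Submodule.mem_top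
      obtain ⟨c, rfl⟩ := (Submodule.mem_span_range_iff_exists_fun R).mp hm
      rw [Finset.smul_sum]
      refine Submodule.sum_mem _ (fun i _ => ?_)
      rw [smul_comm]
      refine Submodule.smul_mem _ _ ?_
      have := congrFun hr i
      simp only [φ, LinearMap.pi_apply, LinearMap.toSpanSingleton_apply, Pi.zero_apply] at this
      rwa [← Submodule.Quotient.mk_smul, Submodule.Quotient.mk_eq_zero] at this
    · intro hr
      funext i
      simp only [φ, LinearMap.pi_apply, LinearMap.toSpanSingleton_apply, Pi.zero_apply]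
      rw [← Submodule.Quotient.mk_smul, hr, Submodule.Quotient.mk_zero]
  haveI : IsNoetherian R (R ⧸ 𝔞) := by
    refine isNoetherian_of_injective (Submodule.liftQ 𝔞 φ hφker.ge) ?_
    rw [← LinearMap.ker_eq_bot]
    exact Submodule.ker_liftQ_eq_bot _ _ _ hφker.le
  have hkill : ∀ i, 𝔞 ≤ LinearMap.ker (LinearMap.toSpanSingleton R M (ω i)) := by
    intro i r hr
    rw [LinearMap.mem_ker, LinearMap.toSpanSingleton_apply]
    exact Module.mem_annihilator.mp hr _
  let ψ : (Fin n → R ⧸ 𝔞) →ₗ[R] M :=
    LinearMap.lsum R (fun _ : Fin n => R ⧸ 𝔞) R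
      (fun i => Submodule.liftQ 𝔞 (LinearMap.toSpanSingleton R M (ω i)) (hkill i))
  refine isNoetherian_of_surjective ψ ?_
  rw [LinearMap.range_eq_top]
  intro m
  have hm : m ∈ Submodule.span R (Set.range ω) := hω ▸ Submodule.mem_top
  obtain ⟨c, rfl⟩ := (Submodule.mem_span_range_iff_exists_fun R).mp hm
  refine ⟨fun i => Submodule.Quotient.mk (c i), ?_⟩
  simp only [ψ, LinearMap.lsum_apply, LinearMap.sum_apply, LinearMap.comp_apply,
    LinearMap.proj_apply, Submodule.liftQ_apply, LinearMap.toSpanSingleton_apply]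

/-- Second reduction + conclusion: a finite non-noetherian module all of whose quotients
`M/rM` (`rM ≠ 0`) are noetherian cannot exist. -/
theorem isNoetherian_of_forall_quot_smul {M : Type*} [AddCommGroup M] [Module R M]
    [Module.Finite R M]
    (h1c : ∀ r : R, Ideal.span {r} • (⊤ : Submodule R M) ≠ ⊥ →
      IsNoetherian R (M ⧸ Ideal.span {r} • (⊤ : Submodule R M))) : IsNoetherian R M := by
  classical
  let Γ : Set (Submodule R M) := {N | ∀ r : R, Ideal.span {r} • (⊤ : Submodule R M) ≤ N →
    Ideal.span {r} • (⊤ : Submodule R M) = ⊥}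
  have hbot : (⊥ : Submodule R M) ∈ Γ := fun r hr => le_bot_iff.mp hr
  obtain ⟨N₀, -, hN₀, hmax⟩ := zorn_le_nonempty₀ Γ (by
    intro c hcΓ hchain y hy
    refine ⟨sSup c, ?_, fun z hz => le_sSup hz⟩
    intro r hr
    have hfg : (Ideal.span {r} • (⊤ : Submodule R M)).FG :=
      Submodule.FG.smul ⟨{r}, by simp⟩ (Module.finite_def.mp ‹_›)
    rw [Submodule.fg_iff_compact,
      CompleteLattice.isCompactElement_iff_le_of_directed_sSup_le] at hfg
    obtain ⟨N, hNc, hN⟩ := hfg c ⟨y, hy⟩ hchain.directedOn hr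
    exact hcΓ hNc r hN) ⊥ hbot
  have hann : ∀ r : R, (∀ m : M, r • m ∈ N₀) → ∀ m : M, r • m = 0 := by
    intro r hr
    have h1 := hN₀ r ((span_singleton_smul_top_le_iff r N₀).mpr hr)
    have h2 := (span_singleton_smul_top_le_iff r ⊥).mp h1.le
    exact fun m => (Submodule.mem_bot R).mp (h2 m)
  apply isNoetherian_of_quotient_same_annihilator N₀ hann
  apply isNoetherian_of_forall_ne_bot
  intro N' hN'
  -- the preimage of `N'` strictly contains `N₀`
  let N'' : Submodule R M := N'.comap N₀.mkQ
  have hle : N₀ ≤ N'' := by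
    intro x hx
    show N₀.mkQ x ∈ N'
    rw [Submodule.mkQ_apply, (Submodule.Quotient.mk_eq_zero N₀).mpr hx]
    exact N'.zero_mem
  have hnotΓ : N'' ∉ Γ := by
    intro hΓ
    have := hmax hΓ hle
    apply hN'
    rw [eq_bot_iff]
    intro x hx
    obtain ⟨m, rfl⟩ := Submodule.mkQ_surjective N₀ x
    have hm : m ∈ N₀ := this hx
    rw [Submodule.mem_bot, Submodule.mkQ_apply, Submodule.Quotient.mk_eq_zero]
    exact hm
  simp only [Γ, Set.mem_ofPred_eq, not_forall] at hnotΓ
  obtain ⟨r, hr, hrne⟩ := hnotΓ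
  refine ⟨r, ?_, ?_⟩
  · exact isNoetherian_quot_smul_top_of_surjective N₀.mkQ (Submodule.mkQ_surjective N₀) _
      (h1c r hrne)
  · rw [← map_smul_top_of_surjective N₀.mkQ (Submodule.mkQ_surjective N₀)]
    exact (Submodule.map_mono hr).trans (Submodule.map_comap_le _ _)

/-- **Formanek's theorem**: a finite module with ACC on the submodules `I • ⊤` is noetherian. -/
theorem isNoetherian_of_extACC {M : Type*} [AddCommGroup M] [Module R M] [Module.Finite R M]
    (hacc : ∀ S : Set (Ideal R), S.Nonempty → ∃ I ∈ S, ∀ J ∈ S,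
      I • (⊤ : Submodule R M) ≤ J • ⊤ → J • (⊤ : Submodule R M) ≤ I • ⊤) :
    IsNoetherian R M := by
  by_contra hM
  let S : Set (Ideal R) := {I | ¬ IsNoetherian R (M ⧸ I • (⊤ : Submodule R M))}
  have hbot : (⊥ : Ideal R) ∈ S := by
    intro h
    apply hM
    have hb : (⊥ : Ideal R) • (⊤ : Submodule R M) = ⊥ := Submodule.bot_smul _
    exact isNoetherian_of_linearEquiv (Submodule.quotEquivOfEqBot _ hb)
  obtain ⟨I₀, hI₀, hmax⟩ := hacc S ⟨⊥, hbot⟩
  apply hI₀
  apply isNoetherian_of_forall_quot_smul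
  intro r hr
  set J : Ideal R := Ideal.span {r}
  set N₁ : Submodule R M := I₀ • ⊤
  -- `M ⧸ (I₀ ⊔ J) • ⊤` is noetherian
  have h1 : IsNoetherian R (M ⧸ (I₀ ⊔ J) • (⊤ : Submodule R M)) := by
    by_contra h2
    have h3 := hmax (I₀ ⊔ J) h2 (Submodule.smul_mono_left le_sup_left)
    apply hr
    rw [← map_smul_top_of_surjective N₁.mkQ (Submodule.mkQ_surjective N₁), eq_bot_iff]
    refine (Submodule.map_mono ((Submodule.smul_mono_left le_sup_right).trans h3)).trans ?_
    rw [Submodule.mkQ_map_self]
  let g : M →ₗ[R] ((M ⧸ N₁) ⧸ J • (⊤ : Submodule R (M ⧸ N₁))) :=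
    (Submodule.mkQ _).comp N₁.mkQ
  have hker : (I₀ ⊔ J) • (⊤ : Submodule R M) ≤ LinearMap.ker g := by
    rw [Submodule.sup_smul, sup_le_iff]
    constructor
    · intro x hx
      rw [LinearMap.mem_ker]
      show Submodule.Quotient.mk (N₁.mkQ x) = 0
      rw [Submodule.mkQ_apply, (Submodule.Quotient.mk_eq_zero N₁).mpr hx,
        Submodule.Quotient.mk_zero]
    · intro x hx
      rw [LinearMap.mem_ker]
      show Submodule.Quotient.mk (N₁.mkQ x) = 0
      rw [Submodule.Quotient.mk_eq_zero,
        ← map_smul_top_of_surjective N₁.mkQ (Submodule.mkQ_surjective N₁)]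
      exact Submodule.mem_map_of_mem hx
  refine isNoetherian_of_surjective (Submodule.liftQ _ g hker) ?_
  rw [Submodule.range_liftQ, LinearMap.range_eq_top]
  exact (Submodule.mkQ_surjective _).comp (Submodule.mkQ_surjective _)

/-- **Eakin–Nagata**: if `A` is a noetherian ring, finite over a subring `B`, then `B` is
noetherian. -/
theorem isNoetherianRing_of_finite_of_injective (B A : Type*) [CommRing B] [CommRing A]
    [Algebra B A] [Module.Finite B A] [IsNoetherianRing A]
    (hinj : Function.Injective (algebraMap B A)) : IsNoetherianRing B := by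
  haveI : IsNoetherian B A := by
    apply isNoetherian_of_extACC
    intro S hS
    let T : Set (Ideal A) := (fun I : Ideal B => I.map (algebraMap B A)) '' S
    obtain ⟨_, ⟨I, hI, rfl⟩, hmax⟩ := wellFounded_gt.has_min T (hS.image _)
    refine ⟨I, hI, fun J hJ hle => ?_⟩
    rw [Ideal.smul_top_eq_map, Ideal.smul_top_eq_map] at hle ⊢
    have hle' : I.map (algebraMap B A) ≤ J.map (algebraMap B A) := hle
    have := hmax _ ⟨J, hJ, rfl⟩
    show J.map (algebraMap B A) ≤ I.map (algebraMap B A)
    by_contra hnle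
    exact this (lt_of_le_not_ge hle' hnle)
  exact isNoetherian_of_injective (Algebra.linearMap B A) hinj

end Groth.Agent.Lib.Helper27.EN
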