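import Mathlib
import Groth.Prelude.Def_Found

/-!
# Geometric regularity of fibre rings: transport lemmas (helper27)

* `nonempty_residueField_algEquiv`: a field `κ` over `R` whose structure map has kernel `p` and
  which consists of fractions is `R`-isomorphic to `p.ResidueField`.
* `PReg R κ S`: the base-free form of "`κ ⊗[R] S` is geometrically regular over `κ`".
* `isGeometricallyRegular_tensor_iff`, `pReg_of_algEquiv`.
-/

set_option autoImplicit false
universe u

namespace Groth.Agent.Lib.Helper27.RegFibA

open TensorProduct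

section sigma

variable (R : Type u) [CommRing R] (p : Ideal R) [p.IsPrime] (κ : Type u) [Field κ] [Algebra R κ]

theorem nonempty_residueField_algEquiv
    (hker : RingHom.ker (algebraMap R κ) = p)
    (hfrac : ∀ c : κ, ∃ a s : R, s ∉ p ∧ c * algebraMap R κ s = algebraMap R κ a) :
    Nonempty (p.ResidueField ≃ₐ[R] κ) := by
  letI algQ : Algebra (R ⧸ p) κ := (Ideal.Quotient.lift p (algebraMap R κ)
    (fun a ha => by rw [← RingHom.mem_ker, hker]; exact ha)).toAlgebra
  have halg : ∀ a : R, algebraMap (R ⧸ p) κ (Ideal.Quotient.mk p a) = algebraMap R κ a :=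
    fun a => rfl
  haveI : IsScalarTower R (R ⧸ p) κ := IsScalarTower.of_algebraMap_eq (fun a => (halg a).symm)
  have hinj : Function.Injective (algebraMap (R ⧸ p) κ) := by
    rw [injective_iff_map_eq_zero]
    intro x hx
    obtain ⟨a, rfl⟩ := Ideal.Quotient.mk_surjective x
    rw [halg, ← RingHom.mem_ker, hker] at hx
    exact Ideal.Quotient.eq_zero_iff_mem.mpr hx
  haveI : FaithfulSMul (R ⧸ p) κ := (faithfulSMul_iff_algebraMap_injective _ _).mpr hinj
  haveI : IsFractionRing (R ⧸ p) κ := by
    refine IsFractionRing.of_field (R ⧸ p) κ (fun z => ?_)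
    obtain ⟨a, s, hs, h⟩ := hfrac z
    refine ⟨Ideal.Quotient.mk p a, Ideal.Quotient.mk p s, ?_⟩
    rw [halg, halg]
    have hs0 : algebraMap R κ s ≠ 0 := by
      intro h0
      rw [← RingHom.mem_ker, hker] at h0
      exact hs h0
    rw [eq_div_iff hs0]
    exact h
  exact ⟨(IsLocalization.algEquiv (nonZeroDivisors (R ⧸ p)) p.ResidueField κ).restrictScalars R⟩

end sigma

section preg

variable (R : Type u) [CommRing R] (κ : Type u) [Field κ] [Algebra R κ]
  (S : Type u) [CommRing S] [Algebra R S]

/-- Base-free form of geometric regularity of `κ ⊗[R] S` over `κ`. -/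
def PReg : Prop :=
  ∀ (K : Type u) [Field K] [Algebra R K] [Algebra κ K] [IsScalarTower R κ K],
    Module.Finite κ K → IsRegularRing (K ⊗[R] S)

theorem isGeometricallyRegular_tensor_iff :
    CAlg.IsGeometricallyRegular κ (κ ⊗[R] S) ↔ PReg R κ S := by
  constructor
  · intro h K _ _ _ _ hfin
    haveI := h K hfin
    exact IsRegularRing.of_ringEquiv (R := K ⊗[κ] (κ ⊗[R] S))
      (Algebra.TensorProduct.cancelBaseChange R κ K K S).toRingEquiv
  · intro h K _ _ hfin
    letI : Algebra R K := ((algebraMap κ K).comp (algebraMap R κ)).toAlgebra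
    haveI : IsScalarTower R κ K := IsScalarTower.of_algebraMap_eq (fun _ => rfl)
    haveI := h K hfin
    exact IsRegularRing.of_ringEquiv (R := K ⊗[R] S)
      (Algebra.TensorProduct.cancelBaseChange R κ K K S).symm.toRingEquiv

variable {R κ S}

theorem pReg_of_algEquiv {κ' : Type u} [Field κ'] [Algebra R κ'] (σ : κ' ≃ₐ[R] κ)
    (h : PReg R κ' S) : PReg R κ S := by
  intro K _ _ _ _ hfin
  letI : Algebra κ' K := ((algebraMap κ K).comp (σ : κ' →+* κ)).toAlgebra
  letI : Algebra κ' κ := (σ : κ' →+* κ).toAlgebra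
  haveI : IsScalarTower κ' κ K := IsScalarTower.of_algebraMap_eq (fun _ => rfl)
  haveI : IsScalarTower R κ' K := by
    refine IsScalarTower.of_algebraMap_eq (fun a => ?_)
    show algebraMap R K a = algebraMap κ K (σ (algebraMap R κ' a))
    rw [σ.commutes, ← IsScalarTower.algebraMap_apply]
  haveI : Module.Finite κ' κ :=
    Module.Finite.of_surjective (Algebra.linearMap κ' κ) σ.surjective
  haveI : Module.Finite κ K := hfin
  haveI : Module.Finite κ' K := Module.Finite.trans κ K
  exact h K inferInstance

theorem isGeometricallyRegular_of_algEquiv' {k B B' : Type u} [Field k] [CommRing B] [CommRing B']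
    [Algebra k B] [Algebra k B'] (e : B ≃ₐ[k] B') (h : CAlg.IsGeometricallyRegular k B) :
    CAlg.IsGeometricallyRegular k B' := by
  intro k' _ _ hfin
  haveI := h k' hfin
  exact IsRegularRing.of_ringEquiv (R := k' ⊗[k] B)
    (Algebra.TensorProduct.congr (AlgEquiv.refl : k' ≃ₐ[k] k') e).toRingEquiv

end preg

end Groth.Agent.Lib.Helper27.RegFibA
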