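import Mathlib
import Groth.Agent.Lib.Helper27.RegFibA
import Groth.Agent.Lib.Helper21.GeomRegC

/-!
# Base change of the chart condition along a finitely generated residue field extension (helper27)
-/

set_option autoImplicit false
set_option linter.style.haveILetI false
universe u
open TensorProduct

namespace Groth.Agent.Lib.Helper27.RegFibF

open Groth.Agent.Lib.Helper27.RegFibA

theorem isNoetherianRing_of_faithfullyFlat' {R A : Type u} [CommRing R] [CommRing A] [Algebra R A]
    [Module.FaithfullyFlat R A] [IsNoetherianRing A] : IsNoetherianRing R := by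
  have h : IsNoetherian A (A ⊗[R] R) :=
    isNoetherian_of_linearEquiv (TensorProduct.AlgebraTensorModule.rid R A A).symm
  exact Submodule.IsNoetherian.of_isNoetherian_tensorProduct_of_faithfullyFlat
    (R := R) (M := R) (A := A) h

/-- The chart condition is invariant under `R`-algebra isomorphisms of the algebra. -/
theorem pReg_congr {R κ S S' : Type u} [CommRing R] [Field κ] [Algebra R κ] [CommRing S]
    [CommRing S'] [Algebra R S] [Algebra R S'] (e : S ≃ₐ[R] S') (h : PReg R κ S) :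
    PReg R κ S' := by
  intro K _ _ _ _ hfin
  haveI := h K hfin
  exact IsRegularRing.of_ringEquiv (R := K ⊗[R] S)
    (Algebra.TensorProduct.congr (AlgEquiv.refl : K ≃ₐ[R] K) e).toRingEquiv

section bc

variable (R R' S : Type u) [CommRing R] [CommRing R'] [CommRing S] [Algebra R R'] [Algebra R S]
  (k k' : Type u) [Field k] [Field k'] [Algebra R k] [Algebra R' k'] [Algebra k k']
  [Algebra R k'] [IsScalarTower R R' k'] [IsScalarTower R k k'] [Algebra.EssFiniteType k k']

/-- The comparison isomorphism `k' ⊗[R'] (R' ⊗[R] S) ≃ k' ⊗[k] (k ⊗[R] S)`. -/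
noncomputable def cmpEquiv : k' ⊗[R'] (R' ⊗[R] S) ≃ₐ[k'] k' ⊗[k] (k ⊗[R] S) :=
  (Algebra.TensorProduct.cancelBaseChange R R' k' k' S).trans
    (Algebra.TensorProduct.cancelBaseChange R k k' k' S).symm

theorem noeth_preg_bc_iff :
    (IsNoetherianRing (k ⊗[R] S) ∧ PReg R k S) ↔
      (IsNoetherianRing (k' ⊗[R'] (R' ⊗[R] S)) ∧ PReg R' k' (R' ⊗[R] S)) := by
  constructor
  · rintro ⟨hN, hP⟩
    haveI := hN
    have hGR : CAlg.IsGeometricallyRegular k (k ⊗[R] S) :=
      (isGeometricallyRegular_tensor_iff R k S).mpr hP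
    have hGR' : CAlg.IsGeometricallyRegular k' (k' ⊗[k] (k ⊗[R] S)) :=
      (Groth.Agent.Lib.Helper21.GeomReg.S2674_aux k (k ⊗[R] S) k').mp hGR
    haveI hN1 : IsNoetherianRing ((k ⊗[R] S) ⊗[k] k') :=
      Algebra.EssFiniteType.isNoetherianRing (k ⊗[R] S) _
    haveI hN2 : IsNoetherianRing (k' ⊗[k] (k ⊗[R] S)) :=
      isNoetherianRing_of_ringEquiv _ (Algebra.TensorProduct.comm k (k ⊗[R] S) k').toRingEquiv
    refine ⟨isNoetherianRing_of_ringEquiv _ (cmpEquiv R R' S k k').symm.toRingEquiv, ?_⟩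
    exact (isGeometricallyRegular_tensor_iff R' k' (R' ⊗[R] S)).mp
      (isGeometricallyRegular_of_algEquiv' (cmpEquiv R R' S k k').symm hGR')
  · rintro ⟨hN', hP'⟩
    haveI := hN'
    have hGR' : CAlg.IsGeometricallyRegular k' (k' ⊗[R'] (R' ⊗[R] S)) :=
      (isGeometricallyRegular_tensor_iff R' k' (R' ⊗[R] S)).mpr hP'
    have hGR'' : CAlg.IsGeometricallyRegular k' (k' ⊗[k] (k ⊗[R] S)) :=
      isGeometricallyRegular_of_algEquiv' (cmpEquiv R R' S k k') hGR'
    haveI hN2 : IsNoetherianRing (k' ⊗[k] (k ⊗[R] S)) :=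
      isNoetherianRing_of_ringEquiv _ (cmpEquiv R R' S k k').toRingEquiv
    haveI hN1 : IsNoetherianRing ((k ⊗[R] S) ⊗[k] k') :=
      isNoetherianRing_of_ringEquiv _ (Algebra.TensorProduct.comm k (k ⊗[R] S) k').symm.toRingEquiv
    haveI : Module.FaithfullyFlat k k' := inferInstance
    haveI : Module.FaithfullyFlat (k ⊗[R] S) ((k ⊗[R] S) ⊗[k] k') := inferInstance
    haveI hN : IsNoetherianRing (k ⊗[R] S) :=
      isNoetherianRing_of_faithfullyFlat' (R := k ⊗[R] S) (A := (k ⊗[R] S) ⊗[k] k')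
    refine ⟨hN, (isGeometricallyRegular_tensor_iff R k S).mp ?_⟩
    exact (Groth.Agent.Lib.Helper21.GeomReg.S2674_aux k (k ⊗[R] S) k').mpr hGR''

end bc

end Groth.Agent.Lib.Helper27.RegFibF
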