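import Mathlib
import Groth.Agent.Lib.Helper12.SchDenseSch

/-!
# Affine chart of a fibre, with both compatibilities (helper27)

A variant of `Helper12.SchDenseSch.chart'` which also records the compatibility of the
identification with the structure map from the residue field.
-/

set_option autoImplicit false
set_option linter.style.haveILetI false
universe u
open AlgebraicGeometry CategoryTheory Limits TensorProduct

namespace Groth.Agent.Lib.Helper27.RegFibB

open Groth.Agent.Lib.Helper28.FibreChart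

/-- The structure map `κ(y) ⟶ Γ(X_y, V)` of the fibre over `y`. -/
noncomputable def fibStr {X Y : Scheme.{u}} (f : X ⟶ Y) (y : Y) (V : (f.fiber y).Opens) :
    Y.residueField y ⟶ Γ(f.fiber y, V) :=
  (Scheme.ΓSpecIso (Y.residueField y)).inv ≫ (f.fiberToSpecResidueField y).appTop ≫
    (f.fiber y).presheaf.map (homOfLE le_top).op

theorem fibStr_res {X Y : Scheme.{u}} (f : X ⟶ Y) (y : Y) {V V' : (f.fiber y).Opens}
    (h : V' ≤ V) :
    fibStr f y V ≫ (f.fiber y).presheaf.map (homOfLE h).op = fibStr f y V' := by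
  unfold fibStr
  simp only [Category.assoc, ← Functor.map_comp]
  rfl

/-- Affine chart of the fibre, with both compatibilities of the identification. -/
theorem chart'' {X Y : Scheme.{u}} (f : X ⟶ Y) (y : Y) (W : Y.Opens) (hW : IsAffineOpen W)
    (hy : y ∈ W) (U : X.Opens) (hU : IsAffineOpen U) (hUW : U ≤ f ⁻¹ᵁ W) :
    letI := (f.appLE W U hUW).hom.toAlgebra
    letI := (Y.evaluation W y hy).hom.toAlgebra
    IsAffineOpen ((f.fiberι y) ⁻¹ᵁ U) ∧
      ∃ ε : Y.residueField y ⊗[Γ(Y, W)] Γ(X, U) ≃+* Γ(f.fiber y, (f.fiberι y) ⁻¹ᵁ U),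
        (∀ b : Γ(X, U), ε ((1 : Y.residueField y) ⊗ₜ[Γ(Y, W)] b) =
          ((f.fiberι y).appLE U ((f.fiberι y) ⁻¹ᵁ U) le_rfl).hom b) ∧
        (∀ c : Y.residueField y, ε (c ⊗ₜ[Γ(Y, W)] (1 : Γ(X, U))) =
          (fibStr f y ((f.fiberι y) ⁻¹ᵁ U)).hom c) := by
  letI algRB : Algebra Γ(Y, W) Γ(X, U) := (f.appLE W U hUW).hom.toAlgebra
  letI algRK : Algebra Γ(Y, W) (Y.residueField y) := (Y.evaluation W y hy).hom.toAlgebra
  have h : IsPullback (f.fiberι y) (f.fiberToSpecResidueField y) f (Y.fromSpecResidueField y) :=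
    IsPullback.of_hasPullback f (Y.fromSpecResidueField y)
  have hW' : IsAffineOpen (⊤ : (Spec (Y.residueField y)).Opens) := isAffineOpen_top _
  have hW'W : (⊤ : (Spec (Y.residueField y)).Opens) ≤ (Y.fromSpecResidueField y) ⁻¹ᵁ W := by
    intro s _
    show (Y.fromSpecResidueField y) s ∈ W
    rw [Scheme.fromSpecResidueField_apply]; exact hy
  have hUY : (f.fiberι y) ⁻¹ᵁ U = (f.fiberι y) ⁻¹ᵁ U ⊓ (f.fiberToSpecResidueField y) ⁻¹ᵁ ⊤ := by
    simp
  have : IsAffine (W : Scheme) := hW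
  have : IsAffine (U : Scheme) := hU
  have : IsAffine ((⊤ : (Spec (Y.residueField y)).Opens) : Scheme) := hW'
  have hV' : IsAffineOpen ((f.fiberι y) ⁻¹ᵁ U) :=
    .of_isIso (Scheme.Hom.isPullback_resLE h hW'W hUW hUY).isoPullback.hom
  have hiso := isIso_pushoutSection_of_isAffineOpen h hW'W hUW hUY hW hW' hU
  have hpo := (isIso_pushoutSection_iff h hW'W hUW hUY).mp hiso
  refine ⟨hV', ?_⟩
  have H2 : IsPushout (f.appLE W U hUW) (Y.evaluation W y hy)
      ((f.fiberι y).appLE U _ le_rfl)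
      ((Scheme.ΓSpecIso (Y.residueField y)).inv ≫
        (f.fiberToSpecResidueField y).appLE ⊤ ((f.fiberι y) ⁻¹ᵁ U) le_top) :=
    hpo.of_iso (Iso.refl _) (Iso.refl _) (Scheme.ΓSpecIso _) (Iso.refl _) (by simp)
      (by simp [fromSpecResidueField_appLE y W hy]) (by simp) (by simp)
  have H3 := CommRingCat.isPushout_tensorProduct Γ(Y, W) (Y.residueField y) Γ(X, U)
  refine ⟨(H3.isoIsPushout _ _ H2.flip).commRingCatIsoToRingEquiv, fun b => ?_, fun c => ?_⟩
  · have h4 := H3.inr_isoIsPushout_hom _ _ H2.flip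
    exact congr($(h4).hom b)
  · have h4 := H3.inl_isoIsPushout_hom _ _ H2.flip
    have h6 := congr($(h4).hom c)
    exact h6

end Groth.Agent.Lib.Helper27.RegFibB
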