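import Mathlib
import Groth.Agent.Lib.Helper27.RegFibA
import Groth.Agent.Lib.Helper27.RegFibB

/-!
# Regular ring maps on affine charts from geometrically regular fibres (helper27)
-/

set_option autoImplicit false
set_option linter.style.haveILetI false
universe u
open AlgebraicGeometry CategoryTheory Limits TensorProduct

namespace Groth.Agent.Lib.Helper27.RegFibC

open Groth.Agent.Lib.Helper28.FibreChart Groth.Agent.Lib.Helper27.RegFibA
  Groth.Agent.Lib.Helper27.RegFibB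

/-- Data attached to a prime of an affine open: the point, the residue field iso, the chart. -/
theorem exists_point_of_prime {Y : Scheme.{u}} {V : Y.Opens} (hV : IsAffineOpen V)
    (p : Ideal Γ(Y, V)) [p.IsPrime] :
    ∃ (y : Y) (hy : y ∈ V), (hV.primeIdealOf ⟨y, hy⟩).asIdeal = p := by
  let x : V := hV.isoSpec.inv (⟨p, inferInstance⟩ : PrimeSpectrum Γ(Y, V))
  refine ⟨x.1, x.2, ?_⟩
  have : hV.primeIdealOf ⟨x.1, x.2⟩ = ⟨p, inferInstance⟩ := by
    show hV.isoSpec.hom (hV.isoSpec.inv _) = _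
    rw [← Scheme.Hom.comp_apply, Iso.inv_hom_id]
    rfl
  rw [this]

theorem nonempty_sigma {Y : Scheme.{u}} {V : Y.Opens} (hV : IsAffineOpen V) (y : Y) (hy : y ∈ V) :
    letI := (Y.evaluation V y hy).hom.toAlgebra
    Nonempty ((hV.primeIdealOf ⟨y, hy⟩).asIdeal.ResidueField ≃ₐ[Γ(Y, V)] Y.residueField y) := by
  letI algRK : Algebra Γ(Y, V) (Y.residueField y) := (Y.evaluation V y hy).hom.toAlgebra
  exact nonempty_residueField_algEquiv Γ(Y, V) (hV.primeIdealOf ⟨y, hy⟩).asIdeal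
    (Y.residueField y) (ker_evaluation V hV y hy) (evaluation_frac V hV y hy)

/-- The base-free regularity predicate for the chart is equivalent to geometric regularity of
the sections of the fibre over the chart. -/
theorem pReg_iff_fibre {X Y : Scheme.{u}} (f : X ⟶ Y) (y : Y) (V : Y.Opens) (hV : IsAffineOpen V)
    (hy : y ∈ V) (U : X.Opens) (hU : IsAffineOpen U) (hUV : U ≤ f ⁻¹ᵁ V) :
    letI := (f.appLE V U hUV).hom.toAlgebra
    letI := (Y.evaluation V y hy).hom.toAlgebra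
    letI : Algebra (Y.residueField y) Γ(f.fiber y, (f.fiberι y) ⁻¹ᵁ U) :=
      (fibStr f y ((f.fiberι y) ⁻¹ᵁ U)).hom.toAlgebra
    (PReg Γ(Y, V) (Y.residueField y) Γ(X, U) ↔
      CAlg.IsGeometricallyRegular (Y.residueField y) Γ(f.fiber y, (f.fiberι y) ⁻¹ᵁ U)) ∧
    Nonempty (Y.residueField y ⊗[Γ(Y, V)] Γ(X, U) ≃+* Γ(f.fiber y, (f.fiberι y) ⁻¹ᵁ U)) := by
  letI algRS : Algebra Γ(Y, V) Γ(X, U) := (f.appLE V U hUV).hom.toAlgebra
  letI algRK : Algebra Γ(Y, V) (Y.residueField y) := (Y.evaluation V y hy).hom.toAlgebra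
  letI algKB : Algebra (Y.residueField y) Γ(f.fiber y, (f.fiberι y) ⁻¹ᵁ U) :=
    (fibStr f y ((f.fiberι y) ⁻¹ᵁ U)).hom.toAlgebra
  obtain ⟨-, ε, -, hε2⟩ := chart'' f y V hV hy U hU hUV
  let εA : (Y.residueField y) ⊗[Γ(Y, V)] Γ(X, U) ≃ₐ[Y.residueField y]
      Γ(f.fiber y, (f.fiberι y) ⁻¹ᵁ U) :=
    AlgEquiv.ofRingEquiv (f := ε) (fun c => by
      rw [Algebra.TensorProduct.algebraMap_apply]
      exact hε2 c)
  refine ⟨?_, ⟨ε⟩⟩
  rw [← isGeometricallyRegular_tensor_iff]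
  exact ⟨isGeometricallyRegular_of_algEquiv' εA, isGeometricallyRegular_of_algEquiv' εA.symm⟩

/-- `(⇐)`: flat with geometrically regular (Noetherian) fibres implies regular on affine charts. -/
theorem isRegularHom_appLE_of_fibres {X Y : Scheme.{u}} (f : X ⟶ Y) [Flat f]
    (hfib : ∀ (y : Y) (W : (f.fiber y).Opens), IsAffineOpen W →
      letI : Algebra (Y.residueField y) Γ(f.fiber y, W) := (fibStr f y W).hom.toAlgebra
      IsNoetherianRing Γ(f.fiber y, W) ∧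
        CAlg.IsGeometricallyRegular (Y.residueField y) Γ(f.fiber y, W))
    (U : X.Opens) (V : Y.Opens) (hU : IsAffineOpen U) (hV : IsAffineOpen V) (hUV : U ≤ f ⁻¹ᵁ V) :
    letI := (f.appLE V U hUV).hom.toAlgebra
    CAlg.IsRegularHom Γ(Y, V) Γ(X, U) := by
  letI algRS : Algebra Γ(Y, V) Γ(X, U) := (f.appLE V U hUV).hom.toAlgebra
  refine ⟨?_, fun p _ => ?_⟩
  · have := HasRingHomProperty.appLE (P := @Flat) f inferInstance ⟨V, hV⟩ ⟨U, hU⟩ hUV
    exact this
  · obtain ⟨y, hy, hp⟩ := exists_point_of_prime hV p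
    subst hp
    letI algRK : Algebra Γ(Y, V) (Y.residueField y) := (Y.evaluation V y hy).hom.toAlgebra
    letI algKB : Algebra (Y.residueField y) Γ(f.fiber y, (f.fiberι y) ⁻¹ᵁ U) :=
      (fibStr f y ((f.fiberι y) ⁻¹ᵁ U)).hom.toAlgebra
    obtain ⟨σ⟩ := nonempty_sigma hV y hy
    obtain ⟨hW₀, -⟩ := chart'' f y V hV hy U hU hUV
    obtain ⟨hiff, ⟨ε⟩⟩ := pReg_iff_fibre f y V hV hy U hU hUV
    obtain ⟨hNoeth, hGR⟩ := hfib y _ hW₀
    have h2 : PReg Γ(Y, V) (Y.residueField y) Γ(X, U) := hiff.mpr hGR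
    have h3 : PReg Γ(Y, V) (hV.primeIdealOf ⟨y, hy⟩).asIdeal.ResidueField Γ(X, U) :=
      pReg_of_algEquiv σ.symm h2
    refine ⟨?_, (isGeometricallyRegular_tensor_iff _ _ _).mpr h3⟩
    have e1 : (hV.primeIdealOf ⟨y, hy⟩).asIdeal.Fiber Γ(X, U) ≃+*
        Γ(f.fiber y, (f.fiberι y) ⁻¹ᵁ U) :=
      (Algebra.TensorProduct.congr σ (AlgEquiv.refl : Γ(X, U) ≃ₐ[Γ(Y, V)] Γ(X, U))).toRingEquiv.trans ε
    exact isNoetherianRing_of_ringEquiv _ e1.symm

end Groth.Agent.Lib.Helper27.RegFibC
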