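import Mathlib
import Groth.Agent.Lib.Helper9.RegularLoc

/-!
# Regularity of `K ⊗[κ] A` is local on `Spec A` (helper27)
-/

set_option autoImplicit false
set_option linter.style.haveILetI false
universe u
open TensorProduct

namespace Groth.Agent.Lib.Helper27.RegFibD

theorem isRegularLocalRing_atPrime_congr {T : Type u} [CommRing T] (P Q : Ideal T) [P.IsPrime]
    [Q.IsPrime] (h : P = Q) (hreg : IsRegularLocalRing (Localization.AtPrime P)) :
    IsRegularLocalRing (Localization.AtPrime Q) := by
  subst h
  exact hreg

/-- If `T[1/t]` is regular and `t ∉ P` then `T_P` is regular. -/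
theorem isRegularLocalRing_atPrime_of_away {T : Type u} [CommRing T] (t : T)
    [IsRegularRing (Localization.Away t)] (P : Ideal T) [hP : P.IsPrime] (ht : t ∉ P) :
    IsRegularLocalRing (Localization.AtPrime P) := by
  have hdisj : Disjoint (Submonoid.powers t : Set T) (P : Set T) := by
    rw [Set.disjoint_left]
    rintro _ ⟨n, rfl⟩ hmem
    exact ht (hP.mem_of_pow_mem n hmem)
  let P' : Ideal (Localization.Away t) := P.map (algebraMap T (Localization.Away t))
  haveI hP' : P'.IsPrime :=
    IsLocalization.isPrime_of_isPrime_disjoint (Submonoid.powers t) _ P hP hdisj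
  have hcomap : P'.comap (algebraMap T (Localization.Away t)) = P :=
    IsLocalization.comap_map_of_isPrime_disjoint (Submonoid.powers t) _ hP hdisj
  haveI : (P'.comap (algebraMap T (Localization.Away t))).IsPrime := by rw [hcomap]; exact hP
  have h1 : IsRegularLocalRing (Localization.AtPrime P') := inferInstance
  have h2 : IsRegularLocalRing
      (Localization.AtPrime (P'.comap (algebraMap T (Localization.Away t)))) :=
    IsRegularLocalRing.of_ringEquiv
      (IsLocalization.localizationLocalizationAtPrimeIsoLocalization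
        (Submonoid.powers t) P').symm.toRingEquiv
  exact isRegularLocalRing_atPrime_congr _ _ hcomap h2

variable (κ : Type u) [Field κ] (A : Type u) [CommRing A] [Algebra κ A]
  (K : Type u) [Field K] [Algebra κ K]

theorem isNoetherianRing_tensor_of_finite [IsNoetherianRing A] [Module.Finite κ K] :
    IsNoetherianRing (K ⊗[κ] A) := by
  haveI : Module.Finite A (A ⊗[κ] K) := Module.Finite.base_change κ A K
  haveI : IsNoetherianRing (A ⊗[κ] K) := IsNoetherianRing.of_finite A _
  exact isNoetherianRing_of_ringEquiv _ (Algebra.TensorProduct.comm κ A K).toRingEquiv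

/-- Regularity of `K ⊗[κ] A` can be checked on a cover of `Spec A` by basic opens. -/
theorem isRegularRing_tensor_of_local [IsNoetherianRing A] [Module.Finite κ K]
    (H : ∀ q : Ideal A, q.IsPrime → ∃ (g : A) (_ : g ∉ q) (A' : Type u) (_ : CommRing A')
      (_ : Algebra κ A') (_ : Algebra A A') (_ : IsScalarTower κ A A')
      (_ : IsLocalization.Away g A'), IsRegularRing (K ⊗[κ] A')) :
    IsRegularRing (K ⊗[κ] A) := by
  haveI := isNoetherianRing_tensor_of_finite κ A K
  rw [isRegularRing_iff]
  intro P hP
  let ι : A →+* K ⊗[κ] A := (Algebra.TensorProduct.includeRight : A →ₐ[κ] K ⊗[κ] A).toRingHom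
  obtain ⟨g, hg, A', _, _, _, _, _, hreg⟩ := H (P.comap ι) (Ideal.comap_isPrime ι P)
  have ht : ((1 : K) ⊗ₜ[κ] g : K ⊗[κ] A) ∉ P := fun h => hg h
  haveI : IsRegularRing (Localization.Away ((1 : K) ⊗ₜ[κ] g : K ⊗[κ] A)) :=
    IsRegularRing.of_ringEquiv (R := K ⊗[κ] A')
      (IsLocalization.Away.tensorProductEquivTMulRight κ K g A').toRingEquiv
  exact isRegularLocalRing_atPrime_of_away _ P ht

/-- Localisation away from an element preserves regularity of `K ⊗[κ] -`. -/
theorem isRegularRing_tensor_away [IsRegularRing (K ⊗[κ] A)] (g : A) (A' : Type u) [CommRing A']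
    [Algebra κ A'] [Algebra A A'] [IsScalarTower κ A A'] [IsLocalization.Away g A'] :
    IsRegularRing (K ⊗[κ] A') := by
  haveI : IsRegularRing (Localization.Away ((1 : K) ⊗ₜ[κ] g : K ⊗[κ] A)) :=
    Groth.Agent.Lib.Helper9.isRegularRing_localization _ _
  exact IsRegularRing.of_ringEquiv (R := Localization.Away ((1 : K) ⊗ₜ[κ] g : K ⊗[κ] A))
    (IsLocalization.Away.tensorProductEquivTMulRight κ K g A').symm.toRingEquiv

end Groth.Agent.Lib.Helper27.RegFibD
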