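import Mathlib
import Groth.Agent.Lib.Helper27.RegFibC
import Groth.Agent.Lib.Helper27.RegFibD

/-!
# Geometric regularity of the fibres from regularity on affine charts (helper27)
-/

set_option autoImplicit false
set_option linter.style.haveILetI false
universe u
open AlgebraicGeometry CategoryTheory Limits TensorProduct

namespace Groth.Agent.Lib.Helper27.RegFibE

open Groth.Agent.Lib.Helper28.FibreChart Groth.Agent.Lib.Helper27.RegFibA
  Groth.Agent.Lib.Helper27.RegFibB Groth.Agent.Lib.Helper27.RegFibC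
  Groth.Agent.Lib.Helper27.RegFibD

theorem mem_basicOpen_iff_notMem_primeIdealOf' {X : Scheme.{u}} {U : X.Opens}
    (hU : IsAffineOpen U) (x : U) (a : Γ(X, U)) :
    (x : X) ∈ X.basicOpen a ↔ a ∉ (hU.primeIdealOf x).asIdeal := by
  have h1 : hU.fromSpec (hU.primeIdealOf x) = (x : X) := hU.fromSpec_primeIdealOf x
  have h2 := hU.fromSpec_preimage_basicOpen a
  have h3 : hU.primeIdealOf x ∈ hU.fromSpec ⁻¹ᵁ X.basicOpen a ↔
      hU.primeIdealOf x ∈ PrimeSpectrum.basicOpen a := by rw [h2]; exact Iff.rfl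
  rw [← h1]
  exact h3

theorem map_fiberι' {X Y : Scheme.{u}} (f : X ⟶ Y) (y : Y) (z : f.fiber y) :
    f (f.fiberι y z) = y := by
  have h : f.fiberι y ≫ f = f.fiberToSpecResidueField y ≫ Y.fromSpecResidueField y :=
    pullback.condition
  have h2 := congrArg (fun g => g z) h
  simp only [Scheme.Hom.comp_apply] at h2
  rw [h2, Scheme.fromSpecResidueField_apply]

/-- The structure of `κ(y)`-algebra on sections of the fibre. -/
@[reducible] noncomputable def algFib {X Y : Scheme.{u}} (f : X ⟶ Y) (y : Y)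
    (V : (f.fiber y).Opens) : Algebra (Y.residueField y) Γ(f.fiber y, V) :=
  (fibStr f y V).hom.toAlgebra

/-- Restriction algebra between sections. -/
@[reducible] noncomputable def algRes {F : Scheme.{u}} {V V' : F.Opens} (h : V' ≤ V) :
    Algebra Γ(F, V) Γ(F, V') :=
  (F.presheaf.map (homOfLE h).op).hom.toAlgebra

theorem isScalarTower_fib {X Y : Scheme.{u}} (f : X ⟶ Y) (y : Y)
    {V V' : (f.fiber y).Opens} (h : V' ≤ V) :
    letI := algFib f y V
    letI := algFib f y V'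
    letI := algRes h
    IsScalarTower (Y.residueField y) Γ(f.fiber y, V) Γ(f.fiber y, V') := by
  letI := algFib f y V
  letI := algFib f y V'
  letI := algRes h
  refine IsScalarTower.of_algebraMap_eq (fun c => ?_)
  have := fibStr_res f y h
  exact (congr($(this).hom c)).symm

/-- `(⇒)`: regular on affine charts implies geometrically regular fibres. -/
theorem isGeometricallyRegular_fibre_of_appLE {X Y : Scheme.{u}} (f : X ⟶ Y)
    (hN : ∀ y : Y, IsLocallyNoetherian (f.fiber y))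
    (H : ∀ (U : X.Opens) (V : Y.Opens) (hU : IsAffineOpen U) (hV : IsAffineOpen V)
      (hUV : U ≤ f ⁻¹ᵁ V),
        letI := (f.appLE V U hUV).hom.toAlgebra
        CAlg.IsRegularHom Γ(Y, V) Γ(X, U))
    (y : Y) (W : (f.fiber y).Opens) (hW : IsAffineOpen W) :
    letI : Algebra (Y.residueField y) Γ(f.fiber y, W) := (fibStr f y W).hom.toAlgebra
    CAlg.IsGeometricallyRegular (Y.residueField y) Γ(f.fiber y, W) := by
  letI algW : Algebra (Y.residueField y) Γ(f.fiber y, W) := algFib f y W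
  intro K _ _ hfin
  haveI : IsNoetherianRing Γ(f.fiber y, W) :=
    (hN y).component_noetherian ⟨W, hW⟩
  haveI : Module.Finite (Y.residueField y) K := hfin
  refine isRegularRing_tensor_of_local (Y.residueField y) Γ(f.fiber y, W) K (fun q hq => ?_)
  haveI := hq
  obtain ⟨w, hwW, hq'⟩ := exists_point_of_prime hW q
  -- charts around the image point
  have hfx : f (f.fiberι y w) = y := map_fiberι' f y w
  obtain ⟨V, hV, hyV, -⟩ := exists_isAffineOpen_mem_and_subset (x := y)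
    (U := (⊤ : Y.Opens)) trivial
  have hxV : f.fiberι y w ∈ f ⁻¹ᵁ V := by
    show f (f.fiberι y w) ∈ V
    rw [hfx]; exact hyV
  obtain ⟨U, hU, hxU, hUV'⟩ := exists_isAffineOpen_mem_and_subset hxV
  have hUV : U ≤ f ⁻¹ᵁ V := hUV'
  letI algRS : Algebra Γ(Y, V) Γ(X, U) := (f.appLE V U hUV).hom.toAlgebra
  letI algRK : Algebra Γ(Y, V) (Y.residueField y) := (Y.evaluation V y hyV).hom.toAlgebra
  letI algW₀ : Algebra (Y.residueField y) Γ(f.fiber y, (f.fiberι y) ⁻¹ᵁ U) :=
    algFib f y ((f.fiberι y) ⁻¹ᵁ U)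
  obtain ⟨hW₀, -⟩ := chart'' f y V hV hyV U hU hUV
  have hwW₀ : w ∈ (f.fiberι y) ⁻¹ᵁ U := hxU
  -- geometric regularity on the chart
  obtain ⟨σ⟩ := nonempty_sigma hV y hyV
  obtain ⟨hiff, -⟩ := pReg_iff_fibre f y V hV hyV U hU hUV
  have hreg := (H U V hU hV hUV).2 (hV.primeIdealOf ⟨y, hyV⟩).asIdeal
  have h3 : PReg Γ(Y, V) (hV.primeIdealOf ⟨y, hyV⟩).asIdeal.ResidueField Γ(X, U) :=
    (isGeometricallyRegular_tensor_iff _ _ _).mp hreg.2
  have h2 : PReg Γ(Y, V) (Y.residueField y) Γ(X, U) := pReg_of_algEquiv σ h3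
  have hGR : CAlg.IsGeometricallyRegular (Y.residueField y)
      Γ(f.fiber y, (f.fiberι y) ⁻¹ᵁ U) := hiff.mp h2
  haveI hregW₀ : IsRegularRing (K ⊗[Y.residueField y] Γ(f.fiber y, (f.fiberι y) ⁻¹ᵁ U)) :=
    hGR K hfin
  -- common basic open
  obtain ⟨g, g₀, hgg₀, hwg⟩ := exists_basicOpen_le_affine_inter hW hW₀ w ⟨hwW, hwW₀⟩
  have hgq : g ∉ q := by
    rw [← hq']
    exact (mem_basicOpen_iff_notMem_primeIdealOf' hW ⟨w, hwW⟩ g).mp hwg
  have hDW₀ : (f.fiber y).basicOpen g ≤ (f.fiberι y) ⁻¹ᵁ U := by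
    rw [hgg₀]; exact (f.fiber y).basicOpen_le g₀
  letI algD : Algebra (Y.residueField y) Γ(f.fiber y, (f.fiber y).basicOpen g) :=
    algFib f y ((f.fiber y).basicOpen g)
  letI algWD : Algebra Γ(f.fiber y, W) Γ(f.fiber y, (f.fiber y).basicOpen g) :=
    algRes ((f.fiber y).basicOpen_le g)
  haveI tw1 : IsScalarTower (Y.residueField y) Γ(f.fiber y, W)
      Γ(f.fiber y, (f.fiber y).basicOpen g) := isScalarTower_fib f y ((f.fiber y).basicOpen_le g)
  haveI locW : IsLocalization.Away g Γ(f.fiber y, (f.fiber y).basicOpen g) :=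
    hW.isLocalization_basicOpen g
  refine ⟨g, hgq, Γ(f.fiber y, (f.fiber y).basicOpen g), inferInstance, algD, algWD, tw1, locW, ?_⟩
  letI algW₀D : Algebra Γ(f.fiber y, (f.fiberι y) ⁻¹ᵁ U) Γ(f.fiber y, (f.fiber y).basicOpen g) :=
    algRes hDW₀
  haveI tw2 : IsScalarTower (Y.residueField y) Γ(f.fiber y, (f.fiberι y) ⁻¹ᵁ U)
      Γ(f.fiber y, (f.fiber y).basicOpen g) := isScalarTower_fib f y hDW₀
  haveI locW₀ : IsLocalization.Away g₀ Γ(f.fiber y, (f.fiber y).basicOpen g) :=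
    hW₀.isLocalization_of_eq_basicOpen g₀ (homOfLE hDW₀) hgg₀
  exact isRegularRing_tensor_away (Y.residueField y) Γ(f.fiber y, (f.fiberι y) ⁻¹ᵁ U) K g₀
    Γ(f.fiber y, (f.fiber y).basicOpen g)

end Groth.Agent.Lib.Helper27.RegFibE
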