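import Mathlib
import Groth.Agent.Lib.Helper27.RegFibE

/-!
# The fibre condition at a point in terms of affine charts (helper27)

`FibOK f y`: every affine open of the fibre over `y` has Noetherian, geometrically regular sections.
`ChartOK f y V U`: `κ(y) ⊗ Γ(U)` is Noetherian and the base-free regularity predicate holds.
-/

set_option autoImplicit false
set_option linter.style.haveILetI false
universe u
open AlgebraicGeometry CategoryTheory Limits TensorProduct

namespace Groth.Agent.Lib.Helper27.RegFibG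

open Groth.Agent.Lib.Helper28.FibreChart Groth.Agent.Lib.Helper27.RegFibA
  Groth.Agent.Lib.Helper27.RegFibB Groth.Agent.Lib.Helper27.RegFibC
  Groth.Agent.Lib.Helper27.RegFibD Groth.Agent.Lib.Helper27.RegFibE

/-- The fibre condition at a point. -/
def FibOK {X Y : Scheme.{u}} (f : X ⟶ Y) (y : Y) : Prop :=
  ∀ (W : (f.fiber y).Opens), IsAffineOpen W →
    letI : Algebra (Y.residueField y) Γ(f.fiber y, W) := (fibStr f y W).hom.toAlgebra
    IsNoetherianRing Γ(f.fiber y, W) ∧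
      CAlg.IsGeometricallyRegular (Y.residueField y) Γ(f.fiber y, W)

/-- The chart condition at a point. -/
def ChartOK {X Y : Scheme.{u}} (f : X ⟶ Y) (y : Y) (V : Y.Opens) (hy : y ∈ V) (U : X.Opens)
    (hUV : U ≤ f ⁻¹ᵁ V) : Prop :=
  letI := (f.appLE V U hUV).hom.toAlgebra
  letI := (Y.evaluation V y hy).hom.toAlgebra
  IsNoetherianRing (Y.residueField y ⊗[Γ(Y, V)] Γ(X, U)) ∧
    PReg Γ(Y, V) (Y.residueField y) Γ(X, U)

theorem chartOK_of_fibOK {X Y : Scheme.{u}} (f : X ⟶ Y) (y : Y) (h : FibOK f y)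
    (V : Y.Opens) (hV : IsAffineOpen V) (hy : y ∈ V) (U : X.Opens) (hU : IsAffineOpen U)
    (hUV : U ≤ f ⁻¹ᵁ V) : ChartOK f y V hy U hUV := by
  letI algRS : Algebra Γ(Y, V) Γ(X, U) := (f.appLE V U hUV).hom.toAlgebra
  letI algRK : Algebra Γ(Y, V) (Y.residueField y) := (Y.evaluation V y hy).hom.toAlgebra
  obtain ⟨hW₀, -⟩ := chart'' f y V hV hy U hU hUV
  obtain ⟨hiff, ⟨ε⟩⟩ := pReg_iff_fibre f y V hV hy U hU hUV
  obtain ⟨hN, hGR⟩ := h _ hW₀
  exact ⟨isNoetherianRing_of_ringEquiv _ ε.symm, hiff.mpr hGR⟩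

theorem fibOK_of_chartOK {X Y : Scheme.{u}} (f : X ⟶ Y) (y : Y)
    (H : ∀ x : X, f x = y → ∃ (V : Y.Opens) (_ : IsAffineOpen V) (hy : y ∈ V) (U : X.Opens)
      (_ : IsAffineOpen U) (hUV : U ≤ f ⁻¹ᵁ V), x ∈ U ∧ ChartOK f y V hy U hUV) :
    FibOK f y := by
  -- local data on the fibre
  have key : ∀ w : f.fiber y, ∃ W₀ : (f.fiber y).Opens, IsAffineOpen W₀ ∧ w ∈ W₀ ∧
      (letI : Algebra (Y.residueField y) Γ(f.fiber y, W₀) := (fibStr f y W₀).hom.toAlgebra
       IsNoetherianRing Γ(f.fiber y, W₀) ∧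
        CAlg.IsGeometricallyRegular (Y.residueField y) Γ(f.fiber y, W₀)) := by
    intro w
    obtain ⟨V, hV, hy, U, hU, hUV, hxU, hN, hP⟩ := H (f.fiberι y w) (map_fiberι' f y w)
    letI algRS : Algebra Γ(Y, V) Γ(X, U) := (f.appLE V U hUV).hom.toAlgebra
    letI algRK : Algebra Γ(Y, V) (Y.residueField y) := (Y.evaluation V y hy).hom.toAlgebra
    obtain ⟨hW₀, -⟩ := chart'' f y V hV hy U hU hUV
    obtain ⟨hiff, ⟨ε⟩⟩ := pReg_iff_fibre f y V hV hy U hU hUV
    haveI := hN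
    exact ⟨_, hW₀, hxU, isNoetherianRing_of_ringEquiv _ ε, hiff.mp hP⟩
  choose W₀ hW₀ hmem hNGR using key
  haveI hLN : IsLocallyNoetherian (f.fiber y) := by
    refine isLocallyNoetherian_of_affine_cover (S := fun w => ⟨W₀ w, hW₀ w⟩) ?_
      (fun w => (hNGR w).1)
    rw [eq_top_iff]
    intro w _
    exact TopologicalSpace.Opens.mem_iSup.mpr ⟨w, hmem w⟩
  intro W hW
  letI algW : Algebra (Y.residueField y) Γ(f.fiber y, W) := algFib f y W
  haveI hNW : IsNoetherianRing Γ(f.fiber y, W) := hLN.component_noetherian ⟨W, hW⟩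
  refine ⟨hNW, ?_⟩
  intro K _ _ hfin
  haveI : Module.Finite (Y.residueField y) K := hfin
  refine isRegularRing_tensor_of_local (Y.residueField y) Γ(f.fiber y, W) K (fun q hq => ?_)
  haveI := hq
  obtain ⟨w, hwW, hq'⟩ := exists_point_of_prime hW q
  letI algW₀ : Algebra (Y.residueField y) Γ(f.fiber y, W₀ w) := algFib f y (W₀ w)
  haveI hregW₀ : IsRegularRing (K ⊗[Y.residueField y] Γ(f.fiber y, W₀ w)) :=
    (hNGR w).2 K hfin
  obtain ⟨g, g₀, hgg₀, hwg⟩ := exists_basicOpen_le_affine_inter hW (hW₀ w) w ⟨hwW, hmem w⟩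
  have hgq : g ∉ q := by
    rw [← hq']
    exact (mem_basicOpen_iff_notMem_primeIdealOf' hW ⟨w, hwW⟩ g).mp hwg
  have hDW₀ : (f.fiber y).basicOpen g ≤ W₀ w := by
    rw [hgg₀]; exact (f.fiber y).basicOpen_le g₀
  letI algD : Algebra (Y.residueField y) Γ(f.fiber y, (f.fiber y).basicOpen g) :=
    algFib f y ((f.fiber y).basicOpen g)
  letI algWD : Algebra Γ(f.fiber y, W) Γ(f.fiber y, (f.fiber y).basicOpen g) :=
    algRes ((f.fiber y).basicOpen_le g)
  haveI tw1 : IsScalarTower (Y.residueField y) Γ(f.fiber y, W)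
      Γ(f.fiber y, (f.fiber y).basicOpen g) := isScalarTower_fib f y ((f.fiber y).basicOpen_le g)
  haveI locW : IsLocalization.Away g Γ(f.fiber y, (f.fiber y).basicOpen g) :=
    hW.isLocalization_basicOpen g
  refine ⟨g, hgq, Γ(f.fiber y, (f.fiber y).basicOpen g), inferInstance, algD, algWD, tw1, locW, ?_⟩
  letI algW₀D : Algebra Γ(f.fiber y, W₀ w) Γ(f.fiber y, (f.fiber y).basicOpen g) :=
    algRes hDW₀
  haveI tw2 : IsScalarTower (Y.residueField y) Γ(f.fiber y, W₀ w)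
      Γ(f.fiber y, (f.fiber y).basicOpen g) := isScalarTower_fib f y hDW₀
  haveI locW₀ : IsLocalization.Away g₀ Γ(f.fiber y, (f.fiber y).basicOpen g) :=
    (hW₀ w).isLocalization_of_eq_basicOpen g₀ (homOfLE hDW₀) hgg₀
  exact isRegularRing_tensor_away (Y.residueField y) Γ(f.fiber y, W₀ w) K g₀
    Γ(f.fiber y, (f.fiber y).basicOpen g)

end Groth.Agent.Lib.Helper27.RegFibG
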