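import Mathlib

/-!
# Affine charts of a pullback square (helper27)
-/

set_option autoImplicit false
set_option linter.style.haveILetI false
universe u
open AlgebraicGeometry CategoryTheory Limits TensorProduct

namespace Groth.Agent.Lib.Helper27.RegFibH

/-- For a pullback square and affine opens `V ⊆ Y`, `V' ⊆ g⁻¹V`, `U ⊆ f⁻¹V`, the open
`g'⁻¹U ⊓ f'⁻¹V'` is affine with sections `Γ(V') ⊗[Γ(V)] Γ(U)`. -/
theorem pbChart {X Y X' Y' : Scheme.{u}} {f : X ⟶ Y} {f' : X' ⟶ Y'} {g' : X' ⟶ X} {g : Y' ⟶ Y}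
    (hc : IsPullback g' f' f g) (V : Y.Opens) (hV : IsAffineOpen V) (V' : Y'.Opens)
    (hV' : IsAffineOpen V') (hV'V : V' ≤ g ⁻¹ᵁ V) (U : X.Opens) (hU : IsAffineOpen U)
    (hUV : U ≤ f ⁻¹ᵁ V) :
    letI := (f.appLE V U hUV).hom.toAlgebra
    letI := (g.appLE V V' hV'V).hom.toAlgebra
    IsAffineOpen (g' ⁻¹ᵁ U ⊓ f' ⁻¹ᵁ V') ∧
      ∃ e : Γ(Y', V') ⊗[Γ(Y, V)] Γ(X, U) ≃+* Γ(X', g' ⁻¹ᵁ U ⊓ f' ⁻¹ᵁ V'),
        (∀ a : Γ(Y', V'), e (a ⊗ₜ[Γ(Y, V)] (1 : Γ(X, U))) =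
          (f'.appLE V' (g' ⁻¹ᵁ U ⊓ f' ⁻¹ᵁ V') inf_le_right).hom a) ∧
        (∀ b : Γ(X, U), e ((1 : Γ(Y', V')) ⊗ₜ[Γ(Y, V)] b) =
          (g'.appLE U (g' ⁻¹ᵁ U ⊓ f' ⁻¹ᵁ V') inf_le_left).hom b) := by
  letI algRS : Algebra Γ(Y, V) Γ(X, U) := (f.appLE V U hUV).hom.toAlgebra
  letI algRR' : Algebra Γ(Y, V) Γ(Y', V') := (g.appLE V V' hV'V).hom.toAlgebra
  have hUY : g' ⁻¹ᵁ U ⊓ f' ⁻¹ᵁ V' = g' ⁻¹ᵁ U ⊓ f' ⁻¹ᵁ V' := rfl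
  have : IsAffine (V : Scheme) := hV
  have : IsAffine (U : Scheme) := hU
  have : IsAffine (V' : Scheme) := hV'
  have hAff : IsAffineOpen (g' ⁻¹ᵁ U ⊓ f' ⁻¹ᵁ V') :=
    .of_isIso (Scheme.Hom.isPullback_resLE hc hV'V hUV hUY).isoPullback.hom
  have hiso := isIso_pushoutSection_of_isAffineOpen hc hV'V hUV hUY hV hV' hU
  have hpo := (isIso_pushoutSection_iff hc hV'V hUV hUY).mp hiso
  have H3 := CommRingCat.isPushout_tensorProduct Γ(Y, V) Γ(Y', V') Γ(X, U)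
  refine ⟨hAff, (H3.isoIsPushout _ _ hpo.flip).commRingCatIsoToRingEquiv,
    fun a => ?_, fun b => ?_⟩
  · have h4 := H3.inl_isoIsPushout_hom _ _ hpo.flip
    exact congr($(h4).hom a)
  · have h4 := H3.inr_isoIsPushout_hom _ _ hpo.flip
    exact congr($(h4).hom b)

end Groth.Agent.Lib.Helper27.RegFibH
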