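import Mathlib
import Groth.Agent.Lib.Helper27.RegFibF
import Groth.Agent.Lib.Helper27.RegFibG
import Groth.Agent.Lib.Helper27.RegFibH

/-!
# The chart condition and base change along a morphism locally of finite type (helper27)
-/

set_option autoImplicit false
set_option linter.style.haveILetI false
universe u
open AlgebraicGeometry CategoryTheory Limits TensorProduct

namespace Groth.Agent.Lib.Helper27.RegFibI

open Groth.Agent.Lib.Helper27.RegFibA Groth.Agent.Lib.Helper27.RegFibF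
  Groth.Agent.Lib.Helper27.RegFibG Groth.Agent.Lib.Helper27.RegFibH

theorem evaluation_res {Y : Scheme.{u}} {V V' : Y.Opens} (h : V' ≤ V) (y : Y) (hy : y ∈ V') :
    Y.presheaf.map (homOfLE h).op ≫ Y.evaluation V' y hy = Y.evaluation V y (h hy) := by
  unfold Scheme.evaluation
  rw [← Category.assoc, TopCat.Presheaf.germ_res]

theorem chartOK_bc_iff {X Y X' Y' : Scheme.{u}} {f : X ⟶ Y} {f' : X' ⟶ Y'} {g' : X' ⟶ X}
    {g : Y' ⟶ Y} (hc : IsPullback g' f' f g) [LocallyOfFiniteType g] (y' : Y')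
    (V : Y.Opens) (hV : IsAffineOpen V) (hy : g y' ∈ V) (V' : Y'.Opens) (hV' : IsAffineOpen V')
    (hy' : y' ∈ V') (hV'V : V' ≤ g ⁻¹ᵁ V) (U : X.Opens) (hU : IsAffineOpen U)
    (hUV : U ≤ f ⁻¹ᵁ V) :
    ChartOK f (g y') V hy U hUV ↔
      ChartOK f' y' V' hy' (g' ⁻¹ᵁ U ⊓ f' ⁻¹ᵁ V') inf_le_right := by
  letI algRS : Algebra Γ(Y, V) Γ(X, U) := (f.appLE V U hUV).hom.toAlgebra
  letI algRR' : Algebra Γ(Y, V) Γ(Y', V') := (g.appLE V V' hV'V).hom.toAlgebra
  letI algRk : Algebra Γ(Y, V) (Y.residueField (g y')) := (Y.evaluation V (g y') hy).hom.toAlgebra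
  letI algR'k' : Algebra Γ(Y', V') (Y'.residueField y') := (Y'.evaluation V' y' hy').hom.toAlgebra
  letI algkk' : Algebra (Y.residueField (g y')) (Y'.residueField y') :=
    (g.residueFieldMap y').hom.toAlgebra
  letI algRk' : Algebra Γ(Y, V) (Y'.residueField y') :=
    ((algebraMap Γ(Y', V') (Y'.residueField y')).comp (algebraMap Γ(Y, V) Γ(Y', V'))).toAlgebra
  haveI tw1 : IsScalarTower Γ(Y, V) Γ(Y', V') (Y'.residueField y') :=
    IsScalarTower.of_algebraMap_eq (fun _ => rfl)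
  haveI tw2 : IsScalarTower Γ(Y, V) (Y.residueField (g y')) (Y'.residueField y') := by
    refine IsScalarTower.of_algebraMap_eq (fun a => ?_)
    have h1 := Scheme.evaluation_naturality g y' hy
    have h2 := evaluation_res hV'V y' hy'
    have h3 : g.appLE V V' hV'V ≫ Y'.evaluation V' y' hy' =
        Y.evaluation V (g y') hy ≫ g.residueFieldMap y' := by
      rw [h1, Scheme.Hom.appLE, Category.assoc, h2]
    exact congr($(h3).hom a)
  haveI hess : Algebra.EssFiniteType (Y.residueField (g y')) (Y'.residueField y') :=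
    RingHom.EssFiniteType.residueFieldMap (LocallyOfFiniteType.stalkMap g y')
  obtain ⟨-, e, he1, -⟩ := pbChart hc V hV V' hV' hV'V U hU hUV
  letI algR'S' : Algebra Γ(Y', V') Γ(X', g' ⁻¹ᵁ U ⊓ f' ⁻¹ᵁ V') :=
    (f'.appLE V' (g' ⁻¹ᵁ U ⊓ f' ⁻¹ᵁ V') inf_le_right).hom.toAlgebra
  let eA : Γ(Y', V') ⊗[Γ(Y, V)] Γ(X, U) ≃ₐ[Γ(Y', V')] Γ(X', g' ⁻¹ᵁ U ⊓ f' ⁻¹ᵁ V') :=
    AlgEquiv.ofRingEquiv (f := e) (fun a => by
      rw [Algebra.TensorProduct.algebraMap_apply]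
      exact he1 a)
  have key := noeth_preg_bc_iff Γ(Y, V) Γ(Y', V') Γ(X, U) (Y.residueField (g y'))
    (Y'.residueField y')
  have hN : IsNoetherianRing (Y'.residueField y' ⊗[Γ(Y', V')] (Γ(Y', V') ⊗[Γ(Y, V)] Γ(X, U))) ↔
      IsNoetherianRing (Y'.residueField y' ⊗[Γ(Y', V')] Γ(X', g' ⁻¹ᵁ U ⊓ f' ⁻¹ᵁ V')) := by
    let eT := (Algebra.TensorProduct.congr
      (AlgEquiv.refl : Y'.residueField y' ≃ₐ[Γ(Y', V')] Y'.residueField y') eA).toRingEquiv
    exact ⟨fun h => isNoetherianRing_of_ringEquiv _ eT,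
      fun h => isNoetherianRing_of_ringEquiv _ eT.symm⟩
  have hP : PReg Γ(Y', V') (Y'.residueField y') (Γ(Y', V') ⊗[Γ(Y, V)] Γ(X, U)) ↔
      PReg Γ(Y', V') (Y'.residueField y') Γ(X', g' ⁻¹ᵁ U ⊓ f' ⁻¹ᵁ V') :=
    ⟨pReg_congr eA, pReg_congr eA.symm⟩
  unfold ChartOK
  rw [← hN, ← hP]
  exact key

end Groth.Agent.Lib.Helper27.RegFibI
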