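import Mathlib
import Groth.Agent.Lib.Helper27.RegFibI
import Groth.Agent.Lib.Helper3.FlatDescent

/-!
# Regular morphisms are local on the base for the fppf topology (helper27)
-/

set_option autoImplicit false
set_option linter.style.haveILetI false
universe u
open AlgebraicGeometry CategoryTheory Limits TensorProduct

namespace Groth.Agent.Lib.Helper27.RegFibJ

open Groth.Agent.Lib.Helper27.RegFibA Groth.Agent.Lib.Helper27.RegFibF
  Groth.Agent.Lib.Helper27.RegFibG Groth.Agent.Lib.Helper27.RegFibH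
  Groth.Agent.Lib.Helper27.RegFibI

theorem fibOK_bc {X Y X' Y' : Scheme.{u}} {f : X ⟶ Y} {f' : X' ⟶ Y'} {g' : X' ⟶ X}
    {g : Y' ⟶ Y} (hc : IsPullback g' f' f g) [LocallyOfFiniteType g]
    (H : ∀ y, FibOK f y) (y' : Y') : FibOK f' y' := by
  refine fibOK_of_chartOK f' y' (fun x' hx' => ?_)
  obtain ⟨V, hV, hyV, -⟩ := exists_isAffineOpen_mem_and_subset (x := g y') (U := ⊤) trivial
  have hy'1 : y' ∈ g ⁻¹ᵁ V := hyV
  obtain ⟨V', hV', hy', hV'V⟩ := exists_isAffineOpen_mem_and_subset hy'1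
  have hfx : f (g' x') = g y' := by
    have := congr($(hc.w) x')
    simp only [Scheme.Hom.comp_apply] at this
    rw [this, hx']
  have hx1 : g' x' ∈ f ⁻¹ᵁ V := by
    change f (g' x') ∈ V
    rw [hfx]; exact hyV
  obtain ⟨U, hU, hxU, hUV⟩ := exists_isAffineOpen_mem_and_subset hx1
  have hch := chartOK_of_fibOK f (g y') (H (g y')) V hV hyV U hU hUV
  have hch' := (chartOK_bc_iff hc y' V hV hyV V' hV' hy' hV'V U hU hUV).mp hch
  obtain ⟨haff, -⟩ := pbChart hc V hV V' hV' hV'V U hU hUV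
  refine ⟨V', hV', hy', _, haff, inf_le_right, ⟨hxU, ?_⟩, hch'⟩
  change f' x' ∈ V'
  rw [hx']; exact hy'

theorem fibOK_desc {X Y X' Y' : Scheme.{u}} {f : X ⟶ Y} {f' : X' ⟶ Y'} {g' : X' ⟶ X}
    {g : Y' ⟶ Y} (hc : IsPullback g' f' f g) [LocallyOfFiniteType g] [Surjective g]
    (H : ∀ y', FibOK f' y') (y : Y) : FibOK f y := by
  obtain ⟨y', rfl⟩ := g.surjective y
  refine fibOK_of_chartOK f (g y') (fun x hx => ?_)
  obtain ⟨V, hV, hyV, -⟩ := exists_isAffineOpen_mem_and_subset (x := g y') (U := ⊤) trivial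
  have hy'1 : y' ∈ g ⁻¹ᵁ V := hyV
  obtain ⟨V', hV', hy', hV'V⟩ := exists_isAffineOpen_mem_and_subset hy'1
  have hx1 : x ∈ f ⁻¹ᵁ V := by
    change f x ∈ V
    rw [hx]; exact hyV
  obtain ⟨U, hU, hxU, hUV⟩ := exists_isAffineOpen_mem_and_subset hx1
  obtain ⟨haff, -⟩ := pbChart hc V hV V' hV' hV'V U hU hUV
  have hch' := chartOK_of_fibOK f' y' (H y') V' hV' hy' _ haff inf_le_right
  have hch := (chartOK_bc_iff hc y' V hV hyV V' hV' hy' hV'V U hU hUV).mpr hch'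
  exact ⟨V, hV, hyV, U, hU, hUV, hxU, hch⟩

theorem flat_bc {X Y X' Y' : Scheme.{u}} {f : X ⟶ Y} {f' : X' ⟶ Y'} {g' : X' ⟶ X}
    {g : Y' ⟶ Y} (hc : IsPullback g' f' f g) [Flat f] : Flat f' :=
  MorphismProperty.of_isPullback (P := @Flat) hc ‹_›

theorem flat_desc {X Y X' Y' : Scheme.{u}} {f : X ⟶ Y} {f' : X' ⟶ Y'} {g' : X' ⟶ X}
    {g : Y' ⟶ Y} (hc : IsPullback g' f' f g) [Flat g] [Surjective g] [Flat f'] : Flat f := by
  haveI h1 : Flat g' := MorphismProperty.of_isPullback (P := @Flat) hc.flip ‹_›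
  haveI h2 : Surjective g' := MorphismProperty.of_isPullback (P := @Surjective) hc.flip ‹_›
  haveI h3 : Flat (g' ≫ f) := by rw [hc.w]; infer_instance
  exact Groth.Agent.Lib.Helper3.flat_of_flat_comp_of_surjective g' f

/-- Reformulation of the two sides of the statement. -/
theorem side_iff {X Y : Scheme.{u}} (f : X ⟶ Y) :
    ((∀ y : Y, IsLocallyNoetherian (f.fiber y)) ∧
      (∀ (U : X.Opens) (V : Y.Opens) (_ : IsAffineOpen U) (_ : IsAffineOpen V)
        (hUV : U ≤ f ⁻¹ᵁ V),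
        letI := (f.appLE V U hUV).hom.toAlgebra
        CAlg.IsRegularHom Γ(Y, V) Γ(X, U))) ↔ (Flat f ∧ ∀ y, FibOK f y) := by
  constructor
  · rintro ⟨hN, H⟩
    refine ⟨?_, fun y W hW => ⟨(hN y).component_noetherian ⟨W, hW⟩,
      Groth.Agent.Lib.Helper27.RegFibE.isGeometricallyRegular_fibre_of_appLE f hN H y W hW⟩⟩
    rw [HasRingHomProperty.iff_appLE (P := @Flat)]
    intro V U e
    exact (H U.1 V.1 U.2 V.2 e).1
  · rintro ⟨hflat, hfib⟩
    haveI := hflat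
    refine ⟨fun y => ⟨fun W => (hfib y W.1 W.2).1⟩, fun U V hU hV hUV => ?_⟩
    exact Groth.Agent.Lib.Helper27.RegFibC.isRegularHom_appLE_of_fibres f hfib U V hU hV hUV

end Groth.Agent.Lib.Helper27.RegFibJ
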