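import Mathlib
import Groth.Prelude.Def_SGA3x
import Groth.Agent.Lib.Helper27.RegFibJ

/-!
# Essentially free morphisms are flat (helper27, for S5356)
-/

set_option autoImplicit false
set_option linter.style.haveILetI false
universe u
open CategoryTheory CategoryTheory.Limits AlgebraicGeometry

namespace Groth.Agent.Lib.Helper27.EssFreeA

/-- A morphism to an affine scheme whose source is covered by affine opens with projective
coordinate rings is flat. -/
theorem flat_of_charts {Z T : Scheme.{u}} [IsAffine T] (b : Z ⟶ T)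
    (H : ∀ x : Z, ∃ V : Z.Opens, x ∈ V ∧ IsAffineOpen V ∧
      (letI := (V.ι ≫ b).appTop.hom.toAlgebra
       Module.Projective Γ(T, ⊤) Γ(↑V, ⊤))) : Flat b := by
  choose V hxV hV hproj using H
  have hcov : ⨆ x, V x = ⊤ := by
    rw [eq_top_iff]
    intro x _
    exact TopologicalSpace.Opens.mem_iSup.mpr ⟨x, hxV x⟩
  refine IsZariskiLocalAtSource.of_iSup_eq_top (P := @Flat) V hcov (fun x => ?_)
  haveI : IsAffine (V x : Scheme.{u}) := hV x
  rw [HasRingHomProperty.iff_of_isAffine (P := @Flat)]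
  letI := ((V x).ι ≫ b).appTop.hom.toAlgebra
  haveI := hproj x
  change Module.Flat Γ(T, ⊤) Γ(↑(V x), ⊤)
  infer_instance

theorem flat_of_isEssentiallyFree (X S : Scheme.{u}) (f : X ⟶ S)
    (h : SGA3x.IsEssentiallyFree f) : Flat f := by
  choose U hsU hU S' hS' g hgflat hgsurj hV using h
  have hcov : ⨆ s, U s = ⊤ := by
    rw [eq_top_iff]
    intro x _
    exact TopologicalSpace.Opens.mem_iSup.mpr ⟨x, hsU x⟩
  refine IsZariskiLocalAtTarget.of_iSup_eq_top (P := @Flat) U hcov (fun s => ?_)
  haveI := hS' s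
  haveI := hgflat s
  haveI := hgsurj s
  haveI : Flat (pullback.snd f (g s ≫ (U s).ι)) := flat_of_charts _ (hV s)
  have hres : IsPullback (f ⁻¹ᵁ U s).ι (f ∣_ U s) f (U s).ι :=
    (isPullback_morphismRestrict f (U s)).flip
  have hw : pullback.fst f (g s ≫ (U s).ι) ≫ f =
      (pullback.snd f (g s ≫ (U s).ι) ≫ g s) ≫ (U s).ι := by
    rw [pullback.condition, Category.assoc]
  have hbig : IsPullback (hres.lift _ _ hw ≫ (f ⁻¹ᵁ U s).ι)
      (pullback.snd f (g s ≫ (U s).ι)) f (g s ≫ (U s).ι) := by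
    rw [hres.lift_fst]
    exact IsPullback.of_hasPullback _ _
  have hleft := IsPullback.of_right hbig (hres.lift_snd _ _ hw) hres
  exact Groth.Agent.Lib.Helper27.RegFibJ.flat_desc hleft

end Groth.Agent.Lib.Helper27.EssFreeA
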