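import Mathlib

/-!
# Étaleness from étaleness in codimension one, ring level (helper27)

`A → B → C` with `C` formally smooth over `A`.
* `formallyEtale_of_bijective_mapBaseChange`: if `C ⊗_B Ω[B/A] → Ω[C/A]` is bijective then `C`
  is formally étale over `B`.
-/

set_option autoImplicit false
universe u
open TensorProduct KaehlerDifferential

namespace Groth.Agent.Lib.Helper27.EtExtA

section R1

variable (A B T : Type u) [CommRing A] [CommRing B] [CommRing T] [Algebra A B] [Algebra B T]
  [Algebra A T] [IsScalarTower A B T]

theorem formallyEtale_of_bijective_mapBaseChange [Algebra.FormallySmooth A T]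
    (h : Function.Bijective (mapBaseChange A B T)) : Algebra.FormallyEtale B T := by
  refine ⟨?_, ?_⟩
  · -- `Ω[T/B] = 0`
    have hex := KaehlerDifferential.exact_mapBaseChange_map A B T
    have hsurj : Function.Surjective (KaehlerDifferential.map A B T T) :=
      KaehlerDifferential.map_surjective A B T
    refine ⟨fun x y => ?_⟩
    obtain ⟨x', rfl⟩ := hsurj x
    obtain ⟨y', rfl⟩ := hsurj y
    have hx : KaehlerDifferential.map A B T T x' = 0 := (hex x').mpr (h.2 x')
    have hy : KaehlerDifferential.map A B T T y' = 0 := (hex y').mpr (h.2 y')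
    rw [hx, hy]
  · -- `H¹(L_{T/B}) = 0`
    have hex1 := Algebra.H1Cotangent.exact_map_δ A B T
    have hex2 := Algebra.H1Cotangent.exact_δ_mapBaseChange A B T
    refine ⟨fun x y => ?_⟩
    have hδ : ∀ z : Algebra.H1Cotangent B T, Algebra.H1Cotangent.δ A B T z = 0 := fun z =>
      h.1 (by rw [(hex2 _).mpr ⟨z, rfl⟩, map_zero])
    have hz : ∀ z : Algebra.H1Cotangent B T, z = 0 := fun z => by
      obtain ⟨w, hw⟩ := (hex1 z).mp (hδ z)
      rw [← hw, Subsingleton.elim w 0, map_zero]
    rw [hz x, hz y]

end R1

section R2

variable (A B T T' : Type u) [CommRing A] [CommRing B] [CommRing T] [CommRing T']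
  [Algebra A B] [Algebra B T] [Algebra A T] [IsScalarTower A B T]
  [Algebra T T'] [Algebra B T'] [Algebra A T'] [IsScalarTower B T T'] [IsScalarTower A T T']
  [IsScalarTower A B T']

theorem map_map (ω : Ω[B⁄A]) :
    KaehlerDifferential.map A A T T' (KaehlerDifferential.map A A B T ω) =
      KaehlerDifferential.map A A B T' ω := by
  have h : ((KaehlerDifferential.map A A T T').restrictScalars B) ∘ₗ
      (KaehlerDifferential.map A A B T) = KaehlerDifferential.map A A B T' := by
    apply Derivation.liftKaehlerDifferential_unique
    ext b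
    simp [← IsScalarTower.algebraMap_apply B T T']
  exact LinearMap.congr_fun h ω

theorem square :
    (mapBaseChange A T T') ∘ₗ ((mapBaseChange A B T).baseChange T') =
      (mapBaseChange A B T') ∘ₗ
        (AlgebraTensorModule.cancelBaseChange B T T' T' Ω[B⁄A]).toLinearMap := by
  apply TensorProduct.AlgebraTensorModule.ext
  intro t' x
  induction x using TensorProduct.induction_on with
  | zero => simp
  | tmul t ω =>
    simp only [LinearMap.comp_apply, LinearMap.baseChange_tmul, mapBaseChange_tmul,
      LinearEquiv.coe_coe, AlgebraTensorModule.cancelBaseChange_tmul, map_smul, map_map]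
    rw [smul_assoc]
    exact smul_comm t' t ((KaehlerDifferential.map A A B T') ω)
  | add x y hx hy =>
    rw [TensorProduct.tmul_add, map_add, map_add, hx, hy]

theorem baseChange_mapBaseChange_bijective [Algebra.FormallyEtale T T']
    [Algebra.FormallyEtale B T'] :
    Function.Bijective ((mapBaseChange A B T).baseChange T') := by
  have hκ : Function.Bijective (mapBaseChange A T T') :=
    (tensorKaehlerEquivOfFormallyEtale A T T').bijective
  have hφ' : Function.Bijective (mapBaseChange A B T') :=
    (tensorKaehlerEquivOfFormallyEtale A B T').bijective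
  have hc : Function.Bijective (AlgebraTensorModule.cancelBaseChange B T T' T' Ω[B⁄A]) :=
    (AlgebraTensorModule.cancelBaseChange B T T' T' Ω[B⁄A]).bijective
  have hsq := square A B T T'
  have h1 : Function.Bijective ((mapBaseChange A T T') ∘ ((mapBaseChange A B T).baseChange T')) := by
    have : ((mapBaseChange A T T') ∘ ((mapBaseChange A B T).baseChange T')) =
        (mapBaseChange A B T') ∘ (AlgebraTensorModule.cancelBaseChange B T T' T' Ω[B⁄A]) := by
      funext x
      exact LinearMap.congr_fun hsq x
    rw [this]
    exact hφ'.comp hc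
  exact (Function.Bijective.of_comp_iff' hκ _).mp h1

end R2

section R3

variable (A B T : Type u) [CommRing A] [CommRing B] [CommRing T] [Algebra A B] [Algebra B T]
  [Algebra A T] [IsScalarTower A B T] [IsLocalRing T] [IsNoetherianRing T]
  [Algebra.FormallySmooth A T] [Module.Finite T Ω[T⁄A]]
  [Module.Finite B Ω[B⁄A]] [Module.Projective B Ω[B⁄A]]

include A in
/-- A local Noetherian `B`-algebra `T` of dimension at least two, formally smooth over `A` with
`B` having finite projective differentials over `A`, is formally étale over `B` as soon as it is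
so on the punctured spectrum. -/
theorem formallyEtale_of_punctured (hdim : 2 ≤ (IsLocalRing.maximalIdeal T).height)
    (H : ∀ (p : Ideal T) [p.IsPrime], p ≠ IsLocalRing.maximalIdeal T →
      Algebra.FormallyEtale B (Localization.AtPrime p)) :
    Algebra.FormallyEtale B T := by
  apply formallyEtale_of_bijective_mapBaseChange A B T
  haveI : Module.Free T (T ⊗[B] Ω[B⁄A]) := Module.free_of_flat_of_isLocalRing
  haveI : Module.Free T Ω[T⁄A] := Module.free_of_flat_of_isLocalRing
  obtain ⟨φ, hφ⟩ : ∃ φ : T ⊗[B] Ω[B⁄A] →ₗ[T] Ω[T⁄A], φ = mapBaseChange A B T := ⟨_, rfl⟩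
  rw [← hφ]
  have key : ∀ (p : Ideal T) [p.IsPrime], p ≠ IsLocalRing.maximalIdeal T →
      Function.Bijective (φ.baseChange (Localization.AtPrime p)) := by
    intro p _ hp
    haveI := H p hp
    haveI : Algebra.FormallyEtale T (Localization.AtPrime p) :=
      Algebra.FormallyEtale.of_isLocalization p.primeCompl
    rw [hφ]
    exact baseChange_mapBaseChange_bijective A B T (Localization.AtPrime p)
  -- a non-maximal prime exists
  obtain ⟨p₀, hp₀prime, hp₀ne⟩ : ∃ p₀ : Ideal T, p₀.IsPrime ∧
      p₀ ≠ IsLocalRing.maximalIdeal T := by
    obtain ⟨p₀, hp₀, -⟩ := Ideal.exists_minimalPrimes_le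
      (bot_le : (⊥ : Ideal T) ≤ IsLocalRing.maximalIdeal T)
    refine ⟨p₀, hp₀.1.1, fun h => ?_⟩
    have h0 : (IsLocalRing.maximalIdeal T).height = 0 := by
      rw [Ideal.height_eq_zero_iff]; exact h ▸ hp₀
    rw [h0] at hdim
    exact absurd hdim (by norm_num)
  have hrank : Module.finrank T (T ⊗[B] Ω[B⁄A]) = Module.finrank T Ω[T⁄A] := by
    haveI := hp₀prime
    have e := LinearEquiv.ofBijective (φ.baseChange (Localization.AtPrime p₀)) (key p₀ hp₀ne)
    have h1 := e.finrank_eq
    have h2 : Module.finrank (Localization.AtPrime p₀)
        (Localization.AtPrime p₀ ⊗[T] (T ⊗[B] Ω[B⁄A])) = Module.finrank T (T ⊗[B] Ω[B⁄A]) :=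
      Module.finrank_baseChange
    have h3 : Module.finrank (Localization.AtPrime p₀)
        (Localization.AtPrime p₀ ⊗[T] Ω[T⁄A]) = Module.finrank T Ω[T⁄A] :=
      Module.finrank_baseChange
    rw [← h2, ← h3]
    exact h1
  obtain ⟨e⟩ : Nonempty (Ω[T⁄A] ≃ₗ[T] (T ⊗[B] Ω[B⁄A])) :=
    FiniteDimensional.nonempty_linearEquiv_of_finrank_eq hrank.symm
  obtain ⟨ψ, hψdef⟩ : ∃ ψ : (T ⊗[B] Ω[B⁄A]) →ₗ[T] (T ⊗[B] Ω[B⁄A]), ψ = e.toLinearMap ∘ₗ φ :=
    ⟨_, rfl⟩
  have hdet : IsUnit (LinearMap.det ψ) := by
    by_contra hnu
    have hmem : LinearMap.det ψ ∈ IsLocalRing.maximalIdeal T :=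
      (IsLocalRing.mem_maximalIdeal _).mpr hnu
    have hmin : IsLocalRing.maximalIdeal T ∈ (Ideal.span {LinearMap.det ψ}).minimalPrimes := by
      refine ⟨⟨inferInstance, (Ideal.span_singleton_le_iff_mem _).mpr hmem⟩, ?_⟩
      rintro q ⟨hqprime, hqle⟩ hqm
      by_contra hne
      have hqne : q ≠ IsLocalRing.maximalIdeal T := fun h => hne (h ▸ le_refl _)
      have hbij := key q hqne
      have h1 : Function.Bijective (ψ.baseChange (Localization.AtPrime q)) := by
        rw [hψdef, LinearMap.baseChange_comp]
        exact (LinearEquiv.baseChange T (Localization.AtPrime q) _ _ e).bijective.comp hbij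
      have h2 : IsUnit (LinearMap.det (ψ.baseChange (Localization.AtPrime q))) :=
        LinearMap.isUnit_det _ ((Module.End.isUnit_iff _).mpr h1)
      rw [LinearMap.det_baseChange] at h2
      have hdq : LinearMap.det ψ ∈ q := hqle (Ideal.mem_span_singleton_self _)
      exact (IsLocalization.AtPrime.isUnit_to_map_iff (Localization.AtPrime q) q _).mp h2 hdq
    have h3 := Ideal.height_le_one_of_isPrincipal_of_mem_minimalPrimes _ _ hmin
    exact absurd (hdim.trans h3) (by norm_num)
  have hψ : Function.Bijective ψ :=
    (Module.End.isUnit_iff _).mp ((LinearMap.isUnit_iff_isUnit_det ψ).mpr hdet)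
  have h4 : (φ : _ → _) = e.symm ∘ ψ := by
    funext x
    rw [hψdef]
    simp
  rw [h4]
  exact e.symm.bijective.comp hψ

end R3

section R4

variable (A B C : Type u) [CommRing A] [CommRing B] [CommRing C] [Algebra A B] [Algebra B C]
  [Algebra A C] [IsScalarTower A B C] [IsNoetherianRing C]
  [Algebra.FormallySmooth A C] [Module.Finite C Ω[C⁄A]]
  [Module.Finite B Ω[B⁄A]] [Module.Projective B Ω[B⁄A]]

include A in
theorem isEtaleAt_of_height_le_one
    (H : ∀ (q : Ideal C) [q.IsPrime], q.height ≤ 1 →
      Algebra.FormallyEtale B (Localization.AtPrime q)) :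
    ∀ (n : ℕ) (q : Ideal C) [q.IsPrime], q.height = n →
      Algebra.FormallyEtale B (Localization.AtPrime q) := by
  intro n
  induction n using Nat.strong_induction_on with
  | _ n ih =>
    intro q _ hn
    by_cases hle : n ≤ 1
    · exact H q (by rw [hn]; exact_mod_cast hle)
    · push Not at hle
      have hTh : (IsLocalRing.maximalIdeal (Localization.AtPrime q)).height = q.height := by
        rw [← IsLocalization.height_under q.primeCompl,
          IsLocalization.AtPrime.under_maximalIdeal (Localization.AtPrime q) q]
      haveI : Algebra.FormallySmooth C (Localization.AtPrime q) :=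
        Algebra.FormallySmooth.of_isLocalization q.primeCompl
      haveI : Algebra.FormallySmooth A (Localization.AtPrime q) :=
        Algebra.FormallySmooth.comp A C (Localization.AtPrime q)
      haveI : Algebra.FormallyEtale C (Localization.AtPrime q) :=
        Algebra.FormallyEtale.of_isLocalization q.primeCompl
      haveI : Module.Finite (Localization.AtPrime q) Ω[Localization.AtPrime q⁄A] :=
        Module.Finite.equiv (tensorKaehlerEquivOfFormallyEtale A C (Localization.AtPrime q))
      refine formallyEtale_of_punctured A B (Localization.AtPrime q) ?_ ?_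
      · rw [hTh, hn]
        exact_mod_cast hle
      · intro p _ hp
        have hplt : p < IsLocalRing.maximalIdeal (Localization.AtPrime q) :=
          lt_of_le_of_ne (IsLocalRing.le_maximalIdeal (Ideal.IsPrime.ne_top inferInstance)) hp
        have h1 : p.height < (IsLocalRing.maximalIdeal (Localization.AtPrime q)).height :=
          Ideal.height_strict_mono_of_isPrime hplt
        have h2 : (p.under C).height = p.height := IsLocalization.height_under q.primeCompl p
        have h3 : (p.under C).height < n := by
          rw [h2, ← hn, ← hTh]; exact h1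
        obtain ⟨m, hm⟩ := ENat.ne_top_iff_exists.mp (ne_top_of_lt h3)
        have hmn : m < n := by
          rw [← hm] at h3; exact_mod_cast h3
        haveI : (p.under C).IsPrime := Ideal.IsPrime.under C p
        haveI := ih m hmn (p.under C) hm.symm
        haveI : IsLocalization.AtPrime (Localization.AtPrime p) (p.under C) :=
          IsLocalization.isLocalization_atPrime_localization_atPrime q.primeCompl p
        haveI : IsScalarTower B C (Localization.AtPrime p) :=
          IsScalarTower.of_algebraMap_eq (fun b => by
            rw [IsScalarTower.algebraMap_apply B (Localization.AtPrime q) (Localization.AtPrime p),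
              IsScalarTower.algebraMap_apply B C (Localization.AtPrime q),
              ← IsScalarTower.algebraMap_apply C (Localization.AtPrime q) (Localization.AtPrime p)])
        exact Algebra.FormallyEtale.of_equiv
          ((IsLocalization.algEquiv (p.under C).primeCompl (Localization.AtPrime (p.under C))
            (Localization.AtPrime p)).restrictScalars B)

include A in
/-- Global form: `C` Noetherian, formally smooth over `A` with finite differentials, `B` with
finite projective differentials over `A`; if `C` is étale over `B` at all primes of height at most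
one, then `C` is formally étale over `B`. -/
theorem formallyEtale_of_height_le_one
    (H : ∀ (q : Ideal C) [q.IsPrime], q.height ≤ 1 →
      Algebra.FormallyEtale B (Localization.AtPrime q)) :
    Algebra.FormallyEtale B C := by
  rw [← Algebra.etaleLocus_eq_univ_iff]
  ext q
  simp only [Algebra.mem_etaleLocus_iff, Set.mem_univ, iff_true]
  obtain ⟨n, hn⟩ := ENat.ne_top_iff_exists.mp (Ideal.height_ne_top_of_isPrime (I := q.asIdeal))
  exact isEtaleAt_of_height_le_one A B C H n q.asIdeal hn.symm

end R4

end Groth.Agent.Lib.Helper27.EtExtA
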