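import Mathlib
import Groth.Agent.Lib.Helper27.EtExtA

/-!
# Étaleness from étaleness in codimension one, scheme level (helper27)

* `ringKrullDim_le_of_flat_isLocalHom`, `ringKrullDim_stalk_le_of_flat`: dimension does not drop
  along a flat local homomorphism.
* `etale_appLE_of_etale_ι_comp`: sections of a morphism étale on an affine open.
* `etale_of_etale_on_open`: a morphism `f : G ⟶ H` of smooth `S`-schemes (`G` locally Noetherian)
  which is étale on an open `U` whose complement has codimension at least two is étale.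
-/

set_option autoImplicit false
universe u
open CategoryTheory CategoryTheory.Limits AlgebraicGeometry TopologicalSpace

namespace Groth.Agent.Lib.Helper27.EtExtB

theorem ringKrullDim_le_of_flat_isLocalHom (A B : Type*) [CommRing A] [CommRing B]
    [IsLocalRing A] [IsLocalRing B] [IsNoetherianRing A] [IsNoetherianRing B] [Algebra A B]
    [Module.Flat A B]
    [IsLocalHom (algebraMap A B)] : ringKrullDim A ≤ ringKrullDim B := by
  rw [← IsLocalRing.maximalIdeal_height_eq_ringKrullDim,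
    ← IsLocalRing.maximalIdeal_height_eq_ringKrullDim,
    Ideal.height_eq_height_add_of_liesOver_of_hasGoingDown (IsLocalRing.maximalIdeal A)
      (IsLocalRing.maximalIdeal B)]
  exact WithBot.coe_le_coe.mpr le_self_add

theorem ringKrullDim_stalk_le_of_flat {X Y : Scheme.{u}} (f : X ⟶ Y) [Flat f]
    [IsLocallyNoetherian X] [IsLocallyNoetherian Y] (x : X) :
    ringKrullDim (Y.presheaf.stalk (f x)) ≤ ringKrullDim (X.presheaf.stalk x) := by
  have hfl := Flat.stalkMap f x
  algebraize [(f.stalkMap x).hom]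
  haveI : IsLocalHom (algebraMap (Y.presheaf.stalk (f x)) (X.presheaf.stalk x)) :=
    inferInstanceAs (IsLocalHom (f.stalkMap x).hom)
  exact ringKrullDim_le_of_flat_isLocalHom _ _

theorem etale_appLE_of_etale_ι_comp {G H : Scheme.{u}} (f : G ⟶ H) (D : G.Opens)
    (hD : IsAffineOpen D) [Etale (D.ι ≫ f)] {W : H.Opens} (hW : IsAffineOpen W)
    (e : D ≤ f ⁻¹ᵁ W) : (f.appLE W D e).hom.Etale := by
  haveI : IsAffine D.toScheme := hD
  have e' : (⊤ : D.toScheme.Opens) ≤ (D.ι ≫ f) ⁻¹ᵁ W := fun y _ => e y.2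
  have e'' : (⊤ : D.toScheme.Opens) ≤ D.ι ⁻¹ᵁ D := fun y _ => y.2
  have h1 := Etale.etale_appLE (D.ι ≫ f) hW (isAffineOpen_top _) e'
  have h2 : (D.ι ≫ f).appLE W ⊤ e' = f.appLE W D e ≫ D.ι.appLE D ⊤ e'' :=
    (Scheme.Hom.appLE_comp_appLE _ _ _ _ _ _ _).symm
  have h3 : IsIso (D.ι.appLE D ⊤ e'') := by
    have : D.ι.appLE D ⊤ e'' = D.topIso.inv := by
      rw [Scheme.Opens.ι_appLE]
      rfl
    rw [this]
    infer_instance
  rw [h2] at h1
  exact (RingHom.Etale.respectsIso.cancel_right_isIso _ _).mp h1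

/-- Local étaleness at a prime of height at most one, from étaleness on an open `U` whose
complement has codimension at least two. -/
theorem formallyEtale_localization_of_etale_on_open {G H : Scheme.{u}} (f : G ⟶ H) (U : G.Opens)
    [Etale (U.ι ≫ f)]
    (hU : ∀ x : G, x ∉ U → (2 : WithBot ℕ∞) ≤ ringKrullDim (G.presheaf.stalk x))
    {W : H.Opens} (hW : IsAffineOpen W) {V : G.Opens} (hV : IsAffineOpen V)
    (hVW : V ≤ f ⁻¹ᵁ W) (hfp : (f.appLE W V hVW).hom.FinitePresentation)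
    (q : Ideal Γ(G, V)) [q.IsPrime]
    (hq : q.height ≤ 1) :
    letI : Algebra Γ(H, W) Γ(G, V) := (f.appLE W V hVW).hom.toAlgebra
    Algebra.FormallyEtale Γ(H, W) (Localization.AtPrime q) := by
  letI a2 : Algebra Γ(H, W) Γ(G, V) := (f.appLE W V hVW).hom.toAlgebra
  haveI : Algebra.FinitePresentation Γ(H, W) Γ(G, V) := hfp
  let y : PrimeSpectrum Γ(G, V) := ⟨q, inferInstance⟩
  have hx'V : hV.fromSpec y ∈ V := by
    have := Set.mem_range_self (f := hV.fromSpec) y
    rw [hV.range_fromSpec] at this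
    exact this
  have hx'U : hV.fromSpec y ∈ U := by
    by_contra hcon
    have h2 := hU _ hcon
    have hloc := hV.isLocalization_stalk' y hx'V
    have h5 : ringKrullDim (G.presheaf.stalk (hV.fromSpec y)) = y.asIdeal.height :=
      @IsLocalization.AtPrime.ringKrullDim_eq_height Γ(G, V) _ y.asIdeal _
        (G.presheaf.stalk (hV.fromSpec y)) _
        (G.presheaf.algebra_section_stalk ⟨hV.fromSpec y, hx'V⟩) hloc
    rw [h5] at h2
    have h3 : ((2 : ℕ∞) : WithBot ℕ∞) ≤ ((1 : ℕ∞) : WithBot ℕ∞) :=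
      h2.trans (WithBot.coe_le_coe.mpr hq)
    have h4 : (2 : ℕ∞) ≤ 1 := WithBot.coe_le_coe.mp h3
    exact absurd h4 (by decide)
  obtain ⟨c, hcU, hx'c⟩ := hV.exists_basicOpen_le ⟨hV.fromSpec y, hx'U⟩ hx'V
  have hcq : y ∈ PrimeSpectrum.basicOpen c := by
    rw [← hV.fromSpec_preimage_basicOpen c]
    exact hx'c
  have hDV : G.basicOpen c ≤ V := G.basicOpen_le c
  have hD : IsAffineOpen (G.basicOpen c) := hV.basicOpen c
  haveI : Etale ((G.basicOpen c).ι ≫ f) := by
    have : (G.basicOpen c).ι ≫ f = G.homOfLE hcU ≫ (U.ι ≫ f) := by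
      rw [← Category.assoc, Scheme.homOfLE_ι]
    rw [this]
    infer_instance
  have het := etale_appLE_of_etale_ι_comp f (G.basicOpen c) hD hW (hDV.trans hVW)
  letI a4 : Algebra Γ(H, W) Γ(G, G.basicOpen c) :=
    (f.appLE W (G.basicOpen c) (hDV.trans hVW)).hom.toAlgebra
  haveI : IsScalarTower Γ(H, W) Γ(G, V) Γ(G, G.basicOpen c) :=
    IsScalarTower.of_algebraMap_eq' (by
      show (f.appLE W (G.basicOpen c) (hDV.trans hVW)).hom =
        (G.presheaf.map (homOfLE hDV).op).hom.comp (f.appLE W V hVW).hom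
      rw [← CommRingCat.hom_comp, Scheme.Hom.appLE_map])
  haveI : Algebra.Etale Γ(H, W) Γ(G, G.basicOpen c) := RingHom.etale_algebraMap.mp het
  haveI : IsLocalization.Away c Γ(G, G.basicOpen c) := hV.isLocalization_basicOpen c
  haveI : Algebra.Etale Γ(H, W) (Localization.Away c) :=
    Algebra.Etale.of_equiv
      ((IsLocalization.algEquiv (Submonoid.powers c) Γ(G, G.basicOpen c)
        (Localization.Away c)).restrictScalars Γ(H, W))
  exact Algebra.basicOpen_subset_etaleLocus_iff_etale.mpr this hcq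

theorem etale_appLE_of_etale_on_open {S G H : Scheme.{u}} (pG : G ⟶ S) (pH : H ⟶ S)
    [Smooth pG] [Smooth pH] [IsLocallyNoetherian G] (f : G ⟶ H) (hf : f ≫ pH = pG)
    (U : G.Opens) [Etale (U.ι ≫ f)]
    (hU : ∀ x : G, x ∉ U → (2 : WithBot ℕ∞) ≤ ringKrullDim (G.presheaf.stalk x))
    {O : S.Opens} (hO : IsAffineOpen O) {W : H.Opens} (hW : IsAffineOpen W) {V : G.Opens}
    (hV : IsAffineOpen V) (hWO : W ≤ pH ⁻¹ᵁ O) (hVW : V ≤ f ⁻¹ᵁ W) :
    (f.appLE W V hVW).hom.Etale := by
  subst hf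
  have hVO : V ≤ (f ≫ pH) ⁻¹ᵁ O := fun y hy => hWO (hVW hy)
  have hcomp : pH.appLE O W hWO ≫ f.appLE W V hVW = (f ≫ pH).appLE O V hVO :=
    Scheme.Hom.appLE_comp_appLE _ _ _ _ _ _ _
  have hsmG := Smooth.smooth_appLE (f ≫ pH) hO hV hVO
  have hsmH := Smooth.smooth_appLE pH hO hW hWO
  have hfp : (f.appLE W V hVW).hom.FinitePresentation := by
    have h1 : ((f ≫ pH).appLE O V hVO).hom.FinitePresentation :=
      (f ≫ pH).finitePresentation_appLE hO hV hVO
    have h2 : (pH.appLE O W hWO).hom.FiniteType := pH.finiteType_appLE hO hW hWO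
    rw [← hcomp, CommRingCat.hom_comp] at h1
    exact RingHom.FinitePresentation.of_comp_finiteType (pH.appLE O W hWO).hom h1 h2
  letI a1 : Algebra Γ(S, O) Γ(H, W) := (pH.appLE O W hWO).hom.toAlgebra
  letI a2 : Algebra Γ(H, W) Γ(G, V) := (f.appLE W V hVW).hom.toAlgebra
  letI a3 : Algebra Γ(S, O) Γ(G, V) := ((f ≫ pH).appLE O V hVO).hom.toAlgebra
  haveI : IsScalarTower Γ(S, O) Γ(H, W) Γ(G, V) := IsScalarTower.of_algebraMap_eq' (by
    show ((f ≫ pH).appLE O V hVO).hom = (f.appLE W V hVW).hom.comp (pH.appLE O W hWO).hom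
    rw [← hcomp]; rfl)
  haveI : Algebra.Smooth Γ(S, O) Γ(G, V) := hsmG
  haveI : Algebra.Smooth Γ(S, O) Γ(H, W) := hsmH
  haveI : IsNoetherianRing Γ(G, V) := IsLocallyNoetherian.component_noetherian ⟨V, hV⟩
  haveI : Algebra.FinitePresentation Γ(H, W) Γ(G, V) := hfp
  haveI : Algebra.FormallyEtale Γ(H, W) Γ(G, V) := by
    refine EtExtA.formallyEtale_of_height_le_one Γ(S, O) Γ(H, W) Γ(G, V) ?_
    intro q _ hq
    exact formallyEtale_localization_of_etale_on_open f U hU hW hV hVW hfp q hq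
  exact RingHom.etale_algebraMap.mpr ⟨inferInstance, inferInstance⟩

/-- A morphism `f : G ⟶ H` of smooth `S`-schemes, `G` locally Noetherian, which is étale over an
open `U ⊆ G` all of whose complementary points have local rings of dimension at least two, is
étale. -/
theorem etale_of_etale_on_open {S G H : Scheme.{u}} (pG : G ⟶ S) (pH : H ⟶ S)
    [Smooth pG] [Smooth pH] [IsLocallyNoetherian G] (f : G ⟶ H) (hf : f ≫ pH = pG)
    (U : G.Opens) [Etale (U.ι ≫ f)]
    (hU : ∀ x : G, x ∉ U → (2 : WithBot ℕ∞) ≤ ringKrullDim (G.presheaf.stalk x)) :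
    Etale f := by
  have hl : RingHom.HoldsForLocalizationAway RingHom.Etale :=
    RingHom.Etale.propertyIsLocal.HoldsForLocalizationAway RingHom.Etale.containsIdentities
  have hst :=
    (RingHom.Etale.stableUnderComposition.stableUnderCompositionWithLocalizationAway hl).left
  rw [HasRingHomProperty.iff_exists_appLE (P := @Etale) hst]
  intro x
  obtain ⟨O, hO, hxO, -⟩ :=
    Opens.isBasis_iff_nbhd.mp S.isBasis_affineOpens (Opens.mem_top (pH (f x)))
  obtain ⟨W, hW, hxW, hWO⟩ :=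
    Opens.isBasis_iff_nbhd.mp H.isBasis_affineOpens (show f x ∈ pH ⁻¹ᵁ O from hxO)
  obtain ⟨V, hV, hxV, hVW⟩ :=
    Opens.isBasis_iff_nbhd.mp G.isBasis_affineOpens (show x ∈ f ⁻¹ᵁ W from hxW)
  exact ⟨⟨W, hW⟩, ⟨V, hV⟩, hxV, hVW,
    etale_appLE_of_etale_on_open pG pH f hf U hU hO hW hV hWO hVW⟩

end Groth.Agent.Lib.Helper27.EtExtB
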