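import Groth.Prelude.Def_W4c5stcicurvesp3Euclid
import Mathlib

/-!
Helper lemmas on the iterated Euclidean remainders `irem` and quotients `idiv`
(shift by one Euclidean step).
-/

namespace Groth.Agent.Lib.Helper27

open W4c5stcicurvesp3

theorem irem_zero (a b : ℕ) : irem a b 0 = b := by rw [irem]

theorem irem_one (a b : ℕ) : irem a b 1 = a % b := by rw [irem]

theorem irem_add_two (a b n : ℕ) :
    irem a b (n + 2) = if irem a b (n + 1) = 0 then 0 else irem a b n % irem a b (n + 1) := by
  rw [irem]

theorem idiv_one (a b : ℕ) : idiv a b 1 = a / b := by rw [idiv]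

theorem idiv_add_two (a b n : ℕ) :
    idiv a b (n + 2) = if irem a b (n + 1) = 0 then 0 else irem a b n / irem a b (n + 1) := by
  rw [idiv]

/-- One Euclidean step: the remainders of `(a, b)` from index `1` on are those of `(b, a % b)`. -/
theorem irem_shift (a b : ℕ) (h : a % b ≠ 0) (n : ℕ) : irem a b (n + 1) = irem b (a % b) n := by
  induction n using Nat.twoStepInduction with
  | zero => rw [irem_one, irem_zero]
  | one =>
    rw [irem_add_two, irem_one, irem_zero, irem_one, if_neg h]
  | more n ih1 ih2 =>
    rw [irem_add_two a b (n + 1), ih2, ih1, irem_add_two b (a % b) n]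

/-- One Euclidean step for the quotients. -/
theorem idiv_shift (a b : ℕ) (h : a % b ≠ 0) (n : ℕ) :
    idiv a b (n + 2) = idiv b (a % b) (n + 1) := by
  rcases n with _ | n
  · rw [idiv_add_two, irem_one, irem_zero, if_neg h, idiv_one]
  · rw [idiv_add_two a b (n + 1), irem_shift a b h (n + 1), irem_shift a b h n,
      idiv_add_two b (a % b) n]

end Groth.Agent.Lib.Helper27
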