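import Mathlib
import Groth.Agent.Lib.Helper27.PurB
import Groth.Agent.Lib.Helper11.Birat6
import Groth.Agent.Lib.Helper12.SchemeDimFT3

/-!
# The exceptional locus of a birational morphism onto a locally factorial variety has pure
codimension one
-/

set_option autoImplicit false
set_option linter.style.haveILetI false
universe u
open AlgebraicGeometry CategoryTheory CategoryTheory.Limits TopologicalSpace

namespace Groth.Agent.Lib.Helper27.ExcDim

open Groth.Agent.Lib.Helper12

attribute [local instance] Curv2.resAlgebra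

section Dim

/-- On an irreducible scheme locally of finite type over a field, the closure of a point of
codimension one has dimension one less than the scheme. -/
theorem dim_closure_add_one (k : Type u) [Field k] (X : Scheme.{u})
    [X.Over (Spec (CommRingCat.of k))] [LocallyOfFiniteType (X ↘ Spec (CommRingCat.of k))]
    [IrreducibleSpace X] (ζ : X)
    (h1 : ringKrullDim (X.presheaf.stalk ζ) = 1) :
    topologicalKrullDim (closure ({ζ} : Set X)) + 1 = topologicalKrullDim X := by
  obtain ⟨n, hn⟩ := SchemeDimFT.exists_trdeg_eq k X (genericPoint X)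
  have hX := SchemeDimFT.topologicalKrullDim_eq_of_irreducible k X n hn
  have hl := SchemeDimFT.localDim_eq_of_irreducible k X n hn ζ
  have h1' : ringKrullDim (X.presheaf.stalk ζ) = ((1 : ℕ) : WithBot ℕ∞) := by
    rw [h1]; rfl
  have hl' := SchemeDimFT.localDim_eq k X ζ (SchemeDimFT.tr k X ζ) 1 (SchemeDimFT.tr_spec k X ζ) h1'
  rw [hl] at hl'
  have hn' : n = SchemeDimFT.tr k X ζ + 1 := by exact_mod_cast hl'
  rw [hX, SchemeDimFT.topologicalKrullDim_closure_singleton k X ζ, hn']
  push_cast
  rfl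

end Dim

theorem topologicalKrullDim_image_val {W : Type*} [TopologicalSpace W] (X : Set W) (Z : Set ↥X) :
    topologicalKrullDim ↥Z = topologicalKrullDim ↥((Subtype.val : ↥X → W) '' Z) :=
  IsHomeomorph.topologicalKrullDim_eq _
    (Topology.IsEmbedding.subtypeVal.homeomorphImage Z).isHomeomorph

/-- The exceptional locus of a separated birational morphism of finite type from an integral
`k`-scheme locally of finite type to a locally factorial integral scheme has pure codimension
one. -/
theorem exc_dim (k : Type u) [Field k] (X Y : Scheme.{u}) [X.Over (Spec (CommRingCat.of k))]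
    [LocallyOfFiniteType (X ↘ Spec (CommRingCat.of k))] [IsIntegral X] [IsIntegral Y]
    (f : X ⟶ Y) [IsSeparated f] [LocallyOfFiniteType f]
    (hY : ∀ y : Y, UniqueFactorizationMonoid (Y.presheaf.stalk y))
    (hbir : ∃ V : Y.Opens, (V : Set Y).Nonempty ∧ IsIso (f ∣_ V)) :
    ∀ Z ∈ irreducibleComponents ↥{x : X | ∀ V : Y.Opens, f x ∈ V → ¬ IsIso (f ∣_ V)},
      topologicalKrullDim ↥Z + 1 = topologicalKrullDim X := by
  classical
  haveI : IsLocallyNoetherian X :=
    LocallyOfFiniteType.isLocallyNoetherian (X ↘ Spec (CommRingCat.of k))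
  set E : Set X := {x : X | ∀ V : Y.Opens, f x ∈ V → ¬ IsIso (f ∣_ V)} with hE
  -- description of `E`
  have hE_iff : ∀ x : X, x ∈ E ↔ ¬ ∃ W : X.Opens, x ∈ W ∧ IsOpenImmersion (W.ι ≫ f) := by
    intro x
    constructor
    · intro hx hW
      obtain ⟨V₀, hV₀iso, hV₀⟩ := Groth.Agent.Lib.Helper11.Birat6.exists_maximal_iso_open f
      exact hx V₀ (hV₀ x hW) hV₀iso
    · intro hx V hxV hiso
      apply hx
      refine ⟨f ⁻¹ᵁ V, hxV, ?_⟩
      rw [← morphismRestrict_ι]
      infer_instance
  -- `E` is closed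
  have hEcl : IsClosed E := by
    rw [← isOpen_compl_iff]
    have : Eᶜ = ⋃ (V : Y.Opens) (_ : IsIso (f ∣_ V)), ((f ⁻¹ᵁ V : X.Opens) : Set X) := by
      ext x
      simp only [hE, Set.mem_compl_iff, Set.mem_ofPred_eq, not_forall, not_not, Set.mem_iUnion,
        exists_prop]
      constructor
      · rintro ⟨V, hxV, hiso⟩
        exact ⟨V, hiso, hxV⟩
      · rintro ⟨V, hiso, hxV⟩
        exact ⟨V, hxV, hiso⟩
    rw [this]
    exact isOpen_iUnion fun V => isOpen_iUnion fun _ => (f ⁻¹ᵁ V).2
  intro Z hZ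
  -- the generic point of `Z`
  haveI : QuasiSober ↥E := hEcl.isClosedEmbedding_subtypeVal.quasiSober
  have hZirr : IsIrreducible Z := hZ.1
  have hZcl : IsClosed Z := isClosed_of_mem_irreducibleComponents Z hZ
  obtain ⟨ζ', hζ'⟩ := QuasiSober.sober hZirr hZcl
  have hζ'Z : closure ({ζ'} : Set ↥E) = Z := hζ'.def
  set ζ : X := ζ'.1 with hζdef
  have hζE : ζ ∈ E := ζ'.2
  -- maximality
  have hmax : ∀ η : X, (¬ ∃ W : X.Opens, η ∈ W ∧ IsOpenImmersion (W.ι ≫ f)) → η ⤳ ζ → η = ζ := by
    intro η hη hηζ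
    have hηE : η ∈ E := (hE_iff η).mpr hη
    let η' : ↥E := ⟨η, hηE⟩
    have hsp : η' ⤳ ζ' := by
      exact Topology.IsInducing.subtypeVal.specializes_iff.mp hηζ
    have hcl : closure ({ζ'} : Set ↥E) ∈ irreducibleComponents ↥E := by rw [hζ'Z]; exact hZ
    have := Groth.Agent.Lib.Helper11.Birat.eq_of_specializes_of_mem_irreducibleComponents hcl hsp
    exact congrArg Subtype.val this
  -- purity
  have hV : ∃ W : X.Opens, (W : Set X).Nonempty ∧ IsOpenImmersion (W.ι ≫ f) := by
    obtain ⟨V, ⟨v, hv⟩, hiso⟩ := hbir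
    refine ⟨f ⁻¹ᵁ V, ?_, ?_⟩
    · obtain ⟨w, hw⟩ := (f ∣_ V).surjective ⟨v, hv⟩
      exact ⟨w.1, w.2⟩
    · rw [← morphismRestrict_ι]
      infer_instance
  have hdim1 : ringKrullDim (X.presheaf.stalk ζ) = 1 :=
    PurB.purity f hY hV ζ ((hE_iff ζ).mp hζE) hmax
  -- dimension
  rw [topologicalKrullDim_image_val E Z]
  have himg : (Subtype.val : ↥E → X) '' Z = closure ({ζ} : Set X) := by
    rw [← hζ'Z, ← hEcl.isClosedEmbedding_subtypeVal.closure_image_eq, Set.image_singleton]
  rw [himg]
  exact dim_closure_add_one k X ζ hdim1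

end Groth.Agent.Lib.Helper27.ExcDim
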