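import Groth.Agent.Lib.Helper27.NagAU4
import Groth.Agent.Lib.Helper14.NormalHomComp

/-!
# `Â ⊗ C` for a local finite algebra `C`; normal local rings are domains

* `isLocalRing_tensor_of_isLocalRing`: for a finite local algebra `C` over a Noetherian local ring
  `A`, the ring `Â ⊗[A] C` is local.
* `isDomain_of_isNormalRing_of_isLocalRing`.
* `isNormalRing_tensor_of_hasGeomNormalFormalFibres`: `Â ⊗[A] C` is normal for `C` a finite normal
  domain over `A` with geometrically normal formal fibres.
-/

set_option autoImplicit false
set_option linter.style.haveILetI false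
set_option linter.unusedSectionVars false
universe u
open TensorProduct

namespace Groth.Agent.Lib.Helper27.NagAU

section jac3
variable (A : Type u) [CommRing A] [IsNoetherianRing A] [IsLocalRing A] (C : Type u) [CommRing C]
  [Algebra A C] [Module.Finite A C]

open IsLocalRing Groth.Agent.Lib.Helper15

attribute [local instance] Algebra.TensorProduct.rightAlgebra

theorem isLocalRing_tensor_of_isLocalRing [IsLocalRing C] :
    IsLocalRing (AdicCompletion (maximalIdeal A) A ⊗[A] C) := by
  set B := AdicCompletion (maximalIdeal A) A ⊗[A] C with hB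
  haveI : Module.FaithfullyFlat A (AdicCompletion (maximalIdeal A) A) :=
    Module.FaithfullyFlat.of_flat_of_isLocalHom
  haveI : Nontrivial B := Module.FaithfullyFlat.lTensor_nontrivial A _ C
  have hjac : (⊥ : Ideal C).jacobson = maximalIdeal C :=
    IsLocalRing.jacobson_eq_maximalIdeal ⊥ bot_ne_top
  set J : Ideal B := (maximalIdeal C).map (algebraMap C B) with hJ
  -- every maximal ideal equals `J`
  have key : ∀ M : Ideal B, M.IsMaximal → M = J := by
    intro M hM
    have h1 : (maximalIdeal (AdicCompletion (maximalIdeal A) A)).map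
        (algebraMap (AdicCompletion (maximalIdeal A) A) B) ≤ M := by
      refine (map_maximalIdeal_le_jacobson (AdicCompletion (maximalIdeal A) A) B).trans ?_
      rw [Ideal.jacobson]
      exact sInf_le ⟨bot_le, hM⟩
    have h2 : (maximalIdeal A).map (algebraMap A B) ≤ M := by
      refine le_trans ?_ h1
      rw [IsScalarTower.algebraMap_eq A (AdicCompletion (maximalIdeal A) A) B, ← Ideal.map_map]
      refine Ideal.map_mono ?_
      rw [Ideal.map_le_iff_le_comap]
      intro a ha
      exact ((isUnit_map_iff (algebraMap A (AdicCompletion (maximalIdeal A) A)) a).not.mpr ha)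
    have h3 : J ≤ M := by
      obtain ⟨N, hN0, hN⟩ := exists_jacobson_pow_le A C
      rw [hjac] at hN
      have h4 : J ^ N ≤ M := by
        rw [hJ, ← Ideal.map_pow]
        refine le_trans (Ideal.map_mono hN) ?_
        rw [Ideal.map_map, ← IsScalarTower.algebraMap_eq]
        exact h2
      exact hM.isPrime.le_of_pow_le h4
    refine le_antisymm ?_ h3
    intro y hy
    obtain ⟨c, hc⟩ := exists_sub_mem_map_jacobson A C y
    rw [hjac] at hc
    have h5 : algebraMap C B c ∈ M := by
      have : algebraMap C B c = (algebraMap C B c - y) + y := by ring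
      rw [this]
      exact M.add_mem (h3 hc) hy
    have h6 : c ∈ maximalIdeal C := by
      by_contra hcu
      have hu : IsUnit c := by
        by_contra hnu
        exact hcu ((IsLocalRing.mem_maximalIdeal c).mpr hnu)
      exact hM.ne_top (Ideal.eq_top_of_isUnit_mem _ h5 (hu.map (algebraMap C B)))
    have h7 : y = algebraMap C B c - (algebraMap C B c - y) := by ring
    rw [h7]
    exact J.sub_mem (Ideal.mem_map_of_mem _ h6) hc
  obtain ⟨M, hM⟩ := Ideal.exists_maximal B
  refine IsLocalRing.of_unique_max_ideal ⟨M, hM, fun M' hM' => ?_⟩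
  rw [key M hM, key M' hM']

end jac3

/-- A normal local ring is a domain. -/
theorem isDomain_of_isNormalRing_of_isLocalRing (B : Type u) [CommRing B] [IsLocalRing B]
    (h : EGA4.IsNormalRing B) : IsDomain B := by
  haveI := (h (IsLocalRing.maximalIdeal B)).1
  let e : B ≃ₐ[B] Localization.AtPrime (IsLocalRing.maximalIdeal B) :=
    IsLocalization.atUnits B (IsLocalRing.maximalIdeal B).primeCompl (fun x hx => by
      by_contra hnu
      exact hx ((IsLocalRing.mem_maximalIdeal x).mpr hnu))
  have hbij : Function.Injective e := e.injective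
  exact hbij.isDomain e.toRingEquiv.toRingHom

/-- A domain isomorphic to a finite product of local rings is local. -/
theorem isLocalRing_of_isDomain_of_pi {S : Type u} [CommRing S] [IsDomain S] {ι : Type u}
    [Fintype ι] (B : ι → Type u) [∀ i, CommRing (B i)] (hB : ∀ i, IsLocalRing (B i))
    (e : S ≃+* (∀ i, B i)) : IsLocalRing S := by
  classical
  haveI : IsDomain (∀ i, B i) := e.symm.toMulEquiv.isDomain _
  have hne : Nonempty ι := by
    by_contra hemp
    rw [not_nonempty_iff] at hemp
    exact zero_ne_one (α := ∀ i, B i) (Subsingleton.elim _ _)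
  obtain ⟨i₀⟩ := hne
  have huniq : ∀ j, j = i₀ := by
    intro j
    by_contra hne
    have h0 : (Pi.single i₀ 1 : ∀ i, B i) * Pi.single j 1 = 0 := by
      ext k
      by_cases hk : k = i₀
      · subst hk
        simp [Pi.single_eq_of_ne (Ne.symm hne)]
      · simp [Pi.single_eq_of_ne hk]
    rcases mul_eq_zero.mp h0 with h | h
    · have := congrFun h i₀
      simp at this
    · have := congrFun h j
      simp at this
  let f : (∀ i, B i) →+* B i₀ := Pi.evalRingHom B i₀
  have hf : Function.Bijective f := by
    refine ⟨fun x y hxy => funext (fun j => ?_), fun b => ⟨Pi.single i₀ b, by simp [f]⟩⟩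
    rw [huniq j]
    exact hxy
  haveI := hB i₀
  exact (e.trans (RingEquiv.ofBijective f hf)).symm.isLocalRing

/-- An integrally closed domain is a normal ring. -/
theorem isNormalRing_of_isIntegrallyClosed (R : Type u) [CommRing R] [IsDomain R]
    [IsIntegrallyClosed R] : EGA4.IsNormalRing R := by
  intro p hp
  exact ⟨IsLocalization.isDomain_of_le_nonZeroDivisors (M := p.primeCompl) _
      p.primeCompl_le_nonZeroDivisors,
    isIntegrallyClosed_of_isLocalization (Localization.AtPrime p) p.primeCompl
      p.primeCompl_le_nonZeroDivisors⟩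

end Groth.Agent.Lib.Helper27.NagAU
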