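import Mathlib
import Groth.Agent.Lib.Helper27.FFExt4
import Groth.Agent.Lib.Helper27.TateW

/-! Towers of extensions: places below for weak function fields, transitivity of the conorm. -/

set_option autoImplicit false

namespace Groth.Agent.Lib.Helper27.FF

open FunFld

universe u v w

section Below

variable {k : Type u} {K : Type v} {K' : Type w} [Field k] [Field K] [Field K'] [Algebra k K]
  [Algebra K K'] [Algebra k K'] [IsScalarTower k K K']

/-- every place of `K'` lies over a place of `K` (weak function field version). -/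
theorem exists_isOverWith_w (hK : Tate.WeakFF k K) [Algebra.IsAlgebraic K K'] (Q : Place k K') :
    ∃ (P : Place k K) (e : ℕ), IsOverWith Q P e := by
  set w : Valuation K (WithZero (Multiplicative ℤ)) := Q.1.comap (algebraMap K K') with hw
  obtain ⟨x, hx0, hx1⟩ := exists_val_lt_one_of_algebraic (K := K) Q
  have hwx : w x < 1 := hx1
  set B : ValuationSubring K := w.valuationSubring with hB
  have hk : ∀ c : k, algebraMap k K c ∈ B := by
    intro c
    rw [hB, Valuation.mem_valuationSubring_iff]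
    show Q.1 (algebraMap K K' (algebraMap k K c)) ≤ 1
    rw [← IsScalarTower.algebraMap_apply]
    exact Q.2.1 c
  have hequiv : w.IsEquiv B.valuation := Valuation.isEquiv_valuation_valuationSubring w
  have hBx : B.valuation x < 1 := (Valuation.isEquiv_iff_val_lt_one.mp hequiv).mp hwx
  obtain ⟨P, hP⟩ := hK.exists_place B hk hx0 hBx
  have hP' : ∀ y : K, P.1 y ≤ 1 ↔ w y ≤ 1 := by
    intro y
    rw [hP y, hB, Valuation.mem_valuationSubring_iff]
  have hunit : ∀ u : K, P.1 u = 1 → w u = 1 := by
    intro u hu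
    have hu0 : u ≠ 0 := by
      rintro rfl
      rw [map_zero] at hu
      exact zero_ne_one hu
    have h1 : w u ≤ 1 := (hP' u).mp hu.le
    have h2 : w u⁻¹ ≤ 1 := (hP' u⁻¹).mp (by rw [map_inv₀, hu, inv_one])
    rw [map_inv₀] at h2
    have hpos : 0 < w u := by
      rw [zero_lt_iff, Valuation.ne_zero_iff]; exact hu0
    exact le_antisymm h1 ((inv_le_one₀ hpos).mp h2)
  obtain ⟨t, ht0, ht⟩ := exists_unif P
  have hwt0 : w t ≠ 0 := (Valuation.ne_zero_iff _).mpr ht0
  obtain ⟨m, hm⟩ : ∃ m : ℤ, w t = WithZero.exp m :=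
    ⟨WithZero.log (w t), (WithZero.exp_log hwt0).symm⟩
  have hwt1 : w t < 1 := by
    by_contra hge
    rw [not_lt] at hge
    have h1 : w t⁻¹ ≤ 1 := by
      rw [map_inv₀]
      exact inv_le_one_of_one_le₀ hge
    have h2 := (hP' t⁻¹).mpr h1
    rw [map_inv₀, ht, ← WithZero.exp_neg, ← WithZero.exp_zero, WithZero.exp_le_exp] at h2
    omega
  have hmneg : m < 0 := by
    rw [hm, ← WithZero.exp_zero, WithZero.exp_lt_exp] at hwt1
    exact hwt1
  obtain ⟨e, he⟩ : ∃ e : ℕ, (e : ℤ) = -m := ⟨(-m).toNat, Int.toNat_of_nonneg (by omega)⟩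
  have he1 : 1 ≤ e := by omega
  refine ⟨P, e, fun y => ?_⟩
  show w y = P.1 y ^ e
  by_cases hy : y = 0
  · subst hy
    rw [map_zero, map_zero, zero_pow (by omega)]
  set n : ℤ := P.ord y with hn
  have hPy : P.1 y = WithZero.exp (-n) := Groth.Agent.Lib.Helper23.FF.val_eq_exp_neg_ord P hy
  have hu : P.1 (y * t ^ (-n)) = 1 := by
    rw [map_mul, map_zpow₀, hPy, ht, ← WithZero.exp_zsmul, ← WithZero.exp_add]
    rw [← WithZero.exp_zero]
    congr 1
    simp
  have hwu := hunit _ hu
  rw [map_mul, map_zpow₀, hm, ← WithZero.exp_zsmul] at hwu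
  have hwy : w y = WithZero.exp (-(-n • m)) := by
    have hne : (WithZero.exp (-n • m) : WithZero (Multiplicative ℤ)) ≠ 0 := WithZero.exp_ne_zero
    rw [WithZero.exp_neg]
    exact eq_inv_of_mul_eq_one_left hwu
  rw [hwy, hPy, ← WithZero.exp_nsmul]
  congr 1
  simp only [smul_eq_mul, nsmul_eq_mul]
  rw [he]
  ring

open scoped Classical in
theorem conormP_apply' {P : Place k K} (hfin : {Q : Place k K' | IsOver Q P}.Finite)
    (Q : Place k K') : conormP K' P Q = if IsOver Q P then (ramIdx Q P : ℤ) else 0 := by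
  unfold conormP
  rw [dif_pos hfin, Finsupp.finsetSum_apply]
  split_ifs with hQ
  · rw [Finset.sum_eq_single Q]
    · simp
    · intro Q₁ _ hne
      rw [Finsupp.smul_apply, Finsupp.single_eq_of_ne (Ne.symm hne), smul_zero]
    · intro hnot
      exact absurd (hfin.mem_toFinset.mpr hQ) hnot
  · apply Finset.sum_eq_zero
    intro Q₁ hQ₁
    have hQ₁' : IsOver Q₁ P := hfin.mem_toFinset.mp hQ₁
    have hne : Q ≠ Q₁ := by
      rintro rfl
      exact hQ hQ₁'
    rw [Finsupp.smul_apply, Finsupp.single_eq_of_ne hne, smul_zero]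

theorem conorm_apply' (hfin : ∀ P : Place k K, {Q : Place k K' | IsOver Q P}.Finite)
    (D : Divisor k K) {Q : Place k K'} {P : Place k K} (hQP : IsOver Q P) :
    conorm K' D Q = D P * ramIdx Q P := by
  classical
  rw [conorm_eq, Finsupp.sum, Finsupp.finsetSum_apply]
  rw [Finset.sum_eq_single P]
  · rw [Finsupp.smul_apply, conormP_apply' (hfin P), if_pos hQP, smul_eq_mul]
  · intro P' _ hne
    rw [Finsupp.smul_apply, conormP_apply' (hfin P'), if_neg, smul_zero]
    rintro ⟨e', he'⟩
    obtain ⟨e, he⟩ := hQP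
    exact hne (isOverWith_unique he' he).1
  · intro hnot
    rw [Finsupp.notMem_support_iff.mp hnot, zero_smul]
    rfl

end Below

section Tower

variable {k : Type u} {K K' K'' : Type*} [Field k] [Field K] [Field K'] [Field K'']
  [Algebra k K] [Algebra k K'] [Algebra k K''] [Algebra K K'] [Algebra K' K''] [Algebra K K'']
  [IsScalarTower K K' K'']

theorem isOverWith_trans {R : Place k K''} {Q : Place k K'} {P : Place k K} {e₁ e₂ : ℕ}
    (h₂ : IsOverWith R Q e₂) (h₁ : IsOverWith Q P e₁) : IsOverWith R P (e₁ * e₂) := by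
  intro x
  rw [IsScalarTower.algebraMap_apply K K' K'', h₂, h₁, pow_mul]

end Tower

end Groth.Agent.Lib.Helper27.FF
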