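import Groth.Agent.Lib.Helper27.FibConnK

/-!
# Connectedness of subsets containing the generic fibre, over a geometrically unibranch base
-/

set_option autoImplicit false
set_option linter.style.haveILetI false
set_option linter.unusedSectionVars false

universe u

namespace Groth.Agent.Lib.Helper27.FibConn

open TensorProduct IsLocalRing Groth.Agent.Lib.Helper9.GeomLib
open CategoryTheory CategoryTheory.Limits AlgebraicGeometry

variable (A B : Type u) [CommRing A] [IsLocalRing A]
    [IsNoetherianRing A] [CommRing B] [IsLocalRing B] [IsNoetherianRing B] [Algebra A B]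
    [IsLocalHom (algebraMap A B)] [Module.Flat A B]

set_option maxHeartbeats 800000 in
/-- Every subset of `Spec B` containing the generic fibre and stable under nothing in particular
is connected: each of its points has a generization in the (connected) generic fibre. -/
theorem isConnected_of_generic_fibre_subset
    [GeometricallyReduced (Spec.map (CommRingCat.ofHom (algebraMap A B)))]
    (hA : CAlg2.IsGeomUnibranch A)
    (W : Set (PrimeSpectrum B))
    (hW : ∀ q : PrimeSpectrum B, q.asIdeal.comap (algebraMap A B) ≤ nilradical A → q ∈ W) :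
    _root_.IsConnected W := by
  haveI hdom : IsDomain (A ⧸ nilradical A) := hA.1.1
  haveI hp : (nilradical A).IsPrime := (Ideal.Quotient.isDomain_iff_prime _).mp hdom
  let p₀ : PrimeSpectrum A := ⟨nilradical A, hp⟩
  have hgr := isReduced_field_tensor_of_geometricallyReduced' A B
  have h1 := trivIdem_generic_fibre A B hgr hA
  let ψ0 : FractionRing (A ⧸ nilradical A) ≃ₐ[A ⧸ nilradical A] (nilradical A).ResidueField :=
    FractionRing.algEquiv _ _
  let ψ : FractionRing (A ⧸ nilradical A) ≃ₐ[A] (nilradical A).ResidueField :=
    ψ0.restrictScalars A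
  let e : FractionRing (A ⧸ nilradical A) ⊗[A] B ≃ₐ[A] (nilradical A).ResidueField ⊗[A] B :=
    Algebra.TensorProduct.congr ψ AlgEquiv.refl
  have h2 : TrivIdem ((nilradical A).ResidueField ⊗[A] B) :=
    TrivIdem.of_injective e.symm.toRingEquiv.toRingHom e.symm.injective h1
  haveI hff : Module.FaithfullyFlat A B := Module.FaithfullyFlat.of_flat_of_isLocalHom
  haveI : Nontrivial ((nilradical A).ResidueField ⊗[A] B) :=
    (Module.FaithfullyFlat.nontrivial_tensorProduct_iff_left A _ (N := B)).mpr inferInstance
  haveI hconn : ConnectedSpace (PrimeSpectrum ((nilradical A).Fiber B)) :=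
    (Groth.Agent.Lib.Helper9.GeomLib.connectedSpace_iff _).mpr ⟨inferInstance, h2⟩
  let F : Set (PrimeSpectrum B) := PrimeSpectrum.comap (algebraMap A B) ⁻¹' {p₀}
  haveI : ConnectedSpace F :=
    (PrimeSpectrum.preimageHomeomorphFiber A B p₀).symm.surjective.connectedSpace
      (PrimeSpectrum.preimageHomeomorphFiber A B p₀).symm.continuous
  have hF : _root_.IsConnected F := isConnected_iff_connectedSpace.mpr this
  have hp₀ : ∀ p : PrimeSpectrum A, p₀ ⤳ p := fun p =>
    (PrimeSpectrum.le_iff_specializes _ _).mp (nilradical_le_prime p.asIdeal)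
  have hFW : F ⊆ W := by
    intro q hq
    apply hW
    have : PrimeSpectrum.comap (algebraMap A B) q = p₀ := hq
    have h3 : (PrimeSpectrum.comap (algebraMap A B) q).asIdeal = nilradical A := by rw [this]
    exact h3.le
  refine ⟨hF.nonempty.mono hFW, isPreconnected_of_generizing W F hFW hF.isPreconnected ?_⟩
  intro q _
  have hgm : GeneralizingMap (PrimeSpectrum.comap (algebraMap A B)) :=
    Algebra.HasGoingDown.iff_generalizingMap_primeSpectrumComap.mp inferInstance
  obtain ⟨q', hq', hq'p⟩ := hgm (hp₀ (PrimeSpectrum.comap (algebraMap A B) q))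
  exact ⟨q', hq'p, hq'⟩

end Groth.Agent.Lib.Helper27.FibConn
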