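import Mathlib
import Groth.Agent.Lib.Helper12.GenericPts

/-!
# Scheme-level lemmas for the connectedness theorem over geometrically unibranch bases

* `geometricallyReduced_SpecMap_stalkMap`: geometric reducedness passes to the local rings.
* `exists_generization_mem_of_mem_closure'`: in a locally Noetherian scheme a point of the closure
  of an open set has a generization in that open set (copied from helper8's `QFPrimeSch`).
* `exists_isOpen_subset_closure_singleton`: in a locally Noetherian scheme the closure of a point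
  without proper generizations contains a nonempty open set.
-/

set_option autoImplicit false
set_option linter.style.haveILetI false
set_option linter.unusedSectionVars false

universe u

namespace Groth.Agent.Lib.Helper27.FibConn

open CategoryTheory CategoryTheory.Limits AlgebraicGeometry TopologicalSpace

/-- The canonical morphism from the spectrum of a local ring is flat (as in helper16's lib). -/
theorem flat_fromSpecStalk' (X : Scheme.{u}) (x : X) : Flat (X.fromSpecStalk x) := by
  obtain ⟨_, ⟨U, hU', rfl⟩, hxU, -⟩ := X.isBasis_affineOpens.exists_subset_of_mem_open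
    (Set.mem_univ x) isOpen_univ
  have hU : IsAffineOpen U := hU'
  rw [← hU.fromSpecStalk_eq_fromSpecStalk hxU]
  unfold IsAffineOpen.fromSpecStalk
  have h1 : Flat (Spec.map (X.presheaf.germ U x hxU)) := by
    rw [HasRingHomProperty.Spec_iff (P := @Flat)]
    let _ : Algebra Γ(X, U) (X.presheaf.stalk x) := (X.presheaf.germ U x hxU).hom.toAlgebra
    have := hU.isLocalization_stalk ⟨x, hxU⟩
    exact IsLocalization.flat (X.presheaf.stalk x) (hU.primeIdealOf ⟨x, hxU⟩).asIdeal.primeCompl
  infer_instance

/-- A flat morphism which is surjective on stalks induces bijections on stalks (as in helper14's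
lib). -/
theorem stalkMap_bijective_of_flat_of_surjectiveOnStalks' {P Y : Scheme.{u}} (g : P ⟶ Y) [Flat g]
    [SurjectiveOnStalks g] (w : P) : Function.Bijective (g.stalkMap w).hom := by
  refine ⟨?_, g.stalkMap_surjective w⟩
  have hflat : (g.stalkMap w).hom.Flat := Flat.stalkMap g w
  let _ : Algebra (Y.presheaf.stalk (g w)) (P.presheaf.stalk w) := (g.stalkMap w).hom.toAlgebra
  have : Module.Flat (Y.presheaf.stalk (g w)) (P.presheaf.stalk w) := hflat
  have : IsLocalHom (algebraMap (Y.presheaf.stalk (g w)) (P.presheaf.stalk w)) :=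
    inferInstanceAs (IsLocalHom (g.stalkMap w).hom)
  have : Module.FaithfullyFlat (Y.presheaf.stalk (g w)) (P.presheaf.stalk w) :=
    Module.FaithfullyFlat.of_flat_of_isLocalHom
  exact FaithfulSMul.algebraMap_injective _ _

theorem isReduced_stalk_of_flat_of_surjectiveOnStalks' {P Y : Scheme.{u}} (g : P ⟶ Y) [Flat g]
    [SurjectiveOnStalks g] (w : P) (h : _root_.IsReduced (Y.presheaf.stalk (g w))) :
    _root_.IsReduced (P.presheaf.stalk w) := by
  let e := RingEquiv.ofBijective (g.stalkMap w).hom
    (stalkMap_bijective_of_flat_of_surjectiveOnStalks' g w)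
  exact isReduced_of_injective e.symm e.symm.injective

/-- Geometric reducedness of a morphism passes to the induced maps of local rings. -/
theorem geometricallyReduced_SpecMap_stalkMap {X Y : Scheme.{u}} (f : X ⟶ Y)
    [GeometricallyReduced f] (x : X) : GeometricallyReduced (Spec.map (f.stalkMap x)) := by
  constructor
  intro K _ y Z fst snd h
  have hc : Spec.map (f.stalkMap x) ≫ Y.fromSpecStalk (f x) = X.fromSpecStalk x ≫ f :=
    Scheme.SpecMap_stalkMap_fromSpecStalk f
  have h1 : IsPullback fst snd (Spec.map (f.stalkMap x) ≫ Y.fromSpecStalk (f x))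
      (y ≫ Y.fromSpecStalk (f x)) :=
    IsPullback.of_isLimit (PullbackCone.isLimitOfCompMono (Spec.map (f.stalkMap x)) y
      (Y.fromSpecStalk (f x)) _ h.isLimit)
  rw [hc] at h1
  haveI : AlgebraicGeometry.IsReduced (pullback f (y ≫ Y.fromSpecStalk (f x))) :=
    GeometricallyReduced.geometrically_isReduced (f := f) (y ≫ Y.fromSpecStalk (f x)) _ _
      (IsPullback.of_hasPullback _ _)
  let l : Z ⟶ pullback f (y ≫ Y.fromSpecStalk (f x)) :=
    pullback.lift (fst ≫ X.fromSpecStalk x) snd (by rw [Category.assoc]; exact h1.w)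
  have h2 : IsPullback l fst (pullback.fst f (y ≫ Y.fromSpecStalk (f x))) (X.fromSpecStalk x) := by
    refine IsPullback.of_right ?_ (pullback.lift_fst _ _ _)
      (IsPullback.of_hasPullback f (y ≫ Y.fromSpecStalk (f x))).flip
    have : l ≫ pullback.snd f (y ≫ Y.fromSpecStalk (f x)) = snd := pullback.lift_snd _ _ _
    rw [this]
    exact h1.flip
  haveI := flat_fromSpecStalk' X x
  haveI : Flat l := MorphismProperty.of_isPullback (P := @Flat) h2.flip inferInstance
  haveI : SurjectiveOnStalks l :=
    MorphismProperty.of_isPullback (P := @SurjectiveOnStalks) h2.flip inferInstance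
  haveI : ∀ z : Z, _root_.IsReduced (Z.presheaf.stalk z) := fun z =>
    isReduced_stalk_of_flat_of_surjectiveOnStalks' l z inferInstance
  exact isReduced_of_isReduced_stalk _

/-- In a locally Noetherian scheme, a point in the closure of an open set has a generization in
that open set (copied from helper8's `QFPrimeSch`). -/
theorem exists_generization_mem_of_mem_closure' {X : Scheme.{u}} [IsLocallyNoetherian X]
    (U : X.Opens) (x : X) (hx : x ∈ closure (U : Set X)) : ∃ x' ∈ U, x' ⤳ x := by
  obtain ⟨_, ⟨(W : X.Opens), hW, rfl⟩, hxW, -⟩ :=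
    X.isBasis_affineOpens.exists_subset_of_mem_open (Set.mem_univ x) isOpen_univ
  haveI : IsNoetherianRing Γ(X, W) := IsLocallyNoetherian.component_noetherian ⟨W, hW⟩
  haveI : NoetherianSpace ↥(W : Set X) := noetherianSpace_of_isAffineOpen W hW
  haveI : QuasiSober ↥(W : Set X) := inferInstanceAs (QuasiSober W.toScheme)
  let T : Set ↥(W : Set X) := Subtype.val ⁻¹' (U : Set X)
  have hTopen : IsOpen T := U.isOpen.preimage continuous_subtype_val
  have hxT : (⟨x, hxW⟩ : ↥(W : Set X)) ∈ closure T := by
    rw [closure_subtype, Subtype.image_preimage_coe, mem_closure_iff]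
    intro O hO hxO
    obtain ⟨y, ⟨hyO, hyW⟩, hyU⟩ := mem_closure_iff.mp hx (O ∩ (W : Set X)) (hO.inter W.isOpen)
      ⟨hxO, hxW⟩
    exact ⟨y, hyO, hyW, hyU⟩
  have hfin : (irreducibleComponents ↥(W : Set X)).Finite :=
    NoetherianSpace.finite_irreducibleComponents
  have hT : T = ⋃ Z ∈ irreducibleComponents ↥(W : Set X), (T ∩ Z) := by
    rw [← Set.inter_iUnion₂, ← Set.sUnion_eq_biUnion, sUnion_irreducibleComponents, Set.inter_univ]
  rw [hT, hfin.closure_biUnion] at hxT
  obtain ⟨Z, hZ, hxZ⟩ := Set.mem_iUnion₂.mp hxT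
  have hZirr : IsIrreducible Z := hZ.prop
  have hZcl : IsClosed Z := isClosed_of_mem_irreducibleComponents _ hZ
  have hgen : IsGenericPoint hZirr.genericPoint Z := hZirr.isGenericPoint_genericPoint hZcl
  have hne : (T ∩ Z).Nonempty := by
    by_contra h
    rw [Set.not_nonempty_iff_eq_empty] at h
    rw [h, closure_empty] at hxZ
    exact hxZ
  have hξT : hZirr.genericPoint ∈ T :=
    (hgen.mem_open_set_iff hTopen).mpr (by rwa [Set.inter_comm] at hne)
  have hξx : hZirr.genericPoint ⤳ (⟨x, hxW⟩ : ↥(W : Set X)) := by
    apply hgen.specializes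
    exact closure_minimal Set.inter_subset_right hZcl hxZ
  exact ⟨hZirr.genericPoint.1, hξT, hξx.map continuous_subtype_val⟩

/-- In a locally Noetherian scheme, the closure of the generic point of an irreducible component
contains a nonempty open subset. -/
theorem exists_isOpen_subset_closure_singleton {Y : Scheme.{u}} [IsLocallyNoetherian Y] (η : Y)
    (hη : closure ({η} : Set Y) ∈ irreducibleComponents Y) :
    ∃ o : Set Y, IsOpen o ∧ o.Nonempty ∧ o ⊆ closure ({η} : Set Y) := by
  obtain ⟨_, ⟨(W : Y.Opens), hW, rfl⟩, hxW, -⟩ :=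
    Y.isBasis_affineOpens.exists_subset_of_mem_open (Set.mem_univ η) isOpen_univ
  haveI : IsNoetherianRing Γ(Y, W) := IsLocallyNoetherian.component_noetherian ⟨W, hW⟩
  haveI : NoetherianSpace ↥(W : Set Y) := noetherianSpace_of_isAffineOpen W hW
  haveI : QuasiSober ↥(W : Set Y) := inferInstanceAs (QuasiSober W.toScheme)
  let η' : ↥(W : Set Y) := ⟨η, hxW⟩
  have hη' : closure ({η'} : Set ↥(W : Set Y)) ∈ irreducibleComponents ↥(W : Set Y) := by
    apply Groth.Agent.Lib.Helper12.mem_irreducibleComponents_of_forall_specializes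
    intro z hz
    have hz' : z.1 ⤳ η := hz.map continuous_subtype_val
    exact Subtype.ext (Groth.Agent.Lib.Helper12.eq_of_specializes_of_mem_irreducibleComponents hη hz')
  obtain ⟨o, ho, hne, hsub⟩ :=
    NoetherianSpace.exists_isOpen_nonempty_subset_irreducibleComponent _ hη'
  refine ⟨Subtype.val '' o, W.isOpen.isOpenMap_subtype_val o ho, hne.image _, ?_⟩
  rintro _ ⟨z, hz, rfl⟩
  have h1 : z ∈ closure ({η'} : Set ↥(W : Set Y)) := hsub hz
  have h2 : η' ⤳ z := specializes_iff_mem_closure.mpr h1
  exact specializes_iff_mem_closure.mp (h2.map continuous_subtype_val)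

end Groth.Agent.Lib.Helper27.FibConn
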