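import Groth.Agent.Lib.Helper27.FibConnL
import Groth.Agent.Lib.Helper27.FibConnM

/-!
# Complements of closed subsets with nowhere dense image: scheme version

Let `f : X ⟶ Y` be a flat morphism of locally Noetherian schemes with geometrically reduced fibres,
`X` connected and all local rings of `Y` geometrically unibranch.  Then the complement of every
closed subset of `X` whose image in `Y` is nowhere dense is connected.
-/

set_option autoImplicit false
set_option linter.style.haveILetI false
set_option linter.unusedSectionVars false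

universe u

namespace Groth.Agent.Lib.Helper27.FibConn

open CategoryTheory CategoryTheory.Limits AlgebraicGeometry TopologicalSpace

set_option maxHeartbeats 1600000 in
/-- Local statement: the preimage in `Spec 𝒪_{X,x}` of a set containing all points lying over
generic points of `Y` is connected. -/
theorem isConnected_preimage_fromSpecStalk {X Y : Scheme.{u}} [IsLocallyNoetherian X]
    [IsLocallyNoetherian Y] (f : X ⟶ Y) [Flat f] [GeometricallyReduced f] (x : X)
    (hA : CAlg2.IsGeomUnibranch (Y.presheaf.stalk (f x)))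
    (W : Set X)
    (hW : ∀ ξ : X, closure ({f ξ} : Set Y) ∈ irreducibleComponents Y → ξ ∈ W) :
    _root_.IsConnected ((X.fromSpecStalk x) ⁻¹' W) := by
  letI : Algebra (Y.presheaf.stalk (f x)) (X.presheaf.stalk x) := (f.stalkMap x).hom.toAlgebra
  haveI : Module.Flat (Y.presheaf.stalk (f x)) (X.presheaf.stalk x) := Flat.stalkMap f x
  haveI : IsLocalHom (algebraMap (Y.presheaf.stalk (f x)) (X.presheaf.stalk x)) :=
    inferInstanceAs (IsLocalHom (f.stalkMap x).hom)
  haveI : GeometricallyReduced (Spec.map (CommRingCat.ofHom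
      (algebraMap (Y.presheaf.stalk (f x)) (X.presheaf.stalk x)))) :=
    geometricallyReduced_SpecMap_stalkMap f x
  refine isConnected_of_generic_fibre_subset (Y.presheaf.stalk (f x)) (X.presheaf.stalk x) hA
    ((X.fromSpecStalk x) ⁻¹' W) ?_
  intro q hq
  apply hW
  -- the image of `q` in `Y`
  have hc : Spec.map (f.stalkMap x) ≫ Y.fromSpecStalk (f x) = X.fromSpecStalk x ≫ f :=
    Scheme.SpecMap_stalkMap_fromSpecStalk f
  set p : Spec (Y.presheaf.stalk (f x)) := (Spec.map (f.stalkMap x)) q with hp
  have hfq : f ((X.fromSpecStalk x) q) = (Y.fromSpecStalk (f x)) p := by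
    rw [hp, ← Scheme.Hom.comp_apply, ← Scheme.Hom.comp_apply, hc]
  rw [hfq]
  have hp_le : (p : PrimeSpectrum (Y.presheaf.stalk (f x))).asIdeal ≤
      nilradical (Y.presheaf.stalk (f x)) := hq
  apply Groth.Agent.Lib.Helper12.mem_irreducibleComponents_of_forall_specializes
  intro z hz
  have hz1 : (Y.fromSpecStalk (f x)) p ⤳ f x := by
    have : (Y.fromSpecStalk (f x)) p ∈ Set.range (Y.fromSpecStalk (f x)) := ⟨p, rfl⟩
    rwa [Scheme.range_fromSpecStalk] at this
  have hz2 : z ∈ Set.range (Y.fromSpecStalk (f x)) := by
    rw [Scheme.range_fromSpecStalk]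
    exact hz.trans hz1
  obtain ⟨p', rfl⟩ := hz2
  have hz3 : p' ⤳ p :=
    (Y.fromSpecStalk (f x)).isEmbedding.isInducing.specializes_iff.mp hz
  have hz4 : (show PrimeSpectrum (Y.presheaf.stalk (f x)) from p').asIdeal ≤
      (show PrimeSpectrum (Y.presheaf.stalk (f x)) from p).asIdeal :=
    (PrimeSpectrum.le_iff_specializes (show PrimeSpectrum (Y.presheaf.stalk (f x)) from p')
      (show PrimeSpectrum (Y.presheaf.stalk (f x)) from p)).mpr hz3
  have hz5 : (show PrimeSpectrum (Y.presheaf.stalk (f x)) from p).asIdeal ≤
      (show PrimeSpectrum (Y.presheaf.stalk (f x)) from p').asIdeal :=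
    hp_le.trans (nilradical_le_prime _)
  congr 1
  exact PrimeSpectrum.ext (le_antisymm hz4 hz5)

end Groth.Agent.Lib.Helper27.FibConn
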