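import Groth.Agent.Lib.Helper27.FibConnN

/-!
# Complements of closed subsets with nowhere dense image: scheme version (main theorem)
-/

set_option autoImplicit false
set_option linter.style.haveILetI false
set_option linter.unusedSectionVars false

universe u

namespace Groth.Agent.Lib.Helper27.FibConn

open CategoryTheory CategoryTheory.Limits AlgebraicGeometry TopologicalSpace

set_option maxHeartbeats 1600000 in
theorem isConnected_compl_scheme {X Y : Scheme.{u}} [IsLocallyNoetherian X]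
    [IsLocallyNoetherian Y] [ConnectedSpace ↥X]
    (hY : ∀ y : Y, CAlg2.IsGeomUnibranch (Y.presheaf.stalk y))
    (f : X ⟶ Y) [Flat f] [GeometricallyReduced f]
    (T : Set ↥X) (hT : IsClosed T) (hT' : interior (closure (f '' T)) = ∅) :
    _root_.IsConnected Tᶜ := by
  classical
  -- points of `T` do not lie over generic points of `Y`
  have hstar : ∀ q ∈ T, closure ({f q} : Set Y) ∉ irreducibleComponents Y := by
    intro q hq hgen
    obtain ⟨o, ho, hne, hsub⟩ := exists_isOpen_subset_closure_singleton (f q) hgen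
    have h1 : o ⊆ interior (closure (f '' T)) :=
      interior_maximal (hsub.trans (closure_mono (Set.singleton_subset_iff.mpr ⟨q, hq, rfl⟩))) ho
    rw [hT'] at h1
    exact hne.ne_empty (Set.subset_empty_iff.mp h1)
  have hWgen : ∀ ξ : X, closure ({f ξ} : Set Y) ∈ irreducibleComponents Y → ξ ∈ Tᶜ :=
    fun ξ hξ hξT => hstar ξ hξT hξ
  have hgm : GeneralizingMap f := Flat.generalizingMap f
  have hiW : ∀ x : X, ∃ ξ ∈ Tᶜ, ξ ⤳ x := by
    intro x
    obtain ⟨η, hη, hηx⟩ := Groth.Agent.Lib.Helper12.exists_generic_specializes (f x)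
    obtain ⟨ξ, hξ, rfl⟩ := hgm hηx
    exact ⟨ξ, hWgen ξ hη, hξ⟩
  refine ⟨?_, ?_⟩
  · obtain ⟨x⟩ := (inferInstance : Nonempty X)
    obtain ⟨ξ, hξ, -⟩ := hiW x
    exact ⟨ξ, hξ⟩
  · intro U V hU hV hWUV hWU hWV
    by_contra hcon
    rw [Set.not_nonempty_iff_eq_empty] at hcon
    have hU' : IsOpen (Tᶜ ∩ U) := hT.isOpen_compl.inter hU
    have hV' : IsOpen (Tᶜ ∩ V) := hT.isOpen_compl.inter hV
    have hcover : (Set.univ : Set X) ⊆ closure (Tᶜ ∩ U) ∪ closure (Tᶜ ∩ V) := by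
      intro x _
      obtain ⟨ξ, hξ, hξx⟩ := hiW x
      rcases hWUV hξ with h | h
      · exact Or.inl (hξx.mem_closed isClosed_closure (subset_closure ⟨hξ, h⟩))
      · exact Or.inr (hξx.mem_closed isClosed_closure (subset_closure ⟨hξ, h⟩))
    obtain ⟨x, -, hx1, hx2⟩ := isPreconnected_closed_iff.mp
      (isPreconnected_univ (α := X)) _ _ isClosed_closure isClosed_closure hcover
      (by obtain ⟨z, hz⟩ := hWU; exact ⟨z, trivial, subset_closure hz⟩)
      (by obtain ⟨z, hz⟩ := hWV; exact ⟨z, trivial, subset_closure hz⟩)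
    obtain ⟨ξ₁, hξ₁U, hξ₁x⟩ := exists_generization_mem_of_mem_closure' ⟨Tᶜ ∩ U, hU'⟩ x hx1
    obtain ⟨ξ₂, hξ₂V, hξ₂x⟩ := exists_generization_mem_of_mem_closure' ⟨Tᶜ ∩ V, hV'⟩ x hx2
    have hloc : _root_.IsPreconnected ((X.fromSpecStalk x) ⁻¹' Tᶜ) :=
      (isConnected_preimage_fromSpecStalk f x (hY (f x)) Tᶜ hWgen).isPreconnected
    obtain ⟨q₁, rfl⟩ : ξ₁ ∈ Set.range (X.fromSpecStalk x) := by
      rw [Scheme.range_fromSpecStalk]; exact hξ₁x
    obtain ⟨q₂, rfl⟩ : ξ₂ ∈ Set.range (X.fromSpecStalk x) := by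
      rw [Scheme.range_fromSpecStalk]; exact hξ₂x
    obtain ⟨q, hqW, hqU, hqV⟩ := hloc ((X.fromSpecStalk x) ⁻¹' U) ((X.fromSpecStalk x) ⁻¹' V)
      (hU.preimage (X.fromSpecStalk x).continuous) (hV.preimage (X.fromSpecStalk x).continuous)
      (fun q hq => hWUV hq) ⟨q₁, hξ₁U.1, hξ₁U.2⟩ ⟨q₂, hξ₂V.1, hξ₂V.2⟩
    have hmem : (X.fromSpecStalk x) q ∈ Tᶜ ∩ (U ∩ V) := ⟨hqW, hqU, hqV⟩
    rw [hcon] at hmem
    exact hmem

end Groth.Agent.Lib.Helper27.FibConn
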