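import Groth.Agent.Lib.Helper27.FibConnC

/-!
# Elements of `L ⊗ T` lying in all `V ⊗ T` lie in `N ⊗ T`

The "intersection" part of the proof of `trivIdem_of_moriNagata`, for arbitrary elements, and a
topological version of the DVR step: an idempotent of `L ⊗ T` cutting out the preimage of an open
set `U` of `Spec T` comes from `V ⊗ T` as soon as `U` is clopen on the image of `Spec (V ⊗ T)`.
-/

set_option autoImplicit false
set_option linter.style.haveILetI false
set_option linter.unusedSectionVars false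

universe u

namespace Groth.Agent.Lib.Helper27.FibConn

open TensorProduct Groth.Agent.Lib.Helper9.GeomLib

variable (A₁ : Type u) [CommRing A₁] (L : Type u) [Field L] [Algebra A₁ L]
  (T : Type u) [CommRing T] [Algebra A₁ T] [Module.Flat A₁ T]

theorem mem_range_vsub_of_mem_range_iotaV (V : ValuationSubring L)
    (hA : ∀ a, algebraMap A₁ L a ∈ V) (e : L ⊗[A₁] T)
    (he : letI : Algebra A₁ V := ((algebraMap A₁ L).codRestrict V hA).toAlgebra
      haveI : IsScalarTower A₁ V L := IsScalarTower.of_algebraMap_eq (fun a => rfl)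
      e ∈ (iotaV A₁ L T V).range) :
    e ∈ LinearMap.range ((vsub A₁ L V hA).subtype.rTensor T) := by
  letI : Algebra A₁ V := ((algebraMap A₁ L).codRestrict V hA).toAlgebra
  haveI : IsScalarTower A₁ V L := IsScalarTower.of_algebraMap_eq (fun a => rfl)
  obtain ⟨y, hy⟩ := he
  let φ : V →ₗ[A₁] vsub A₁ L V hA :=
    { toFun := fun v => ⟨v.1, v.2⟩
      map_add' := fun _ _ => rfl
      map_smul' := fun a v => by
        apply Subtype.ext
        show ((a • v : V) : L) = a • (v : L)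
        rw [Algebra.smul_def, Algebra.smul_def]
        rfl }
  refine ⟨φ.rTensor T y, ?_⟩
  rw [← LinearMap.comp_apply, ← LinearMap.rTensor_comp]
  exact hy

theorem mem_range_integralClosure [IsDomain A₁] [IsFractionRing A₁ L]
    (C : Subalgebra A₁ L)
    (hV : ∀ (p : Ideal C) [p.IsPrime], p.height = 1 →
      ∃ V : ValuationSubring L, IsDiscreteValuationRing V ∧ ∀ x : L, x ∈ V ↔ InV A₁ L C p x)
    (hN : ∀ x : L, x ∈ integralClosure A₁ L ↔
      ∀ (p : Ideal C) [p.IsPrime], p.height = 1 → InV A₁ L C p x)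
    (hfin : ∀ x : L, {p : Ideal C | p.IsPrime ∧ p.height = 1 ∧ ¬ InV A₁ L C p x}.Finite)
    (e : L ⊗[A₁] T)
    (he : ∀ (p : Ideal C) [p.IsPrime], p.height = 1 → ∀ (V : ValuationSubring L)
      [IsDiscreteValuationRing V] (hAV : ∀ a, algebraMap A₁ L a ∈ V),
      (∀ x : L, x ∈ V ↔ InV A₁ L C p x) →
      e ∈ LinearMap.range ((vsub A₁ L V hAV).subtype.rTensor T)) :
    e ∈ (Algebra.TensorProduct.map (integralClosure A₁ L).val (AlgHom.id A₁ T)).range := by
  classical
  obtain ⟨d, hd, x, hx⟩ := exists_smul_eq_tmul A₁ L T e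
  have hdL : algebraMap A₁ L d ≠ 0 := fun h0 =>
    hd ((map_eq_zero_iff _ (IsFractionRing.injective A₁ L)).mp h0)
  set dinv : L := (algebraMap A₁ L d)⁻¹ with hdinv
  have he_eq : e = dinv ⊗ₜ[A₁] x := by
    have hu : IsUnit ((algebraMap A₁ L d) ⊗ₜ[A₁] (1 : T)) :=
      (IsUnit.mk0 _ hdL).map (Algebra.TensorProduct.includeLeft : L →ₐ[A₁] L ⊗[A₁] T)
    apply hu.mul_left_cancel
    rw [Algebra.TensorProduct.tmul_mul_tmul, one_mul, hdinv, mul_inv_cancel₀ hdL, ← hx,
      Algebra.smul_def, Algebra.TensorProduct.algebraMap_apply]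
  let Nsub : Submodule A₁ L := Subalgebra.toSubmodule (integralClosure A₁ L)
  let M₀ : Submodule A₁ L := Nsub.comap (LinearMap.lsmul A₁ L d)
  have hdinvM : dinv ∈ M₀ := by
    show d • dinv ∈ integralClosure A₁ L
    rw [Algebra.smul_def, hdinv, mul_inv_cancel₀ hdL]
    exact Subalgebra.one_mem _
  have hM₀ : e ∈ LinearMap.range (M₀.subtype.rTensor T) :=
    ⟨(⟨dinv, hdinvM⟩ : M₀) ⊗ₜ[A₁] x, by rw [he_eq]; rfl⟩
  have hAmem : ∀ (p : Ideal C) (_ : p.IsPrime) (V : ValuationSubring L),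
      (∀ x : L, x ∈ V ↔ InV A₁ L C p x) → ∀ a, algebraMap A₁ L a ∈ V := by
    intro p hp V hVx a
    rw [hVx]
    refine ⟨1, fun h1 => hp.ne_top ((Ideal.eq_top_iff_one p).mpr h1), ?_⟩
    have : ((1 : C) : L) * algebraMap A₁ L a = algebraMap C L (algebraMap A₁ C a) := by
      rw [OneMemClass.coe_one, one_mul]
      rfl
    rw [this]
    exact isIntegral_algebraMap
  have hV' : ∀ q : {p : Ideal C // p.IsPrime ∧ p.height = 1}, ∃ V : ValuationSubring L,
      IsDiscreteValuationRing V ∧ ∀ x : L, x ∈ V ↔ InV A₁ L C q.1 x :=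
    fun q => @hV q.1 q.2.1 q.2.2
  choose Vf hVf1 hVf2 using hV'
  let W : {p : Ideal C // p.IsPrime ∧ p.height = 1} → Submodule A₁ L := fun q =>
    vsub A₁ L (Vf q) (hAmem q.1 q.2.1 (Vf q) (hVf2 q))
  have hWrange : ∀ q, e ∈ LinearMap.range ((W q).subtype.rTensor T) := by
    intro q
    haveI := hVf1 q
    haveI := q.2.1
    exact he q.1 q.2.2 (Vf q) (hAmem q.1 q.2.1 (Vf q) (hVf2 q)) (hVf2 q)
  have hS0 := hfin dinv
  have hS : {q : {p : Ideal C // p.IsPrime ∧ p.height = 1} | ¬ InV A₁ L C q.1 dinv}.Finite := by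
    refine Set.Finite.of_injOn (f := Subtype.val) (t := {p : Ideal C | p.IsPrime ∧ p.height = 1 ∧
      ¬ InV A₁ L C p dinv}) ?_ Subtype.val_injective.injOn hS0
    intro q hq
    exact ⟨q.2.1, q.2.2, hq⟩
  have h2 := mem_range_finset_inf T hS.toFinset W M₀ e hM₀ (fun q _ => hWrange q)
  have hle : M₀ ⊓ hS.toFinset.inf W ≤ Nsub := by
    intro y hy
    have hy1 : d • y ∈ integralClosure A₁ L := hy.1
    have hy2 : ∀ q ∈ hS.toFinset, y ∈ W q := fun q hq =>
      (Finset.inf_le hq : hS.toFinset.inf W ≤ W q) hy.2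
    show y ∈ integralClosure A₁ L
    rw [hN]
    intro p hp hh
    let q : {p : Ideal C // p.IsPrime ∧ p.height = 1} := ⟨p, hp, hh⟩
    by_cases hqS : q ∈ hS.toFinset
    · exact (hVf2 q y).mp (hy2 q hqS)
    · rw [Set.Finite.mem_toFinset] at hqS
      have hdv : InV A₁ L C p dinv := by
        by_contra hcon
        exact hqS hcon
      have hdy : InV A₁ L C p (d • y) := (hN (d • y)).mp hy1 p hh
      have hdv' : dinv ∈ Vf q := (hVf2 q dinv).mpr hdv
      have hdy' : d • y ∈ Vf q := (hVf2 q (d • y)).mpr hdy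
      refine (hVf2 q y).mp ?_
      have : y = dinv * (d • y) := by
        rw [Algebra.smul_def, ← mul_assoc, hdinv, inv_mul_cancel₀ hdL, one_mul]
      rw [this]
      exact (Vf q).mul_mem _ _ hdv' hdy'
  have h3 : e ∈ LinearMap.range (Nsub.subtype.rTensor T) := range_rTensor_mono T hle h2
  obtain ⟨w, hw⟩ := h3
  exact ⟨w, hw⟩

end Groth.Agent.Lib.Helper27.FibConn
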