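import Groth.Agent.Lib.Helper27.FibConnP

/-!
# The topological DVR step
-/

set_option autoImplicit false
set_option linter.style.haveILetI false
set_option linter.unusedSectionVars false

universe u

namespace Groth.Agent.Lib.Helper27.FibConn

open TensorProduct Groth.Agent.Lib.Helper9.GeomLib

variable (A₁ : Type u) [CommRing A₁] (L : Type u) [Field L] [Algebra A₁ L]
  (T : Type u) [CommRing T] [Algebra A₁ T] [Module.Flat A₁ T]
  (V : ValuationSubring L) [IsDiscreteValuationRing V] [Algebra A₁ V] [IsScalarTower A₁ V L]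

set_option maxHeartbeats 800000 in
theorem mem_range_iotaV_of_clopen
    (U U' : Set (PrimeSpectrum T)) (hU : IsOpen U) (hU' : IsOpen U')
    (hcov : ∀ Q : PrimeSpectrum (V ⊗[A₁] T),
      PrimeSpectrum.comap (Algebra.TensorProduct.includeRight : T →ₐ[A₁] V ⊗[A₁] T).toRingHom Q
        ∈ U ∪ U')
    (hdisj : ∀ Q : PrimeSpectrum (V ⊗[A₁] T),
      PrimeSpectrum.comap (Algebra.TensorProduct.includeRight : T →ₐ[A₁] V ⊗[A₁] T).toRingHom Q
        ∉ U ∩ U')
    (e : L ⊗[A₁] T) (he : IsIdempotentElem e)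
    (heU : ∀ Q : PrimeSpectrum (L ⊗[A₁] T), e ∉ Q.asIdeal ↔
      PrimeSpectrum.comap (Algebra.TensorProduct.includeRight : T →ₐ[A₁] L ⊗[A₁] T).toRingHom Q
        ∈ U) :
    e ∈ (iotaV A₁ L T V).range := by
  set φV : T →+* V ⊗[A₁] T :=
    (Algebra.TensorProduct.includeRight : T →ₐ[A₁] V ⊗[A₁] T).toRingHom with hφV
  set φL : T →+* L ⊗[A₁] T :=
    (Algebra.TensorProduct.includeRight : T →ₐ[A₁] L ⊗[A₁] T).toRingHom with hφL
  have hcomp : ∀ t : T, iotaV A₁ L T V (φV t) = φL t := by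
    intro t
    show iotaV A₁ L T V ((1 : V) ⊗ₜ[A₁] t) = (1 : L) ⊗ₜ[A₁] t
    rw [iotaV_tmul]
    rfl
  let S : Set (PrimeSpectrum (V ⊗[A₁] T)) := PrimeSpectrum.comap φV ⁻¹' U
  have hSo : IsOpen S := hU.preimage (PrimeSpectrum.continuous_comap φV)
  have hSc : Sᶜ = PrimeSpectrum.comap φV ⁻¹' U' := by
    ext Q
    constructor
    · intro hQ
      rcases hcov Q with h | h
      · exact absurd h hQ
      · exact h
    · intro hQ hQ'
      exact hdisj Q ⟨hQ', hQ⟩
  have hScl : IsClosed S := by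
    rw [← isOpen_compl_iff, hSc]
    exact hU'.preimage (PrimeSpectrum.continuous_comap φV)
  obtain ⟨eV, heV, hSeq⟩ := PrimeSpectrum.exists_idempotent_basicOpen_eq_of_isClopen ⟨hScl, hSo⟩
  refine ⟨eV, ?_⟩
  have h1 : IsIdempotentElem (iotaV A₁ L T V eV) := heV.map _
  apply PrimeSpectrum.basicOpen_injOn_isIdempotentElem h1 he
  ext Q
  rw [SetLike.mem_coe, SetLike.mem_coe, PrimeSpectrum.mem_basicOpen, PrimeSpectrum.mem_basicOpen,
    heU Q]
  have h2 : iotaV A₁ L T V eV ∉ Q.asIdeal ↔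
      PrimeSpectrum.comap (iotaV A₁ L T V).toRingHom Q ∈ S := by
    rw [hSeq, SetLike.mem_coe, PrimeSpectrum.mem_basicOpen]
    rfl
  rw [h2]
  show PrimeSpectrum.comap φV (PrimeSpectrum.comap (iotaV A₁ L T V).toRingHom Q) ∈ U ↔ _
  have h3 : PrimeSpectrum.comap φV (PrimeSpectrum.comap (iotaV A₁ L T V).toRingHom Q) =
      PrimeSpectrum.comap φL Q := by
    apply PrimeSpectrum.ext
    ext t
    show iotaV A₁ L T V (φV t) ∈ Q.asIdeal ↔ φL t ∈ Q.asIdeal
    rw [hcomp]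
  rw [h3]

end Groth.Agent.Lib.Helper27.FibConn
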