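import Groth.Agent.Lib.Helper27.FibConnQ
import Groth.Agent.Lib.Helper27.FibConnH
import Groth.Agent.Lib.Helper12.IntegralDim

/-!
# Mori–Nagata data over a unibranch local domain of dimension at least two

For a Noetherian local domain `A` of dimension `≥ 2` whose normalization `N` is local, every
height-one prime `p` of a finite sub-`A`-algebra `C` of the fraction field misses some nonzero
element of the maximal ideal of `A`.
-/

set_option autoImplicit false
set_option linter.style.haveILetI false
set_option linter.unusedSectionVars false

universe u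

namespace Groth.Agent.Lib.Helper27.FibConn

open TensorProduct IsLocalRing Groth.Agent.Lib.Helper9.GeomLib

variable (A : Type u) [CommRing A] [IsDomain A] [IsLocalRing A]

theorem exists_mem_maximalIdeal_ne_zero (hdim : 2 ≤ ringKrullDim A) :
    ∃ a ∈ maximalIdeal A, a ≠ 0 := by
  by_contra hcon
  push Not at hcon
  have h1 : maximalIdeal A = ⊥ := by
    rw [eq_bot_iff]
    intro a ha
    exact hcon a ha
  have h2 : IsField A := IsLocalRing.isField_iff_maximalIdeal_eq.mpr h1
  have h3 : ringKrullDim A = 0 := ringKrullDim_eq_zero_of_isField h2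
  rw [h3] at hdim
  exact absurd hdim (by norm_num)

set_option maxHeartbeats 800000 in
theorem exists_notMem_of_height_eq_one [IsLocalRing (integralClosure A (FractionRing A))]
    (hdim : 2 ≤ ringKrullDim A)
    (C : Subalgebra A (FractionRing A)) [Module.Finite A C]
    (p : Ideal C) [p.IsPrime] (hp : p.height = 1) :
    ∃ a ∈ maximalIdeal A, a ≠ 0 ∧ algebraMap A C a ∉ p := by
  by_contra hcon
  push Not at hcon
  set N := integralClosure A (FractionRing A) with hN
  haveI : Algebra.IsIntegral A C := Algebra.IsIntegral.of_finite A C
  -- `p` lies over the maximal ideal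
  have hle : maximalIdeal A ≤ p.comap (algebraMap A C) := by
    intro a ha
    by_cases ha0 : a = 0
    · rw [ha0]; exact Ideal.zero_mem _
    · exact hcon a ha ha0
  have hcomap : p.comap (algebraMap A C) = maximalIdeal A :=
    ((IsLocalRing.maximalIdeal.isMaximal A).eq_of_le (Ideal.comap_ne_top _ (Ideal.IsPrime.ne_top ‹_›))
      hle).symm
  have hpmax : p.IsMaximal := by
    apply Ideal.isMaximal_of_isIntegral_of_isMaximal_comap (R := A) p
    rw [hcomap]
    infer_instance
  -- `C` is contained in `N`
  have hCN : C ≤ N := by
    intro c hc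
    have h1 : IsIntegral A (⟨c, hc⟩ : C) := Algebra.IsIntegral.isIntegral _
    exact h1.map (C.val)
  letI : Algebra C N := (Subalgebra.inclusion hCN).toRingHom.toAlgebra
  haveI : IsScalarTower A C N := IsScalarTower.of_algebraMap_eq (fun a => rfl)
  haveI : Algebra.IsIntegral A N := inferInstance
  haveI : Algebra.IsIntegral C N := Algebra.IsIntegral.tower_top (R := A)
  have hinjCN : Function.Injective (algebraMap C N) := Subalgebra.inclusion_injective hCN
  -- every maximal ideal of `C` is the contraction of the maximal ideal of `N`
  have hmax : ∀ P : Ideal C, P.IsMaximal → P = (maximalIdeal N).comap (algebraMap C N) := by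
    intro P hP
    obtain ⟨Q, hQ, hQP⟩ := Ideal.exists_ideal_over_maximal_of_isIntegral (S := N) P (by
      rw [(RingHom.injective_iff_ker_eq_bot _).mp hinjCN]
      exact bot_le)
    rw [← hQP, IsLocalRing.eq_maximalIdeal hQ]
  haveI : IsLocalRing C := IsLocalRing.of_unique_max_ideal
    ⟨p, hpmax, fun P hP => by rw [hmax P hP, hmax p hpmax]⟩
  have hpeq : p = maximalIdeal C := (IsLocalRing.eq_maximalIdeal hpmax)
  have hinjAC : Function.Injective (algebraMap A C) := by
    intro a b hab
    have h1 : algebraMap A (FractionRing A) a = algebraMap A (FractionRing A) b :=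
      congrArg (fun c : C => (c : FractionRing A)) hab
    exact IsFractionRing.injective A (FractionRing A) h1
  have hdimC : ringKrullDim A ≤ ringKrullDim C :=
    Groth.Agent.Lib.Helper12.ringKrullDim_le_of_isIntegral_of_injective hinjAC
  have hht : ((maximalIdeal C).height : WithBot ℕ∞) = ringKrullDim C :=
    IsLocalRing.maximalIdeal_height_eq_ringKrullDim
  rw [← hpeq, hp] at hht
  have h2 : (2 : WithBot ℕ∞) ≤ ((1 : ℕ∞) : WithBot ℕ∞) := by
    rw [hht]
    exact hdim.trans hdimC
  exact absurd h2 (by decide)

end Groth.Agent.Lib.Helper27.FibConn
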