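import Groth.Agent.Lib.Helper27.FibConnR
import Groth.Agent.S12124

/-!
# Flat local algebras over a geometrically unibranch local domain of dimension at least two

Let `A` be a Noetherian local domain of dimension `≥ 2` whose normalization is local with purely
inseparable residue field extension, and `B` a flat local `A`-algebra.  Every subset of `Spec B`
containing the complement of the closed fibre is preconnected.
-/

set_option autoImplicit false
set_option linter.style.haveILetI false
set_option linter.unusedSectionVars false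

universe u

namespace Groth.Agent.Lib.Helper27.FibConn

open TensorProduct IsLocalRing Groth.Agent.Lib.Helper9.GeomLib

variable (A : Type u) [CommRing A] [IsDomain A] [IsNoetherianRing A] [IsLocalRing A]
  (B : Type u) [CommRing B] [IsLocalRing B] [Algebra A B] [IsLocalHom (algebraMap A B)]
  [Module.Flat A B]

attribute [local instance] Algebra.TensorProduct.rightAlgebra in
/-- Primes of `B` over the zero ideal of `A` come from the generic fibre. -/
theorem exists_comap_includeRight_eq (q' : PrimeSpectrum B)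
    (hq' : q'.asIdeal.comap (algebraMap A B) = ⊥) :
    ∃ Q : PrimeSpectrum (FractionRing A ⊗[A] B), PrimeSpectrum.comap
      (Algebra.TensorProduct.includeRight : B →ₐ[A] FractionRing A ⊗[A] B).toRingHom Q = q' := by
  have h1 := PrimeSpectrum.localization_comap_range (FractionRing A ⊗[A] B)
    (Algebra.algebraMapSubmonoid B (nonZeroDivisors A))
  have h2 : q' ∈ Set.range (PrimeSpectrum.comap (algebraMap B (FractionRing A ⊗[A] B))) := by
    rw [h1]
    show Disjoint _ _
    rw [Set.disjoint_left]
    rintro _ ⟨a, ha, rfl⟩ hmem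
    have h3 : a ∈ q'.asIdeal.comap (algebraMap A B) := hmem
    rw [hq'] at h3
    exact nonZeroDivisors.ne_zero ha ((Ideal.mem_bot).mp h3)
  obtain ⟨Q, hQ⟩ := h2
  exact ⟨Q, hQ⟩

set_option maxHeartbeats 1600000 in
theorem isPreconnected_of_basicOpen_subset
    [IsLocalRing (integralClosure A (FractionRing A))]
    (hpi : ∀ x : integralClosure A (FractionRing A) ⧸
        maximalIdeal (integralClosure A (FractionRing A)),
      ∃ n : ℕ, x ^ (ringExpChar (integralClosure A (FractionRing A) ⧸
        maximalIdeal (integralClosure A (FractionRing A)))) ^ n ∈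
        ((Ideal.Quotient.mk (maximalIdeal (integralClosure A (FractionRing A)))).comp
          (algebraMap A (integralClosure A (FractionRing A)))).range)
    (hdim : 2 ≤ ringKrullDim A)
    (W : Set (PrimeSpectrum B))
    (hW : ∀ a ∈ maximalIdeal A, a ≠ 0 →
      (PrimeSpectrum.basicOpen (algebraMap A B a) : Set (PrimeSpectrum B)) ⊆ W) :
    IsPreconnected W := by
  classical
  set K := FractionRing A with hK
  set N := integralClosure A K with hNdef
  obtain ⟨C, hCfin, hV, hN, hfin⟩ := Groth.Agent.S12124.result (A := A)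
  haveI := hCfin
  intro U U' hU hU' hWUU' hWU hWU'
  by_contra hcon
  rw [Set.not_nonempty_iff_eq_empty] at hcon
  obtain ⟨a₀, ha₀, ha₀0⟩ := exists_mem_maximalIdeal_ne_zero A hdim
  set φK : B →+* K ⊗[A] B :=
    (Algebra.TensorProduct.includeRight : B →ₐ[A] K ⊗[A] B).toRingHom with hφK
  -- the image of `Spec (K ⊗ B)` lies in `W`
  have hunitK : ∀ a : A, a ≠ 0 → IsUnit (φK (algebraMap A B a)) := by
    intro a ha
    have h1 : φK (algebraMap A B a) = (algebraMap A K a) ⊗ₜ[A] (1 : B) := by
      show (1 : K) ⊗ₜ[A] (algebraMap A B a) = _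
      rw [Algebra.algebraMap_eq_smul_one, ← TensorProduct.smul_tmul, ← Algebra.algebraMap_eq_smul_one]
    rw [h1]
    have h2 : IsUnit (algebraMap A K a) :=
      IsUnit.mk0 _ (fun h0 => ha ((map_eq_zero_iff _ (IsFractionRing.injective A K)).mp h0))
    exact h2.map (Algebra.TensorProduct.includeLeft : K →ₐ[A] K ⊗[A] B)
  have hrangeK : ∀ Q : PrimeSpectrum (K ⊗[A] B), PrimeSpectrum.comap φK Q ∈ W := by
    intro Q
    apply hW a₀ ha₀ ha₀0
    rw [SetLike.mem_coe, PrimeSpectrum.mem_basicOpen]
    intro hmem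
    have h1 : φK (algebraMap A B a₀) ∈ Q.asIdeal := hmem
    exact Q.2.ne_top (Ideal.eq_top_of_isUnit_mem _ h1 (hunitK a₀ ha₀0))
  -- the clopen subset of the generic fibre and its idempotent
  let S : Set (PrimeSpectrum (K ⊗[A] B)) := PrimeSpectrum.comap φK ⁻¹' U
  have hSo : IsOpen S := hU.preimage (PrimeSpectrum.continuous_comap φK)
  have hSc : Sᶜ = PrimeSpectrum.comap φK ⁻¹' U' := by
    ext Q
    constructor
    · intro hQ
      rcases hWUU' (hrangeK Q) with h | h
      · exact absurd h hQ
      · exact h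
    · intro hQ hQ'
      have : PrimeSpectrum.comap φK Q ∈ W ∩ (U ∩ U') := ⟨hrangeK Q, hQ', hQ⟩
      rw [hcon] at this
      exact this
  have hScl : IsClosed S := by
    rw [← isOpen_compl_iff, hSc]
    exact hU'.preimage (PrimeSpectrum.continuous_comap φK)
  obtain ⟨e, he, hSeq⟩ := PrimeSpectrum.exists_idempotent_basicOpen_eq_of_isClopen ⟨hScl, hSo⟩
  have heU : ∀ Q : PrimeSpectrum (K ⊗[A] B), e ∉ Q.asIdeal ↔ PrimeSpectrum.comap φK Q ∈ U := by
    intro Q
    rw [← PrimeSpectrum.mem_basicOpen, ← SetLike.mem_coe, ← hSeq]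
    rfl
  -- `e` comes from `N ⊗ B`
  have hmem := mem_range_integralClosure A K B C hV hN hfin e (by
    intro p _ hp V _ hAV hVx
    apply mem_range_vsub_of_mem_range_iotaV
    letI : Algebra A V := ((algebraMap A K).codRestrict V hAV).toAlgebra
    haveI : IsScalarTower A V K := IsScalarTower.of_algebraMap_eq (fun a => rfl)
    obtain ⟨a, ha, ha0, hap⟩ := exists_notMem_of_height_eq_one A hdim C p hp
    have haK : algebraMap A K a ≠ 0 :=
      fun h0 => ha0 ((map_eq_zero_iff _ (IsFractionRing.injective A K)).mp h0)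
    have hainv : (algebraMap A K a)⁻¹ ∈ V := by
      rw [hVx]
      refine ⟨algebraMap A C a, hap, ?_⟩
      have : ((algebraMap A C a : C) : K) * (algebraMap A K a)⁻¹ = 1 := by
        show algebraMap A K a * (algebraMap A K a)⁻¹ = 1
        exact mul_inv_cancel₀ haK
      rw [this]
      exact isIntegral_one
    have hunitV : IsUnit (algebraMap A V a) := by
      refine IsUnit.of_mul_eq_one ⟨(algebraMap A K a)⁻¹, hainv⟩ ?_
      apply Subtype.ext
      show algebraMap A K a * (algebraMap A K a)⁻¹ = 1
      exact mul_inv_cancel₀ haK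
    have hrangeV : ∀ Q : PrimeSpectrum (V ⊗[A] B), PrimeSpectrum.comap
        (Algebra.TensorProduct.includeRight : B →ₐ[A] V ⊗[A] B).toRingHom Q ∈ W := by
      intro Q
      apply hW a ha ha0
      rw [SetLike.mem_coe, PrimeSpectrum.mem_basicOpen]
      intro hmem
      have h1 : (Algebra.TensorProduct.includeRight : B →ₐ[A] V ⊗[A] B) (algebraMap A B a) ∈
          Q.asIdeal := hmem
      have h2 : (Algebra.TensorProduct.includeRight : B →ₐ[A] V ⊗[A] B) (algebraMap A B a) =
          (Algebra.TensorProduct.includeLeft : V →ₐ[A] V ⊗[A] B) (algebraMap A V a) := by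
        rw [AlgHom.commutes, AlgHom.commutes]
      rw [h2] at h1
      exact Q.2.ne_top (Ideal.eq_top_of_isUnit_mem _ h1 (hunitV.map _))
    refine mem_range_iotaV_of_clopen A K B V U U' hU hU' (fun Q => hWUU' (hrangeV Q)) ?_ e he heU
    intro Q hQ
    have : PrimeSpectrum.comap
        (Algebra.TensorProduct.includeRight : B →ₐ[A] V ⊗[A] B).toRingHom Q ∈ W ∩ (U ∩ U') :=
      ⟨hrangeV Q, hQ⟩
    rw [hcon] at this
    exact this)
  obtain ⟨e', he'⟩ := hmem
  -- `N ⊗ B` is local
  haveI : Algebra.IsIntegral A N := inferInstance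
  haveI : IsDomain N := inferInstance
  haveI := nontrivial_tensor A B N
  haveI : IsLocalRing (N ⊗[A] B) :=
    Groth.Agent.Lib.Helper8.UnibranchHens.isLocalRing_tensor_of_purelyInseparable A N B hpi
  let ιN : N ⊗[A] B →ₐ[A] K ⊗[A] B :=
    Algebra.TensorProduct.map (integralClosure A K).val (AlgHom.id A B)
  have hιN : Function.Injective ιN := by
    have h1 := Module.Flat.rTensor_preserves_injective_linearMap (M := B)
      ((integralClosure A K).val.toLinearMap) Subtype.val_injective
    intro a b hab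
    exact h1 hab
  have he'' : ιN e' = e := he'
  have hidem : IsIdempotentElem e' := by
    apply hιN
    rw [map_mul, he'']
    exact he.eq
  have hgm : GeneralizingMap (PrimeSpectrum.comap (algebraMap A B)) :=
    Algebra.HasGoingDown.iff_generalizingMap_primeSpectrumComap.mp inferInstance
  let p₀ : PrimeSpectrum A := ⟨⊥, Ideal.isPrime_bot⟩
  have hp₀ : ∀ p : PrimeSpectrum A, p₀ ⤳ p := fun p =>
    (PrimeSpectrum.le_iff_specializes _ _).mp bot_le
  have hlift : ∀ q : PrimeSpectrum B, ∃ Q : PrimeSpectrum (K ⊗[A] B),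
      PrimeSpectrum.comap φK Q ⤳ q := by
    intro q
    obtain ⟨q', hq', hq'p⟩ := hgm (hp₀ (PrimeSpectrum.comap (algebraMap A B) q))
    have h1 : q'.asIdeal.comap (algebraMap A B) = ⊥ := congrArg PrimeSpectrum.asIdeal hq'p
    obtain ⟨Q, hQ⟩ := exists_comap_includeRight_eq A B q' h1
    exact ⟨Q, hQ ▸ hq'⟩
  rcases trivIdem_of_isLocalRing (N ⊗[A] B) e' hidem with h0 | h1
  · -- `e = 0`
    obtain ⟨q, -, hqU⟩ := hWU
    obtain ⟨Q, hQ⟩ := hlift q
    have h2 : PrimeSpectrum.comap φK Q ∈ U := hQ.mem_open hU hqU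
    have h3 : e ∉ Q.asIdeal := (heU Q).mpr h2
    apply h3
    rw [← he'', h0, map_zero]
    exact Ideal.zero_mem _
  · -- `e = 1`
    obtain ⟨q, -, hqU'⟩ := hWU'
    obtain ⟨Q, hQ⟩ := hlift q
    have h2 : PrimeSpectrum.comap φK Q ∈ U' := hQ.mem_open hU' hqU'
    have h3 : e ∉ Q.asIdeal := by
      rw [← he'', h1, map_one]
      exact fun h => Q.2.ne_top ((Ideal.eq_top_iff_one _).mpr h)
    have h4 : PrimeSpectrum.comap φK Q ∈ U := (heU Q).mp h3
    have : PrimeSpectrum.comap φK Q ∈ W ∩ (U ∩ U') := ⟨hrangeK Q, h4, h2⟩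
    rw [hcon] at this
    exact this

end Groth.Agent.Lib.Helper27.FibConn
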