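import Groth.Agent.Lib.Helper27.FibConnM

/-!
# Local-to-global connectedness on locally Noetherian schemes

An open subset `W` of a connected locally Noetherian scheme is connected as soon as every point has
a generization in `W` and the preimage of `W` in each `Spec 𝒪_{X,x}` is preconnected.
-/

set_option autoImplicit false
set_option linter.style.haveILetI false
set_option linter.unusedSectionVars false

universe u

namespace Groth.Agent.Lib.Helper27.FibConn

open CategoryTheory CategoryTheory.Limits AlgebraicGeometry TopologicalSpace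

theorem isConnected_of_local {X : Scheme.{u}} [IsLocallyNoetherian X] [ConnectedSpace ↥X]
    (W : Set X) (hW : IsOpen W) (hgen : ∀ x : X, ∃ ξ ∈ W, ξ ⤳ x)
    (hloc : ∀ x : X, _root_.IsPreconnected ((X.fromSpecStalk x) ⁻¹' W)) :
    _root_.IsConnected W := by
  classical
  refine ⟨?_, ?_⟩
  · obtain ⟨x⟩ := (inferInstance : Nonempty X)
    obtain ⟨ξ, hξ, -⟩ := hgen x
    exact ⟨ξ, hξ⟩
  · intro U V hU hV hWUV hWU hWV
    by_contra hcon
    rw [Set.not_nonempty_iff_eq_empty] at hcon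
    have hU' : IsOpen (W ∩ U) := hW.inter hU
    have hV' : IsOpen (W ∩ V) := hW.inter hV
    have hcover : (Set.univ : Set X) ⊆ closure (W ∩ U) ∪ closure (W ∩ V) := by
      intro x _
      obtain ⟨ξ, hξ, hξx⟩ := hgen x
      rcases hWUV hξ with h | h
      · exact Or.inl (hξx.mem_closed isClosed_closure (subset_closure ⟨hξ, h⟩))
      · exact Or.inr (hξx.mem_closed isClosed_closure (subset_closure ⟨hξ, h⟩))
    obtain ⟨x, -, hx1, hx2⟩ := isPreconnected_closed_iff.mp
      (isPreconnected_univ (α := X)) _ _ isClosed_closure isClosed_closure hcover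
      (by obtain ⟨z, hz⟩ := hWU; exact ⟨z, trivial, subset_closure hz⟩)
      (by obtain ⟨z, hz⟩ := hWV; exact ⟨z, trivial, subset_closure hz⟩)
    obtain ⟨ξ₁, hξ₁U, hξ₁x⟩ := exists_generization_mem_of_mem_closure' ⟨W ∩ U, hU'⟩ x hx1
    obtain ⟨ξ₂, hξ₂V, hξ₂x⟩ := exists_generization_mem_of_mem_closure' ⟨W ∩ V, hV'⟩ x hx2
    obtain ⟨q₁, rfl⟩ : ξ₁ ∈ Set.range (X.fromSpecStalk x) := by
      rw [Scheme.range_fromSpecStalk]; exact hξ₁x
    obtain ⟨q₂, rfl⟩ : ξ₂ ∈ Set.range (X.fromSpecStalk x) := by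
      rw [Scheme.range_fromSpecStalk]; exact hξ₂x
    obtain ⟨q, hqW, hqU, hqV⟩ := hloc x ((X.fromSpecStalk x) ⁻¹' U) ((X.fromSpecStalk x) ⁻¹' V)
      (hU.preimage (X.fromSpecStalk x).continuous) (hV.preimage (X.fromSpecStalk x).continuous)
      (fun q hq => hWUV hq) ⟨q₁, hξ₁U.1, hξ₁U.2⟩ ⟨q₂, hξ₂V.1, hξ₂V.2⟩
    have hmem : (X.fromSpecStalk x) q ∈ W ∩ (U ∩ V) := ⟨hqW, hqU, hqV⟩
    rw [hcon] at hmem
    exact hmem

end Groth.Agent.Lib.Helper27.FibConn
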