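import Groth.Agent.Lib.Helper27.FibConnS
import Groth.Agent.Lib.Helper27.FibConnT

/-!
# Flat schemes over a geometrically unibranch local domain of dimension at least two
-/

set_option autoImplicit false
set_option linter.style.haveILetI false
set_option linter.unusedSectionVars false

universe u

namespace Groth.Agent.Lib.Helper27.FibConn

open CategoryTheory CategoryTheory.Limits AlgebraicGeometry TopologicalSpace IsLocalRing
open Groth.Agent.Lib.Helper9.GeomLib

variable (A : Type u) [CommRing A] [IsDomain A] [IsNoetherianRing A] [IsLocalRing A]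

set_option maxHeartbeats 1600000 in
theorem isPreconnected_preimage_fromSpecStalk_of_dim_two
    [IsLocalRing (integralClosure A (FractionRing A))]
    (hpi : ∀ x : integralClosure A (FractionRing A) ⧸
        maximalIdeal (integralClosure A (FractionRing A)),
      ∃ n : ℕ, x ^ (ringExpChar (integralClosure A (FractionRing A) ⧸
        maximalIdeal (integralClosure A (FractionRing A)))) ^ n ∈
        ((Ideal.Quotient.mk (maximalIdeal (integralClosure A (FractionRing A)))).comp
          (algebraMap A (integralClosure A (FractionRing A)))).range)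
    (hdim : 2 ≤ ringKrullDim A)
    {X : Scheme.{u}} [IsLocallyNoetherian X] (f : X ⟶ Spec (CommRingCat.of A)) [Flat f]
    (T : Set ↥X) (hTy : ∀ x ∈ T, f x = IsLocalRing.closedPoint A) (x : X) :
    _root_.IsPreconnected ((X.fromSpecStalk x) ⁻¹' Tᶜ) := by
  by_cases hx : f x = IsLocalRing.closedPoint A
  · -- the interesting case
    let ψ : A →+* X.presheaf.stalk x :=
      (f.stalkMap x).hom.comp (StructureSheaf.toStalk A (f x)).hom
    have hψflat : ψ.Flat := by
      refine RingHom.Flat.comp ?_ (Flat.stalkMap f x)
      show (algebraMap A ((Spec.structureSheaf A).presheaf.stalk (f x))).Flat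
      rw [RingHom.flat_algebraMap_iff]
      exact IsLocalization.flat _ (f x).asIdeal.primeCompl
    have hloc1 : IsLocalHom (StructureSheaf.toStalk A (f x)).hom := by
      constructor
      intro a ha
      have h1 : IsUnit (algebraMap A ((Spec.structureSheaf A).presheaf.stalk (f x)) a) := ha
      rw [IsLocalization.AtPrime.isUnit_to_map_iff _ (f x).asIdeal] at h1
      have h2 : a ∉ maximalIdeal A := by
        have : (f x).asIdeal = maximalIdeal A := by rw [hx]; rfl
        rw [← this]
        exact h1
      by_contra hnu
      exact h2 ((IsLocalRing.mem_maximalIdeal a).mpr hnu)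
    haveI : IsLocalHom ψ := by
      constructor
      intro a ha
      have h1 : IsUnit ((f.stalkMap x).hom ((StructureSheaf.toStalk A (f x)).hom a)) := ha
      have h2 := (isUnit_map_iff (f.stalkMap x).hom _).mp h1
      exact hloc1.map_nonunit a h2
    letI : Algebra A (X.presheaf.stalk x) := ψ.toAlgebra
    haveI : Module.Flat A (X.presheaf.stalk x) := hψflat
    haveI : IsLocalHom (algebraMap A (X.presheaf.stalk x)) := ‹IsLocalHom ψ›
    refine isPreconnected_of_basicOpen_subset A (X.presheaf.stalk x) hpi hdim _ ?_
    intro a ha ha0 q hq hqT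
    have hqT' : (X.fromSpecStalk x) q ∈ T := hqT
    have h1 := hTy _ hqT'
    -- the image of `q` in `Spec A`
    have hc : Spec.map (f.stalkMap x) ≫ (Spec (CommRingCat.of A)).fromSpecStalk (f x) =
        X.fromSpecStalk x ≫ f := Scheme.SpecMap_stalkMap_fromSpecStalk f
    rw [Spec.fromSpecStalk_eq'] at hc
    have h2 : f ((X.fromSpecStalk x) q) =
        (Spec.map (StructureSheaf.toStalk (CommRingCat.of A) (f x)))
          ((Spec.map (f.stalkMap x)) q) := by
      rw [← Scheme.Hom.comp_apply, ← hc]
      rfl
    rw [h2] at h1
    have h3 : a ∈ (IsLocalRing.closedPoint A).asIdeal := ha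
    rw [← h1] at h3
    have h4 : ψ a ∈ (show PrimeSpectrum (X.presheaf.stalk x) from q).asIdeal := h3
    rw [SetLike.mem_coe, PrimeSpectrum.mem_basicOpen] at hq
    exact hq h4
  · -- no generization of `x` lies in `T`
    have huniv : (X.fromSpecStalk x) ⁻¹' Tᶜ = Set.univ := by
      rw [Set.eq_univ_iff_forall]
      intro q hqT
      have hqT' : (X.fromSpecStalk x) q ∈ T := hqT
      have h1 := hTy _ hqT'
      have h2 : (X.fromSpecStalk x) q ⤳ x := by
        have : (X.fromSpecStalk x) q ∈ Set.range (X.fromSpecStalk x) := ⟨q, rfl⟩
        rwa [Scheme.range_fromSpecStalk] at this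
      have h3 : f ((X.fromSpecStalk x) q) ⤳ f x := h2.map f.continuous
      rw [h1] at h3
      have h4 : f x ∈ closure ({IsLocalRing.closedPoint A} : Set (PrimeSpectrum A)) :=
        specializes_iff_mem_closure.mp h3
      rw [(IsLocalRing.isClosed_singleton_closedPoint A).closure_eq] at h4
      exact hx h4
    rw [huniv]
    haveI : ConnectedSpace ↥(Spec (X.presheaf.stalk x)) :=
      show ConnectedSpace (PrimeSpectrum (X.presheaf.stalk x)) from
        (Groth.Agent.Lib.Helper9.GeomLib.connectedSpace_iff _).mpr
          ⟨inferInstance, trivIdem_of_isLocalRing _⟩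
    exact isPreconnected_univ

end Groth.Agent.Lib.Helper27.FibConn
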