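import Groth.Agent.Lib.Helper27.FibConnU
import Groth.Prelude.Def_CAlg2

/-!
# Flat schemes over a geometrically unibranch local domain of dimension at least two: main theorem
-/

set_option autoImplicit false
set_option linter.style.haveILetI false
set_option linter.unusedSectionVars false

universe u

namespace Groth.Agent.Lib.Helper27.FibConn

open CategoryTheory CategoryTheory.Limits AlgebraicGeometry TopologicalSpace IsLocalRing
open Groth.Agent.Lib.Helper9.GeomLib

set_option maxHeartbeats 1600000 in
theorem isConnected_compl_of_dim_two (A : Type u) [CommRing A] [IsDomain A] [IsNoetherianRing A]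
    [IsLocalRing A] [IsLocalRing (integralClosure A (FractionRing A))]
    (hpi : ∀ x : integralClosure A (FractionRing A) ⧸
        maximalIdeal (integralClosure A (FractionRing A)),
      ∃ n : ℕ, x ^ (ringExpChar (integralClosure A (FractionRing A) ⧸
        maximalIdeal (integralClosure A (FractionRing A)))) ^ n ∈
        ((Ideal.Quotient.mk (maximalIdeal (integralClosure A (FractionRing A)))).comp
          (algebraMap A (integralClosure A (FractionRing A)))).range)
    (hdim : 2 ≤ ringKrullDim A)
    {X : Scheme.{u}} [IsLocallyNoetherian X] [ConnectedSpace ↥X]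
    (f : X ⟶ Spec (CommRingCat.of A)) [Flat f]
    (T : Set ↥X) (hT : IsClosed T) (hTy : ∀ x ∈ T, f x = IsLocalRing.closedPoint A) :
    _root_.IsConnected Tᶜ := by
  refine isConnected_of_local Tᶜ hT.isOpen_compl ?_
    (fun x => isPreconnected_preimage_fromSpecStalk_of_dim_two A hpi hdim f T hTy x)
  intro x
  let η : ↥(Spec (CommRingCat.of A)) := (⟨⊥, Ideal.isPrime_bot⟩ : PrimeSpectrum A)
  have hη : η ⤳ f x :=
    (PrimeSpectrum.le_iff_specializes (⟨⊥, Ideal.isPrime_bot⟩ : PrimeSpectrum A)
      (show PrimeSpectrum A from f x)).mp bot_le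
  obtain ⟨ξ, hξ, hfξ⟩ := (Flat.generalizingMap f) hη
  refine ⟨ξ, ?_, hξ⟩
  intro hξT
  have h1 := hTy ξ hξT
  rw [hfξ] at h1
  obtain ⟨a, ha, ha0⟩ := exists_mem_maximalIdeal_ne_zero A hdim
  have h2 : a ∈ (IsLocalRing.closedPoint A).asIdeal := ha
  rw [← h1] at h2
  exact ha0 ((Ideal.mem_bot).mp h2)

set_option maxHeartbeats 1600000 in
theorem isConnected_compl_of_isGeomUnibranch_dim_two (A : Type u) [CommRing A]
    [IsNoetherianRing A] [IsLocalRing A] [IsDomain A] (hA : CAlg2.IsGeomUnibranch A)
    (hdim : 2 ≤ ringKrullDim A)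
    {X : Scheme.{u}} [IsLocallyNoetherian X] [ConnectedSpace ↥X]
    (f : X ⟶ Spec (CommRingCat.of A)) [Flat f]
    (T : Set ↥X) (hT : IsClosed T) (hTy : ∀ x ∈ T, f x = IsLocalRing.closedPoint A) :
    _root_.IsConnected Tᶜ := by
  haveI hdom : IsDomain (A ⧸ nilradical A) := hA.1.1
  haveI hloc : IsLocalRing (integralClosure (A ⧸ nilradical A)
      (FractionRing (A ⧸ nilradical A))) := hA.1.2
  haveI : IsLocalRing (A ⧸ nilradical A) :=
    IsLocalRing.of_surjective' (Ideal.Quotient.mk (nilradical A)) Ideal.Quotient.mk_surjective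
  have hnil : nilradical A = ⊥ := nilradical_eq_zero A
  have hinj : Function.Injective (Ideal.Quotient.mk (nilradical A)) := by
    rw [RingHom.injective_iff_ker_eq_bot, Ideal.mk_ker, hnil]
  let e : A ≃+* A ⧸ nilradical A :=
    RingEquiv.ofBijective (Ideal.Quotient.mk (nilradical A)) ⟨hinj, Ideal.Quotient.mk_surjective⟩
  let g : Spec (CommRingCat.of A) ⟶ Spec (CommRingCat.of (A ⧸ nilradical A)) :=
    Spec.map (e.symm.toCommRingCatIso.hom)
  haveI : IsIso g := inferInstance
  haveI : Flat (f ≫ g) := inferInstance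
  have hpi' : ∀ x : integralClosure (A ⧸ nilradical A) (FractionRing (A ⧸ nilradical A)) ⧸
        maximalIdeal (integralClosure (A ⧸ nilradical A) (FractionRing (A ⧸ nilradical A))),
      ∃ n : ℕ, x ^ (ringExpChar (integralClosure (A ⧸ nilradical A)
        (FractionRing (A ⧸ nilradical A)) ⧸
        maximalIdeal (integralClosure (A ⧸ nilradical A) (FractionRing (A ⧸ nilradical A))))) ^ n ∈
        ((Ideal.Quotient.mk (maximalIdeal (integralClosure (A ⧸ nilradical A)
          (FractionRing (A ⧸ nilradical A))))).comp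
          (algebraMap (A ⧸ nilradical A) (integralClosure (A ⧸ nilradical A)
            (FractionRing (A ⧸ nilradical A))))).range := by
    intro x
    obtain ⟨n, a, ha⟩ := hA.2 (maximalIdeal _) x
    exact ⟨n, Ideal.Quotient.mk (nilradical A) a, ha⟩
  have hdim' : 2 ≤ ringKrullDim (A ⧸ nilradical A) := by
    rw [← ringKrullDim_eq_of_ringEquiv e]
    exact hdim
  refine isConnected_compl_of_dim_two (A ⧸ nilradical A) hpi' hdim' (f ≫ g) T hT ?_
  intro x hx
  rw [Scheme.Hom.comp_apply, hTy x hx]
  haveI : IsLocalHom e.symm.toRingHom := ⟨fun a ha => by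
    have h1 : IsUnit (e (e.symm.toRingHom a)) := ha.map e
    have h2 : e (e.symm.toRingHom a) = a := e.apply_symm_apply a
    rwa [h2] at h1⟩
  exact IsLocalRing.comap_closedPoint e.symm.toRingHom

end Groth.Agent.Lib.Helper27.FibConn
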