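import Mathlib

/-! Fibre dimension `p ↦ dim_κ(p) κ(p) ⊗ N` of a finite module: upper semicontinuity and
constructibility of level sets (Noetherian base); right-exactness bookkeeping. -/

set_option autoImplicit false
set_option linter.style.haveILetI false
universe u v w
open TensorProduct

namespace Groth.Agent.Lib.Helper27.FibDim

section Field
variable {A : Type u} [CommRing A] (κ : Type v) [Field κ] [Algebra A κ]
variable {P : Type w} [AddCommGroup P] [Module A P]

theorem ker_baseChange_mkQ (U : Submodule A P) :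
    LinearMap.ker (LinearMap.baseChange κ U.mkQ) = U.baseChange κ := by
  have hex : Function.Exact (LinearMap.lTensor κ U.subtype) (LinearMap.lTensor κ U.mkQ) :=
    lTensor_exact κ (LinearMap.exact_subtype_mkQ U) (Submodule.mkQ_surjective U)
  ext x
  rw [LinearMap.mem_ker, Submodule.baseChange, LinearMap.mem_range]
  exact hex x

theorem baseChange_mkQ_surjective (U : Submodule A P) :
    Function.Surjective (LinearMap.baseChange κ U.mkQ) :=
  LinearMap.lTensor_surjective κ (Submodule.mkQ_surjective U)

theorem finrank_baseChange_add [Module.Finite A P] (U : Submodule A P) :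
    Module.finrank κ (U.baseChange κ) + Module.finrank κ (κ ⊗[A] (P ⧸ U))
      = Module.finrank κ (κ ⊗[A] P) := by
  have h := LinearMap.finrank_range_add_finrank_ker (LinearMap.baseChange κ U.mkQ)
  rw [ker_baseChange_mkQ, LinearMap.range_eq_top.mpr (baseChange_mkQ_surjective κ U),
    finrank_top] at h
  omega

theorem subsingleton_quot_of_baseChange_eq_top (U : Submodule A P) (hU : U.baseChange κ = ⊤) :
    Subsingleton (κ ⊗[A] (P ⧸ U)) := by
  have hsurj := baseChange_mkQ_surjective κ U
  have hker := ker_baseChange_mkQ κ U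
  rw [hU] at hker
  constructor
  intro x y
  obtain ⟨x', rfl⟩ := hsurj x
  obtain ⟨y', rfl⟩ := hsurj y
  have hx : x' ∈ LinearMap.ker (LinearMap.baseChange κ U.mkQ) := by rw [hker]; trivial
  have hy : y' ∈ LinearMap.ker (LinearMap.baseChange κ U.mkQ) := by rw [hker]; trivial
  rw [LinearMap.mem_ker.mp hx, LinearMap.mem_ker.mp hy]

theorem baseChange_eq_top_of_subsingleton (U : Submodule A P)
    (h : Subsingleton (κ ⊗[A] (P ⧸ U))) : U.baseChange κ = ⊤ := by
  rw [← ker_baseChange_mkQ]
  exact eq_top_iff.mpr fun x _ => LinearMap.mem_ker.mpr (Subsingleton.elim _ _)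

theorem finrank_le_of_subsingleton {d : ℕ} (n : Fin d → P)
    (h : Subsingleton (κ ⊗[A] (P ⧸ Submodule.span A (Set.range n)))) :
    Module.finrank κ (κ ⊗[A] P) ≤ d := by
  have h1 := baseChange_eq_top_of_subsingleton κ _ h
  rw [Submodule.baseChange_span, ← Set.range_comp] at h1
  calc Module.finrank κ (κ ⊗[A] P)
      = Module.finrank κ (⊤ : Submodule κ (κ ⊗[A] P)) := (finrank_top κ (κ ⊗[A] P)).symm
    _ = (Set.range (⇑(TensorProduct.mk A κ P 1) ∘ n)).finrank κ := by rw [← h1]; rfl
    _ ≤ Fintype.card (Fin d) := finrank_range_le_card _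
    _ = d := Fintype.card_fin d

theorem exists_of_finrank_le [Module.Finite A P] {d : ℕ}
    (h : Module.finrank κ (κ ⊗[A] P) ≤ d) :
    ∃ n : Fin d → P, Subsingleton (κ ⊗[A] (P ⧸ Submodule.span A (Set.range n))) := by
  set s : Set (κ ⊗[A] P) := Set.range (TensorProduct.mk A κ P 1) with hsdef
  have hs : Submodule.span κ s = ⊤ := by
    have h0 := Submodule.baseChange_top (R := A) (M := P) κ
    rw [← Submodule.span_univ, Submodule.baseChange_span, Set.image_univ] at h0
    exact h0
  obtain ⟨f, hf, hspan, -⟩ := Submodule.exists_fun_fin_finrank_span_eq κ s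
  have hd : Module.finrank κ (Submodule.span κ s) ≤ d := by rw [hs, finrank_top]; exact h
  have hspan' : Submodule.span κ (Set.range f) = ⊤ := hspan.trans hs
  choose g hg using hf
  let n : Fin d → P := fun i =>
    if hi : i.val < Module.finrank κ (Submodule.span κ s) then g ⟨i.val, hi⟩ else 0
  refine ⟨n, subsingleton_quot_of_baseChange_eq_top κ _ ?_⟩
  rw [eq_top_iff, ← hspan', Submodule.span_le]
  rintro _ ⟨i, rfl⟩
  rw [← hg i]
  refine Submodule.tmul_mem_baseChange_of_mem 1
    (Submodule.subset_span ⟨⟨i.val, lt_of_lt_of_le i.isLt hd⟩, ?_⟩)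
  simp only [n]
  rw [dif_pos i.isLt]

end Field

section Spec
variable {A : Type u} [CommRing A] (N : Type w) [AddCommGroup N] [Module A N]

theorem subsingleton_tensor_quot_top (κ : Type v) [Field κ] [Algebra A κ]
    (U : Submodule A N) (hU : U = ⊤) : Subsingleton (κ ⊗[A] (N ⧸ U)) := by
  haveI : Subsingleton (N ⧸ U) := Submodule.Quotient.subsingleton_iff.mpr hU
  have h0 : ∀ z : κ ⊗[A] (N ⧸ U), z = 0 := fun z => by
    induction z using TensorProduct.induction_on with
    | zero => rfl
    | tmul a b => rw [Subsingleton.elim b 0, TensorProduct.tmul_zero]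
    | add a b ha hb => rw [ha, hb, add_zero]
  exact ⟨fun x y => by rw [h0 x, h0 y]⟩

theorem setOf_fibreDim_le_eq [Module.Finite A N] (d : ℕ) :
    {p : PrimeSpectrum A | Module.finrank p.asIdeal.ResidueField
        (p.asIdeal.ResidueField ⊗[A] N) ≤ d}
      = ⋃ n : Fin d → N, (Module.support A (N ⧸ Submodule.span A (Set.range n)))ᶜ := by
  ext p
  simp only [Set.mem_setOf_eq, Set.mem_iUnion, Set.mem_compl_iff]
  constructor
  · intro h
    obtain ⟨n, hn⟩ := exists_of_finrank_le p.asIdeal.ResidueField h
    refine ⟨n, ?_⟩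
    rw [Module.mem_support_iff_nontrivial_residueField_tensorProduct,
      not_nontrivial_iff_subsingleton]
    exact hn
  · rintro ⟨n, hn⟩
    rw [Module.mem_support_iff_nontrivial_residueField_tensorProduct,
      not_nontrivial_iff_subsingleton] at hn
    exact finrank_le_of_subsingleton _ n hn

theorem isOpen_fibreDim_le [Module.Finite A N] (d : ℕ) :
    IsOpen {p : PrimeSpectrum A | Module.finrank p.asIdeal.ResidueField
        (p.asIdeal.ResidueField ⊗[A] N) ≤ d} := by
  rw [setOf_fibreDim_le_eq]
  exact isOpen_iUnion fun n => (Module.isClosed_support).isOpen_compl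

theorem isConstructible_fibreDim_eq [IsNoetherianRing A] [Module.Finite A N] (d : ℕ) :
    Topology.IsConstructible {p : PrimeSpectrum A | Module.finrank p.asIdeal.ResidueField
        (p.asIdeal.ResidueField ⊗[A] N) = d} := by
  have hopen : ∀ e : ℕ, Topology.IsConstructible
      {p : PrimeSpectrum A | Module.finrank p.asIdeal.ResidueField
        (p.asIdeal.ResidueField ⊗[A] N) ≤ e} := fun e =>
    (TopologicalSpace.NoetherianSpace.isCompact _).isConstructible (isOpen_fibreDim_le N e)
  cases d with
  | zero =>
    have : {p : PrimeSpectrum A | Module.finrank p.asIdeal.ResidueField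
        (p.asIdeal.ResidueField ⊗[A] N) = 0}
        = {p : PrimeSpectrum A | Module.finrank p.asIdeal.ResidueField
        (p.asIdeal.ResidueField ⊗[A] N) ≤ 0} := by
      ext p; simp only [Set.mem_setOf_eq, Nat.le_zero]
    rw [this]; exact hopen 0
  | succ d =>
    have : {p : PrimeSpectrum A | Module.finrank p.asIdeal.ResidueField
        (p.asIdeal.ResidueField ⊗[A] N) = d + 1}
        = {p : PrimeSpectrum A | Module.finrank p.asIdeal.ResidueField
            (p.asIdeal.ResidueField ⊗[A] N) ≤ d + 1} \
          {p : PrimeSpectrum A | Module.finrank p.asIdeal.ResidueField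
            (p.asIdeal.ResidueField ⊗[A] N) ≤ d} := by
      ext p; simp only [Set.mem_setOf_eq, Set.mem_diff]; omega
    rw [this]; exact (hopen _).sdiff (hopen _)

theorem exists_bound [Module.Finite A N] : ∃ B : ℕ, ∀ p : PrimeSpectrum A,
    Module.finrank p.asIdeal.ResidueField (p.asIdeal.ResidueField ⊗[A] N) ≤ B := by
  obtain ⟨B, s, hs⟩ := Module.Finite.exists_fin (R := A) (M := N)
  exact ⟨B, fun p => finrank_le_of_subsingleton _ s (subsingleton_tensor_quot_top N _ _ hs)⟩

end Spec

section Span
variable {A : Type u} [CommRing A] (κ : Type v) [Field κ] [Algebra A κ]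
  (S : Type w) [CommRing S] [Algebra A S]
  (Q : Type w) [AddCommGroup Q] [Module A Q] [Module S Q] [IsScalarTower A S Q]

/-- The span of the multiplication operators on the fibre has the dimension of the base change
of the submodule of `Q^t` spanned by `(s • q i)_i`. -/
theorem finrank_span_eq {t : ℕ} (q : Fin t → Q) (hq : Submodule.span A (Set.range q) = ⊤) :
    Module.finrank κ (Submodule.span κ (Set.range fun s : S =>
        LinearMap.baseChange κ (DistribSMul.toLinearMap A Q s)))
      = Module.finrank κ ((Submodule.span A (Set.range fun s : S =>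
          (fun i => s • q i : Fin t → Q))).baseChange κ) := by
  classical
  let Ψ : (κ ⊗[A] Q →ₗ[κ] κ ⊗[A] Q) →ₗ[κ] (Fin t → κ ⊗[A] Q) :=
    LinearMap.pi (fun i => LinearMap.applyₗ ((1 : κ) ⊗ₜ[A] q i))
  have hΨ : Function.Injective Ψ := by
    rw [injective_iff_map_eq_zero]
    intro g hg
    have hgi : ∀ i, g ((1 : κ) ⊗ₜ[A] q i) = 0 := fun i => congrFun hg i
    have h1 : (g.restrictScalars A) ∘ₗ (TensorProduct.mk A κ Q 1) = 0 :=
      LinearMap.ext_on_range hq (fun i => by simpa using hgi i)
    apply TensorProduct.AlgebraTensorModule.ext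
    intro a m
    have h2 : g ((1 : κ) ⊗ₜ[A] m) = 0 := LinearMap.congr_fun h1 m
    have h3 : a ⊗ₜ[A] m = a • ((1 : κ) ⊗ₜ[A] m) := by
      rw [TensorProduct.smul_tmul', smul_eq_mul, mul_one]
    rw [h3, map_smul, h2, smul_zero, LinearMap.zero_apply]
  let e : κ ⊗[A] (Fin t → Q) ≃ₗ[κ] (Fin t → κ ⊗[A] Q) :=
    TensorProduct.piRight A κ κ (fun _ : Fin t => Q)
  set W := Submodule.span κ (Set.range fun s : S =>
        LinearMap.baseChange κ (DistribSMul.toLinearMap A Q s)) with hW
  set U := Submodule.span A (Set.range fun s : S => (fun i => s • q i : Fin t → Q)) with hU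
  have h1 : W.map Ψ = (U.baseChange κ).map e.toLinearMap := by
    rw [hW, hU, Submodule.baseChange_span, Submodule.map_span, Submodule.map_span,
      ← Set.range_comp, ← Set.range_comp, ← Set.range_comp]
    congr 2
  calc Module.finrank κ W = Module.finrank κ (W.map Ψ) :=
        (Submodule.equivMapOfInjective Ψ hΨ W).finrank_eq
    _ = Module.finrank κ ((U.baseChange κ).map e.toLinearMap) := by rw [h1]
    _ = Module.finrank κ (U.baseChange κ) := LinearEquiv.finrank_map_eq e _

end Span

end Groth.Agent.Lib.Helper27.FibDim
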