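import Mathlib

set_option autoImplicit false

namespace Groth.Agent.Lib.Helper27.FinExt

theorem exists_pow_mul_mem_range (A' A : Type*) [CommRing A'] [CommRing A] [Algebra A' A]
    [Module.Finite A' A] (f : A')
    (hf : algebraMap A' A f ∈ nonZeroDivisors A)
    (hloc : Function.Surjective (IsLocalization.Away.map (Localization.Away f)
      (Localization.Away (algebraMap A' A f)) (algebraMap A' A) f)) :
    ∃ c : ℕ, ∀ a : A, ∃ a' : A', algebraMap A' A a' = algebraMap A' A f ^ c * a := by
  classical
  set F := algebraMap A' A f with hF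
  have hinj : Function.Injective (algebraMap A (Localization.Away F)) :=
    IsLocalization.injective _ (Submonoid.powers_le.mpr hf)
  have h1 : ∀ a : A, ∃ (k : ℕ) (a' : A'), algebraMap A' A a' = F ^ k * a := by
    intro a
    obtain ⟨z, hz⟩ := hloc (algebraMap A (Localization.Away F) a)
    obtain ⟨k, a', hk⟩ := IsLocalization.Away.surj f z
    refine ⟨k, a', hinj ?_⟩
    have h2 := congrArg (IsLocalization.Away.map (Localization.Away f)
      (Localization.Away F) (algebraMap A' A) f) hk
    rw [map_mul, map_pow, hz] at h2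
    simp only [IsLocalization.Away.map, IsLocalization.map_eq] at h2
    rw [map_mul, map_pow, mul_comm, ← h2]
  choose k a' hka using h1
  obtain ⟨s, hs⟩ := Module.Finite.fg_top (R := A') (M := A)
  refine ⟨s.sup k, fun a => ?_⟩
  have ha : a ∈ Submodule.span A' (s : Set A) := hs ▸ Submodule.mem_top
  induction ha using Submodule.span_induction with
  | mem x hx =>
    refine ⟨f ^ (s.sup k - k x) * a' x, ?_⟩
    rw [map_mul, map_pow, hka, ← mul_assoc, ← pow_add, Nat.sub_add_cancel (Finset.le_sup hx)]
  | zero => exact ⟨0, by simp⟩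
  | add x y _ _ hx hy =>
    obtain ⟨x', hx'⟩ := hx
    obtain ⟨y', hy'⟩ := hy
    exact ⟨x' + y', by rw [map_add, hx', hy', mul_add]⟩
  | smul r x _ hx =>
    obtain ⟨x', hx'⟩ := hx
    exact ⟨r * x', by rw [map_mul, hx', Algebra.smul_def]; ring⟩

end Groth.Agent.Lib.Helper27.FinExt
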