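import Mathlib

set_option autoImplicit false

namespace Groth.Agent.Lib.Helper27.FinExt

universe u

structure Data (A' A B' : Type u) [CommRing A'] [CommRing A] [Algebra A' A] [CommRing B'] where
  f : A'
  hinj : Function.Injective (algebraMap A' A)
  hf : algebraMap A' A f ∈ nonZeroDivisors A
  c : ℕ
  θ : A → A'
  hθ : ∀ a, algebraMap A' A (θ a) = algebraMap A' A f ^ c * a
  n : ℕ
  hn : 2 * c + 1 ≤ n
  g : B'
  hg : g ∈ nonZeroDivisors B'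
  φ' : (A' ⧸ Ideal.span {f ^ n}) ≃+* (B' ⧸ Ideal.span {g ^ n})
  hφ' : φ' (Ideal.Quotient.mk _ f) = Ideal.Quotient.mk _ g

namespace Data

variable {A' A B' : Type u} [CommRing A'] [CommRing A] [Algebra A' A] [CommRing B']
  (D : Data A' A B')

theorem θ_add (a b : A) : D.θ (a + b) = D.θ a + D.θ b :=
  D.hinj (by rw [map_add, D.hθ, D.hθ, D.hθ, mul_add])

theorem θ_mul (a b : A) : D.θ a * D.θ b = D.f ^ D.c * D.θ (a * b) :=
  D.hinj (by rw [map_mul, map_mul, map_pow, D.hθ, D.hθ, D.hθ]; ring)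

theorem θ_one : D.θ 1 = D.f ^ D.c :=
  D.hinj (by rw [D.hθ, map_pow, mul_one])

theorem θ_zero : D.θ 0 = 0 :=
  D.hinj (by rw [D.hθ, map_zero, mul_zero])

theorem θ_algebraMap (a' : A') : D.θ (algebraMap A' A a') = D.f ^ D.c * a' :=
  D.hinj (by rw [D.hθ, map_mul, map_pow])

theorem θ_smul (a' : A') (a : A) : D.θ (a' • a) = a' * D.θ a :=
  D.hinj (by rw [D.hθ, map_mul, D.hθ, Algebra.smul_def]; ring)

/-- the correspondence induced by `φ'`. -/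
def Rel (a' : A') (b' : B') : Prop :=
  D.φ' (Ideal.Quotient.mk _ a') = Ideal.Quotient.mk _ b'

theorem Rel.add {a₁ a₂ : A'} {b₁ b₂ : B'} (h₁ : D.Rel a₁ b₁) (h₂ : D.Rel a₂ b₂) :
    D.Rel (a₁ + a₂) (b₁ + b₂) := by
  unfold Rel at *
  rw [map_add, map_add, map_add, h₁, h₂]

theorem Rel.mul {a₁ a₂ : A'} {b₁ b₂ : B'} (h₁ : D.Rel a₁ b₁) (h₂ : D.Rel a₂ b₂) :
    D.Rel (a₁ * a₂) (b₁ * b₂) := by
  unfold Rel at *
  rw [map_mul, map_mul, map_mul, h₁, h₂]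

theorem rel_zero : D.Rel 0 0 := by
  unfold Rel; rw [map_zero, map_zero, map_zero]

theorem rel_f : D.Rel D.f D.g := D.hφ'

theorem rel_pow (k : ℕ) : D.Rel (D.f ^ k) (D.g ^ k) := by
  unfold Rel; rw [map_pow, map_pow, map_pow, D.hφ']

theorem exists_rel_right (a' : A') : ∃ b' : B', D.Rel a' b' := by
  obtain ⟨b', hb'⟩ := Ideal.Quotient.mk_surjective (D.φ' (Ideal.Quotient.mk _ a'))
  exact ⟨b', hb'.symm⟩

theorem exists_rel_left (b' : B') : ∃ a' : A', D.Rel a' b' := by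
  obtain ⟨a', ha'⟩ := Ideal.Quotient.mk_surjective (D.φ'.symm (Ideal.Quotient.mk _ b'))
  refine ⟨a', ?_⟩
  unfold Rel
  rw [ha', RingEquiv.apply_symm_apply]

theorem Rel.unique_right {a' : A'} {b₁ b₂ : B'} (h₁ : D.Rel a' b₁) (h₂ : D.Rel a' b₂) :
    ∃ b : B', b₁ = b₂ + D.g ^ D.n * b := by
  unfold Rel at *
  have h := h₁.symm.trans h₂
  rw [Ideal.Quotient.eq, Ideal.mem_span_singleton'] at h
  obtain ⟨b, hb⟩ := h
  exact ⟨b, by rw [mul_comm, hb]; ring⟩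

theorem Rel.unique_left {a₁ a₂ : A'} {b' : B'} (h₁ : D.Rel a₁ b') (h₂ : D.Rel a₂ b') :
    ∃ a : A', a₁ = a₂ + D.f ^ D.n * a := by
  unfold Rel at *
  have h := D.φ'.injective (h₁.trans h₂.symm)
  rw [Ideal.Quotient.eq, Ideal.mem_span_singleton'] at h
  obtain ⟨a, ha⟩ := h
  exact ⟨a, by rw [mul_comm, ha]; ring⟩

theorem rel_pow_mul_right {a' : A'} {b' : B'} (h : D.Rel a' b') (b : B') :
    D.Rel a' (b' + D.g ^ D.n * b) := by
  unfold Rel at *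
  rw [h, eq_comm, Ideal.Quotient.eq, Ideal.mem_span_singleton']
  exact ⟨b, by ring⟩

/-- the ideal of `B'` corresponding to `f^c A ⊆ A'`. -/
def J' : Ideal B' where
  carrier := {b' | ∃ a : A, D.Rel (D.θ a) b'}
  add_mem' := by
    rintro x y ⟨a, ha⟩ ⟨b, hb⟩
    exact ⟨a + b, by rw [D.θ_add]; exact ha.add D hb⟩
  zero_mem' := ⟨0, by rw [D.θ_zero]; exact D.rel_zero⟩
  smul_mem' := by
    rintro r x ⟨a, ha⟩
    obtain ⟨r', hr'⟩ := D.exists_rel_left r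
    exact ⟨r' • a, by rw [D.θ_smul, smul_eq_mul]; exact hr'.mul D ha⟩

theorem mem_J' {b' : B'} : b' ∈ D.J' ↔ ∃ a : A, D.Rel (D.θ a) b' := Iff.rfl

theorem pow_c_mem_J' : D.g ^ D.c ∈ D.J' := ⟨1, by rw [D.θ_one]; exact D.rel_pow _⟩

theorem pow_mul_mem_J' {k : ℕ} (hk : D.c ≤ k) (b : B') : D.g ^ k * b ∈ D.J' := by
  obtain ⟨m, rfl⟩ := Nat.exists_eq_add_of_le hk
  rw [pow_add, mul_assoc]
  exact Ideal.mul_mem_right _ _ D.pow_c_mem_J'

/-- the localisation of `B'`. -/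
abbrev S := Localization.Away D.g

theorem ι_injective : Function.Injective (algebraMap B' D.S) :=
  IsLocalization.injective _ (Submonoid.powers_le.mpr D.hg)

theorem isUnit_ι_g : IsUnit (algebraMap B' D.S D.g) :=
  IsLocalization.Away.algebraMap_isUnit D.g

/-- products in `J'`. -/
theorem exists_mul_eq' {a₁ a₂ : A} {x y : B'} (h₁ : D.Rel (D.θ a₁) x) (h₂ : D.Rel (D.θ a₂) y) :
    ∃ z b : B', D.Rel (D.θ (a₁ * a₂)) z ∧ x * y = D.g ^ D.c * (z + D.g ^ (D.n - D.c) * b) := by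
  obtain ⟨j₃, h₃⟩ := D.exists_rel_right (D.θ (a₁ * a₂))
  have h4 : D.Rel (D.θ a₁ * D.θ a₂) (x * y) := h₁.mul D h₂
  have h5 : D.Rel (D.θ a₁ * D.θ a₂) (D.g ^ D.c * j₃) := by
    rw [D.θ_mul]; exact (D.rel_pow _).mul D h₃
  obtain ⟨b, hb⟩ := h4.unique_right D h5
  have hn := D.hn
  refine ⟨j₃, b, h₃, ?_⟩
  rw [hb, mul_add, ← mul_assoc, ← pow_add, show D.c + (D.n - D.c) = D.n by omega]

theorem exists_mul_eq {x y : B'} (hx : x ∈ D.J') (hy : y ∈ D.J') :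
    ∃ z ∈ D.J', x * y = D.g ^ D.c * z := by
  obtain ⟨a₁, h₁⟩ := hx
  obtain ⟨a₂, h₂⟩ := hy
  obtain ⟨z, b, hz, hxy⟩ := D.exists_mul_eq' h₁ h₂
  have hn := D.hn
  exact ⟨z + D.g ^ (D.n - D.c) * b, Ideal.add_mem _ ⟨_, hz⟩
    (D.pow_mul_mem_J' (by omega) b), hxy⟩

/-- the ring `B = g^{-c} J'`. -/
def E : Subring D.S where
  carrier := {x | ∃ j ∈ D.J', x * algebraMap B' D.S D.g ^ D.c = algebraMap B' D.S j}
  mul_mem' := by
    rintro x y ⟨j₁, hj₁, h₁⟩ ⟨j₂, hj₂, h₂⟩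
    obtain ⟨z, hz, hxy⟩ := D.exists_mul_eq hj₁ hj₂
    refine ⟨z, hz, ?_⟩
    have h3 : (x * y * algebraMap B' D.S D.g ^ D.c) * algebraMap B' D.S D.g ^ D.c =
        algebraMap B' D.S z * algebraMap B' D.S D.g ^ D.c := by
      calc (x * y * algebraMap B' D.S D.g ^ D.c) * algebraMap B' D.S D.g ^ D.c
          = (x * algebraMap B' D.S D.g ^ D.c) * (y * algebraMap B' D.S D.g ^ D.c) := by ring
        _ = algebraMap B' D.S (j₁ * j₂) := by rw [h₁, h₂, map_mul]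
        _ = algebraMap B' D.S z * algebraMap B' D.S D.g ^ D.c := by
            rw [hxy, map_mul, map_pow, mul_comm]
    exact (D.isUnit_ι_g.pow D.c).mul_left_injective h3
  one_mem' := ⟨D.g ^ D.c, D.pow_c_mem_J', by rw [one_mul, map_pow]⟩
  add_mem' := by
    rintro x y ⟨j₁, hj₁, h₁⟩ ⟨j₂, hj₂, h₂⟩
    exact ⟨j₁ + j₂, Ideal.add_mem _ hj₁ hj₂, by rw [add_mul, h₁, h₂, map_add]⟩
  zero_mem' := ⟨0, Ideal.zero_mem _, by rw [zero_mul, map_zero]⟩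
  neg_mem' := by
    rintro x ⟨j, hj, h⟩
    exact ⟨-j, Ideal.neg_mem_iff _ |>.mpr hj, by rw [neg_mul, h, map_neg]⟩

theorem mem_E {x : D.S} : x ∈ D.E ↔
    ∃ j ∈ D.J', x * algebraMap B' D.S D.g ^ D.c = algebraMap B' D.S j := Iff.rfl

theorem ι_mem_E (b : B') : algebraMap B' D.S b ∈ D.E :=
  ⟨b * D.g ^ D.c, Ideal.mul_mem_left _ _ D.pow_c_mem_J', by rw [map_mul, map_pow]⟩

/-- the inclusion `B' → B`. -/
def ιE : B' →+* D.E := (algebraMap B' D.S).codRestrict D.E D.ι_mem_E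

@[simp] theorem coe_ιE (b : B') : ((D.ιE b : D.E) : D.S) = algebraMap B' D.S b := rfl

theorem ιE_injective : Function.Injective D.ιE := by
  intro x y h
  exact D.ι_injective (congrArg Subtype.val h)

/-- a chosen partner of `θ a`. -/
noncomputable def β₀ (a : A) : B' := (D.exists_rel_right (D.θ a)).choose

theorem β₀_spec (a : A) : D.Rel (D.θ a) (D.β₀ a) := (D.exists_rel_right (D.θ a)).choose_spec

/-- the element `β₀ a / g^c` of `B`. -/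
noncomputable def e₀ (a : A) : D.E :=
  ⟨IsLocalization.mk' D.S (D.β₀ a) (⟨D.g ^ D.c, D.c, rfl⟩ : Submonoid.powers D.g),
    D.β₀ a, ⟨a, D.β₀_spec a⟩, by
      have := IsLocalization.mk'_spec D.S (D.β₀ a) (⟨D.g ^ D.c, D.c, rfl⟩ : Submonoid.powers D.g)
      rwa [map_pow] at this⟩

theorem e₀_spec (a : A) :
    ((D.e₀ a : D.E) : D.S) * algebraMap B' D.S D.g ^ D.c = algebraMap B' D.S (D.β₀ a) := by
  have := IsLocalization.mk'_spec D.S (D.β₀ a) (⟨D.g ^ D.c, D.c, rfl⟩ : Submonoid.powers D.g)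
  rwa [map_pow] at this

theorem rel_imp {a : A} {j : B'} (h : D.Rel (D.θ a) j) :
    ∃ b : B', j = D.β₀ a + D.g ^ (D.c + 1) * b := by
  obtain ⟨b, hb⟩ := h.unique_right D (D.β₀_spec a)
  have hn := D.hn
  refine ⟨D.g ^ (D.n - (D.c + 1)) * b, ?_⟩
  rw [hb, ← mul_assoc, ← pow_add, show D.c + 1 + (D.n - (D.c + 1)) = D.n by omega]

/-- the ideal `gB`. -/
abbrev Iq : Ideal D.E := Ideal.span {D.ιE D.g}

theorem key {a : A} {x : D.E} {j : B'}
    (hx : (x : D.S) * algebraMap B' D.S D.g ^ D.c = algebraMap B' D.S j)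
    (hj : ∃ b : B', j = D.β₀ a + D.g ^ (D.c + 1) * b) :
    Ideal.Quotient.mk D.Iq x = Ideal.Quotient.mk D.Iq (D.e₀ a) := by
  obtain ⟨b, rfl⟩ := hj
  rw [Ideal.Quotient.eq, Ideal.mem_span_singleton']
  refine ⟨D.ιE b, Subtype.ext ?_⟩
  apply (D.isUnit_ι_g.pow D.c).mul_left_injective
  show ((D.ιE b : D.E) : D.S) * ((D.ιE D.g : D.E) : D.S) * algebraMap B' D.S D.g ^ D.c =
    ((x : D.S) - (D.e₀ a : D.E)) * algebraMap B' D.S D.g ^ D.c
  rw [sub_mul, hx, D.e₀_spec a, coe_ιE, coe_ιE, map_add, map_mul, map_pow, pow_succ]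
  ring

end Data

end Groth.Agent.Lib.Helper27.FinExt
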