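import Mathlib
import Groth.Agent.Lib.Helper27.FinExt2
import Groth.Agent.Lib.Helper27.FinExt1

set_option autoImplicit false

namespace Groth.Agent.Lib.Helper27.FinExt

universe u

namespace Data

variable {A' A B' : Type u} [CommRing A'] [CommRing A] [Algebra A' A] [CommRing B']
  (D : Data A' A B')

/-- the ring homomorphism `A → B/gB`. -/
noncomputable def ψ : A →+* D.E ⧸ D.Iq where
  toFun a := Ideal.Quotient.mk D.Iq (D.e₀ a)
  map_one' := by
    have h : ((1 : D.E) : D.S) * algebraMap B' D.S D.g ^ D.c = algebraMap B' D.S (D.g ^ D.c) := by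
      rw [Subring.coe_one, one_mul, map_pow]
    rw [← D.key h (D.rel_imp (by rw [D.θ_one]; exact D.rel_pow _)), map_one]
  map_mul' a₁ a₂ := by
    obtain ⟨z, b, hz, hxy⟩ := D.exists_mul_eq' (D.β₀_spec a₁) (D.β₀_spec a₂)
    have hn := D.hn
    have h : ((D.e₀ a₁ * D.e₀ a₂ : D.E) : D.S) * algebraMap B' D.S D.g ^ D.c =
        algebraMap B' D.S (z + D.g ^ (D.n - D.c) * b) := by
      apply (D.isUnit_ι_g.pow D.c).mul_left_injective
      show ((D.e₀ a₁ * D.e₀ a₂ : D.E) : D.S) * algebraMap B' D.S D.g ^ D.c *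
        algebraMap B' D.S D.g ^ D.c = algebraMap B' D.S (z + D.g ^ (D.n - D.c) * b) *
        algebraMap B' D.S D.g ^ D.c
      rw [Subring.coe_mul]
      calc ((D.e₀ a₁ : D.E) : D.S) * (D.e₀ a₂ : D.E) * algebraMap B' D.S D.g ^ D.c *
            algebraMap B' D.S D.g ^ D.c
          = (((D.e₀ a₁ : D.E) : D.S) * algebraMap B' D.S D.g ^ D.c) *
            (((D.e₀ a₂ : D.E) : D.S) * algebraMap B' D.S D.g ^ D.c) := by ring
        _ = algebraMap B' D.S (D.β₀ a₁ * D.β₀ a₂) := by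
            rw [D.e₀_spec, D.e₀_spec, map_mul]
        _ = _ := by rw [hxy, map_mul, map_pow, mul_comm]
    rw [← map_mul, D.key (a := a₁ * a₂) h]
    obtain ⟨b', hb'⟩ := D.rel_imp hz
    refine ⟨b' + D.g ^ (D.n - D.c - (D.c + 1)) * b, ?_⟩
    rw [hb', mul_add, ← mul_assoc (D.g ^ (D.c + 1)), ← pow_add,
      show D.c + 1 + (D.n - D.c - (D.c + 1)) = D.n - D.c by omega]
    ring
  map_zero' := by
    have h : ((0 : D.E) : D.S) * algebraMap B' D.S D.g ^ D.c = algebraMap B' D.S 0 := by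
      rw [Subring.coe_zero, zero_mul, map_zero]
    rw [← D.key h (D.rel_imp (by rw [D.θ_zero]; exact D.rel_zero)), map_zero]
  map_add' a₁ a₂ := by
    have h : ((D.e₀ a₁ + D.e₀ a₂ : D.E) : D.S) * algebraMap B' D.S D.g ^ D.c =
        algebraMap B' D.S (D.β₀ a₁ + D.β₀ a₂) := by
      rw [Subring.coe_add, add_mul, D.e₀_spec, D.e₀_spec, map_add]
    rw [← map_add, D.key (a := a₁ + a₂) h
      (D.rel_imp (by rw [D.θ_add]; exact (D.β₀_spec a₁).add D (D.β₀_spec a₂)))]

theorem ψ_apply (a : A) : D.ψ a = Ideal.Quotient.mk D.Iq (D.e₀ a) := rfl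

theorem ψ_eq_of {a : A} {x : D.E} {j : B'}
    (hx : (x : D.S) * algebraMap B' D.S D.g ^ D.c = algebraMap B' D.S j)
    (hj : D.Rel (D.θ a) j) : D.ψ a = Ideal.Quotient.mk D.Iq x :=
  (D.key hx (D.rel_imp hj)).symm

theorem ψ_algebraMap {a' : A'} {b' : B'} (h : D.Rel a' b') :
    D.ψ (algebraMap A' A a') = Ideal.Quotient.mk D.Iq (D.ιE b') := by
  apply D.ψ_eq_of (j := D.g ^ D.c * b')
  · rw [coe_ιE, map_mul, map_pow, mul_comm]
  · rw [D.θ_algebraMap]; exact (D.rel_pow _).mul D h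

theorem ψ_surjective : Function.Surjective D.ψ := by
  intro y
  obtain ⟨x, rfl⟩ := Ideal.Quotient.mk_surjective y
  obtain ⟨j, ⟨a, ha⟩, hx⟩ := x.2
  exact ⟨a, D.ψ_eq_of hx ha⟩

theorem ker_ψ : RingHom.ker D.ψ = Ideal.span {algebraMap A' A D.f} := by
  have hn := D.hn
  apply le_antisymm
  · intro a ha
    rw [RingHom.mem_ker, ψ_apply, Ideal.Quotient.eq_zero_iff_mem, Ideal.mem_span_singleton'] at ha
    obtain ⟨y, hy⟩ := ha
    obtain ⟨j, ⟨a₂, ha₂⟩, hyj⟩ := y.2
    have h1 : D.β₀ a = D.g * j := by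
      apply D.ι_injective
      rw [← D.e₀_spec a, ← hy, Subring.coe_mul, coe_ιE, mul_assoc,
        mul_comm (algebraMap B' D.S D.g), ← mul_assoc, hyj, map_mul, mul_comm]
    have h2 : D.Rel (D.θ a) (D.g * j) := h1 ▸ D.β₀_spec a
    have h3 : D.Rel (D.f * D.θ a₂) (D.g * j) := D.rel_f.mul D ha₂
    obtain ⟨a'', ha''⟩ := h2.unique_left D h3
    rw [Ideal.mem_span_singleton']
    refine ⟨a₂ + algebraMap A' A (D.f ^ (D.n - (D.c + 1)) * a''), ?_⟩
    have h4 := congrArg (algebraMap A' A) ha''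
    rw [D.hθ, map_add, map_mul, D.hθ, map_mul, map_pow] at h4
    have h5 : algebraMap A' A D.f ^ D.c * a = algebraMap A' A D.f ^ D.c *
        ((a₂ + algebraMap A' A (D.f ^ (D.n - (D.c + 1)) * a'')) * algebraMap A' A D.f) := by
      rw [h4, map_mul, map_pow]
      have h6 : algebraMap A' A D.f ^ D.n = algebraMap A' A D.f ^ D.c * algebraMap A' A D.f *
          algebraMap A' A D.f ^ (D.n - (D.c + 1)) := by
        rw [← pow_succ, ← pow_add, show D.c + 1 + (D.n - (D.c + 1)) = D.n by omega]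
      rw [h6]
      ring
    exact (mul_cancel_left_mem_nonZeroDivisors (pow_mem D.hf D.c)).mp h5.symm
  · rw [Ideal.span_singleton_le_iff_mem, RingHom.mem_ker, D.ψ_algebraMap D.rel_f,
      Ideal.Quotient.eq_zero_iff_mem]
    exact Ideal.mem_span_singleton_self _

/-- the isomorphism `A/fA ≃ B/gB`. -/
noncomputable def φ : (A ⧸ Ideal.span {algebraMap A' A D.f}) ≃+* (D.E ⧸ D.Iq) :=
  (Ideal.quotEquivOfEq D.ker_ψ.symm).trans
    (RingHom.quotientKerEquivOfSurjective D.ψ_surjective)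

theorem φ_mk (a : A) : D.φ (Ideal.Quotient.mk _ a) = D.ψ a := by
  simp [φ, RingHom.quotientKerEquivOfSurjective]

theorem finite [Module.Finite A' A] :
    letI := D.ιE.toAlgebra
    Module.Finite B' D.E := by
  classical
  letI := D.ιE.toAlgebra
  have hsmul : ∀ (b : B') (x : D.E), b • x = D.ιE b * x := fun b x => rfl
  have hn := D.hn
  obtain ⟨s, hs⟩ := Module.Finite.fg_top (R := A') (M := A)
  let M : Submodule B' D.E := Submodule.span B' (insert 1 (D.e₀ '' (s : Set A)))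
  have h1 : ∀ a : A, ∃ y ∈ M, ∃ β : B', D.Rel (D.θ a) β ∧
      (y : D.S) * algebraMap B' D.S D.g ^ D.c = algebraMap B' D.S β := by
    intro a
    have ha : a ∈ Submodule.span A' (s : Set A) := hs ▸ Submodule.mem_top
    induction ha using Submodule.span_induction with
    | mem x hx =>
      exact ⟨D.e₀ x, Submodule.subset_span (Set.mem_insert_of_mem _ ⟨x, hx, rfl⟩), D.β₀ x,
        D.β₀_spec x, D.e₀_spec x⟩
    | zero =>
      exact ⟨0, Submodule.zero_mem _, 0, by rw [D.θ_zero]; exact D.rel_zero, by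
        rw [Subring.coe_zero, zero_mul, map_zero]⟩
    | add x y _ _ hx hy =>
      obtain ⟨y₁, hy₁, β₁, hβ₁, h₁⟩ := hx
      obtain ⟨y₂, hy₂, β₂, hβ₂, h₂⟩ := hy
      exact ⟨y₁ + y₂, Submodule.add_mem _ hy₁ hy₂, β₁ + β₂, by
        rw [D.θ_add]; exact hβ₁.add D hβ₂, by rw [Subring.coe_add, add_mul, h₁, h₂, map_add]⟩
    | smul r x _ hx =>
      obtain ⟨y₁, hy₁, β₁, hβ₁, h₁⟩ := hx
      obtain ⟨r', hr'⟩ := D.exists_rel_right r
      refine ⟨r' • y₁, Submodule.smul_mem _ _ hy₁, r' * β₁, by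
        rw [D.θ_smul]; exact hr'.mul D hβ₁, ?_⟩
      rw [hsmul, Subring.coe_mul, coe_ιE, mul_assoc, h₁, map_mul]
  refine ⟨⟨(insert 1 (s.image D.e₀)), ?_⟩⟩
  rw [eq_top_iff]
  rintro x -
  have hM : Submodule.span B' ((insert 1 (s.image D.e₀) : Finset D.E) : Set D.E) = M := by
    simp [M]
  rw [hM]
  obtain ⟨j, ⟨a, ha⟩, hx⟩ := x.2
  obtain ⟨y, hy, β, hβ, hyβ⟩ := h1 a
  obtain ⟨b, hb⟩ := ha.unique_right D hβ
  have h2 : x = y + (D.g ^ (D.n - D.c) * b) • (1 : D.E) := by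
    apply Subtype.ext
    apply (D.isUnit_ι_g.pow D.c).mul_left_injective
    show (x : D.S) * algebraMap B' D.S D.g ^ D.c =
      ((y + (D.g ^ (D.n - D.c) * b) • (1 : D.E) : D.E) : D.S) * algebraMap B' D.S D.g ^ D.c
    rw [hsmul, mul_one, Subring.coe_add, coe_ιE, add_mul, hyβ, hx, hb, map_add, map_mul,
      map_mul, map_pow, map_pow, mul_right_comm, ← pow_add,
      show D.n - D.c + D.c = D.n by omega]
  rw [h2]
  exact Submodule.add_mem _ hy (Submodule.smul_mem _ _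
    (Submodule.subset_span (Set.mem_insert _ _)))

end Data

theorem main (A' A : Type u) [CommRing A'] [CommRing A] [Algebra A' A]
    (hinj : Function.Injective (algebraMap A' A)) [Module.Finite A' A] (f : A')
    (hf : algebraMap A' A f ∈ nonZeroDivisors A)
    (hloc : Function.Bijective (IsLocalization.Away.map (Localization.Away f)
      (Localization.Away (algebraMap A' A f)) (algebraMap A' A) f)) :
    ∃ n₀ : ℕ, 0 < n₀ ∧ ∀ n : ℕ, n₀ ≤ n →
      ∀ (B' : Type u) [CommRing B'] (g : B'), g ∈ nonZeroDivisors B' →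
        ∀ φ' : (A' ⧸ Ideal.span {f ^ n}) ≃+* (B' ⧸ Ideal.span {g ^ n}),
        φ' (Ideal.Quotient.mk (Ideal.span {f ^ n}) f) = Ideal.Quotient.mk (Ideal.span {g ^ n}) g →
        ∃ (B : Type u) (_ : CommRing B) (_ : Algebra B' B),
          Function.Injective (algebraMap B' B) ∧ Module.Finite B' B ∧
          ∃ φ : (A ⧸ Ideal.span {algebraMap A' A f}) ≃+* (B ⧸ Ideal.span {algebraMap B' B g}),
            ∀ (a' : A') (b' : B'),
              φ' (Ideal.Quotient.mk (Ideal.span {f ^ n}) a') = Ideal.Quotient.mk (Ideal.span {g ^ n}) b' →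
              φ (Ideal.Quotient.mk (Ideal.span {algebraMap A' A f}) (algebraMap A' A a')) =
                Ideal.Quotient.mk (Ideal.span {algebraMap B' B g}) (algebraMap B' B b') := by
  obtain ⟨c, hc⟩ := exists_pow_mul_mem_range A' A f hf hloc.2
  choose θ hθ using hc
  refine ⟨2 * c + 1, by omega, fun n hn B' _ g hg φ' hφ' => ?_⟩
  let D : Data A' A B' := ⟨f, hinj, hf, c, θ, hθ, n, hn, g, hg, φ', hφ'⟩
  letI := D.ιE.toAlgebra
  refine ⟨D.E, inferInstance, D.ιE.toAlgebra, D.ιE_injective, D.finite, D.φ, ?_⟩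
  intro a' b' h
  rw [D.φ_mk]
  exact D.ψ_algebraMap h

end Groth.Agent.Lib.Helper27.FinExt
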