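import Mathlib
import Groth.Agent.Lib.Helper27.CplAlg
import Groth.Agent.Lib.Helper27.AdicComplete
import Groth.Agent.S11525

/-!
Class (V): an algebra finite over an algebra topologically of finite type is topologically of
finite type; admissibility of torsion free such algebras.
-/

set_option autoImplicit false
universe u

namespace Groth.Agent.Lib.Helper27.FinTft

open AdicRing
open Groth.Agent.Lib.Helper27

variable (R : Type u) [CommRing R] [IsDomain R] [ValuationRing R] [Ring.KrullDimLE 1 R]
  (t : R) (ht : t ≠ 0) [IsAdicComplete (Ideal.span {t}) R]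

include ht in
lemma isBase : IsBase R (Ideal.span {t}) :=
  ⟨inferInstance, Or.inr ⟨inferInstance, inferInstance, inferInstance, t, ht, rfl⟩⟩

variable (A : Type u) [CommRing A] [Algebra R A] (hA : TopFiniteType R (Ideal.span {t}) A)
  (A' : Type u) [CommRing A'] [Algebra R A'] [Algebra A A'] [IsScalarTower R A A']
  [Module.Finite A A']

include ht hA in
theorem tft_of_finite : TopFiniteType R (Ideal.span {t}) A' := by
  have hI : (Ideal.span {t}).FG := ⟨{t}, by simp⟩
  have hc : IsAdicComplete (Ideal.span {t}) A' :=
    AdicComplete.isAdicComplete_classV R t ht A hA A'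
  haveI hc' : IsAdicComplete ((Ideal.span {t}).map (algebraMap R A')) A' :=
    (IsAdicComplete.map_algebraMap_iff _ _).mpr hc
  obtain ⟨N, φ, hφ⟩ := CplAlg.tft_cpl (Ideal.span {t}) hI A' hA
  let e := (AdicCompletion.ofAlgEquiv ((Ideal.span {t}).map (algebraMap R A'))).symm
  exact ⟨N, (e.restrictScalars R).toAlgHom.comp φ,
    (e.restrictScalars R).surjective.comp hφ⟩

include ht hA in
theorem admissible_of_finite (hT : NoPowTorsion (Ideal.span {t}) A') :
    Admissible R (Ideal.span {t}) A' :=
  ⟨Groth.Agent.S11525.result R _ (isBase R t ht) A' (tft_of_finite R t ht A hA A') hT, hT⟩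

end Groth.Agent.Lib.Helper27.FinTft
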