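import Groth.Agent.Lib.Helper4.FlatLocal
import Groth.Agent.Lib.Helper5.RegQuot
import Groth.Agent.Lib.Helper15.PthEdim
import Mathlib.RingTheory.Flat.EquationalCriterion

/-!
# Embedding dimension along a flat local homomorphism with regular closed fibre

For a flat local homomorphism `A → B` of Noetherian local rings whose closed fibre `B/𝔪_A B` is
regular, `edim B = edim (B/𝔪_A B) + edim A`.
-/

set_option autoImplicit false
set_option linter.style.haveILetI false

namespace Groth.Agent.Lib.Helper27.FlatCot

open IsLocalRing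

universe u

section rel

variable {A : Type u} [CommRing A] [IsLocalRing A] [IsNoetherianRing A]

/-- A relation among a minimal system of generators of the maximal ideal has all its coefficients
in the maximal ideal. -/
theorem coeff_mem_of_rel (s : Finset A) (hs1 : s.card = (maximalIdeal A).spanFinrank)
    (hs2 : Ideal.span (s : Set A) = maximalIdeal A) (a : s → A)
    (h : ∑ i, a i * (i : A) = 0) (i₀ : s) : a i₀ ∈ maximalIdeal A := by
  classical
  by_contra hu
  rw [mem_maximalIdeal, mem_nonunits_iff, not_not] at hu
  obtain ⟨u, hu⟩ := hu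
  have hx0 : ∀ J : Ideal A, (∀ i : s, i ≠ i₀ → (i : A) ∈ J) → (i₀ : A) ∈ J := by
    intro J hJ
    have h1 : a i₀ * (i₀ : A) = - ∑ i ∈ Finset.univ.erase i₀, a i * (i : A) := by
      rw [eq_neg_iff_add_eq_zero,
        Finset.add_sum_erase Finset.univ (fun i : s => a i * (i : A)) (Finset.mem_univ i₀)]
      exact h
    have h2 : (i₀ : A) = ((u⁻¹ : Aˣ) : A) * (a i₀ * (i₀ : A)) := by
      rw [← mul_assoc, ← hu, Units.inv_mul, one_mul]
    rw [h2, h1]
    refine Ideal.mul_mem_left _ _ (neg_mem (Ideal.sum_mem _ fun i hi => ?_))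
    exact Ideal.mul_mem_left _ _ (hJ i (Finset.mem_erase.mp hi).1)
  have hx : (i₀ : A) ∈ Ideal.span ((s.erase (i₀ : A) : Finset A) : Set A) := by
    refine hx0 _ fun i hi => Ideal.subset_span ?_
    rw [Finset.mem_coe, Finset.mem_erase]
    exact ⟨fun hEq => hi (Subtype.ext hEq), i.2⟩
  have hspan : Ideal.span ((s.erase (i₀ : A) : Finset A) : Set A) = maximalIdeal A := by
    apply le_antisymm
    · rw [← hs2]
      exact Ideal.span_mono (by exact_mod_cast Finset.erase_subset _ _)
    · rw [← hs2, Ideal.span_le]
      intro y hy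
      by_cases hyi : y = (i₀ : A)
      · rw [hyi]; exact hx
      · exact Ideal.subset_span (by
          rw [Finset.mem_coe, Finset.mem_erase]; exact ⟨hyi, hy⟩)
  have hle : (maximalIdeal A).spanFinrank ≤ (s.erase (i₀ : A)).card := by
    conv_lhs => rw [← hspan]
    have := Submodule.spanFinrank_span_le_ncard_of_finite (R := A)
      (Finset.finite_toSet (s.erase (i₀ : A)))
    rwa [Set.ncard_coe_finset] at this
  rw [Finset.card_erase_of_mem i₀.2, ← hs1] at hle
  have hpos : 0 < s.card := Finset.card_pos.mpr ⟨i₀, i₀.2⟩
  omega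

end rel

section base

variable {A B : Type u} [CommRing A] [CommRing B] [IsLocalRing A] [IsNoetherianRing A]
  [IsLocalRing B] [IsNoetherianRing B] [Algebra A B] [IsLocalHom (algebraMap A B)]
  [Module.Flat A B]

/-- If the closed fibre is a field (`𝔪_A B = 𝔪_B`) then `edim B = edim A`. -/
theorem base (h : Ideal.map (algebraMap A B) (maximalIdeal A) = maximalIdeal B) :
    (maximalIdeal B).spanFinrank = (maximalIdeal A).spanFinrank := by
  classical
  obtain ⟨s, hs1, hs2⟩ := Submodule.FG.exists_span_finset_card_eq_spanFinrank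
    (IsNoetherian.noetherian (maximalIdeal A))
  have hs2' : Ideal.span (s : Set A) = maximalIdeal A := hs2
  have hMB : maximalIdeal B = Ideal.span (Set.range fun i : s => algebraMap A B (i : A)) := by
    rw [← h, ← hs2', Ideal.map_span]
    congr 1
    ext b
    simp
  apply le_antisymm
  · calc (maximalIdeal B).spanFinrank
        = (Ideal.span (Set.range fun i : s => algebraMap A B (i : A))).spanFinrank := by
          rw [← hMB]
      _ ≤ (Set.range fun i : s => algebraMap A B (i : A)).ncard :=
          Submodule.spanFinrank_span_le_ncard_of_finite (Set.finite_range _)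
      _ ≤ Nat.card s := by
          rw [← Set.image_univ, ← Set.ncard_univ]
          exact Set.ncard_image_le Set.finite_univ
      _ = s.card := by rw [Nat.card_eq_fintype_card, Fintype.card_coe]
      _ = _ := hs1
  · rw [spanFinrank_maximalIdeal_eq_finrank_cotangentSpace B, ← hs1]
    have hxm : ∀ i : s, algebraMap A B (i : A) ∈ maximalIdeal B := fun i => by
      rw [← h]
      exact Ideal.mem_map_of_mem _ (by rw [← hs2']; exact Ideal.subset_span i.2)
    have hli : LinearIndependent (ResidueField B)
        (fun i : s => (maximalIdeal B).toCotangent ⟨algebraMap A B (i : A), hxm i⟩) := by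
      rw [Fintype.linearIndependent_iff]
      intro g hg i₀
      choose b hb using fun i => residue_surjective (g i)
      have h1 : (maximalIdeal B).toCotangent
          (∑ i : s, b i • (⟨algebraMap A B (i : A), hxm i⟩ : maximalIdeal B)) = 0 := by
        rw [map_sum, ← hg]
        refine Finset.sum_congr rfl fun i _ => ?_
        rw [map_smul, ← hb i]
        rfl
      rw [Ideal.toCotangent_eq_zero] at h1
      have h2 : ∑ i : s, b i * algebraMap A B (i : A) ∈ maximalIdeal B ^ 2 := by
        convert h1 using 1
        simp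
      have h3 : maximalIdeal B ^ 2 = maximalIdeal B •
          Submodule.span B (Set.range fun i : s => algebraMap A B (i : A)) := by
        rw [pow_two, ← smul_eq_mul]
        congr 1
      rw [h3, Submodule.mem_ideal_smul_span_iff_exists_sum] at h2
      obtain ⟨z, hz, hzsum⟩ := h2
      rw [Finsupp.sum_fintype z (fun i c => c • algebraMap A B (i : A))
        (fun i => zero_smul _ _)] at hzsum
      have hrel : ∑ i : s, (i : A) • (b i - z i) = 0 := by
        have : ∀ i : s, (i : A) • (b i - z i) =
            b i * algebraMap A B (i : A) - z i • algebraMap A B (i : A) := fun i => by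
          rw [Algebra.smul_def, smul_eq_mul]; ring
        rw [Finset.sum_congr rfl fun i _ => this i, Finset.sum_sub_distrib, hzsum, sub_self]
      obtain ⟨k, a, y, hy1, hy2⟩ := Module.Flat.isTrivialRelation_of_sum_smul_eq_zero
        (R := A) (M := B) (f := fun i : s => (i : A)) (x := fun i => b i - z i) hrel
      have ha : ∀ i j, a i j ∈ maximalIdeal A := fun i j =>
        coeff_mem_of_rel s hs1 hs2' (fun i => a i j)
          (by rw [← hy2 j]; exact Finset.sum_congr rfl fun i _ => mul_comm _ _) i
      have hbz : b i₀ - z i₀ ∈ maximalIdeal B := by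
        have hy1' : b i₀ - z i₀ = ∑ j, a i₀ j • y j := hy1 i₀
        rw [hy1']
        refine Ideal.sum_mem _ fun j _ => ?_
        rw [Algebra.smul_def]
        refine Ideal.mul_mem_right _ _ ?_
        rw [← h]
        exact Ideal.mem_map_of_mem _ (ha i₀ j)
      have hb0 : b i₀ ∈ maximalIdeal B := by
        have := Ideal.add_mem _ hbz (hz i₀)
        rwa [sub_add_cancel] at this
      rw [← hb i₀]
      exact (residue_eq_zero_iff _).mpr hb0
    have := hli.fintype_card_le_finrank
    rwa [Fintype.card_coe] at this

end base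

section step

variable {A B : Type u} [CommRing A] [CommRing B] [IsLocalRing A] [IsNoetherianRing A]
  [IsLocalRing B] [IsNoetherianRing B] [Algebra A B] [IsLocalHom (algebraMap A B)]
  [Module.Flat A B]

open Pointwise in
/-- If `y` is a non-zero-divisor on the closed fibre then `B/(y)` is flat over `A`. -/
theorem flat_quot_span (y : B)
    (hy : IsSMulRegular (B ⧸ Ideal.map (algebraMap A B) (maximalIdeal A)) y) :
    Module.Flat A (B ⧸ Ideal.span {y}) := by
  have e1 : (Ideal.map (algebraMap A B) (maximalIdeal A)) • (⊤ : Submodule B B) =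
      Ideal.map (algebraMap A B) (maximalIdeal A) := by
    rw [smul_eq_mul, Ideal.mul_top]
  have hy' : IsSMulRegular (B ⧸ ((Ideal.map (algebraMap A B) (maximalIdeal A)) •
      (⊤ : Submodule B B))) y :=
    ((Submodule.quotEquivOfEq _ _ e1).isSMulRegular_congr y).mpr hy
  have hflat := Groth.Agent.Lib.Helper4.flat_quotSMulTop_of_fibre (R := A) (S := B) (N := B) y hy'
  have e2 : (y • (⊤ : Submodule B B)) = Ideal.span {y} := by
    ext b
    rw [Submodule.mem_smul_pointwise_iff_exists, Ideal.mem_span_singleton']
    constructor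
    · rintro ⟨c, -, rfl⟩; exact ⟨c, by rw [smul_eq_mul, mul_comm]⟩
    · rintro ⟨c, rfl⟩; exact ⟨c, Submodule.mem_top, by rw [smul_eq_mul, mul_comm]⟩
  exact Module.Flat.of_linearEquiv ((Submodule.quotEquivOfEq _ _ e2).restrictScalars A).symm

omit [IsNoetherianRing A] [IsNoetherianRing B] [Module.Flat A B] in
theorem isLocalHom_quot (J : Ideal B) [IsLocalRing (B ⧸ J)] :
    IsLocalHom (algebraMap A (B ⧸ J)) := by
  haveI : IsLocalHom (Ideal.Quotient.mk J) :=
    IsLocalHom.of_surjective _ Ideal.Quotient.mk_surjective
  have : algebraMap A (B ⧸ J) = (Ideal.Quotient.mk J).comp (algebraMap A B) := rfl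
  rw [this]
  exact RingHom.isLocalHom_comp _ _

/-- The closed fibre of `B/(y)` is the closed fibre of `B` modulo `y`. -/
noncomputable def fibreEquiv (y : B) :
    ((B ⧸ Ideal.span {y}) ⧸ Ideal.map (algebraMap A (B ⧸ Ideal.span {y})) (maximalIdeal A)) ≃+*
      ((B ⧸ Ideal.map (algebraMap A B) (maximalIdeal A)) ⧸
        Ideal.span {Ideal.Quotient.mk (Ideal.map (algebraMap A B) (maximalIdeal A)) y}) :=
  (Ideal.quotEquivOfEq (show Ideal.map (algebraMap A (B ⧸ Ideal.span {y})) (maximalIdeal A) =
      (Ideal.map (algebraMap A B) (maximalIdeal A)).map (Ideal.Quotient.mk (Ideal.span {y})) by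
    rw [Ideal.map_map]; rfl)).trans
  ((DoubleQuot.quotQuotEquivComm (Ideal.span {y})
      (Ideal.map (algebraMap A B) (maximalIdeal A))).trans
    (Ideal.quotEquivOfEq (by rw [Ideal.map_span, Set.image_singleton])))

open Groth.Agent.Lib.Helper15 Groth.Agent.Lib.Helper9 Groth.Agent.Lib.Helper5 in
/-- Embedding dimension is additive along a flat local homomorphism with regular closed fibre
(induction on the embedding dimension of the fibre). -/
theorem main_aux : ∀ (d : ℕ) (A B : Type u) [CommRing A] [CommRing B] [IsLocalRing A]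
    [IsNoetherianRing A] [IsLocalRing B] [IsNoetherianRing B] [Algebra A B]
    [IsLocalHom (algebraMap A B)] [Module.Flat A B]
    [IsRegularLocalRing (B ⧸ Ideal.map (algebraMap A B) (maximalIdeal A))],
    (maximalIdeal (B ⧸ Ideal.map (algebraMap A B) (maximalIdeal A))).spanFinrank = d →
    (maximalIdeal B).spanFinrank = d + (maximalIdeal A).spanFinrank := by
  intro d
  induction d with
  | zero =>
    intro A B _ _ _ _ _ _ _ _ _ _ hd
    have hbot : maximalIdeal (B ⧸ Ideal.map (algebraMap A B) (maximalIdeal A)) = ⊥ :=
      (Submodule.spanFinrank_eq_zero_iff_eq_bot (IsNoetherian.noetherian _)).mp hd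
    have hI : Ideal.map (algebraMap A B) (maximalIdeal A) = maximalIdeal B := by
      apply le_antisymm (IsLocalRing.map_maximalIdeal_le (algebraMap A B))
      intro b hb
      have : Ideal.Quotient.mk (Ideal.map (algebraMap A B) (maximalIdeal A)) b ∈
          maximalIdeal (B ⧸ Ideal.map (algebraMap A B) (maximalIdeal A)) := by
        rw [← map_maximalIdeal_of_surjective (Ideal.Quotient.mk _) Ideal.Quotient.mk_surjective]
        exact Ideal.mem_map_of_mem _ hb
      rw [hbot, Ideal.mem_bot, Ideal.Quotient.eq_zero_iff_mem] at this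
      exact this
    rw [base hI, zero_add]
  | succ d ih =>
    intro A B _ _ _ _ _ _ _ _ _ _ hd
    have hex : ∃ ybar ∈ maximalIdeal (B ⧸ (Ideal.map (algebraMap A B) (maximalIdeal A))), ybar ∉ maximalIdeal (B ⧸ (Ideal.map (algebraMap A B) (maximalIdeal A))) ^ 2 := by
      by_contra hcon
      push Not at hcon
      have hle : maximalIdeal (B ⧸ (Ideal.map (algebraMap A B) (maximalIdeal A))) ≤ maximalIdeal (B ⧸ (Ideal.map (algebraMap A B) (maximalIdeal A))) ^ 2 := hcon
      have hbot : maximalIdeal (B ⧸ (Ideal.map (algebraMap A B) (maximalIdeal A))) = ⊥ := by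
        apply Submodule.eq_bot_of_le_smul_of_le_jacobson_bot (maximalIdeal (B ⧸ (Ideal.map (algebraMap A B) (maximalIdeal A))))
          (maximalIdeal (B ⧸ (Ideal.map (algebraMap A B) (maximalIdeal A)))) (IsNoetherian.noetherian _)
        · rw [smul_eq_mul, ← pow_two]; exact hle
        · exact IsLocalRing.maximalIdeal_le_jacobson ⊥
      rw [hbot] at hd
      simp at hd
    obtain ⟨ybar, hy1, hy2⟩ := hex
    obtain ⟨y, rfl⟩ := Ideal.Quotient.mk_surjective ybar
    have hyM : y ∈ maximalIdeal B := by
      haveI : IsLocalHom (Ideal.Quotient.mk (Ideal.map (algebraMap A B) (maximalIdeal A))) :=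
        IsLocalHom.of_surjective _ Ideal.Quotient.mk_surjective
      rw [← maximalIdeal_comap (Ideal.Quotient.mk (Ideal.map (algebraMap A B) (maximalIdeal A)))]
      exact hy1
    have hyM2 : y ∉ maximalIdeal B ^ 2 := by
      intro h
      apply hy2
      rw [← map_maximalIdeal_of_surjective (Ideal.Quotient.mk (Ideal.map (algebraMap A B) (maximalIdeal A))) Ideal.Quotient.mk_surjective,
        ← Ideal.map_pow]
      exact Ideal.mem_map_of_mem _ h
    haveI := RegLocal.isDomain_of_isRegularLocalRing (B ⧸ (Ideal.map (algebraMap A B) (maximalIdeal A)))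
    have hy0 : Ideal.Quotient.mk (Ideal.map (algebraMap A B) (maximalIdeal A)) y ≠ 0 := by
      intro h0
      apply hy2
      rw [h0]
      exact Ideal.zero_mem _
    have hreg : IsSMulRegular (B ⧸ (Ideal.map (algebraMap A B) (maximalIdeal A))) y := by
      intro a b hab
      have hab' : Ideal.Quotient.mk (Ideal.map (algebraMap A B) (maximalIdeal A)) y * a = Ideal.Quotient.mk (Ideal.map (algebraMap A B) (maximalIdeal A)) y * b := by
        simpa [Algebra.smul_def] using hab
      exact mul_left_cancel₀ hy0 hab'
    haveI := PthEdim.isLocalRing_quot y hyM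
    haveI : IsLocalHom (algebraMap A (B ⧸ Ideal.span {y})) := isLocalHom_quot _
    haveI : Module.Flat A (B ⧸ Ideal.span {y}) := flat_quot_span y hreg
    obtain ⟨hregF, hμ⟩ := RegQuot.quotient_singleton (B ⧸ (Ideal.map (algebraMap A B) (maximalIdeal A))) (Ideal.Quotient.mk (Ideal.map (algebraMap A B) (maximalIdeal A)) y) hy1 hy2
    haveI := hregF
    let e := fibreEquiv (A := A) y
    haveI : IsRegularLocalRing ((B ⧸ Ideal.span {y}) ⧸
        Ideal.map (algebraMap A (B ⧸ Ideal.span {y})) (maximalIdeal A)) :=
      IsRegularLocalRing.of_ringEquiv e.symm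
    have hμ1 : (maximalIdeal ((B ⧸ Ideal.span {y}) ⧸
        Ideal.map (algebraMap A (B ⧸ Ideal.span {y})) (maximalIdeal A))).spanFinrank = d := by
      rw [PthEdim.ed_equiv e.symm]
      have hμ' := hμ.trans hd
      omega
    have hIH := ih A (B ⧸ Ideal.span {y}) hμ1
    have h1 := PthEdim.ed_le_quot_add_one y hyM
    have h2 := PthEdim.ed_quot_add_one_le y hyM hyM2
    omega

/-- **Additivity of the embedding dimension** for a flat local homomorphism of Noetherian local
rings with regular closed fibre, in terms of Zariski cotangent spaces. -/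
theorem main (A B : Type u) [CommRing A] [CommRing B] [IsLocalRing A]
    [IsNoetherianRing A] [IsLocalRing B] [IsNoetherianRing B] [Algebra A B]
    [IsLocalHom (algebraMap A B)] [Module.Flat A B]
    [IsRegularLocalRing (B ⧸ Ideal.map (algebraMap A B) (maximalIdeal A))] :
    Module.finrank (ResidueField B) (CotangentSpace B) =
      Module.finrank (ResidueField (B ⧸ Ideal.map (algebraMap A B) (maximalIdeal A)))
          (CotangentSpace (B ⧸ Ideal.map (algebraMap A B) (maximalIdeal A))) +
        Module.finrank (ResidueField A) (CotangentSpace A) := by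
  rw [← spanFinrank_maximalIdeal_eq_finrank_cotangentSpace,
    ← spanFinrank_maximalIdeal_eq_finrank_cotangentSpace,
    ← spanFinrank_maximalIdeal_eq_finrank_cotangentSpace]
  exact main_aux _ A B rfl

end step

end Groth.Agent.Lib.Helper27.FlatCot
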