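import Mathlib

/-!
Torsion and flat base change: if every element of `D` killed by a finite set `S` is `g`-power
torsion, the same holds in every flat `D`-algebra.
-/

set_option autoImplicit false
universe u

open TensorProduct

namespace Groth.Agent.Lib.Helper27.FlatTors

theorem exists_pow_mul_eq_zero_of_flat {D : Type u} [CommRing D] (M : Type u) [CommRing M]
    [Algebra D M] [Module.Flat D M] (g : D) (S : Finset D)
    (hD : ∀ τ : D, (∀ s ∈ S, s * τ = 0) → ∃ N : ℕ, g ^ N * τ = 0)
    (x : M) (hx : ∀ s ∈ S, algebraMap D M s * x = 0) :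
    ∃ N : ℕ, algebraMap D M g ^ N * x = 0 := by
  classical
  let μ : D →ₗ[D] (S → D) := LinearMap.pi (fun s => LinearMap.lsmul D D s.1)
  have hμ : ∀ (d : D) (s : S), μ d s = s.1 * d := fun d s => rfl
  have hex : Function.Exact (LinearMap.ker μ).subtype μ := LinearMap.exact_subtype_ker_map μ
  have hex' : Function.Exact ((LinearMap.ker μ).subtype.lTensor M) (μ.lTensor M) :=
    Module.Flat.lTensor_exact M hex
  have h0 : μ.lTensor M (x ⊗ₜ[D] (1 : D)) = 0 := by
    rw [LinearMap.lTensor_tmul]
    have e1 : μ 1 = ∑ s : S, Pi.single s (μ 1 s) := (Finset.univ_sum_single (μ 1)).symm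
    rw [e1, TensorProduct.tmul_sum]
    apply Finset.sum_eq_zero
    intro s _
    have e2 : (Pi.single s (μ 1 s) : S → D) = (μ 1 s) • (Pi.single s (1 : D) : S → D) := by
      rw [← Pi.single_smul, smul_eq_mul, mul_one]
    rw [e2, TensorProduct.tmul_smul, TensorProduct.smul_tmul', hμ, mul_one, Algebra.smul_def,
      hx s.1 s.2, TensorProduct.zero_tmul]
  obtain ⟨w, hw⟩ := (hex' _).mp h0
  have key : ∀ w : M ⊗[D] (LinearMap.ker μ), ∃ N : ℕ, algebraMap D M g ^ N *
      TensorProduct.rid D M ((LinearMap.ker μ).subtype.lTensor M w) = 0 := by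
    intro w
    induction w using TensorProduct.induction_on with
    | zero => exact ⟨0, by simp⟩
    | tmul y τ =>
      have hτ : ∀ s ∈ S, s * τ.1 = 0 := by
        intro s hs
        have h := congrFun (LinearMap.mem_ker.mp τ.2) ⟨s, hs⟩
        rw [hμ] at h
        exact h
      obtain ⟨N, hN⟩ := hD τ.1 hτ
      refine ⟨N, ?_⟩
      rw [LinearMap.lTensor_tmul, TensorProduct.rid_tmul, Submodule.subtype_apply,
        Algebra.smul_def, ← mul_assoc, ← map_pow, ← map_mul, hN, map_zero, zero_mul]
    | add a b ha hb =>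
      obtain ⟨N₁, h₁⟩ := ha
      obtain ⟨N₂, h₂⟩ := hb
      refine ⟨N₁ + N₂, ?_⟩
      rw [map_add, map_add]
      have e : ∀ u v : M, algebraMap D M g ^ (N₁ + N₂) * (u + v) =
          algebraMap D M g ^ N₂ * (algebraMap D M g ^ N₁ * u) +
          algebraMap D M g ^ N₁ * (algebraMap D M g ^ N₂ * v) := by
        intro u v
        ring
      rw [e, h₁, h₂, mul_zero, mul_zero, add_zero]
  obtain ⟨N, hN⟩ := key w
  refine ⟨N, ?_⟩
  rw [hw, TensorProduct.rid_tmul, one_smul] at hN
  exact hN

end Groth.Agent.Lib.Helper27.FlatTors
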