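import Mathlib

/-! Nonvanishing of `det (δ_ij t_i^{p-1} + ∂_j f_i)` for commuting nilpotent derivations in
characteristic `p` (Cartier-type argument: the top "coefficient" `∏ ∂_j^{p-1}` kills divergences). -/

set_option autoImplicit false
set_option linter.style.haveILetI false
universe u v
open Finset Matrix

namespace Groth.Agent.Lib.Helper27.FrobDet

variable {k : Type u} {A : Type v} [CommRing k] [CommRing A] [Algebra k A]

/-- Leibniz rule for finite products. -/
theorem leibniz_prod {ι : Type*} [DecidableEq ι] (D : Derivation k A A) (s : Finset ι)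
    (g : ι → A) :
    D (∏ i ∈ s, g i) = ∑ i ∈ s, (∏ j ∈ s.erase i, g j) * D (g i) := by
  induction s using Finset.induction_on with
  | empty => simp
  | insert a s ha ih =>
    rw [Finset.prod_insert ha, Derivation.leibniz, ih, Finset.sum_insert ha,
      Finset.erase_insert ha, smul_eq_mul, smul_eq_mul, add_comm]
    congr 1
    rw [Finset.mul_sum]
    refine Finset.sum_congr rfl fun i hi => ?_
    have hia : a ≠ i := fun h => ha (h ▸ hi)
    rw [Finset.erase_insert_of_ne hia,
      Finset.prod_insert (fun h => ha (Finset.mem_of_mem_erase h))]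
    ring

/-- Derivative of a determinant, column by column. -/
theorem deriv_det {n : ℕ} (D : Derivation k A A) (M : Matrix (Fin n) (Fin n) A) :
    D M.det = ∑ c, (M.updateCol c (fun r => D (M r c))).det := by
  classical
  simp only [Matrix.det_apply', map_sum]
  rw [Finset.sum_comm]
  refine Finset.sum_congr rfl fun σ _ => ?_
  rw [Derivation.leibniz, smul_eq_mul, smul_eq_mul, Derivation.map_intCast, mul_zero, add_zero,
    leibniz_prod, Finset.mul_sum]
  refine Finset.sum_congr rfl fun c _ => ?_
  rw [← Finset.mul_prod_erase Finset.univ _ (Finset.mem_univ c), Matrix.updateCol_self]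
  have h1 : ∏ x ∈ Finset.univ.erase c, (M.updateCol c fun r => D (M r c)) (σ x) x
      = ∏ x ∈ Finset.univ.erase c, M (σ x) x :=
    Finset.prod_congr rfl fun x hx => Matrix.updateCol_ne (Finset.ne_of_mem_erase hx)
  rw [h1]
  ring

theorem det_updateCol_eq_sum {n : ℕ} (N : Matrix (Fin n) (Fin n) A) (i₀ : Fin n)
    (v : Fin n → A) :
    (N.updateCol i₀ v).det = ∑ j, v j * (N.updateCol i₀ (Pi.single j 1)).det := by
  classical
  have hv : v = ∑ j, v j • (Pi.single j (1 : A) : Fin n → A) := by
    ext r
    simp [Finset.sum_apply, Pi.single_apply]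
  conv_lhs => rw [hv]
  rw [← Matrix.cramer_apply, map_sum, Finset.sum_apply]
  refine Finset.sum_congr rfl fun j _ => ?_
  rw [map_smul, Pi.smul_apply, smul_eq_mul, Matrix.cramer_apply]

section Piola
variable {n : ℕ} (δ : Fin n → Derivation k A A)

theorem prod_split (B : Matrix (Fin n) (Fin n) A) (σ : Equiv.Perm (Fin n)) {i₀ c : Fin n}
    (hc : c ≠ i₀) :
    ∏ i, B (σ i) i
      = B (σ i₀) i₀ * (B (σ c) c * ∏ i ∈ (Finset.univ.erase i₀).erase c, B (σ i) i) := by
  rw [← Finset.mul_prod_erase Finset.univ (fun i => B (σ i) i) (Finset.mem_univ i₀),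
    ← Finset.mul_prod_erase (Finset.univ.erase i₀) (fun i => B (σ i) i)
      (Finset.mem_erase.mpr ⟨hc, Finset.mem_univ c⟩)]

theorem piola_aux (N : Matrix (Fin n) (Fin n) A) {i₀ c : Fin n} (hc : c ≠ i₀)
    (hclosed : ∀ j l, δ j (N l c) = δ l (N j c)) :
    ∑ j, ((N.updateCol i₀ (Pi.single j 1)).updateCol c (fun r => δ j (N r c))).det = 0 := by
  classical
  simp only [Matrix.det_apply']
  rw [Finset.sum_comm]
  have hterm : ∀ σ : Equiv.Perm (Fin n),
      ∑ j, (((Equiv.Perm.sign σ : ℤˣ) : ℤ) : A) *
        ∏ i, ((N.updateCol i₀ (Pi.single j 1)).updateCol c (fun r => δ j (N r c))) (σ i) i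
      = (((Equiv.Perm.sign σ : ℤˣ) : ℤ) : A) *
        (δ (σ i₀) (N (σ c) c) * ∏ i ∈ (Finset.univ.erase i₀).erase c, N (σ i) i) := by
    intro σ
    have h1 : ∀ j,
        ∏ i, ((N.updateCol i₀ (Pi.single j 1)).updateCol c (fun r => δ j (N r c))) (σ i) i
        = (if σ i₀ = j then 1 else 0) *
          (δ j (N (σ c) c) * ∏ i ∈ (Finset.univ.erase i₀).erase c, N (σ i) i) := by
      intro j
      rw [prod_split _ σ hc]
      congr 1
      · rw [Matrix.updateCol_ne (Ne.symm hc), Matrix.updateCol_self, Pi.single_apply]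
      · congr 1
        · rw [Matrix.updateCol_self]
        · refine Finset.prod_congr rfl fun i hi => ?_
          have hic : i ≠ c := Finset.ne_of_mem_erase hi
          have hii : i ≠ i₀ := Finset.ne_of_mem_erase (Finset.mem_of_mem_erase hi)
          rw [Matrix.updateCol_ne hic, Matrix.updateCol_ne hii]
    simp_rw [h1]
    rw [← Finset.mul_sum]
    congr 1
    simp only [ite_mul, one_mul, zero_mul]
    rw [Finset.sum_ite_eq]
    simp
  rw [Finset.sum_congr rfl (fun σ _ => hterm σ)]
  refine Finset.sum_ninvolution (fun σ => σ * Equiv.swap i₀ c) ?_ ?_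
    (fun _ => Finset.mem_univ _) ?_
  · intro σ
    have hs : Equiv.Perm.sign (σ * Equiv.swap i₀ c) = - Equiv.Perm.sign σ := by
      rw [Equiv.Perm.sign_mul, Equiv.Perm.sign_swap (Ne.symm hc), mul_neg, mul_one]
    rw [hs]
    simp only [Equiv.Perm.mul_apply, Equiv.swap_apply_left, Equiv.swap_apply_right]
    have hprod : ∏ i ∈ (Finset.univ.erase i₀).erase c, N (σ (Equiv.swap i₀ c i)) i
        = ∏ i ∈ (Finset.univ.erase i₀).erase c, N (σ i) i := by
      refine Finset.prod_congr rfl fun i hi => ?_
      have hic : i ≠ c := Finset.ne_of_mem_erase hi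
      have hii : i ≠ i₀ := Finset.ne_of_mem_erase (Finset.mem_of_mem_erase hi)
      rw [Equiv.swap_apply_of_ne_of_ne hii hic]
    rw [hprod, hclosed (σ c) (σ i₀)]
    simp only [Units.val_neg, Int.cast_neg]
    ring
  · intro σ _ h
    have h2 := congrArg (fun τ : Equiv.Perm (Fin n) => τ i₀) h
    simp only [Equiv.Perm.mul_apply, Equiv.swap_apply_left] at h2
    exact hc (σ.injective h2)
  · intro σ
    rw [mul_assoc, Equiv.swap_mul_self, mul_one]

theorem piola (N : Matrix (Fin n) (Fin n) A) (i₀ : Fin n)
    (hclosed : ∀ c, c ≠ i₀ → ∀ j l, δ j (N l c) = δ l (N j c)) :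
    ∑ j, δ j ((N.updateCol i₀ (Pi.single j 1)).det) = 0 := by
  classical
  simp_rw [deriv_det]
  rw [Finset.sum_comm]
  refine Finset.sum_eq_zero fun c _ => ?_
  by_cases hc : c = i₀
  · subst hc
    refine Finset.sum_eq_zero fun j _ => ?_
    apply Matrix.det_eq_zero_of_column_eq_zero c
    intro r
    rw [Matrix.updateCol_self, Matrix.updateCol_self, Pi.single_apply]
    split_ifs <;> simp
  · have h1 : ∀ j, ((N.updateCol i₀ (Pi.single j 1)).updateCol c
          fun r => δ j ((N.updateCol i₀ (Pi.single j 1)) r c))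
        = ((N.updateCol i₀ (Pi.single j 1)).updateCol c fun r => δ j (N r c)) := by
      intro j
      congr 1
      funext r
      rw [Matrix.updateCol_ne hc]
    simp_rw [h1]
    exact piola_aux δ N hc (hclosed c hc)

theorem det_eq_divergence (N : Matrix (Fin n) (Fin n) A) (i₀ : Fin n) (g : A)
    (hcol : ∀ r, N r i₀ = δ r g)
    (hclosed : ∀ c, c ≠ i₀ → ∀ j l, δ j (N l c) = δ l (N j c)) :
    N.det = ∑ j, δ j (g * (N.updateCol i₀ (Pi.single j 1)).det) := by
  classical
  have h1 : N.det = ∑ j, δ j g * (N.updateCol i₀ (Pi.single j 1)).det := by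
    have h := det_updateCol_eq_sum N i₀ (fun r => N r i₀)
    rw [Matrix.updateCol_eq_self] at h
    rw [h]
    exact Finset.sum_congr rfl fun j _ => by rw [hcol]
  simp_rw [Derivation.leibniz, smul_eq_mul]
  rw [Finset.sum_add_distrib, ← Finset.mul_sum, piola δ N i₀ hclosed, mul_zero, zero_add, h1]
  exact Finset.sum_congr rfl fun j _ => mul_comm _ _

end Piola

section Lam
variable {n : ℕ} (δ : Fin n → Derivation k A A) (p : ℕ)

/-- `∏_{j ∈ l} ∂_j^{p-1}` as an endomorphism. -/
noncomputable def lam : List (Fin n) → Module.End k A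
  | [] => 1
  | j :: l => ((δ j : Module.End k A) ^ (p - 1)) * lam l

theorem lam_nil (a : A) : lam δ p [] a = a := rfl

theorem lam_cons (j : Fin n) (l : List (Fin n)) (a : A) :
    lam δ p (j :: l) a = ((δ j : Module.End k A) ^ (p - 1)) (lam δ p l a) := rfl

variable (hcomm : ∀ i j a, δ i (δ j a) = δ j (δ i a))
  (hpow : ∀ j a, ((δ j : Module.End k A) ^ p) a = 0)

include hcomm in
theorem pow_comm (i j : Fin n) (m : ℕ) (a : A) :
    ((δ i : Module.End k A) ^ m) (δ j a) = δ j (((δ i : Module.End k A) ^ m) a) := by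
  induction m generalizing a with
  | zero => rfl
  | succ m ih =>
    rw [pow_succ, Module.End.mul_apply, Module.End.mul_apply, Derivation.coeFn_coe, hcomm i j a, ih]

include hcomm in
theorem lam_comm (l : List (Fin n)) (j : Fin n) (a : A) :
    lam δ p l (δ j a) = δ j (lam δ p l a) := by
  induction l with
  | nil => rfl
  | cons i l ih => rw [lam_cons, lam_cons, ih, pow_comm δ hcomm]

include hcomm hpow in
theorem lam_deriv_eq_zero (hp : 1 ≤ p) (l : List (Fin n)) (j : Fin n) (hj : j ∈ l) (a : A) :
    lam δ p l (δ j a) = 0 := by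
  induction l with
  | nil => simp at hj
  | cons i l ih =>
    rw [lam_cons]
    rcases List.mem_cons.mp hj with rfl | hj'
    · rw [lam_comm δ p hcomm]
      have h1 : ((δ j : Module.End k A) ^ (p - 1)) (δ j (lam δ p l a))
          = ((δ j : Module.End k A) ^ (p - 1 + 1)) (lam δ p l a) := by
        rw [pow_succ, Module.End.mul_apply, Derivation.coeFn_coe]
      rw [h1, Nat.sub_add_cancel hp, hpow]
    · rw [ih hj', map_zero]

theorem pow_apply_pow_mul (D : Derivation k A A) (t g : A) (ht : D t = 1) (hg : D g = 0)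
    (r m : ℕ) :
    ((D : Module.End k A) ^ m) (t ^ r * g) = (r.descFactorial m : A) * (t ^ (r - m) * g) := by
  induction m with
  | zero => simp
  | succ m ih =>
    rw [pow_succ', Module.End.mul_apply, ih, Nat.descFactorial_succ, Derivation.coeFn_coe,
      Derivation.leibniz, Derivation.map_natCast, smul_zero, add_zero, smul_eq_mul,
      Derivation.leibniz, hg, smul_zero, zero_add, Derivation.leibniz_pow, ht]
    simp only [smul_eq_mul, nsmul_eq_mul, mul_one, Nat.cast_mul]
    rw [show r - (m + 1) = r - m - 1 by omega]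
    ring

theorem lam_prod (t : Fin n → A) (ht : ∀ j i, δ j (t i) = if i = j then 1 else 0)
    (l : List (Fin n)) (hl : l.Nodup) (g : A) (hg : ∀ j ∈ l, δ j g = 0) :
    lam δ p l ((l.map fun i => t i ^ (p - 1)).prod * g)
      = (((p - 1).factorial : ℕ) : A) ^ l.length * g := by
  induction l generalizing g with
  | nil => simp [lam_nil]
  | cons i l ih =>
    rw [List.nodup_cons] at hl
    rw [lam_cons, List.map_cons, List.prod_cons]
    have hg' : ∀ j ∈ l, δ j (t i ^ (p - 1) * g) = 0 := by
      intro j hj
      have hji : i ≠ j := fun h => hl.1 (h ▸ hj)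
      rw [Derivation.leibniz, hg j (List.mem_cons_of_mem _ hj), Derivation.leibniz_pow, ht j i,
        if_neg hji]
      simp
    have e : t i ^ (p - 1) * (l.map fun i => t i ^ (p - 1)).prod * g
        = (l.map fun i => t i ^ (p - 1)).prod * (t i ^ (p - 1) * g) := by ring
    rw [e, ih hl.2 _ hg']
    have hti : δ i (t i) = 1 := by rw [ht i i, if_pos rfl]
    have hgi : δ i ((((p - 1).factorial : ℕ) : A) ^ l.length * g) = 0 := by
      rw [Derivation.leibniz, hg i (List.mem_cons_self ..), ← Nat.cast_pow,
        Derivation.map_natCast]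
      simp
    have e2 : (((p - 1).factorial : ℕ) : A) ^ l.length * (t i ^ (p - 1) * g)
        = t i ^ (p - 1) * ((((p - 1).factorial : ℕ) : A) ^ l.length * g) := by ring
    rw [e2, pow_apply_pow_mul (δ i) (t i) _ hti hgi, Nat.descFactorial_self, Nat.sub_self,
      pow_zero, one_mul, List.length_cons, pow_succ]
    ring

end Lam

section PowDer

theorem pascal_sum (P Q : ℕ → A) (m : ℕ) :
    ∑ i ∈ Finset.range (m + 1), (m.choose i : A) * (P i * Q (m - i + 1)) +
      ∑ i ∈ Finset.range (m + 1), (m.choose i : A) * (P (i + 1) * Q (m - i))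
    = ∑ i ∈ Finset.range (m + 2), ((m + 1).choose i : A) * (P i * Q (m + 1 - i)) := by
  rw [Finset.sum_range_succ' (fun i => ((m + 1).choose i : A) * (P i * Q (m + 1 - i))) (m + 1)]
  have h1 : ∑ i ∈ Finset.range (m + 1),
        ((m + 1).choose (i + 1) : A) * (P (i + 1) * Q (m + 1 - (i + 1)))
      = ∑ i ∈ Finset.range (m + 1), (m.choose i : A) * (P (i + 1) * Q (m - i)) +
        ∑ i ∈ Finset.range (m + 1), (m.choose (i + 1) : A) * (P (i + 1) * Q (m - i)) := by
    rw [← Finset.sum_add_distrib]
    refine Finset.sum_congr rfl fun i _ => ?_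
    rw [Nat.choose_succ_succ', Nat.cast_add, Nat.add_sub_add_right, add_mul]
  have h2 : ∑ i ∈ Finset.range (m + 1), (m.choose (i + 1) : A) * (P (i + 1) * Q (m - i))
      = ∑ i ∈ Finset.range m, (m.choose (i + 1) : A) * (P (i + 1) * Q (m - i)) := by
    rw [Finset.sum_range_succ, Nat.choose_succ_self, Nat.cast_zero, zero_mul, add_zero]
  have h3 : ∑ i ∈ Finset.range (m + 1), (m.choose i : A) * (P i * Q (m - i + 1))
      = ∑ i ∈ Finset.range m, (m.choose (i + 1) : A) * (P (i + 1) * Q (m - i))
        + P 0 * Q (m + 1) := by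
    rw [Finset.sum_range_succ' (fun i => (m.choose i : A) * (P i * Q (m - i + 1))) m]
    congr 1
    · refine Finset.sum_congr rfl fun i hi => ?_
      have : m - (i + 1) + 1 = m - i := by
        have := Finset.mem_range.mp hi
        omega
      rw [this]
    · simp
  rw [h1, h2, h3]
  simp only [Nat.choose_zero_right, Nat.cast_one, one_mul, Nat.sub_zero]
  ring

theorem pow_apply_mul (D : Derivation k A A) (m : ℕ) (a b : A) :
    ((D : Module.End k A) ^ m) (a * b)
      = ∑ i ∈ Finset.range (m + 1),
        (m.choose i : A) *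
          (((D : Module.End k A) ^ i) a * ((D : Module.End k A) ^ (m - i)) b) := by
  induction m generalizing a b with
  | zero => simp
  | succ m ih =>
    have hL : ∀ (x : A) (i : ℕ),
        ((D : Module.End k A) ^ i) (D x) = ((D : Module.End k A) ^ (i + 1)) x := by
      intro x i
      rw [pow_succ, Module.End.mul_apply, Derivation.coeFn_coe]
    rw [pow_succ, Module.End.mul_apply, Derivation.coeFn_coe, Derivation.leibniz, smul_eq_mul,
      smul_eq_mul, map_add, ih a (D b), mul_comm b (D a), ih (D a) b]
    simp_rw [hL]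
    exact pascal_sum (fun i => ((D : Module.End k A) ^ i) a)
      (fun i => ((D : Module.End k A) ^ i) b) m

variable (p : ℕ) [Fact p.Prime] [CharP A p]

theorem pow_char_apply_mul (D : Derivation k A A) (a b : A) :
    ((D : Module.End k A) ^ p) (a * b)
      = a * ((D : Module.End k A) ^ p) b + b * ((D : Module.End k A) ^ p) a := by
  have hp : p.Prime := Fact.out
  rw [pow_apply_mul]
  have hmid : ∀ i ∈ Finset.range (p + 1), i ≠ 0 ∧ i ≠ p → (p.choose i : A) *
      (((D : Module.End k A) ^ i) a * ((D : Module.End k A) ^ (p - i)) b) = 0 := by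
    intro i hi hne
    have hlt : i < p := by
      have := Finset.mem_range.mp hi
      omega
    have : ((p.choose i : ℕ) : A) = 0 := by
      rw [CharP.cast_eq_zero_iff A p]
      exact hp.dvd_choose_self hne.1 hlt
    rw [this, zero_mul]
  rw [Finset.sum_eq_add 0 p hp.ne_zero.symm hmid
    (fun h => absurd (Finset.mem_range.mpr (by omega)) h)
    (fun h => absurd (Finset.mem_range.mpr (by omega)) h)]
  simp only [Nat.choose_zero_right, Nat.choose_self, Nat.cast_one, one_mul, pow_zero,
    Module.End.one_apply, Nat.sub_zero, Nat.sub_self]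
  ring

/-- The `p`-th power of a derivation in characteristic `p` is a derivation. -/
noncomputable def powDer (D : Derivation k A A) : Derivation k A A :=
  Derivation.mk' ((D : Module.End k A) ^ p) (fun a b => by
    rw [smul_eq_mul, smul_eq_mul]
    exact pow_char_apply_mul p D a b)

theorem powDer_apply (D : Derivation k A A) (a : A) :
    powDer p D a = ((D : Module.End k A) ^ p) a := rfl

end PowDer

section Core

theorem core [IsDomain A] (p : ℕ) [Fact p.Prime] [CharP A p] {n : ℕ}
    (δ : Fin n → Derivation k A A)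
    (hcomm : ∀ i j a, δ i (δ j a) = δ j (δ i a))
    (hpow : ∀ j a, ((δ j : Module.End k A) ^ p) a = 0)
    (t : Fin n → A) (ht : ∀ j i, δ j (t i) = if i = j then 1 else 0) (f : Fin n → A) :
    (Matrix.of fun i j : Fin n => (if i = j then t i ^ (p - 1) else 0) + δ j (f i)).det ≠ 0 := by
  classical
  have hp : p.Prime := Fact.out
  intro h0
  set Dr : Fin n → Fin n → A := fun i j => if i = j then t i ^ (p - 1) else 0 with hDr
  set Jr : Fin n → Fin n → A := fun i j => δ j (f i) with hJr
  have hexp : (Matrix.of fun i j : Fin n => (if i = j then t i ^ (p - 1) else 0) + δ j (f i)).det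
      = ∑ s : Finset (Fin n), (Matrix.of (s.piecewise Dr Jr)).det := by
    have := (Matrix.detRowAlternating (R := A) (n := Fin n)).toMultilinearMap.map_add_univ Dr Jr
    exact this
  have hzero : ∀ s : Finset (Fin n), s ≠ Finset.univ →
      lam δ p (List.finRange n) (Matrix.of (s.piecewise Dr Jr)).det = 0 := by
    intro s hs
    obtain ⟨i₀, hi₀⟩ : ∃ i₀, i₀ ∉ s := by
      by_contra hcon
      exact hs (Finset.eq_univ_iff_forall.mpr fun x => by_contra fun hx => hcon ⟨x, hx⟩)
    rw [← Matrix.det_transpose,
      det_eq_divergence δ (Matrix.of (s.piecewise Dr Jr))ᵀ i₀ (f i₀) ?_ ?_]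
    · rw [map_sum]
      exact Finset.sum_eq_zero fun j _ =>
        lam_deriv_eq_zero δ p hcomm hpow hp.one_le _ j (List.mem_finRange j) _
    · intro r
      simp only [Matrix.transpose_apply, Matrix.of_apply, Finset.piecewise_eq_of_notMem _ _ _ hi₀,
        hJr]
    · intro c hc j l
      simp only [Matrix.transpose_apply, Matrix.of_apply]
      by_cases hcs : c ∈ s
      · rw [Finset.piecewise_eq_of_mem _ _ _ hcs]
        simp only [hDr]
        by_cases hl : c = l <;> by_cases hj : c = j
        · subst hl; subst hj; rfl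
        · rw [if_pos hl, if_neg hj, map_zero, Derivation.leibniz_pow, ht j c, if_neg hj]
          simp
        · rw [if_neg hl, if_pos hj, map_zero, Derivation.leibniz_pow, ht l c, if_neg hl]
          simp
        · rw [if_neg hl, if_neg hj, map_zero, map_zero]
      · rw [Finset.piecewise_eq_of_notMem _ _ _ hcs]
        exact hcomm j l (f c)
  have huniv : lam δ p (List.finRange n)
      (Matrix.of ((Finset.univ : Finset (Fin n)).piecewise Dr Jr)).det
      = (((p - 1).factorial : ℕ) : A) ^ n := by
    rw [Finset.piecewise_univ]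
    have hdiag : Matrix.of Dr = Matrix.diagonal fun i => t i ^ (p - 1) := by
      ext i j
      simp [hDr, Matrix.diagonal_apply]
    rw [hdiag, Matrix.det_diagonal, Fin.prod_univ_def]
    have h := lam_prod δ p t ht (List.finRange n) (List.nodup_finRange n) 1
      (fun j _ => (δ j).map_one_eq_zero)
    rw [mul_one, mul_one, List.length_finRange] at h
    exact h
  have hΛ : lam δ p (List.finRange n)
      (Matrix.of fun i j : Fin n => (if i = j then t i ^ (p - 1) else 0) + δ j (f i)).det
      = (((p - 1).factorial : ℕ) : A) ^ n := by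
    rw [hexp, map_sum, Finset.sum_eq_single Finset.univ, huniv]
    · intro s _ hs
      exact hzero s hs
    · intro h
      exact absurd (Finset.mem_univ _) h
  rw [h0, map_zero] at hΛ
  have hc : (((p - 1).factorial : ℕ) : A) ≠ 0 := by
    rw [Ne, CharP.cast_eq_zero_iff A p, hp.dvd_factorial]
    have := hp.pos
    omega
  exact pow_ne_zero n hc hΛ.symm

end Core

end Groth.Agent.Lib.Helper27.FrobDet
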