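import Groth.Agent.Lib.Helper27.FunFld13

/-! Function fields of one variable (helper27), part 14: linear series `(D, V)`, vanishing
dimensions `dim V(-nP)`, the basic two-point inequality. -/

set_option autoImplicit false

namespace Groth.Agent.Lib.Helper27.FF

open FunFld Polynomial IntermediateField

universe u v

variable {k : Type u} {K : Type v} [Field k] [Field K] [Algebra k K]

/-- over an algebraically closed constant field every place has degree one. -/
theorem deg_eq_one' [IsAlgClosed k] (hK : IsFunctionField k K) (P : Place k K) : P.deg = 1 := by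
  have h1 : Module.Finite k (IsLocalRing.ResidueField P.O) :=
    Groth.Agent.Lib.Helper23.FF.finiteDimensional_residueField hK P
  have h2 : Algebra.IsIntegral k (IsLocalRing.ResidueField P.O) :=
    @Algebra.IsIntegral.of_finite k (IsLocalRing.ResidueField P.O) _ _ _ h1
  have hsurj : Function.Surjective (algebraMap k (IsLocalRing.ResidueField P.O)) :=
    (IsAlgClosed.algebraMap_bijective_of_isIntegral (k := k)).2
  unfold Place.deg
  have h3 := Subalgebra.bot_eq_top_iff_finrank_eq_one.mp
    (Algebra.surjective_algebraMap_iff.mp hsurj).symm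
  exact h3

/-- `V(-nP) = V ∩ L(D - nP)`. -/
noncomputable def vs (V : Submodule k K) (D : Divisor k K) (P : Place k K) (n : ℤ) : Submodule k K :=
  V ⊓ L (D - Finsupp.single P n)

/-- `dim V(-nP)`. -/
noncomputable def av (V : Submodule k K) (D : Divisor k K) (P : Place k K) (n : ℤ) : ℕ :=
  Module.finrank k (vs V D P n)

theorem vs_def (V : Submodule k K) (D : Divisor k K) (P : Place k K) (n : ℤ) :
    vs V D P n = V ⊓ L (D - Finsupp.single P n) := rfl

theorem av_def (V : Submodule k K) (D : Divisor k K) (P : Place k K) (n : ℤ) :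
    av V D P n = Module.finrank k ↥(V ⊓ L (D - Finsupp.single P n)) := rfl

theorem single_mono (P : Place k K) {a b : ℤ} (h : a ≤ b) :
    (Finsupp.single P a : Divisor k K) ≤ Finsupp.single P b := by
  intro Q
  by_cases hQ : Q = P
  · subst hQ; rw [Finsupp.single_eq_same, Finsupp.single_eq_same]; exact h
  · rw [Finsupp.single_eq_of_ne hQ, Finsupp.single_eq_of_ne hQ]

theorem vs_anti (V : Submodule k K) (D : Divisor k K) (P : Place k K) {a b : ℤ} (h : a ≤ b) :
    vs V D P b ≤ vs V D P a :=
  inf_le_inf_left V (L_mono (sub_le_sub_left (single_mono P h) D))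

theorem vs_le (V : Submodule k K) (D : Divisor k K) (P : Place k K) (n : ℤ) : vs V D P n ≤ V :=
  inf_le_left

theorem finiteDimensional_of_le_L (hK : IsFunctionField k K) {V : Submodule k K} {D : Divisor k K}
    (hV : V ≤ L D) : FiniteDimensional k V := by
  haveI := finiteDimensional_L hK D
  exact Submodule.finiteDimensional_of_le hV

theorem vs_zero {V : Submodule k K} {D : Divisor k K} (hV : V ≤ L D) (P : Place k K) :
    vs V D P 0 = V := by
  unfold vs
  rw [Finsupp.single_zero, sub_zero]
  exact inf_eq_left.mpr hV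

theorem av_zero {V : Submodule k K} {D : Divisor k K} (hV : V ≤ L D) (P : Place k K) :
    av V D P 0 = Module.finrank k V := by
  unfold av
  rw [vs_zero hV]

theorem av_anti (hK : IsFunctionField k K) {V : Submodule k K} {D : Divisor k K} (hV : V ≤ L D)
    (P : Place k K) {a b : ℤ} (h : a ≤ b) : av V D P b ≤ av V D P a := by
  haveI := finiteDimensional_of_le_L hK hV
  haveI : FiniteDimensional k (vs V D P a) := Submodule.finiteDimensional_of_le (vs_le V D P a)
  exact Submodule.finrank_mono (vs_anti V D P h)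

theorem av_le (hK : IsFunctionField k K) {V : Submodule k K} {D : Divisor k K} (hV : V ≤ L D)
    (P : Place k K) (n : ℤ) : av V D P n ≤ Module.finrank k V := by
  haveI := finiteDimensional_of_le_L hK hV
  exact Submodule.finrank_mono (vs_le V D P n)

theorem L_inf (D₁ D₂ : Divisor k K) : L D₁ ⊓ L D₂ = L (D₁ ⊓ D₂) := by
  ext x
  rw [Submodule.mem_inf, mem_L_iff, mem_L_iff, mem_L_iff]
  constructor
  · rintro ⟨h1, h2⟩ P
    rw [Finsupp.inf_apply]
    rcases min_cases (D₁ P) (D₂ P) with ⟨h, _⟩ | ⟨h, _⟩
    · rw [h]; exact h1 P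
    · rw [h]; exact h2 P
  · intro h
    refine ⟨fun P => (h P).trans ?_, fun P => (h P).trans ?_⟩
    · rw [WithZero.exp_le_exp, Finsupp.inf_apply]; exact min_le_left _ _
    · rw [WithZero.exp_le_exp, Finsupp.inf_apply]; exact min_le_right _ _

theorem sub_single_inf_sub_single (D : Divisor k K) {P Q : Place k K} (hPQ : P ≠ Q) {n m : ℤ}
    (hn : 0 ≤ n) (hm : 0 ≤ m) :
    (D - Finsupp.single P n) ⊓ (D - Finsupp.single Q m) =
      D - Finsupp.single P n - Finsupp.single Q m := by
  ext R
  rw [Finsupp.inf_apply]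
  simp only [Finsupp.sub_apply]
  by_cases hRP : R = P
  · subst hRP
    rw [Finsupp.single_eq_same, Finsupp.single_eq_of_ne hPQ]
    simp [hn]
  · rw [Finsupp.single_eq_of_ne hRP]
    by_cases hRQ : R = Q
    · subst hRQ
      rw [Finsupp.single_eq_same]
      simp [hm]
    · rw [Finsupp.single_eq_of_ne hRQ]; simp

/-- the basic two-point inequality: `dim V(-nP) + dim V(-mQ) ≤ dim V` when `n + m > deg D`. -/
theorem av_add_av_le (hK : IsFunctionField k K) {V : Submodule k K} {D : Divisor k K}
    (hV : V ≤ L D) {P Q : Place k K} (hP : P.deg = 1) (hQ : Q.deg = 1) (hPQ : P ≠ Q) {n m : ℤ}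
    (hn : 0 ≤ n) (hm : 0 ≤ m) (hnm : D.deg < n + m) :
    av V D P n + av V D Q m ≤ Module.finrank k V := by
  haveI := finiteDimensional_of_le_L hK hV
  have hdisj : vs V D P n ⊓ vs V D Q m = ⊥ := by
    rw [eq_bot_iff]
    have h1 : vs V D P n ⊓ vs V D Q m ≤
        L (D - Finsupp.single P n) ⊓ L (D - Finsupp.single Q m) :=
      inf_le_inf inf_le_right inf_le_right
    rw [L_inf, sub_single_inf_sub_single D hPQ hn hm] at h1
    have h2 : (D - Finsupp.single P n - Finsupp.single Q m).deg < 0 := by
      rw [deg_sub, deg_sub, deg_single, deg_single, hP, hQ]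
      push_cast; linarith
    rw [L_eq_bot_of_deg_neg hK h2] at h1
    exact h1
  haveI : FiniteDimensional k (vs V D P n) := Submodule.finiteDimensional_of_le (vs_le V D P n)
  haveI : FiniteDimensional k (vs V D Q m) := Submodule.finiteDimensional_of_le (vs_le V D Q m)
  have h3 := Submodule.finrank_sup_add_finrank_inf_eq (vs V D P n) (vs V D Q m)
  rw [hdisj, finrank_bot, add_zero] at h3
  have h4 : Module.finrank k ↥(vs V D P n ⊔ vs V D Q m) ≤ Module.finrank k V :=
    Submodule.finrank_mono (sup_le (vs_le V D P n) (vs_le V D Q m))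
  unfold av
  omega

/-- `dim V(-nP) = 0` for `n > deg D`. -/
theorem av_eq_zero (hK : IsFunctionField k K) (V : Submodule k K) {D : Divisor k K}
    {P : Place k K} (hP : P.deg = 1) {n : ℤ} (hn : D.deg < n) : av V D P n = 0 := by
  unfold av vs
  have h2 : (D - Finsupp.single P n).deg < 0 := by
    rw [deg_sub, deg_single, hP]; push_cast; linarith
  rw [L_eq_bot_of_deg_neg hK h2, inf_bot_eq, finrank_bot]

/-- the step inequality `dim V(-nP) ≤ dim V(-(n+1)P) + 1` at a place of degree one. -/
theorem av_le_av_succ (hK : IsFunctionField k K) {V : Submodule k K} {D : Divisor k K}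
    (hV : V ≤ L D) {P : Place k K} (hP : P.deg = 1) (n : ℤ) :
    av V D P n ≤ av V D P (n + 1) + 1 := by
  haveI := finiteDimensional_of_le_L hK hV
  set A := L (D - Finsupp.single P n) with hA
  set B := L (D - Finsupp.single P (n + 1)) with hB
  have hle : D - Finsupp.single P (n + 1) ≤ D - Finsupp.single P n :=
    sub_le_sub_left (single_mono P (by linarith)) D
  have hBA : B ≤ A := L_mono hle
  haveI : FiniteDimensional k A := finiteDimensional_L hK _
  haveI : FiniteDimensional k B := finiteDimensional_L hK _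
  have h1 := ell_sub_ell_le hK hle
  rw [deg_sub, deg_sub, deg_single, deg_single, hP] at h1
  have h1' : (Module.finrank k A : ℤ) - Module.finrank k B ≤ 1 := by
    have : (ell (D - Finsupp.single P n) : ℤ) - ell (D - Finsupp.single P (n + 1)) ≤ 1 := by
      push_cast at h1; linarith
    exact this
  -- (V ⊓ A) ⊓ B = V ⊓ B
  have h2 : (V ⊓ A) ⊓ B = V ⊓ B := by
    rw [inf_assoc, inf_eq_right.mpr hBA]
  haveI : FiniteDimensional k ↥(V ⊓ A) := Submodule.finiteDimensional_of_le inf_le_left
  have h3 := Submodule.finrank_sup_add_finrank_inf_eq (V ⊓ A) B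
  rw [h2] at h3
  have h4 : Module.finrank k ↥((V ⊓ A) ⊔ B) ≤ Module.finrank k A :=
    Submodule.finrank_mono (sup_le inf_le_right hBA)
  show Module.finrank k ↥(V ⊓ A) ≤ Module.finrank k ↥(V ⊓ B) + 1
  omega

/-- sum form of the two-point inequality (second part of S18176). -/
theorem sum_av_add_sum_av_le (hK : IsFunctionField k K) {V : Submodule k K} {D : Divisor k K}
    (hV : V ≤ L D) {P Q : Place k K} (hP : P.deg = 1) (hQ : Q.deg = 1) (hPQ : P ≠ Q) (d : ℕ)
    (hD : D.deg = d) :
    (∑ n ∈ Finset.range d, av V D P ((n : ℤ) + 1)) +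
      (∑ n ∈ Finset.range d, av V D Q ((n : ℤ) + 1)) ≤ Module.finrank k V * d := by
  rw [← Finset.sum_range_reflect (fun n => av V D Q ((n : ℤ) + 1)) d, ← Finset.sum_add_distrib]
  calc ∑ n ∈ Finset.range d, (av V D P ((n : ℤ) + 1) + av V D Q (((d - 1 - n : ℕ) : ℤ) + 1))
      ≤ ∑ n ∈ Finset.range d, Module.finrank k V := by
        apply Finset.sum_le_sum
        intro n hn
        rw [Finset.mem_range] at hn
        apply av_add_av_le hK hV hP hQ hPQ (by positivity) (by positivity)
        rw [hD]
        have : ((d - 1 - n : ℕ) : ℤ) = (d : ℤ) - 1 - n := by omega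
        rw [this]; linarith
    _ = Module.finrank k V * d := by
        rw [Finset.sum_const, Finset.card_range, smul_eq_mul, mul_comm]

end Groth.Agent.Lib.Helper27.FF

namespace Groth.Agent.Lib.Helper27.FF

open FunFld

universe u v w

variable {k : Type u} {K : Type v} [Field k] [Field K] [Algebra k K]

/-- Compatibility at a node, summed: `∑ dim V_Y(-nP) + ∑ dim V_Z(-nQ) = (r+1) d`. -/
theorem sum_compat {KY : Type v} {KZ : Type w} [Field KY] [Field KZ] [Algebra k KY] [Algebra k KZ]
    (d r : ℕ) (VY : Submodule k KY) (DY : Divisor k KY) (P : Place k KY)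
    (VZ : Submodule k KZ) (DZ : Divisor k KZ) (Q : Place k KZ)
    (hcomp : ∀ n : ℕ, n ≤ d + 1 →
      Module.finrank k ↥(VY ⊓ FunFld.L (DY - Finsupp.single P ((n : ℤ)))) +
        Module.finrank k ↥(VZ ⊓ FunFld.L (DZ - Finsupp.single Q ((d : ℤ) + 1 - n))) = r + 1) :
    (∑ n ∈ Finset.range d, av VY DY P ((n : ℤ) + 1)) +
      (∑ n ∈ Finset.range d, av VZ DZ Q ((n : ℤ) + 1)) = (r + 1) * d := by
  rw [← Finset.sum_range_reflect (fun n => av VZ DZ Q ((n : ℤ) + 1)) d, ← Finset.sum_add_distrib]
  calc ∑ n ∈ Finset.range d, (av VY DY P ((n : ℤ) + 1) + av VZ DZ Q (((d - 1 - n : ℕ) : ℤ) + 1))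
      = ∑ n ∈ Finset.range d, (r + 1) := by
        apply Finset.sum_congr rfl
        intro n hn
        rw [Finset.mem_range] at hn
        have h := hcomp (n + 1) (by omega)
        have e : ((d - 1 - n : ℕ) : ℤ) + 1 = (d : ℤ) + 1 - ((n + 1 : ℕ) : ℤ) := by
          push_cast; omega
        rw [e]
        have e2 : ((n : ℤ) + 1) = ((n + 1 : ℕ) : ℤ) := by push_cast; rfl
        rw [e2]
        exact h
    _ = (r + 1) * d := by
        rw [Finset.sum_const, Finset.card_range, smul_eq_mul, mul_comm]

end Groth.Agent.Lib.Helper27.FF
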