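import Groth.Agent.Lib.Helper27.FunFld14

/-! Function fields of one variable (helper27), part 15: more on linear series: positive genus,
cusps. -/

set_option autoImplicit false

namespace Groth.Agent.Lib.Helper27.FF

open FunFld Polynomial IntermediateField

universe u v

variable {k : Type u} {K : Type v} [Field k] [Field K] [Algebra k K]

/-- If `ℓ(P) ≥ 2` for a place `P`, some element has `P` as its only pole, a simple one. -/
theorem exists_simple_pole_of_two_le_ell (hK : IsFunctionField k K) {P : Place k K}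
    (h2 : 2 ≤ ell (Finsupp.single P 1 : Divisor k K)) :
    ∃ x : K, P.ord x = -1 ∧ ∀ Q : Place k K, Q ≠ P → 0 ≤ Q.ord x := by
  obtain ⟨x, hx1, hx0⟩ := exists_mem_L_not_mem_L hK (D₁ := 0) (D₂ := Finsupp.single P 1)
    (by rw [ell_zero' hK]; omega)
  have hxne : x ≠ 0 := by
    rintro rfl
    exact hx0 (Submodule.zero_mem _)
  have hQ : ∀ Q : Place k K, Q ≠ P → 0 ≤ Q.ord x := by
    intro Q hQ
    have := hx1 Q
    rw [Finsupp.single_eq_of_ne hQ, val_le_exp_iff Q hxne] at this
    linarith
  refine ⟨x, ?_, hQ⟩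
  have h3 := hx1 P
  rw [Finsupp.single_eq_same, val_le_exp_iff P hxne] at h3
  have h4 : ¬ (0 ≤ P.ord x) := by
    intro h0
    apply hx0
    intro Q
    rw [Finsupp.zero_apply, val_le_exp_iff Q hxne]
    by_cases hQP : Q = P
    · subst hQP; linarith
    · have := hQ Q hQP; linarith
  omega

/-- In positive genus, a divisor of degree one has `ℓ ≤ 1`. -/
theorem ell_le_one_of_deg_eq_one (hK : IsFunctionField k K) (hg : 0 < genus k K)
    {E : Divisor k K} (hE : E.deg = 1) : ell E ≤ 1 := by
  by_contra hcon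
  push Not at hcon
  obtain ⟨f, hf0, hf⟩ := exists_ne_zero_of_ell_pos' (D := E) (by omega)
  have hE' := le_div_of_mem_L' hK hf0 hf
  have hdeg : (E + FunFld.div k f).deg = 1 := by rw [deg_add, deg_div hK, hE]; norm_num
  obtain ⟨P, hPdeg, hP⟩ := eq_single_of_nonneg_of_deg_eq_one hK hE' hdeg
  have h2 : 2 ≤ ell (Finsupp.single P 1 : Divisor k K) := by
    rw [← hP, ell_add_div hK E hf0]; omega
  obtain ⟨x, hx1, hx2⟩ := exists_simple_pole_of_two_le_ell hK h2
  have := genus_eq_zero_of_simple_pole hK hPdeg hx1 hx2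
  omega

theorem av_le_ell (hK : IsFunctionField k K) (V : Submodule k K) (D : Divisor k K)
    (P : Place k K) (n : ℤ) : av V D P n ≤ ell (D - Finsupp.single P n) := by
  haveI := finiteDimensional_L hK (D - Finsupp.single P n)
  exact Submodule.finrank_mono inf_le_right

/-- In positive genus, `dim V(-(d-1)A) ≤ 1`. -/
theorem av_pred_le_one_of_genus_pos (hK : IsFunctionField k K) (hg : 0 < genus k K)
    (V : Submodule k K) {D : Divisor k K} {d : ℕ} (hD : D.deg = d) {A : Place k K}
    (hA : A.deg = 1) : av V D A ((d : ℤ) - 1) ≤ 1 := by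
  refine (av_le_ell hK V D A _).trans (ell_le_one_of_deg_eq_one hK hg ?_)
  rw [deg_sub, deg_single, hA, hD]; push_cast; ring

/-- `ℓ(D) ≤ deg D + 1` for `deg D ≥ 0`; in particular a `g^r_d` has `r ≤ d`. -/
theorem ell_le_deg_add_one' (hK : IsFunctionField k K) (D : Divisor k K) (h : 0 ≤ D.deg) :
    (ell D : ℤ) ≤ D.deg + 1 := by
  by_cases h0 : ell D = 0
  · rw [h0]; push_cast; linarith
  obtain ⟨f, hf0, hf⟩ := exists_ne_zero_of_ell_pos' (D := D) (by omega)
  have hE' := le_div_of_mem_L' hK hf0 hf
  have := ell_le_deg_add_one hK hE'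
  rw [ell_add_div hK D hf0, deg_add, deg_div hK, add_zero] at this
  exact this

theorem finrank_le_of_le_L (hK : IsFunctionField k K) {V : Submodule k K} {D : Divisor k K}
    (hV : V ≤ L D) {d : ℕ} (hD : D.deg = d) : Module.finrank k V ≤ d + 1 := by
  haveI := finiteDimensional_L hK D
  have h1 : Module.finrank k V ≤ ell D := Submodule.finrank_mono hV
  have h2 := ell_le_deg_add_one' hK D (by rw [hD]; positivity)
  rw [hD] at h2
  have : (ell D : ℤ) ≤ (d + 1 : ℕ) := by push_cast; exact h2
  have : ell D ≤ d + 1 := by exact_mod_cast this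
  omega

end Groth.Agent.Lib.Helper27.FF
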