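import Groth.Agent.Lib.Helper27.FunFld15

/-! Function fields of one variable (helper27), part 16: linear series: sections with prescribed
two-point divisor, counting lemma. -/

set_option autoImplicit false

namespace Groth.Agent.Lib.Helper27.FF

open FunFld Polynomial IntermediateField

universe u v

variable {k : Type u} {K : Type v} [Field k] [Field K] [Algebra k K]

/-- abstract counting lemma. -/
theorem count_lemma (a b : ℕ → ℕ) (d r : ℕ) (ha0 : a 0 = r + 1) (hb0 : b 0 = r + 1)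
    (hab : ∀ n, n ≤ d → a n + b (d - n) ≤ r + 2) :
    (∑ n ∈ Finset.range d, a (n + 1)) + (∑ n ∈ Finset.range d, b (n + 1)) + 2 * (r + 1) ≤
      (r + 1) * (d + 1) +
        ((Finset.range (d + 1)).filter (fun n => r + 2 ≤ a n + b (d - n))).card := by
  classical
  have h1 : ∑ n ∈ Finset.range (d + 1), (a n + b (d - n)) ≤
      ∑ n ∈ Finset.range (d + 1), ((r + 1) + if r + 2 ≤ a n + b (d - n) then 1 else 0) := by
    apply Finset.sum_le_sum
    intro n hn
    rw [Finset.mem_range] at hn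
    have := hab n (by omega)
    split_ifs with h <;> omega
  have hR : ∑ n ∈ Finset.range (d + 1), ((r + 1) + if r + 2 ≤ a n + b (d - n) then 1 else 0) =
      (r + 1) * (d + 1) +
        ((Finset.range (d + 1)).filter (fun n => r + 2 ≤ a n + b (d - n))).card := by
    rw [Finset.sum_add_distrib, Finset.sum_const, Finset.card_range, smul_eq_mul,
      Finset.sum_boole, mul_comm]
    simp
  have h2 : ∑ n ∈ Finset.range (d + 1), (a n + b (d - n)) =
      (∑ n ∈ Finset.range (d + 1), a n) + ∑ n ∈ Finset.range (d + 1), b n := by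
    rw [Finset.sum_add_distrib]
    congr 1
    have := Finset.sum_range_reflect b (d + 1)
    rw [← this]
    apply Finset.sum_congr rfl
    intro n hn
    rw [Finset.mem_range] at hn
    congr 1
  rw [hR, h2, Finset.sum_range_succ' a d, Finset.sum_range_succ' b d, ha0, hb0] at h1
  omega

/-- If `dim V(-nP) + dim V(-mQ) > dim V` with `n + m = deg D`, some member of `V` has divisor
exactly `nP + mQ`. -/
theorem exists_div_eq_of_lt_av_add_av (hK : IsFunctionField k K) {V : Submodule k K}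
    {D : Divisor k K} (hV : V ≤ L D) {P Q : Place k K} (hP : P.deg = 1) (hQ : Q.deg = 1)
    (hPQ : P ≠ Q) {n m : ℤ} (hn : 0 ≤ n) (hm : 0 ≤ m) (hnm : D.deg = n + m)
    (h : Module.finrank k V < av V D P n + av V D Q m) :
    ∃ f : K, f ≠ 0 ∧ f ∈ V ∧
      FunFld.div k f = Finsupp.single P n + Finsupp.single Q m - D := by
  haveI := finiteDimensional_of_le_L hK hV
  haveI : FiniteDimensional k (vs V D P n) := Submodule.finiteDimensional_of_le (vs_le V D P n)
  haveI : FiniteDimensional k (vs V D Q m) := Submodule.finiteDimensional_of_le (vs_le V D Q m)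
  have h3 := Submodule.finrank_sup_add_finrank_inf_eq (vs V D P n) (vs V D Q m)
  have h4 : Module.finrank k ↥(vs V D P n ⊔ vs V D Q m) ≤ Module.finrank k V :=
    Submodule.finrank_mono (sup_le (vs_le V D P n) (vs_le V D Q m))
  have h5 : 0 < Module.finrank k ↥(vs V D P n ⊓ vs V D Q m) := by
    unfold av at h; omega
  obtain ⟨f, hf, hf0⟩ := exists_ne_zero_of_finrank_pos _ h5
  have hfV : f ∈ V := hf.1.1
  have hfL : f ∈ L (D - Finsupp.single P n - Finsupp.single Q m) := by
    have : f ∈ L (D - Finsupp.single P n) ⊓ L (D - Finsupp.single Q m) := ⟨hf.1.2, hf.2.2⟩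
    rw [L_inf, sub_single_inf_sub_single D hPQ hn hm] at this
    exact this
  refine ⟨f, hf0, hfV, ?_⟩
  have h6 := le_div_of_mem_L' hK hf0 hfL
  have h7 : (D - Finsupp.single P n - Finsupp.single Q m + FunFld.div k f).deg = 0 := by
    rw [deg_add, deg_div hK, deg_sub, deg_sub, deg_single, deg_single, hP, hQ, hnm]
    push_cast; ring
  have h8 := eq_zero_of_nonneg_of_deg_eq_zero (one_le_deg' hK) h6 h7
  rw [← sub_eq_zero]
  rw [← h8]; abel

/-- the general bound `dim V(-nP) + dim V(-(d-n)Q) ≤ r + 2`. -/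
theorem av_add_av_le_succ (hK : IsFunctionField k K) {V : Submodule k K} {D : Divisor k K}
    (hV : V ≤ L D) {P Q : Place k K} (hP : P.deg = 1) (hQ : Q.deg = 1) (hPQ : P ≠ Q) {n m : ℤ}
    (hn : 0 ≤ n) (hm : 0 ≤ m) (hnm : D.deg = n + m) :
    av V D P n + av V D Q m ≤ Module.finrank k V + 1 := by
  have h1 := av_add_av_le hK hV hP hQ hPQ (n := n) (m := m + 1) hn (by linarith)
    (by rw [hnm]; linarith)
  have h2 := av_le_av_succ hK hV hQ m
  omega

/-- the set of `n ≤ d` for which some member of `V` has divisor exactly `nP + (d-n)Q`. -/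
theorem exists_of_mem_filter (hK : IsFunctionField k K) {V : Submodule k K} {D : Divisor k K}
    (hV : V ≤ L D) {P Q : Place k K} (hP : P.deg = 1) (hQ : Q.deg = 1) (hPQ : P ≠ Q) {d r : ℕ}
    (hD : D.deg = d) (hVr : Module.finrank k V = r + 1) {n : ℕ}
    (hn : n ∈ (Finset.range (d + 1)).filter
      (fun n : ℕ => r + 2 ≤ av V D P (n : ℤ) + av V D Q ((d - n : ℕ) : ℤ))) :
    ∃ f : K, f ≠ 0 ∧ f ∈ V ∧
      FunFld.div k f = Finsupp.single P (n : ℤ) + Finsupp.single Q ((d : ℤ) - n) - D := by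
  rw [Finset.mem_filter, Finset.mem_range] at hn
  obtain ⟨hnd, hn2⟩ := hn
  have e : ((d - n : ℕ) : ℤ) = (d : ℤ) - n := by omega
  rw [e] at hn2
  exact exists_div_eq_of_lt_av_add_av hK hV hP hQ hPQ (by positivity)
    (by have : (n : ℤ) ≤ d := by exact_mod_cast (by omega : n ≤ d)
        linarith) (by rw [hD]; ring) (by rw [hVr]; omega)

theorem count_lemma' (hK : IsFunctionField k K) {V : Submodule k K} {D : Divisor k K}
    (hV : V ≤ L D) {P Q : Place k K} (hP : P.deg = 1) (hQ : Q.deg = 1) (hPQ : P ≠ Q) {d r : ℕ}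
    (hD : D.deg = d) (hVr : Module.finrank k V = r + 1) :
    (∑ n ∈ Finset.range d, av V D P ((n : ℤ) + 1)) +
      (∑ n ∈ Finset.range d, av V D Q ((n : ℤ) + 1)) + 2 * (r + 1) ≤
      (r + 1) * (d + 1) + ((Finset.range (d + 1)).filter
        (fun n : ℕ => r + 2 ≤ av V D P (n : ℤ) + av V D Q ((d - n : ℕ) : ℤ))).card := by
  have := count_lemma (fun n : ℕ => av V D P (n : ℤ)) (fun n : ℕ => av V D Q (n : ℤ)) d r
    (by show av V D P ((0 : ℕ) : ℤ) = r + 1
        rw [Nat.cast_zero, av_zero hV, hVr])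
    (by show av V D Q ((0 : ℕ) : ℤ) = r + 1
        rw [Nat.cast_zero, av_zero hV, hVr])
    (by
      intro n hn
      show av V D P (n : ℤ) + av V D Q ((d - n : ℕ) : ℤ) ≤ r + 2
      have e : ((d - n : ℕ) : ℤ) = (d : ℤ) - n := by omega
      rw [e]
      have := av_add_av_le_succ hK hV hP hQ hPQ (n := (n : ℤ)) (m := (d : ℤ) - n) (by positivity)
        (by have : (n : ℤ) ≤ d := by exact_mod_cast hn
            linarith) (by rw [hD]; ring)
      rw [hVr] at this
      omega)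
  simp only [Nat.cast_add, Nat.cast_one] at this
  exact this

/-- S18177: large weights at two points force a torsion relation. -/
theorem exists_principal_multiple (hK : IsFunctionField k K) {V : Submodule k K}
    {D : Divisor k K} (hV : V ≤ L D) {P Q : Place k K} (hP : P.deg = 1) (hQ : Q.deg = 1)
    (hPQ : P ≠ Q) {d r : ℕ} (hD : D.deg = d) (hVr : Module.finrank k V = r + 1)
    (hw : (r + 1) * d + 1 ≤ (∑ n ∈ Finset.range d, av V D P ((n : ℤ) + 1)) +
      (∑ n ∈ Finset.range d, av V D Q ((n : ℤ) + 1)) + r) :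
    ∃ m : ℕ, 1 ≤ m ∧ m ≤ d ∧ ∃ h : K, h ≠ 0 ∧
      FunFld.div k h = Finsupp.single Q (m : ℤ) - Finsupp.single P (m : ℤ) := by
  have hc := count_lemma' hK hV hP hQ hPQ hD hVr
  have hcard : 1 < ((Finset.range (d + 1)).filter
      (fun n : ℕ => r + 2 ≤ av V D P (n : ℤ) + av V D Q ((d - n : ℕ) : ℤ))).card := by
    have : (r + 1) * (d + 1) = (r + 1) * d + (r + 1) := by ring
    omega
  obtain ⟨n₁, hn₁, n₂, hn₂, hne⟩ := Finset.one_lt_card.mp hcard
  -- wlog n₁ < n₂
  have main : ∀ n₁ n₂ : ℕ, n₁ ∈ (Finset.range (d + 1)).filter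
      (fun n : ℕ => r + 2 ≤ av V D P (n : ℤ) + av V D Q ((d - n : ℕ) : ℤ)) →
      n₂ ∈ (Finset.range (d + 1)).filter
      (fun n : ℕ => r + 2 ≤ av V D P (n : ℤ) + av V D Q ((d - n : ℕ) : ℤ)) → n₁ < n₂ →
      ∃ m : ℕ, 1 ≤ m ∧ m ≤ d ∧ ∃ h : K, h ≠ 0 ∧
        FunFld.div k h = Finsupp.single Q (m : ℤ) - Finsupp.single P (m : ℤ) := by
    intro n₁ n₂ hn₁ hn₂ hlt
    obtain ⟨f₁, hf₁0, -, hf₁⟩ := exists_of_mem_filter hK hV hP hQ hPQ hD hVr hn₁
    obtain ⟨f₂, hf₂0, -, hf₂⟩ := exists_of_mem_filter hK hV hP hQ hPQ hD hVr hn₂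
    have hn₂d : n₂ ≤ d := by
      rw [Finset.mem_filter, Finset.mem_range] at hn₂; omega
    refine ⟨n₂ - n₁, by omega, by omega, f₁ * f₂⁻¹, mul_ne_zero hf₁0 (inv_ne_zero hf₂0), ?_⟩
    rw [div_mul' hK hf₁0 (inv_ne_zero hf₂0), div_inv' hK, hf₁, hf₂]
    have e : ((n₂ - n₁ : ℕ) : ℤ) = (n₂ : ℤ) - n₁ := by omega
    rw [e]
    have e1 : (Finsupp.single P (n₁ : ℤ) : Divisor k K) =
        Finsupp.single P (n₂ : ℤ) - Finsupp.single P ((n₂ : ℤ) - n₁) := by
      rw [← Finsupp.single_sub]; congr 1; ring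
    have e2 : (Finsupp.single Q ((d : ℤ) - n₁) : Divisor k K) =
        Finsupp.single Q ((d : ℤ) - n₂) + Finsupp.single Q ((n₂ : ℤ) - n₁) := by
      rw [← Finsupp.single_add]; congr 1; ring
    rw [e1, e2]; abel
  rcases Nat.lt_or_gt_of_ne (a := n₁) (b := n₂) hne with h | h
  · exact main n₁ n₂ hn₁ hn₂ h
  · exact main n₂ n₁ hn₂ hn₁ h

end Groth.Agent.Lib.Helper27.FF
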