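import Groth.Agent.Lib.Helper27.FunFld17

/-! Function fields of one variable (helper27), part 18: genus zero, characteristic zero:
uniqueness of sections supported at two points in the presence of a cusp (S18175) and the
three-point weight inequality. -/

set_option autoImplicit false

namespace Groth.Agent.Lib.Helper27.FF

open FunFld Polynomial IntermediateField

universe u v

variable {k : Type u} {K : Type v} [Field k] [Field K] [Algebra k K]

/-- In genus zero and characteristic zero, if `div h = N (P - P')` with `N ≥ 1`, no nonzero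
member of the pencil `⟨1, h⟩` vanishes doubly at a third place `Q`. -/
theorem val_pencil_ge [CharZero k] (hK : IsFunctionField k K) (hg : genus k K = 0)
    {P P' Q : Place k K} (hPd : P.deg = 1) (hP'd : P'.deg = 1) (hQd : Q.deg = 1) (hPP' : P ≠ P')
    (hQP : Q ≠ P) (hQP' : Q ≠ P') {h : K} (hh0 : h ≠ 0) {N : ℕ} (hN : 1 ≤ N)
    (hdiv : FunFld.div k h = (N : ℤ) • (Finsupp.single P 1 - Finsupp.single P' 1 : Divisor k K))
    (a b : k) (hab : a ≠ 0 ∨ b ≠ 0) :
    WithZero.exp (-1 : ℤ) ≤ Q.1 (algebraMap k K a + algebraMap k K b * h) := by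
  obtain ⟨t, ht0, htdiv⟩ := exists_div_eq_single_sub_single hK hg hPd hP'd hPP'
  -- h = c₀ t^N
  have hdiv2 : FunFld.div k (h * (t ^ N)⁻¹) = 0 := by
    rw [div_mul' hK hh0 (inv_ne_zero (pow_ne_zero N ht0)), div_inv' hK, div_pow' hK ht0, hdiv,
      htdiv]
    abel
  obtain ⟨c₀, hc₀, hc₀e⟩ := eq_const_of_div_eq_zero hK
    (mul_ne_zero hh0 (inv_ne_zero (pow_ne_zero N ht0))) hdiv2
  have hh : h = algebraMap k K c₀ * t ^ N := by
    rw [← hc₀e]; field_simp
  -- t is a unit at Q
  have htQ : Q.1 t = 1 := by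
    rw [val_eq_exp_neg_div' hK ht0, htdiv, Finsupp.sub_apply, Finsupp.single_eq_of_ne hQP,
      Finsupp.single_eq_of_ne hQP']
    simp
  obtain ⟨t₀, ht₀⟩ := exists_const_sub_lt Q hQd htQ.le
  have ht₀0 : t₀ ≠ 0 := by
    rintro rfl
    rw [map_zero, sub_zero, htQ] at ht₀
    exact lt_irrefl _ ht₀
  -- s = t - t₀ is a uniformizer at Q
  set s : K := t - algebraMap k K t₀ with hs
  have hvP' : P'.1 t = WithZero.exp (1 : ℤ) := by
    rw [val_eq_exp_neg_div' hK ht0, htdiv, Finsupp.sub_apply, Finsupp.single_eq_of_ne hPP'.symm,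
      Finsupp.single_eq_same]
    simp
  have hcP' : P'.1 (algebraMap k K t₀) < P'.1 t := by
    rw [hvP']
    exact lt_of_le_of_lt (P'.2.1 t₀) (by rw [← WithZero.exp_zero, WithZero.exp_lt_exp]; norm_num)
  have hvs : P'.1 s = WithZero.exp (1 : ℤ) := by
    rw [← hvP']
    exact Valuation.map_sub_eq_of_lt_left _ hcP'
  have hs0 : s ≠ 0 := by
    intro h0
    rw [h0, map_zero] at hvs
    exact WithZero.exp_ne_zero hvs.symm
  have hsdiv : FunFld.div k s = Finsupp.single Q 1 - Finsupp.single P' 1 := by
    apply div_eq_of_simple_pole_of_zero hK hP'd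
    · rw [ord_eq_iff P' hs0, hvs]; rfl
    · intro R hR
      rw [← val_le_one_iff R hs0]
      have h1 : R.1 t ≤ 1 := by
        rw [val_eq_exp_neg_div' hK ht0, htdiv, Finsupp.sub_apply, Finsupp.single_eq_of_ne hR,
          sub_zero, ← WithZero.exp_zero, WithZero.exp_le_exp]
        by_cases hRP : R = P
        · subst hRP; rw [Finsupp.single_eq_same]; norm_num
        · rw [Finsupp.single_eq_of_ne hRP]; norm_num
      exact (R.1.map_sub _ _).trans (max_le h1 (R.2.1 t₀))
    · exact (val_lt_one_iff Q hs0).mp ht₀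
  have hvsQ : Q.1 s = WithZero.exp (-1 : ℤ) := by
    rw [val_eq_exp_neg_div' hK hs0, hsdiv, Finsupp.sub_apply, Finsupp.single_eq_same,
      Finsupp.single_eq_of_ne hQP']
    simp
  -- the geometric sum
  set Sg : K := ∑ i ∈ Finset.range N, t ^ i * (algebraMap k K t₀) ^ (N - 1 - i) with hSg
  have hSgv : Q.1 Sg = 1 := val_geom_sum_eq_one Q ht₀0 htQ.le ht₀ hN
  have hgeom : Sg * s = t ^ N - (algebraMap k K t₀) ^ N := geom_sum₂_mul _ _ _
  -- the decomposition
  set α : k := a + b * c₀ * t₀ ^ N with hα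
  have hw : algebraMap k K a + algebraMap k K b * h =
      algebraMap k K α + algebraMap k K (b * c₀) * (Sg * s) := by
    rw [hh, hgeom, hα]
    simp only [map_add, map_mul, map_pow]
    ring
  rw [hw]
  have hv2 : Q.1 (algebraMap k K (b * c₀) * (Sg * s)) ≤ WithZero.exp (-1 : ℤ) := by
    rw [Valuation.map_mul, Valuation.map_mul, hSgv, hvsQ, one_mul]
    calc Q.1 (algebraMap k K (b * c₀)) * WithZero.exp (-1 : ℤ)
        ≤ 1 * WithZero.exp (-1 : ℤ) := mul_le_mul' (Q.2.1 _) le_rfl
      _ = WithZero.exp (-1 : ℤ) := one_mul _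
  by_cases hα0 : α = 0
  · have hb : b ≠ 0 := by
      rintro rfl
      rcases hab with h1 | h1
      · apply h1
        rw [hα] at hα0
        simpa using hα0
      · exact h1 rfl
    rw [hα0, map_zero, zero_add, Valuation.map_mul, Valuation.map_mul, hSgv, hvsQ, one_mul,
      val_const Q (mul_ne_zero hb hc₀), one_mul]
  · have h1 : Q.1 (algebraMap k K α) = 1 := val_const Q hα0
    have h2 : Q.1 (algebraMap k K (b * c₀) * (Sg * s)) < Q.1 (algebraMap k K α) := by
      rw [h1]
      exact lt_of_le_of_lt hv2 (by rw [← WithZero.exp_zero, WithZero.exp_lt_exp]; norm_num)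
    rw [add_comm, val_add_eq_of_lt Q h2, h1, ← WithZero.exp_zero, WithZero.exp_le_exp]
    norm_num

theorem div_smul' (hK : IsFunctionField k K) {c : k} (hc : c ≠ 0) (f : K) :
    FunFld.div k (c • f) = FunFld.div k f := by
  ext R
  rw [div_apply' hK, div_apply' hK]
  unfold Place.ord
  rw [val_smul R hc]

/-- A divisor supported on two distinct places of degree one. -/
theorem deg_of_support_pair {E : Divisor k K} {P P' : Place k K} (hPd : P.deg = 1)
    (hP'd : P'.deg = 1) (hPP' : P ≠ P') (hE : ∀ R : Place k K, R ≠ P → R ≠ P' → E R = 0) :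
    E.deg = E P + E P' := by
  have : E = Finsupp.single P (E P) + Finsupp.single P' (E P') := by
    ext R
    rw [Finsupp.add_apply]
    by_cases hRP : R = P
    · subst hRP
      rw [Finsupp.single_eq_same, Finsupp.single_eq_of_ne hPP', add_zero]
    · rw [Finsupp.single_eq_of_ne hRP, zero_add]
      by_cases hRP' : R = P'
      · subst hRP'; rw [Finsupp.single_eq_same]
      · rw [Finsupp.single_eq_of_ne hRP']; exact hE R hRP hRP'
  rw [this, deg_add, deg_single, deg_single, hPd, hP'd, ← this]
  push_cast; ring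

theorem deg_of_support_single {E : Divisor k K} {P : Place k K} (hPd : P.deg = 1)
    (hE : ∀ R : Place k K, R ≠ P → E R = 0) : E.deg = E P ∧ E = Finsupp.single P (E P) := by
  have : E = Finsupp.single P (E P) := by
    ext R
    by_cases hRP : R = P
    · subst hRP; rw [Finsupp.single_eq_same]
    · rw [Finsupp.single_eq_of_ne hRP]; exact hE R hRP
  refine ⟨?_, this⟩
  rw [this, deg_single, hPd, ← this]; push_cast; ring

/-- S18175: in genus zero and characteristic zero, with a cusp at `Q`, at most one member of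
`V` (up to scalars) is supported on `{P, P'}`. -/
theorem eq_smul_of_cusp [CharZero k] (hK : IsFunctionField k K) (hg : genus k K = 0)
    (hdeg : ∀ R : Place k K, R.deg = 1)
    {D : Divisor k K} {r : ℕ} {V : Submodule k K} (hV : V ≤ L D)
    (hVr : Module.finrank k V = r + 1) {Q : Place k K} (hcusp : r ≤ av V D Q 2)
    {P P' : Place k K} (hP : P ≠ Q) (hP' : P' ≠ Q) {f g : K} (hf : f ∈ V) (hgV : g ∈ V)
    (hf0 : f ≠ 0) (hg0 : g ≠ 0)
    (hfs : ∀ R : Place k K, R ≠ P → R ≠ P' → (FunFld.div k f + D) R = 0)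
    (hgs : ∀ R : Place k K, R ≠ P → R ≠ P' → (FunFld.div k g + D) R = 0) :
    ∃ c : k, g = c • f := by
  by_contra hcon
  push Not at hcon
  haveI := finiteDimensional_of_le_L hK hV
  set h : K := g * f⁻¹ with hh
  have hh0 : h ≠ 0 := mul_ne_zero hg0 (inv_ne_zero hf0)
  have hdivh : FunFld.div k h = (FunFld.div k g + D) - (FunFld.div k f + D) := by
    rw [hh, div_mul' hK hg0 (inv_ne_zero hf0), div_inv' hK]; abel
  have hdegf : (FunFld.div k f + D).deg = D.deg := by rw [deg_add, deg_div hK, zero_add]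
  have hdegg : (FunFld.div k g + D).deg = D.deg := by rw [deg_add, deg_div hK, zero_add]
  -- the case div h = 0
  have hne0 : FunFld.div k h ≠ 0 := by
    intro h0
    obtain ⟨c, -, hc⟩ := eq_const_of_div_eq_zero hK hh0 h0
    apply hcon c
    rw [Algebra.smul_def, ← hc, hh]; field_simp
  -- P ≠ P'
  have hPP' : P ≠ P' := by
    rintro rfl
    apply hne0
    obtain ⟨h1, h1'⟩ := deg_of_support_single (hdeg P) (fun R hR => hfs R hR hR)
    obtain ⟨h2, h2'⟩ := deg_of_support_single (hdeg P) (fun R hR => hgs R hR hR)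
    rw [hdivh, h1', h2', ← h1, ← h2, hdegf, hdegg, sub_self]
  set N : ℤ := (FunFld.div k g + D) P - (FunFld.div k f + D) P with hN
  have h1 := deg_of_support_pair (hdeg P) (hdeg P') hPP' hfs
  have h2 := deg_of_support_pair (hdeg P) (hdeg P') hPP' hgs
  have hdivN : FunFld.div k h =
      N • (Finsupp.single P 1 - Finsupp.single P' 1 : Divisor k K) := by
    rw [hdivh]
    ext R
    simp only [Finsupp.sub_apply, Finsupp.smul_apply, smul_eq_mul]
    by_cases hRP : R = P
    · subst hRP
      rw [Finsupp.single_eq_same, Finsupp.single_eq_of_ne hPP']; ring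
    · rw [Finsupp.single_eq_of_ne hRP]
      by_cases hRP' : R = P'
      · subst hRP'
        rw [Finsupp.single_eq_same]
        rw [hdegf] at h1
        rw [hdegg] at h2
        rw [hN]; linarith
      · rw [Finsupp.single_eq_of_ne hRP', hfs R hRP hRP', hgs R hRP hRP']; ring
  have hN0 : N ≠ 0 := by
    intro h0
    apply hne0
    rw [hdivN, h0, zero_smul]
  -- the pencil meets V(-2Q)
  have hli : LinearIndependent k ![f, g] := by
    rw [LinearIndependent.pair_iff]
    intro a b hab
    by_cases hb : b = 0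
    · subst hb
      rw [zero_smul, add_zero] at hab
      exact ⟨(smul_eq_zero.mp hab).resolve_right hf0, rfl⟩
    · exfalso
      apply hcon (-(a / b))
      have : b • g = -(a • f) := eq_neg_of_add_eq_zero_right hab
      have h3 : g = b⁻¹ • (b • g) := by rw [smul_smul, inv_mul_cancel₀ hb, one_smul]
      rw [h3, this, smul_neg, smul_smul, neg_smul]
      congr 2
      field_simp
  have hfin2 : Module.finrank k (Submodule.span k (Set.range ![f, g])) = 2 := by
    rw [finrank_span_eq_card hli]; simp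
  have hS₂V : Submodule.span k (Set.range ![f, g]) ≤ V := by
    rw [Submodule.span_le]
    rintro _ ⟨i, rfl⟩
    fin_cases i
    · exact hf
    · exact hgV
  haveI : FiniteDimensional k (vs V D Q 2) := Submodule.finiteDimensional_of_le (vs_le V D Q 2)
  haveI : FiniteDimensional k (Submodule.span k (Set.range ![f, g])) :=
    Submodule.finiteDimensional_of_le hS₂V
  have h3 := Submodule.finrank_sup_add_finrank_inf_eq (Submodule.span k (Set.range ![f, g]))
    (vs V D Q 2)
  have h4 : Module.finrank k ↥(Submodule.span k (Set.range ![f, g]) ⊔ vs V D Q 2) ≤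
      Module.finrank k V := Submodule.finrank_mono (sup_le hS₂V (vs_le V D Q 2))
  have h5 : 0 < Module.finrank k ↥(Submodule.span k (Set.range ![f, g]) ⊓ vs V D Q 2) := by
    unfold av at hcusp; omega
  obtain ⟨u, hu, hu0⟩ := exists_ne_zero_of_finrank_pos _ h5
  have hu1 : u ∈ Submodule.span k {f, g} := by
    have := hu.1
    rwa [Matrix.range_cons_cons_empty] at this
  obtain ⟨a, b, hab⟩ := Submodule.mem_span_pair.mp hu1
  have hab0 : a ≠ 0 ∨ b ≠ 0 := by
    by_contra hc
    push Not at hc
    apply hu0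
    rw [← hab, hc.1, hc.2, zero_smul, zero_smul, add_zero]
  have huL : Q.1 u ≤ WithZero.exp (D Q - 2) := by
    have := hu.2.2 Q
    rwa [Finsupp.sub_apply, Finsupp.single_eq_same] at this
  have hvf : Q.1 f = WithZero.exp (D Q) := by
    rw [val_eq_exp_neg_div' hK hf0]
    congr 1
    have := hfs Q hP.symm hP'.symm
    rw [Finsupp.add_apply] at this
    linarith
  have hvh : Q.1 h = 1 := by
    rw [val_eq_exp_neg_div' hK hh0, hdivN, Finsupp.smul_apply, Finsupp.sub_apply,
      Finsupp.single_eq_of_ne hP.symm, Finsupp.single_eq_of_ne hP'.symm]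
    simp
  have hw : algebraMap k K a + algebraMap k K b * h = u * f⁻¹ := by
    rw [← hab, hh, Algebra.smul_def, Algebra.smul_def]; field_simp
  have hwv : Q.1 (algebraMap k K a + algebraMap k K b * h) ≤ WithZero.exp (-2 : ℤ) := by
    rw [hw, map_mul, map_inv₀, hvf]
    calc Q.1 u * (WithZero.exp (D Q))⁻¹ ≤ WithZero.exp (D Q - 2) * (WithZero.exp (D Q))⁻¹ :=
          mul_le_mul' huL le_rfl
      _ = WithZero.exp (-2 : ℤ) := by
          rw [← WithZero.exp_neg, ← WithZero.exp_add]; congr 1; ring
  have hlt : WithZero.exp (-2 : ℤ) < WithZero.exp (-1 : ℤ) := by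
    rw [WithZero.exp_lt_exp]; norm_num
  rcases lt_or_gt_of_ne hN0 with hneg | hpos
  · -- N < 0: use h⁻¹
    have hdivinv : FunFld.div k h⁻¹ =
        ((-N).toNat : ℤ) • (Finsupp.single P 1 - Finsupp.single P' 1 : Divisor k K) := by
      rw [div_inv' hK, hdivN, Int.toNat_of_nonneg (by linarith), neg_smul]
    have := val_pencil_ge hK hg (hdeg P) (hdeg P') (hdeg Q) hPP' hP.symm hP'.symm
      (inv_ne_zero hh0) (N := (-N).toNat) (by omega) hdivinv b a hab0.symm
    have hw2 : algebraMap k K a + algebraMap k K b * h =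
        h * (algebraMap k K b + algebraMap k K a * h⁻¹) := by field_simp; ring
    rw [hw2, map_mul, hvh, one_mul] at hwv
    exact absurd (lt_of_le_of_lt hwv hlt) (not_lt.mpr this)
  · have hdiv' : FunFld.div k h =
        (N.toNat : ℤ) • (Finsupp.single P 1 - Finsupp.single P' 1 : Divisor k K) := by
      rw [hdivN, Int.toNat_of_nonneg (by linarith)]
    have := val_pencil_ge hK hg (hdeg P) (hdeg P') (hdeg Q) hPP' hP.symm hP'.symm
      hh0 (N := N.toNat) (by omega) hdiv' a b hab0
    exact absurd (lt_of_le_of_lt hwv hlt) (not_lt.mpr this)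

end Groth.Agent.Lib.Helper27.FF
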