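import Groth.Agent.Lib.Helper27.FunFld18

/-! Function fields of one variable (helper27), part 19: three-point weight inequality in genus
zero with a cusp; weights are nonnegative; cusps have weight at least `r`. -/

set_option autoImplicit false

namespace Groth.Agent.Lib.Helper27.FF

open FunFld Polynomial IntermediateField

universe u v

variable {k : Type u} {K : Type v} [Field k] [Field K] [Algebra k K]

/-- Three-point inequality: in genus zero, characteristic zero, with a cusp at `Q`,
`∑ dim V(-nP) + ∑ dim V(-nP') + r ≤ (r+1) d`. -/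
theorem sum_av_add_sum_av_add_le_of_cusp [CharZero k] (hK : IsFunctionField k K)
    (hg : genus k K = 0) (hdeg : ∀ R : Place k K, R.deg = 1)
    {D : Divisor k K} {d r : ℕ} (hD : D.deg = d) {V : Submodule k K} (hV : V ≤ L D)
    (hVr : Module.finrank k V = r + 1) {Q : Place k K} (hcusp : r ≤ av V D Q 2)
    {P P' : Place k K} (hP : P ≠ Q) (hP' : P' ≠ Q) (hPP' : P ≠ P') :
    (∑ n ∈ Finset.range d, av V D P ((n : ℤ) + 1)) +
      (∑ n ∈ Finset.range d, av V D P' ((n : ℤ) + 1)) + r ≤ (r + 1) * d := by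
  have hc := count_lemma' hK hV (hdeg P) (hdeg P') hPP' hD hVr
  have hcard : ((Finset.range (d + 1)).filter
      (fun n : ℕ => r + 2 ≤ av V D P (n : ℤ) + av V D P' ((d - n : ℕ) : ℤ))).card ≤ 1 := by
    rw [Finset.card_le_one]
    intro n₁ hn₁ n₂ hn₂
    obtain ⟨f₁, hf₁0, hf₁V, hf₁⟩ := exists_of_mem_filter hK hV (hdeg P) (hdeg P') hPP' hD hVr hn₁
    obtain ⟨f₂, hf₂0, hf₂V, hf₂⟩ := exists_of_mem_filter hK hV (hdeg P) (hdeg P') hPP' hD hVr hn₂
    have hs : ∀ (f : K) (n : ℕ), FunFld.div k f = Finsupp.single P (n : ℤ) +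
        Finsupp.single P' ((d : ℤ) - n) - D →
        ∀ R : Place k K, R ≠ P → R ≠ P' → (FunFld.div k f + D) R = 0 := by
      intro f n hf R hRP hRP'
      rw [hf, sub_add_cancel, Finsupp.add_apply, Finsupp.single_eq_of_ne hRP,
        Finsupp.single_eq_of_ne hRP', add_zero]
    obtain ⟨c, hc⟩ := eq_smul_of_cusp hK hg hdeg hV hVr hcusp hP hP' hf₁V hf₂V hf₁0 hf₂0
      (hs f₁ n₁ hf₁) (hs f₂ n₂ hf₂)
    have hc0 : c ≠ 0 := by
      rintro rfl
      rw [zero_smul] at hc
      exact hf₂0 hc
    have heq : FunFld.div k f₂ = FunFld.div k f₁ := by rw [hc, div_smul' hK hc0]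
    rw [hf₁, hf₂] at heq
    have := congrArg (fun E : Divisor k K => E P) heq
    simp only [Finsupp.sub_apply, Finsupp.add_apply, Finsupp.single_eq_same,
      Finsupp.single_eq_of_ne hPP'] at this
    omega
  have : (r + 1) * (d + 1) = (r + 1) * d + (r + 1) := by ring
  omega

/-- abstract lemma: a sequence dropping by at most one at each step and vanishing beyond `d`
has tail sums at least `choose (a m) 2`. -/
theorem tail_sum_ge (a : ℕ → ℕ) (d : ℕ) (hstep : ∀ n, a n ≤ a (n + 1) + 1)
    (hzero : a (d + 1) = 0) :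
    ∀ t m : ℕ, m + t = d → (a m).choose 2 ≤ ∑ n ∈ Finset.range t, a (m + 1 + n) := by
  intro t
  induction t with
  | zero =>
    intro m hm
    rw [add_zero] at hm
    subst hm
    have := hstep m
    rw [hzero] at this
    have h1 : a m ≤ 1 := by omega
    rw [Finset.range_zero, Finset.sum_empty, Nat.le_zero, Nat.choose_eq_zero_iff]
    omega
  | succ t ih =>
    intro m hm
    have := ih (m + 1) (by omega)
    rw [Finset.sum_range_succ']
    have h1 : ∑ n ∈ Finset.range t, a (m + 1 + (n + 1)) = ∑ n ∈ Finset.range t, a (m + 1 + 1 + n) := by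
      apply Finset.sum_congr rfl
      intro n _
      congr 1; ring
    rw [h1, add_zero]
    have h2 : (a m).choose 2 ≤ (a (m + 1) + 1).choose 2 := Nat.choose_le_choose 2 (hstep m)
    have h3 : (a (m + 1) + 1).choose 2 = a (m + 1) + (a (m + 1)).choose 2 := by
      rw [Nat.choose_succ_succ' (a (m + 1)) 1, Nat.choose_one_right]
    omega

/-- weights are nonnegative: `∑_{n=1}^d dim V(-nP) ≥ r(r+1)/2`. -/
theorem sum_av_ge (hK : IsFunctionField k K) {D : Divisor k K} {d r : ℕ} (hD : D.deg = d)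
    {V : Submodule k K} (hV : V ≤ L D) (hVr : Module.finrank k V = r + 1) {P : Place k K}
    (hP : P.deg = 1) :
    r * (r + 1) / 2 ≤ ∑ n ∈ Finset.range d, av V D P ((n : ℤ) + 1) := by
  have h := tail_sum_ge (fun n : ℕ => av V D P (n : ℤ)) d
    (fun n => by
      have := av_le_av_succ hK hV hP (n : ℤ)
      simpa using this)
    (by
      show av V D P ((d + 1 : ℕ) : ℤ) = 0
      apply av_eq_zero hK V hP
      rw [hD]; push_cast; linarith) d 0 (by omega)
  simp only [Nat.cast_zero, zero_add] at h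
  rw [av_zero hV, hVr, Nat.choose_two_right, Nat.add_sub_cancel, mul_comm] at h
  refine h.trans (le_of_eq ?_)
  apply Finset.sum_congr rfl
  intro n _
  congr 1
  push_cast; ring

/-- a cusp has weight at least `r`. -/
theorem sum_av_ge_of_cusp (hK : IsFunctionField k K) {D : Divisor k K} {d r : ℕ} (hD : D.deg = d)
    {V : Submodule k K} (hV : V ≤ L D) (hVr : Module.finrank k V = r + 1) {Q : Place k K}
    (hQ : Q.deg = 1) (hcusp : r ≤ av V D Q 2) :
    r + r * (r + 1) / 2 ≤ ∑ n ∈ Finset.range d, av V D Q ((n : ℤ) + 1) := by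
  rcases Nat.eq_zero_or_pos r with hr0 | hrpos
  · subst hr0; simp
  -- d ≥ 2
  have hd2 : 2 ≤ d := by
    by_contra hlt
    have : av V D Q 2 = 0 := by
      apply av_eq_zero hK V hQ
      rw [hD]
      have : (d : ℤ) < 2 := by exact_mod_cast (not_le.mp hlt)
      exact this
    omega
  have h := tail_sum_ge (fun n : ℕ => av V D Q (n : ℤ)) d
    (fun n => by
      have := av_le_av_succ hK hV hQ (n : ℤ)
      simpa using this)
    (by
      show av V D Q ((d + 1 : ℕ) : ℤ) = 0
      apply av_eq_zero hK V hQ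
      rw [hD]; push_cast; linarith) (d - 2) 2 (by omega)
  simp only [Nat.cast_ofNat] at h
  have h1 : r.choose 2 ≤ (av V D Q 2).choose 2 := Nat.choose_le_choose 2 hcusp
  have h12 : av V D Q 2 ≤ av V D Q 1 := av_anti hK hV Q (by norm_num)
  obtain ⟨e, rfl⟩ : ∃ e, d = e + 2 := ⟨d - 2, by omega⟩
  rw [Finset.sum_range_succ', Finset.sum_range_succ']
  have h2 : ∑ n ∈ Finset.range e, av V D Q (((n + 1 + 1 : ℕ) : ℤ) + 1) =
      ∑ n ∈ Finset.range (e + 2 - 2), av V D Q ((2 + 1 + n : ℕ) : ℤ) := by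
    rw [Nat.add_sub_cancel]
    apply Finset.sum_congr rfl
    intro n _
    congr 1
    push_cast; ring
  rw [h2]
  have h3 : av V D Q (((0 + 1 : ℕ) : ℤ) + 1) = av V D Q 2 := by norm_num
  have h4 : av V D Q (((0 : ℕ) : ℤ) + 1) = av V D Q 1 := by norm_num
  rw [h3, h4]
  have h5 : r * (r + 1) / 2 = r + r.choose 2 := by
    rw [Nat.choose_two_right]
    have hdvd : 2 ∣ r * (r - 1) := by
      have := (Nat.even_mul_pred_self r).two_dvd
      exact this
    obtain ⟨q, hq⟩ := hdvd
    have : r * (r + 1) = 2 * (r + q) := by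
      have : r * (r + 1) = r * (r - 1) + 2 * r := by
        obtain ⟨s, rfl⟩ : ∃ s, r = s + 1 := ⟨r - 1, by omega⟩
        simp; ring
      rw [this, hq]; ring
    rw [this, hq]; simp
  rw [h5]
  omega

end Groth.Agent.Lib.Helper27.FF
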