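import Groth.Agent.Lib.Helper27.FunFld19

/-! Function fields of one variable (helper27), part 20: abstract propagation of weights along
a chain of rational curves with cusps. -/

set_option autoImplicit false

namespace Groth.Agent.Lib.Helper27.FF

open FunFld Polynomial IntermediateField

universe u v

variable {k : Type u} {K : Type v} [Field k] [Field K] [Algebra k K]

theorem exists_place_ne (hK : IsFunctionField k K) (P : Place k K) : ∃ R : Place k K, R ≠ P := by
  obtain ⟨⟨x, hx, -⟩, -⟩ := id hK
  obtain ⟨P₁, h₁⟩ := exists_place_val_lt_one hK hx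
  obtain ⟨P₂, h₂⟩ := exists_place_one_lt_val hK hx
  by_cases h : P₁ = P
  · refine ⟨P₂, ?_⟩
    rintro rfl
    rw [h] at h₁
    exact lt_irrefl _ (h₁.trans h₂)
  · exact ⟨P₁, h⟩

/-- single point bound: `∑ dim V(-nP) + r(r+1)/2 ≤ (r+1) d`. -/
theorem sum_av_le (hK : IsFunctionField k K) (hdeg : ∀ R : Place k K, R.deg = 1)
    {D : Divisor k K} {d r : ℕ} (hD : D.deg = d)
    {V : Submodule k K} (hV : V ≤ L D) (hVr : Module.finrank k V = r + 1) (P : Place k K) :
    (∑ n ∈ Finset.range d, av V D P ((n : ℤ) + 1)) + r * (r + 1) / 2 ≤ (r + 1) * d := by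
  obtain ⟨R, hR⟩ := exists_place_ne hK P
  have h1 := sum_av_add_sum_av_le hK hV (hdeg P) (hdeg R) hR.symm d hD
  have h2 := sum_av_ge hK hD hV hVr (hdeg R)
  rw [hVr] at h1
  omega

theorem card_filter_lt_succ (T : Finset ℕ) (j : ℕ) :
    (T.filter (· < j + 1)).card = (T.filter (· < j)).card + (if j ∈ T then 1 else 0) := by
  classical
  have h : T.filter (· < j + 1) = T.filter (· < j) ∪ T.filter (· = j) := by
    ext x
    simp only [Finset.mem_filter, Finset.mem_union]
    constructor
    · rintro ⟨hx, hlt⟩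
      rcases Nat.lt_succ_iff_lt_or_eq.mp hlt with h | h
      · exact Or.inl ⟨hx, h⟩
      · exact Or.inr ⟨hx, h⟩
    · rintro (⟨hx, h⟩ | ⟨hx, h⟩)
      · exact ⟨hx, by omega⟩
      · exact ⟨hx, by omega⟩
  rw [h, Finset.card_union_of_disjoint]
  · congr 1
    rw [Finset.filter_eq']
    split_ifs <;> simp
  · rw [Finset.disjoint_filter]
    intro x _ h1 h2
    omega

theorem card_filter_gt_pred (T : Finset ℕ) (j : ℕ) :
    (T.filter (j < ·)).card = (T.filter (j + 1 < ·)).card + (if j + 1 ∈ T then 1 else 0) := by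
  classical
  have h : T.filter (j < ·) = T.filter (j + 1 < ·) ∪ T.filter (· = j + 1) := by
    ext x
    simp only [Finset.mem_filter, Finset.mem_union]
    constructor
    · rintro ⟨hx, hlt⟩
      by_cases h : x = j + 1
      · exact Or.inr ⟨hx, h⟩
      · exact Or.inl ⟨hx, by omega⟩
    · rintro (⟨hx, h⟩ | ⟨hx, h⟩)
      · exact ⟨hx, by omega⟩
      · exact ⟨hx, by omega⟩
  rw [h, Finset.card_union_of_disjoint]
  · congr 1
    rw [Finset.filter_eq']
    split_ifs <;> simp
  · rw [Finset.disjoint_filter]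
    intro x _ h1 h2
    omega

/-- propagation from the left. -/
theorem prop_left (N d r E : ℕ) (wA wB : ℕ → ℕ) (T : Finset ℕ)
    (hc : ∀ l, l < N → wB l + wA (l + 1) = (r + 1) * d)
    (hi : ∀ j, 0 < j → j < N → wA j + wB j + (if j ∈ T then r else 0) ≤ (r + 1) * d)
    (he0 : 0 < N → wB 0 + (if 0 ∈ T then r else 0) + E ≤ (r + 1) * d) :
    ∀ j, 1 ≤ j → j ≤ N → r * (T.filter (· < j)).card + E ≤ wA j := by
  intro j hj
  induction j, hj using Nat.le_induction with
  | base =>
    intro hN
    have h0 := he0 (by omega)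
    have h1 := hc 0 (by omega)
    have h2 := card_filter_lt_succ T 0
    have h3 : (T.filter (· < 0)).card = 0 := by simp
    rw [zero_add] at h1 h2
    rw [h2, h3]
    split_ifs at h0 h2 ⊢ <;> omega
  | succ j hj ih =>
    intro hN
    have ih' := ih (by omega)
    have h1 := hc j (by omega)
    have h2 := hi j (by omega) (by omega)
    rw [card_filter_lt_succ T j, mul_add]
    split_ifs at h2 ⊢ <;> omega

/-- propagation from the right. -/
theorem prop_right (N d r E : ℕ) (wA wB : ℕ → ℕ) (T : Finset ℕ) (hT : ∀ x ∈ T, x ≤ N)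
    (hc : ∀ l, l < N → wB l + wA (l + 1) = (r + 1) * d)
    (hi : ∀ j, 0 < j → j < N → wA j + wB j + (if j ∈ T then r else 0) ≤ (r + 1) * d)
    (heN : 0 < N → wA N + (if N ∈ T then r else 0) + E ≤ (r + 1) * d) :
    ∀ t j, j + t + 1 = N → r * (T.filter (j < ·)).card + E ≤ wB j := by
  intro t
  induction t with
  | zero =>
    intro j hj
    have h0 := heN (by omega)
    have h1 := hc j (by omega)
    have h2 := card_filter_gt_pred T j
    have h3 : (T.filter (j + 1 < ·)).card = 0 := by
      rw [Finset.card_eq_zero, Finset.filter_eq_empty_iff]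
      intro x hx
      have := hT x hx
      omega
    have hjN : j + 1 = N := by omega
    rw [hjN] at h1 h2 h3
    rw [h2, h3]
    split_ifs at h0 ⊢ <;> omega
  | succ t ih =>
    intro j hj
    have ih' := ih (j + 1) (by omega)
    have h1 := hc j (by omega)
    have h2 := hi (j + 1) (by omega) (by omega)
    rw [card_filter_gt_pred T j, mul_add]
    split_ifs at h2 ⊢ <;> omega

theorem card_erase_eq (T : Finset ℕ) (i : ℕ) :
    (T.erase i).card = (T.filter (· < i)).card + (T.filter (i < ·)).card := by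
  classical
  have h : T.erase i = T.filter (· < i) ∪ T.filter (i < ·) := by
    ext x
    simp only [Finset.mem_erase, Finset.mem_filter, Finset.mem_union]
    constructor
    · rintro ⟨hne, hx⟩
      rcases Nat.lt_or_gt_of_ne hne with h | h
      · exact Or.inl ⟨hx, h⟩
      · exact Or.inr ⟨hx, h⟩
    · rintro (⟨hx, h⟩ | ⟨hx, h⟩)
      · exact ⟨by omega, hx⟩
      · exact ⟨by omega, hx⟩
  rw [h, Finset.card_union_of_disjoint]
  rw [Finset.disjoint_filter]
  intro x _ h1 h2
  omega

theorem card_eq_filter_lt_add (T : Finset ℕ) (N : ℕ) (hT : ∀ x ∈ T, x ≤ N) :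
    T.card = (T.filter (· < N)).card + (if N ∈ T then 1 else 0) := by
  rw [← card_filter_lt_succ T N]
  congr 1
  symm
  rw [Finset.filter_eq_self]
  intro x hx
  have := hT x hx
  omega

end Groth.Agent.Lib.Helper27.FF
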