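import Groth.Agent.Lib.Helper27.FunFld20

/-! Function fields of one variable (helper27), part 21: weights along a backbone of rational
curves with cusps (Eisenbud--Harris). -/

set_option autoImplicit false

namespace Groth.Agent.Lib.Helper27.FF

open FunFld

universe u w

/-- the weight sum `∑_{n=1}^d dim V(-nP)`. -/
noncomputable def wsum {k : Type u} {K : Type w} [Field k] [Field K] [Algebra k K]
    (d : ℕ) (V : Submodule k K) (D : Divisor k K) (P : Place k K) : ℕ :=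
  ∑ n ∈ Finset.range d, av V D P ((n : ℤ) + 1)

theorem end_bound {k : Type u} {K : Type w} [Field k] [Field K] [Algebra k K]
    (hK : IsFunctionField k K) (hdeg : ∀ R : Place k K, R.deg = 1)
    {D : Divisor k K} {d r : ℕ} (hD : D.deg = d)
    {V : Submodule k K} (hV : V ≤ L D) (hVr : Module.finrank k V = r + 1) (P Q : Place k K)
    (inT : Prop) [Decidable inT] (hcusp : inT → r ≤ av V D Q 2) (hQP : inT → Q ≠ P) :
    wsum d V D P + (if inT then r else 0) + r * (r + 1) / 2 ≤ (r + 1) * d := by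
  split_ifs with hjT
  · have h1 := sum_av_add_sum_av_le hK hV (hdeg P) (hdeg Q) (hQP hjT).symm d hD
    have h2 := sum_av_ge_of_cusp hK hD hV hVr (hdeg Q) (hcusp hjT)
    rw [hVr] at h1
    unfold wsum
    omega
  · have := sum_av_le hK hdeg hD hV hVr P
    unfold wsum
    omega

theorem mem_map_val_iff {N : ℕ} (T : Finset (Fin (N + 1))) (j : ℕ) (h : j < N + 1) :
    j ∈ T.map Fin.valEmbedding ↔ (⟨j, h⟩ : Fin (N + 1)) ∈ T := by
  rw [Finset.mem_map]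
  constructor
  · rintro ⟨i, hi, hij⟩
    have : i = ⟨j, h⟩ := Fin.ext hij
    rwa [← this]
  · intro hi
    exact ⟨⟨j, h⟩, hi, rfl⟩

theorem map_val_le {N : ℕ} (T : Finset (Fin (N + 1))) : ∀ x ∈ T.map Fin.valEmbedding, x ≤ N := by
  intro x hx
  rw [Finset.mem_map] at hx
  obtain ⟨i, -, rfl⟩ := hx
  exact Nat.lt_succ_iff.mp i.2

theorem chain_weights (k : Type u) [Field k] [IsAlgClosed k] [CharZero k]
    (N : ℕ) (Z : Fin (N + 1) → Type w) [∀ i, Field (Z i)] [∀ i, Algebra k (Z i)]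
    (hZ : ∀ i, FunFld.IsFunctionField k (Z i)) (hrat : ∀ i, FunFld.genus k (Z i) = 0)
    (d r : ℕ) (D : ∀ i, FunFld.Divisor k (Z i)) (hD : ∀ i, (D i).deg = d)
    (V : ∀ i, Submodule k (Z i)) (hV : ∀ i, V i ≤ FunFld.L (D i))
    (hVr : ∀ i, Module.finrank k ↥(V i) = r + 1)
    (A B : ∀ i, FunFld.Place k (Z i))
    (hAB : ∀ i : Fin (N + 1), 0 < (i : ℕ) → (i : ℕ) < N → A i ≠ B i)
    (hcomp : ∀ (l : Fin N) (m : ℕ), m ≤ d + 1 →
      Module.finrank k ↥((V l.castSucc) ⊓ FunFld.L ((D l.castSucc) - Finsupp.single (B l.castSucc) ((m : ℤ)))) +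
        Module.finrank k ↥((V l.succ) ⊓ FunFld.L ((D l.succ) - Finsupp.single (A l.succ) ((d : ℤ) + 1 - m))) = r + 1)
    (T : Finset (Fin (N + 1))) (Q : ∀ i, FunFld.Place k (Z i))
    (hQA : ∀ i ∈ T, 0 < (i : ℕ) → Q i ≠ A i) (hQB : ∀ i ∈ T, (i : ℕ) < N → Q i ≠ B i)
    (hcusp : ∀ i ∈ T, r ≤ Module.finrank k ↥((V i) ⊓ FunFld.L ((D i) - Finsupp.single (Q i) ((2 : ℤ))))) :
    (∀ (j : ℕ) (h : j < N + 1), 1 ≤ j →
      r * ((T.map Fin.valEmbedding).filter (· < j)).card + r * (r + 1) / 2 ≤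
        wsum d (V ⟨j, h⟩) (D ⟨j, h⟩) (A ⟨j, h⟩)) ∧
    (∀ (j : ℕ) (h : j < N + 1), j < N →
      r * ((T.map Fin.valEmbedding).filter (j < ·)).card + r * (r + 1) / 2 ≤
        wsum d (V ⟨j, h⟩) (D ⟨j, h⟩) (B ⟨j, h⟩)) := by
  classical
  set T' : Finset ℕ := T.map Fin.valEmbedding with hT'
  have hmemT : ∀ (j : ℕ) (h : j < N + 1), j ∈ T' ↔ (⟨j, h⟩ : Fin (N + 1)) ∈ T := by
    intro j h
    rw [hT', Finset.mem_map]
    constructor
    · rintro ⟨i, hi, hij⟩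
      have : i = ⟨j, h⟩ := Fin.ext hij
      rwa [← this]
    · intro hi
      exact ⟨⟨j, h⟩, hi, rfl⟩
  have hTle : ∀ x ∈ T', x ≤ N := by
    intro x hx
    rw [hT', Finset.mem_map] at hx
    obtain ⟨i, -, rfl⟩ := hx
    exact Nat.lt_succ_iff.mp i.2
  let wA : ℕ → ℕ := fun j => if h : j < N + 1 then wsum d (V ⟨j, h⟩) (D ⟨j, h⟩) (A ⟨j, h⟩) else 0
  let wB : ℕ → ℕ := fun j => if h : j < N + 1 then wsum d (V ⟨j, h⟩) (D ⟨j, h⟩) (B ⟨j, h⟩) else 0
  have hwA : ∀ (j : ℕ) (h : j < N + 1), wA j = wsum d (V ⟨j, h⟩) (D ⟨j, h⟩) (A ⟨j, h⟩) := by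
    intro j h
    show (if h : j < N + 1 then wsum d (V ⟨j, h⟩) (D ⟨j, h⟩) (A ⟨j, h⟩) else 0) = _
    rw [dif_pos h]
  have hwB : ∀ (j : ℕ) (h : j < N + 1), wB j = wsum d (V ⟨j, h⟩) (D ⟨j, h⟩) (B ⟨j, h⟩) := by
    intro j h
    show (if h : j < N + 1 then wsum d (V ⟨j, h⟩) (D ⟨j, h⟩) (B ⟨j, h⟩) else 0) = _
    rw [dif_pos h]
  have hdvd : 2 ∣ r * (r + 1) := (Nat.even_mul_succ_self r).two_dvd
  have heven : r * (r + 1) / 2 * 2 = r * (r + 1) := Nat.div_mul_cancel hdvd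
  -- compatibility
  have hc : ∀ l, l < N → wB l + wA (l + 1) = (r + 1) * d := by
    intro l hl
    rw [hwB l (by omega), hwA (l + 1) (by omega)]
    exact sum_compat d r _ _ _ _ _ _ (hcomp ⟨l, hl⟩)
  -- inner components
  have hi : ∀ j, 0 < j → j < N → wA j + wB j + (if j ∈ T' then r else 0) ≤ (r + 1) * d := by
    intro j hj0 hjN
    have h : j < N + 1 := by omega
    rw [hwA j h, hwB j h]
    have hZ' := hZ ⟨j, h⟩
    have hne : A ⟨j, h⟩ ≠ B ⟨j, h⟩ := hAB ⟨j, h⟩ hj0 hjN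
    split_ifs with hjT
    · have hjT' := (hmemT j h).mp hjT
      exact sum_av_add_sum_av_add_le_of_cusp hZ' (hrat _) (deg_eq_one' hZ') (hD _) (hV _) (hVr _)
        (hcusp _ hjT') (hQA _ hjT' hj0).symm (hQB _ hjT' hjN).symm hne
    · have := sum_av_add_sum_av_le hZ' (hV ⟨j, h⟩) (deg_eq_one' hZ' _) (deg_eq_one' hZ' _) hne d
        (hD _)
      rw [hVr] at this
      rw [add_zero]
      exact this
  -- ends
  have hend : ∀ (j : ℕ) (h : j < N + 1) (P : Place k (Z ⟨j, h⟩)),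
      ((⟨j, h⟩ : Fin (N + 1)) ∈ T → Q ⟨j, h⟩ ≠ P) →
      wsum d (V ⟨j, h⟩) (D ⟨j, h⟩) P + (if j ∈ T' then r else 0) + r * (r + 1) / 2 ≤
        (r + 1) * d := by
    intro j h P hQP
    have hZ' := hZ ⟨j, h⟩
    split_ifs with hjT
    · have hjT' := (hmemT j h).mp hjT
      have h1 := sum_av_add_sum_av_le hZ' (hV ⟨j, h⟩) (deg_eq_one' hZ' P)
        (deg_eq_one' hZ' (Q ⟨j, h⟩)) (hQP hjT').symm d (hD _)
      have h2 := sum_av_ge_of_cusp hZ' (hD ⟨j, h⟩) (hV _) (hVr _) (deg_eq_one' hZ' (Q ⟨j, h⟩))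
        (hcusp _ hjT')
      rw [hVr] at h1
      unfold wsum
      omega
    · have := sum_av_le hZ' (deg_eq_one' hZ') (hD ⟨j, h⟩) (hV _) (hVr _) P
      unfold wsum
      omega
  have he0 : 0 < N → wB 0 + (if 0 ∈ T' then r else 0) + r * (r + 1) / 2 ≤ (r + 1) * d := by
    intro hN
    rw [hwB 0 (by omega)]
    exact hend 0 (by omega) _ (fun hT0 => hQB _ hT0 hN)
  have heN : 0 < N → wA N + (if N ∈ T' then r else 0) + r * (r + 1) / 2 ≤ (r + 1) * d := by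
    intro hN
    rw [hwA N (by omega)]
    exact hend N (by omega) _ (fun hTN => hQA _ hTN hN)
  refine ⟨fun j h hj => ?_, fun j h hj => ?_⟩
  · rw [← hwA j h]
    exact prop_left N d r _ wA wB T' hc hi he0 j hj (by omega)
  · rw [← hwB j h]
    exact prop_right N d r _ wA wB T' hTle hc hi heN (N - j - 1) j (by omega)

end Groth.Agent.Lib.Helper27.FF
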