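import Groth.Agent.Lib.Helper27.FunFld22

/-! Function fields of one variable (helper27), part 23: with a cusp, at most one pair of
complementary vanishing orders at two further points (genus zero). -/

set_option autoImplicit false

namespace Groth.Agent.Lib.Helper27.FF

open FunFld Polynomial IntermediateField

universe u v

variable {k : Type u} {K : Type v} [Field k] [Field K] [Algebra k K]

theorem card_filter_le_one_of_cusp [CharZero k] (hK : IsFunctionField k K)
    (hg : genus k K = 0) (hdeg : ∀ R : Place k K, R.deg = 1)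
    {D : Divisor k K} {d r : ℕ} (hD : D.deg = d) {V : Submodule k K} (hV : V ≤ L D)
    (hVr : Module.finrank k V = r + 1) {Q : Place k K} (hcusp : r ≤ av V D Q 2)
    {P P' : Place k K} (hP : P ≠ Q) (hP' : P' ≠ Q) (hPP' : P ≠ P') :
    ((Finset.range (d + 1)).filter
      (fun n : ℕ => r + 2 ≤ av V D P (n : ℤ) + av V D P' ((d - n : ℕ) : ℤ))).card ≤ 1 := by
  rw [Finset.card_le_one]
  intro n₁ hn₁ n₂ hn₂
  obtain ⟨f₁, hf₁0, hf₁V, hf₁⟩ := exists_of_mem_filter hK hV (hdeg P) (hdeg P') hPP' hD hVr hn₁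
  obtain ⟨f₂, hf₂0, hf₂V, hf₂⟩ := exists_of_mem_filter hK hV (hdeg P) (hdeg P') hPP' hD hVr hn₂
  have hs : ∀ (f : K) (n : ℕ), FunFld.div k f = Finsupp.single P (n : ℤ) +
      Finsupp.single P' ((d : ℤ) - n) - D →
      ∀ R : Place k K, R ≠ P → R ≠ P' → (FunFld.div k f + D) R = 0 := by
    intro f n hf R hRP hRP'
    rw [hf, sub_add_cancel, Finsupp.add_apply, Finsupp.single_eq_of_ne hRP,
      Finsupp.single_eq_of_ne hRP', add_zero]
  obtain ⟨c, hc⟩ := eq_smul_of_cusp hK hg hdeg hV hVr hcusp hP hP' hf₁V hf₂V hf₁0 hf₂0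
    (hs f₁ n₁ hf₁) (hs f₂ n₂ hf₂)
  have hc0 : c ≠ 0 := by
    rintro rfl
    rw [zero_smul] at hc
    exact hf₂0 hc
  have heq : FunFld.div k f₂ = FunFld.div k f₁ := by rw [hc, div_smul' hK hc0]
  rw [hf₁, hf₂] at heq
  have := congrArg (fun E : Divisor k K => E P) heq
  simp only [Finsupp.sub_apply, Finsupp.add_apply, Finsupp.single_eq_same,
    Finsupp.single_eq_of_ne hPP'] at this
  omega

end Groth.Agent.Lib.Helper27.FF
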