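import Groth.Agent.Lib.Helper27.FunFld2

/-! Function fields of one variable (helper27), part 3: divisor bookkeeping and the `Core`
package of foundational facts (finite support of `ord`, `deg div = 0`, Riemann inequality, adele
dimension formulas) on which the Weil-differential / Riemann–Roch part is built. -/

set_option autoImplicit false

namespace Groth.Agent.Lib.Helper27.FF

open FunFld Polynomial

universe u v

variable {k : Type u} {K : Type v} [Field k] [Field K] [Algebra k K]

/-! ### Degrees of divisors -/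

theorem deg_add (D₁ D₂ : Divisor k K) : (D₁ + D₂).deg = D₁.deg + D₂.deg := by
  unfold Divisor.deg
  rw [Finsupp.sum_add_index']
  · intro P; simp
  · intro P a b; ring

theorem deg_zero : (0 : Divisor k K).deg = 0 := by
  unfold Divisor.deg
  exact Finsupp.sum_zero_index

theorem deg_neg (D : Divisor k K) : (-D).deg = -D.deg := by
  have h := deg_add D (-D)
  rw [add_neg_cancel, deg_zero] at h
  linarith

theorem deg_sub (D₁ D₂ : Divisor k K) : (D₁ - D₂).deg = D₁.deg - D₂.deg := by
  rw [sub_eq_add_neg, deg_add, deg_neg]; ring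

theorem deg_single (P : Place k K) (n : ℤ) :
    Divisor.deg (Finsupp.single P n : Divisor k K) = n * (P.deg : ℤ) := by
  unfold Divisor.deg
  rw [Finsupp.sum_single_index]
  simp

theorem deg_nonneg_of_nonneg {D : Divisor k K} (h : 0 ≤ D) : 0 ≤ D.deg := by
  unfold Divisor.deg
  apply Finsupp.sum_nonneg
  intro P _
  exact mul_nonneg (h P) (Int.natCast_nonneg _)

theorem deg_mono {D₁ D₂ : Divisor k K} (h : D₁ ≤ D₂) : D₁.deg ≤ D₂.deg := by
  have h1 : 0 ≤ D₂ - D₁ := sub_nonneg.mpr h
  have h2 := deg_nonneg_of_nonneg h1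
  rw [deg_sub] at h2
  linarith

theorem one_le_deg (P : Place k K) [FiniteDimensional k (IsLocalRing.ResidueField P.O)] :
    1 ≤ P.deg := by
  unfold Place.deg
  exact Module.finrank_pos

/-- A nonnegative divisor of degree `0` is zero (when all places have positive degree). -/
theorem eq_zero_of_nonneg_of_deg_eq_zero (hdeg : ∀ P : Place k K, 1 ≤ P.deg) {D : Divisor k K}
    (h : 0 ≤ D) (h0 : D.deg = 0) : D = 0 := by
  classical
  ext P
  by_contra hP
  have hpos : 0 < D P := lt_of_le_of_ne (h P) (Ne.symm hP)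
  have h1 : (Finsupp.single P (D P) : Divisor k K) ≤ D := by
    intro Q
    by_cases hQ : Q = P
    · subst hQ; simp
    · rw [Finsupp.single_apply, if_neg (Ne.symm hQ)]; exact h Q
  have h2 := deg_mono h1
  rw [deg_single, h0] at h2
  have h3 : (1 : ℤ) ≤ (P.deg : ℤ) := by exact_mod_cast hdeg P
  nlinarith

theorem deg_lt_of_lt (hdeg : ∀ P : Place k K, 1 ≤ P.deg) {D₁ D₂ : Divisor k K} (h : D₁ < D₂) :
    D₁.deg < D₂.deg := by
  have hle := deg_mono h.le
  rcases eq_or_lt_of_le hle with heq | hlt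
  · exfalso
    have h1 : 0 ≤ D₂ - D₁ := sub_nonneg.mpr h.le
    have h2 : (D₂ - D₁).deg = 0 := by rw [deg_sub]; linarith
    have h3 := eq_zero_of_nonneg_of_deg_eq_zero hdeg h1 h2
    have : D₂ = D₁ := sub_eq_zero.mp h3
    exact h.ne this.symm
  · exact hlt

/-! ### Core package -/

/-- The foundational facts on a function field of one variable needed for Riemann–Roch;
fields are the frozen statements S10968, S10970, S10971, S10974–S10980, S10982. -/
structure Core (k : Type u) (K : Type v) [Field k] [Field K] [Algebra k K] : Prop where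
  isFF : IsFunctionField k K
  deg_div : ∀ x : K, (FunFld.div k x).deg = 0
  finite_support : ∀ x : K, (Function.support fun P : Place k K => P.ord x).Finite
  finDimRes : ∀ P : Place k K, FiniteDimensional k (IsLocalRing.ResidueField P.O)
  finrank_AD : ∀ D₁ D₂ : Divisor k K, D₁ ≤ D₂ →
    AD D₁ ≤ AD D₂ ∧
    FiniteDimensional k (↥(AD D₂) ⧸ Submodule.comap (AD D₂).subtype (AD D₁)) ∧
    (Module.finrank k (↥(AD D₂) ⧸ Submodule.comap (AD D₂).subtype (AD D₁)) : ℤ) =
      D₂.deg - D₁.deg
  AD_sup : ∀ D₁ D₂ : Divisor k K, AD (D₁ ⊔ D₂) = AD D₁ ⊔ AD D₂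
  finDimL : ∀ D : Divisor k K, FiniteDimensional k (L D)
  ell_le : ∀ D₁ D₂ : Divisor k K, D₁ ≤ D₂ → (ell D₂ : ℤ) - ell D₁ ≤ D₂.deg - D₁.deg
  L_zero : L (0 : Divisor k K) = 1
  finrank_ADK : ∀ D₁ D₂ : Divisor k K, D₁ ≤ D₂ →
    FiniteDimensional k (↥(AD D₂ ⊔ LinearMap.range (diag k K)) ⧸
        Submodule.comap (AD D₂ ⊔ LinearMap.range (diag k K)).subtype
          (AD D₁ ⊔ LinearMap.range (diag k K))) ∧
    (Module.finrank k (↥(AD D₂ ⊔ LinearMap.range (diag k K)) ⧸
        Submodule.comap (AD D₂ ⊔ LinearMap.range (diag k K)).subtype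
          (AD D₁ ⊔ LinearMap.range (diag k K))) : ℤ) =
      (D₂.deg + 1 - ell D₂) - (D₁.deg + 1 - ell D₁)
  L_neg : ∀ D : Divisor k K, D.deg < 0 → L D = ⊥
  riemann : (∀ D : Divisor k K, D.deg + 1 - (ell D : ℤ) ≤ genus k K) ∧
    ∃ N : ℤ, ∀ D : Divisor k K, N ≤ D.deg → D.deg + 1 - (ell D : ℤ) = genus k K

namespace Core

variable (C : Core k K)

include C in
theorem one_le_deg (P : Place k K) : 1 ≤ P.deg := by
  haveI := C.finDimRes P
  exact FF.one_le_deg P

include C in
theorem exists_place : Nonempty (Place k K) := by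
  obtain ⟨⟨x, hx, _⟩, _⟩ := C.isFF
  obtain ⟨P, _⟩ := exists_place_val_lt_one C.isFF hx
  exact ⟨P⟩

include C in
/-- `div k x` is the honest principal divisor. -/
theorem div_apply (x : K) (P : Place k K) : FunFld.div k x P = P.ord x := by
  unfold FunFld.div
  rw [dif_pos (C.finite_support x)]
  rfl

include C in
/-- `v_P(x) = exp (-(div x) P)` for `x ≠ 0`. -/
theorem val_eq_exp_neg_div {x : K} (hx : x ≠ 0) (P : Place k K) :
    P.1 x = WithZero.exp (-(FunFld.div k x P)) := by
  rw [C.div_apply, val_eq_exp_neg_ord P hx]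

include C in
theorem div_mul {x y : K} (hx : x ≠ 0) (hy : y ≠ 0) :
    FunFld.div k (x * y) = FunFld.div k x + FunFld.div k y := by
  ext P
  rw [Finsupp.add_apply, C.div_apply, C.div_apply, C.div_apply, ord_mul P hx hy]

include C in
theorem div_inv (x : K) : FunFld.div k x⁻¹ = -FunFld.div k x := by
  ext P
  rw [Finsupp.neg_apply, C.div_apply, C.div_apply, ord_inv]

include C in
theorem div_one : FunFld.div k (1 : K) = 0 := by
  ext P
  rw [C.div_apply, ord_one]; rfl

end Core

end Groth.Agent.Lib.Helper27.FF
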