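import Groth.Agent.Lib.Helper27.FunFld3

/-! Function fields of one variable (helper27), part 4: adeles, `dim A/(A(D)+K)`, `dim W(D)`. -/

set_option autoImplicit false

namespace Groth.Agent.Lib.Helper27.FF

open FunFld Polynomial

universe u v

variable {k : Type u} {K : Type v} [Field k] [Field K] [Algebra k K]

theorem AD_mono {D₁ D₂ : Divisor k K} (h : D₁ ≤ D₂) : AD D₁ ≤ AD D₂ := by
  intro a ha P
  exact (ha P).trans (WithZero.exp_le_exp.mpr (h P))

theorem AD_le_adele (D : Divisor k K) : AD D ≤ adele k K := by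
  intro a ha
  show ∀ᶠ P : Place k K in Filter.cofinite, P.1 (a P) ≤ 1
  rw [Filter.eventually_cofinite]
  refine D.support.finite_toSet.subset ?_
  intro P hP
  by_contra hPs
  apply hP
  have h0 : D P = 0 := by
    by_contra h
    exact hPs (Finsupp.mem_support_iff.mpr h)
  have := ha P
  rw [h0, WithZero.exp_zero] at this
  exact this

theorem mem_AD_iff {D : Divisor k K} {a : Place k K → K} :
    a ∈ AD D ↔ ∀ P : Place k K, P.1 (a P) ≤ WithZero.exp (D P) := Iff.rfl

theorem mem_adele_iff {a : Place k K → K} :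
    a ∈ adele k K ↔ {P : Place k K | ¬ P.1 (a P) ≤ 1}.Finite := by
  show (∀ᶠ P : Place k K in Filter.cofinite, P.1 (a P) ≤ 1) ↔ _
  rw [Filter.eventually_cofinite]

theorem diag_apply (y : K) (P : Place k K) : diag k K y P = y := rfl

namespace Core

variable (C : Core k K)

include C in
theorem diag_mem_adele (y : K) : diag k K y ∈ adele k K := by
  rw [mem_adele_iff]
  by_cases hy : y = 0
  · subst hy
    convert Set.finite_empty
    ext P
    simp [diag_apply]
  · refine (C.finite_support y).subset ?_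
    intro P hP
    rw [Set.mem_ofPred_eq, diag_apply, val_le_one_iff P hy, not_le] at hP
    exact hP.ne

include C in
theorem ADK_le_adele (D : Divisor k K) : AD D ⊔ LinearMap.range (diag k K) ≤ adele k K := by
  apply sup_le (AD_le_adele D)
  rintro _ ⟨y, rfl⟩
  exact C.diag_mem_adele y

theorem exists_AD_of_adele {α : Place k K → K} (hα : α ∈ adele k K) (D₀ : Divisor k K) :
    ∃ E : Divisor k K, D₀ ≤ E ∧ α ∈ AD E := by
  classical
  rw [mem_adele_iff] at hα
  let f : Place k K → ℤ := fun P => max 0 (WithZero.log (P.1 (α P)))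
  have hf : (Function.support f).Finite := by
    refine hα.subset ?_
    intro P hP
    rw [Set.mem_ofPred_eq]
    intro hle
    apply hP
    show max 0 (WithZero.log (P.1 (α P))) = 0
    apply max_eq_left
    by_cases h0 : P.1 (α P) = 0
    · rw [h0, WithZero.log_zero]
    · rw [WithZero.log_le_iff_le_exp h0, WithZero.exp_zero]
      exact hle
  let F : Divisor k K := Finsupp.ofSupportFinite f hf
  refine ⟨D₀ ⊔ F, le_sup_left, ?_⟩
  intro P
  by_cases h0 : P.1 (α P) = 0
  · rw [h0]; exact zero_le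
  · have h1 : P.1 (α P) = WithZero.exp (WithZero.log (P.1 (α P))) := (WithZero.exp_log h0).symm
    rw [h1, WithZero.exp_le_exp]
    have h2 : F P ≤ (D₀ ⊔ F) P := (le_sup_right : F ≤ D₀ ⊔ F) P
    have h3 : F P = max 0 (WithZero.log (P.1 (α P))) := rfl
    rw [h3] at h2
    exact (le_max_right _ _).trans h2

include C in
theorem exists_large (D : Divisor k K) (N : ℤ) : ∃ D₁ : Divisor k K, D ≤ D₁ ∧ N ≤ D₁.deg := by
  obtain ⟨P₀⟩ := C.exists_place
  have hdeg : (1 : ℤ) ≤ (P₀.deg : ℤ) := by exact_mod_cast C.one_le_deg P₀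
  refine ⟨D + Finsupp.single P₀ (max 0 (N - D.deg)), ?_, ?_⟩
  · have : (0 : Divisor k K) ≤ Finsupp.single P₀ (max 0 (N - D.deg)) := by
      intro Q
      classical
      rw [Finsupp.single_apply]
      split_ifs
      · exact le_max_left _ _
      · exact le_rfl
    exact le_add_of_nonneg_right this
  · rw [deg_add, deg_single]
    have h1 : (0 : ℤ) ≤ max 0 (N - D.deg) := le_max_left _ _
    have h2 : N - D.deg ≤ max 0 (N - D.deg) := le_max_right _ _
    nlinarith

include C in
/-- For `deg D₁` large, `A = A(D₁) + K`. -/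
theorem adele_eq {N : ℤ} (hN : ∀ D : Divisor k K, N ≤ D.deg →
    D.deg + 1 - (ell D : ℤ) = genus k K) {D₁ : Divisor k K} (hD₁ : N ≤ D₁.deg) :
    adele k K = AD D₁ ⊔ LinearMap.range (diag k K) := by
  apply le_antisymm _ (C.ADK_le_adele D₁)
  intro α hα
  obtain ⟨D₂, h12, hα2⟩ := exists_AD_of_adele hα D₁
  obtain ⟨hfd, hfr⟩ := C.finrank_ADK D₁ D₂ h12
  have h2 : N ≤ D₂.deg := hD₁.trans (deg_mono h12)
  rw [hN D₁ hD₁, hN D₂ h2, sub_self] at hfr
  have hfr0 : Module.finrank k (↥(AD D₂ ⊔ LinearMap.range (diag k K)) ⧸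
        Submodule.comap (AD D₂ ⊔ LinearMap.range (diag k K)).subtype
          (AD D₁ ⊔ LinearMap.range (diag k K))) = 0 := by exact_mod_cast hfr
  have hss := Module.finrank_zero_iff.mp hfr0
  have htop := Submodule.Quotient.subsingleton_iff.mp hss
  have hmem : (⟨α, Submodule.mem_sup_left hα2⟩ : ↥(AD D₂ ⊔ LinearMap.range (diag k K))) ∈
      Submodule.comap (AD D₂ ⊔ LinearMap.range (diag k K)).subtype
          (AD D₁ ⊔ LinearMap.range (diag k K)) := by
    rw [htop]; trivial
  exact hmem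

include C in
/-- `dim A/(A(D)+K) = g - δ(D)`. -/
theorem finrank_adele_quotient (D : Divisor k K) :
    FiniteDimensional k (↥(adele k K) ⧸ ADK D) ∧
    (Module.finrank k (↥(adele k K) ⧸ ADK D) : ℤ) =
      (genus k K : ℤ) - (D.deg + 1 - ell D) := by
  obtain ⟨N, hN⟩ := C.riemann.2
  obtain ⟨D₁, hDD₁, hD₁⟩ := C.exists_large D N
  have heq := C.adele_eq hN hD₁
  obtain ⟨hfd, hfr⟩ := C.finrank_ADK D D₁ hDD₁
  let e : ↥(adele k K) ≃ₗ[k] ↥(AD D₁ ⊔ LinearMap.range (diag k K)) := LinearEquiv.ofEq _ _ heq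
  have hmap : (ADK D).map e.toLinearMap =
      Submodule.comap (AD D₁ ⊔ LinearMap.range (diag k K)).subtype
          (AD D ⊔ LinearMap.range (diag k K)) := by
    ext x
    constructor
    · rintro ⟨a, ha, rfl⟩
      exact ha
    · intro hx
      refine ⟨e.symm x, ?_, by simp⟩
      exact hx
  let q := Submodule.Quotient.equiv (ADK D) _ e hmap
  refine ⟨q.symm.finiteDimensional, ?_⟩
  rw [q.finrank_eq, hfr, hN D₁ hD₁]

include C in
/-- `dim W(D) = g - δ(D)`. -/
theorem finrank_WD (D : Divisor k K) :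
    FiniteDimensional k (WD D) ∧
    (Module.finrank k (WD D) : ℤ) = (genus k K : ℤ) - (D.deg + 1 - ell D) := by
  obtain ⟨hfd, hfr⟩ := C.finrank_adele_quotient D
  let e := Submodule.dualQuotEquivDualAnnihilator (ADK D)
  have h1 : FiniteDimensional k (Module.Dual k (↥(adele k K) ⧸ ADK D)) := inferInstance
  refine ⟨e.finiteDimensional, ?_⟩
  have : Module.finrank k (WD D) = Module.finrank k (↥(adele k K) ⧸ ADK D) := by
    rw [← Subspace.dual_finrank_eq (K := k) (V := ↥(adele k K) ⧸ ADK D)]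
    exact e.symm.finrank_eq
  rw [this, hfr]

end Core

end Groth.Agent.Lib.Helper27.FF
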