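import Groth.Agent.Lib.Helper27.FunFld4

/-! Function fields of one variable (helper27), part 5: Weil differentials: divisor of a
differential, the `K`-action `mulW`. -/

set_option autoImplicit false

namespace Groth.Agent.Lib.Helper27.FF

open FunFld Polynomial

universe u v

variable {k : Type u} {K : Type v} [Field k] [Field K] [Algebra k K]

theorem mem_WD_iff {D : Divisor k K} {ω : Module.Dual k (adele k K)} :
    ω ∈ WD D ↔ ∀ a : adele k K, (a : Place k K → K) ∈ AD D ⊔ LinearMap.range (diag k K) →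
      ω a = 0 := by
  rw [WD, Submodule.mem_dualAnnihilator]
  rfl

theorem WD_anti {D₁ D₂ : Divisor k K} (h : D₁ ≤ D₂) : WD D₂ ≤ WD D₁ := by
  intro ω hω
  rw [mem_WD_iff] at hω ⊢
  intro a ha
  apply hω a
  exact (sup_le_sup_right (AD_mono h) _) ha

theorem mulW_apply (x : K) (hx : ∀ a ∈ adele k K, x • a ∈ adele k K)
    (ω : Module.Dual k (adele k K)) (a : adele k K) :
    mulW x hx ω a = ω ⟨x • (a : Place k K → K), hx a.1 a.2⟩ := rfl

/-- `x • A(E) ⊆ A(E - (x))` in valuation form. -/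
theorem smul_mem_AD {E F : Divisor k K} {x : K} (hx : ∀ P : Place k K, P.1 x ≤ WithZero.exp (F P))
    {a : Place k K → K} (ha : a ∈ AD E) : x • a ∈ AD (E + F) := by
  intro P
  show P.1 (x • a P) ≤ _
  rw [smul_eq_mul, map_mul, Finsupp.add_apply, add_comm, WithZero.exp_add]
  exact mul_le_mul' (hx P) (ha P)

theorem smul_diag (x y : K) : x • diag k K y = diag k K (x * y) := by
  funext P
  rfl

namespace Core

variable (C : Core k K)

include C in
theorem smul_mem_adele (x : K) {a : Place k K → K} (ha : a ∈ adele k K) : x • a ∈ adele k K := by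
  rw [mem_adele_iff] at ha ⊢
  by_cases hx : x = 0
  · subst hx
    convert Set.finite_empty
    ext P
    simp
  · refine (ha.union (C.finite_support x)).subset ?_
    intro P hP
    rw [Set.mem_ofPred_eq] at hP
    by_contra hcon
    rw [Set.mem_union, not_or] at hcon
    obtain ⟨h1, h2⟩ := hcon
    rw [Set.mem_ofPred_eq, not_not] at h1
    have h3 : P.ord x = 0 := by
      by_contra h
      exact h2 h
    apply hP
    show P.1 (x • a P) ≤ 1
    rw [smul_eq_mul, map_mul]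
    have hx1 : P.1 x = 1 := by
      rw [val_eq_exp_neg_ord P hx, h3]; simp
    rw [hx1, one_mul]
    exact h1

include C in
theorem WD_sup {E₁ E₂ : Divisor k K} {ω : Module.Dual k (adele k K)} (h₁ : ω ∈ WD E₁)
    (h₂ : ω ∈ WD E₂) : ω ∈ WD (E₁ ⊔ E₂) := by
  rw [mem_WD_iff] at h₁ h₂ ⊢
  intro a ha
  obtain ⟨b, hb, z, ⟨y, rfl⟩, hbz⟩ := Submodule.mem_sup.mp ha
  rw [C.AD_sup] at hb
  obtain ⟨b₁, hb₁, b₂, hb₂, rfl⟩ := Submodule.mem_sup.mp hb
  have hb₁a : b₁ ∈ adele k K := AD_le_adele E₁ hb₁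
  have hb₂a : b₂ + diag k K y ∈ adele k K :=
    (adele k K).add_mem (AD_le_adele E₂ hb₂) (C.diag_mem_adele y)
  have hsplit : a = ⟨b₁, hb₁a⟩ + ⟨b₂ + diag k K y, hb₂a⟩ := by
    apply Subtype.ext
    show (a : Place k K → K) = b₁ + (b₂ + diag k K y)
    rw [← hbz]; abel
  rw [hsplit, map_add, h₁ ⟨b₁, hb₁a⟩ (Submodule.mem_sup_left hb₁),
    h₂ ⟨b₂ + diag k K y, hb₂a⟩ (Submodule.mem_sup.mpr ⟨b₂, hb₂, _, ⟨y, rfl⟩, rfl⟩), add_zero]

include C in
theorem WD_eq_bot_of_large {N : ℤ} (hN : ∀ D : Divisor k K, N ≤ D.deg →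
    D.deg + 1 - (ell D : ℤ) = genus k K) {E : Divisor k K} (hE : N ≤ E.deg) : WD E = ⊥ := by
  obtain ⟨hfd, hfr⟩ := C.finrank_WD E
  rw [hN E hE, sub_self] at hfr
  have h0 : Module.finrank k (WD E) = 0 := by exact_mod_cast hfr
  exact Submodule.finrank_eq_zero.mp h0

include C in
/-- A nonzero Weil differential has a divisor (S10985). -/
theorem exists_isDivOf {ω : Module.Dual k (adele k K)} (hω : IsWeil ω) (h0 : ω ≠ 0) :
    ∃ D : Divisor k K, IsDivOf ω D := by
  obtain ⟨N, hN⟩ := C.riemann.2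
  obtain ⟨E₀, hE₀⟩ := hω
  -- degrees of divisors E with ω ∈ WD E are < N
  have hbdd : ∀ E : Divisor k K, ω ∈ WD E → E.deg < N := by
    intro E hE
    by_contra hge
    rw [not_lt] at hge
    have := C.WD_eq_bot_of_large hN hge
    rw [this, Submodule.mem_bot] at hE
    exact h0 hE
  -- choose E of maximal degree
  have hex : ∃ d : ℤ, ∃ E : Divisor k K, ω ∈ WD E ∧ E.deg = d := ⟨_, E₀, hE₀, rfl⟩
  obtain ⟨d, ⟨D, hD, hDd⟩, hmax⟩ := Int.exists_greatest_of_bdd
    (P := fun d => ∃ E : Divisor k K, ω ∈ WD E ∧ E.deg = d)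
    ⟨N, fun d ⟨E, hE, hEd⟩ => hEd ▸ (hbdd E hE).le⟩ hex
  refine ⟨D, fun E => ⟨fun hE => ?_, fun hE => WD_anti hE hD⟩⟩
  have hsup := C.WD_sup hE hD
  have h1 : (E ⊔ D).deg ≤ d := hmax _ ⟨E ⊔ D, hsup, rfl⟩
  have h2 : D ≤ E ⊔ D := le_sup_right
  rcases eq_or_lt_of_le h2 with heq | hlt
  · rw [heq]; exact le_sup_left
  · have := deg_lt_of_lt C.one_le_deg hlt
    omega

theorem isDivOf_unique {ω : Module.Dual k (adele k K)} {D₁ D₂ : Divisor k K}
    (h₁ : IsDivOf ω D₁) (h₂ : IsDivOf ω D₂) : D₁ = D₂ :=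
  le_antisymm ((h₂ D₁).mp ((h₁ D₁).mpr le_rfl)) ((h₁ D₂).mp ((h₂ D₂).mpr le_rfl))

include C in
theorem ne_zero_of_isDivOf {ω : Module.Dual k (adele k K)} {D : Divisor k K}
    (h : IsDivOf ω D) : ω ≠ 0 := by
  rintro rfl
  obtain ⟨P⟩ := C.exists_place
  have h1 : (0 : Module.Dual k (adele k K)) ∈ WD (D + Finsupp.single P 1) := Submodule.zero_mem _
  have h2 := (h _).mp h1 P
  simp at h2

/-! ### The action of `K` -/

include C in
theorem hmul (x : K) : ∀ a ∈ adele k K, x • a ∈ adele k K := fun _ ha => C.smul_mem_adele x ha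

theorem mulW_mulW (x y : K) (hx : ∀ a ∈ adele k K, x • a ∈ adele k K)
    (hy : ∀ a ∈ adele k K, y • a ∈ adele k K) (hxy : ∀ a ∈ adele k K, (y * x) • a ∈ adele k K)
    (ω : Module.Dual k (adele k K)) : mulW x hx (mulW y hy ω) = mulW (y * x) hxy ω := by
  apply LinearMap.ext
  intro a
  rw [mulW_apply, mulW_apply, mulW_apply]
  congr 1
  apply Subtype.ext
  show y • x • (a : Place k K → K) = (y * x) • (a : Place k K → K)
  rw [smul_smul]

theorem mulW_one (h1 : ∀ a ∈ adele k K, (1 : K) • a ∈ adele k K)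
    (ω : Module.Dual k (adele k K)) : mulW 1 h1 ω = ω := by
  apply LinearMap.ext
  intro a
  rw [mulW_apply]
  congr 1
  apply Subtype.ext
  show (1 : K) • (a : Place k K → K) = a
  rw [one_smul]

theorem mulW_zero_left (h0 : ∀ a ∈ adele k K, (0 : K) • a ∈ adele k K)
    (ω : Module.Dual k (adele k K)) : mulW 0 h0 ω = 0 := by
  apply LinearMap.ext
  intro a
  rw [mulW_apply]
  have : (⟨(0 : K) • (a : Place k K → K), h0 a.1 a.2⟩ : adele k K) = 0 := by
    apply Subtype.ext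
    show (0 : K) • (a : Place k K → K) = 0
    rw [zero_smul]
  rw [this, map_zero]; rfl

theorem mulW_zero_right (x : K) (hx : ∀ a ∈ adele k K, x • a ∈ adele k K) :
    mulW x hx (0 : Module.Dual k (adele k K)) = 0 := by
  apply LinearMap.ext
  intro a
  rfl

theorem mulW_add_left (x y : K) (hx : ∀ a ∈ adele k K, x • a ∈ adele k K)
    (hy : ∀ a ∈ adele k K, y • a ∈ adele k K) (hxy : ∀ a ∈ adele k K, (x + y) • a ∈ adele k K)
    (ω : Module.Dual k (adele k K)) : mulW (x + y) hxy ω = mulW x hx ω + mulW y hy ω := by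
  apply LinearMap.ext
  intro a
  rw [LinearMap.add_apply, mulW_apply, mulW_apply, mulW_apply, ← map_add]
  congr 1
  apply Subtype.ext
  show (x + y) • (a : Place k K → K) = x • (a : Place k K → K) + y • (a : Place k K → K)
  rw [add_smul]

theorem mulW_smul_left (c : k) (x : K) (hx : ∀ a ∈ adele k K, x • a ∈ adele k K)
    (hcx : ∀ a ∈ adele k K, (c • x) • a ∈ adele k K)
    (ω : Module.Dual k (adele k K)) : mulW (c • x) hcx ω = c • mulW x hx ω := by
  apply LinearMap.ext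
  intro a
  rw [LinearMap.smul_apply, mulW_apply, mulW_apply, ← map_smul]
  congr 1
  apply Subtype.ext
  show (c • x) • (a : Place k K → K) = c • x • (a : Place k K → K)
  rw [smul_assoc]

include C in
theorem mulW_eq_zero {x : K} {ω : Module.Dual k (adele k K)} (hω : ω ≠ 0)
    (h : mulW x (C.hmul x) ω = 0) : x = 0 := by
  by_contra hx
  apply hω
  have h1 := mulW_mulW x⁻¹ x (C.hmul x⁻¹) (C.hmul x) (C.hmul (x * x⁻¹)) ω
  rw [h, mulW_zero_right] at h1
  have h2 : mulW (x * x⁻¹) (C.hmul (x * x⁻¹)) ω = ω := by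
    have : x * x⁻¹ = 1 := mul_inv_cancel₀ hx
    have h3 := mulW_one (C.hmul 1) ω
    convert h3
  rw [← h2, ← h1]

include C in
/-- The linear map `x ↦ x ω`. -/
noncomputable def mulWₗ (ω : Module.Dual k (adele k K)) : K →ₗ[k] Module.Dual k (adele k K) where
  toFun x := mulW x (C.hmul x) ω
  map_add' x y := mulW_add_left x y _ _ _ ω
  map_smul' c x := mulW_smul_left c x _ _ ω

include C in
theorem mulWₗ_apply (ω : Module.Dual k (adele k K)) (x : K) :
    C.mulWₗ ω x = mulW x (C.hmul x) ω := rfl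

include C in
theorem mulWₗ_injective {ω : Module.Dual k (adele k K)} (hω : ω ≠ 0) :
    Function.Injective (C.mulWₗ ω) := by
  rw [← LinearMap.ker_eq_bot, LinearMap.ker_eq_bot']
  intro x hx
  exact C.mulW_eq_zero hω hx

/-- `L(D) · W(E) ⊆ W(E - D)` (S10986 again, library form). -/
theorem mulW_mem_WD (E D : Divisor k K) (x : K) (hxD : x ∈ L D)
    (hx : ∀ a ∈ adele k K, x • a ∈ adele k K)
    (ω : Module.Dual k (adele k K)) (hω : ω ∈ WD E) : mulW x hx ω ∈ WD (E - D) := by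
  rw [mem_WD_iff] at hω ⊢
  intro a ha
  rw [mulW_apply]
  apply hω
  obtain ⟨b, hb, z, ⟨y, rfl⟩, hbz⟩ := Submodule.mem_sup.mp ha
  refine Submodule.mem_sup.mpr ⟨x • b, ?_, diag k K (x * y), ⟨x * y, rfl⟩, ?_⟩
  · have := smul_mem_AD (E := E - D) (F := D) (x := x) hxD hb
    rwa [sub_add_cancel] at this
  · show x • b + diag k K (x * y) = x • (a : Place k K → K)
    rw [← hbz, smul_add, smul_diag]

include C in
/-- `(xω) = (x) + (ω)` (S10987). -/
theorem isDivOf_mulW {x : K} (hx0 : x ≠ 0) {ω : Module.Dual k (adele k K)} {D : Divisor k K}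
    (hω : IsDivOf ω D) (hx : ∀ a ∈ adele k K, x • a ∈ adele k K) :
    IsDivOf (mulW x hx ω) (D + FunFld.div k x) := by
  have hxval : ∀ P : Place k K, P.1 x ≤ WithZero.exp ((-FunFld.div k x) P) := fun P => by
    rw [C.val_eq_exp_neg_div hx0]; rfl
  have hxinv : ∀ P : Place k K, P.1 x⁻¹ ≤ WithZero.exp ((FunFld.div k x) P) := fun P => by
    rw [map_inv₀, C.val_eq_exp_neg_div hx0, WithZero.exp_neg, inv_inv]
  intro E
  constructor
  · intro hE
    -- ω = x⁻¹ (x ω) ∈ WD (E - div x)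
    have h1 := mulW_mem_WD E (FunFld.div k x) x⁻¹ hxinv (C.hmul x⁻¹) _ hE
    rw [mulW_mulW x⁻¹ x (C.hmul x⁻¹) hx (C.hmul (x * x⁻¹))] at h1
    have h2 : mulW (x * x⁻¹) (C.hmul (x * x⁻¹)) ω = ω := by
      have : x * x⁻¹ = 1 := mul_inv_cancel₀ hx0
      have h3 := mulW_one (C.hmul 1) ω
      convert h3
    rw [h2] at h1
    have := (hω _).mp h1
    exact sub_le_iff_le_add.mp this
  · intro hE
    have h1 : ω ∈ WD (E - FunFld.div k x) := (hω _).mpr (sub_le_iff_le_add.mpr hE)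
    have h2 := mulW_mem_WD (E - FunFld.div k x) (-FunFld.div k x) x hxval hx ω h1
    rwa [sub_neg_eq_add, sub_add_cancel] at h2

end Core

end Groth.Agent.Lib.Helper27.FF
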