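import Mathlib

/-!
# Global complete intersection subalgebras of field extensions (part 1)

The algebraic step: if `A ⊆ K` is a domain with a presentation over `k` and `e ∈ K` is algebraic
over `A`, then `A[1/a][e]` (for a suitable `a ∈ A`) has a presentation with two more generators and
two more relations, and the same transcendence degree.
-/

set_option autoImplicit false

namespace Groth.Agent.Lib.Helper27.GCI

open Polynomial

universe u

section minpoly

variable {A K : Type*} [CommRing A] [IsDomain A] [Field K] [Algebra A K]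

theorem exists_min_poly (e : K) (he : IsAlgebraic A e) :
    ∃ p : A[X], p ≠ 0 ∧ aeval e p = 0 ∧
      ∀ q : A[X], q ≠ 0 → aeval e q = 0 → p.natDegree ≤ q.natDegree := by
  obtain ⟨p₀, hp₀, hp₀e⟩ := he
  obtain ⟨p, ⟨hp, hpe⟩, hmin⟩ := WellFounded.has_min
    (measure (fun q : A[X] => q.natDegree)).wf {q : A[X] | q ≠ 0 ∧ aeval e q = 0}
    ⟨p₀, hp₀, hp₀e⟩
  exact ⟨p, hp, hpe, fun q hq hqe => not_lt.mp (hmin q ⟨hq, hqe⟩)⟩

variable {T₁ : Type*} [CommRing T₁] [Algebra A T₁] [Algebra T₁ K] [IsScalarTower A T₁ K]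

theorem dvd_of_aeval_eq_zero (a : A) (ha0 : a ≠ 0) [IsLocalization.Away a T₁] (p : A[X]) (e : K)
    (hmin : ∀ q : A[X], q ≠ 0 → aeval e q = 0 → p.natDegree ≤ q.natDegree)
    (p₂ : T₁[X]) (hp₂ : p₂.Monic) (hdeg : p₂.natDegree = p.natDegree) (hp₂e : aeval e p₂ = 0)
    (q : T₁[X]) (hq : aeval e q = 0) : p₂ ∣ q := by
  have hle : Submonoid.powers a ≤ nonZeroDivisors A :=
    powers_le_nonZeroDivisors_of_noZeroDivisors ha0
  haveI : IsDomain T₁ := IsLocalization.isDomain_of_le_nonZeroDivisors T₁ hle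
  rw [← Polynomial.modByMonic_eq_zero_iff_dvd hp₂]
  by_contra hr
  have hre : aeval e (q %ₘ p₂) = 0 := by
    have h1 := Polynomial.modByMonic_add_div q p₂
    have h2 : aeval e (q %ₘ p₂ + p₂ * (q /ₘ p₂)) = 0 := by rw [h1]; exact hq
    rwa [map_add, map_mul, hp₂e, zero_mul, add_zero] at h2
  have hrdeg : (q %ₘ p₂).natDegree < p.natDegree := by
    rw [← hdeg]
    exact Polynomial.natDegree_lt_natDegree hr (Polynomial.degree_modByMonic_lt q hp₂)
  obtain ⟨b, hb, hspec⟩ := IsLocalization.integerNormalization_spec (Submonoid.powers a) (q %ₘ p₂)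
  have hr₀0 : IsLocalization.integerNormalization (Submonoid.powers a) (q %ₘ p₂) ≠ 0 :=
    fun h => hr ((IsLocalization.integerNormalization_eq_zero_iff hle _).mp h)
  have hr₀e : aeval e (IsLocalization.integerNormalization (Submonoid.powers a) (q %ₘ p₂)) = 0 := by
    rw [← Polynomial.aeval_map_algebraMap T₁ e, hspec, ← algebraMap_smul T₁ b (q %ₘ p₂), map_smul,
      hre, smul_zero]
  have hr₀deg : (IsLocalization.integerNormalization (Submonoid.powers a) (q %ₘ p₂)).natDegree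
      ≤ (q %ₘ p₂).natDegree := by
    rw [Polynomial.natDegree_le_iff_coeff_eq_zero]
    intro N hN
    have h1 : N ∉ (q %ₘ p₂).support := by
      rw [Polynomial.notMem_support_iff]
      exact Polynomial.coeff_eq_zero_of_natDegree_lt hN
    exact Polynomial.notMem_support_iff.mp
      (fun h => h1 (IsLocalization.integerNormalization_support (Submonoid.powers a) _ h))
  exact absurd (hmin _ hr₀0 hr₀e) (not_le.mpr (lt_of_le_of_lt hr₀deg hrdeg))

end minpoly

theorem trdeg_eq_of_algebraic_embedding {k A K T₂ : Type u} [Field k] [CommRing A] [IsDomain A]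
    [Field K] [Algebra k A] [Algebra A K]
    [CommRing T₂] [Algebra k T₂] [Algebra A T₂] [IsScalarTower k A T₂]
    (hφ : Function.Injective (algebraMap A K))
    (Ψ : T₂ →ₐ[A] K) (hΨ : Function.Injective Ψ) (halg : ∀ y : T₂, IsAlgebraic A (Ψ y)) :
    Algebra.trdeg k T₂ = Algebra.trdeg k A := by
  haveI : NoZeroDivisors T₂ := hΨ.noZeroDivisors Ψ (map_zero _) (map_mul _)
  have hAT : Function.Injective (algebraMap A T₂) := by
    have h1 : (Ψ : T₂ → K) ∘ algebraMap A T₂ = algebraMap A K := by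
      ext x; exact Ψ.commutes x
    exact Function.Injective.of_comp (h1 ▸ hφ)
  haveI : FaithfulSMul A T₂ := (faithfulSMul_iff_algebraMap_injective A T₂).mpr hAT
  haveI : FaithfulSMul k A :=
    (faithfulSMul_iff_algebraMap_injective k A).mpr (algebraMap k A).injective
  haveI : Algebra.IsAlgebraic A T₂ := ⟨fun y => (isAlgebraic_algHom_iff Ψ hΨ).mp (halg y)⟩
  have h1 := trdeg_add_eq k A (A := T₂)
  rw [trdeg_eq_zero (R := A) (A := T₂), add_zero] at h1
  exact h1.symm

theorem step_core {k A K T₁ : Type u} [Field k] [CommRing A] [IsDomain A] [Field K]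
    [Algebra k A] [Algebra k K] [Algebra A K] [IsScalarTower k A K]
    [CommRing T₁] [Algebra A T₁] [Algebra k T₁] [IsScalarTower k A T₁]
    [Algebra T₁ K] [IsScalarTower A T₁ K] [IsScalarTower k T₁ K]
    (hφ : Function.Injective (algebraMap A K))
    (a : A) (ha0 : a ≠ 0) [IsLocalization.Away a T₁]
    (e : K) (he : IsAlgebraic A e) (p₂ : T₁[X]) (hp₂e : aeval e p₂ = 0)
    (hker : ∀ q : T₁[X], aeval e q = 0 → p₂ ∣ q)
    {ι σ : Type u} (P₀ : Algebra.Presentation k A ι σ) :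
    ∃ (T : Type u) (_ : CommRing T) (_ : Algebra k T) (Ψ : T →ₐ[k] K),
      Function.Injective Ψ ∧ (∀ x : A, algebraMap A K x ∈ Ψ.range) ∧ e ∈ Ψ.range ∧
      Nonempty (Algebra.Presentation k T (Unit ⊕ (Unit ⊕ ι)) (Unit ⊕ (Unit ⊕ σ))) ∧
      Algebra.trdeg k T = Algebra.trdeg k A := by
  classical
  let ε : MvPolynomial Unit T₁ ≃ₐ[T₁] T₁[X] := MvPolynomial.uniqueAlgEquiv T₁ Unit
  have hεX : ε (MvPolynomial.X ()) = Polynomial.X := by
    simp [ε]
  obtain ⟨v, hv⟩ : ∃ v : Unit → MvPolynomial Unit T₁, v = fun _ => ε.symm p₂ := ⟨_, rfl⟩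
  let Ψ₁ : MvPolynomial Unit T₁ →ₐ[T₁] K := (Polynomial.aeval e).comp ε.toAlgHom
  have hΨ₁ : ∀ x, Ψ₁ x = aeval e (ε x) := fun x => rfl
  have hI : ∀ x, x ∈ Ideal.span (Set.range v) ↔ Ψ₁ x = 0 := by
    intro x
    have hrange : Set.range v = {ε.symm p₂} := by rw [hv]; exact Set.range_const
    rw [hrange, Ideal.mem_span_singleton', hΨ₁]
    constructor
    · rintro ⟨y, rfl⟩
      rw [map_mul, AlgEquiv.apply_symm_apply, map_mul, hp₂e, mul_zero]
    · intro h
      obtain ⟨w, hw⟩ := hker _ h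
      refine ⟨ε.symm w, ?_⟩
      apply ε.injective
      rw [map_mul, AlgEquiv.apply_symm_apply, AlgEquiv.apply_symm_apply, hw, mul_comm]
  let Ψ₂ : (MvPolynomial Unit T₁ ⧸ Ideal.span (Set.range v)) →ₐ[T₁] K :=
    Ideal.Quotient.liftₐ _ Ψ₁ (fun x hx => (hI x).mp hx)
  have hΨ₂mk : ∀ x, Ψ₂ (Ideal.Quotient.mk _ x) = Ψ₁ x := fun x => rfl
  have hΨ₂inj : Function.Injective Ψ₂ := by
    rw [injective_iff_map_eq_zero]
    intro y hy
    obtain ⟨x, rfl⟩ := Ideal.Quotient.mk_surjective y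
    rw [hΨ₂mk] at hy
    exact Ideal.Quotient.eq_zero_iff_mem.mpr ((hI x).mpr hy)
  have hψalg : ∀ t : T₁, IsAlgebraic A (algebraMap T₁ K t) := by
    intro t
    obtain ⟨⟨x, s⟩, hxs⟩ := IsLocalization.surj (Submonoid.powers a) t
    have hs0 : algebraMap A K (s : A) ≠ 0 := by
      refine (map_ne_zero_iff _ hφ).mpr ?_
      obtain ⟨n, hn⟩ := s.2
      rw [← hn]; exact pow_ne_zero n ha0
    have h1 : algebraMap T₁ K t = algebraMap A K x * (algebraMap A K (s : A))⁻¹ := by
      rw [eq_mul_inv_iff_mul_eq₀ hs0, IsScalarTower.algebraMap_apply A T₁ K,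
        IsScalarTower.algebraMap_apply A T₁ K, ← map_mul]
      exact congrArg _ hxs
    rw [h1]
    exact (isAlgebraic_algebraMap x).mul (IsAlgebraic.inv_iff.mpr (isAlgebraic_algebraMap _))
  have halg : ∀ y, IsAlgebraic A (Ψ₂ y) := by
    intro y
    obtain ⟨x, rfl⟩ := Ideal.Quotient.mk_surjective y
    rw [hΨ₂mk]
    induction x using MvPolynomial.induction_on with
    | C t =>
      have h1 : Ψ₁ (MvPolynomial.C t) = algebraMap T₁ K t := Ψ₁.commutes t
      rw [h1]; exact hψalg t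
    | add p q hp hq => rw [map_add]; exact hp.add hq
    | mul_X p i hp =>
      rw [map_mul]
      refine hp.mul ?_
      have h1 : Ψ₁ (MvPolynomial.X i) = e := by rw [hΨ₁, hεX, Polynomial.aeval_X]
      rw [h1]; exact he
  refine ⟨MvPolynomial Unit T₁ ⧸ Ideal.span (Set.range v), inferInstance, inferInstance,
    Ψ₂.restrictScalars k, hΨ₂inj, ?_, ?_, ?_, ?_⟩
  · intro x
    refine ⟨algebraMap A _ x, ?_⟩
    show Ψ₂ (algebraMap A _ x) = algebraMap A K x
    rw [IsScalarTower.algebraMap_apply A T₁ (MvPolynomial Unit T₁ ⧸ Ideal.span (Set.range v)),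
      Ψ₂.commutes, ← IsScalarTower.algebraMap_apply A T₁ K]
  · refine ⟨Ideal.Quotient.mk _ (MvPolynomial.X ()), ?_⟩
    show Ψ₂ (Ideal.Quotient.mk _ (MvPolynomial.X ())) = e
    rw [hΨ₂mk, hΨ₁, hεX, Polynomial.aeval_X]
  · exact ⟨(Algebra.Presentation.naive (v := v)).comp
      ((Algebra.Presentation.localizationAway T₁ a).comp P₀)⟩
  · exact trdeg_eq_of_algebraic_embedding hφ (Ψ₂.restrictScalars A) hΨ₂inj halg

end Groth.Agent.Lib.Helper27.GCI
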