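import Groth.Agent.Lib.Helper27.GCI1

/-!
# Global complete intersection subalgebras of field extensions (part 2)

Every finite subset of a field extension `K/k` lies in a subalgebra with a presentation with
`n` generators, `c ≤ n` relations and transcendence degree `n - c`.
-/

set_option autoImplicit false

namespace Groth.Agent.Lib.Helper27.GCI

open Polynomial

universe u

theorem step_abstract {k A K : Type u} [Field k] [CommRing A] [IsDomain A] [Field K]
    [Algebra k A] [Algebra k K] [Algebra A K] [IsScalarTower k A K]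
    (hφ : Function.Injective (algebraMap A K))
    (e : K) (he : IsAlgebraic A e)
    {ι σ : Type u} (P₀ : Algebra.Presentation k A ι σ) :
    ∃ (T : Type u) (_ : CommRing T) (_ : Algebra k T) (Ψ : T →ₐ[k] K),
      Function.Injective Ψ ∧ (∀ x : A, algebraMap A K x ∈ Ψ.range) ∧ e ∈ Ψ.range ∧
      Nonempty (Algebra.Presentation k T (Unit ⊕ (Unit ⊕ ι)) (Unit ⊕ (Unit ⊕ σ))) ∧
      Algebra.trdeg k T = Algebra.trdeg k A := by
  obtain ⟨p, hp0, hpe, hmin⟩ := exists_min_poly e he
  obtain ⟨a, ha⟩ : ∃ a : A, a = p.leadingCoeff := ⟨_, rfl⟩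
  have ha0 : a ≠ 0 := ha ▸ Polynomial.leadingCoeff_ne_zero.mpr hp0
  have hφa : IsUnit (algebraMap A K a) :=
    isUnit_iff_ne_zero.mpr ((map_ne_zero_iff _ hφ).mpr ha0)
  have hle : Submonoid.powers a ≤ nonZeroDivisors A :=
    powers_le_nonZeroDivisors_of_noZeroDivisors ha0
  letI : Algebra (Localization.Away a) K := (IsLocalization.Away.lift a hφa).toAlgebra
  haveI : IsScalarTower A (Localization.Away a) K :=
    IsScalarTower.of_algebraMap_eq (fun x => (IsLocalization.Away.lift_eq a hφa x).symm)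
  haveI : IsScalarTower k (Localization.Away a) K :=
    IsScalarTower.of_algebraMap_eq (fun x => by
      rw [IsScalarTower.algebraMap_apply k A (Localization.Away a),
        ← IsScalarTower.algebraMap_apply A (Localization.Away a) K,
        ← IsScalarTower.algebraMap_apply k A K])
  haveI : IsDomain (Localization.Away a) := IsLocalization.isDomain_of_le_nonZeroDivisors _ hle
  have hinj : Function.Injective (algebraMap A (Localization.Away a)) :=
    IsLocalization.injective _ hle
  obtain ⟨u, hu⟩ := IsLocalization.Away.algebraMap_isUnit (S := Localization.Away a) a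
  obtain ⟨p₂, hp₂⟩ : ∃ p₂ : (Localization.Away a)[X],
      p₂ = C ((↑u⁻¹ : Localization.Away a)) * p.map (algebraMap A (Localization.Away a)) :=
    ⟨_, rfl⟩
  have hmon : p₂.Monic := by
    rw [hp₂]
    apply Polynomial.monic_C_mul_of_mul_leadingCoeff_eq_one
    rw [Polynomial.leadingCoeff_map_of_injective hinj, ← ha, ← hu, Units.inv_mul]
  have hdeg : p₂.natDegree = p.natDegree := by
    rw [hp₂, Polynomial.natDegree_C_mul (Units.ne_zero _),
      Polynomial.natDegree_map_eq_of_injective hinj]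
  have hp₂e : aeval e p₂ = 0 := by
    rw [hp₂, map_mul, Polynomial.aeval_map_algebraMap (Localization.Away a) e p, hpe, mul_zero]
  exact step_core hφ a ha0 e he p₂ hp₂e
    (fun q hq => dvd_of_aeval_eq_zero a ha0 p e hmin p₂ hmon hdeg hp₂e q hq) P₀

theorem step {k K : Type u} [Field k] [Field K] [Algebra k K] (A : Subalgebra k K)
    {ι σ : Type u} (P₀ : Algebra.Presentation k A ι σ) (e : K) (he : IsAlgebraic A e) :
    ∃ A' : Subalgebra k K, A ≤ A' ∧ e ∈ A' ∧
      Nonempty (Algebra.Presentation k A' (Unit ⊕ (Unit ⊕ ι)) (Unit ⊕ (Unit ⊕ σ))) ∧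
      Algebra.trdeg k A' = Algebra.trdeg k A := by
  obtain ⟨T, _, _, Ψ, hΨ, hA, he', ⟨P⟩, htr⟩ :=
    step_abstract (k := k) (A := A) (K := K) Subtype.val_injective e he P₀
  refine ⟨Ψ.range, ?_, he', ?_, ?_⟩
  · intro x hx
    exact hA ⟨x, hx⟩
  · exact ⟨P.ofAlgEquiv (AlgEquiv.ofInjective Ψ hΨ)⟩
  · rw [← htr]
    exact (AlgEquiv.ofInjective Ψ hΨ).trdeg_eq.symm

/-- A subalgebra with a presentation by `n` generators and `c ≤ n` relations, of transcendence
degree `n - c`. -/
def Good {k K : Type u} [Field k] [Field K] [Algebra k K] (A : Subalgebra k K) : Prop :=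
  ∃ (ι σ : Type u) (_ : Fintype ι) (_ : Fintype σ), Nonempty (Algebra.Presentation k A ι σ) ∧
    Fintype.card σ ≤ Fintype.card ι ∧
    Algebra.trdeg k A = ((Fintype.card ι - Fintype.card σ : ℕ) : Cardinal.{u})

theorem good_base {k K : Type u} [Field k] [Field K] [Algebra k K] (s : Set K) [Fintype s]
    (hs : AlgebraicIndependent k (Subtype.val : s → K)) :
    Good (Algebra.adjoin k (Set.range (Subtype.val : s → K))) := by
  classical
  let v : PEmpty.{u+1} → MvPolynomial s k := PEmpty.elim
  have hspan : Ideal.span (Set.range v) = ⊥ := by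
    rw [Set.range_eq_empty, Ideal.span_empty]
  let e : (MvPolynomial s k ⧸ Ideal.span (Set.range v)) ≃ₐ[k]
      Algebra.adjoin k (Set.range (Subtype.val : s → K)) :=
    (Ideal.quotientEquivAlgOfEq k hspan).trans
      ((AlgEquiv.quotientBot k (MvPolynomial s k)).trans hs.aevalEquiv)
  refine ⟨s, PEmpty.{u+1}, inferInstance, inferInstance,
    ⟨(Algebra.Presentation.naive (v := v)).ofAlgEquiv e⟩, ?_, ?_⟩
  · simp
  · rw [← hs.aevalEquiv.trdeg_eq, MvPolynomial.trdeg_of_isDomain, Cardinal.lift_id,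
      Cardinal.mk_fintype]
    simp

theorem extend {k K : Type u} [Field k] [Field K] [Algebra k K] (A : Subalgebra k K)
    (hA : Good A) (E : Finset K) (hE : ∀ e ∈ E, IsAlgebraic A e) :
    ∃ A' : Subalgebra k K, A ≤ A' ∧ (↑E : Set K) ⊆ (A' : Set K) ∧ Good A' := by
  classical
  induction E using Finset.induction_on with
  | empty => exact ⟨A, le_rfl, by simp, hA⟩
  | insert e E he ih =>
    obtain ⟨A₁, hA₁, hE₁, ι, σ, _, _, ⟨P⟩, hle, htr⟩ :=
      ih (fun x hx => hE x (Finset.mem_insert_of_mem hx))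
    have he₁ : IsAlgebraic A₁ e :=
      (hE e (Finset.mem_insert_self e E)).tower_top_of_subalgebra_le hA₁
    obtain ⟨A₂, hA₂, heA₂, ⟨P₂⟩, htr₂⟩ := step A₁ P e he₁
    refine ⟨A₂, hA₁.trans hA₂, ?_, Unit ⊕ (Unit ⊕ ι), Unit ⊕ (Unit ⊕ σ), inferInstance,
      inferInstance, ⟨P₂⟩, ?_, ?_⟩
    · intro x hx
      rw [Finset.coe_insert] at hx
      rcases hx with rfl | hx
      · exact heA₂
      · exact hA₂ (hE₁ hx)
    · simp only [Fintype.card_sum, Fintype.card_unit]
      omega
    · rw [htr₂, htr]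
      congr 1
      simp only [Fintype.card_sum, Fintype.card_unit]
      omega

theorem exists_good (k K : Type u) [Field k] [Field K] [Algebra k K] (E : Finset K) :
    ∃ A : Subalgebra k K, (↑E : Set K) ⊆ (A : Set K) ∧ Good A := by
  classical
  have hempty : AlgebraicIndepOn k id (∅ : Set K) :=
    (algebraicIndependent_empty_iff k K).mpr (algebraMap k K).injective
  obtain ⟨s, -, hs⟩ := exists_maximal_algebraicIndependent (R := k) (∅ : Set K) (↑E : Set K)
    (Set.empty_subset _) hempty
  have hsE : s ⊆ ↑E := hs.prop.2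
  have hsind : AlgebraicIndependent k (Subtype.val : s → K) := hs.prop.1
  haveI : Fintype s := (E.finite_toSet.subset hsE).fintype
  have hrange : Set.range (Subtype.val : s → K) = id '' s := by
    rw [Subtype.range_coe, Set.image_id]
  obtain ⟨A₀, hA₀⟩ : ∃ A₀ : Subalgebra k K,
      A₀ = Algebra.adjoin k (Set.range (Subtype.val : s → K)) := ⟨_, rfl⟩
  have hgood : Good A₀ := hA₀ ▸ good_base s hsind
  have hmem : ∀ x ∈ s, x ∈ A₀ := fun x hx => hA₀ ▸ Algebra.subset_adjoin ⟨⟨x, hx⟩, rfl⟩
  have halg : ∀ e ∈ E, IsAlgebraic A₀ e := by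
    intro e he
    by_contra hna
    have htr : Transcendental (Algebra.adjoin k (id '' s)) (id e) := by
      rw [← hrange, ← hA₀]
      exact hna
    have h1 : AlgebraicIndepOn k id (insert e s) := hs.prop.1.insert htr
    have h2 : e ∈ s :=
      hs.mem_of_prop_insert ⟨h1, Set.insert_subset (Finset.mem_coe.mpr he) hsE⟩
    exact hna (isAlgebraic_algebraMap (⟨e, hmem e h2⟩ : A₀))
  obtain ⟨A, -, hEA, hgA⟩ := extend A₀ hgood E halg
  exact ⟨A, hEA, hgA⟩

end Groth.Agent.Lib.Helper27.GCI
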