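import Mathlib
import Groth.Agent.S2035
import Groth.Agent.Lib.Helper21.SepSmoothE

/-!
# Regularity of generic-fibre localizations of `B ⊗[A] E` in characteristic zero (helper27)

`A ⊆ B` domains of characteristic zero with fraction fields `K ⊆ L`, `E` an `A`-algebra all of whose
local rings are regular.  If `R'` is the localization of `B ⊗[A] E` at a prime `Q` with `Q ∩ B = 0`,
then `R'` is a regular local ring.  The proof lifts maps by hand: `E_r` is adically formally smooth
over `K` (regular, characteristic zero), `L` is formally smooth over `K`, and `R'` is a localization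
of `B ⊗[A] E`.
-/

set_option autoImplicit false
set_option linter.style.haveILetI false
universe u
open TensorProduct IsLocalRing

namespace Groth.Agent.Lib.Helper27.GenFibA

variable {A B E : Type u} (K L : Type u) [CommRing A] [IsDomain A] [CommRing B] [IsDomain B]
  [Algebra A B] [CommRing E] [Algebra A E]
  [Field K] [Field L] [Algebra A K] [IsFractionRing A K] [Algebra B L] [IsFractionRing B L]
  [Algebra K L] [Algebra A L] [IsScalarTower A K L] [IsScalarTower A B L] [CharZero K]
  {R' : Type u} [CommRing R'] [IsLocalRing R'] [IsNoetherianRing R'] [Algebra (B ⊗[A] E) R']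

set_option maxHeartbeats 1600000 in
include K L in
theorem isRegularLocalRing_of_isLocalization
    (hinj : Function.Injective (algebraMap A B))
    (hreg : ∀ (r : Ideal E) [r.IsPrime], IsRegularLocalRing (Localization.AtPrime r))
    (Q : Ideal (B ⊗[A] E)) [Q.IsPrime] [IsLocalization.AtPrime R' Q]
    (hQ : ∀ b : B, b ⊗ₜ[A] (1 : E) ∈ Q → b = 0) :
    IsRegularLocalRing R' := by
  classical
  let τ : (B ⊗[A] E) →+* R' := algebraMap (B ⊗[A] E) R'
  let iE : E →+* (B ⊗[A] E) := (Algebra.TensorProduct.includeRight : E →ₐ[A] B ⊗[A] E).toRingHom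
  have hiE : ∀ e : E, iE e = (1 : B) ⊗ₜ[A] e := fun e => rfl
  let r : Ideal E := Q.comap iE
  haveI hrp : r.IsPrime := Ideal.comap_isPrime iE Q
  haveI hregr : IsRegularLocalRing (Localization.AtPrime r) := hreg r
  -- units
  have hunitB : ∀ b : B, b ≠ 0 → IsUnit (τ (b ⊗ₜ[A] (1 : E))) := fun b hb =>
    IsLocalization.map_units R' (⟨b ⊗ₜ[A] (1 : E), fun h => hb (hQ b h)⟩ : Q.primeCompl)
  have hunitE : ∀ e : E, e ∉ r → IsUnit (τ ((1 : B) ⊗ₜ[A] e)) := fun e he =>
    IsLocalization.map_units R' (⟨(1 : B) ⊗ₜ[A] e, he⟩ : Q.primeCompl)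
  have hswap : ∀ a : A, (algebraMap A B a) ⊗ₜ[A] (1 : E) = (1 : B) ⊗ₜ[A] (algebraMap A E a) := by
    intro a
    rw [Algebra.algebraMap_eq_smul_one, Algebra.algebraMap_eq_smul_one, TensorProduct.smul_tmul]
  -- `L → R'`
  let gB : B →+* R' := τ.comp (Algebra.TensorProduct.includeLeftRingHom)
  have hgB : ∀ b : B, gB b = τ (b ⊗ₜ[A] (1 : E)) := fun b => rfl
  let ρL : L →+* R' := IsLocalization.lift (M := nonZeroDivisors B) (g := gB)
    (fun y => hunitB y (nonZeroDivisors.ne_zero y.2))
  have hρL : ∀ b : B, ρL (algebraMap B L b) = τ (b ⊗ₜ[A] (1 : E)) := fun b =>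
    IsLocalization.lift_eq _ b
  letI algKR : Algebra K R' := (ρL.comp (algebraMap K L)).toAlgebra
  have halgKR : ∀ x : K, algebraMap K R' x = ρL (algebraMap K L x) := fun x => rfl
  -- `E_r → R'`
  let σ : Localization.AtPrime r →+* R' := IsLocalization.lift (M := r.primeCompl) (g := τ.comp iE)
    (fun y => hunitE y y.2)
  have hσ : ∀ e : E, σ (algebraMap E (Localization.AtPrime r) e) = τ ((1 : B) ⊗ₜ[A] e) := fun e =>
    IsLocalization.lift_eq _ e
  -- `K → E_r`
  have hAr : ∀ a : A, a ≠ 0 → algebraMap A E a ∉ r := by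
    intro a ha hmem
    have h1 : (1 : B) ⊗ₜ[A] (algebraMap A E a) ∈ Q := hmem
    rw [← hswap] at h1
    exact ha ((injective_iff_map_eq_zero (algebraMap A B)).1 hinj a (hQ _ h1))
  let gK : K →+* Localization.AtPrime r := IsLocalization.lift (M := nonZeroDivisors A)
    (g := (algebraMap E (Localization.AtPrime r)).comp (algebraMap A E))
    (fun y => IsLocalization.map_units (Localization.AtPrime r)
      (⟨algebraMap A E y, hAr y (nonZeroDivisors.ne_zero y.2)⟩ : r.primeCompl))
  have hgK : ∀ a : A, gK (algebraMap A K a) =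
      algebraMap E (Localization.AtPrime r) (algebraMap A E a) := fun a =>
    IsLocalization.lift_eq _ a
  letI algKEr : Algebra K (Localization.AtPrime r) := gK.toAlgebra
  have halgKEr : ∀ x : K, algebraMap K (Localization.AtPrime r) x = gK x := fun x => rfl
  -- compatibility
  have hcompat : σ.comp gK = ρL.comp (algebraMap K L) := by
    apply IsLocalization.ringHom_ext (nonZeroDivisors A)
    refine RingHom.ext fun a => ?_
    rw [RingHom.comp_apply, RingHom.comp_apply, RingHom.comp_apply, RingHom.comp_apply, hgK, hσ,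
      ← IsScalarTower.algebraMap_apply A K L, IsScalarTower.algebraMap_apply A B L, hρL, hswap]
  have hσK : ∀ x : K, σ (algebraMap K (Localization.AtPrime r) x) = algebraMap K R' x := fun x =>
    RingHom.congr_fun hcompat x
  -- `σ` maps the maximal ideal into the maximal ideal
  have hσm : (maximalIdeal (Localization.AtPrime r)).map σ ≤ maximalIdeal R' := by
    rw [← Localization.AtPrime.map_eq_maximalIdeal, Ideal.map_map, Ideal.map_le_iff_le_comap]
    intro e he
    rw [Ideal.mem_comap, RingHom.comp_apply, hσ]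
    exact (IsLocalization.AtPrime.to_map_mem_maximal_iff R' Q _).2 he
  -- formal smoothness of `E_r` over `K`
  have hEr : CAlgX.IsAdicFormallySmooth K (Localization.AtPrime r)
      (maximalIdeal (Localization.AtPrime r)) :=
    (Groth.Agent.S2035.result (k := K) (A := Localization.AtPrime r)).mp hregr
  haveI hKL : Algebra.FormallySmooth K L :=
    Groth.Agent.Lib.Helper21.SepSmooth.formallySmooth_iff_geomReduced.mpr
      Groth.Agent.Lib.Helper21.SepSmooth.isGeometricallyReduced_of_charZero
  refine (Groth.Agent.S2035.result (k := K) (A := R')).mpr ?_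
  intro C _ _ J hJ ψ hψ
  obtain ⟨N, hN⟩ := hψ
  -- lift on `E_r`
  let ψ₀ : Localization.AtPrime r →ₐ[K] C ⧸ J :=
    { toRingHom := ψ.toRingHom.comp σ
      commutes' := fun x => by
        show ψ (σ (algebraMap K (Localization.AtPrime r) x)) = algebraMap K (C ⧸ J) x
        rw [hσK x]
        exact ψ.commutes x }
  have hψ₀ : ∀ y, ψ₀ y = ψ (σ y) := fun y => rfl
  obtain ⟨χ₀, hχ₀⟩ := hEr C J hJ ψ₀ ⟨N, fun y hy => by
    rw [hψ₀]
    apply hN
    have h1 : σ y ∈ ((maximalIdeal (Localization.AtPrime r)) ^ N).map σ :=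
      Ideal.mem_map_of_mem σ hy
    rw [Ideal.map_pow] at h1
    exact Ideal.pow_right_mono hσm N h1⟩
  have hχ₀' : ∀ y, Ideal.Quotient.mk J (χ₀ y) = ψ (σ y) := fun y => AlgHom.congr_fun hχ₀ y
  -- lift on `L`
  let ψL : L →ₐ[K] C ⧸ J :=
    { toRingHom := ψ.toRingHom.comp ρL
      commutes' := fun x => by
        show ψ (ρL (algebraMap K L x)) = algebraMap K (C ⧸ J) x
        rw [← halgKR x]
        exact ψ.commutes x }
  obtain ⟨lam, hlam⟩ := Algebra.FormallySmooth.comp_surjective K L J hJ ψL
  have hlam' : ∀ y, Ideal.Quotient.mk J (lam y) = ψ (ρL y) := fun y => AlgHom.congr_fun hlam y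
  -- the map on the tensor product
  letI algAC : Algebra A C := ((algebraMap K C).comp (algebraMap A K)).toAlgebra
  have halgAC : ∀ a : A, algebraMap A C a = algebraMap K C (algebraMap A K a) := fun a => rfl
  let fB : B →ₐ[A] C :=
    { toRingHom := lam.toRingHom.comp (algebraMap B L)
      commutes' := fun a => by
        show lam (algebraMap B L (algebraMap A B a)) = algebraMap A C a
        rw [← IsScalarTower.algebraMap_apply A B L, IsScalarTower.algebraMap_apply A K L,
          lam.commutes, halgAC] }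
  have hfB : ∀ b : B, fB b = lam (algebraMap B L b) := fun b => rfl
  let fE : E →ₐ[A] C :=
    { toRingHom := χ₀.toRingHom.comp (algebraMap E (Localization.AtPrime r))
      commutes' := fun a => by
        show χ₀ (algebraMap E (Localization.AtPrime r) (algebraMap A E a)) = algebraMap A C a
        rw [← hgK, ← halgKEr, χ₀.commutes, halgAC] }
  have hfE : ∀ e : E, fE e = χ₀ (algebraMap E (Localization.AtPrime r) e) := fun e => rfl
  let χ₁ : B ⊗[A] E →ₐ[A] C := Algebra.TensorProduct.lift fB fE (fun _ _ => Commute.all _ _)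
  have hχ₁ : ∀ (b : B) (e : E), χ₁ (b ⊗ₜ[A] e) = fB b * fE e := fun b e =>
    Algebra.TensorProduct.lift_tmul _ _ _ b e
  have key : ∀ t : B ⊗[A] E, Ideal.Quotient.mk J (χ₁ t) = ψ (τ t) := by
    intro t
    induction t using TensorProduct.induction_on with
    | zero => simp
    | tmul b e =>
      rw [hχ₁, map_mul, hfB, hfE, hlam', hχ₀', hρL, hσ, ← map_mul, ← map_mul,
        Algebra.TensorProduct.tmul_mul_tmul, mul_one, one_mul]
    | add x y hx hy => rw [map_add, map_add, map_add, map_add, hx, hy]
  have hunits : ∀ y : Q.primeCompl, IsUnit (χ₁.toRingHom (y : B ⊗[A] E)) := by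
    intro y
    have h1 : IsUnit (Ideal.Quotient.mk J (χ₁ (y : B ⊗[A] E))) := by
      rw [key]
      exact (IsLocalization.map_units R' y).map ψ
    exact (IsNilpotent.isUnit_quotient_mk_iff ⟨2, hJ⟩).mp h1
  let χ : R' →+* C := IsLocalization.lift (M := Q.primeCompl) (g := χ₁.toRingHom) hunits
  have hχ : ∀ t : B ⊗[A] E, χ (τ t) = χ₁ t := fun t => IsLocalization.lift_eq _ t
  have hχK : χ.comp (algebraMap K R') = algebraMap K C := by
    apply IsLocalization.ringHom_ext (nonZeroDivisors A)
    refine RingHom.ext fun a => ?_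
    rw [RingHom.comp_apply, RingHom.comp_apply, RingHom.comp_apply, halgKR,
      ← IsScalarTower.algebraMap_apply A K L, IsScalarTower.algebraMap_apply A B L, hρL, hχ, hχ₁,
      map_one, mul_one, fB.commutes, halgAC]
  refine ⟨{ toRingHom := χ, commutes' := fun x => RingHom.congr_fun hχK x }, ?_⟩
  apply AlgHom.coe_ringHom_injective
  apply IsLocalization.ringHom_ext Q.primeCompl
  refine RingHom.ext fun t => ?_
  show Ideal.Quotient.mk J (χ (τ t)) = ψ (τ t)
  rw [hχ, key]

end Groth.Agent.Lib.Helper27.GenFibA
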