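import Mathlib
import Groth.Agent.S0542
import Groth.Agent.Lib.Helper27.SemiLocCpl
import Groth.Agent.Lib.Helper27.SemiLocTensor

/-!
# The completion of a localization of a finite algebra (helper27)

`A` Noetherian, `B` a finite `A`-algebra, `n` a prime of `B` over `p₀`, `A₁ = A_{p₀}`, `Ah` the
completion of `A₁`, `T = B ⊗[A] Ah`.  We construct the maximal ideal `M` of `T` over `n` and record the
basic properties of `T` and `T_M`.
-/

set_option autoImplicit false
set_option linter.style.haveILetI false
universe u
attribute [local instance] Algebra.TensorProduct.rightAlgebra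
open TensorProduct IsLocalRing

namespace Groth.Agent.Lib.Helper27.GenFibB

open Groth.Agent.Lib.Helper27.SemiLocTensor Groth.Agent.Lib.Helper27.CplTensorD

variable (A B : Type u) [CommRing A] [IsNoetherianRing A] [CommRing B] [Algebra A B]
  [Module.Finite A B] (n : Ideal B) [n.IsPrime]

/-- the prime of `A` under `n`. -/
abbrev p0 : Ideal A := n.comap (algebraMap A B)
/-- `A_{p₀}`. -/
abbrev A1 : Type u := Localization.AtPrime (p0 A B n)

instance : IsNoetherianRing (A1 A B n) :=
  IsLocalization.isNoetherianRing (p0 A B n).primeCompl _ inferInstance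

/-- the completion of `A_{p₀}`. -/
abbrev Ah : Type u := AdicCompletion (maximalIdeal (A1 A B n)) (A1 A B n)

instance : IsNoetherianRing (Ah A B n) :=
  Groth.Agent.S0542.result (A1 A B n) (maximalIdeal (A1 A B n)) (IsNoetherian.noetherian _)

instance : IsScalarTower A (A1 A B n) (Ah A B n) := IsScalarTower.of_algebraMap_eq (fun _ => rfl)

/-- `B ⊗[A] Ah`. -/
abbrev T : Type u := B ⊗[A] Ah A B n

instance : Module.Finite (Ah A B n) (T A B n) := finite_right' A B (Ah A B n)

instance : IsNoetherianRing (T A B n) := IsNoetherianRing.of_finite (Ah A B n) (T A B n)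

/-- the ideal of `T` generated by the maximal ideal of `Ah`. -/
noncomputable abbrev KT : Ideal (T A B n) := (maximalIdeal (Ah A B n)).map (algebraMap (Ah A B n) (T A B n))

instance isAdicComplete_KT : IsAdicComplete (KT A B n) (T A B n) :=
  (IsAdicComplete.map_algebraMap_iff _ _).mpr (isAdicComplete_of_finite' _ _)


lemma isMaximal_of_le (p : Ideal (T A B n)) [hp : p.IsPrime] (hle : KT A B n ≤ p) :
    p.IsMaximal := by
  haveI : Algebra.IsIntegral (Ah A B n) (T A B n) := Algebra.IsIntegral.of_finite _ _
  apply Ideal.isMaximal_of_isIntegral_of_isMaximal_comap (R := Ah A B n) p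
  have h1 : maximalIdeal (Ah A B n) ≤ p.comap (algebraMap (Ah A B n) (T A B n)) :=
    Ideal.map_le_iff_le_comap.1 hle
  have h2 : p.comap (algebraMap (Ah A B n) (T A B n)) ≠ ⊤ := (Ideal.comap_isPrime _ p).ne_top
  rw [← (maximalIdeal.isMaximal (Ah A B n)).eq_of_le h2 h1]
  exact maximalIdeal.isMaximal _

instance isArtinianRing_quot : IsArtinianRing (T A B n ⧸ KT A B n) := by
  apply isArtinianRing_quotient_of_forall_isMaximal
  intro p hp hle
  haveI := hp
  exact isMaximal_of_le A B n p hle

/-- `A_{p₀} → B_n`. -/
noncomputable def phi1 : A1 A B n →+* Localization.AtPrime n :=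
  Localization.localRingHom (p0 A B n) n (algebraMap A B) rfl

instance : IsLocalHom (phi1 A B n) := Localization.isLocalHom_localRingHom _ _ _ _

lemma phi1_algebraMap (a : A) : phi1 A B n (algebraMap A (A1 A B n) a) =
    algebraMap B (Localization.AtPrime n) (algebraMap A B a) :=
  Localization.localRingHom_to_map _ _ _ _ a

/-- the residue field of `B_n`. -/
abbrev kap : Type u := ResidueField (Localization.AtPrime n)

/-- `Ah → κ(n)`. -/
noncomputable def gAh : Ah A B n →ₐ[A] kap B n :=
  { toRingHom := (ResidueField.map (phi1 A B n)).comp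
      ((AdicCompletion.evalOneₐ (maximalIdeal (A1 A B n))).toRingHom)
    commutes' := fun a => by
      show ResidueField.map (phi1 A B n) (AdicCompletion.evalOneₐ (maximalIdeal (A1 A B n))
        (algebraMap (A1 A B n) (Ah A B n) (algebraMap A (A1 A B n) a))) = _
      rw [AlgHom.commutes]
      show ResidueField.map (phi1 A B n) (residue _ (algebraMap A (A1 A B n) a)) = _
      rw [ResidueField.map_residue, phi1_algebraMap]
      rfl }

lemma gAh_algebraMap (x : A1 A B n) :
    gAh A B n (algebraMap (A1 A B n) (Ah A B n) x) = residue _ (phi1 A B n x) := by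
  show ResidueField.map (phi1 A B n) (AdicCompletion.evalOneₐ (maximalIdeal (A1 A B n))
    (algebraMap (A1 A B n) (Ah A B n) x)) = _
  rw [AlgHom.commutes]
  show ResidueField.map (phi1 A B n) (residue _ x) = _
  rw [ResidueField.map_residue]

/-- `T → κ(n)`. -/
noncomputable def gT : T A B n →ₐ[A] kap B n :=
  Algebra.TensorProduct.lift (IsScalarTower.toAlgHom A B (kap B n)) (gAh A B n)
    (fun _ _ => Commute.all _ _)

lemma gT_tmul (b : B) (x : Ah A B n) :
    gT A B n (b ⊗ₜ[A] x) = algebraMap B (kap B n) b * gAh A B n x :=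
  Algebra.TensorProduct.lift_tmul _ _ _ b x

/-- the maximal ideal of `T` over `n`. -/
noncomputable def MM : Ideal (T A B n) := RingHom.ker (gT A B n).toRingHom

instance : (MM A B n).IsPrime := RingHom.ker_isPrime _

lemma mem_MM (t : T A B n) : t ∈ MM A B n ↔ gT A B n t = 0 := Iff.rfl

lemma tmul_one_mem_MM (b : B) : b ⊗ₜ[A] (1 : Ah A B n) ∈ MM A B n ↔ b ∈ n := by
  rw [mem_MM, gT_tmul, map_one, mul_one, IsScalarTower.algebraMap_apply B (Localization.AtPrime n)]
  show residue _ (algebraMap B (Localization.AtPrime n) b) = 0 ↔ _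
  rw [residue_eq_zero_iff]
  exact IsLocalization.AtPrime.to_map_mem_maximal_iff _ n b

lemma KT_le_MM : KT A B n ≤ MM A B n := by
  rw [Ideal.map_le_iff_le_comap, AdicCompletion.maximalIdeal_eq_map, Ideal.map_le_iff_le_comap]
  intro μ hμ
  rw [Ideal.mem_comap, Ideal.mem_comap, mem_MM, Algebra.TensorProduct.right_algebraMap_apply,
    gT_tmul, map_one, one_mul, gAh_algebraMap, residue_eq_zero_iff]
  exact map_nonunit (phi1 A B n) μ hμ

instance : (MM A B n).IsMaximal := isMaximal_of_le A B n _ (KT_le_MM A B n)

/-- `T_M`. -/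
abbrev TM : Type u := Localization.AtPrime (MM A B n)

instance : IsNoetherianRing (TM A B n) :=
  IsLocalization.isNoetherianRing (MM A B n).primeCompl _ inferInstance

theorem algebraMap_TM_surjective : Function.Surjective (algebraMap (T A B n) (TM A B n)) :=
  SemiLocCpl.algebraMap_localization_surjective (KT A B n) ⟨MM A B n, inferInstance⟩

instance isAdicComplete_TM : IsAdicComplete (R := Localization.AtPrime (MM A B n))
    (maximalIdeal (Localization.AtPrime (MM A B n))) (Localization.AtPrime (MM A B n)) :=
  SemiLocCpl.isAdicComplete_localization (KT A B n) ⟨MM A B n, inferInstance⟩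

end Groth.Agent.Lib.Helper27.GenFibB
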