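import Mathlib
import Groth.Agent.Lib.Helper27.GenFibB
import Groth.Agent.Lib.Helper18.DegJ

/-!
# The completion of `B_n` is `T_M` (helper27)

A flat local homomorphism `α : R → S` into a complete Noetherian local ring, with
`S = α(R) + 𝔪_R S`, identifies `S` with the completion of `R`; applied to `B_n → T_M`.
-/

set_option autoImplicit false
set_option linter.style.haveILetI false
universe u
attribute [local instance] Algebra.TensorProduct.rightAlgebra
open TensorProduct IsLocalRing

namespace Groth.Agent.Lib.Helper27.GenFibC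

open Groth.Agent.Lib.Helper27.GenFibB Groth.Agent.Lib.Helper27.CplTensorD
  Groth.Agent.Lib.Helper18.DR.Deg

/-- `S = α(R) + 𝔪_R S`. -/
def SurjMod {R S : Type u} [CommRing R] [IsLocalRing R] [CommRing S] (α : R →+* S) : Prop :=
  ∀ s : S, ∃ r : R, s - α r ∈ (maximalIdeal R).map α

theorem exists_ringEquiv_of_flat {R S : Type u} [CommRing R] [IsLocalRing R] [CommRing S]
    [IsLocalRing S] [IsNoetherianRing S] (α : R →+* S) [IsLocalHom α] (hflat : α.Flat)
    [IsAdicComplete (maximalIdeal S) S]
    (hsurj : SurjMod α) :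
    ∃ e : AdicCompletion (maximalIdeal R) R ≃+* S,
      ∀ r, e (algebraMap R (AdicCompletion (maximalIdeal R) R) r) = α r := by
  letI : Algebra R S := α.toAlgebra
  haveI : Module.Flat R S := hflat
  haveI : IsLocalHom (algebraMap R S) := ‹IsLocalHom α›
  haveI : Module.FaithfullyFlat R S := Module.FaithfullyFlat.of_flat_of_isLocalHom
  have hinj : ∀ k, (((maximalIdeal R).map α) ^ k).comap α ≤ (maximalIdeal R) ^ k := by
    intro k
    rw [← Ideal.map_pow]
    exact le_of_eq (Ideal.comap_map_eq_self_of_faithfullyFlat (B := S) ((maximalIdeal R) ^ k))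
  have hbij := compHom_bijective α (maximalIdeal R) hinj hsurj
  have hle : (maximalIdeal R).map α ≤ maximalIdeal S :=
    ((local_hom_TFAE α).out 0 2).mp ‹IsLocalHom α›
  haveI : IsAdicComplete ((maximalIdeal R).map α) S :=
    isAdicComplete_of_le (maximalIdeal S) _ hle
  refine ⟨(RingEquiv.ofBijective (compHom α (maximalIdeal R)) hbij).trans
    (AdicCompletion.ofAlgEquiv ((maximalIdeal R).map α)).symm.toRingEquiv, fun r => ?_⟩
  show (AdicCompletion.ofAlgEquiv ((maximalIdeal R).map α)).symm
    (compHom α (maximalIdeal R) (algebraMap R _ r)) = α r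
  rw [compHom_algebraMap]
  exact AdicCompletion.ofAlgEquiv_symm_of _ _

section Alpha

variable (A B : Type u) [CommRing A] [IsNoetherianRing A] [CommRing B] [Algebra A B]
  [Module.Finite A B] (n : Ideal B) [n.IsPrime]
  (Cc : Type u) [CommRing Cc] [Algebra B Cc] [IsLocalization.AtPrime Cc n] [IsLocalRing Cc]
  (S : Type u) [CommRing S] [Algebra (T A B n) S] [IsLocalization.AtPrime S (MM A B n)]
  [IsLocalRing S]

/-- `A_{p₀} → B_n`. -/
noncomputable def phi : A1 A B n →+* Cc :=
  IsLocalization.lift (M := (p0 A B n).primeCompl) (g := (algebraMap B Cc).comp (algebraMap A B))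
    (fun y => IsLocalization.map_units Cc (⟨algebraMap A B y, y.2⟩ : n.primeCompl))

lemma phi_algebraMap (a : A) : phi A B n Cc (algebraMap A (A1 A B n) a) =
    algebraMap B Cc (algebraMap A B a) :=
  IsLocalization.lift_eq _ a

lemma phi_mem (μ : A1 A B n) (hμ : μ ∈ maximalIdeal (A1 A B n)) :
    phi A B n Cc μ ∈ maximalIdeal Cc := by
  have h : (maximalIdeal (A1 A B n)).map (phi A B n Cc) ≤ maximalIdeal Cc := by
    rw [← Localization.AtPrime.map_eq_maximalIdeal, Ideal.map_map, Ideal.map_le_iff_le_comap]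
    intro a ha
    rw [Ideal.mem_comap, RingHom.comp_apply, phi_algebraMap]
    exact (IsLocalization.AtPrime.to_map_mem_maximal_iff Cc n _).2 ha
  exact h (Ideal.mem_map_of_mem _ hμ)

/-- `B_n → T_M`. -/
noncomputable def alpha : Cc →+* S :=
  IsLocalization.lift (M := n.primeCompl)
    (g := (algebraMap (T A B n) S).comp Algebra.TensorProduct.includeLeftRingHom)
    (fun y => IsLocalization.map_units S
      (⟨(y : B) ⊗ₜ[A] (1 : Ah A B n), fun h => y.2 ((tmul_one_mem_MM A B n _).1 h)⟩ :
        (MM A B n).primeCompl))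

lemma alpha_algebraMap (b : B) : alpha A B n Cc S (algebraMap B Cc b) =
    algebraMap (T A B n) S (b ⊗ₜ[A] (1 : Ah A B n)) :=
  IsLocalization.lift_eq _ b

lemma alpha_map_le : (maximalIdeal Cc).map (alpha A B n Cc S) ≤ maximalIdeal S := by
  rw [← IsLocalization.AtPrime.map_eq_maximalIdeal n Cc, Ideal.map_map,
    Ideal.map_le_iff_le_comap]
  intro b hb
  rw [Ideal.mem_comap, RingHom.comp_apply, alpha_algebraMap]
  exact (IsLocalization.AtPrime.to_map_mem_maximal_iff S (MM A B n) _).2
    ((tmul_one_mem_MM A B n b).2 hb)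

instance : IsLocalHom (alpha A B n Cc S) :=
  ((local_hom_TFAE (alpha A B n Cc S)).out 0 2).mpr (alpha_map_le A B n Cc S)

lemma swap_tmul (a : A) : (algebraMap A B a) ⊗ₜ[A] (1 : Ah A B n) =
    (1 : B) ⊗ₜ[A] (algebraMap A (Ah A B n) a) := by
  rw [Algebra.algebraMap_eq_smul_one, Algebra.algebraMap_eq_smul_one (A := Ah A B n),
    TensorProduct.smul_tmul]

lemma alpha_phi (x : A1 A B n) : alpha A B n Cc S (phi A B n Cc x) =
    algebraMap (T A B n) S ((1 : B) ⊗ₜ[A] algebraMap (A1 A B n) (Ah A B n) x) := by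
  have h : (alpha A B n Cc S).comp (phi A B n Cc) =
      ((algebraMap (T A B n) S).comp
        (algebraMap (Ah A B n) (T A B n))).comp (algebraMap (A1 A B n) (Ah A B n)) := by
    apply IsLocalization.ringHom_ext (p0 A B n).primeCompl
    refine RingHom.ext fun a => ?_
    simp only [RingHom.comp_apply]
    rw [phi_algebraMap, alpha_algebraMap, ← IsScalarTower.algebraMap_apply A (A1 A B n) (Ah A B n),
      Algebra.TensorProduct.right_algebraMap_apply, swap_tmul]
  exact RingHom.congr_fun h x

instance : Module.Flat A (A1 A B n) := IsLocalization.flat _ (p0 A B n).primeCompl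
instance : Module.Flat A (Ah A B n) := Module.Flat.trans A (A1 A B n) (Ah A B n)

theorem alpha_flat : (alpha A B n Cc S).Flat := by
  letI : Algebra Cc S := (alpha A B n Cc S).toAlgebra
  letI : Algebra B S := ((algebraMap (T A B n) S).comp (algebraMap B (T A B n))).toAlgebra
  have hst : @IsScalarTower B (T A B n) S Algebra.toSMul Algebra.toSMul Algebra.toSMul :=
    IsScalarTower.of_algebraMap_eq (fun _ => rfl)
  haveI : IsScalarTower B (T A B n) S := hst
  haveI : IsScalarTower B Cc S :=
    IsScalarTower.of_algebraMap_eq (fun b => by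
      show _ = alpha A B n Cc S (algebraMap B Cc b)
      rw [alpha_algebraMap]
      rfl)
  haveI : Module.Flat B (T A B n) := inferInstance
  haveI : Module.Flat (T A B n) S := IsLocalization.flat S (MM A B n).primeCompl
  haveI : Module.Flat B S := Module.Flat.trans B (T A B n) S
  exact (Module.flat_iff_of_isLocalization Cc n.primeCompl S).mpr inferInstance

theorem map_le : (maximalIdeal (Ah A B n)).map
    ((algebraMap (T A B n) S).comp (algebraMap (Ah A B n) (T A B n))) ≤
    (maximalIdeal Cc).map (alpha A B n Cc S) := by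
  rw [AdicCompletion.maximalIdeal_eq_map, Ideal.map_map, Ideal.map_le_iff_le_comap]
  intro μ hμ
  rw [Ideal.mem_comap, RingHom.comp_apply, RingHom.comp_apply,
    Algebra.TensorProduct.right_algebraMap_apply, ← alpha_phi A B n Cc S]
  exact Ideal.mem_map_of_mem _ (phi_mem A B n Cc μ hμ)

theorem alpha_surj (hτ : Function.Surjective (algebraMap (T A B n) S)) :
    SurjMod (alpha A B n Cc S) := by
  intro s
  obtain ⟨t, rfl⟩ := hτ s
  induction t using TensorProduct.induction_on with
  | zero => exact ⟨0, by simp⟩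
  | tmul b x =>
    obtain ⟨a₁, ha₁⟩ := Groth.Agent.Lib.Helper27.CplTensorC.exists_sub_mem_pow
      (maximalIdeal (A1 A B n)) (IsNoetherian.noetherian _) 1 x
    rw [pow_one, ← AdicCompletion.maximalIdeal_eq_map] at ha₁
    refine ⟨algebraMap B Cc b * phi A B n Cc a₁, ?_⟩
    have h1 : algebraMap (T A B n) S (b ⊗ₜ[A] x) -
        alpha A B n Cc S (algebraMap B Cc b * phi A B n Cc a₁) =
        algebraMap (T A B n) S (b ⊗ₜ[A] (1 : Ah A B n)) *
        ((algebraMap (T A B n) S).comp
          (algebraMap (Ah A B n) (T A B n))) (x - algebraMap (A1 A B n) (Ah A B n) a₁) := by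
      have hT : b ⊗ₜ[A] x = b ⊗ₜ[A] (1 : Ah A B n) *
          (1 : B) ⊗ₜ[A] (algebraMap (A1 A B n) (Ah A B n) a₁) +
          b ⊗ₜ[A] (1 : Ah A B n) *
          (1 : B) ⊗ₜ[A] (x - algebraMap (A1 A B n) (Ah A B n) a₁) := by
        rw [Algebra.TensorProduct.tmul_mul_tmul, Algebra.TensorProduct.tmul_mul_tmul, mul_one,
          one_mul, one_mul, ← TensorProduct.tmul_add, add_sub_cancel]
      rw [map_mul (alpha A B n Cc S), alpha_algebraMap, alpha_phi, RingHom.comp_apply,
        Algebra.TensorProduct.right_algebraMap_apply, hT, map_add, map_mul, map_mul,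
        add_sub_cancel_left]
    rw [h1]
    exact Ideal.mul_mem_left _ _ (map_le A B n Cc S (Ideal.mem_map_of_mem _ ha₁))
  | add x y hx hy =>
    obtain ⟨c, hc⟩ := hx
    obtain ⟨d, hd⟩ := hy
    refine ⟨c + d, ?_⟩
    have h1 : algebraMap (T A B n) S (x + y) - alpha A B n Cc S (c + d) =
        (algebraMap (T A B n) S x - alpha A B n Cc S c) +
        (algebraMap (T A B n) S y - alpha A B n Cc S d) := by
      rw [map_add, map_add]; ring
    rw [h1]
    exact Ideal.add_mem _ hc hd

/-- the completion of `B_n` is `T_M`. -/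
theorem exists_ringEquiv (hτ : Function.Surjective (algebraMap (T A B n) S)) [IsNoetherianRing S]
    [IsAdicComplete (maximalIdeal S) S] :
    ∃ e : AdicCompletion (maximalIdeal Cc) Cc ≃+* S,
      ∀ b : B, e (algebraMap Cc _ (algebraMap B Cc b)) =
        algebraMap (T A B n) S (b ⊗ₜ[A] (1 : Ah A B n)) := by
  obtain ⟨e, he⟩ := exists_ringEquiv_of_flat (alpha A B n Cc S) (alpha_flat A B n Cc S)
    (alpha_surj A B n Cc S hτ)
  exact ⟨e, fun b => by rw [he, alpha_algebraMap]⟩

end Alpha

end Groth.Agent.Lib.Helper27.GenFibC
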