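import Mathlib
import Groth.Agent.Lib.Helper27.GenFibA
import Groth.Agent.Lib.Helper27.GenFibC

/-!
# Regularity of the generic formal fibre of `B_n` in characteristic zero (helper27)
-/

set_option autoImplicit false
set_option linter.style.haveILetI false
universe u
attribute [local instance] Algebra.TensorProduct.rightAlgebra
open TensorProduct IsLocalRing

namespace Groth.Agent.Lib.Helper27.GenFibD

open Groth.Agent.Lib.Helper27.GenFibB Groth.Agent.Lib.Helper27.GenFibC

variable (A B : Type u) [CommRing A] [IsNoetherianRing A] [IsDomain A] [CharZero A]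
  [CommRing B] [IsDomain B] [Algebra A B]
  [Module.Finite A B] (n : Ideal B) [n.IsPrime]
  (Cc : Type u) [CommRing Cc] [Algebra B Cc] [IsLocalization.AtPrime Cc n] [IsLocalRing Cc]
  (S : Type u) [CommRing S] [Algebra (T A B n) S] [IsLocalization.AtPrime S (MM A B n)]
  [IsLocalRing S]

set_option maxHeartbeats 1000000 in
theorem isRegularLocalRing_localization
    (hinj : Function.Injective (algebraMap A B))
    (hreg : ∀ (r : Ideal (Ah A B n)) [r.IsPrime], IsRegularLocalRing (Localization.AtPrime r))
    (hτ : Function.Surjective (algebraMap (T A B n) S)) [IsNoetherianRing S]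
    [IsAdicComplete (maximalIdeal S) S]
    (q : Ideal (AdicCompletion (maximalIdeal Cc) Cc)) [q.IsPrime]
    (hq : q.comap (algebraMap Cc (AdicCompletion (maximalIdeal Cc) Cc)) = ⊥) :
    IsRegularLocalRing (Localization.AtPrime q) := by
  obtain ⟨e, he⟩ := exists_ringEquiv A B n Cc S hτ
  let q' : Ideal S := q.comap (e.symm : S →+* AdicCompletion (maximalIdeal Cc) Cc)
  haveI hq'p : q'.IsPrime := Ideal.comap_isPrime _ q
  let Q : Ideal (T A B n) := q'.comap (algebraMap (T A B n) S)
  haveI hQp : Q.IsPrime := Ideal.comap_isPrime _ q'
  haveI hloc : IsLocalization.AtPrime (Localization.AtPrime q') Q :=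
    IsLocalization.isLocalization_isLocalization_atPrime_isLocalization (MM A B n).primeCompl
      (Localization.AtPrime q') q'
  haveI : IsNoetherianRing (Localization.AtPrime q') :=
    IsLocalization.isNoetherianRing q'.primeCompl _ inferInstance
  have hinjC : Function.Injective (algebraMap B Cc) :=
    IsLocalization.injective Cc (M := n.primeCompl) (fun x hx => by
      rw [mem_nonZeroDivisors_iff_ne_zero]
      rintro rfl
      exact hx n.zero_mem)
  have hQ : ∀ b : B, b ⊗ₜ[A] (1 : Ah A B n) ∈ Q → b = 0 := by
    intro b hb
    have h1 : algebraMap (T A B n) S (b ⊗ₜ[A] (1 : Ah A B n)) ∈ q' := hb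
    rw [← he] at h1
    have h2 : e.symm (e (algebraMap Cc _ (algebraMap B Cc b))) ∈ q := h1
    rw [RingEquiv.symm_apply_apply] at h2
    have h3 : algebraMap B Cc b ∈ q.comap (algebraMap Cc (AdicCompletion (maximalIdeal Cc) Cc)) :=
      h2
    rw [hq, Ideal.mem_bot] at h3
    exact (injective_iff_map_eq_zero (algebraMap B Cc)).1 hinjC b h3
  haveI : FaithfulSMul A B := (faithfulSMul_iff_algebraMap_injective A B).mpr hinj
  haveI : FaithfulSMul A (FractionRing B) := by
    rw [faithfulSMul_iff_algebraMap_injective, IsScalarTower.algebraMap_eq A B (FractionRing B)]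
    exact (IsFractionRing.injective B (FractionRing B)).comp hinj
  letI : Algebra (FractionRing A) (FractionRing B) := FractionRing.liftAlgebra A (FractionRing B)
  haveI : IsScalarTower A (FractionRing A) (FractionRing B) :=
    FractionRing.isScalarTower_liftAlgebra A (FractionRing B)
  haveI : CharZero (FractionRing A) :=
    charZero_of_injective_algebraMap (IsFractionRing.injective A (FractionRing A))
  have hreg' : IsRegularLocalRing (Localization.AtPrime q') :=
    Groth.Agent.Lib.Helper27.GenFibA.isRegularLocalRing_of_isLocalization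
      (A := A) (B := B) (E := Ah A B n) (FractionRing A) (FractionRing B)
      (R' := Localization.AtPrime q') hinj hreg Q hQ
  have hmap : q.primeCompl.map (e : AdicCompletion (maximalIdeal Cc) Cc →+* S) =
      q'.primeCompl := by
    ext s
    constructor
    · rintro ⟨x, hx, rfl⟩
      show ¬ (e.symm (e x) ∈ q)
      rw [RingEquiv.symm_apply_apply]
      exact hx
    · intro hs
      refine ⟨e.symm s, hs, ?_⟩
      exact e.apply_symm_apply s
  let E : Localization.AtPrime q ≃+* Localization.AtPrime q' :=
    IsLocalization.ringEquivOfRingEquiv (Localization.AtPrime q) (Localization.AtPrime q') e hmap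
  exact IsRegularLocalRing.of_ringEquiv E.symm

end Groth.Agent.Lib.Helper27.GenFibD
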