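import Mathlib
import Groth.Prelude.Def_W4bk4boschfrg79
import Groth.Agent.Lib.Helper27.RPowKey

/-!
The generic fibre `D ⊗_R K` of a torsion free algebra over a class (V) base.
-/

set_option autoImplicit false
universe u

open scoped TensorProduct

namespace Groth.Agent.Lib.Helper27.GenFibre

open AdicRing
open Groth.Agent.Lib.Helper27

variable (R : Type u) [CommRing R] [IsDomain R] [ValuationRing R]
  (t : R) [IsAdicComplete (Ideal.span {t}) R]
  (D : Type u) [CommRing D] [Algebra R D]

instance isLocalization_tensor :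
    IsLocalization (Algebra.algebraMapSubmonoid D (nonZeroDivisors R))
      (D ⊗[R] FractionRing R) := IsLocalization.tensor _ (nonZeroDivisors R)

variable {D}

/-- nonzero elements of `R` are nonzerodivisors on `D`. -/
lemma eq_zero_of_mul_eq_zero (hT : NoPowTorsion (Ideal.span {t}) D) (r : R) (hr : r ≠ 0) (y : D)
    (hy : algebraMap R D r * y = 0) : y = 0 := by
  obtain ⟨j, e, hj⟩ := RPowKey.exists_dvd_pow t r hr
  apply hT y j
  intro a ha
  rw [Ideal.span_singleton_pow, Ideal.mem_span_singleton] at ha
  obtain ⟨b, rfl⟩ := ha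
  rw [hj, Algebra.smul_def, map_mul, map_mul]
  calc algebraMap R D r * algebraMap R D e * algebraMap R D b * y
      = algebraMap R D e * algebraMap R D b * (algebraMap R D r * y) := by ring
    _ = 0 := by rw [hy, mul_zero]

lemma le_nonZeroDivisors (hT : NoPowTorsion (Ideal.span {t}) D) :
    Algebra.algebraMapSubmonoid D (nonZeroDivisors R) ≤ nonZeroDivisors D := by
  rintro _ ⟨r, hr, rfl⟩
  rw [mem_nonZeroDivisors_iff_right]
  intro y hy
  rw [mul_comm] at hy
  exact eq_zero_of_mul_eq_zero R t hT r (nonZeroDivisors.ne_zero hr) y hy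

lemma injective_algebraMap (hT : NoPowTorsion (Ideal.span {t}) D) :
    Function.Injective (algebraMap D (D ⊗[R] FractionRing R)) :=
  IsLocalization.injective (D ⊗[R] FractionRing R) (le_nonZeroDivisors R t hT)

omit [ValuationRing R] [IsAdicComplete (Ideal.span {t}) R] in
variable (D) in
lemma isUnit_algebraMap (r : R) (hr : r ≠ 0) :
    IsUnit (algebraMap D (D ⊗[R] FractionRing R) (algebraMap R D r)) :=
  IsLocalization.map_units _
    (⟨_, Algebra.mem_algebraMapSubmonoid_of_mem ⟨r, mem_nonZeroDivisors_of_ne_zero hr⟩⟩ :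
      Algebra.algebraMapSubmonoid D (nonZeroDivisors R))

end Groth.Agent.Lib.Helper27.GenFibre
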