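import Mathlib
import Groth.Agent.Lib.Helper27.Geo4
import Groth.Agent.Lib.Helper27.LR2
import Groth.Agent.Lib.Helper23.FF1

/-! `D x ≠ 0` implies that `x` is a separating variable. -/

set_option autoImplicit false

namespace Groth.Agent.Lib.Helper27.Geo
open FunFld Polynomial TensorProduct IntermediateField KaehlerDifferential

universe u v
variable {k : Type u} {K : Type v} [Field k] [Field K] [Algebra k K]

theorem transcendental_of_D_ne_zero (hK : IsFunctionField k K) {x : K} (hD : D k K x ≠ 0) :
    Transcendental k x := by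
  intro halg
  obtain ⟨c, rfl⟩ := hK.2 x halg
  exact hD ((D k K).map_algebraMap c)

theorem isSeparable_of_D_ne_zero (hK : IsFunctionField k K) (hg : IsGeometric k K) {x : K}
    (hD : D k K x ≠ 0) : Algebra.IsSeparable k⟮x⟯ K := by
  have htr := transcendental_of_D_ne_zero hK hD
  haveI hfd : FiniteDimensional k⟮x⟯ K := Groth.Agent.Lib.Helper23.FF.finiteDimensional_adjoin hK htr
  obtain ⟨p, hp⟩ := CharP.exists K
  rcases CharP.char_is_prime_or_zero K p with hpp | rfl
  · haveI := Fact.mk hpp
    apply Geo.isSeparable_of_not_mem_kKp p hK hg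
    intro hmem
    exact hD (Geo.derivation_eq_zero_of_mem_kKp p (D k K) hmem)
  · haveI : CharZero K := CharP.charP_to_charZero K
    haveI : CharZero k⟮x⟯ := (algebraMap k⟮x⟯ K).charZero
    exact Algebra.IsAlgebraic.isSeparable_of_perfectField

end Groth.Agent.Lib.Helper27.Geo
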