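import Mathlib
import Groth.Agent.Lib.Helper27.Geo7

/-! A function field with a separating variable is geometric. -/

set_option autoImplicit false

namespace Groth.Agent.Lib.Helper27.Geo
open FunFld Polynomial TensorProduct IntermediateField

universe u v
variable {k : Type u} {K : Type v} [Field k] [Field K] [Algebra k K]

/-- If `k` is algebraically closed in `K`, monic irreducible polynomials over `k` stay irreducible
over `K`. -/
theorem irreducible_map_of_algClosedIn
    (hK2 : ∀ y : K, IsAlgebraic k y → y ∈ Set.range (algebraMap k K)) {h : k[X]} (hm : h.Monic)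
    (hirr : Irreducible h) : Irreducible (h.map (algebraMap k K)) := by
  have hmK : (h.map (algebraMap k K)).Monic := hm.map _
  rw [hmK.irreducible_iff_natDegree]
  refine ⟨?_, ?_⟩
  · intro h1
    have h2 : h.natDegree = 0 := by
      have := congrArg natDegree h1
      rwa [natDegree_map, natDegree_one] at this
    exact hirr.not_isUnit (by rw [hm.natDegree_eq_zero.mp h2]; exact isUnit_one)
  · intro f g hf hg hfg
    have lift : ∀ q : K[X], q.Monic → q ∣ h.map (algebraMap k K) →
        ∃ q₀ : k[X], q₀.map (algebraMap k K) = q ∧ q₀.natDegree = q.natDegree ∧ q₀.Monic := by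
      intro q hq hdvd
      have h1 := integralClosure.mem_lifts_of_monic_of_dvd_map K hm hq hdvd
      have h2 : q ∈ lifts (algebraMap k K) := by
        rw [lifts_iff_coeff_lifts] at h1 ⊢
        intro n
        obtain ⟨c, hc⟩ := h1 n
        have hcint : IsIntegral k (c : K) := c.2
        obtain ⟨c₀, hc₀⟩ := hK2 _ hcint.isAlgebraic
        exact ⟨c₀, by rw [hc₀, ← hc]; rfl⟩
      exact lifts_and_natDegree_eq_and_monic h2 hq
    obtain ⟨f₀, hf₀, hf₀d, hf₀m⟩ := lift f hf ⟨g, hfg.symm⟩
    obtain ⟨g₀, hg₀, hg₀d, hg₀m⟩ := lift g hg ⟨f, by rw [mul_comm]; exact hfg.symm⟩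
    have hprod : f₀ * g₀ = h := by
      apply Polynomial.map_injective _ (algebraMap k K).injective
      rw [Polynomial.map_mul, hf₀, hg₀, hfg]
    rcases hirr.isUnit_or_isUnit hprod.symm with hu | hu
    · left
      rw [← hf₀d]
      exact natDegree_eq_zero_of_isUnit hu
    · right
      rw [← hg₀d]
      exact natDegree_eq_zero_of_isUnit hu

/-- Separable finite constant extensions of a field in which `k` is algebraically closed. -/
theorem isField_tensor_of_separable
    (hK2 : ∀ y : K, IsAlgebraic k y → y ∈ Set.range (algebraMap k K))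
    (L : Type*) [Field L] [Algebra k L] [FiniteDimensional k L] [Algebra.IsSeparable k L] :
    IsField (L ⊗[k] K) := by
  classical
  let fa : L →ₐ[k] AlgebraicClosure K := IsAlgClosed.lift
  let fb : K →ₐ[k] AlgebraicClosure K := IsScalarTower.toAlgHom k K (AlgebraicClosure K)
  let pb := Field.powerBasisOfFiniteOfSeparable k L
  have hint : IsIntegral k pb.gen := .of_finite k pb.gen
  have hm : (minpoly k pb.gen).Monic := minpoly.monic hint
  have hirr : Irreducible (minpoly k pb.gen) := minpoly.irreducible hint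
  have hirrK := irreducible_map_of_algClosedIn hK2 hm hirr
  have hroot : aeval (fa pb.gen) ((minpoly k pb.gen).map (algebraMap k K)) = 0 := by
    rw [aeval_map_algebraMap, aeval_algHom_apply, minpoly.aeval, map_zero]
  have hminK : minpoly K (fa pb.gen) = (minpoly k pb.gen).map (algebraMap k K) :=
    (minpoly.eq_of_irreducible_of_monic hirrK hroot (hm.map _)).symm
  have hdim : (minpoly K (fa pb.gen)).natDegree = pb.dim := by
    rw [hminK, natDegree_map, pb.natDegree_minpoly]
  let bA : Module.Basis (Fin pb.dim) k fa.range :=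
    pb.basis.map (AlgEquiv.ofInjectiveField fa).toLinearEquiv
  have H0 : LinearIndependent K (fa.range.val ∘ bA) := by
    have h1 := linearIndependent_pow (K := K) (fa pb.gen)
    have h2 := h1.comp (Fin.cast hdim.symm) (Fin.cast_injective _)
    have h3 : (fa.range.val ∘ bA) =
        (fun i : Fin (minpoly K (fa pb.gen)).natDegree => fa pb.gen ^ (i : ℕ)) ∘
          Fin.cast hdim.symm := by
      funext i
      simp [bA, PowerBasis.basis_eq_pow, AlgEquiv.ofInjectiveField]
    rw [h3]
    exact h2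
  have H : LinearIndependent fb.range (fa.range.val ∘ bA) :=
    H0.map_of_surjective_injective (AlgEquiv.ofInjectiveField fb)
      (AddMonoidHom.id (AlgebraicClosure K)) (AlgEquiv.surjective _) (by simp)
      (fun _ _ ↦ by simp_rw [Algebra.smul_def]; rfl)
  have hLD : fa.range.LinearDisjoint fb.range :=
    Subalgebra.LinearDisjoint.of_basis_left _ _ bA H
  haveI : IsDomain (L ⊗[k] K) :=
    Subalgebra.LinearDisjoint.isDomain_of_injective fa.injective fb.injective hLD
  exact Algebra.TensorProduct.isField_of_isAlgebraic k L K (Or.inl inferInstance)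

/-- `L ⊗ E` is a domain when `E` is the fraction field of `k[X]`. -/
theorem isDomain_tensor_fractionRing (L : Type*) [Field L] [Algebra k L] (E : Type*) [Field E]
    [Algebra k E] [Algebra k[X] E] [IsScalarTower k k[X] E] [IsFractionRing k[X] E] :
    IsDomain (L ⊗[k] E) := by
  haveI hdomP : IsDomain (L ⊗[k] k[X]) := (polyEquivTensor k L).symm.toMulEquiv.isDomain _
  let j : L ⊗[k] k[X] →ₐ[k] L ⊗[k] E :=
    Algebra.TensorProduct.map (AlgHom.id k L) (IsScalarTower.toAlgHom k k[X] E)
  have hj : Function.Injective j :=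
    Module.Flat.lTensor_preserves_injective_linearMap (M := L)
      (IsScalarTower.toAlgHom k k[X] E).toLinearMap (IsFractionRing.injective k[X] E)
  have hjd : ∀ d : k[X], j (1 ⊗ₜ d) = 1 ⊗ₜ algebraMap k[X] E d := fun d => by
    simp [j]
  have hne : ∀ d : k[X], d ≠ 0 → algebraMap k[X] E d ≠ 0 := fun d hd => by
    rw [Ne, map_eq_zero_iff _ (IsFractionRing.injective k[X] E)]
    exact hd
  have key : ∀ u : L ⊗[k] E, ∃ d : k[X], d ≠ 0 ∧ ∃ w : L ⊗[k] k[X],
      ((1 : L) ⊗ₜ[k] algebraMap k[X] E d) * u = j w := by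
    intro u
    induction u using TensorProduct.induction_on with
    | zero => exact ⟨1, one_ne_zero, 0, by rw [mul_zero, map_zero]⟩
    | tmul l e =>
      obtain ⟨n, d, hd, hnd⟩ := IsFractionRing.div_surjective (A := k[X]) e
      have hd0 : d ≠ 0 := nonZeroDivisors.ne_zero hd
      have hιd0 := hne d hd0
      have he : algebraMap k[X] E d * e = algebraMap k[X] E n := by
        rw [← hnd]
        field_simp
      refine ⟨d, hd0, l ⊗ₜ n, ?_⟩
      rw [Algebra.TensorProduct.tmul_mul_tmul, one_mul, he]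
      simp [j]
    | add u₁ u₂ h₁ h₂ =>
      obtain ⟨d₁, hd₁, w₁, hw₁⟩ := h₁
      obtain ⟨d₂, hd₂, w₂, hw₂⟩ := h₂
      refine ⟨d₁ * d₂, mul_ne_zero hd₁ hd₂, (1 ⊗ₜ d₂) * w₁ + (1 ⊗ₜ d₁) * w₂, ?_⟩
      have hm : ((1 : L) ⊗ₜ[k] (algebraMap k[X] E d₁ * algebraMap k[X] E d₂)) =
          (1 ⊗ₜ algebraMap k[X] E d₁) * (1 ⊗ₜ algebraMap k[X] E d₂) := by
        rw [Algebra.TensorProduct.tmul_mul_tmul, one_mul]
      rw [map_add, map_mul j, map_mul j, hjd, hjd, ← hw₁, ← hw₂, map_mul (algebraMap k[X] E), hm]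
      ring
  have hunit : ∀ d : k[X], d ≠ 0 → ∀ u : L ⊗[k] E,
      ((1 : L) ⊗ₜ[k] algebraMap k[X] E d) * u = 0 → u = 0 := by
    intro d hd u hu
    have hιd0 := hne d hd
    have h1 : ((1 : L) ⊗ₜ[k] (algebraMap k[X] E d)⁻¹) *
        (((1 : L) ⊗ₜ[k] algebraMap k[X] E d) * u) = u := by
      rw [← mul_assoc, Algebra.TensorProduct.tmul_mul_tmul, one_mul, inv_mul_cancel₀ hιd0,
        ← Algebra.TensorProduct.one_def, one_mul]
    rw [← h1, hu, mul_zero]
  haveI : Nontrivial (L ⊗[k] E) := hj.nontrivial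
  haveI : NoZeroDivisors (L ⊗[k] E) := ⟨by
    intro u v huv
    obtain ⟨d₁, hd₁, w₁, hw₁⟩ := key u
    obtain ⟨d₂, hd₂, w₂, hw₂⟩ := key v
    have h0 : j (w₁ * w₂) = 0 := by
      rw [map_mul, ← hw₁, ← hw₂, mul_mul_mul_comm, huv, mul_zero]
    have h1 : w₁ * w₂ = 0 := hj (by rw [h0, map_zero])
    rcases mul_eq_zero.mp h1 with h | h
    · left
      apply hunit d₁ hd₁
      rw [hw₁, h, map_zero]
    · right
      apply hunit d₂ hd₂
      rw [hw₂, h, map_zero]⟩
  exact NoZeroDivisors.to_isDomain _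

variable (k) in
/-- `k⟮x⟯` as a `k[X]`-algebra via `X ↦ x`. -/
@[reducible] noncomputable def polyAlgAdjoin (x : K) : Algebra k[X] k⟮x⟯ :=
  (Polynomial.aeval (AdjoinSimple.gen k x)).toAlgebra

attribute [local instance] polyAlgAdjoin

theorem isScalarTower_adjoin (x : K) : IsScalarTower k k[X] k⟮x⟯ :=
  IsScalarTower.of_algebraMap_eq (fun c => by
    show algebraMap k k⟮x⟯ c = aeval (AdjoinSimple.gen k x) (C c)
    simp)

theorem isFractionRing_adjoin (x : K) (hx : Transcendental k x) : IsFractionRing k[X] k⟮x⟯ := by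
  have h1 : ∀ q : k[X], ((aeval (AdjoinSimple.gen k x) q : k⟮x⟯) : K) = aeval x q := fun q => by
    rw [← AdjoinSimple.algebraMap_gen k x, Polynomial.aeval_algebraMap_apply]
    rfl
  have hinj : Function.Injective (algebraMap k[X] k⟮x⟯) := by
    intro a b hab
    have h2 : aeval x a = aeval x b := by
      rw [← h1, ← h1]
      exact congrArg Subtype.val hab
    exact (transcendental_iff_injective.mp hx) h2
  haveI : FaithfulSMul k[X] k⟮x⟯ := (faithfulSMul_iff_algebraMap_injective _ _).mpr hinj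
  refine IsFractionRing.of_field k[X] k⟮x⟯ (fun z => ?_)
  obtain ⟨r, s, h⟩ := (mem_adjoin_simple_iff k z.1).mp z.2
  refine ⟨r, s, Subtype.ext ?_⟩
  rw [h]
  show _ = ((aeval (AdjoinSimple.gen k x) r / aeval (AdjoinSimple.gen k x) s : k⟮x⟯) : K)
  push_cast
  rw [h1, h1]

/-- Reducedness of constant extensions, abstract version. -/
theorem isReduced_tensor_aux (E : Type*) [Field E] [Algebra k E] [Algebra E K]
    [IsScalarTower k E K] [Algebra k[X] E] [IsScalarTower k k[X] E] [IsFractionRing k[X] E]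
    [FiniteDimensional E K] [Algebra.IsSeparable E K]
    (L : Type*) [Field L] [Algebra k L] [Algebra.IsAlgebraic k L] : IsReduced (L ⊗[k] K) := by
  haveI : IsDomain (L ⊗[k] E) := isDomain_tensor_fractionRing L E
  have hLE : IsField (L ⊗[k] E) :=
    Algebra.TensorProduct.isField_of_isAlgebraic k L E (Or.inl inferInstance)
  have hB : IsField (E ⊗[k] L) := (Algebra.TensorProduct.comm k E L).toMulEquiv.isField hLE
  haveI : Nontrivial (E ⊗[k] L) := hB.nontrivial
  obtain ⟨M, hM⟩ := Ideal.exists_maximal (E ⊗[k] L)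
  haveI := hM
  letI : Field ((E ⊗[k] L) ⧸ M) := Ideal.Quotient.field M
  haveI : Algebra.FormallyUnramified E K := Algebra.FormallyUnramified.of_isSeparable E K
  haveI hred : IsReduced (((E ⊗[k] L) ⧸ M) ⊗[E] K) :=
    Algebra.FormallyUnramified.isReduced_of_field ((E ⊗[k] L) ⧸ M) _
  let e0 : L ⊗[k] K ≃ₐ[k] K ⊗[k] L := Algebra.TensorProduct.comm k L K
  let e1 : K ⊗[E] (E ⊗[k] L) ≃ₐ[E] K ⊗[k] L := Algebra.TensorProduct.cancelBaseChange k E E K L
  let q : (E ⊗[k] L) →ₐ[E] (E ⊗[k] L) ⧸ M := Ideal.Quotient.mkₐ E M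
  have hq : Function.Injective q := by
    intro a b hab
    have h1 : a - b ∈ M := Ideal.Quotient.eq.mp hab
    by_contra hne
    have hne' : a - b ≠ 0 := sub_ne_zero.mpr hne
    obtain ⟨c, hc⟩ := hB.mul_inv_cancel hne'
    have h2 : (1 : E ⊗[k] L) ∈ M := by
      rw [← hc]
      exact M.mul_mem_right c h1
    exact hM.ne_top ((Ideal.eq_top_iff_one M).mpr h2)
  let f2 : K ⊗[E] (E ⊗[k] L) →ₐ[E] K ⊗[E] ((E ⊗[k] L) ⧸ M) :=
    Algebra.TensorProduct.map (AlgHom.id E K) q
  have hf2 : Function.Injective f2 :=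
    Module.Flat.lTensor_preserves_injective_linearMap (M := K) q.toLinearMap hq
  let e3 : K ⊗[E] ((E ⊗[k] L) ⧸ M) ≃ₐ[E] ((E ⊗[k] L) ⧸ M) ⊗[E] K :=
    Algebra.TensorProduct.comm E K _
  let F : L ⊗[k] K →+* ((E ⊗[k] L) ⧸ M) ⊗[E] K :=
    e3.toAlgHom.toRingHom.comp (f2.toRingHom.comp
      (e1.symm.toAlgHom.toRingHom.comp e0.toAlgHom.toRingHom))
  have hF : Function.Injective F := by
    intro a b hab
    apply e0.injective
    apply e1.symm.injective
    apply hf2
    apply e3.injective
    exact hab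
  exact isReduced_of_injective F hF

/-- Constant extensions of a function field with a separating variable are reduced. -/
theorem isReduced_tensor_of_separating (x : K) (hx : Transcendental k x)
    [FiniteDimensional k⟮x⟯ K] [Algebra.IsSeparable k⟮x⟯ K]
    (L : Type*) [Field L] [Algebra k L] [Algebra.IsAlgebraic k L] : IsReduced (L ⊗[k] K) := by
  haveI := isScalarTower_adjoin (k := k) x
  haveI := isFractionRing_adjoin x hx
  exact isReduced_tensor_aux k⟮x⟯ L

/-- In a reduced constant extension whose `q`-power-closure is a field, nonzero elements are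
units. -/
theorem isField_tensor_aux (q : ℕ) [ExpChar k q] (L : Type*) [Field L] [Algebra k L]
    [IsReduced (L ⊗[k] K)] (Ls : Type*) [Field Ls] [Algebra k Ls] (ι₀ : Ls →ₐ[k] L)
    (hAs : IsField (Ls ⊗[k] K)) (hpow : ∀ l : L, ∃ n : ℕ, ∃ s : Ls, ι₀ s = l ^ q ^ n) :
    IsField (L ⊗[k] K) := by
  classical
  let ι : Ls ⊗[k] K →ₐ[k] L ⊗[k] K := Algebra.TensorProduct.map ι₀ (AlgHom.id k K)
  haveI hnt : Nontrivial (L ⊗[k] K) :=
    (Algebra.TensorProduct.includeRight_injective (R := k) (A := L) (B := K)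
      (algebraMap k L).injective).nontrivial
  haveI : ExpChar (L ⊗[k] K) q :=
    expChar_of_injective_algebraMap (algebraMap k (L ⊗[k] K)).injective q
  have hq0 : q ≠ 0 := (expChar_pos k q).ne'
  have key : ∀ z : L ⊗[k] K, ∃ n : ℕ, z ^ q ^ n ∈ ι.range := by
    intro z
    induction z using TensorProduct.induction_on with
    | zero => exact ⟨0, by rw [pow_zero, pow_one]; exact ι.range.zero_mem⟩
    | tmul l c =>
      obtain ⟨n, s, hs⟩ := hpow l
      refine ⟨n, s ⊗ₜ (c ^ q ^ n), ?_⟩
      rw [Algebra.TensorProduct.tmul_pow, ← hs]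
      simp [ι]
    | add z₁ z₂ h₁ h₂ =>
      obtain ⟨n₁, hn₁⟩ := h₁
      obtain ⟨n₂, hn₂⟩ := h₂
      refine ⟨n₁ + n₂, ?_⟩
      rw [add_pow_expChar_pow]
      apply ι.range.add_mem
      · rw [pow_add, pow_mul]
        exact ι.range.pow_mem hn₁ _
      · rw [add_comm n₁ n₂, pow_add, pow_mul]
        exact ι.range.pow_mem hn₂ _
  refine ⟨exists_pair_ne _, mul_comm, ?_⟩
  intro z hz
  obtain ⟨n, w, hw⟩ := key z
  have hzn : z ^ q ^ n ≠ 0 := fun h => hz (eq_zero_of_pow_eq_zero h)
  have hw0 : w ≠ 0 := by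
    rintro rfl
    rw [map_zero] at hw
    exact hzn hw.symm
  obtain ⟨w', hw'⟩ := hAs.mul_inv_cancel hw0
  have hwu : IsUnit w := isUnit_iff_exists_inv.mpr ⟨w', hw'⟩
  have hu : IsUnit (z ^ q ^ n) := by
    rw [← hw]
    exact ι.toRingHom.isUnit_map hwu
  have hzu : IsUnit z := (isUnit_pow_iff (pow_ne_zero n hq0)).mp hu
  obtain ⟨z', hz'⟩ := hzu.exists_right_inv
  exact ⟨z', hz'⟩

theorem isField_tensor_of_isReduced
    (hK2 : ∀ y : K, IsAlgebraic k y → y ∈ Set.range (algebraMap k K))
    (L : Type*) [Field L] [Algebra k L] [FiniteDimensional k L] [IsReduced (L ⊗[k] K)] :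
    IsField (L ⊗[k] K) := by
  have hAs : IsField ((separableClosure k L) ⊗[k] K) :=
    isField_tensor_of_separable hK2 (separableClosure k L)
  haveI : ExpChar k (ringExpChar k) := ringExpChar.expChar k
  haveI : ExpChar (separableClosure k L) (ringExpChar k) :=
    expChar_of_injective_algebraMap (algebraMap k (separableClosure k L)).injective _
  refine isField_tensor_aux (ringExpChar k) L (separableClosure k L) (separableClosure k L).val hAs
    (fun l => ?_)
  obtain ⟨n, s, hs⟩ := IsPurelyInseparable.pow_mem (separableClosure k L) (ringExpChar k) l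
  exact ⟨n, s, hs⟩

/-- A function field of one variable with a separating variable is geometric. -/
theorem isGeometric_of_separating (hK : IsFunctionField k K) (x : K)
    [Algebra.IsSeparable k⟮x⟯ K] : IsGeometric k K := by
  have hx : Transcendental k x := by
    intro halg
    haveI : Algebra.IsAlgebraic k k⟮x⟯ :=
      IntermediateField.isAlgebraic_adjoin_simple halg.isIntegral
    haveI : Algebra.IsAlgebraic k K := Algebra.IsAlgebraic.trans k k⟮x⟯ K
    obtain ⟨⟨t, ht, -⟩, -⟩ := hK
    exact ht (Algebra.IsAlgebraic.isAlgebraic t)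
  haveI : FiniteDimensional k⟮x⟯ K := Groth.Agent.Lib.Helper23.FF.finiteDimensional_adjoin hK hx
  intro L _ _ hfd
  haveI := hfd
  haveI : IsReduced (L ⊗[k] K) := isReduced_tensor_of_separating x hx L
  exact isField_tensor_of_isReduced hK.2 L

end Groth.Agent.Lib.Helper27.Geo
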