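import Mathlib
import Groth.Agent.Lib.Helper27.Geo8

/-! Plane models `K = k(x, y)`: the relation ideal after a finite constant extension. -/

set_option autoImplicit false

namespace Groth.Agent.Lib.Helper27.Geo
open FunFld TensorProduct IntermediateField

universe u v
variable {k : Type u} {K : Type v} [Field k] [Field K] [Algebra k K]

/-- Evaluation `k'[X, Y] → k' ⊗ K` at `(1 ⊗ x, 1 ⊗ y)`. -/
noncomputable def evT (k : Type u) {K : Type v} [Field k] [Field K] [Algebra k K]
    (k' : Type*) [Field k'] [Algebra k k'] (x y : K) :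
    MvPolynomial (Fin 2) k' →ₐ[k'] k' ⊗[k] K :=
  MvPolynomial.aeval ![(1 : k') ⊗ₜ[k] x, (1 : k') ⊗ₜ[k] y]

variable (k' : Type*) [Field k'] [Algebra k k'] (x y : K)

theorem evT_map (g : MvPolynomial (Fin 2) k) :
    evT k k' x y (MvPolynomial.map (algebraMap k k') g)
      = (1 : k') ⊗ₜ[k] MvPolynomial.aeval ![x, y] g := by
  have h : ((evT k k' x y).restrictScalars k).comp (MvPolynomial.mapAlgHom (Algebra.ofId k k'))
      = (Algebra.TensorProduct.includeRight : K →ₐ[k] k' ⊗[k] K).comp
          (MvPolynomial.aeval ![x, y]) := by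
    apply MvPolynomial.algHom_ext
    intro i
    fin_cases i <;> simp [evT]
  exact DFunLike.congr_fun h g

theorem evT_C_mul_map (c : k') (g : MvPolynomial (Fin 2) k) :
    evT k k' x y (MvPolynomial.C c * MvPolynomial.map (algebraMap k k') g)
      = c ⊗ₜ[k] MvPolynomial.aeval ![x, y] g := by
  rw [map_mul, evT_map]
  have : evT k k' x y (MvPolynomial.C c) = c ⊗ₜ[k] (1 : K) := by
    unfold evT
    rw [MvPolynomial.aeval_C, Algebra.TensorProduct.algebraMap_apply]
    rfl
  rw [this, Algebra.TensorProduct.tmul_mul_tmul, mul_one, one_mul]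

theorem exists_decomp {ι : Type*} [Fintype ι] (b : Module.Basis ι k k')
    (g : MvPolynomial (Fin 2) k') :
    ∃ h : ι → MvPolynomial (Fin 2) k,
      g = ∑ i, MvPolynomial.C (b i) * MvPolynomial.map (algebraMap k k') (h i) := by
  induction g using MvPolynomial.induction_on' with
  | monomial m c =>
    refine ⟨fun i => MvPolynomial.monomial m (b.repr c i), ?_⟩
    simp only [MvPolynomial.map_monomial, MvPolynomial.C_mul_monomial]
    rw [← map_sum]
    congr 1
    conv_lhs => rw [← b.sum_repr c]
    refine Finset.sum_congr rfl fun i _ => ?_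
    rw [Algebra.smul_def (b.repr c i) (b i), mul_comm]
  | add p q hp hq =>
    obtain ⟨h₁, e₁⟩ := hp
    obtain ⟨h₂, e₂⟩ := hq
    refine ⟨fun i => h₁ i + h₂ i, ?_⟩
    conv_lhs => rw [e₁, e₂]
    rw [← Finset.sum_add_distrib]
    refine Finset.sum_congr rfl fun i _ => ?_
    rw [map_add, mul_add]

theorem ker_evT [FiniteDimensional k k'] {f : MvPolynomial (Fin 2) k}
    (hker : RingHom.ker (MvPolynomial.aeval ![x, y] : MvPolynomial (Fin 2) k →ₐ[k] K)
      = Ideal.span {f}) :
    RingHom.ker (evT k k' x y) = Ideal.span {MvPolynomial.map (algebraMap k k') f} := by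
  apply le_antisymm
  · intro g hg
    rw [RingHom.mem_ker] at hg
    obtain ⟨h, rfl⟩ := exists_decomp k' (Module.finBasis k k') g
    have e1 : evT k k' x y (∑ i, MvPolynomial.C (Module.finBasis k k' i) *
          MvPolynomial.map (algebraMap k k') (h i))
        = ∑ i, (Module.finBasis k k' i) ⊗ₜ[k] MvPolynomial.aeval ![x, y] (h i) := by
      rw [map_sum]
      exact Finset.sum_congr rfl fun i _ => evT_C_mul_map k' x y _ _
    rw [e1] at hg
    have e2 : ∀ i, MvPolynomial.aeval ![x, y] (h i) = 0 := by
      intro i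
      have h3 := congrArg
        (fun t => TensorProduct.equivFinsuppOfBasisLeft (Module.finBasis k k') t i) hg
      simpa [TensorProduct.equivFinsuppOfBasisLeft_apply_tmul_apply, Finsupp.single_apply]
        using h3
    refine Ideal.sum_mem _ fun i _ => ?_
    have hi : h i ∈ Ideal.span {f} := by
      rw [← hker, RingHom.mem_ker]
      exact e2 i
    obtain ⟨c, hc⟩ := Ideal.mem_span_singleton'.mp hi
    rw [← hc, map_mul]
    exact Ideal.mul_mem_left _ _ (Ideal.mul_mem_left _ _ (Ideal.mem_span_singleton_self _))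
  · rw [Ideal.span_singleton_le_iff_mem, RingHom.mem_ker, evT_map]
    have h0 : MvPolynomial.aeval ![x, y] f = 0 := by
      rw [← RingHom.mem_ker, hker]
      exact Ideal.mem_span_singleton_self f
    rw [h0, TensorProduct.tmul_zero]

end Groth.Agent.Lib.Helper27.Geo
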