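import Mathlib
import Groth.Agent.Lib.Helper27.Geo9

/-! Plane models `K = k(x, y)` with absolutely irreducible relation are geometric function
fields. -/

set_option autoImplicit false

namespace Groth.Agent.Lib.Helper27.Geo
open FunFld TensorProduct IntermediateField

universe u v
variable {k : Type u} {K : Type v} [Field k] [Field K] [Algebra k K]

theorem range_pair (x y : K) : Set.range ![x, y] = {x, y} := by
  rw [Matrix.range_cons, Matrix.range_cons, Matrix.range_empty, Set.union_empty,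
    Set.singleton_union]

theorem exists_frac (x y : K) (htop : adjoin k ({x, y} : Set K) = ⊤) (e : K) :
    ∃ n d : MvPolynomial (Fin 2) k, MvPolynomial.aeval ![x, y] d ≠ 0 ∧
      MvPolynomial.aeval ![x, y] d * e = MvPolynomial.aeval ![x, y] n := by
  have he : e ∈ adjoin k ({x, y} : Set K) := by
    rw [htop]
    exact IntermediateField.mem_top
  obtain ⟨r, hr, s, hs, rfl⟩ := mem_adjoin_iff_div.mp he
  rw [← range_pair, Algebra.adjoin_range_eq_range_aeval] at hr hs
  obtain ⟨n, rfl⟩ := (AlgHom.mem_range _).mp hr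
  obtain ⟨d, rfl⟩ := (AlgHom.mem_range _).mp hs
  by_cases hd : MvPolynomial.aeval ![x, y] d = 0
  · refine ⟨0, 1, by simp, ?_⟩
    rw [hd, div_zero, mul_zero, map_zero]
  · refine ⟨n, d, hd, ?_⟩
    field_simp

theorem isDomain_tensor (k' : Type*) [Field k'] [Algebra k k'] [FiniteDimensional k k'] (x y : K)
    {f : MvPolynomial (Fin 2) k}
    (hker : RingHom.ker (MvPolynomial.aeval ![x, y] : MvPolynomial (Fin 2) k →ₐ[k] K)
      = Ideal.span {f})
    (htop : adjoin k ({x, y} : Set K) = ⊤)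
    (hirr : Irreducible (MvPolynomial.map (algebraMap k k') f)) : IsDomain (k' ⊗[k] K) := by
  have hprime : (RingHom.ker (evT k k' x y)).IsPrime := by
    rw [ker_evT k' x y hker]
    exact (Ideal.span_singleton_prime hirr.ne_zero).mpr hirr.prime
  have hmul0 : ∀ g h, evT k k' x y g * evT k k' x y h = 0 →
      evT k k' x y g = 0 ∨ evT k k' x y h = 0 := by
    intro g h hgh
    have h1 : g * h ∈ RingHom.ker (evT k k' x y) := by
      rw [RingHom.mem_ker, map_mul]
      exact hgh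
    rcases hprime.mem_or_mem h1 with h2 | h2
    · left
      exact h2
    · right
      exact h2
  have key : ∀ u : k' ⊗[k] K, ∃ d : MvPolynomial (Fin 2) k,
      MvPolynomial.aeval ![x, y] d ≠ 0 ∧ ∃ w : MvPolynomial (Fin 2) k',
        ((1 : k') ⊗ₜ[k] MvPolynomial.aeval ![x, y] d) * u = evT k k' x y w := by
    intro u
    induction u using TensorProduct.induction_on with
    | zero => exact ⟨1, by simp, 0, by rw [mul_zero, map_zero]⟩
    | tmul l e =>
      obtain ⟨n, d, hd, hnd⟩ := exists_frac x y htop e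
      refine ⟨d, hd, MvPolynomial.C l * MvPolynomial.map (algebraMap k k') n, ?_⟩
      rw [Algebra.TensorProduct.tmul_mul_tmul, one_mul, hnd, evT_C_mul_map]
    | add u₁ u₂ h₁ h₂ =>
      obtain ⟨d₁, hd₁, w₁, hw₁⟩ := h₁
      obtain ⟨d₂, hd₂, w₂, hw₂⟩ := h₂
      refine ⟨d₁ * d₂, by rw [map_mul]; exact mul_ne_zero hd₁ hd₂,
        MvPolynomial.map (algebraMap k k') d₂ * w₁ + MvPolynomial.map (algebraMap k k') d₁ * w₂,
        ?_⟩
      have hm : ((1 : k') ⊗ₜ[k] (MvPolynomial.aeval ![x, y] d₁ * MvPolynomial.aeval ![x, y] d₂)) =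
          ((1 : k') ⊗ₜ[k] MvPolynomial.aeval ![x, y] d₁) *
            ((1 : k') ⊗ₜ[k] MvPolynomial.aeval ![x, y] d₂) := by
        rw [Algebra.TensorProduct.tmul_mul_tmul, one_mul]
      rw [map_add, map_mul (evT k k' x y), map_mul (evT k k' x y), evT_map, evT_map, ← hw₁, ← hw₂,
        map_mul (MvPolynomial.aeval ![x, y]), hm]
      ring
  have hunit : ∀ s : K, s ≠ 0 → ∀ u : k' ⊗[k] K, ((1 : k') ⊗ₜ[k] s) * u = 0 → u = 0 := by
    intro s hs u hu
    have h1 : ((1 : k') ⊗ₜ[k] s⁻¹) * (((1 : k') ⊗ₜ[k] s) * u) = u := by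
      rw [← mul_assoc, Algebra.TensorProduct.tmul_mul_tmul, one_mul, inv_mul_cancel₀ hs,
        ← Algebra.TensorProduct.one_def, one_mul]
    rw [← h1, hu, mul_zero]
  haveI : Nontrivial (k' ⊗[k] K) :=
    (Algebra.TensorProduct.includeRight_injective (R := k) (A := k') (B := K)
      (algebraMap k k').injective).nontrivial
  haveI : NoZeroDivisors (k' ⊗[k] K) := ⟨by
    intro u v huv
    obtain ⟨d₁, hd₁, w₁, hw₁⟩ := key u
    obtain ⟨d₂, hd₂, w₂, hw₂⟩ := key v
    have h0 : evT k k' x y w₁ * evT k k' x y w₂ = 0 := by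
      rw [← hw₁, ← hw₂, mul_mul_mul_comm, huv, mul_zero]
    rcases hmul0 w₁ w₂ h0 with h | h
    · left
      apply hunit _ hd₁
      rw [hw₁, h]
    · right
      apply hunit _ hd₂
      rw [hw₂, h]⟩
  exact NoZeroDivisors.to_isDomain _

theorem isGeometric_of_plane (x y : K) {f : MvPolynomial (Fin 2) k}
    (hker : RingHom.ker (MvPolynomial.aeval ![x, y] : MvPolynomial (Fin 2) k →ₐ[k] K)
      = Ideal.span {f})
    (htop : adjoin k ({x, y} : Set K) = ⊤)
    (hirr : ∀ (k' : Type u) [Field k'] [Algebra k k'], FiniteDimensional k k' →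
      Irreducible (MvPolynomial.map (algebraMap k k') f)) : IsGeometric k K := by
  intro k' _ _ hfd
  haveI := hfd
  haveI := isDomain_tensor k' x y hker htop (hirr k' hfd)
  exact Algebra.TensorProduct.isField_of_isAlgebraic k k' K (Or.inl inferInstance)

/-- In a geometric extension, `k` is algebraically closed. -/
theorem mem_range_of_isGeometric (hg : IsGeometric k K) (α : K) (hα : IsAlgebraic k α) :
    α ∈ Set.range (algebraMap k K) := by
  have hint : IsIntegral k α := hα.isIntegral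
  by_contra hnot
  have hdeg : 2 ≤ (minpoly k α).natDegree :=
    (minpoly.two_le_natDegree_iff hint).mpr (by simpa using hnot)
  haveI : Fact (Irreducible (minpoly k α)) := ⟨minpoly.irreducible hint⟩
  have hm0 : minpoly k α ≠ 0 := minpoly.ne_zero hint
  obtain ⟨pb, hpb⟩ : ∃ pb : PowerBasis k (AdjoinRoot (minpoly k α)),
      pb = AdjoinRoot.powerBasis hm0 := ⟨_, rfl⟩
  haveI : FiniteDimensional k (AdjoinRoot (minpoly k α)) := pb.finite
  have hF : IsField (AdjoinRoot (minpoly k α) ⊗[k] K) :=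
    hg (AdjoinRoot (minpoly k α)) inferInstance
  obtain ⟨lift, hlift⟩ : ∃ lift : AdjoinRoot (minpoly k α) →ₐ[k] K,
      lift (AdjoinRoot.root (minpoly k α)) = α :=
    ⟨AdjoinRoot.liftAlgHom (minpoly k α) (Algebra.ofId k K) α (minpoly.aeval k α),
      AdjoinRoot.liftAlgHom_root _ _ _ _⟩
  obtain ⟨ψ, hψ⟩ : ∃ ψ : AdjoinRoot (minpoly k α) ⊗[k] K →ₐ[k] K,
      ∀ a b, ψ (a ⊗ₜ[k] b) = lift a * b :=
    ⟨Algebra.TensorProduct.productMap lift (AlgHom.id k K), fun a b => by simp⟩
  have hinj : ∀ u, ψ u = 0 → u = 0 := by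
    intro u hu
    by_contra hu0
    obtain ⟨v, hv⟩ := hF.mul_inv_cancel hu0
    have h1 := congrArg ψ hv
    rw [map_mul, hu, zero_mul, map_one] at h1
    exact zero_ne_one h1
  have hw : (AdjoinRoot.root (minpoly k α)) ⊗ₜ[k] (1 : K)
      - (1 : AdjoinRoot (minpoly k α)) ⊗ₜ[k] α = 0 := by
    apply hinj
    rw [map_sub, hψ, hψ, hlift, map_one, mul_one, one_mul, sub_self]
  have hdim : pb.dim = (minpoly k α).natDegree := by rw [hpb]; rfl
  have h1lt : 1 < pb.dim := by omega
  have h0lt : 0 < pb.dim := by omega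
  have hgen : pb.gen = AdjoinRoot.root (minpoly k α) := by rw [hpb]; rfl
  have e1 : AdjoinRoot.root (minpoly k α) = pb.basis ⟨1, h1lt⟩ := by
    rw [PowerBasis.coe_basis]
    simp [hgen]
  have e0 : (1 : AdjoinRoot (minpoly k α)) = pb.basis ⟨0, h0lt⟩ := by
    rw [PowerBasis.coe_basis]
    simp
  rw [e1, e0] at hw
  have r1 : pb.basis.repr (pb.basis ⟨1, h1lt⟩) ⟨1, h1lt⟩ = 1 := by
    rw [Module.Basis.repr_self, Finsupp.single_eq_same]
  have r0 : pb.basis.repr (pb.basis ⟨0, h0lt⟩) ⟨1, h1lt⟩ = 0 := by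
    rw [Module.Basis.repr_self, Finsupp.single_apply, if_neg (by simp)]
  have h3 : (TensorProduct.equivFinsuppOfBasisLeft pb.basis
      (pb.basis ⟨1, h1lt⟩ ⊗ₜ[k] (1 : K) - pb.basis ⟨0, h0lt⟩ ⊗ₜ[k] α)) ⟨1, h1lt⟩ = 0 := by
    rw [hw, map_zero]
    rfl
  rw [map_sub, Finsupp.sub_apply, TensorProduct.equivFinsuppOfBasisLeft_apply_tmul_apply,
    TensorProduct.equivFinsuppOfBasisLeft_apply_tmul_apply, r1, r0, one_smul, zero_smul,
    sub_zero] at h3
  exact one_ne_zero h3

end Groth.Agent.Lib.Helper27.Geo
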