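import Mathlib
import Groth.Agent.Lib.Helper27.Geo10
import Groth.Agent.Lib.Helper23.FFHilb2

/-! Geometric function fields are exactly the plane models `k(x, y)` with absolutely irreducible
relation. -/

set_option autoImplicit false

namespace Groth.Agent.Lib.Helper27.Geo
open FunFld TensorProduct IntermediateField

universe u v
variable {k : Type u} {K : Type v} [Field k] [Field K] [Algebra k K]

/-- `0 ↦ none`, `1 ↦ some 0`. -/
def e01 : Fin 2 ≃ Option (Fin 1) where
  toFun i := if i = 0 then none else some 0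
  invFun o := o.elim 0 (fun _ => 1)
  left_inv i := by fin_cases i <;> simp
  right_inv o := by
    rcases o with _ | j
    · simp
    · fin_cases j
      simp

/-- `0 ↦ some 0`, `1 ↦ none`. -/
def e10 : Fin 2 ≃ Option (Fin 1) where
  toFun i := if i = 0 then some 0 else none
  invFun o := o.elim 1 (fun _ => 0)
  left_inv i := by fin_cases i <;> simp
  right_inv o := by
    rcases o with _ | j
    · simp
    · fin_cases j
      simp

theorem isAlgebraic_of_dep (t s : K) (ht : Transcendental k t)
    (hdep : ¬ AlgebraicIndependent k (fun o : Option (Fin 1) => o.elim s ![t])) :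
    IsAlgebraic k⟮t⟯ s := by
  have h0 : AlgebraicIndependent k ![t] := algebraicIndependent_iff_transcendental.mpr ht
  have h1 := h0.option_iff_transcendental s
  have h2 : IsAlgebraic (Algebra.adjoin k (Set.range ![t])) s := by
    by_contra h
    exact hdep (h1.mpr h)
  have hle : Algebra.adjoin k (Set.range ![t]) ≤ k⟮t⟯.toSubalgebra := by
    rw [Algebra.adjoin_le_iff]
    rintro _ ⟨i, rfl⟩
    fin_cases i
    exact mem_adjoin_simple_self k t
  obtain ⟨p, hp0, hp⟩ := h2
  refine ⟨p.map (Subalgebra.inclusion hle).toRingHom, ?_, ?_⟩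
  · rw [Ne, Polynomial.map_eq_zero_iff (Subalgebra.inclusion_injective hle)]
    exact hp0
  · have hc : (algebraMap k⟮t⟯ K).comp (Subalgebra.inclusion hle).toRingHom
        = algebraMap (Algebra.adjoin k (Set.range ![t])) K := by
      ext a
      rfl
    rw [Polynomial.aeval_def, Polynomial.eval₂_map, hc]
    rw [Polynomial.aeval_def] at hp
    exact hp

theorem finiteDimensional_of_alg (t s : K) (hs : IsAlgebraic k⟮t⟯ s)
    (htop : adjoin k ({t, s} : Set K) = ⊤) : FiniteDimensional k⟮t⟯ K := by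
  have h1 : (adjoin k⟮t⟯ ({s} : Set K)).restrictScalars k = ⊤ := by
    rw [adjoin_adjoin_left, Set.singleton_union]
    exact htop
  have h2 : adjoin k⟮t⟯ ({s} : Set K) = ⊤ := restrictScalars_eq_top_iff.mp h1
  haveI h3 : FiniteDimensional k⟮t⟯ k⟮t⟯⟮s⟯ := adjoin.finiteDimensional hs.isIntegral
  have h4 : FiniteDimensional k⟮t⟯ (⊤ : IntermediateField k⟮t⟯ K) := h2 ▸ h3
  exact (topEquiv : (⊤ : IntermediateField k⟮t⟯ K) ≃ₐ[k⟮t⟯] K).toLinearEquiv.finiteDimensional

theorem isFunctionField_of_plane (x y : K) {f : MvPolynomial (Fin 2) k}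
    (hker : RingHom.ker (MvPolynomial.aeval ![x, y] : MvPolynomial (Fin 2) k →ₐ[k] K)
      = Ideal.span {f})
    (htop : adjoin k ({x, y} : Set K) = ⊤)
    (hirr : ∀ (k' : Type u) [Field k'] [Algebra k k'], FiniteDimensional k k' →
      Irreducible (MvPolynomial.map (algebraMap k k') f)) : IsFunctionField k K := by
  have hg := isGeometric_of_plane x y hker htop hirr
  have hclosed : ∀ α : K, IsAlgebraic k α → α ∈ Set.range (algebraMap k K) :=
    mem_range_of_isGeometric hg
  refine ⟨?_, hclosed⟩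
  have hf_irr : Irreducible f := by
    have h1 := hirr k inferInstance
    rwa [Algebra.algebraMap_self, MvPolynomial.map_id] at h1
  have hf0 : f ≠ 0 := hf_irr.ne_zero
  have hfker : MvPolynomial.aeval ![x, y] f = 0 := by
    rw [← RingHom.mem_ker, hker]
    exact Ideal.mem_span_singleton_self f
  have hninj : ¬ Function.Injective
      (MvPolynomial.aeval ![x, y] : MvPolynomial (Fin 2) k →ₐ[k] K) :=
    fun h => hf0 (h (by rw [hfker, map_zero]))
  have hnai : ¬ AlgebraicIndependent k ![x, y] :=
    fun h => hninj (algebraicIndependent_iff_injective_aeval.mp h)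
  by_cases hy : IsAlgebraic k y
  · by_cases hx : IsAlgebraic k x
    · exfalso
      obtain ⟨a, rfl⟩ := hclosed x hx
      obtain ⟨b, rfl⟩ := hclosed y hy
      obtain ⟨ε, hε⟩ : ∃ ε : MvPolynomial (Fin 2) k →ₐ[k] k, ε = MvPolynomial.aeval ![a, b] :=
        ⟨_, rfl⟩
      have hφ : (MvPolynomial.aeval ![algebraMap k K a, algebraMap k K b] :
          MvPolynomial (Fin 2) k →ₐ[k] K) = (Algebra.ofId k K).comp ε := by
        apply MvPolynomial.algHom_ext
        intro i
        fin_cases i <;> simp [hε, Algebra.ofId_apply]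
      have hmem : ∀ g, ε g = 0 → g ∈ Ideal.span {f} := by
        intro g hg0
        rw [← hker, RingHom.mem_ker, hφ, AlgHom.comp_apply, hg0, map_zero]
      have hfP : ε f = 0 := by
        rw [hφ, AlgHom.comp_apply, Algebra.ofId_apply] at hfker
        exact (algebraMap k K).injective (by rw [hfker, map_zero])
      have hL : ∀ (i : Fin 2) (u : MvPolynomial (Fin 2) k),
          ε (MvPolynomial.pderiv i (u * f)) = ε u * ε (MvPolynomial.pderiv i f) := by
        intro i u
        rw [MvPolynomial.pderiv_mul, map_add, map_mul, map_mul, hfP, mul_zero, zero_add]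
      obtain ⟨u₁, hu₁⟩ := Ideal.mem_span_singleton'.mp
        (hmem (MvPolynomial.X 0 - MvPolynomial.C a) (by simp [hε]))
      obtain ⟨u₂, hu₂⟩ := Ideal.mem_span_singleton'.mp
        (hmem (MvPolynomial.X 1 - MvPolynomial.C b) (by simp [hε]))
      have d1 := hL 0 u₁
      have d2 := hL 1 u₁
      have d3 := hL 1 u₂
      rw [hu₁, map_sub, MvPolynomial.pderiv_X_self, MvPolynomial.pderiv_C, sub_zero, map_one] at d1
      rw [hu₁, map_sub, MvPolynomial.pderiv_X_of_ne (by decide), MvPolynomial.pderiv_C, sub_zero,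
        map_zero] at d2
      rw [hu₂, map_sub, MvPolynomial.pderiv_X_self, MvPolynomial.pderiv_C, sub_zero, map_one] at d3
      have hu0 : ε u₁ ≠ 0 := by
        intro h
        rw [h, zero_mul] at d1
        exact one_ne_zero d1
      rcases mul_eq_zero.mp d2.symm with h | h
      · exact hu0 h
      · rw [h, mul_zero] at d3
        exact one_ne_zero d3
    · refine ⟨x, hx, ?_⟩
      refine finiteDimensional_of_alg x y (isAlgebraic_of_dep x y hx fun hai => hnai ?_) htop
      refine (algebraicIndependent_equiv' e10 ?_).mpr hai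
      funext i
      fin_cases i <;> simp [e10]
  · refine ⟨y, hy, ?_⟩
    refine finiteDimensional_of_alg y x (isAlgebraic_of_dep y x hy fun hai => hnai ?_)
      (by rw [Set.pair_comm]; exact htop)
    refine (algebraicIndependent_equiv' e01 ?_).mpr hai
    funext i
    fin_cases i <;> simp [e01]

theorem exists_plane (hK : IsFunctionField k K) (hg : IsGeometric k K) :
    ∃ x y : K, adjoin k ({x, y} : Set K) = ⊤ := by
  obtain ⟨x, hx, hsep⟩ := exists_separating hK hg
  haveI := hsep
  haveI : FiniteDimensional k⟮x⟯ K :=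
    Groth.Agent.Lib.Helper23.FF.finiteDimensional_adjoin hK hx
  obtain ⟨y, hy⟩ := Field.exists_primitive_element k⟮x⟯ K
  refine ⟨x, y, ?_⟩
  have h1 := adjoin_adjoin_left k ({x} : Set K) ({y} : Set K)
  rw [hy, restrictScalars_top, Set.singleton_union] at h1
  exact h1.symm

theorem exists_prime_ker (hK : IsFunctionField k K) (x y : K)
    (hxy : adjoin k ({x, y} : Set K) = ⊤) :
    ∃ f : MvPolynomial (Fin 2) k, Prime f ∧
      RingHom.ker (MvPolynomial.aeval ![x, y] : MvPolynomial (Fin 2) k →ₐ[k] K)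
        = Ideal.span {f} := by
  obtain ⟨φ, hφ⟩ : ∃ φ : MvPolynomial (Fin 2) k →ₐ[k] K, φ = MvPolynomial.aeval ![x, y] :=
    ⟨_, rfl⟩
  rw [← hφ]
  have hne : RingHom.ker φ ≠ ⊥ := by
    rw [hφ]
    exact Groth.Agent.Lib.Helper23.FF.ker_planeEv_ne_bot hK x y
  haveI hp : (RingHom.ker φ).IsPrime := RingHom.ker_isPrime _
  obtain ⟨f, hfp, hf⟩ := Ideal.IsPrime.exists_mem_prime_of_ne_bot hp hne
  refine ⟨f, hf, ?_⟩
  by_contra hne'
  have hle : Ideal.span {f} ≤ RingHom.ker φ := (Ideal.span_singleton_le_iff_mem _).mpr hfp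
  have hlt : Ideal.span {f} < RingHom.ker φ := lt_of_le_of_ne hle (Ne.symm hne')
  haveI : (Ideal.span {f}).IsPrime := (Ideal.span_singleton_prime hf.ne_zero).mpr hf
  have hbot : (⊥ : Ideal (MvPolynomial (Fin 2) k)) < Ideal.span {f} := by
    rw [bot_lt_iff_ne_bot, Ne, Ideal.span_singleton_eq_bot]
    exact hf.ne_zero
  have hmax : (RingHom.ker φ).IsMaximal := by
    by_contra hnm
    obtain ⟨M, hM, hpM⟩ := Ideal.exists_le_maximal _ hp.ne_top
    have hpM' : RingHom.ker φ < M :=
      lt_of_le_of_ne hpM (by rintro h; exact hnm (h ▸ hM))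
    haveI := hM.isPrime
    have h1 := Ideal.height_add_one_le_of_lt_of_isPrime hbot
    have h2 := Ideal.height_add_one_le_of_lt_of_isPrime hlt
    have h3 := Ideal.height_add_one_le_of_lt_of_isPrime hpM'
    have h4 := Ideal.height_le_ringKrullDim_of_ne_top hM.ne_top
    rw [MvPolynomial.ringKrullDim_of_isNoetherianRing, ringKrullDim_eq_zero_of_field] at h4
    have h5 : (3 : ℕ∞) ≤ M.height := by
      calc (3 : ℕ∞) = 0 + 1 + 1 + 1 := by norm_num
        _ ≤ (⊥ : Ideal (MvPolynomial (Fin 2) k)).height + 1 + 1 + 1 := by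
            gcongr
            exact zero_le
        _ ≤ (Ideal.span {f}).height + 1 + 1 := by gcongr
        _ ≤ (RingHom.ker φ).height + 1 := by gcongr
        _ ≤ M.height := h3
    have h6 : (M.height : WithBot ℕ∞) ≤ 2 := by
      simpa using h4
    have h7 : ((3 : ℕ∞) : WithBot ℕ∞) ≤ (M.height : WithBot ℕ∞) := WithBot.coe_le_coe.mpr h5
    have h8 := h7.trans h6
    have h9 : ((3 : ℕ∞) : WithBot ℕ∞) ≤ ((2 : ℕ∞) : WithBot ℕ∞) := h8
    rw [WithBot.coe_le_coe] at h9
    exact absurd h9 (by norm_num)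
  -- Zariski's lemma: the quotient field is finite over `k`
  letI : Field (MvPolynomial (Fin 2) k ⧸ RingHom.ker φ) := Ideal.Quotient.field _
  haveI : Algebra.FiniteType k (MvPolynomial (Fin 2) k ⧸ RingHom.ker φ) :=
    Algebra.FiniteType.of_surjective (Ideal.Quotient.mkₐ k (RingHom.ker φ))
      (Ideal.Quotient.mkₐ_surjective k _)
  haveI : Module.Finite k (MvPolynomial (Fin 2) k ⧸ RingHom.ker φ) :=
    finite_of_finite_type_of_isJacobsonRing k _
  have halg : ∀ g : MvPolynomial (Fin 2) k, IsAlgebraic k (φ g) := by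
    intro g
    have h1 : IsIntegral k (Ideal.Quotient.mkₐ k (RingHom.ker φ) g) :=
      Algebra.IsIntegral.isIntegral _
    obtain ⟨p, hp, hp0⟩ := h1
    refine ⟨p, hp.ne_zero, ?_⟩
    have h2 : Ideal.Quotient.mkₐ k (RingHom.ker φ) (Polynomial.aeval g p) = 0 := by
      rw [← Polynomial.aeval_algHom_apply, Polynomial.aeval_def]
      exact hp0
    have h3 : Polynomial.aeval g p ∈ RingHom.ker φ := Ideal.Quotient.eq_zero_iff_mem.mp h2
    rw [Polynomial.aeval_algHom_apply]
    exact h3
  have hx : IsAlgebraic k x := by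
    have h1 := halg (MvPolynomial.X 0)
    rwa [hφ, MvPolynomial.aeval_X] at h1
  have hy : IsAlgebraic k y := by
    have h1 := halg (MvPolynomial.X 1)
    rwa [hφ, MvPolynomial.aeval_X] at h1
  haveI : Algebra.IsAlgebraic k (adjoin k ({x, y} : Set K)) :=
    isAlgebraic_adjoin (by
      rintro z (rfl | rfl)
      · exact hx.isIntegral
      · exact hy.isIntegral)
  obtain ⟨⟨x₀, hx₀, _⟩, _⟩ := hK
  have hx₀mem : x₀ ∈ adjoin k ({x, y} : Set K) := by
    rw [hxy]
    exact IntermediateField.mem_top
  have h1 : IsAlgebraic k (⟨x₀, hx₀mem⟩ : adjoin k ({x, y} : Set K)) :=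
    Algebra.IsAlgebraic.isAlgebraic _
  exact hx₀ (IsAlgebraic.algHom (adjoin k ({x, y} : Set K)).val h1)

theorem irreducible_map_of_isGeometric (hg : IsGeometric k K) (x y : K)
    {f : MvPolynomial (Fin 2) k} (hf0 : f ≠ 0)
    (hker : RingHom.ker (MvPolynomial.aeval ![x, y] : MvPolynomial (Fin 2) k →ₐ[k] K)
      = Ideal.span {f})
    (k' : Type u) [Field k'] [Algebra k k'] (hfd : FiniteDimensional k k') :
    Irreducible (MvPolynomial.map (algebraMap k k') f) := by
  haveI := hfd
  have hF := hg k' hfd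
  haveI : IsDomain (k' ⊗[k] K) := hF.isDomain
  have hprime : (RingHom.ker (evT k k' x y)).IsPrime := RingHom.ker_isPrime _
  rw [ker_evT k' x y hker] at hprime
  have hne : MvPolynomial.map (algebraMap k k') f ≠ 0 := fun h =>
    hf0 (MvPolynomial.map_injective _ (algebraMap k k').injective (by rw [h, map_zero]))
  exact ((Ideal.span_singleton_prime hne).mp hprime).irreducible

end Groth.Agent.Lib.Helper27.Geo
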