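import Mathlib

/-!
# ℤ-graded rings with a homogeneous unit of positive degree (helper27)

Basic facts: inverses and integer powers of homogeneous units are homogeneous; the normalised
coefficient maps `co n : R_n → R_0`.
-/

set_option autoImplicit false
universe u

namespace Groth.Agent.Lib.Helper27.GrUnit

open DirectSum

variable {R : Type u} [CommRing R] (𝒜 : ℤ → AddSubgroup R) [GradedRing 𝒜]

theorem unit_inv_mem {n : ℤ} (u : Rˣ) (hu : (u : R) ∈ 𝒜 n) : ((u⁻¹ : Rˣ) : R) ∈ 𝒜 (-n) := by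
  have h1 := DirectSum.coe_decompose_mul_add_of_left_mem 𝒜 (i := n) (j := -n)
    (b := ((u⁻¹ : Rˣ) : R)) hu
  rw [Units.mul_inv, add_neg_cancel] at h1
  have h2 : (decompose 𝒜 (1 : R) 0 : R) = 1 :=
    DirectSum.decompose_of_mem_same 𝒜 (SetLike.one_mem_graded 𝒜)
  rw [h2] at h1
  have h3 : ((u⁻¹ : Rˣ) : R) = (decompose 𝒜 ((u⁻¹ : Rˣ) : R) (-n) : R) := by
    have := congrArg (fun x => ((u⁻¹ : Rˣ) : R) * x) h1
    simp only [mul_one, ← mul_assoc, Units.inv_mul, one_mul] at this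
    exact this
  rw [h3]
  exact SetLike.coe_mem _

theorem unit_zpow_mem {n : ℤ} (u : Rˣ) (hu : (u : R) ∈ 𝒜 n) (q : ℤ) :
    ((u ^ q : Rˣ) : R) ∈ 𝒜 (q * n) := by
  induction q using Int.induction_on with
  | zero =>
    rw [zpow_zero, zero_mul]
    exact SetLike.one_mem_graded 𝒜
  | succ i ih =>
    rw [zpow_add_one, Units.val_mul, add_mul, one_mul]
    exact SetLike.mul_mem_graded ih hu
  | pred i ih =>
    rw [zpow_sub_one, Units.val_mul, sub_mul, one_mul, sub_eq_add_neg]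
    exact SetLike.mul_mem_graded ih (unit_inv_mem 𝒜 u hu)

variable (N : ℕ) (u : Rˣ)

/-- the normalised coefficient: `u^{-n/N} a` when `N ∣ n`, zero otherwise. -/
noncomputable def co (n : ℤ) (a : R) : R :=
  open Classical in if (N : ℤ) ∣ n then ((u ^ (-(n / N)) : Rˣ) : R) * a else 0

theorem co_of_dvd {n : ℤ} (h : (N : ℤ) ∣ n) (a : R) :
    co N u n a = ((u ^ (-(n / N)) : Rˣ) : R) * a := by
  rw [co, if_pos h]

theorem co_of_not_dvd {n : ℤ} (h : ¬ (N : ℤ) ∣ n) (a : R) : co N u n a = 0 := by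
  rw [co, if_neg h]

theorem co_zero (n : ℤ) : co N u n 0 = 0 := by
  by_cases h : (N : ℤ) ∣ n
  · rw [co_of_dvd N u h, mul_zero]
  · rw [co_of_not_dvd N u h]

theorem co_add (n : ℤ) (a b : R) : co N u n (a + b) = co N u n a + co N u n b := by
  by_cases h : (N : ℤ) ∣ n
  · rw [co_of_dvd N u h, co_of_dvd N u h, co_of_dvd N u h, mul_add]
  · rw [co_of_not_dvd N u h, co_of_not_dvd N u h, co_of_not_dvd N u h, add_zero]

variable {N u}

theorem co_mem (hu : (u : R) ∈ 𝒜 N) {n : ℤ} {a : R} (ha : a ∈ 𝒜 n) :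
    co N u n a ∈ 𝒜 0 := by
  by_cases h : (N : ℤ) ∣ n
  · rw [co_of_dvd N u h]
    have h1 := SetLike.mul_mem_graded (unit_zpow_mem 𝒜 u hu (-(n / N))) ha
    have h2 : -(n / (N : ℤ)) * N + n = 0 := by
      rw [neg_mul, Int.ediv_mul_cancel h, neg_add_cancel]
    rwa [h2] at h1
  · rw [co_of_not_dvd N u h]
    exact zero_mem _

theorem co_mul_of_dvd {i j : ℤ} (hi : (N : ℤ) ∣ i) (hj : (N : ℤ) ∣ j) (a b : R) :
    co N u (i + j) (a * b) = co N u i a * co N u j b := by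
  rw [co_of_dvd N u hi, co_of_dvd N u hj, co_of_dvd N u (dvd_add hi hj),
    Int.add_ediv_of_dvd_left hi, neg_add, zpow_add, Units.val_mul]
  ring

theorem co_unit (hN : 0 < N) : co N u (N : ℤ) (u : R) = 1 := by
  have hN' : (N : ℤ) ≠ 0 := by exact_mod_cast hN.ne'
  rw [co_of_dvd N u (dvd_refl _), Int.ediv_self hN', zpow_neg, zpow_one, Units.inv_mul]

theorem co_one : co N u 0 (1 : R) = 1 := by
  rw [co_of_dvd N u (dvd_zero _), Int.zero_ediv, neg_zero, zpow_zero, Units.val_one, one_mul]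

/-- `co` on degree zero is the identity. -/
theorem co_deg_zero (a : R) : co N u 0 a = a := by
  rw [co_of_dvd N u (dvd_zero _), Int.zero_ediv, neg_zero, zpow_zero, Units.val_one, one_mul]

/-- the key estimate: products of elements from degrees not divisible by `N` landing in a
degree divisible by `N` have coefficient in the maximal ideal of `R_0`. -/
theorem co_mul_mem_maximalIdeal (hN : 0 < N) (hu : (u : R) ∈ 𝒜 N)
    [IsLocalRing (SetLike.GradeZero.subring 𝒜)]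
    (hm : ∀ (i j : ℤ), 0 < i → 0 < j → i + j = (N : ℤ) → ∀ a ∈ 𝒜 i, ∀ b ∈ 𝒜 j,
      ∃ c : SetLike.GradeZero.subring 𝒜,
        c ∈ IsLocalRing.maximalIdeal (SetLike.GradeZero.subring 𝒜) ∧ a * b = (c : R) * u)
    {i j : ℤ} (hi : ¬ (N : ℤ) ∣ i) (hij : (N : ℤ) ∣ i + j) {a b : R} (ha : a ∈ 𝒜 i)
    (hb : b ∈ 𝒜 j) :
    ∃ c : SetLike.GradeZero.subring 𝒜,
      c ∈ IsLocalRing.maximalIdeal (SetLike.GradeZero.subring 𝒜) ∧
        co N u (i + j) (a * b) = (c : R) := by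
  have hNpos : (0 : ℤ) < N := by exact_mod_cast hN
  set p := i / (N : ℤ) with hp
  set q := (i + j) / (N : ℤ) with hq
  have hi' : 0 < i % (N : ℤ) :=
    (Int.emod_pos_of_not_dvd hi).resolve_left hNpos.ne'
  have hi'' : i % (N : ℤ) < N := Int.emod_lt_of_pos i hNpos
  have hdiv : (N : ℤ) * p + i % (N : ℤ) = i := Int.mul_ediv_add_emod i N
  have hqN : q * (N : ℤ) = i + j := Int.ediv_mul_cancel hij
  have ha' : ((u ^ (-p) : Rˣ) : R) * a ∈ 𝒜 (i % (N : ℤ)) := by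
    have h1 := SetLike.mul_mem_graded (unit_zpow_mem 𝒜 u hu (-p)) ha
    have h2 : -p * (N : ℤ) + i = i % (N : ℤ) := by linarith
    rwa [h2] at h1
  have hb' : ((u ^ (-(q - p - 1)) : Rˣ) : R) * b ∈ 𝒜 ((N : ℤ) - i % (N : ℤ)) := by
    have h1 := SetLike.mul_mem_graded (unit_zpow_mem 𝒜 u hu (-(q - p - 1))) hb
    have h2 : -(q - p - 1) * (N : ℤ) + j = (N : ℤ) - i % (N : ℤ) := by
      have : j = q * (N : ℤ) - i := by linarith
      rw [this]
      nlinarith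
    rwa [h2] at h1
  obtain ⟨c, hc, hcu⟩ := hm (i % (N : ℤ)) ((N : ℤ) - i % (N : ℤ)) hi' (by linarith) (by ring)
    _ ha' _ hb'
  refine ⟨c, hc, ?_⟩
  rw [co_of_dvd N u hij, ← hq]
  have h3 : ((u ^ (-q) : Rˣ) : R) = ((u⁻¹ : Rˣ) : R) * (((u ^ (-p) : Rˣ) : R) *
      ((u ^ (-(q - p - 1)) : Rˣ) : R)) := by
    rw [← Units.val_mul, ← Units.val_mul, ← zpow_neg_one, ← zpow_add, ← zpow_add]
    congr 2
    ring
  rw [h3]
  calc ((u⁻¹ : Rˣ) : R) * (((u ^ (-p) : Rˣ) : R) * ((u ^ (-(q - p - 1)) : Rˣ) : R)) * (a * b)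
      = ((u⁻¹ : Rˣ) : R) * ((((u ^ (-p) : Rˣ) : R) * a) *
          (((u ^ (-(q - p - 1)) : Rˣ) : R) * b)) := by ring
    _ = ((u⁻¹ : Rˣ) : R) * ((c : R) * u) := by rw [hcu]
    _ = (c : R) := by
      rw [mul_comm (c : R), ← mul_assoc, Units.inv_mul, one_mul]

end Groth.Agent.Lib.Helper27.GrUnit
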