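import Mathlib
import Groth.Agent.Lib.Helper27.GrUnitA

/-!
# The ring hom to dual numbers attached to a ℤ-graded ring with a homogeneous unit (helper27)
-/

set_option autoImplicit false
universe u

namespace Groth.Agent.Lib.Helper27.GrUnit

open DirectSum

variable {R : Type u} [CommRing R] (𝒜 : ℤ → AddSubgroup R) [GradedRing 𝒜]
variable {N : ℕ} {u : Rˣ} (hu : (u : R) ∈ 𝒜 N)

/-- the coefficient map `R_n → R_0`. -/
noncomputable def coef (n : ℤ) : 𝒜 n →+ SetLike.GradeZero.subring 𝒜 where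
  toFun a := ⟨co N u n (a : R), co_mem 𝒜 hu a.2⟩
  map_zero' := Subtype.ext (co_zero N u n)
  map_add' a b := Subtype.ext (co_add N u n a b)

@[simp] theorem coe_coef (n : ℤ) (a : 𝒜 n) : ((coef 𝒜 hu n a : SetLike.GradeZero.subring 𝒜) : R) =
    co N u n (a : R) := rfl

/-- the sum of the coefficient maps, `R → R_0`. -/
noncomputable def gam : R →+ SetLike.GradeZero.subring 𝒜 :=
  (DirectSum.toAddMonoid (coef 𝒜 hu)).comp (DirectSum.decomposeAddEquiv 𝒜).toAddMonoidHom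

theorem gam_of_mem {n : ℤ} {a : R} (ha : a ∈ 𝒜 n) :
    gam 𝒜 hu a = coef 𝒜 hu n ⟨a, ha⟩ := by
  rw [gam, AddMonoidHom.comp_apply]
  change DirectSum.toAddMonoid (coef 𝒜 hu) (DirectSum.decompose 𝒜 a) = _
  rw [DirectSum.decompose_of_mem 𝒜 ha, DirectSum.toAddMonoid_of]

variable [IsLocalRing (SetLike.GradeZero.subring 𝒜)]

/-- the residue field of `R_0`. -/
abbrev kk : Type u := IsLocalRing.ResidueField (SetLike.GradeZero.subring 𝒜)

/-- `x ↦ x + z x ε`. -/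
noncomputable def emb (z : ℤ) : kk 𝒜 →+ DualNumber (kk 𝒜) where
  toFun x := TrivSqZeroExt.inl x + TrivSqZeroExt.inr (z • x)
  map_zero' := by simp
  map_add' x y := by
    simp only [TrivSqZeroExt.inl_add, smul_add, TrivSqZeroExt.inr_add]
    abel

/-- the components of the ring hom to the dual numbers. -/
noncomputable def ff (n : ℤ) : 𝒜 n →+ DualNumber (kk 𝒜) :=
  (emb 𝒜 (n / (N : ℤ))).comp
    ((IsLocalRing.residue (SetLike.GradeZero.subring 𝒜)).toAddMonoidHom.comp (coef 𝒜 hu n))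

theorem fst_ff (n : ℤ) (a : 𝒜 n) :
    (ff 𝒜 hu n a).fst = IsLocalRing.residue _ (coef 𝒜 hu n a) := by
  simp [ff, emb]

theorem snd_ff (n : ℤ) (a : 𝒜 n) :
    (ff 𝒜 hu n a).snd = (n / (N : ℤ)) • IsLocalRing.residue _ (coef 𝒜 hu n a) := by
  simp [ff, emb]

variable (hN : 0 < N)
  (hm : ∀ (i j : ℤ), 0 < i → 0 < j → i + j = (N : ℤ) → ∀ a ∈ 𝒜 i, ∀ b ∈ 𝒜 j,
      ∃ c : SetLike.GradeZero.subring 𝒜,
        c ∈ IsLocalRing.maximalIdeal (SetLike.GradeZero.subring 𝒜) ∧ a * b = (c : R) * u)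

include hN hm in
/-- multiplicativity of the residues of the coefficients. -/
theorem residue_coef_mul {i j : ℤ} (a : 𝒜 i) (b : 𝒜 j) :
    IsLocalRing.residue _ (coef 𝒜 hu (i + j) ⟨(a : R) * b, SetLike.mul_mem_graded a.2 b.2⟩) =
      IsLocalRing.residue _ (coef 𝒜 hu i a) * IsLocalRing.residue _ (coef 𝒜 hu j b) := by
  by_cases hi : (N : ℤ) ∣ i
  · by_cases hj : (N : ℤ) ∣ j
    · rw [← map_mul]
      congr 1
      apply Subtype.ext
      rw [Subring.coe_mul, coe_coef, coe_coef, coe_coef]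
      exact co_mul_of_dvd hi hj _ _
    · have h1 : ¬ (N : ℤ) ∣ i + j := fun h => hj ((Int.dvd_add_right hi).mp h)
      have h2 : coef 𝒜 hu (i + j) ⟨(a : R) * b, SetLike.mul_mem_graded a.2 b.2⟩ = 0 :=
        Subtype.ext (co_of_not_dvd N u h1 _)
      have h3 : coef 𝒜 hu j b = 0 := Subtype.ext (co_of_not_dvd N u hj _)
      rw [h2, h3, map_zero, mul_zero]
  · have h3 : coef 𝒜 hu i a = 0 := Subtype.ext (co_of_not_dvd N u hi _)
    rw [h3, map_zero, zero_mul]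
    by_cases hij : (N : ℤ) ∣ i + j
    · obtain ⟨c, hc, hcu⟩ := co_mul_mem_maximalIdeal 𝒜 hN hu hm hi hij a.2 b.2
      have h4 : coef 𝒜 hu (i + j) ⟨(a : R) * b, SetLike.mul_mem_graded a.2 b.2⟩ = c := by
        apply Subtype.ext
        rw [coe_coef]
        exact hcu
      rw [h4]
      exact (IsLocalRing.residue_eq_zero_iff c).2 hc
    · have h2 : coef 𝒜 hu (i + j) ⟨(a : R) * b, SetLike.mul_mem_graded a.2 b.2⟩ = 0 :=
        Subtype.ext (co_of_not_dvd N u hij _)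
      rw [h2, map_zero]

include hN hm in
theorem ff_mul {i j : ℤ} (a : 𝒜 i) (b : 𝒜 j) :
    ff 𝒜 hu (i + j) ⟨(a : R) * b, SetLike.mul_mem_graded a.2 b.2⟩ = ff 𝒜 hu i a * ff 𝒜 hu j b := by
  have hG := residue_coef_mul 𝒜 hu hN hm a b
  apply TrivSqZeroExt.ext
  · rw [TrivSqZeroExt.fst_mul, fst_ff, fst_ff, fst_ff, hG]
  · rw [TrivSqZeroExt.snd_mul, snd_ff, snd_ff, snd_ff, fst_ff, fst_ff, hG]
    simp only [smul_eq_mul, MulOpposite.smul_eq_mul_unop, MulOpposite.unop_op, zsmul_eq_mul]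
    by_cases hi : (N : ℤ) ∣ i
    · by_cases hj : (N : ℤ) ∣ j
      · rw [Int.add_ediv_of_dvd_left hi]
        push_cast
        ring
      · have h3 : coef 𝒜 hu j b = 0 := Subtype.ext (co_of_not_dvd N u hj _)
        rw [h3, map_zero]
        ring
    · have h3 : coef 𝒜 hu i a = 0 := Subtype.ext (co_of_not_dvd N u hi _)
      rw [h3, map_zero]
      ring

theorem ff_one : ff 𝒜 hu 0 ⟨1, SetLike.one_mem_graded 𝒜⟩ = 1 := by
  have h1 : coef 𝒜 hu 0 ⟨1, SetLike.one_mem_graded 𝒜⟩ = 1 := by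
    apply Subtype.ext
    rw [coe_coef]
    exact co_one
  apply TrivSqZeroExt.ext
  · rw [fst_ff, h1, map_one, TrivSqZeroExt.fst_one]
  · rw [snd_ff, Int.zero_ediv, zero_smul, TrivSqZeroExt.snd_one]

/-- the ring hom `R → k[ε]`. -/
noncomputable def Theta : R →+* DualNumber (kk 𝒜) :=
  (DirectSum.toSemiring (ff 𝒜 hu) (ff_one 𝒜 hu)
    (fun a b => ff_mul 𝒜 hu hN hm a b)).comp (DirectSum.decomposeRingEquiv 𝒜).toRingHom

theorem Theta_of_mem {n : ℤ} {a : R} (ha : a ∈ 𝒜 n) :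
    Theta 𝒜 hu hN hm a = ff 𝒜 hu n ⟨a, ha⟩ := by
  rw [Theta, RingHom.comp_apply]
  change DirectSum.toSemiring (ff 𝒜 hu) _ _ (DirectSum.decompose 𝒜 a) = _
  rw [DirectSum.decompose_of_mem 𝒜 ha, DirectSum.toSemiring_of]

/-- the first component of `Theta` is the residue of `gam`. -/
theorem fst_Theta (r : R) :
    (Theta 𝒜 hu hN hm r).fst = IsLocalRing.residue _ (gam 𝒜 hu r) := by
  induction r using DirectSum.Decomposition.inductionOn 𝒜 with
  | zero => simp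
  | homogeneous a =>
    rw [Theta_of_mem 𝒜 hu hN hm a.2, gam_of_mem 𝒜 hu a.2, fst_ff]
  | add x y hx hy =>
    rw [map_add, TrivSqZeroExt.fst_add, hx, hy, map_add, map_add]

/-- the ring hom `φ : R → k`. -/
noncomputable def phi : R →+* kk 𝒜 :=
  (TrivSqZeroExt.fstHom (kk 𝒜) (kk 𝒜) (kk 𝒜)).toRingHom.comp (Theta 𝒜 hu hN hm)

theorem phi_apply (r : R) : phi 𝒜 hu hN hm r = IsLocalRing.residue _ (gam 𝒜 hu r) := by
  rw [phi, RingHom.comp_apply]
  exact fst_Theta 𝒜 hu hN hm r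

theorem phi_coe (c : SetLike.GradeZero.subring 𝒜) :
    phi 𝒜 hu hN hm (c : R) = IsLocalRing.residue _ c := by
  rw [phi_apply, gam_of_mem 𝒜 hu (n := 0) c.2]
  congr 1
  apply Subtype.ext
  rw [coe_coef]
  exact co_deg_zero _

theorem phi_surjective : Function.Surjective (phi 𝒜 hu hN hm) := by
  intro x
  obtain ⟨c, rfl⟩ := IsLocalRing.residue_surjective x
  exact ⟨c, phi_coe 𝒜 hu hN hm c⟩

theorem Theta_unit : Theta 𝒜 hu hN hm (u : R) = 1 + TrivSqZeroExt.inr 1 := by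
  rw [Theta_of_mem 𝒜 hu hN hm hu]
  have hN' : (N : ℤ) ≠ 0 := by exact_mod_cast hN.ne'
  have h1 : coef 𝒜 hu N ⟨(u : R), hu⟩ = 1 := by
    apply Subtype.ext
    rw [coe_coef]
    exact co_unit hN
  apply TrivSqZeroExt.ext
  · rw [fst_ff, h1, map_one]
    simp
  · rw [snd_ff, h1, map_one, Int.ediv_self hN']
    simp

end Groth.Agent.Lib.Helper27.GrUnit
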