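import Mathlib
import Groth.Agent.Lib.Helper27.GrUnitB
import Groth.Agent.Lib.Helper5.RegQuot

/-!
# `R/(t-1)` is a regular local ring (helper27)
-/

set_option autoImplicit false
universe u

namespace Groth.Agent.Lib.Helper27.GrUnit

open DirectSum

variable {R : Type u} [CommRing R] (𝒜 : ℤ → AddSubgroup R) [GradedRing 𝒜]
variable {N : ℕ} {u : Rˣ} (hu : (u : R) ∈ 𝒜 N)

section mk

/-- integer powers of `u` become `1` modulo `u - 1`. -/
theorem mk_zpow (q : ℤ) :
    Ideal.Quotient.mk (Ideal.span {(u : R) - 1}) ((u ^ q : Rˣ) : R) = 1 := by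
  have h1 : Units.map (Ideal.Quotient.mk (Ideal.span {(u : R) - 1})).toMonoidHom u = 1 := by
    apply Units.ext
    rw [Units.coe_map, Units.val_one]
    change Ideal.Quotient.mk _ (u : R) = 1
    rw [← sub_eq_zero, ← map_one (Ideal.Quotient.mk (Ideal.span {(u : R) - 1})), ← map_sub,
      Ideal.Quotient.eq_zero_iff_mem]
    exact Ideal.subset_span rfl
  have h2 : Units.map (Ideal.Quotient.mk (Ideal.span {(u : R) - 1})).toMonoidHom (u ^ q) = 1 := by
    rw [map_zpow, h1, one_zpow]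
  have h3 := congrArg Units.val h2
  rwa [Units.coe_map, Units.val_one] at h3

theorem mk_co_of_dvd {n : ℤ} (h : (N : ℤ) ∣ n) (x : R) :
    Ideal.Quotient.mk (Ideal.span {(u : R) - 1}) (co N u n x) =
      Ideal.Quotient.mk (Ideal.span {(u : R) - 1}) x := by
  rw [co_of_dvd N u h, map_mul, mk_zpow, one_mul]

end mk

variable (hN : 0 < N)

include hN hu in
/-- `R/(u-1)` is integral over `R_0`. -/
theorem isIntegral_quot :
    Algebra.IsIntegral (SetLike.GradeZero.subring 𝒜) (R ⧸ Ideal.span {(u : R) - 1}) := by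
  constructor
  intro x
  obtain ⟨r, rfl⟩ := Ideal.Quotient.mk_surjective x
  induction r using DirectSum.Decomposition.inductionOn 𝒜 with
  | zero => rw [map_zero]; exact isIntegral_zero
  | add x y hx hy => rw [map_add]; exact hx.add hy
  | @homogeneous n a =>
    apply IsIntegral.of_pow hN
    have h1 : ((a : R) ^ N) ∈ 𝒜 ((N : ℤ) * n) := by
      have := SetLike.pow_mem_graded N a.2
      rwa [nsmul_eq_mul] at this
    have h2 : co N u ((N : ℤ) * n) ((a : R) ^ N) ∈ 𝒜 0 := co_mem 𝒜 hu h1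
    have h3 : (Ideal.Quotient.mk (Ideal.span {(u : R) - 1}) (a : R)) ^ N =
        algebraMap (SetLike.GradeZero.subring 𝒜) (R ⧸ Ideal.span {(u : R) - 1})
          ⟨co N u ((N : ℤ) * n) ((a : R) ^ N), h2⟩ := by
      rw [← map_pow, ← mk_co_of_dvd (dvd_mul_right _ _)]
      rfl
    rw [h3]
    exact isIntegral_algebraMap

variable [IsLocalRing (SetLike.GradeZero.subring 𝒜)]
  (hm : ∀ (i j : ℤ), 0 < i → 0 < j → i + j = (N : ℤ) → ∀ a ∈ 𝒜 i, ∀ b ∈ 𝒜 j,
      ∃ c : SetLike.GradeZero.subring 𝒜,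
        c ∈ IsLocalRing.maximalIdeal (SetLike.GradeZero.subring 𝒜) ∧ a * b = (c : R) * u)

include hN hu in
theorem mk_mem_of_mem_maximalIdeal (M : Ideal (R ⧸ Ideal.span {(u : R) - 1})) [M.IsMaximal]
    (c : SetLike.GradeZero.subring 𝒜)
    (hc : c ∈ IsLocalRing.maximalIdeal (SetLike.GradeZero.subring 𝒜)) :
    Ideal.Quotient.mk (Ideal.span {(u : R) - 1}) (c : R) ∈ M := by
  haveI := isIntegral_quot 𝒜 hu hN
  have h1 : (M.comap (algebraMap (SetLike.GradeZero.subring 𝒜)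
      (R ⧸ Ideal.span {(u : R) - 1}))).IsMaximal :=
    Ideal.isMaximal_comap_of_isIntegral_of_isMaximal M
  have h2 := IsLocalRing.eq_maximalIdeal h1
  rw [← h2] at hc
  exact hc

include hN hm in
theorem mk_sub_gam_mem (M : Ideal (R ⧸ Ideal.span {(u : R) - 1})) [M.IsMaximal] (r : R) :
    Ideal.Quotient.mk (Ideal.span {(u : R) - 1}) r -
      Ideal.Quotient.mk (Ideal.span {(u : R) - 1}) ((gam 𝒜 hu r : SetLike.GradeZero.subring 𝒜) : R)
        ∈ M := by
  induction r using DirectSum.Decomposition.inductionOn 𝒜 with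
  | zero => simp
  | add x y hx hy =>
    have : Ideal.Quotient.mk (Ideal.span {(u : R) - 1}) (x + y) -
        Ideal.Quotient.mk (Ideal.span {(u : R) - 1})
          ((gam 𝒜 hu (x + y) : SetLike.GradeZero.subring 𝒜) : R) =
        (Ideal.Quotient.mk (Ideal.span {(u : R) - 1}) x -
          Ideal.Quotient.mk (Ideal.span {(u : R) - 1})
            ((gam 𝒜 hu x : SetLike.GradeZero.subring 𝒜) : R)) +
        (Ideal.Quotient.mk (Ideal.span {(u : R) - 1}) y -
          Ideal.Quotient.mk (Ideal.span {(u : R) - 1})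
            ((gam 𝒜 hu y : SetLike.GradeZero.subring 𝒜) : R)) := by
      rw [map_add, map_add, Subring.coe_add, map_add]
      ring
    rw [this]
    exact M.add_mem hx hy
  | @homogeneous n a =>
    rw [gam_of_mem 𝒜 hu a.2, coe_coef]
    by_cases hn : (N : ℤ) ∣ n
    · rw [mk_co_of_dvd hn, sub_self]
      exact M.zero_mem
    · rw [co_of_not_dvd N u hn, map_zero, sub_zero]
      have h1 : ((a : R) ^ (N - 1)) ∈ 𝒜 (((N - 1 : ℕ) : ℤ) * n) := by
        have := SetLike.pow_mem_graded (N - 1) a.2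
        rwa [nsmul_eq_mul] at this
      have h2 : (N : ℤ) ∣ n + ((N - 1 : ℕ) : ℤ) * n := by
        refine ⟨n, ?_⟩
        rw [Nat.cast_sub hN, Nat.cast_one]
        ring
      obtain ⟨c, hc, hcu⟩ := co_mul_mem_maximalIdeal 𝒜 hN hu hm hn h2 a.2 h1
      have h3 : (Ideal.Quotient.mk (Ideal.span {(u : R) - 1}) (a : R)) ^ N ∈ M := by
        have h4 : (a : R) ^ N = (a : R) * (a : R) ^ (N - 1) := by
          rw [← pow_succ', Nat.sub_add_cancel hN]
        rw [← map_pow, h4, ← mk_co_of_dvd h2, hcu]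
        exact mk_mem_of_mem_maximalIdeal 𝒜 hu hN M c hc
      exact Ideal.IsPrime.mem_of_pow_mem inferInstance N h3

include hN hm in
/-- an element of the kernel of `φ` lies in every maximal ideal containing `u - 1`. -/
theorem mk_mem_of_phi_eq_zero (M : Ideal (R ⧸ Ideal.span {(u : R) - 1})) [M.IsMaximal] (r : R)
    (hr : phi 𝒜 hu hN hm r = 0) :
    Ideal.Quotient.mk (Ideal.span {(u : R) - 1}) r ∈ M := by
  have h1 := mk_sub_gam_mem 𝒜 hu hN hm M r
  rw [phi_apply, IsLocalRing.residue_eq_zero_iff] at hr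
  have h2 := mk_mem_of_mem_maximalIdeal 𝒜 hu hN M _ hr
  have := M.add_mem h1 h2
  rwa [sub_add_cancel] at this

theorem phi_unit : phi 𝒜 hu hN hm (u : R) = 1 := by
  rw [phi, RingHom.comp_apply, Theta_unit]
  simp

/-- the induced map `R/(u-1) → k`. -/
noncomputable def phiBar : (R ⧸ Ideal.span {(u : R) - 1}) →+* kk 𝒜 :=
  Ideal.Quotient.lift _ (phi 𝒜 hu hN hm) (by
    intro a ha
    obtain ⟨b, rfl⟩ := Ideal.mem_span_singleton'.1 ha
    rw [map_mul, map_sub, phi_unit, map_one, sub_self, mul_zero])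

theorem phiBar_mk (r : R) : phiBar 𝒜 hu hN hm (Ideal.Quotient.mk _ r) = phi 𝒜 hu hN hm r := rfl

theorem phiBar_surjective : Function.Surjective (phiBar 𝒜 hu hN hm) := by
  intro x
  obtain ⟨r, rfl⟩ := phi_surjective 𝒜 hu hN hm x
  exact ⟨Ideal.Quotient.mk _ r, rfl⟩

include hu hN hm in
/-- `R/(u-1)` is a local ring. -/
theorem isLocalRing_quot : IsLocalRing (R ⧸ Ideal.span {(u : R) - 1}) := by
  haveI hmax : (RingHom.ker (phiBar 𝒜 hu hN hm)).IsMaximal :=
    RingHom.ker_isMaximal_of_surjective _ (phiBar_surjective 𝒜 hu hN hm)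
  refine IsLocalRing.of_unique_max_ideal ⟨RingHom.ker (phiBar 𝒜 hu hN hm), hmax, ?_⟩
  intro M hM
  haveI : M.IsMaximal := hM
  have hle : RingHom.ker (phiBar 𝒜 hu hN hm) ≤ M := by
    intro x hx
    obtain ⟨r, rfl⟩ := Ideal.Quotient.mk_surjective x
    rw [RingHom.mem_ker, phiBar_mk] at hx
    exact mk_mem_of_phi_eq_zero 𝒜 hu hN hm M r hx
  exact (hmax.eq_of_le hM.ne_top hle).symm

theorem maximalIdeal_quot_eq [IsLocalRing (R ⧸ Ideal.span {(u : R) - 1})] :
    IsLocalRing.maximalIdeal (R ⧸ Ideal.span {(u : R) - 1}) =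
      RingHom.ker (phiBar 𝒜 hu hN hm) := by
  haveI hmax : (RingHom.ker (phiBar 𝒜 hu hN hm)).IsMaximal :=
    RingHom.ker_isMaximal_of_surjective _ (phiBar_surjective 𝒜 hu hN hm)
  exact (IsLocalRing.eq_maximalIdeal hmax).symm

/-- `Θ` kills the square of the kernel of `φ`. -/
theorem Theta_eq_zero_of_mem_sq (x : R) (hx : x ∈ RingHom.ker (phi 𝒜 hu hN hm) ^ 2) :
    Theta 𝒜 hu hN hm x = 0 := by
  have h1 : RingHom.ker (phi 𝒜 hu hN hm) ^ 2 ≤ RingHom.ker (Theta 𝒜 hu hN hm) := by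
    rw [pow_two, Ideal.mul_le]
    intro r hr s hs
    rw [RingHom.mem_ker, phi, RingHom.comp_apply] at hr hs
    have hr' : (Theta 𝒜 hu hN hm r).fst = 0 := hr
    have hs' : (Theta 𝒜 hu hN hm s).fst = 0 := hs
    rw [RingHom.mem_ker, map_mul]
    apply TrivSqZeroExt.ext
    · rw [TrivSqZeroExt.fst_mul, hr', zero_mul, TrivSqZeroExt.fst_zero]
    · rw [TrivSqZeroExt.snd_mul, hr', hs']
      simp
  exact h1 hx

theorem mul_sub_one_notMem_sq (s : R) (hs : s ∉ RingHom.ker (phi 𝒜 hu hN hm)) :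
    s * ((u : R) - 1) ∉ RingHom.ker (phi 𝒜 hu hN hm) ^ 2 := by
  intro hmem
  have h1 := Theta_eq_zero_of_mem_sq 𝒜 hu hN hm _ hmem
  rw [map_mul, map_sub, map_one, Theta_unit, add_sub_cancel_left] at h1
  have h2 := congrArg TrivSqZeroExt.snd h1
  rw [TrivSqZeroExt.snd_mul] at h2
  simp only [TrivSqZeroExt.snd_inr, TrivSqZeroExt.fst_inr, smul_eq_mul, mul_one,
    TrivSqZeroExt.snd_zero, MulOpposite.smul_eq_mul_unop, MulOpposite.unop_op, mul_zero,
    add_zero] at h2
  apply hs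
  rw [RingHom.mem_ker, phi, RingHom.comp_apply]
  exact h2

end Groth.Agent.Lib.Helper27.GrUnit
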