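import Mathlib
import Groth.Agent.Lib.Helper27.GrUnitC

/-!
# `R/(t-1)` is a regular local ring: assembly (helper27)
-/

set_option autoImplicit false
universe u

namespace Groth.Agent.Lib.Helper27.GrUnit

open DirectSum

variable {R : Type u} [CommRing R] (𝒜 : ℤ → AddSubgroup R) [GradedRing 𝒜]
variable {N : ℕ} {u : Rˣ} (hu : (u : R) ∈ 𝒜 N) (hN : 0 < N)
variable [IsLocalRing (SetLike.GradeZero.subring 𝒜)]
  (hm : ∀ (i j : ℤ), 0 < i → 0 < j → i + j = (N : ℤ) → ∀ a ∈ 𝒜 i, ∀ b ∈ 𝒜 j,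
      ∃ c : SetLike.GradeZero.subring 𝒜,
        c ∈ IsLocalRing.maximalIdeal (SetLike.GradeZero.subring 𝒜) ∧ a * b = (c : R) * u)

include hu hN hm in
/-- Let `R` be a ℤ-graded ring with local `R_0`, `u` a homogeneous unit of degree `N > 0` such that
`R_i R_j ⊆ 𝔪₀ u` for positive `i + j = N`. If the localizations of `R` at primes are regular, then
`R/(u-1)` is a regular local ring. -/
theorem isRegularLocalRing_quot
    (hreg : ∀ (p : Ideal R) [p.IsPrime], IsRegularLocalRing (Localization.AtPrime p)) :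
    IsRegularLocalRing (R ⧸ Ideal.span {(u : R) - 1}) := by
  classical
  haveI hloc : IsLocalRing (R ⧸ Ideal.span {(u : R) - 1}) := isLocalRing_quot 𝒜 hu hN hm
  set P : Ideal R := RingHom.ker (phi 𝒜 hu hN hm) with hP
  haveI hPmax : P.IsMaximal :=
    RingHom.ker_isMaximal_of_surjective _ (phi_surjective 𝒜 hu hN hm)
  haveI hPprime : P.IsPrime := hPmax.isPrime
  haveI : IsRegularLocalRing (Localization.AtPrime P) := hreg P
  set S := Localization.AtPrime P with hS
  set x : S := algebraMap R S ((u : R) - 1) with hx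
  have huP : (u : R) - 1 ∈ P := by
    rw [hP, RingHom.mem_ker, map_sub, phi_unit, map_one, sub_self]
  have hxm : x ∈ IsLocalRing.maximalIdeal S :=
    (IsLocalization.AtPrime.to_map_mem_maximal_iff S P _).2 huP
  have hx2 : x ∉ IsLocalRing.maximalIdeal S ^ 2 := by
    intro hmem
    rw [← IsLocalization.AtPrime.map_eq_maximalIdeal P S, ← Ideal.map_pow] at hmem
    obtain ⟨⟨a, s⟩, h⟩ := (IsLocalization.mem_map_algebraMap_iff P.primeCompl S).1 hmem
    rw [hx, ← map_mul] at h
    obtain ⟨c, hc⟩ := (IsLocalization.eq_iff_exists P.primeCompl S).1 h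
    have h1 : ((c : R) * (s : R)) * ((u : R) - 1) ∈ P ^ 2 := by
      have : ((c : R) * (s : R)) * ((u : R) - 1) = (c : R) * (a : R) := by
        rw [← hc]; ring
      rw [this]
      exact Ideal.mul_mem_left _ _ a.2
    exact mul_sub_one_notMem_sq 𝒜 hu hN hm _ (c * s).2 h1
  obtain ⟨hregq, -⟩ := Groth.Agent.Lib.Helper5.RegQuot.quotient_singleton S x hxm hx2
  have hmap : (Ideal.span {(u : R) - 1}).map (algebraMap R S) = Ideal.span {x} := by
    rw [Ideal.map_span, Set.image_singleton]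
  have hunits : Algebra.algebraMapSubmonoid (R ⧸ Ideal.span {(u : R) - 1}) P.primeCompl ≤
      IsUnit.submonoid (R ⧸ Ideal.span {(u : R) - 1}) := by
    rintro _ ⟨y, hy, rfl⟩
    change IsUnit (Ideal.Quotient.mk _ y)
    by_contra hnu
    have h1 : Ideal.Quotient.mk (Ideal.span {(u : R) - 1}) y ∈
        IsLocalRing.maximalIdeal (R ⧸ Ideal.span {(u : R) - 1}) := hnu
    rw [maximalIdeal_quot_eq 𝒜 hu hN hm, RingHom.mem_ker, phiBar_mk] at h1
    exact hy h1
  let e : (R ⧸ Ideal.span {(u : R) - 1}) ≃ₐ[R ⧸ Ideal.span {(u : R) - 1}]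
      (S ⧸ (Ideal.span {(u : R) - 1}).map (algebraMap R S)) :=
    IsLocalization.atUnits (R ⧸ Ideal.span {(u : R) - 1})
      (Algebra.algebraMapSubmonoid (R ⧸ Ideal.span {(u : R) - 1}) P.primeCompl) hunits
  let e2 : (S ⧸ Ideal.span {x}) ≃+* (R ⧸ Ideal.span {(u : R) - 1}) :=
    (Ideal.quotEquivOfEq hmap.symm).trans e.symm.toRingEquiv
  exact IsRegularLocalRing.of_ringEquiv e2

end Groth.Agent.Lib.Helper27.GrUnit
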