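import Mathlib
import Groth.Agent.Lib.Helper27.GrUnitA

/-!
# `R[U]/(U^N - t) ≅ (R/(t-1))[X, X⁻¹]` for a ℤ-graded ring with a homogeneous unit `t` (helper27)
-/

set_option autoImplicit false
universe u

namespace Groth.Agent.Lib.Helper27.GrUnit

open DirectSum Polynomial

variable {R : Type u} [CommRing R] (𝒜 : ℤ → AddSubgroup R) [GradedRing 𝒜]

section general

variable {T : Type u} [CommRing T]

/-- ring homs out of a graded ring are determined by homogeneous elements. -/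
theorem ringHom_ext_homogeneous {T' : Type*} [Semiring T'] {f g : R →+* T'}
    (h : ∀ (n : ℤ) (a : 𝒜 n), f (a : R) = g (a : R)) : f = g := by
  refine RingHom.ext fun r => ?_
  induction r using DirectSum.Decomposition.inductionOn 𝒜 with
  | zero => rw [map_zero, map_zero]
  | homogeneous a => exact h _ a
  | add x y hx hy => rw [map_add, map_add, hx, hy]

theorem map_units_zpow {T' : Type*} [CommRing T'] (ψ : T →+* T') (v : Tˣ) (w : T'ˣ)
    (h : ψ (v : T) = (w : T')) (n : ℤ) : ψ ((v ^ n : Tˣ) : T) = ((w ^ n : T'ˣ) : T') := by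
  have h1 : Units.map ψ.toMonoidHom v = w := Units.ext h
  have h2 : ψ ((v ^ n : Tˣ) : T) = ((Units.map ψ.toMonoidHom (v ^ n) : T'ˣ) : T') := rfl
  rw [h2, map_zpow, h1]

/-- the twist of a ring hom `j` by a unit `v`: `a ↦ j a * v ^ n` on `R_n`. -/
noncomputable def twist (j : R →+* T) (v : Tˣ) : R →+* T :=
  (DirectSum.toSemiring
    (fun n : ℤ => (AddMonoidHom.mulRight (((v ^ n : Tˣ) : T))).comp
      (j.toAddMonoidHom.comp (𝒜 n).subtype))
    (by
      change j ((1 : R)) * ((v ^ (0 : ℤ) : Tˣ) : T) = 1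
      rw [map_one, zpow_zero, Units.val_one, mul_one])
    (by
      intro i k a b
      change j ((a : R) * (b : R)) * ((v ^ (i + k) : Tˣ) : T) =
        (j (a : R) * ((v ^ i : Tˣ) : T)) * (j (b : R) * ((v ^ k : Tˣ) : T))
      rw [map_mul, zpow_add, Units.val_mul]
      ring)).comp (DirectSum.decomposeRingEquiv 𝒜).toRingHom

theorem twist_of_mem (j : R →+* T) (v : Tˣ) {n : ℤ} {a : R} (ha : a ∈ 𝒜 n) :
    twist 𝒜 j v a = j a * ((v ^ n : Tˣ) : T) := by
  rw [twist, RingHom.comp_apply]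
  change DirectSum.toSemiring _ _ _ (DirectSum.decompose 𝒜 a) = _
  rw [DirectSum.decompose_of_mem 𝒜 ha, DirectSum.toSemiring_of]
  rfl

end general

variable {N : ℕ} {u : Rˣ} (hu : (u : R) ∈ 𝒜 N) (hN : 0 < N)

/-- `E = R[U]/(U^N - u)`. -/
abbrev EE (N : ℕ) (u : Rˣ) : Type u := AdjoinRoot ((X : R[X]) ^ N - C (u : R))

theorem root_pow : (AdjoinRoot.root ((X : R[X]) ^ N - C (u : R))) ^ N =
    AdjoinRoot.of ((X : R[X]) ^ N - C (u : R)) (u : R) := by
  have h := AdjoinRoot.eval₂_root ((X : R[X]) ^ N - C (u : R))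
  rw [eval₂_sub, eval₂_pow, eval₂_X, eval₂_C, sub_eq_zero] at h
  exact h

include hN in
/-- the root `U` is a unit of `E`. -/
theorem exists_rootUnit : ∃ v : (EE N u)ˣ, (v : EE N u) = AdjoinRoot.root _ := by
  refine ⟨⟨AdjoinRoot.root _, (AdjoinRoot.root _) ^ (N - 1) *
    AdjoinRoot.of _ ((u⁻¹ : Rˣ) : R), ?_, ?_⟩, rfl⟩
  · rw [← mul_assoc, ← pow_succ', Nat.sub_add_cancel hN, root_pow, ← map_mul, Units.mul_inv,
      map_one]
  · rw [mul_comm, ← mul_assoc, ← pow_succ', Nat.sub_add_cancel hN, root_pow, ← map_mul,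
      Units.mul_inv, map_one]

/-- `C = R/(u-1)`. -/
abbrev Cq (u : Rˣ) : Type u := R ⧸ Ideal.span {(u : R) - 1}

/-- `L = C[X, X⁻¹]`. -/
abbrev LL (u : Rˣ) : Type u := Localization.Away (X : (Cq u)[X])

/-- the unit `X` of `L`. -/
noncomputable def Xu (u : Rˣ) : (LL u)ˣ :=
  (IsLocalization.map_units (LL u)
    (⟨X, Submonoid.mem_powers X⟩ : Submonoid.powers (X : (Cq u)[X]))).unit

theorem coe_Xu : ((Xu u : (LL u)ˣ) : LL u) = algebraMap (Cq u)[X] (LL u) X := rfl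

/-- `R → L`, `r ↦ r̄`. -/
noncomputable def jj (u : Rˣ) : R →+* LL u :=
  (algebraMap (Cq u)[X] (LL u)).comp (C.comp (Ideal.Quotient.mk (Ideal.span {(u : R) - 1})))

theorem jj_unit : jj u (u : R) = 1 := by
  have h1 : Ideal.Quotient.mk (Ideal.span {(u : R) - 1}) (u : R) = 1 := by
    rw [← sub_eq_zero, ← map_one (Ideal.Quotient.mk (Ideal.span {(u : R) - 1})), ← map_sub,
      Ideal.Quotient.eq_zero_iff_mem]
    exact Ideal.subset_span rfl
  rw [jj, RingHom.comp_apply, RingHom.comp_apply, h1, map_one, map_one]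

include hu in
/-- `Ψ : E → L`. -/
theorem exists_Psi : ∃ Ψ : EE N u →+* LL u,
    (∀ (n : ℤ) (a : R), a ∈ 𝒜 n →
      Ψ (AdjoinRoot.of _ a) = jj u a * (((Xu u) ^ n : (LL u)ˣ) : LL u)) ∧
    Ψ (AdjoinRoot.root _) = ((Xu u : (LL u)ˣ) : LL u) := by
  have h : ((X : R[X]) ^ N - C (u : R)).eval₂ (twist 𝒜 (jj u) (Xu u)) ((Xu u : (LL u)ˣ) : LL u)
      = 0 := by
    rw [eval₂_sub, eval₂_pow, eval₂_X, eval₂_C, twist_of_mem 𝒜 _ _ hu, jj_unit, one_mul,
      zpow_natCast, Units.val_pow_eq_pow_val, sub_self]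
  refine ⟨AdjoinRoot.lift (twist 𝒜 (jj u) (Xu u)) _ h, ?_, ?_⟩
  · intro n a ha
    rw [AdjoinRoot.lift_of, twist_of_mem 𝒜 _ _ ha]
  · rw [AdjoinRoot.lift_root]

include hu in
/-- `ρ̄ : C → E`. -/
theorem exists_rhoBar (v : (EE N u)ˣ) (hv : (v : EE N u) = AdjoinRoot.root _) :
    ∃ ρ : Cq u →+* EE N u, ∀ (n : ℤ) (a : R), a ∈ 𝒜 n →
      ρ (Ideal.Quotient.mk _ a) = AdjoinRoot.of _ a * (((v⁻¹) ^ n : (EE N u)ˣ) : EE N u) := by
  have h : ∀ a ∈ Ideal.span {(u : R) - 1},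
      twist 𝒜 (AdjoinRoot.of ((X : R[X]) ^ N - C (u : R))) v⁻¹ a = 0 := by
    intro a ha
    obtain ⟨b, rfl⟩ := Ideal.mem_span_singleton'.1 ha
    rw [map_mul, map_sub, map_one, twist_of_mem 𝒜 _ _ hu, ← root_pow, ← hv, zpow_natCast,
      Units.val_pow_eq_pow_val, ← mul_pow, Units.mul_inv, one_pow, sub_self, mul_zero]
  refine ⟨Ideal.Quotient.lift _ (twist 𝒜 (AdjoinRoot.of _) v⁻¹) h, ?_⟩
  intro n a ha
  rw [Ideal.Quotient.lift_mk, twist_of_mem 𝒜 _ _ ha]

include hu hN in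
/-- `E ≅ C[X, X⁻¹]`. -/
theorem nonempty_ringEquiv : Nonempty (EE N u ≃+* LL u) := by
  obtain ⟨v, hv⟩ := exists_rootUnit (u := u) hN
  obtain ⟨Ψ, hΨ, hΨr⟩ := exists_Psi 𝒜 hu
  obtain ⟨ρ, hρ⟩ := exists_rhoBar 𝒜 hu v hv
  let g : (Cq u)[X] →+* EE N u := Polynomial.eval₂RingHom ρ (AdjoinRoot.root _)
  have hgX : g X = AdjoinRoot.root _ := by
    change eval₂ ρ (AdjoinRoot.root _) X = _
    rw [eval₂_X]
  have hgC : ∀ c, g (C c) = ρ c := by
    intro c
    change eval₂ ρ (AdjoinRoot.root _) (C c) = _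
    rw [eval₂_C]
  have hg : IsUnit (g X) := by rw [hgX, ← hv]; exact v.isUnit
  let Ψ' : LL u →+* EE N u := IsLocalization.Away.lift (X : (Cq u)[X]) hg
  have hΨ' : ∀ p, Ψ' (algebraMap (Cq u)[X] (LL u) p) = g p := fun p =>
    IsLocalization.Away.lift_eq (X : (Cq u)[X]) hg p
  have hΨ'X : Ψ' ((Xu u : (LL u)ˣ) : LL u) = (v : EE N u) := by
    rw [coe_Xu, hΨ', hgX, hv]
  have hΨv : Ψ (v : EE N u) = ((Xu u : (LL u)ˣ) : LL u) := by rw [hv, hΨr]
  refine ⟨RingEquiv.ofRingHom Ψ Ψ' ?_ ?_⟩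
  · -- Ψ ∘ Ψ' = id
    apply IsLocalization.ringHom_ext (Submonoid.powers (X : (Cq u)[X]))
    apply Polynomial.ringHom_ext
    · intro c
      obtain ⟨r, rfl⟩ := Ideal.Quotient.mk_surjective c
      have key : (((Ψ.comp Ψ').comp (algebraMap (Cq u)[X] (LL u))).comp
          (C.comp (Ideal.Quotient.mk (Ideal.span {(u : R) - 1})))) =
          (((RingHom.id (LL u)).comp (algebraMap (Cq u)[X] (LL u))).comp
          (C.comp (Ideal.Quotient.mk (Ideal.span {(u : R) - 1})))) := by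
        apply ringHom_ext_homogeneous 𝒜
        intro n a
        simp only [RingHom.comp_apply, RingHom.id_apply]
        rw [hΨ', hgC, hρ n a a.2, map_mul, hΨ n a a.2, map_units_zpow Ψ v⁻¹ (Xu u)⁻¹ _ n,
          mul_assoc, ← Units.val_mul, ← mul_zpow, mul_inv_cancel, one_zpow, Units.val_one,
          mul_one]
        · rfl
        · have h1 : Units.map Ψ.toMonoidHom v = Xu u := Units.ext hΨv
          rw [← h1, ← map_inv]
          rfl
      exact congrArg (fun φ : R →+* LL u => φ r) key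
    · simp only [RingHom.comp_apply, RingHom.id_apply]
      rw [hΨ', hgX, hΨr, coe_Xu]
  · -- Ψ' ∘ Ψ = id
    apply AdjoinRoot.ringHom_ext
    · apply ringHom_ext_homogeneous 𝒜
      intro n a
      simp only [RingHom.comp_apply, RingHom.id_apply]
      rw [hΨ n a a.2, map_mul, jj, RingHom.comp_apply, RingHom.comp_apply, hΨ', hgC, hρ n a a.2,
        map_units_zpow Ψ' (Xu u) v hΨ'X n, mul_assoc, ← Units.val_mul, ← mul_zpow,
        inv_mul_cancel, one_zpow, Units.val_one, mul_one]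
    · simp only [RingHom.comp_apply, RingHom.id_apply]
      rw [hΨr, hΨ'X, hv]

end Groth.Agent.Lib.Helper27.GrUnit
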