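import Mathlib
import Groth.Prelude
import Groth.Agent.Lib.Helper23.FBC5
import Groth.Agent.Lib.Helper3.PbBasic
import Groth.Agent.Lib.Helper13.AffineHomCrit

set_option autoImplicit false
set_option linter.style.haveILetI false
universe u
open CategoryTheory CategoryTheory.Limits AlgebraicGeometry

namespace Groth.Agent.Lib.Helper27.H1FibLc

theorem subsingleton_HH_fiber_of_isPullback {X Y X' Y' : Scheme.{u}} (f : X ⟶ Y) [IsProper f]
    (g : Y' ⟶ Y) (f' : X' ⟶ Y') (g' : X' ⟶ X) (sq : IsPullback g' f' f g) (y' : Y') (n : ℕ)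
    (H : Subsingleton (Coh.HH (f'.fiber y') (Coh.structureModule (f'.fiber y')) n)) :
    Subsingleton (Coh.HH (f.fiber (g y')) (Coh.structureModule (f.fiber (g y'))) n) := by
  -- the two squares
  have sqA : IsPullback (f'.fiberι y') (f'.fiberToSpecResidueField y') f'
      (Y'.fromSpecResidueField y') := IsPullback.of_hasPullback _ _
  have sqC : IsPullback (f.fiberι (g y')) (f.fiberToSpecResidueField (g y')) f
      (Y.fromSpecResidueField (g y')) := IsPullback.of_hasPullback _ _
  have sqAB := sqA.paste_horiz sq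
  have hnat : Y'.fromSpecResidueField y' ≫ g =
      Spec.map (g.residueFieldMap y') ≫ Y.fromSpecResidueField (g y') :=
    (Scheme.Hom.SpecMap_residueFieldMap_fromSpecResidueField g y').symm
  rw [hnat] at sqAB
  -- the comparison map
  let π : f'.fiber y' ⟶ f.fiber (g y') :=
    sqC.lift (f'.fiberι y' ≫ g') (f'.fiberToSpecResidueField y' ≫ Spec.map (g.residueFieldMap y'))
      (by simpa only [Category.assoc] using sqAB.w)
  have hπ1 : π ≫ f.fiberι (g y') = f'.fiberι y' ≫ g' := sqC.lift_fst _ _ _
  have hπ2 : π ≫ f.fiberToSpecResidueField (g y') =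
      f'.fiberToSpecResidueField y' ≫ Spec.map (g.residueFieldMap y') := sqC.lift_snd _ _ _
  have sqL : IsPullback π (f'.fiberToSpecResidueField y') (f.fiberToSpecResidueField (g y'))
      (Spec.map (g.residueFieldMap y')) := by
    refine IsPullback.of_right ?_ hπ2 sqC
    rw [hπ1]
    exact sqAB
  -- set up the field data
  let k : Type u := Y.residueField (g y')
  let k' : Type u := Y'.residueField y'
  letI : Algebra k k' := (g.residueFieldMap y').hom.toAlgebra
  letI : (f.fiber (g y')).Over (Spec (CommRingCat.of k)) := ⟨f.fiberToSpecResidueField (g y')⟩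
  letI : (f'.fiber y').Over (Spec (CommRingCat.of k')) := ⟨f'.fiberToSpecResidueField y'⟩
  have hpb : IsPullback π ((f'.fiber y') ↘ Spec (CommRingCat.of k'))
      ((f.fiber (g y')) ↘ Spec (CommRingCat.of k))
      (Spec.map (CommRingCat.ofHom (algebraMap k k'))) := sqL
  haveI : IsProper ((f.fiber (g y')) ↘ Spec (CommRingCat.of k)) :=
    inferInstanceAs (IsProper (pullback.snd f (Y.fromSpecResidueField (g y'))))
  haveI : (Coh.structureModule (f.fiber (g y'))).IsQuasicoherent := inferInstance
  have hiff := Groth.Agent.Lib.Helper23.FBC.subsingleton_iff_of_isProper k k' hpb n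
    (Coh.structureModule (f.fiber (g y')))
  refine hiff.mp ?_
  exact Groth.Agent.Lib.Helper13.AffineHomCrit.subsingleton_ext_of_iso
    ((Groth.Agent.Lib.Helper13.SerreCrit1.TT (f'.fiber y')).mapIso
      (Groth.Agent.Lib.Helper3.PbBasic.pbUnit π).symm) n H

end Groth.Agent.Lib.Helper27.H1FibLc
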