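import Groth.Agent.Lib.Helper14.HensReg
import Groth.Agent.Lib.Helper14.GeomNormalSep
import Groth.Agent.Lib.Helper14.NormalRing
import Groth.Prelude.Def_EGA4b

/-!
# Normal homomorphisms and ind-étale-like maps (after `Helper14.HensReg`)

* `IndEtaleLike.isNormalHom_of_comp`: if `R → T` is normal, `R → S` is ind-étale-like and `S → T` is
  flat then `S → T` is normal.
* `isNormalHom_of_algEquiv`.
-/

set_option autoImplicit false
set_option linter.style.haveILetI false
set_option linter.unusedSectionVars false
universe u
open TensorProduct IsLocalRing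

namespace Groth.Agent.Lib.Helper27.HensNormal

open Groth.Agent.Lib.Helper14 Groth.Agent.Lib.Helper14.HensReg
open Groth.Agent.Lib.Helper8.Hzl

section loc
variable {R S T : Type u} [CommRing R] [CommRing S] [CommRing T] [Algebra R S] [Algebra S T]
  [Algebra R T] [IsScalarTower R S T] (q : Ideal S) [q.IsPrime]

attribute [local instance] resAlg

theorem isGeomNormal_fibre_under
    (hU : (q.under R).map (algebraMap R (Localization.AtPrime q)) =
      maximalIdeal (Localization.AtPrime q))
    (hE : EGA4.IsGeomNormal (q.under R).ResidueField ((q.under R).ResidueField ⊗[R] T)) :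
    EGA4.IsGeomNormal (q.under R).ResidueField (q.ResidueField ⊗[S] T) := by
  letI := (fibMap R T q).toRingHom.toAlgebra
  haveI : IsScalarTower (q.under R).ResidueField ((q.under R).ResidueField ⊗[R] T)
      (q.ResidueField ⊗[S] T) :=
    IsScalarTower.of_algebraMap_eq (fun a => ((fibMap R T q).commutes a).symm)
  haveI hloc := isLocalization_fibMap (R := R) (T := T) q hU
  intro L _ _ hfin
  have h1 : EGA4.IsNormalRing (L ⊗[(q.under R).ResidueField] ((q.under R).ResidueField ⊗[R] T)) :=
    hE L hfin
  have h2 : EGA4.IsNormalRing (((q.under R).ResidueField ⊗[R] T) ⊗[(q.under R).ResidueField] L) :=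
    isNormalRing_of_ringEquiv (Algebra.TensorProduct.comm _ _ _).toRingEquiv h1
  have h3 : EGA4.IsNormalRing ((((q.under R).ResidueField ⊗[R] T) ⊗[(q.under R).ResidueField] L)
      ⊗[(q.under R).ResidueField ⊗[R] T] (q.ResidueField ⊗[S] T)) :=
    isNormalRing_of_isLocalization (Algebra.algebraMapSubmonoid
      (((q.under R).ResidueField ⊗[R] T) ⊗[(q.under R).ResidueField] L)
      (q.primeCompl.map (sToFib R T q))) _ h2
  refine isNormalRing_of_ringEquiv ?_ h3
  exact ((Algebra.TensorProduct.comm _ _ _).trans
    ((Algebra.TensorProduct.cancelBaseChange (q.under R).ResidueField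
      ((q.under R).ResidueField ⊗[R] T) ((q.under R).ResidueField ⊗[R] T)
      (q.ResidueField ⊗[S] T) L))).toRingEquiv.trans
    (Algebra.TensorProduct.comm (q.under R).ResidueField _ _).toRingEquiv

open Groth.Agent.Lib.Helper14.GeomNormalSep in
/-- If `R → T` is normal, `R → S` is ind-étale-like and `S → T` is flat, then `S → T` is normal. -/
theorem IndEtaleLike.isNormalHom_of_comp (h : IndEtaleLike R S)
    [Module.Flat S T] (hRT : EGA4.IsNormalHom R T) : EGA4.IsNormalHom S T := by
  refine ⟨inferInstance, fun q hq => ?_⟩
  have hE := hRT.2 (q.under R)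
  have hU := h.map_under_eq_maximalIdeal q
  haveI hsep : Algebra.IsSeparable (q.under R).ResidueField q.ResidueField :=
    IndEtaleLike.isSeparable_residueField h q (q.under R) rfl
  have hA := isGeomNormal_fibre_under (R := R) (T := T) q hU hE
  exact geomNormal_ascend (q.under R).ResidueField q.ResidueField (q.ResidueField ⊗[S] T) hA

end loc

/-- Normal homomorphisms transfer along algebra isomorphisms of the target. -/
theorem isNormalHom_of_algEquiv {R B B' : Type u} [CommRing R] [CommRing B] [CommRing B']
    [Algebra R B] [Algebra R B'] (e : B ≃ₐ[R] B') (h : EGA4.IsNormalHom R B) :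
    EGA4.IsNormalHom R B' := by
  haveI := h.1
  refine ⟨Module.Flat.of_linearEquiv e.symm.toLinearEquiv, fun p hp k' _ _ hfin => ?_⟩
  have h1 := h.2 p k' hfin
  refine isNormalRing_of_ringEquiv ?_ h1
  exact (Algebra.TensorProduct.congr (AlgEquiv.refl (R := p.ResidueField) (A₁ := k'))
    (Algebra.TensorProduct.congr (AlgEquiv.refl (R := p.ResidueField) (A₁ := p.ResidueField))
      e)).toRingEquiv

end Groth.Agent.Lib.Helper27.HensNormal
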