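import Mathlib
import Groth.Agent.S0542
import Groth.Agent.Lib.Helper8.FlatCompl
import Groth.Agent.Lib.Helper26.PairHensNbhd

/-!
The henselization of a Noetherian pair is Noetherian, flat, and has the same completion.
-/

set_option autoImplicit false
universe u

namespace Groth.Agent.Lib.Helper27.PairHensNoeth

open Groth.Agent.Lib.Helper26.PairHensConstr Groth.Agent.Lib.Helper26.PairHensNbhd
open Groth.Agent.Lib.Helper8

section Pow

variable {A : Type u} [CommRing A] (I : Ideal A) {L : Type u} [CommRing L] [Algebra A L]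

/-- one step of the approximation: an element of `Iⁿ L` is congruent to an element of `Iⁿ`
modulo `Iⁿ⁺¹ L`. -/
theorem exists_mem_pow_sub_mem
    (h1 : ∀ x : L, ∃ a : A, x - algebraMap A L a ∈ I.map (algebraMap A L)) (n : ℕ) (y : L)
    (hy : y ∈ (I ^ n).map (algebraMap A L)) :
    ∃ b ∈ I ^ n, y - algebraMap A L b ∈ (I ^ (n + 1)).map (algebraMap A L) := by
  have hmul : ∀ (u v : L), u ∈ I.map (algebraMap A L) → v ∈ (I ^ n).map (algebraMap A L) →
      u * v ∈ (I ^ (n + 1)).map (algebraMap A L) := by
    intro u v hu hv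
    rw [pow_succ', Ideal.map_mul]
    exact Ideal.mul_mem_mul hu hv
  refine Submodule.span_induction (p := fun y _ => ∃ b ∈ I ^ n,
    y - algebraMap A L b ∈ (I ^ (n + 1)).map (algebraMap A L)) ?_ ?_ ?_ ?_ hy
  · rintro _ ⟨i, hi, rfl⟩
    exact ⟨i, hi, by rw [sub_self]; exact Ideal.zero_mem _⟩
  · exact ⟨0, Ideal.zero_mem _, by rw [map_zero, sub_zero]; exact Ideal.zero_mem _⟩
  · rintro y₁ y₂ _ _ ⟨b₁, hb₁, h₁⟩ ⟨b₂, hb₂, h₂⟩
    refine ⟨b₁ + b₂, Ideal.add_mem _ hb₁ hb₂, ?_⟩
    have : y₁ + y₂ - algebraMap A L (b₁ + b₂) =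
        (y₁ - algebraMap A L b₁) + (y₂ - algebraMap A L b₂) := by rw [map_add]; ring
    rw [this]
    exact Ideal.add_mem _ h₁ h₂
  · rintro c y₁ _ ⟨b₁, hb₁, h₁⟩
    obtain ⟨a, ha⟩ := h1 c
    refine ⟨a * b₁, Ideal.mul_mem_left _ _ hb₁, ?_⟩
    have : c • y₁ - algebraMap A L (a * b₁) =
        c * (y₁ - algebraMap A L b₁) + (c - algebraMap A L a) * algebraMap A L b₁ := by
      rw [map_mul, smul_eq_mul]; ring
    rw [this]
    exact Ideal.add_mem _ (Ideal.mul_mem_left _ _ h₁)
      (hmul _ _ ha (Ideal.mem_map_of_mem _ hb₁))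

/-- `A → L/IⁿL` is surjective for all `n` as soon as it is for `n = 1`. -/
theorem exists_sub_mem_pow
    (h1 : ∀ x : L, ∃ a : A, x - algebraMap A L a ∈ I.map (algebraMap A L)) (n : ℕ) (x : L) :
    ∃ a : A, x - algebraMap A L a ∈ (I ^ n).map (algebraMap A L) := by
  induction n with
  | zero =>
    refine ⟨0, ?_⟩
    rw [pow_zero, Ideal.one_eq_top, Ideal.map_top]
    trivial
  | succ n ih =>
    obtain ⟨a, ha⟩ := ih
    obtain ⟨b, -, hb⟩ := exists_mem_pow_sub_mem I h1 n _ ha
    refine ⟨a + b, ?_⟩
    have : x - algebraMap A L (a + b) = x - algebraMap A L a - algebraMap A L b := by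
      rw [map_add]; ring
    rw [this]
    exact hb

end Pow

section Compl

variable {S : Type u} [CommRing S] (𝔫 : Ideal S)

lemma compl_exists_sub_mem (h𝔫 : 𝔫.FG) (n : ℕ) (t : AdicCompletion 𝔫 S) :
    ∃ s : S, t - algebraMap S (AdicCompletion 𝔫 S) s ∈
      (𝔫 ^ n).map (algebraMap S (AdicCompletion 𝔫 S)) := by
  obtain ⟨s, hs⟩ := Submodule.mkQ_surjective _ (AdicCompletion.eval 𝔫 S n t)
  refine ⟨s, ?_⟩
  have h1 : t - AdicCompletion.of 𝔫 S s ∈ LinearMap.ker (AdicCompletion.eval 𝔫 S n) := by
    rw [LinearMap.mem_ker, map_sub, AdicCompletion.eval_of, hs, sub_self]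
  rw [← AdicCompletion.pow_smul_top_eq_ker_eval h𝔫, Ideal.smul_top_eq_map] at h1
  exact h1

lemma compl_mem_of_map_mem (h𝔫 : 𝔫.FG) (n : ℕ) (s : S)
    (h : algebraMap S (AdicCompletion 𝔫 S) s ∈
      (𝔫 ^ n).map (algebraMap S (AdicCompletion 𝔫 S))) : s ∈ 𝔫 ^ n := by
  have h1 : AdicCompletion.of 𝔫 S s ∈ (𝔫 ^ n • ⊤ : Submodule S (AdicCompletion 𝔫 S)) := by
    rw [Ideal.smul_top_eq_map]
    exact h
  rw [AdicCompletion.pow_smul_top_eq_ker_eval h𝔫, LinearMap.mem_ker, AdicCompletion.eval_of,
    Submodule.mkQ_apply, Submodule.Quotient.mk_eq_zero] at h1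
  simpa using h1

end Compl

section Stage

variable {A : Type u} [CommRing A] [IsNoetherianRing A] (I : Ideal A)
  {L : Type u} [CommRing L] [Algebra A L] [IsNoetherianRing L]
  [Algebra L (AdicCompletion I A)] [IsScalarTower A L (AdicCompletion I A)]
  [IsNoetherianRing (AdicCompletion I A)]

/-- the completion of `A` is flat over any Noetherian `A`-algebra `L` with `A/I → L/IL` surjective
mapping to it. -/
theorem flat_stage
    (h1 : ∀ x : L, ∃ a : A, x - algebraMap A L a ∈ I.map (algebraMap A L)) :
    Module.Flat L (AdicCompletion I A) := by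
  have hI : I.FG := IsNoetherian.noetherian I
  haveI := AdicCompletion.isAdicComplete_self I hI
  have hmap : ∀ n : ℕ, ((I.map (algebraMap A L)) ^ n).map (algebraMap L (AdicCompletion I A)) =
      (I ^ n).map (algebraMap A (AdicCompletion I A)) := by
    intro n
    rw [← Ideal.map_pow, Ideal.map_map, ← IsScalarTower.algebraMap_eq]
  refine flat_of_pow_quotient_iso (A := L) (T := AdicCompletion I A) (I.map (algebraMap A L))
    ?_ ?_ ?_
  · have h := hmap 1
    rw [pow_one, pow_one] at h
    rw [h]
    exact IsAdicComplete.le_jacobson_bot _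
  · intro n l hl
    rw [hmap] at hl
    obtain ⟨a, ha⟩ := exists_sub_mem_pow I h1 n l
    have h2 : algebraMap L (AdicCompletion I A) (l - algebraMap A L a) ∈
        (I ^ n).map (algebraMap A (AdicCompletion I A)) := by
      have := Ideal.mem_map_of_mem (algebraMap L (AdicCompletion I A)) ha
      rwa [Ideal.map_map, ← IsScalarTower.algebraMap_eq] at this
    have h3 : algebraMap A (AdicCompletion I A) a ∈
        (I ^ n).map (algebraMap A (AdicCompletion I A)) := by
      have h4 : algebraMap A (AdicCompletion I A) a = algebraMap L (AdicCompletion I A) l -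
          algebraMap L (AdicCompletion I A) (l - algebraMap A L a) := by
        rw [map_sub, ← IsScalarTower.algebraMap_apply]; ring
      rw [h4]
      exact Ideal.sub_mem _ hl h2
    have h5 : a ∈ I ^ n := compl_mem_of_map_mem I hI n a h3
    have h6 : l = (l - algebraMap A L a) + algebraMap A L a := by ring
    rw [h6, ← Ideal.map_pow]
    exact Ideal.add_mem _ ha (Ideal.mem_map_of_mem _ h5)
  · intro n t
    obtain ⟨a, ha⟩ := compl_exists_sub_mem I hI n t
    refine ⟨algebraMap A L a, ?_⟩
    rw [hmap, ← IsScalarTower.algebraMap_apply]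
    exact ha

end Stage

section Main

variable {A : Type u} [CommRing A] [IsNoetherianRing A] (I : Ideal A)

instance isNoetherianRing_L (i : Idx A I) : IsNoetherianRing i.L :=
  IsLocalization.isNoetherianRing (mset I i.σ) i.L inferInstance

/-- the henselization of a Noetherian pair (as constructed) is Noetherian. -/
theorem isNoetherianRing_PH : IsNoetherianRing (PH A I) := by
  classical
  have hI : I.FG := IsNoetherian.noetherian I
  haveI hT : IsNoetherianRing (AdicCompletion I A) := Groth.Agent.S0542.result A I hI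
  haveI hC := AdicCompletion.isAdicComplete_self I hI
  obtain ⟨G, hG, -⟩ := (isPairHenselization_PH (A := A) (I := I)).2 (AdicCompletion I A)
    (I.map (algebraMap A (AdicCompletion I A))) (algebraMap A (AdicCompletion I A))
    inferInstance le_rfl
  letI algPT : Algebra (PH A I) (AdicCompletion I A) := G.toAlgebra
  haveI : IsScalarTower A (PH A I) (AdicCompletion I A) :=
    IsScalarTower.of_algebraMap_eq (fun a => (RingHom.congr_fun hG a).symm)
  -- flatness
  have hflat : Module.Flat (PH A I) (AdicCompletion I A) := by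
    apply Module.Flat.of_forall_isTrivialRelation
    intro l f x hfx
    obtain ⟨i, hi⟩ := exists_stage (Finset.univ.image f)
    choose b hb using fun j : Fin l => hi (f j) (Finset.mem_image_of_mem f (Finset.mem_univ j))
    letI algLT : Algebra i.L (AdicCompletion I A) :=
      (G.comp (ofL i : i.L →+* PH A I)).toAlgebra
    haveI : IsScalarTower A i.L (AdicCompletion I A) :=
      IsScalarTower.of_algebraMap_eq (fun a => by
        show algebraMap A (AdicCompletion I A) a = G (ofL i (algebraMap A i.L a))
        rw [(ofL i).commutes]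
        exact (RingHom.congr_fun hG a).symm)
    have hLflat : Module.Flat i.L (AdicCompletion I A) :=
      flat_stage I (exists_sub_mem_loc I i.σ)
    have hsm : ∀ (c : i.L) (y : AdicCompletion I A), c • y = ofL i c • y := fun c y => by
      rw [Algebra.smul_def, Algebra.smul_def]; rfl
    have hrel : ∑ j, b j • x j = 0 := by
      rw [← hfx]
      refine Finset.sum_congr rfl fun j _ => ?_
      rw [hsm, hb]
    obtain ⟨κ, a, y, hy, ha⟩ := Module.Flat.isTrivialRelation_of_sum_smul_eq_zero
      (R := i.L) (M := AdicCompletion I A) hrel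
    refine ⟨κ, fun j c => ofL i (a j c), y, fun j => ?_, fun c => ?_⟩
    · rw [hy j]
      exact Finset.sum_congr rfl fun c _ => hsm _ _
    · have h1 := congrArg (ofL i) (ha c)
      rw [map_sum, map_zero] at h1
      rw [← h1]
      refine Finset.sum_congr rfl fun j _ => ?_
      rw [map_mul, hb]
  -- the point of the completion restricts to the point of the henselization
  have hε : ∀ x : PH A I, AdicCompletion.evalOneₐ I (G x) = σH x := by
    intro x
    obtain ⟨i, y, rfl⟩ := exists_ofL x
    let φ₁ : i.L →ₐ[A] A ⧸ I :=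
      { toRingHom := ((AdicCompletion.evalOneₐ I).toRingHom.comp G).comp
          (ofL i : i.L →+* PH A I)
        commutes' := fun a => by
          show AdicCompletion.evalOneₐ I (G (ofL i (algebraMap A i.L a))) = _
          rw [(ofL i).commutes]
          have h1 : G (algebraMap A (PH A I) a) = algebraMap A (AdicCompletion I A) a :=
            RingHom.congr_fun hG a
          rw [h1]
          exact (AdicCompletion.evalOneₐ I).commutes a }
    have h2 := algHom_L_quot_ext i φ₁ (σH.comp (ofL i))
    exact DFunLike.congr_fun h2 y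
  -- faithful flatness
  haveI hff : Module.FaithfullyFlat (PH A I) (AdicCompletion I A) := by
    refine { toFlat := hflat, submodule_ne_top := fun m hm htop => ?_ }
    have hσsurj : Function.Surjective (σH (A := A) (I := I)) := by
      intro z
      obtain ⟨a, rfl⟩ := Ideal.Quotient.mk_surjective z
      exact ⟨algebraMap A (PH A I) a, by
        rw [AlgHom.commutes, Ideal.Quotient.algebraMap_eq]⟩
    have key : ∀ t ∈ (m • ⊤ : Submodule (PH A I) (AdicCompletion I A)),
        AdicCompletion.evalOneₐ I t ∈ m.map (σH (A := A) (I := I)).toRingHom := by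
      intro t ht
      refine Submodule.smul_induction_on ht ?_ ?_
      · intro r hr t' _
        have h1 : r • t' = G r * t' := by rw [Algebra.smul_def]; rfl
        rw [h1, map_mul, hε]
        exact Ideal.mul_mem_right _ _ (Ideal.mem_map_of_mem _ hr)
      · intro t₁ t₂ h₁ h₂
        rw [map_add]
        exact Ideal.add_mem _ h₁ h₂
    have h1 : (1 : A ⧸ I) ∈ m.map (σH (A := A) (I := I)).toRingHom := by
      have := key 1 (by rw [htop]; trivial)
      rwa [map_one] at this
    obtain ⟨x, hxm, hx1⟩ := (Ideal.mem_map_iff_of_surjective _ hσsurj).mp h1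
    have hxu : IsUnit x := isUnit_of_σH_eq_one hx1
    exact hm.ne_top (Ideal.eq_top_of_isUnit_mem _ hxm hxu)
  exact isNoetherianRing_of_faithfullyFlat (PH A I) (AdicCompletion I A)

end Main

section Bij

variable {R : Type u} [CommRing R] (I : Ideal R) {M N : Type u} [AddCommGroup M]
  [AddCommGroup N] [Module R M] [Module R N] (f : M →ₗ[R] N)

/-- a linear map inducing bijections modulo all powers of `I` induces a bijection of completions. -/
theorem map_bijective_of_quot
    (hsurj : ∀ (n : ℕ) (y : N), ∃ x : M, y - f x ∈ (I ^ n • ⊤ : Submodule R N))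
    (hinj : ∀ (n : ℕ) (x : M), f x ∈ (I ^ n • ⊤ : Submodule R N) →
      x ∈ (I ^ n • ⊤ : Submodule R M)) :
    Function.Bijective (AdicCompletion.map I f) := by
  constructor
  · rw [injective_iff_map_eq_zero]
    intro x hx
    obtain ⟨a, rfl⟩ := AdicCompletion.mk_surjective I M x
    rw [AdicCompletion.map_mk] at hx
    apply AdicCompletion.ext
    intro n
    have h1 : (AdicCompletion.mk I N (AdicCompletion.AdicCauchySequence.map I f a)).val n = 0 := by
      rw [hx]; rfl
    have h2 : f (a n) ∈ (I ^ n • ⊤ : Submodule R N) := by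
      rw [← Submodule.Quotient.mk_eq_zero]
      exact h1
    have h3 := hinj n (a n) h2
    show Submodule.Quotient.mk (a n) = 0
    rw [Submodule.Quotient.mk_eq_zero]
    exact h3
  · intro y
    obtain ⟨b, rfl⟩ := AdicCompletion.mk_surjective I N y
    choose x hx using fun n => hsurj n (b n)
    have hcauchy : ∀ n, x n ≡ x (n + 1) [SMOD (I ^ n • ⊤ : Submodule R M)] := by
      intro n
      rw [SModEq.sub_mem]
      apply hinj
      have hb : b n - b (n + 1) ∈ (I ^ n • ⊤ : Submodule R N) := by
        have := b.property (Nat.le_succ n)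
        rwa [SModEq.sub_mem] at this
      have h1 : b (n + 1) - f (x (n + 1)) ∈ (I ^ n • ⊤ : Submodule R N) :=
        Submodule.smul_mono_left (Ideal.pow_le_pow_right (Nat.le_succ n)) (hx (n + 1))
      have : f (x n - x (n + 1)) =
          (b (n + 1) - f (x (n + 1))) - (b n - f (x n)) + (b n - b (n + 1)) := by
        rw [map_sub]; abel
      rw [this]
      exact Submodule.add_mem _ (Submodule.sub_mem _ h1 (hx n)) hb
    refine ⟨AdicCompletion.mk I M (AdicCompletion.AdicCauchySequence.mk I M x hcauchy), ?_⟩
    rw [AdicCompletion.map_mk]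
    apply AdicCompletion.ext
    intro n
    show Submodule.Quotient.mk (f (x n)) = Submodule.Quotient.mk (b n)
    rw [Submodule.Quotient.eq, ← neg_sub]
    exact Submodule.neg_mem _ (hx n)

end Bij

section Final

variable (A : Type u) [CommRing A] [IsNoetherianRing A] (I : Ideal A)
  (B : Type u) [CommRing B] [Algebra A B]

/-- the henselization of a Noetherian pair is Noetherian and flat, with the same completion. -/
theorem main (hB : Hens2.IsPairHenselization A I B) :
    IsNoetherianRing B ∧ Module.Flat A B ∧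
      Function.Bijective (AdicCompletion.map I (Algebra.linearMap A B) :
        AdicCompletion I A → AdicCompletion I B) := by
  refine ⟨?_, flat_of_isPairHenselization hB, ?_⟩
  · obtain ⟨e⟩ := nonempty_algEquiv_of_isPairHenselization
      (isPairHenselization_PH (A := A) (I := I)) hB
    haveI := isNoetherianRing_PH I
    exact isNoetherianRing_of_ringEquiv (PH A I) e.toRingEquiv
  · have hq : ∀ n : ℕ, (∀ x : B, ∃ a : A, x - algebraMap A B a ∈ (I ^ n).map (algebraMap A B)) ∧
        (∀ a : A, algebraMap A B a ∈ (I ^ n).map (algebraMap A B) → a ∈ I ^ n) :=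
      fun n => (quotBij_iff _ B).mp (quotBij_pow hB n)
    have hmem : ∀ (n : ℕ) (y : B), y ∈ (I ^ n • ⊤ : Submodule A B) ↔
        y ∈ (I ^ n).map (algebraMap A B) := by
      intro n y
      rw [Ideal.smul_top_eq_map]
      rfl
    refine map_bijective_of_quot I (Algebra.linearMap A B) (fun n y => ?_) (fun n x hx => ?_)
    · obtain ⟨a, ha⟩ := (hq n).1 y
      exact ⟨a, (hmem n _).mpr ha⟩
    · have h1 := (hq n).2 x ((hmem n _).mp hx)
      rw [Ideal.smul_eq_mul, Ideal.mul_top]
      exact h1

end Final

end Groth.Agent.Lib.Helper27.PairHensNoeth
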