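import Mathlib
import Groth.Agent.Lib.Helper27.PairHensNoeth
import Groth.Agent.Lib.Helper21.TruncIsoB

/-!
The completion of a quotient of the henselization of a finite type algebra over a Noetherian ring is
the completion of a finite type algebra.
-/

set_option autoImplicit false
universe u

namespace Groth.Agent.Lib.Helper27.HensQuotCompl

open Groth.Agent.Lib.Helper26.PairHensConstr Groth.Agent.Lib.Helper26.PairHensNbhd

section Nbhd

/-- finitely many elements of a henselization come from a finite type neighbourhood of which it is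
still the henselization. -/
theorem exists_ft_nbhd {Ch : Type u} [CommRing Ch] (s : Finset Ch) :
    ∀ (C : Type u) [CommRing C] (I : Ideal C) [Algebra C Ch]
      (_ : Hens2.IsPairHenselization C I Ch),
      ∃ (C' : Type u) (_ : CommRing C') (_ : Algebra C C') (_ : Algebra C' Ch)
        (_ : IsScalarTower C C' Ch),
        Algebra.FiniteType C C' ∧ Hens2.IsPairHenselization C' (I.map (algebraMap C C')) Ch ∧
          ∀ x ∈ s, ∃ c : C', algebraMap C' Ch c = x := by
  classical
  induction s using Finset.induction_on with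
  | empty =>
    intro C _ I _ hCh
    refine ⟨C, inferInstance, Algebra.id C, inferInstance, inferInstance, inferInstance, ?_, ?_⟩
    · rw [Algebra.algebraMap_self, Ideal.map_id]
      exact hCh
    · intro x hx
      simp at hx
  | insert a s ha ih =>
    intro C _ I _ hCh
    obtain ⟨C', _, _, _, _, hft, hCh', hs⟩ := ih C I hCh
    obtain ⟨C'', _, _, _, hQB, φ, t, ht⟩ := exists_nbhd_of_elem hCh' a
    letI : Algebra C'' Ch := φ.toRingHom.toAlgebra
    haveI : IsScalarTower C' C'' Ch :=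
      IsScalarTower.of_algebraMap_eq (fun c => (φ.commutes c).symm)
    letI : Algebra C C'' := ((algebraMap C' C'').comp (algebraMap C C')).toAlgebra
    haveI : IsScalarTower C C' C'' := IsScalarTower.of_algebraMap_eq' rfl
    haveI : IsScalarTower C C'' Ch := IsScalarTower.of_algebraMap_eq (fun c => by
      show algebraMap C Ch c = φ (algebraMap C' C'' (algebraMap C C' c))
      rw [φ.commutes, ← IsScalarTower.algebraMap_apply])
    refine ⟨C'', inferInstance, inferInstance, inferInstance, inferInstance, ?_, ?_, ?_⟩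
    · exact Algebra.FiniteType.trans hft (inferInstance : Algebra.FiniteType C' C'')
    · have h := isPairHenselization_of_nbhd hCh' hQB
      rwa [Ideal.map_map, ← IsScalarTower.algebraMap_eq] at h
    · intro x hx
      rcases Finset.mem_insert.mp hx with rfl | hx
      · exact ⟨t, ht⟩
      · obtain ⟨c, hc⟩ := hs x hx
        exact ⟨algebraMap C' C'' c, by rw [← IsScalarTower.algebraMap_apply, hc]⟩

end Nbhd

section Sup

variable {R S : Type*} [CommRing R] [CommRing S] [Algebra R S] (𝔞 K : Ideal R)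

theorem exists_mem_sub_mem
    (hs : ∀ x : S, ∃ r : R, x - algebraMap R S r ∈ 𝔞.map (algebraMap R S))
    (y : S) (hy : y ∈ K.map (algebraMap R S)) :
    ∃ k ∈ K, y - algebraMap R S k ∈ 𝔞.map (algebraMap R S) := by
  refine Submodule.span_induction (p := fun y _ => ∃ k ∈ K,
    y - algebraMap R S k ∈ 𝔞.map (algebraMap R S)) ?_ ?_ ?_ ?_ hy
  · rintro _ ⟨k, hk, rfl⟩
    exact ⟨k, hk, by rw [sub_self]; exact Ideal.zero_mem _⟩
  · exact ⟨0, Ideal.zero_mem _, by rw [map_zero, sub_zero]; exact Ideal.zero_mem _⟩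
  · rintro y₁ y₂ _ _ ⟨k₁, hk₁, h₁⟩ ⟨k₂, hk₂, h₂⟩
    refine ⟨k₁ + k₂, Ideal.add_mem _ hk₁ hk₂, ?_⟩
    have : y₁ + y₂ - algebraMap R S (k₁ + k₂) =
        (y₁ - algebraMap R S k₁) + (y₂ - algebraMap R S k₂) := by rw [map_add]; ring
    rw [this]
    exact Ideal.add_mem _ h₁ h₂
  · rintro c y₁ _ ⟨k₁, hk₁, h₁⟩
    obtain ⟨r, hr⟩ := hs c
    refine ⟨r * k₁, Ideal.mul_mem_left _ _ hk₁, ?_⟩
    have : c • y₁ - algebraMap R S (r * k₁) =
        c * (y₁ - algebraMap R S k₁) + (c - algebraMap R S r) * algebraMap R S k₁ := by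
      rw [map_mul, smul_eq_mul]; ring
    rw [this]
    exact Ideal.add_mem _ (Ideal.mul_mem_left _ _ h₁) (Ideal.mul_mem_right _ _ hr)

theorem mem_sup_of_map_mem_sup
    (hs : ∀ x : S, ∃ r : R, x - algebraMap R S r ∈ 𝔞.map (algebraMap R S))
    (hi : ∀ r : R, algebraMap R S r ∈ 𝔞.map (algebraMap R S) → r ∈ 𝔞)
    (r : R) (hr : algebraMap R S r ∈ 𝔞.map (algebraMap R S) ⊔ K.map (algebraMap R S)) :
    r ∈ 𝔞 ⊔ K := by
  obtain ⟨u, hu, y, hy, huy⟩ := Submodule.mem_sup.mp hr
  obtain ⟨k, hk, hky⟩ := exists_mem_sub_mem 𝔞 K hs y hy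
  have h1 : algebraMap R S (r - k) ∈ 𝔞.map (algebraMap R S) := by
    have : algebraMap R S (r - k) = u + (y - algebraMap R S k) := by
      rw [map_sub, ← huy]; ring
    rw [this]
    exact Ideal.add_mem _ hu hky
  have h2 := hi _ h1
  have h3 : r = (r - k) + k := by ring
  rw [h3]
  exact Submodule.add_mem_sup h2 hk

end Sup

section Compl

variable {A : Type u} [CommRing A] (I : Ideal A) {C' Ch : Type u} [CommRing C'] [CommRing Ch]
  [Algebra A C'] [Algebra A Ch] [Algebra C' Ch] [IsScalarTower A C' Ch]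

theorem compl_equiv_of_quotBij
    (hq : ∀ n : ℕ, (∀ x : Ch, ∃ c : C', x - algebraMap C' Ch c ∈
        ((I.map (algebraMap A C')) ^ n).map (algebraMap C' Ch)) ∧
      (∀ c : C', algebraMap C' Ch c ∈ ((I.map (algebraMap A C')) ^ n).map (algebraMap C' Ch) →
        c ∈ (I.map (algebraMap A C')) ^ n))
    (K : Ideal C') (J : Ideal Ch) (hJ : J = K.map (algebraMap C' Ch)) :
    Nonempty (AdicCompletion (I.map (algebraMap A (C' ⧸ K))) (C' ⧸ K) ≃ₐ[A]
      AdicCompletion (I.map (algebraMap A (Ch ⧸ J))) (Ch ⧸ J)) := by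
  have hIBn : ∀ n : ℕ, (I.map (algebraMap A (C' ⧸ K))) ^ n =
      ((I.map (algebraMap A C')) ^ n).map (Ideal.Quotient.mk K) := by
    intro n
    rw [← Ideal.map_pow, ← Ideal.map_pow, Ideal.map_map]
    rfl
  have hIDn : ∀ n : ℕ, (I.map (algebraMap A (Ch ⧸ J))) ^ n =
      (((I.map (algebraMap A C')) ^ n).map (algebraMap C' Ch)).map (Ideal.Quotient.mk J) := by
    intro n
    rw [← Ideal.map_pow, ← Ideal.map_pow, Ideal.map_map, Ideal.map_map, RingHom.comp_assoc,
      ← IsScalarTower.algebraMap_eq]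
    rfl
  let g : (C' ⧸ K) →ₐ[A] (Ch ⧸ J) :=
    Ideal.quotientMapₐ J (IsScalarTower.toAlgHom A C' Ch) (by rw [hJ]; exact Ideal.le_comap_map)
  have hg : ∀ c : C', g (Ideal.Quotient.mk K c) = Ideal.Quotient.mk J (algebraMap C' Ch c) :=
    fun c => rfl
  have hle : ∀ n : ℕ, (I.map (algebraMap A (C' ⧸ K))) ^ n ≤
      ((I.map (algebraMap A (Ch ⧸ J))) ^ n).comap g := by
    intro n
    rw [hIBn, hIDn, Ideal.map_le_iff_le_comap]
    intro c hc
    rw [Ideal.mem_comap, Ideal.mem_comap]
    show g (Ideal.Quotient.mk K c) ∈ _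
    rw [hg]
    exact Ideal.mem_map_of_mem _ (Ideal.mem_map_of_mem _ hc)
  let κ₀ : ∀ n : ℕ, ((C' ⧸ K) ⧸ (I.map (algebraMap A (C' ⧸ K))) ^ n) →ₐ[A]
      ((Ch ⧸ J) ⧸ (I.map (algebraMap A (Ch ⧸ J))) ^ n) := fun n =>
    Ideal.quotientMapₐ ((I.map (algebraMap A (Ch ⧸ J))) ^ n) g (hle n)
  have hκ₀ : ∀ (n : ℕ) (b : C' ⧸ K), κ₀ n (Ideal.Quotient.mk _ b) = Ideal.Quotient.mk _ (g b) :=
    fun n b => rfl
  have hbij : ∀ n : ℕ, Function.Bijective (κ₀ n) := by
    intro n
    constructor
    · rw [injective_iff_map_eq_zero]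
      intro x hx
      obtain ⟨b, rfl⟩ := Ideal.Quotient.mk_surjective x
      obtain ⟨c, rfl⟩ := Ideal.Quotient.mk_surjective b
      rw [hκ₀, hg, Ideal.Quotient.eq_zero_iff_mem, hIDn, Ideal.mem_quotient_iff_mem_sup] at hx
      rw [Ideal.Quotient.eq_zero_iff_mem, hIBn, Ideal.mem_quotient_iff_mem_sup]
      rw [hJ] at hx
      exact mem_sup_of_map_mem_sup _ K (hq n).1 (hq n).2 c hx
    · intro y
      obtain ⟨d, rfl⟩ := Ideal.Quotient.mk_surjective y
      obtain ⟨x, rfl⟩ := Ideal.Quotient.mk_surjective d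
      obtain ⟨c, hc⟩ := (hq n).1 x
      refine ⟨Ideal.Quotient.mk _ (Ideal.Quotient.mk K c), ?_⟩
      rw [hκ₀, hg, eq_comm, Ideal.Quotient.eq, hIDn, ← map_sub]
      exact Ideal.mem_map_of_mem _ hc
  let κ : ∀ n : ℕ, ((C' ⧸ K) ⧸ (I.map (algebraMap A (C' ⧸ K))) ^ n) ≃ₐ[A]
      ((Ch ⧸ J) ⧸ (I.map (algebraMap A (Ch ⧸ J))) ^ n) := fun n =>
    AlgEquiv.ofBijective (κ₀ n) (hbij n)
  refine ⟨Groth.Agent.Lib.Helper21.TruncIso.complEquiv _ _ κ ?_⟩
  intro m n hmn t
  obtain ⟨b, rfl⟩ := Ideal.Quotient.mk_surjective t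
  rfl

end Compl

section Final

/-- the completion of a quotient of the henselization of a finite type algebra is the completion of
a finite type algebra. -/
theorem main (A : Type u) [CommRing A] [IsNoetherianRing A] (I : Ideal A) (C : Type u) [CommRing C]
    [Algebra A C] [Algebra.FiniteType A C] (Ch : Type u) [CommRing Ch] [Algebra C Ch] [Algebra A Ch]
    [IsScalarTower A C Ch] (hCh : Hens2.IsPairHenselization C (I.map (algebraMap A C)) Ch)
    (J : Ideal Ch) :
    ∃ (B : Type u) (_ : CommRing B) (_ : Algebra A B), Algebra.FiniteType A B ∧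
      Nonempty (AdicCompletion (I.map (algebraMap A B)) B ≃ₐ[A]
        AdicCompletion (I.map (algebraMap A (Ch ⧸ J))) (Ch ⧸ J)) := by
  classical
  haveI : IsNoetherianRing C := Algebra.FiniteType.isNoetherianRing A C
  obtain ⟨hN, -, -⟩ := Groth.Agent.Lib.Helper27.PairHensNoeth.main C (I.map (algebraMap A C)) Ch hCh
  obtain ⟨s, hs⟩ : J.FG := IsNoetherian.noetherian J
  obtain ⟨C', _, _, _, _, hft, hCh', hmem⟩ := exists_ft_nbhd s C _ hCh
  letI : Algebra A C' := ((algebraMap C C').comp (algebraMap A C)).toAlgebra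
  haveI : IsScalarTower A C C' := IsScalarTower.of_algebraMap_eq' rfl
  haveI : IsScalarTower A C' Ch := IsScalarTower.of_algebraMap_eq (fun a => by
    show algebraMap A Ch a = algebraMap C' Ch (algebraMap C C' (algebraMap A C a))
    rw [← IsScalarTower.algebraMap_apply C C' Ch, ← IsScalarTower.algebraMap_apply A C Ch])
  haveI : Algebra.FiniteType A C' :=
    Algebra.FiniteType.trans (inferInstance : Algebra.FiniteType A C) hft
  choose! c hc using hmem
  let K : Ideal C' := Ideal.span (c '' (s : Set Ch))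
  have hJ : J = K.map (algebraMap C' Ch) := by
    rw [Ideal.map_span, Set.image_image, ← hs]
    congr 1
    ext x
    constructor
    · intro hx
      exact ⟨x, hx, hc x hx⟩
    · rintro ⟨y, hy, rfl⟩
      show algebraMap C' Ch (c y) ∈ (s : Set Ch)
      rw [hc y hy]
      exact hy
  have hmap : (I.map (algebraMap A C)).map (algebraMap C C') = I.map (algebraMap A C') := by
    rw [Ideal.map_map, ← IsScalarTower.algebraMap_eq]
  rw [hmap] at hCh'
  refine ⟨C' ⧸ K, inferInstance, inferInstance, inferInstance, ?_⟩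
  exact compl_equiv_of_quotBij I (fun n => (quotBij_iff _ Ch).mp (quotBij_pow hCh' n)) K J hJ

end Final

end Groth.Agent.Lib.Helper27.HensQuotCompl
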