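import Groth.Agent.Lib.Helper27.HensNormal
import Groth.Agent.Lib.Helper14.GeomReduced
import Groth.Agent.Lib.Helper14.FEChain7
import Groth.Agent.S0507
import Groth.Agent.S0508
import Groth.Agent.S0509
import Groth.Agent.S0511

/-!
# Geometrically reduced formal fibres and henselization

* `exists_mul_eq_zero_of_indEtaleLike`, `isReduced_tensor_of_indEtaleLike`: for `R → S` ind-étale-like,
  `T` an `S`-algebra and `L` a field over `S`, `L ⊗[S] T` is a localization of `L ⊗[R] T`; in
  particular reducedness passes from the latter to the former.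
* `IndEtaleLike.isGeometricallyReduced_fiber`.
* `cplEquivHenselization`: `Â ≃ₐ[A] (Aʰ)^`.
* `hasGeomReducedFormalFibres_henselization`, `hasGeomReducedFormalFibres_of_henselization`.
-/

open TensorProduct
universe u
open IsLocalRing
open Groth.Agent.Lib.Helper8.Hzl
set_option linter.style.haveILetI false
set_option linter.unusedSectionVars false
set_option autoImplicit false

namespace Groth.Agent.Lib.Helper27.HensRed

section A
variable {R S L : Type u} [CommRing R] [CommRing S] [Field L] [Algebra R S] [Algebra R L]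

/-- For an ind-étale-like `R → S`, a field `L` over `R` and an `R`-algebra map `φ : S → L`, every
element of the kernel of `L ⊗[R] S → L` is killed by an element outside the kernel. -/
theorem exists_mul_eq_zero_of_indEtaleLike (h : IndEtaleLike R S) (φ : S →ₐ[R] L)
    (b : L ⊗[R] S)
    (hb : Algebra.TensorProduct.lift (Algebra.ofId L L) φ (fun _ _ => Commute.all _ _) b = 0) :
    ∃ c : L ⊗[R] S,
      Algebra.TensorProduct.lift (Algebra.ofId L L) φ (fun _ _ => Commute.all _ _) c ≠ 0 ∧
        c * b = 0 := by
  have hB : IndEtaleLike L (L ⊗[R] S) := h.baseChange L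
  set π : (L ⊗[R] S) →ₐ[L] L := Algebra.TensorProduct.lift (Algebra.ofId L L) φ
    (fun _ _ => Commute.all _ _) with hπdef
  haveI hm : (RingHom.ker π.toRingHom).IsPrime := RingHom.ker_isPrime _
  set m := RingHom.ker π.toRingHom with hmdef
  have hfield := hB.maximalIdeal_localization_eq_bot m
  have h1 : b ∈ m := by
    rw [hmdef, RingHom.mem_ker]
    exact hb
  have h2 : algebraMap (L ⊗[R] S) (Localization.AtPrime m) b ∈
      maximalIdeal (Localization.AtPrime m) :=
    (IsLocalization.AtPrime.to_map_mem_maximal_iff _ m b).mpr h1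
  rw [hfield, Ideal.mem_bot] at h2
  obtain ⟨c, hc⟩ := (IsLocalization.map_eq_zero_iff m.primeCompl _ b).mp h2
  exact ⟨c, fun h0 => c.2 ((RingHom.mem_ker).mpr h0), hc⟩
end A

section B
variable {R S T L : Type u} [CommRing R] [CommRing S] [CommRing T] [Field L]
  [Algebra R S] [Algebra S T] [Algebra R T] [IsScalarTower R S T]
  [Algebra S L] [Algebra R L] [IsScalarTower R S L]

/-- For an ind-étale-like `R → S`, an `S`-algebra `T` and a field `L` over `S`: if `L ⊗[R] T` is
reduced then so is `L ⊗[S] T` (it is a localization of the former). -/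
theorem isReduced_tensor_of_indEtaleLike (h : IndEtaleLike R S) [hred : IsReduced (L ⊗[R] T)] :
    IsReduced (L ⊗[S] T) := by
  let φ : S →ₐ[R] L := IsScalarTower.toAlgHom R S L
  let π : (L ⊗[R] S) →ₐ[L] L := Algebra.TensorProduct.lift (Algebra.ofId L L) φ
    (fun _ _ => Commute.all _ _)
  let β : (L ⊗[R] S) →ₐ[L] (L ⊗[R] T) :=
    Algebra.TensorProduct.map (AlgHom.id L L) (IsScalarTower.toAlgHom R S T)
  let ψ : (L ⊗[R] T) →ₐ[L] (L ⊗[S] T) :=
    Algebra.TensorProduct.lift (Algebra.TensorProduct.includeLeft : L →ₐ[L] L ⊗[S] T)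
      ((Algebra.TensorProduct.includeRight : T →ₐ[S] L ⊗[S] T).restrictScalars R)
      (fun _ _ => Commute.all _ _)
  have hψβ : ∀ b, ψ (β b) = algebraMap L (L ⊗[S] T) (π b) := by
    intro b
    induction b using TensorProduct.induction_on with
    | zero => simp
    | tmul l s =>
      simp only [β, ψ, π, φ, Algebra.TensorProduct.map_tmul, AlgHom.coe_id, id_eq,
        IsScalarTower.coe_toAlgHom', Algebra.TensorProduct.lift_tmul,
        Algebra.TensorProduct.includeLeft_apply, AlgHom.coe_restrictScalars',
        Algebra.TensorProduct.includeRight_apply, Algebra.TensorProduct.tmul_mul_tmul, mul_one,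
        one_mul, Algebra.ofId_apply, Algebra.algebraMap_self, RingHom.id_apply,
        Algebra.TensorProduct.algebraMap_apply]
      rw [Algebra.algebraMap_eq_smul_one s, ← TensorProduct.smul_tmul, Algebra.smul_def,
        mul_comm]
    | add x y hx hy => rw [map_add, map_add, map_add, map_add, hx, hy]
  haveI hm : (RingHom.ker π.toRingHom).IsPrime := RingHom.ker_isPrime _
  let M : Submonoid (L ⊗[R] T) := (RingHom.ker π.toRingHom).primeCompl.map (β : _ →* _)
  let Λ := Localization M
  haveI : IsReduced Λ := isReduced_localizationPreserves M Λ inferInstance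
  -- key vanishing
  have hK : ∀ s : S, algebraMap (L ⊗[R] T) Λ ((algebraMap S L s) ⊗ₜ 1) =
      algebraMap (L ⊗[R] T) Λ (1 ⊗ₜ (algebraMap S T s)) := by
    intro s
    have hb : π ((algebraMap S L s) ⊗ₜ 1 - 1 ⊗ₜ s) = 0 := by
      simp [π, φ]
    obtain ⟨c, hc1, hc2⟩ := exists_mul_eq_zero_of_indEtaleLike h φ _ hb
    have hcM : β c ∈ M := ⟨c, fun h0 => hc1 ((RingHom.mem_ker).mp h0), rfl⟩
    have hu : IsUnit (algebraMap (L ⊗[R] T) Λ (β c)) := IsLocalization.map_units Λ ⟨β c, hcM⟩
    have h0 : algebraMap (L ⊗[R] T) Λ (β c) *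
        algebraMap (L ⊗[R] T) Λ (β ((algebraMap S L s) ⊗ₜ 1 - 1 ⊗ₜ s)) = 0 := by
      rw [← map_mul, ← map_mul, hc2, map_zero, map_zero]
    have h1 := (hu.mul_right_eq_zero).mp h0
    have h2 : β ((algebraMap S L s) ⊗ₜ[R] (1 : S) - (1 : L) ⊗ₜ[R] s) =
        (algebraMap S L s) ⊗ₜ[R] (1 : T) - (1 : L) ⊗ₜ[R] (algebraMap S T s) := by
      simp [β]
    rw [h2, map_sub, sub_eq_zero] at h1
    exact h1
  have halgS : ∀ s : S, algebraMap S Λ s =
      algebraMap (L ⊗[R] T) Λ ((algebraMap S L s) ⊗ₜ 1) := fun s => by
    rw [IsScalarTower.algebraMap_apply S (L ⊗[R] T) Λ, Algebra.TensorProduct.algebraMap_apply]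
  let f : L →ₐ[S] Λ :=
    { (algebraMap (L ⊗[R] T) Λ).comp
        (Algebra.TensorProduct.includeLeft : L →ₐ[L] L ⊗[R] T).toRingHom with
      commutes' := fun s => by
        rw [halgS]
        rfl }
  let g : T →ₐ[S] Λ :=
    { (algebraMap (L ⊗[R] T) Λ).comp
        (Algebra.TensorProduct.includeRight : T →ₐ[R] L ⊗[R] T).toRingHom with
      commutes' := fun s => by
        rw [halgS, hK]
        rfl }
  let F : (L ⊗[S] T) →ₐ[S] Λ := Algebra.TensorProduct.lift f g (fun _ _ => Commute.all _ _)
  have hF : ∀ (l : L) (t : T), F (l ⊗ₜ t) =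
      algebraMap (L ⊗[R] T) Λ (l ⊗ₜ 1) * algebraMap (L ⊗[R] T) Λ (1 ⊗ₜ t) := fun l t => by
    simp only [F, Algebra.TensorProduct.lift_tmul]
    rfl
  have hunits : ∀ y : M, IsUnit (ψ.toRingHom y) := by
    rintro ⟨y, c, hc, rfl⟩
    show IsUnit (ψ (β c))
    rw [hψβ]
    apply IsUnit.map
    rw [isUnit_iff_ne_zero]
    exact fun h0 => hc ((RingHom.mem_ker).mpr h0)
  let G : Λ →+* (L ⊗[S] T) := IsLocalization.lift hunits
  have hGF : ∀ x : L ⊗[S] T, G (F x) = x := by
    intro x
    induction x using TensorProduct.induction_on with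
    | zero => simp
    | tmul l t =>
      rw [hF, map_mul]
      simp only [G, IsLocalization.lift_eq]
      simp [ψ]
    | add x y hx hy => rw [map_add, map_add, hx, hy]
  exact isReduced_of_injective F (Function.LeftInverse.injective hGF)
end B

section C
open Groth.Agent.Lib.Helper14.GeomReduced

/-- Fibres of an ind-étale-like map are geometrically reduced. -/
theorem IndEtaleLike.isGeometricallyReduced_fiber {R S : Type u} [CommRing R] [CommRing S]
    [Algebra R S] (h : IndEtaleLike R S) (p : Ideal R) [p.IsPrime] :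
    Algebra.IsGeometricallyReduced p.ResidueField (p.Fiber S) := by
  rw [Algebra.isGeometricallyReduced_field_iff]
  have h1 : IndEtaleLike p.ResidueField (p.ResidueField ⊗[R] S) := h.baseChange _
  have h2 : IndEtaleLike (AlgebraicClosure p.ResidueField)
      (AlgebraicClosure p.ResidueField ⊗[p.ResidueField] (p.ResidueField ⊗[R] S)) :=
    h1.baseChange _
  exact h2.isReduced_of_field

variable (A S : Type u) [CommRing A] [IsLocalRing A] [IsNoetherianRing A] [CommRing S]
  [IsLocalRing S] [Algebra A S] [IsLocalHom (algebraMap A S)] [Hensel.IsHenselization A S]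

/-- The completion of a Noetherian local ring agrees with that of its henselization. -/
noncomputable def cplEquivHenselization :
    AdicCompletion (IsLocalRing.maximalIdeal A) A ≃ₐ[A]
      AdicCompletion (IsLocalRing.maximalIdeal S) S := by
  haveI : IsNoetherianRing S := (Groth.Agent.S0511.result A S).mp inferInstance
  haveI : Module.FaithfullyFlat A S := Groth.Agent.S0509.result _ _
  have hbij : Function.Bijective (Groth.Agent.Lib.Helper14.ComplFlat.cplMap A S) := by
    constructor
    · letI := (Groth.Agent.Lib.Helper14.ComplFlat.cplMap A S).toAlgebra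
      haveI := Groth.Agent.Lib.Helper14.ComplFlat.cplMap_faithfullyFlat A S
      exact FaithfulSMul.algebraMap_injective (EGA4.Cpl A) (EGA4.Cpl S)
    · exact Groth.Agent.Lib.Helper14.FEChain7.cplMap_surjective' A S (Groth.Agent.S0507.result _ _)
        (Groth.Agent.S0508.result _ _).2
  let f : AdicCompletion (IsLocalRing.maximalIdeal A) A →ₐ[A]
      AdicCompletion (IsLocalRing.maximalIdeal S) S :=
    { Groth.Agent.Lib.Helper14.ComplFlat.cplMap A S with
      commutes' := fun r => by
        have := congrArg (fun g => g r) (Groth.Agent.Lib.Helper14.ComplFlat.cplMap_comp A S)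
        simp only [RingHom.comp_apply] at this
        rw [IsScalarTower.algebraMap_apply A S (AdicCompletion (IsLocalRing.maximalIdeal S) S)]
        exact this }
  exact AlgEquiv.ofBijective f hbij

theorem hasGeomReducedFormalFibres_of_henselization
    (hS : EGA4.HasGeomReducedFormalFibres S) : EGA4.HasGeomReducedFormalFibres A := by
  haveI : IsNoetherianRing S := (Groth.Agent.S0511.result A S).mp inferInstance
  have hind := Groth.Agent.Lib.Helper8.Hzl.henselization_indEtaleLike A S
  intro p hp
  have h1 : Algebra.IsGeometricallyReduced p.ResidueField (p.Fiber (EGA4.Cpl S)) :=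
    isGeometricallyReduced_fiber_comp A S (EGA4.Cpl S)
      (fun p _ => IndEtaleLike.isGeometricallyReduced_fiber hind p) (fun q _ => hS q) p
  let e := cplEquivHenselization A S
  exact Algebra.IsGeometricallyReduced.of_injective
    (Algebra.TensorProduct.congr (AlgEquiv.refl (R := p.ResidueField) (A₁ := p.ResidueField))
      e).toAlgHom (AlgEquiv.injective _)

theorem hasGeomReducedFormalFibres_henselization
    (hA : EGA4.HasGeomReducedFormalFibres A) : EGA4.HasGeomReducedFormalFibres S := by
  haveI : IsNoetherianRing S := (Groth.Agent.S0511.result A S).mp inferInstance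
  have hind := Groth.Agent.Lib.Helper8.Hzl.henselization_indEtaleLike A S
  intro q hq
  show Algebra.IsGeometricallyReduced q.ResidueField (q.Fiber (EGA4.Cpl S))
  rw [Algebra.isGeometricallyReduced_field_iff]
  haveI h1 : IsReduced (AlgebraicClosure q.ResidueField ⊗[A] (EGA4.Cpl A)) :=
    isReduced_tensor_field_of_fibers A (EGA4.Cpl A) (fun p _ => hA p) _
  let e := cplEquivHenselization A S
  haveI h2 : IsReduced (AlgebraicClosure q.ResidueField ⊗[A] (EGA4.Cpl S)) :=
    isReduced_of_injective
      (Algebra.TensorProduct.congr (AlgEquiv.refl (R := A)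
        (A₁ := AlgebraicClosure q.ResidueField)) e.symm).toAlgHom (AlgEquiv.injective _)
  haveI h3 : IsReduced (AlgebraicClosure q.ResidueField ⊗[S] (EGA4.Cpl S)) :=
    isReduced_tensor_of_indEtaleLike (R := A) hind
  exact isReduced_of_injective
    (Algebra.TensorProduct.cancelBaseChange S q.ResidueField q.ResidueField
      (AlgebraicClosure q.ResidueField) (EGA4.Cpl S)).toRingEquiv.toRingHom
    (RingEquiv.injective _)

end C

end Groth.Agent.Lib.Helper27.HensRed
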