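import Mathlib

/-!
# A criterion for a ring to be a domain

If `ϖ` is a regular element of `C` generating a prime ideal and `⋂ₙ (ϖⁿ) = 0`, then `C` is a
domain.
-/

set_option autoImplicit false

namespace Groth.Agent.Lib.Helper27.HfeA

theorem exists_eq_pow_mul {C : Type*} [CommRing C] (ϖ : C)
    (h3 : ∀ x : C, (∀ n : ℕ, ∃ y, x = ϖ ^ n * y) → x = 0) (x : C) (hx : x ≠ 0) :
    ∃ (n : ℕ) (x' : C), x = ϖ ^ n * x' ∧ x' ∉ Ideal.span {ϖ} := by
  classical
  by_contra hcon
  push_neg at hcon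
  apply hx
  apply h3
  intro n
  induction n with
  | zero => exact ⟨x, by simp⟩
  | succ n ih =>
    obtain ⟨y, hy⟩ := ih
    have := hcon n y hy
    rw [Ideal.mem_span_singleton'] at this
    obtain ⟨z, hz⟩ := this
    exact ⟨z, by rw [hy, ← hz, pow_succ]; ring⟩

theorem isDomain_of_prime_regular {C : Type*} [CommRing C] (ϖ : C)
    (h1 : ∀ x : C, ϖ * x = 0 → x = 0) (h2 : (Ideal.span {ϖ}).IsPrime)
    (h3 : ∀ x : C, (∀ n : ℕ, ∃ y, x = ϖ ^ n * y) → x = 0) : IsDomain C := by
  haveI : Nontrivial C := by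
    by_contra hnt
    rw [not_nontrivial_iff_subsingleton] at hnt
    exact h2.ne_top (Subsingleton.elim _ _)
  have hpow : ∀ (n : ℕ) (x : C), ϖ ^ n * x = 0 → x = 0 := by
    intro n
    induction n with
    | zero => intro x hx; simpa using hx
    | succ n ih =>
      intro x hx
      apply h1
      apply ih
      rw [← hx, pow_succ]; ring
  haveI : NoZeroDivisors C := by
    refine ⟨fun {x y} hxy => ?_⟩
    by_contra hcon
    push_neg at hcon
    obtain ⟨a, x', hx', hx'P⟩ := exists_eq_pow_mul ϖ h3 x hcon.1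
    obtain ⟨b, y', hy', hy'P⟩ := exists_eq_pow_mul ϖ h3 y hcon.2
    have h0 : ϖ ^ (a + b) * (x' * y') = 0 := by
      rw [← hxy, hx', hy', pow_add]; ring
    have h4 := hpow _ _ h0
    have h5 : x' * y' ∈ Ideal.span {ϖ} := by rw [h4]; exact Ideal.zero_mem _
    rcases h2.mem_or_mem h5 with h | h
    · exact hx'P h
    · exact hy'P h
  exact NoZeroDivisors.to_isDomain C

end Groth.Agent.Lib.Helper27.HfeA
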