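import Mathlib
import Groth.Agent.S0549
import Groth.Agent.Lib.Helper27.ApxA
import Groth.Agent.Lib.Helper27.HfeA

/-!
# The completion of a DVR tensored with a finite DVR extension is a domain
-/

set_option autoImplicit false
set_option linter.style.haveILetI false

namespace Groth.Agent.Lib.Helper27.HfeB

open TensorProduct IsLocalRing

universe u

theorem isDomain_tensor (R : Type u) [CommRing R] [IsDomain R] [IsDiscreteValuationRing R]
    (B : Type u) [CommRing B] [IsDomain B] [IsDiscreteValuationRing B] [Algebra R B]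
    [Module.Finite R B] (hinj : Function.Injective (algebraMap R B)) :
    IsDomain (AdicCompletion (maximalIdeal R) R ⊗[R] B) := by
  obtain ⟨hdom, hdvr⟩ := (Groth.Agent.S0549.result R).1 ⟨inferInstance, inferInstance⟩
  obtain ⟨π, hπ⟩ := IsDiscreteValuationRing.exists_irreducible R
  obtain ⟨ϖ, hϖ⟩ := IsDiscreteValuationRing.exists_irreducible B
  have hmR : maximalIdeal R = Ideal.span {π} := hπ.maximalIdeal_eq
  have hmB : maximalIdeal B = Ideal.span {ϖ} := hϖ.maximalIdeal_eq
  haveI : Algebra.IsIntegral R B := Algebra.IsIntegral.of_finite R B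
  have hπB : algebraMap R B π ∈ maximalIdeal B := by
    have hmax : ((maximalIdeal B).comap (algebraMap R B)).IsMaximal :=
      Ideal.isMaximal_comap_of_isIntegral_of_isMaximal (maximalIdeal B)
    have h0 := IsLocalRing.eq_maximalIdeal hmax
    have h1 : π ∈ (maximalIdeal B).comap (algebraMap R B) := by
      rw [h0, hmR]; exact Ideal.mem_span_singleton_self π
    exact h1
  have hπB0 : algebraMap R B π ≠ 0 := fun h => hπ.ne_zero (hinj (by rw [h, map_zero]))
  obtain ⟨e, u, hu⟩ := IsDiscreteValuationRing.eq_unit_mul_pow_irreducible hπB0 hϖ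
  obtain ⟨w, hw⟩ : ∃ w, w * ϖ = algebraMap R B π := by
    rw [hmB] at hπB
    exact Ideal.mem_span_singleton'.mp hπB
  set Rh := AdicCompletion (maximalIdeal R) R with hRh
  set πh : Rh := algebraMap R Rh π with hπh
  have hmh : maximalIdeal Rh = Ideal.span {πh} := by
    rw [AdicCompletion.maximalIdeal_eq_map]
    have h0 := congrArg (Ideal.map (algebraMap R Rh)) hmR
    rw [Ideal.map_span, Set.image_singleton] at h0
    exact h0
  haveI : Module.FaithfullyFlat R Rh := Module.FaithfullyFlat.of_flat_of_isLocalHom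
  haveI : Nontrivial (Rh ⊗[R] B) := inferInstance
  haveI : Algebra.IsIntegral Rh (Rh ⊗[R] B) := Algebra.IsIntegral.of_finite Rh (Rh ⊗[R] B)
  set ϖ' : Rh ⊗[R] B := (1 : Rh) ⊗ₜ[R] ϖ with hϖ'
  -- `π` in the tensor product
  have hπC : algebraMap Rh (Rh ⊗[R] B) πh = (1 : Rh) ⊗ₜ[R] (algebraMap R B π) := by
    rw [Algebra.TensorProduct.algebraMap_apply, Algebra.algebraMap_self, RingHom.id_apply,
      hπh, Algebra.algebraMap_eq_smul_one, TensorProduct.smul_tmul, ← Algebra.algebraMap_eq_smul_one]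
  -- density
  have hdense : ∀ r : Rh, ∃ (a : R) (s : Rh), r = algebraMap R Rh a + πh * s := by
    intro r
    obtain ⟨a, ha⟩ := Groth.Agent.Lib.Helper27.ApxA.exists_sub_mem (maximalIdeal R)
      (IsNoetherian.noetherian _) 1 r
    have ha' : r - algebraMap R Rh a ∈ maximalIdeal Rh := by
      rw [AdicCompletion.maximalIdeal_eq_map]
      rw [pow_one] at ha
      exact ha
    rw [hmh, Ideal.mem_span_singleton'] at ha'
    obtain ⟨s, hs⟩ := ha'
    exact ⟨a, s, by rw [mul_comm, hs]; ring⟩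
  -- representatives
  have hrep : ∀ c : Rh ⊗[R] B, ∃ b : B, c - (1 : Rh) ⊗ₜ[R] b ∈ Ideal.span {ϖ'} := by
    intro c
    induction c using TensorProduct.induction_on with
    | zero => exact ⟨0, by simp⟩
    | tmul r b =>
      obtain ⟨a, s, rfl⟩ := hdense r
      refine ⟨a • b, ?_⟩
      have h1 : (algebraMap R Rh a + πh * s) ⊗ₜ[R] b - (1 : Rh) ⊗ₜ[R] (a • b) =
          ϖ' * (s ⊗ₜ[R] (w * b)) := by
        rw [hϖ', Algebra.TensorProduct.tmul_mul_tmul, one_mul, ← mul_assoc, mul_comm ϖ w, hw,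
          TensorProduct.add_tmul, ← TensorProduct.smul_tmul, Algebra.algebraMap_eq_smul_one,
          add_sub_cancel_left, hπh, ← Algebra.smul_def, ← Algebra.smul_def,
          ← TensorProduct.smul_tmul]
      rw [h1]
      exact Ideal.mul_mem_right _ _ (Ideal.mem_span_singleton_self ϖ')
    | add x y hx hy =>
      obtain ⟨b₁, h₁⟩ := hx
      obtain ⟨b₂, h₂⟩ := hy
      refine ⟨b₁ + b₂, ?_⟩
      have : x + y - (1 : Rh) ⊗ₜ[R] (b₁ + b₂) = (x - 1 ⊗ₜ[R] b₁) + (y - 1 ⊗ₜ[R] b₂) := by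
        rw [TensorProduct.tmul_add]; ring
      rw [this]
      exact Ideal.add_mem _ h₁ h₂
  -- `ϖ'` is not a unit
  have hne : Ideal.span {ϖ'} ≠ ⊤ := by
    intro htop
    obtain ⟨M, hM⟩ := Ideal.exists_maximal (Rh ⊗[R] B)
    have hmax : (M.comap (algebraMap Rh (Rh ⊗[R] B))).IsMaximal :=
      Ideal.isMaximal_comap_of_isIntegral_of_isMaximal M
    have h0 := IsLocalRing.eq_maximalIdeal hmax
    have h1 : πh ∈ M.comap (algebraMap Rh (Rh ⊗[R] B)) := by
      rw [h0, hmh]; exact Ideal.mem_span_singleton_self πh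
    rw [Ideal.mem_comap, hπC] at h1
    let ι : B →+* Rh ⊗[R] B := (Algebra.TensorProduct.includeRight : B →ₐ[R] Rh ⊗[R] B).toRingHom
    have hι : ∀ b, ι b = (1 : Rh) ⊗ₜ[R] b := fun b => rfl
    have hprime : (M.comap ι).IsPrime := Ideal.comap_isPrime ι M
    have hnebot : M.comap ι ≠ ⊥ := by
      intro hbot
      have : algebraMap R B π ∈ M.comap ι := by rw [Ideal.mem_comap, hι]; exact h1
      rw [hbot] at this
      exact hπB0 ((Ideal.mem_bot).mp this)
    have hmax' : (M.comap ι).IsMaximal := hprime.isMaximal hnebot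
    have h2 := IsLocalRing.eq_maximalIdeal hmax'
    have h3 : ϖ ∈ M.comap ι := by rw [h2, hmB]; exact Ideal.mem_span_singleton_self ϖ
    rw [Ideal.mem_comap, hι] at h3
    have h4 : Ideal.span {ϖ'} ≤ M := (Ideal.span_singleton_le_iff_mem M).mpr h3
    rw [htop] at h4
    exact hM.ne_top (top_le_iff.mp h4)
  apply Groth.Agent.Lib.Helper27.HfeA.isDomain_of_prime_regular ϖ'
  · -- regular
    intro x hx
    have key : ∀ x : Rh ⊗[R] B, ϖ' * x = (LinearMap.mulLeft R ϖ).lTensor Rh x := by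
      intro x
      induction x using TensorProduct.induction_on with
      | zero => simp
      | tmul a b => simp [hϖ', Algebra.TensorProduct.tmul_mul_tmul]
      | add x y hx hy => rw [mul_add, map_add, hx, hy]
    have hinj' : Function.Injective ((LinearMap.mulLeft R ϖ).lTensor Rh) :=
      Module.Flat.lTensor_preserves_injective_linearMap (M := Rh) (LinearMap.mulLeft R ϖ)
        (mul_right_injective₀ hϖ.ne_zero)
    apply hinj'
    rw [← key, hx, map_zero]
  · -- prime
    rw [Ideal.isPrime_iff]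
    refine ⟨hne, fun {x y} hxy => ?_⟩
    obtain ⟨b₁, h₁⟩ := hrep x
    obtain ⟨b₂, h₂⟩ := hrep y
    have h12 : (1 : Rh) ⊗ₜ[R] (b₁ * b₂) ∈ Ideal.span {ϖ'} := by
      have : (1 : Rh) ⊗ₜ[R] (b₁ * b₂) =
          x * y - ((x - 1 ⊗ₜ[R] b₁) * y + (1 ⊗ₜ[R] b₁) * (y - 1 ⊗ₜ[R] b₂)) := by
        have : (1 : Rh) ⊗ₜ[R] (b₁ * b₂) = ((1 : Rh) ⊗ₜ[R] b₁) * ((1 : Rh) ⊗ₜ[R] b₂) := by
          rw [Algebra.TensorProduct.tmul_mul_tmul, one_mul]
        rw [this]; ring
      rw [this]
      exact Ideal.sub_mem _ hxy (Ideal.add_mem _ (Ideal.mul_mem_right _ _ h₁)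
        (Ideal.mul_mem_left _ _ h₂))
    have hclaim : ∀ b : B, (1 : Rh) ⊗ₜ[R] b ∈ Ideal.span {ϖ'} → b ∈ maximalIdeal B := by
      intro b hb
      by_contra hnm
      have hbu : IsUnit b := by
        by_contra hnu
        exact hnm ((IsLocalRing.mem_maximalIdeal b).mpr hnu)
      have : IsUnit ((1 : Rh) ⊗ₜ[R] b) :=
        hbu.map (Algebra.TensorProduct.includeRight : B →ₐ[R] Rh ⊗[R] B)
      exact hne (Ideal.eq_top_of_isUnit_mem _ hb this)
    have hin : ∀ b : B, b ∈ maximalIdeal B → (1 : Rh) ⊗ₜ[R] b ∈ Ideal.span {ϖ'} := by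
      intro b hb
      rw [hmB, Ideal.mem_span_singleton'] at hb
      obtain ⟨a, rfl⟩ := hb
      have : (1 : Rh) ⊗ₜ[R] (a * ϖ) = ((1 : Rh) ⊗ₜ[R] a) * ϖ' := by
        rw [hϖ', Algebra.TensorProduct.tmul_mul_tmul, one_mul]
      rw [this]
      exact Ideal.mul_mem_left _ _ (Ideal.mem_span_singleton_self ϖ')
    have hb12 := hclaim _ h12
    rcases (IsLocalRing.maximalIdeal.isMaximal B).isPrime.mem_or_mem hb12 with h | h
    · left
      have := Ideal.add_mem _ h₁ (hin _ h)
      rwa [sub_add_cancel] at this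
    · right
      have := Ideal.add_mem _ h₂ (hin _ h)
      rwa [sub_add_cancel] at this
  · -- separated
    intro x hx
    have hbot := Ideal.iInf_pow_smul_eq_bot_of_isLocalRing (maximalIdeal Rh) (M := Rh ⊗[R] B)
      (Ideal.IsPrime.ne_top inferInstance)
    have hxmem : x ∈ ⨅ i : ℕ, (maximalIdeal Rh) ^ i • (⊤ : Submodule Rh (Rh ⊗[R] B)) := by
      rw [Submodule.mem_iInf]
      intro n
      obtain ⟨y, hy⟩ := hx (e * n)
      have hpow : ϖ' ^ (e * n) = algebraMap Rh (Rh ⊗[R] B) (πh ^ n) *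
          ((1 : Rh) ⊗ₜ[R] ((↑(u⁻¹ ^ n) : B))) := by
        have h5 : ϖ ^ (e * n) = algebraMap R B (π ^ n) * (↑(u⁻¹ ^ n) : B) := by
          rw [pow_mul, map_pow, hu, mul_pow, Units.val_pow_eq_pow_val]
          have h6 : (↑u : B) ^ n * ((↑(u⁻¹) : B)) ^ n = 1 := by
            rw [← mul_pow, Units.mul_inv, one_pow]
          calc (ϖ ^ e) ^ n = (ϖ ^ e) ^ n * ((↑u : B) ^ n * ((↑(u⁻¹) : B)) ^ n) := by
                rw [h6, mul_one]
            _ = _ := by ring
        rw [hϖ', Algebra.TensorProduct.tmul_pow, one_pow, h5]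
        rw [map_pow (algebraMap Rh (Rh ⊗[R] B)), hπC, Algebra.TensorProduct.tmul_pow, one_pow,
          Algebra.TensorProduct.tmul_mul_tmul, one_mul, map_pow]
      rw [hy, hpow, mul_assoc, ← Algebra.smul_def]
      exact Submodule.smul_mem_smul (Ideal.pow_mem_pow (by
        rw [hmh]; exact Ideal.mem_span_singleton_self πh) n) Submodule.mem_top
    rw [hbot] at hxmem
    exact (Submodule.mem_bot _).mp hxmem

end Groth.Agent.Lib.Helper27.HfeB
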