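import Mathlib
import Groth.Agent.Lib.Helper27.HfeB
import Groth.Agent.Lib.Helper8.HenselSplit

/-!
# `K̂ ⊗[K] E` is a domain for a finite separable extension `E / K`, `K` the fraction field of a
henselian DVR
-/

set_option autoImplicit false
set_option linter.style.haveILetI false

namespace Groth.Agent.Lib.Helper27.HfeC

open TensorProduct IsLocalRing

universe u

section

variable (R K : Type u) [CommRing R] [IsDomain R] [IsDiscreteValuationRing R]
  [HenselianLocalRing R] [Field K] [Algebra R K] [IsFractionRing R K]
  (E : Type u) [Field E] [Algebra K E] [FiniteDimensional K E] [Algebra.IsSeparable K E]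
  [Algebra R E] [IsScalarTower R K E]

include K in
theorem injective_algebraMap_integralClosure :
    Function.Injective (algebraMap R (integralClosure R E)) := by
  intro a b h
  have h1 : algebraMap R E a = algebraMap R E b := by
    rw [IsScalarTower.algebraMap_apply R (integralClosure R E) E, h,
      ← IsScalarTower.algebraMap_apply R (integralClosure R E) E]
  rw [IsScalarTower.algebraMap_apply R K E, IsScalarTower.algebraMap_apply R K E] at h1
  exact IsFractionRing.injective R K ((algebraMap K E).injective h1)

include K in
theorem finite_integralClosure : Module.Finite R (integralClosure R E) :=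
  IsIntegralClosure.finite R K E (integralClosure R E)

include K in
theorem isLocalRing_integralClosure : IsLocalRing (integralClosure R E) := by
  haveI := finite_integralClosure R K E
  obtain ⟨M, hM⟩ := Ideal.exists_maximal (integralClosure R E)
  refine IsLocalRing.of_unique_max_ideal ⟨M, hM, fun M' hM' => ?_⟩
  by_contra hne
  obtain ⟨e, he, hiff⟩ := Groth.Agent.Lib.Helper8.exists_idempotent_notMem_iff R
    (integralClosure R E) {M}
  rcases (IsIdempotentElem.iff_eq_zero_or_one).mp he with h0 | h1
  · have := (hiff M hM).mpr rfl
    rw [h0] at this
    exact this (Ideal.zero_mem _)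
  · have := (hiff M' hM').mp (by rw [h1]; exact (Ideal.ne_top_iff_one _).mp hM'.ne_top)
    exact hne this

include K in
theorem isDVR_integralClosure :
    ∃ (_ : IsLocalRing (integralClosure R E)), IsDiscreteValuationRing (integralClosure R E) := by
  haveI := finite_integralClosure R K E
  haveI hloc := isLocalRing_integralClosure R K E
  haveI hded : IsDedekindDomain (integralClosure R E) := integralClosure.isDedekindDomain R K E
  have hnf : ¬ IsField (integralClosure R E) := by
    intro hf
    haveI : Algebra.IsIntegral R (integralClosure R E) := Algebra.IsIntegral.of_finite R _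
    exact IsDiscreteValuationRing.not_isField R
      (isField_of_isIntegral_of_isField (injective_algebraMap_integralClosure R K E) hf)
  exact ⟨hloc, ((IsDiscreteValuationRing.TFAE (integralClosure R E) hnf).out 0 2).mpr
    hded⟩

end

end Groth.Agent.Lib.Helper27.HfeC
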