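import Mathlib
import Groth.Agent.Lib.Helper27.HfeC

/-!
# `K̂ ⊗[K] E` is a domain: the basis argument
-/

set_option autoImplicit false
set_option linter.style.haveILetI false

namespace Groth.Agent.Lib.Helper27.HfeD

open TensorProduct IsLocalRing

universe u

theorem isDomain_of_basis (R K Rh Khat B E : Type u) [CommRing R] [IsDomain R] [Field K]
    [Algebra R K] [IsFractionRing R K] [CommRing Rh] [IsDomain Rh] [Algebra R Rh] [Field Khat]
    [Algebra Rh Khat] [IsFractionRing Rh Khat] [Algebra R Khat] [IsScalarTower R Rh Khat]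
    [Algebra K Khat] [IsScalarTower R K Khat] [CommRing B] [Algebra R B] [Field E] [Algebra K E]
    [Algebra R E] [IsScalarTower R K E] [Algebra B E] [IsScalarTower R B E]
    [IsLocalization (Algebra.algebraMapSubmonoid B (nonZeroDivisors R)) E]
    [Module.Free R B] [Module.Finite R B] [IsDomain (Rh ⊗[R] B)] : IsDomain (Khat ⊗[K] E) := by
  classical
  let ι := Module.Free.ChooseBasisIndex R B
  let b : Module.Basis ι R B := Module.Free.chooseBasis R B
  let bE : Module.Basis ι K E := b.localizationLocalization K (nonZeroDivisors R) E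
  have hbE : ∀ i, bE i = algebraMap B E (b i) := fun i =>
    Module.Basis.localizationLocalization_apply K (nonZeroDivisors R) E b i
  let bC : Module.Basis ι Rh (Rh ⊗[R] B) := Algebra.TensorProduct.basis Rh b
  have hbC : ∀ i, bC i = (1 : Rh) ⊗ₜ[R] b i := fun i => Algebra.TensorProduct.basis_apply b i
  let bT : Module.Basis ι Khat (Khat ⊗[K] E) := Algebra.TensorProduct.basis Khat bE
  have hbT : ∀ i, bT i = (1 : Khat) ⊗ₜ[K] bE i := fun i =>
    Algebra.TensorProduct.basis_apply bE i
  let f : Rh →ₐ[R] Khat ⊗[K] E :=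
    (Algebra.TensorProduct.includeLeft (R := K) (S := R) (A := Khat) (B := E)).comp
      (IsScalarTower.toAlgHom R Rh Khat)
  let g : B →ₐ[R] Khat ⊗[K] E :=
    ((Algebra.TensorProduct.includeRight (R := K) (A := Khat) (B := E)).restrictScalars R).comp
      (IsScalarTower.toAlgHom R B E)
  let ψ : Rh ⊗[R] B →ₐ[R] Khat ⊗[K] E :=
    Algebra.TensorProduct.lift f g (fun _ _ => Commute.all _ _)
  have hψ : ∀ r b, ψ (r ⊗ₜ b) = (algebraMap Rh Khat r) ⊗ₜ[K] (algebraMap B E b) := by
    intro r b
    show f r * g b = _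
    show ((algebraMap Rh Khat r) ⊗ₜ[K] (1 : E)) * ((1 : Khat) ⊗ₜ[K] (algebraMap B E b)) = _
    rw [Algebra.TensorProduct.tmul_mul_tmul, mul_one, one_mul]
  have hψsmul : ∀ (r : Rh) (c : Rh ⊗[R] B), ψ (r • c) = algebraMap Rh Khat r • ψ c := by
    intro r c
    have h1 : r • c = (r ⊗ₜ[R] (1 : B)) * c := by
      rw [Algebra.smul_def, Algebra.TensorProduct.algebraMap_apply, Algebra.algebraMap_self,
        RingHom.id_apply]
    rw [h1, map_mul, hψ, map_one, Algebra.smul_def, Algebra.TensorProduct.algebraMap_apply,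
      Algebra.algebraMap_self, RingHom.id_apply]
  have hψb : ∀ i, ψ (bC i) = bT i := by
    intro i
    rw [hbC, hψ, map_one, hbT, hbE]
  -- injectivity
  have hψinj : Function.Injective ψ := by
    rw [injective_iff_map_eq_zero]
    intro c hc
    have h1 : c = ∑ i, bC.repr c i • bC i := (bC.sum_repr c).symm
    have h2 : ∑ i, algebraMap Rh Khat (bC.repr c i) • bT i = 0 := by
      rw [← hc]
      conv_rhs => rw [h1]
      rw [map_sum]
      exact Finset.sum_congr rfl fun i _ => by rw [hψsmul, hψb]
    have h3 := (Fintype.linearIndependent_iff.mp bT.linearIndependent) _ h2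
    have h4 : ∀ i, bC.repr c i = 0 := fun i =>
      IsFractionRing.injective Rh Khat (by rw [h3 i, map_zero])
    rw [h1]
    exact Finset.sum_eq_zero fun i _ => by rw [h4 i, zero_smul]
  -- denominators
  have hden : ∀ t : Khat ⊗[K] E, ∃ (d : Rh) (c : Rh ⊗[R] B), d ≠ 0 ∧
      algebraMap Rh Khat d • t = ψ c := by
    intro t
    obtain ⟨d, hd⟩ := IsLocalization.exist_integer_multiples_of_finite (nonZeroDivisors Rh)
      (fun i => bT.repr t i)
    choose r hr using hd
    refine ⟨d, ∑ i, r i • bC i, nonZeroDivisors.ne_zero d.2, ?_⟩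
    rw [map_sum]
    conv_lhs => rw [← bT.sum_repr t]
    rw [Finset.smul_sum]
    refine Finset.sum_congr rfl fun i _ => ?_
    rw [hψsmul, hψb, hr i, smul_smul, Algebra.smul_def (d : Rh)]
  haveI : Nontrivial (Khat ⊗[K] E) := inferInstance
  haveI : NoZeroDivisors (Khat ⊗[K] E) := by
    refine ⟨fun {x y} hxy => ?_⟩
    obtain ⟨d₁, c₁, hd₁, h₁⟩ := hden x
    obtain ⟨d₂, c₂, hd₂, h₂⟩ := hden y
    have h0 : ψ (c₁ * c₂) = 0 := by
      rw [map_mul, ← h₁, ← h₂, smul_mul_smul_comm, hxy, smul_zero]
    have h1 := hψinj (h0.trans (map_zero ψ).symm)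
    have hne : ∀ d : Rh, d ≠ 0 → algebraMap Rh Khat d ≠ 0 := fun d hd h =>
      hd (IsFractionRing.injective Rh Khat (by rw [h, map_zero]))
    rcases mul_eq_zero.mp h1 with h | h
    · left
      rw [h, map_zero] at h₁
      exact (smul_eq_zero.mp h₁).resolve_left (hne d₁ hd₁)
    · right
      rw [h, map_zero] at h₂
      exact (smul_eq_zero.mp h₂).resolve_left (hne d₂ hd₂)
  exact NoZeroDivisors.to_isDomain _

end Groth.Agent.Lib.Helper27.HfeD

namespace Groth.Agent.Lib.Helper27.HfeD

open TensorProduct IsLocalRing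

universe u

theorem isDomain_tensor_field (R K Khat : Type u) [CommRing R] [IsDomain R]
    [IsDiscreteValuationRing R] [HenselianLocalRing R] [Field K] [Algebra R K] [IsFractionRing R K]
    [Field Khat] [Algebra (AdicCompletion (maximalIdeal R) R) Khat]
    [IsFractionRing (AdicCompletion (maximalIdeal R) R) Khat]
    [Algebra R Khat] [IsScalarTower R (AdicCompletion (maximalIdeal R) R) Khat]
    [Algebra K Khat] [IsScalarTower R K Khat]
    (E : Type u) [Field E] [Algebra K E] [FiniteDimensional K E] [Algebra.IsSeparable K E] :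
    IsDomain (Khat ⊗[K] E) := by
  letI : Algebra R E := ((algebraMap K E).comp (algebraMap R K)).toAlgebra
  haveI : IsScalarTower R K E := IsScalarTower.of_algebraMap_eq fun _ => rfl
  obtain ⟨hloc, hdvr⟩ := Groth.Agent.Lib.Helper27.HfeC.isDVR_integralClosure R K E
  haveI := Groth.Agent.Lib.Helper27.HfeC.finite_integralClosure R K E
  have hinj := Groth.Agent.Lib.Helper27.HfeC.injective_algebraMap_integralClosure R K E
  obtain ⟨hdom, -⟩ := (Groth.Agent.S0549.result R).1 ⟨inferInstance, inferInstance⟩
  haveI : IsDomain (AdicCompletion (maximalIdeal R) R ⊗[R] integralClosure R E) :=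
    Groth.Agent.Lib.Helper27.HfeB.isDomain_tensor R _ hinj
  haveI : IsLocalization (Algebra.algebraMapSubmonoid (integralClosure R E) (nonZeroDivisors R)) E :=
    IsIntegralClosure.isLocalization R K E _
  haveI : Module.IsTorsionFree R (integralClosure R E) :=
    Module.isTorsionFree_iff_algebraMap_injective.mpr hinj
  haveI : Module.Free R (integralClosure R E) := Module.free_of_finite_type_torsion_free'
  exact isDomain_of_basis R K (AdicCompletion (maximalIdeal R) R) Khat (integralClosure R E) E

end Groth.Agent.Lib.Helper27.HfeD
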