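import Mathlib
import Groth.Agent.Lib.Helper27.HfeD
import Groth.Agent.Lib.Helper9.GeomLib

/-!
# `K̂ ⊗[K] E` has only trivial idempotents for every finite extension `E / K`
-/

set_option autoImplicit false
set_option linter.style.haveILetI false

namespace Groth.Agent.Lib.Helper27.HfeE

open TensorProduct IsLocalRing Groth.Agent.Lib.Helper9.GeomLib

universe u

theorem trivIdem_of_purelyInseparable (K Khat E : Type u) [Field K] [Field Khat] [Algebra K Khat]
    [Field E] [Algebra K E] (Es : Type u) [Field Es] [Algebra K Es] [Algebra Es E]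
    [IsScalarTower K Es E] [IsPurelyInseparable Es E]
    [IsDomain (Khat ⊗[K] Es)] : TrivIdem (Khat ⊗[K] E) := by
  intro ε hε
  let q := ringExpChar K
  haveI : ExpChar K q := ringExpChar.expChar K
  haveI : ExpChar Es q := expChar_of_injective_algebraMap (algebraMap K Es).injective q
  haveI : Nontrivial (Khat ⊗[K] E) := inferInstance
  haveI : ExpChar (Khat ⊗[K] E) q :=
    expChar_of_injective_algebraMap (algebraMap K (Khat ⊗[K] E)).injective q
  let j : Khat ⊗[K] Es →ₐ[Khat] Khat ⊗[K] E :=
    Algebra.TensorProduct.map (AlgHom.id Khat Khat) (IsScalarTower.toAlgHom K Es E)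
  have hj : ∀ (a : Khat) (y : Es), j (a ⊗ₜ y) = a ⊗ₜ[K] (algebraMap Es E y) := fun a y => by
    simp [j]
  have hpow : ∀ t : Khat ⊗[K] E, ∃ n : ℕ, t ^ q ^ n ∈ j.range := by
    intro t
    induction t using TensorProduct.induction_on with
    | zero => exact ⟨0, by simp⟩
    | tmul a x =>
      obtain ⟨n, y, hy⟩ := IsPurelyInseparable.pow_mem Es q x
      refine ⟨n, (a ^ q ^ n) ⊗ₜ[K] y, ?_⟩
      show j ((a ^ q ^ n) ⊗ₜ[K] y) = _
      rw [hj, Algebra.TensorProduct.tmul_pow]
      congr 1
    | add t₁ t₂ h₁ h₂ =>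
      obtain ⟨n₁, h₁⟩ := h₁
      obtain ⟨n₂, h₂⟩ := h₂
      refine ⟨n₁ + n₂, ?_⟩
      rw [add_pow_expChar_pow]
      refine add_mem ?_ ?_
      · rw [pow_add, pow_mul]
        exact pow_mem h₁ _
      · rw [add_comm n₁ n₂, pow_add, pow_mul]
        exact pow_mem h₂ _
  obtain ⟨n, s, hs0⟩ := hpow ε
  have hs : j s = ε ^ q ^ n := hs0
  have hqn : q ^ n ≠ 0 := pow_ne_zero _ (expChar_pos K q).ne'
  rw [hε.pow_eq hqn] at hs
  -- `j` is injective
  have hjinj : Function.Injective j := by
    have h1 : ∀ t, j t = ((IsScalarTower.toAlgHom K Es E).toLinearMap).lTensor Khat t := by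
      intro t
      induction t using TensorProduct.induction_on with
      | zero => simp
      | tmul a y => rw [hj]; rfl
      | add t₁ t₂ h₁ h₂ => rw [map_add, map_add, h₁, h₂]
    have h2 : Function.Injective (((IsScalarTower.toAlgHom K Es E).toLinearMap).lTensor Khat) :=
      Module.Flat.lTensor_preserves_injective_linearMap (M := Khat)
        (IsScalarTower.toAlgHom K Es E).toLinearMap (algebraMap Es E).injective
    intro t₁ t₂ h
    apply h2
    rw [← h1, ← h1, h]
  have hs' : s * s = s := by
    apply hjinj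
    rw [map_mul]
    rw [hs, hε.eq]
  have hs'' : s * (1 - s) = 0 := by rw [mul_sub, mul_one, hs', sub_self]
  rcases mul_eq_zero.mp hs'' with h0 | h1'
  on_goal 2 => have h1 : s = 1 := (sub_eq_zero.mp h1').symm
  · left
    rw [← hs, h0, map_zero]
  · right
    rw [← hs, h1, map_one]

theorem trivIdem_tensor (R K Khat : Type u) [CommRing R] [IsDomain R]
    [IsDiscreteValuationRing R] [HenselianLocalRing R] [Field K] [Algebra R K] [IsFractionRing R K]
    [Field Khat] [Algebra (AdicCompletion (maximalIdeal R) R) Khat]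
    [IsFractionRing (AdicCompletion (maximalIdeal R) R) Khat]
    [Algebra R Khat] [IsScalarTower R (AdicCompletion (maximalIdeal R) R) Khat]
    [Algebra K Khat] [IsScalarTower R K Khat]
    (E : Type u) [Field E] [Algebra K E] [FiniteDimensional K E] :
    Nontrivial (Khat ⊗[K] E) ∧ TrivIdem (Khat ⊗[K] E) := by
  refine ⟨inferInstance, ?_⟩
  haveI : IsDomain (Khat ⊗[K] (separableClosure K E)) :=
    Groth.Agent.Lib.Helper27.HfeD.isDomain_tensor_field R K Khat (separableClosure K E)
  exact trivIdem_of_purelyInseparable K Khat E (separableClosure K E)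

end Groth.Agent.Lib.Helper27.HfeE
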