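import Mathlib
import Groth.Agent.Lib.Helper27.HfeE
import Groth.Agent.Lib.Helper27.FFConn3
import Groth.Agent.Lib.Helper11.UD6
import Groth.Agent.Lib.Helper11.ConnLevels

/-!
# Base change of finite etale covers from `K` to `K̂` is fully faithful (henselian DVR)
-/

set_option autoImplicit false
set_option linter.style.haveILetI false

namespace Groth.Agent.Lib.Helper27.HfeF

open TensorProduct IsLocalRing Groth.Agent.Lib.Helper9.GeomLib
open CategoryTheory CategoryTheory.Limits AlgebraicGeometry

universe u

theorem full_faithful (R K Khat : Type u) [CommRing R] [IsDomain R]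
    [IsDiscreteValuationRing R] [HenselianLocalRing R] [Field K] [Algebra R K] [IsFractionRing R K]
    [Field Khat] [Algebra (AdicCompletion (maximalIdeal R) R) Khat]
    [IsFractionRing (AdicCompletion (maximalIdeal R) R) Khat]
    [Algebra R Khat] [IsScalarTower R (AdicCompletion (maximalIdeal R) R) Khat]
    [Algebra K Khat] [IsScalarTower R K Khat] :
    (FEt.restrict (Spec.map (CommRingCat.ofHom (algebraMap K Khat)))).Full ∧
      (FEt.restrict (Spec.map (CommRingCat.ofHom (algebraMap K Khat)))).Faithful := by
  haveI : ConnectedSpace ↥(pullback (Spec.map (CommRingCat.ofHom (algebraMap K Khat)))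
      (Spec.map (CommRingCat.ofHom (algebraMap K (AlgebraicClosure K))))) := by
    show ConnectedSpace ↥(FBase.bc (Spec.map (CommRingCat.ofHom (algebraMap K Khat)))
      (AlgebraicClosure K))
    apply Groth.Agent.Lib.Helper11.ConnLevels.connectedSpace_of_levels
    intro L hL
    haveI := hL
    rw [Groth.Agent.Lib.Helper27.FFConn.connectedSpace_bc_iff,
      Groth.Agent.Lib.Helper9.GeomLib.connectedSpace_iff]
    exact Groth.Agent.Lib.Helper27.HfeE.trivIdem_tensor R K Khat L
  exact Groth.Agent.Lib.Helper11.UD6.restrict_full_faithful_field K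
    (Spec.map (CommRingCat.ofHom (algebraMap K Khat)))

end Groth.Agent.Lib.Helper27.HfeF
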