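import Mathlib

/-!
# Hensel's lemma for non-monic polynomials in adically complete rings, and Newton's refinement
-/

set_option autoImplicit false

namespace Groth.Agent.Lib.Helper27.KrA

open Polynomial

/-- Hensel's lemma in an adically complete ring, without the monic hypothesis
(the proof is Mathlib's `IsAdicComplete.henselianRing`). -/
theorem hensel {R : Type*} [CommRing R] (I : Ideal R) [IsAdicComplete I R]
    (f : R[X]) (a₀ : R) (h₁ : f.eval a₀ ∈ I)
    (h₂ : IsUnit (Ideal.Quotient.mk I (f.derivative.eval a₀))) :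
    ∃ a : R, f.IsRoot a ∧ a - a₀ ∈ I := by
  classical
  let f' := derivative f
  let c : ℕ → R := fun n => Nat.recOn n a₀ fun _ b => b - f.eval b * Ring.inverse (f'.eval b)
  have hc : ∀ n, c (n + 1) = c n - f.eval (c n) * Ring.inverse (f'.eval (c n)) := by
    intro n
    simp only [c]
  have hc_mod : ∀ n, c n ≡ a₀ [SMOD I] := by
    intro n
    induction n with
    | zero => rfl
    | succ n ih => ?_
    rw [hc, sub_eq_add_neg, ← add_zero a₀]
    refine ih.add ?_
    rw [SModEq.zero, Ideal.neg_mem_iff]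
    refine I.mul_mem_right _ ?_
    rw [← SModEq.zero] at h₁ ⊢
    exact (ih.eval f).trans h₁
  have hf'c : ∀ n, IsUnit (f'.eval (c n)) := by
    intro n
    have := isLocalHom_of_le_jacobson_bot I (IsAdicComplete.le_jacobson_bot I)
    apply IsUnit.of_map (Ideal.Quotient.mk I)
    convert h₂ using 1
    exact SModEq.def.mp ((hc_mod n).eval _)
  have hfcI : ∀ n, f.eval (c n) ∈ I ^ (n + 1) := by
    intro n
    induction n with
    | zero =>
      show f.eval a₀ ∈ I ^ (0 + 1)
      rw [zero_add, pow_one]; exact h₁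
    | succ n ih => ?_
    rw [← taylor_eval_sub (c n), hc, sub_eq_add_neg, sub_eq_add_neg,
      add_neg_cancel_comm]
    rw [eval_eq_sum, sum_over_range' _ _ _ (lt_add_of_pos_right _ zero_lt_two), ←
      Finset.sum_range_add_sum_Ico _ (Nat.le_add_left _ _)]
    swap
    · intro i
      rw [zero_mul]
    refine Ideal.add_mem _ ?_ ?_
    · rw [← one_add_one_eq_two, Finset.sum_range_succ, Finset.range_one, Finset.sum_singleton,
        taylor_coeff_zero, taylor_coeff_one, pow_zero, pow_one, mul_one, mul_neg,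
        mul_left_comm, Ring.mul_inverse_cancel _ (hf'c n), mul_one, add_neg_cancel]
      exact Ideal.zero_mem _
    · refine Submodule.sum_mem _ ?_
      simp only [Finset.mem_Ico]
      rintro i ⟨h2i, _⟩
      have aux : n + 2 ≤ i * (n + 1) := by trans 2 * (n + 1) <;> nlinarith only [h2i]
      refine Ideal.mul_mem_left _ _ (Ideal.pow_le_pow_right aux ?_)
      rw [pow_mul']
      exact Ideal.pow_mem_pow ((Ideal.neg_mem_iff _).2 <| Ideal.mul_mem_right _ _ ih) _
  have aux : ∀ m n, m ≤ n → c m ≡ c n [SMOD (I ^ m • ⊤ : Ideal R)] := by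
    intro m n hmn
    rw [← Ideal.one_eq_top, Ideal.smul_eq_mul, mul_one]
    obtain ⟨k, rfl⟩ := Nat.exists_eq_add_of_le hmn
    clear hmn
    induction k with
    | zero => rw [add_zero]
    | succ k ih => ?_
    rw [← add_assoc, hc, ← add_zero (c m), sub_eq_add_neg]
    refine ih.add ?_
    symm
    rw [SModEq.zero, Ideal.neg_mem_iff]
    refine Ideal.mul_mem_right _ _ (Ideal.pow_le_pow_right ?_ (hfcI _))
    rw [add_assoc]
    exact le_self_add
  obtain ⟨a, ha⟩ := IsPrecomplete.prec' c (aux _ _)
  refine ⟨a, ?_, ?_⟩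
  · show f.IsRoot a
    suffices ∀ n, f.eval a ≡ 0 [SMOD (I ^ n • ⊤ : Ideal R)] by exact IsHausdorff.haus' _ this
    intro n
    specialize ha n
    rw [← Ideal.one_eq_top, Ideal.smul_eq_mul, mul_one] at ha ⊢
    refine (ha.symm.eval f).trans ?_
    rw [SModEq.zero]
    exact Ideal.pow_le_pow_right le_self_add (hfcI _)
  · show a - a₀ ∈ I
    specialize ha (0 + 1)
    rw [hc, pow_one, ← Ideal.one_eq_top, Ideal.smul_eq_mul, mul_one, sub_eq_add_neg] at ha
    rw [← SModEq.sub_mem, ← add_zero a₀]
    refine ha.symm.trans (SModEq.rfl.add ?_)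
    rw [SModEq.zero, Ideal.neg_mem_iff]
    exact Ideal.mul_mem_right _ _ h₁

/-- Newton's refinement: if `F(a) = F'(a)^2 * t` with `t ∈ J`, then `F` has a root. -/
theorem newton {S : Type*} [CommRing S] (J : Ideal S) [IsAdicComplete J S]
    (F : S[X]) (a t : S) (ht : t ∈ J)
    (h : F.eval a = (F.derivative.eval a) ^ 2 * t) :
    ∃ b : S, F.eval b = 0 := by
  set c := F.derivative.eval a with hc
  set T := taylor a F with hT
  set Q := T.divX.divX with hQ
  have hT0 : T.coeff 0 = F.eval a := taylor_coeff_zero ..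
  have hT1 : T.coeff 1 = c := taylor_coeff_one ..
  have hTdecomp : T = (Q * X + C c) * X + C (F.eval a) := by
    have h1 := divX_mul_X_add T
    have h2 := divX_mul_X_add T.divX
    have h3 : T.divX.coeff 0 = T.coeff 1 := by rw [coeff_divX]
    rw [h3, hT1] at h2
    rw [hT0] at h1
    rw [hQ, h2, h1]
  let P : S[X] := C t + X + X ^ 2 * Q.comp (C c * X)
  have hP0 : P.eval 0 ∈ J := by
    simp only [P, eval_add, eval_C, eval_X, eval_mul, eval_pow]
    simpa using ht
  have hP1 : IsUnit (Ideal.Quotient.mk J (P.derivative.eval 0)) := by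
    have : P.derivative.eval 0 = 1 := by
      simp [P, derivative_comp]
    rw [this, map_one]
    exact isUnit_one
  obtain ⟨y, hy, _⟩ := hensel J P 0 hP0 hP1
  refine ⟨c * y + a, ?_⟩
  have h1 : F.eval (c * y + a) = T.eval (c * y) := by rw [hT, taylor_eval]
  have hy' : t + y + y ^ 2 * Q.eval (c * y) = 0 := by
    have := hy
    simp only [P, IsRoot, eval_add, eval_C, eval_X, eval_mul, eval_pow, eval_comp] at this
    exact this
  rw [h1, hTdecomp]
  simp only [eval_add, eval_mul, eval_X, eval_C]
  rw [h]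
  linear_combination c ^ 2 * hy'

end Groth.Agent.Lib.Helper27.KrA
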