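import Mathlib

/-!
# A finite free algebra over an adically complete ring is adically complete
-/

set_option autoImplicit false

namespace Groth.Agent.Lib.Helper27.KrB

open Module

variable {R S : Type*} [CommRing R] [CommRing S] [Algebra R S] {ι : Type*} [Finite ι]

theorem mem_map_iff (b : Basis ι R S) (J : Ideal R) (x : S) :
    x ∈ J.map (algebraMap R S) ↔ ∀ i, b.repr x i ∈ J := by
  classical
  haveI := Fintype.ofFinite ι
  constructor
  · intro hx
    have hx' : x ∈ (J • ⊤ : Submodule R S) := by
      rw [Ideal.smul_top_eq_map]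
      exact hx
    refine Submodule.smul_induction_on hx' ?_ ?_
    · intro j hj y _ i
      rw [map_smul, Finsupp.smul_apply, smul_eq_mul]
      exact J.mul_mem_right _ hj
    · intro y z hy hz i
      rw [map_add, Finsupp.add_apply]
      exact J.add_mem (hy i) (hz i)
  · intro h
    rw [← b.sum_repr x]
    refine Ideal.sum_mem _ fun i _ => ?_
    rw [Algebra.smul_def]
    exact Ideal.mul_mem_right _ _ (Ideal.mem_map_of_mem _ (h i))

theorem mem_map_pow_iff (b : Basis ι R S) (I : Ideal R) (k : ℕ) (x : S) :
    x ∈ (I.map (algebraMap R S)) ^ k ↔ ∀ i, b.repr x i ∈ I ^ k := by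
  rw [← Ideal.map_pow, mem_map_iff b]

theorem isAdicComplete_of_basis (b : Basis ι R S) (I : Ideal R) [IsAdicComplete I R] :
    IsAdicComplete (I.map (algebraMap R S)) S := by
  classical
  haveI := Fintype.ofFinite ι
  have key : ∀ (k : ℕ) (x y : S),
      x ≡ y [SMOD ((I.map (algebraMap R S)) ^ k • ⊤ : Ideal S)] ↔
        ∀ i, b.repr x i ≡ b.repr y i [SMOD (I ^ k • ⊤ : Ideal R)] := by
    intro k x y
    rw [SModEq.sub_mem, Ideal.smul_eq_mul, Ideal.mul_top, mem_map_pow_iff b]
    refine forall_congr' fun i => ?_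
    rw [SModEq.sub_mem, Ideal.smul_eq_mul, Ideal.mul_top, map_sub, Finsupp.sub_apply]
  refine { toIsHausdorff := ⟨fun x hx => ?_⟩, toIsPrecomplete := ⟨fun {f} hf => ?_⟩ }
  · have : ∀ i, b.repr x i = 0 := by
      intro i
      refine IsHausdorff.haus' (I := I) _ fun n => ?_
      have := (key n x 0).1 (hx n) i
      simpa using this
    apply b.repr.injective
    ext i
    simpa using this i
  · have hcoord : ∀ i, ∃ L : R, ∀ n, b.repr (f n) i ≡ L [SMOD (I ^ n • ⊤ : Ideal R)] := by
      intro i
      exact IsPrecomplete.prec' (fun n => b.repr (f n) i) fun {m n} hmn => (key m _ _).1 (hf hmn) i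
    choose L hL using hcoord
    refine ⟨b.repr.symm (Finsupp.equivFunOnFinite.symm L), fun n => ?_⟩
    rw [key]
    intro i
    simpa using hL i n

end Groth.Agent.Lib.Helper27.KrB
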