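import Mathlib
import Groth.Agent.Lib.Helper27.KrA
import Groth.Agent.Lib.Helper27.KrB

/-!
# A root of `F` in `O[X]/(G)` when `G` is close to the separable polynomial `F`
-/

set_option autoImplicit false

namespace Groth.Agent.Lib.Helper27.KrC

open Polynomial

theorem exists_root {O : Type*} [CommRing O] (I : Ideal O) [IsAdicComplete I O]
    (ϖ : O) (hϖ : ϖ ∈ I)
    (F G A₀ B₀ : O[X]) (s : O) (hG : G.Monic)
    (hbez : A₀ * F + B₀ * derivative F = C s)
    (hcoef : ∀ i, (F - G).coeff i ∈ Ideal.span {s ^ 2 * ϖ}) :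
    ∃ ρ : AdjoinRoot G, aeval ρ F = 0 := by
  classical
  -- H with F = G + C (s^2 ϖ) * H
  obtain ⟨H, hH⟩ : ∃ H : O[X], H * C (s ^ 2 * ϖ) = F - G := by
    have : F - G ∈ (Ideal.span {s ^ 2 * ϖ}).map (C : O →+* O[X]) :=
      Ideal.mem_map_C_iff.2 hcoef
    rw [Ideal.map_span, Set.image_singleton] at this
    exact Ideal.mem_span_singleton'.1 this
  have hF : F = G + H * C (s ^ 2 * ϖ) := by rw [hH]; ring
  set S := AdjoinRoot G
  let b := (AdjoinRoot.powerBasis' hG).basis
  haveI : IsAdicComplete (I.map (algebraMap O S)) S :=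
    Groth.Agent.Lib.Helper27.KrB.isAdicComplete_of_basis b I
  set J := I.map (algebraMap O S) with hJ
  set x := AdjoinRoot.root G with hx
  have hGx : aeval x G = 0 := by rw [AdjoinRoot.aeval_eq, AdjoinRoot.mk_self]
  set ι := algebraMap O S with hι
  have hϖJ : ι ϖ ∈ J := Ideal.mem_map_of_mem _ hϖ
  set h := aeval x H with hh
  set a := aeval x A₀ with ha
  set bb := aeval x B₀ with hbb
  set c := aeval x (derivative F) with hc
  have hv : aeval x F = ι s ^ 2 * ι ϖ * h := by
    rw [hF, map_add, hGx, zero_add, map_mul, aeval_C, map_mul, map_pow]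
    ring
  have hbez' : a * aeval x F + bb * c = ι s := by
    have := congrArg (aeval x) hbez
    rw [map_add, map_mul, map_mul, aeval_C] at this
    exact this
  -- the unit
  have hu : IsUnit (ι ϖ * (-(ι s * a * h)) + 1) := by
    have hjac : ι ϖ ∈ Ideal.jacobson (⊥ : Ideal S) := IsAdicComplete.le_jacobson_bot J hϖJ
    exact (Ideal.mem_jacobson_bot.1 hjac) _
  obtain ⟨u, hu'⟩ := hu
  have hbc : bb * c = ι s * (u : S) := by
    rw [hu']
    have : bb * c = ι s - a * aeval x F := by rw [← hbez']; ring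
    rw [this, hv]
    ring
  have hs : ι s = c * (bb * ((u⁻¹ : Sˣ) : S)) := by
    have : ι s * (u : S) * ((u⁻¹ : Sˣ) : S) = ι s := by
      rw [mul_assoc, Units.mul_inv, mul_one]
    rw [← this, ← hbc]
    ring
  set w := bb * ((u⁻¹ : Sˣ) : S) with hw
  set t := w ^ 2 * ι ϖ * h with ht
  have htJ : t ∈ J := by
    have e : t = (w ^ 2 * h) * ι ϖ := by rw [ht]; ring
    rw [e]
    exact J.mul_mem_left _ hϖJ
  have hev : (F.map ι).eval x = aeval x F := by
    rw [eval_map, aeval_def]
  have hdev : (derivative (F.map ι)).eval x = c := by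
    rw [derivative_map, eval_map, hc, aeval_def]
  have hnewt : (F.map ι).eval x = ((derivative (F.map ι)).eval x) ^ 2 * t := by
    rw [hev, hdev, hv, ht, hs]
    ring
  obtain ⟨ρ, hρ⟩ := Groth.Agent.Lib.Helper27.KrA.newton J (F.map ι) x t htJ hnewt
  refine ⟨ρ, ?_⟩
  rw [aeval_def, ← eval_map]
  exact hρ

end Groth.Agent.Lib.Helper27.KrC
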