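import Mathlib
import Groth.Agent.Lib.Helper27.KrC

/-!
# Bezout with cleared denominators, and approximation of monic polynomials
-/

set_option autoImplicit false

namespace Groth.Agent.Lib.Helper27.KrD

open Polynomial

theorem exists_bezout {O Kh : Type*} [CommRing O] [IsDomain O] [Field Kh] [Algebra O Kh]
    [IsFractionRing O Kh] (F : O[X]) (hsep : (F.map (algebraMap O Kh)).Separable) :
    ∃ (A₀ B₀ : O[X]) (s : O), s ≠ 0 ∧ A₀ * F + B₀ * derivative F = C s := by
  obtain ⟨a, b, hab⟩ := hsep
  obtain ⟨sa, hsa⟩ := IsLocalization.integerNormalization_map_to_map (nonZeroDivisors O) a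
  obtain ⟨sb, hsb⟩ := IsLocalization.integerNormalization_map_to_map (nonZeroDivisors O) b
  refine ⟨C (sb : O) * IsLocalization.integerNormalization (nonZeroDivisors O) a,
    C (sa : O) * IsLocalization.integerNormalization (nonZeroDivisors O) b, sa * sb,
    mul_ne_zero (nonZeroDivisors.coe_ne_zero _) (nonZeroDivisors.coe_ne_zero _), ?_⟩
  apply Polynomial.map_injective (algebraMap O Kh) (IsFractionRing.injective O Kh)
  rw [Polynomial.map_add, Polynomial.map_mul, Polynomial.map_mul, Polynomial.map_mul,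
    Polynomial.map_mul, hsa, hsb, Polynomial.map_C, Polynomial.map_C, Polynomial.map_C,
    ← derivative_map, Algebra.smul_def, Algebra.smul_def, Polynomial.algebraMap_apply,
    Polynomial.algebraMap_apply, map_mul, C_mul]
  linear_combination (C (algebraMap O Kh sa) * C (algebraMap O Kh sb)) * hab

theorem exists_approx {A O : Type*} [CommRing A] [CommRing O] [Algebra A O] (I : Ideal O)
    (hI : I ≠ ⊤) (hdense : ∀ x : O, ∃ a : A, x - algebraMap A O a ∈ I) (F : O[X])
    (hF : F.Monic) :
    ∃ G : A[X], G.Monic ∧ G.natDegree = F.natDegree ∧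
      ∀ i, (F - G.map (algebraMap A O)).coeff i ∈ I := by
  haveI : Nontrivial (O ⧸ I) := Ideal.Quotient.nontrivial_iff.2 hI
  let φ : A →+* O ⧸ I := (Ideal.Quotient.mk I).comp (algebraMap A O)
  have hφ : Function.Surjective φ := by
    intro y
    obtain ⟨x, rfl⟩ := Ideal.Quotient.mk_surjective y
    obtain ⟨a, ha⟩ := hdense x
    exact ⟨a, ((Ideal.Quotient.mk_eq_mk_iff_sub_mem _ _).2 ha).symm⟩
  have hlift : F.map (Ideal.Quotient.mk I) ∈ lifts φ :=
    (mem_lifts _).2 (Polynomial.map_surjective φ hφ _)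
  obtain ⟨G, hG1, hG2, hG3⟩ := lifts_and_degree_eq_and_monic hlift (hF.map _)
  refine ⟨G, hG3, ?_, fun i => ?_⟩
  · apply natDegree_eq_of_degree_eq
    rw [hG2, hF.degree_map]
  · rw [← Ideal.Quotient.eq_zero_iff_mem, ← coeff_map, Polynomial.map_sub, Polynomial.map_map]
    change (F.map (Ideal.Quotient.mk I) - G.map φ).coeff i = 0
    rw [hG1, sub_self, coeff_zero]

end Groth.Agent.Lib.Helper27.KrD
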