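import Mathlib
import Groth.Agent.Lib.Helper27.KrD

/-!
# Descent of finite separable extensions from the completion of a DVR (abstract form)
-/

set_option autoImplicit false

namespace Groth.Agent.Lib.Helper27.KrE

open Polynomial IsLocalRing TensorProduct IntermediateField

universe u

/-- first half: a monic `G` over `A` with `M ≃ Kh[X]/(G)`. -/
theorem exists_poly (A O Kh M : Type u) [CommRing A]
    [CommRing O] [IsDomain O] [IsDiscreteValuationRing O] [IsAdicComplete (maximalIdeal O) O]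
    [Algebra A O]
    (hdense : ∀ (N : ℕ) (x : O), ∃ a : A, x - algebraMap A O a ∈ maximalIdeal O ^ N)
    [Field Kh] [Algebra O Kh] [IsFractionRing O Kh] [Algebra A Kh]
    [IsScalarTower A O Kh]
    [Field M] [Algebra Kh M] [FiniteDimensional Kh M] [Algebra.IsSeparable Kh M] :
    ∃ G : A[X], G.Monic ∧ Nonempty (M ≃ₐ[Kh] AdjoinRoot (G.map (algebraMap A Kh))) := by
  classical
  letI : Algebra O M := ((algebraMap Kh M).comp (algebraMap O Kh)).toAlgebra
  haveI : IsScalarTower O Kh M := IsScalarTower.of_algebraMap_eq (fun _ => rfl)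
  obtain ⟨α, hα⟩ := Field.exists_primitive_element Kh M
  have halg : IsAlgebraic O α :=
    (IsFractionRing.isAlgebraic_iff O Kh M).2 (Algebra.IsAlgebraic.isAlgebraic α)
  obtain ⟨y, hy0, hyint⟩ := halg.exists_integral_multiple
  set α₁ : M := y • α with hα₁
  have hα₁top : Kh⟮α₁⟯ = ⊤ := by
    rw [eq_top_iff, ← hα, IntermediateField.adjoin_simple_le_iff]
    have hy' : algebraMap Kh M (algebraMap O Kh y) ≠ 0 := by
      rw [Ne, map_eq_zero_iff _ (algebraMap Kh M).injective,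
        map_eq_zero_iff _ (IsFractionRing.injective O Kh)]
      exact hy0
    have : α = (algebraMap Kh M (algebraMap O Kh y))⁻¹ * α₁ := by
      rw [hα₁, Algebra.smul_def, IsScalarTower.algebraMap_apply O Kh M, inv_mul_cancel_left₀ hy']
    rw [this]
    exact mul_mem (inv_mem (IntermediateField.algebraMap_mem _ _)) (mem_adjoin_simple_self Kh α₁)
  set F := minpoly O α₁ with hFdef
  have hFmonic : F.Monic := minpoly.monic hyint
  have hf : minpoly Kh α₁ = F.map (algebraMap O Kh) :=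
    minpoly.isIntegrallyClosed_eq_field_fractions' Kh hyint
  have hsep : (F.map (algebraMap O Kh)).Separable :=
    hf ▸ Algebra.IsSeparable.isSeparable Kh α₁
  have hdeg : F.natDegree = Module.finrank Kh M := by
    have := (Field.primitive_element_iff_minpoly_natDegree_eq Kh α₁).1 hα₁top
    rw [hf, hFmonic.natDegree_map] at this
    exact this
  obtain ⟨A₀, B₀, s, hs0, hbez⟩ := KrD.exists_bezout (Kh := Kh) F hsep
  obtain ⟨ϖ, hϖ⟩ := IsDiscreteValuationRing.exists_irreducible O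
  have hϖm : ϖ ∈ maximalIdeal O := (mem_maximalIdeal _).2 hϖ.1
  have hne : Ideal.span {s ^ 2 * ϖ} ≠ (⊥ : Ideal O) := by
    rw [Ne, Ideal.span_singleton_eq_bot]
    exact mul_ne_zero (pow_ne_zero _ hs0) hϖ.ne_zero
  obtain ⟨N, hN⟩ := IsDiscreteValuationRing.ideal_eq_span_pow_irreducible hne hϖ
  have hpow : maximalIdeal O ^ N = Ideal.span {s ^ 2 * ϖ} := by
    rw [hN, hϖ.maximalIdeal_eq, Ideal.span_singleton_pow]
  have hItop : Ideal.span {s ^ 2 * ϖ} ≠ (⊤ : Ideal O) := by
    intro h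
    rw [Ideal.span_singleton_eq_top] at h
    exact hϖ.1 (isUnit_of_mul_isUnit_right h)
  obtain ⟨G, hGmonic, hGdeg, hGcoef⟩ := KrD.exists_approx (A := A) (Ideal.span {s ^ 2 * ϖ}) hItop
    (fun x => by rw [← hpow]; exact hdense N x) F hFmonic
  set Gh := G.map (algebraMap A O) with hGh
  have hGhmonic : Gh.Monic := hGmonic.map _
  obtain ⟨ρ, hρ⟩ := KrC.exists_root (maximalIdeal O) ϖ hϖm F Gh A₀ B₀ s hGhmonic hbez hGcoef
  refine ⟨G, hGmonic, ?_⟩
  set gh := G.map (algebraMap A Kh) with hgh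
  have hghmonic : gh.Monic := hGmonic.map _
  have hghdeg : gh.natDegree = Module.finrank Kh M := by
    rw [hgh, hGmonic.natDegree_map, hGdeg, hdeg]
  have hpos : 0 < Module.finrank Kh M := Module.finrank_pos
  haveI : Nontrivial (AdjoinRoot gh) := by
    apply AdjoinRoot.nontrivial
    rw [degree_eq_natDegree hghmonic.ne_zero, hghdeg]
    exact_mod_cast hpos.ne'
  have hψ0 : Gh.eval₂ ((algebraMap Kh (AdjoinRoot gh)).comp (algebraMap O Kh))
      (AdjoinRoot.root gh) = 0 := by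
    rw [hGh, eval₂_map, RingHom.comp_assoc, ← IsScalarTower.algebraMap_eq A O Kh, ← eval₂_map,
      AdjoinRoot.algebraMap_eq]
    exact AdjoinRoot.eval₂_root gh
  let ψ : AdjoinRoot Gh →+* AdjoinRoot gh :=
    AdjoinRoot.lift ((algebraMap Kh (AdjoinRoot gh)).comp (algebraMap O Kh)) (AdjoinRoot.root gh) hψ0
  have hψc : ψ.comp (algebraMap O (AdjoinRoot Gh)) =
      (algebraMap Kh (AdjoinRoot gh)).comp (algebraMap O Kh) := by
    rw [AdjoinRoot.algebraMap_eq]
    exact AdjoinRoot.lift_comp_of _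
  have hρ' : (minpoly Kh α₁).eval₂ (Algebra.ofId Kh (AdjoinRoot gh)) (ψ ρ) = 0 := by
    rw [hf]
    change eval₂ (algebraMap Kh (AdjoinRoot gh)) (ψ ρ) (F.map (algebraMap O Kh)) = 0
    rw [eval₂_map, ← hψc, ← hom_eval₂, ← aeval_def, hρ, map_zero]
  let Φ : AdjoinRoot (minpoly Kh α₁) →ₐ[Kh] AdjoinRoot gh :=
    AdjoinRoot.liftAlgHom _ (Algebra.ofId Kh (AdjoinRoot gh)) (ψ ρ) hρ'
  let e₁ : AdjoinRoot (minpoly Kh α₁) ≃ₐ[Kh] Kh⟮α₁⟯ :=
    IntermediateField.adjoinRootEquivAdjoin Kh (Algebra.IsIntegral.isIntegral α₁)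
  let e₂ : Kh⟮α₁⟯ ≃ₐ[Kh] M := (IntermediateField.equivOfEq hα₁top).trans IntermediateField.topEquiv
  let Φ' : M →ₐ[Kh] AdjoinRoot gh := Φ.comp ((e₁.trans e₂).symm : M →ₐ[Kh] _)
  have hinj : Function.Injective Φ' := Φ'.toRingHom.injective
  have hfr : Module.finrank Kh M = Module.finrank Kh (AdjoinRoot gh) := by
    rw [(AdjoinRoot.powerBasis hghmonic.ne_zero).finrank, AdjoinRoot.powerBasis_dim, hghdeg]
  haveI : FiniteDimensional Kh (AdjoinRoot gh) := hghmonic.finite_adjoinRoot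
  have hsurj : Function.Surjective Φ' :=
    (LinearMap.injective_iff_surjective_of_finrank_eq_finrank (f := Φ'.toLinearMap) hfr).1 hinj
  exact ⟨AlgEquiv.ofBijective Φ' ⟨hinj, hsurj⟩⟩

end Groth.Agent.Lib.Helper27.KrE
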