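import Mathlib
import Groth.Agent.Lib.Helper27.KrE

/-!
# From the polynomial to the field extension
-/

set_option autoImplicit false

namespace Groth.Agent.Lib.Helper27.KrF

open Polynomial TensorProduct IntermediateField

universe u

theorem exists_field (A K Kh M : Type u) [CommRing A] [Field K] [Algebra A K] [Field Kh]
    [Algebra A Kh] [Algebra K Kh] [IsScalarTower A K Kh]
    [Field M] [Algebra Kh M] [FiniteDimensional Kh M] [Algebra.IsSeparable Kh M]
    (G : A[X]) (hG : G.Monic) (e : M ≃ₐ[Kh] AdjoinRoot (G.map (algebraMap A Kh))) :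
    ∃ (L : Type u) (_ : Field L) (_ : Algebra K L), FiniteDimensional K L ∧
      Algebra.IsSeparable K L ∧ Nonempty ((Kh ⊗[K] L) ≃ₐ[Kh] M) := by
  classical
  set gK := G.map (algebraMap A K) with hgK
  have hgKmonic : gK.Monic := hG.map _
  have hmap : gK.map (algebraMap K Kh) = G.map (algebraMap A Kh) := by
    rw [hgK, Polynomial.map_map, ← IsScalarTower.algebraMap_eq]
  set gh := G.map (algebraMap A Kh) with hgh
  have hghmonic : gh.Monic := hG.map _
  haveI hdom : IsDomain (AdjoinRoot gh) := e.symm.toMulEquiv.isDomain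
  have hprime : Prime gh := by
    have : (Ideal.span {gh}).IsPrime :=
      (Ideal.Quotient.isDomain_iff_prime _).1 (hdom : IsDomain (Kh[X] ⧸ Ideal.span {gh}))
    exact (Ideal.span_singleton_prime hghmonic.ne_zero).1 this
  have hirr_h : Irreducible gh := hprime.irreducible
  have hirr : Irreducible gK :=
    hgKmonic.irreducible_of_irreducible_map (algebraMap K Kh) gK (hmap ▸ hirr_h)
  haveI : Fact (Irreducible gK) := ⟨hirr⟩
  haveI : Fact (Irreducible gh) := ⟨hirr_h⟩
  haveI : Algebra.IsSeparable Kh (AdjoinRoot gh) :=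
    Algebra.IsSeparable.of_algHom Kh M (e.symm : AdjoinRoot gh →ₐ[Kh] M)
  have hsep_h : gh.Separable := by
    have := Algebra.IsSeparable.isSeparable Kh (AdjoinRoot.root gh)
    rwa [IsSeparable, AdjoinRoot.minpoly_root hghmonic.ne_zero, hghmonic.leadingCoeff, inv_one,
      C_1, mul_one] at this
  have hsep : gK.Separable := (Polynomial.separable_map (algebraMap K Kh)).1 (hmap ▸ hsep_h)
  refine ⟨AdjoinRoot gK, inferInstance, inferInstance, hgKmonic.finite_adjoinRoot, ?_, ?_⟩
  · haveI : FiniteDimensional K (AdjoinRoot gK) := hgKmonic.finite_adjoinRoot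
    have h := AdjoinRoot.adjoinRoot_eq_top (f := gK)
    rw [← IntermediateField.adjoin_toSubalgebra_of_isAlgebraic
      (fun b _ => Algebra.IsAlgebraic.isAlgebraic b), ← IntermediateField.top_toSubalgebra] at h
    rw [← AlgEquiv.Algebra.isSeparable_iff <|
      (IntermediateField.equivOfEq (IntermediateField.toSubalgebra_injective h)).trans
        IntermediateField.topEquiv, IntermediateField.isSeparable_adjoin_iff_isSeparable]
    intro b hb
    rw [Set.mem_singleton_iff] at hb
    subst hb
    rw [IsSeparable, AdjoinRoot.minpoly_root hgKmonic.ne_zero, hgKmonic.leadingCoeff, inv_one,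
      C_1, mul_one]
    exact hsep
  · let q : (Kh ⊗[K] K)[X] := gK.map (Algebra.TensorProduct.includeRight (R := K) (A := Kh) (B := K)).toRingHom
    let e₁ : Kh ⊗[K] AdjoinRoot gK ≃ₐ[Kh] AdjoinRoot q :=
      AdjoinRoot.tensorAlgEquiv (R := K) (S := K) (T := Kh) gK q rfl
    have hq : q.map ((Algebra.TensorProduct.rid K Kh Kh : Kh ⊗[K] K ≃ₐ[Kh] Kh) : Kh ⊗[K] K →+* Kh) = gh := by
      rw [← hmap]
      simp only [q]
      rw [Polynomial.map_map]
      congr 1
      ext k
      simp [Algebra.algebraMap_eq_smul_one]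
    let e₂ : AdjoinRoot q ≃ₐ[Kh] AdjoinRoot gh :=
      AdjoinRoot.mapAlgEquiv (Algebra.TensorProduct.rid K Kh Kh) q gh (by
        have : q.map (Algebra.TensorProduct.rid K Kh Kh) = gh := hq
        rw [this])
    exact ⟨(e₁.trans e₂).trans e.symm⟩

end Groth.Agent.Lib.Helper27.KrF
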