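import Mathlib
import Groth.Agent.S7138

/-!
# Descent of finite etale algebras from `K̂` to `K`
-/

set_option autoImplicit false
set_option linter.style.haveILetI false

namespace Groth.Agent.Lib.Helper27.HfeG

open TensorProduct IsLocalRing

universe u

theorem exists_descent (R K Khat : Type u) [CommRing R] [IsDomain R]
    [IsDiscreteValuationRing R] [Field K] [Algebra R K] [IsFractionRing R K]
    [Field Khat] [Algebra (AdicCompletion (maximalIdeal R) R) Khat]
    [IsFractionRing (AdicCompletion (maximalIdeal R) R) Khat]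
    [Algebra R Khat] [IsScalarTower R (AdicCompletion (maximalIdeal R) R) Khat]
    [Algebra K Khat] [IsScalarTower R K Khat]
    (Γ : Type u) [CommRing Γ] [Algebra Khat Γ] [Module.Finite Khat Γ] [Algebra.Etale Khat Γ] :
    ∃ (B : Type u) (_ : CommRing B) (_ : Algebra K B), Module.Finite K B ∧ Algebra.Etale K B ∧
      Nonempty (Khat ⊗[K] B ≃ₐ[Khat] Γ) := by
  classical
  obtain ⟨I, hI, Ai, hF, hA, e, hsep⟩ :=
    (Algebra.FormallyEtale.iff_exists_algEquiv_prod (K := Khat) (A := Γ)).mp inferInstance
  haveI := Fintype.ofFinite I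
  haveI : ∀ i, FiniteDimensional Khat (Ai i) := fun i =>
    Module.Finite.of_surjective
      ((LinearMap.proj i : (∀ i, Ai i) →ₗ[Khat] Ai i).comp e.toLinearMap)
      (fun x => ⟨e.symm (Pi.single i x), by simp⟩)
  have key := fun i => Groth.Agent.S7138.result R K Khat (Ai i)
  choose L hLF hLA hLfin hLsep hLe using key
  let eL := fun i => (hLe i).some
  refine ⟨∀ i, L i, inferInstance, inferInstance, inferInstance, ?_, ⟨?_⟩⟩
  · haveI : Algebra.FormallyEtale K (∀ i, L i) :=
      (Algebra.FormallyEtale.iff_exists_algEquiv_prod (K := K) (A := ∀ i, L i)).mpr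
        ⟨I, hI, L, hLF, hLA, AlgEquiv.refl, hLsep⟩
    haveI : Algebra.FinitePresentation K (∀ i, L i) :=
      Algebra.FinitePresentation.of_finiteType.mp inferInstance
    exact ⟨inferInstance, inferInstance⟩
  · exact ((Algebra.TensorProduct.piRight K Khat Khat L).trans
      (AlgEquiv.piCongrRight eL)).trans e.symm

end Groth.Agent.Lib.Helper27.HfeG
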