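import Mathlib
import Groth.Agent.Lib.Helper27.HfeG
import Groth.Agent.Lib.Helper27.HfeF
import Groth.Prelude.Def_FEt

/-!
# Base change of finite etale covers from `K` to `K̂` is an equivalence (henselian DVR)
-/

set_option autoImplicit false
set_option maxHeartbeats 400000
set_option linter.style.haveILetI false

namespace Groth.Agent.Lib.Helper27.HfeH

open TensorProduct IsLocalRing
open CategoryTheory CategoryTheory.Limits AlgebraicGeometry

universe u

theorem essSurj (R K Khat : Type u) [CommRing R] [IsDomain R]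
    [IsDiscreteValuationRing R] [Field K] [Algebra R K] [IsFractionRing R K]
    [Field Khat] [Algebra (AdicCompletion (maximalIdeal R) R) Khat]
    [IsFractionRing (AdicCompletion (maximalIdeal R) R) Khat]
    [Algebra R Khat] [IsScalarTower R (AdicCompletion (maximalIdeal R) R) Khat]
    [Algebra K Khat] [IsScalarTower R K Khat] :
    (MorphismProperty.Over.pullback FEt.prop.{u} ⊤
      (Spec.map (CommRingCat.ofHom (algebraMap K Khat)))).EssSurj := by
  constructor
  intro Y₀
  have hY₀ : IsFinite Y₀.hom ∧ Etale Y₀.hom := Y₀.prop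
  obtain ⟨y₀, hy₀⟩ : ∃ y₀ : Y₀.left ⟶ Spec (CommRingCat.of Khat), y₀ = Y₀.hom := ⟨_, rfl⟩
  haveI : IsFinite y₀ := hy₀ ▸ hY₀.1
  haveI : Etale y₀ := hy₀ ▸ hY₀.2
  haveI : IsAffine Y₀.left := isAffine_of_isAffineHom y₀
  obtain ⟨ψ, hψ⟩ : ∃ ψ : CommRingCat.of Khat ⟶ Γ(Y₀.left, ⊤),
    ψ = (Scheme.ΓSpecIso (CommRingCat.of Khat)).inv ≫ y₀.appTop := ⟨_, rfl⟩
  have hebij := ConcreteCategory.bijective_of_isIso
    (Scheme.ΓSpecIso (CommRingCat.of Khat)).inv
  have hψfin : ψ.hom.Finite := by
    rw [hψ, CommRingCat.hom_comp]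
    exact RingHom.Finite.comp y₀.finite_appTop (RingHom.Finite.of_surjective _ hebij.2)
  have hψet : ψ.hom.Etale := by
    rw [hψ, CommRingCat.hom_comp]
    exact RingHom.Etale.stableUnderComposition _ _ (RingHom.Etale.of_bijective hebij)
      ((HasRingHomProperty.iff_of_isAffine (P := @Etale)).mp inferInstance)
  letI alg1 : Algebra Khat Γ(Y₀.left, ⊤) := ψ.hom.toAlgebra
  haveI : Algebra.Etale Khat Γ(Y₀.left, ⊤) := hψet
  haveI : Module.Finite Khat Γ(Y₀.left, ⊤) := hψfin
  obtain ⟨B, _, _, hBfin, hBet, ⟨φ⟩⟩ :=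
    Groth.Agent.Lib.Helper27.HfeG.exists_descent R K Khat Γ(Y₀.left, ⊤)
  let α : CommRingCat.of K ⟶ CommRingCat.of B := CommRingCat.ofHom (algebraMap K B)
  let m : CommRingCat.of K ⟶ CommRingCat.of Khat := CommRingCat.ofHom (algebraMap K Khat)
  let πc : CommRingCat.of B ⟶ Γ(Y₀.left, ⊤) := CommRingCat.ofHom
    (φ.toAlgHom.toRingHom.comp
      (Algebra.TensorProduct.includeRight : B →ₐ[K] Khat ⊗[K] B).toRingHom)
  have hpo : IsPushout α m πc ψ := by
    have h0 := (CommRingCat.isPushout_tensorProduct K Khat B).flip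
    refine h0.of_iso (Iso.refl _) (Iso.refl _) (Iso.refl _) φ.toRingEquiv.toCommRingCatIso
      (by simp [α]) (by simp [m]) ?_ ?_
    · ext b
      simp [πc]
    · ext a
      simp only [Iso.refl_hom, Category.id_comp, CommRingCat.hom_comp, RingHom.coe_comp,
        Function.comp_apply]
      show φ (a ⊗ₜ[K] (1 : B)) = ψ.hom a
      have : a ⊗ₜ[K] (1 : B) = algebraMap Khat (Khat ⊗[K] B) a := by
        rw [Algebra.TensorProduct.algebraMap_apply, Algebra.algebraMap_self, RingHom.id_apply]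
      rw [this, φ.commutes]
      rfl
  have hsq1 := isPullback_SpecMap_of_isPushout α m πc ψ hpo
  have hψ' : Y₀.left.isoSpec.hom ≫ Spec.map ψ = y₀ := by
    rw [hψ, Spec.map_comp, ← Category.assoc, Scheme.isoSpec_hom_naturality, Category.assoc,
      Scheme.isoSpec_Spec_hom, ← Spec.map_comp, Iso.inv_hom_id, Spec.map_id, Category.comp_id]
  have hpb : IsPullback (Y₀.left.isoSpec.hom ≫ Spec.map πc) y₀ (Spec.map α)
      (Spec.map (CommRingCat.ofHom (algebraMap K Khat))) :=
    hsq1.of_iso Y₀.left.isoSpec.symm (Iso.refl _) (Iso.refl _) (Iso.refl _) (by simp)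
      (by rw [← hψ']; simp) (by simp) (by simp [m])
  have hα1 : IsFinite (Spec.map α) :=
    (IsFinite.SpecMap_iff α).mpr (RingHom.finite_algebraMap.mpr hBfin)
  have hα2 : Etale (Spec.map α) :=
    (HasRingHomProperty.Spec_iff (P := @Etale)).mpr (RingHom.etale_algebraMap.mpr hBet)
  subst hy₀
  refine ⟨MorphismProperty.Over.mk ⊤ (Spec.map α) ⟨hα1, hα2⟩,
    ⟨MorphismProperty.Over.isoMk hpb.isoPullback.symm ?_⟩⟩
  exact hpb.isoPullback_inv_snd

theorem isEquivalence (R K Khat : Type u) [CommRing R] [IsDomain R]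
    [IsDiscreteValuationRing R] [HenselianLocalRing R] [Field K] [Algebra R K] [IsFractionRing R K]
    [Field Khat] [Algebra (AdicCompletion (maximalIdeal R) R) Khat]
    [IsFractionRing (AdicCompletion (maximalIdeal R) R) Khat]
    [Algebra R Khat] [IsScalarTower R (AdicCompletion (maximalIdeal R) R) Khat]
    [Algebra K Khat] [IsScalarTower R K Khat] :
    (FEt.restrict (Spec.map (CommRingCat.ofHom (algebraMap K Khat)))).IsEquivalence := by
  obtain ⟨hfull, hfaith⟩ := Groth.Agent.Lib.Helper27.HfeF.full_faithful R K Khat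
  haveI := hfull
  haveI := hfaith
  haveI : (FEt.restrict (Spec.map (CommRingCat.ofHom (algebraMap K Khat)))).EssSurj :=
    essSurj R K Khat
  exact { }

end Groth.Agent.Lib.Helper27.HfeH
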