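import Mathlib

/-! Hilbert's different formula, part 1: Galois algebra. For a generator `y` of a finite Galois
extension, `g'(y) = ∏_{σ ≠ 1} (y - σ y)`; an element moved by every nontrivial automorphism is a
generator. -/

set_option autoImplicit false

namespace Groth.Agent.Lib.Helper27.Hilb

open Polynomial IntermediateField

variable {K K' : Type*} [Field K] [Field K'] [Algebra K K'] [FiniteDimensional K K']
  [IsGalois K K']

/-- An element moved by every nontrivial automorphism generates the extension. -/
theorem adjoin_eq_top_of_moved (y : K') (h : ∀ σ : K' ≃ₐ[K] K', σ y = y → σ = 1) :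
    IntermediateField.adjoin K ({y} : Set K') = ⊤ := by
  have h1 : (K⟮y⟯).fixingSubgroup = ⊥ := by
    rw [eq_bot_iff]
    intro σ hσ
    rw [IntermediateField.mem_fixingSubgroup_iff] at hσ
    rw [Subgroup.mem_bot]
    exact h σ (hσ y (mem_adjoin_simple_self K y))
  rw [← IsGalois.fixedField_fixingSubgroup (K⟮y⟯), h1, IntermediateField.fixedField_bot]

theorem injective_apply_of_adjoin_eq_top {y : K'}
    (hy : IntermediateField.adjoin K ({y} : Set K') = ⊤) :
    Function.Injective (fun σ : K' ≃ₐ[K] K' => σ y) := by
  intro σ τ hστ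
  have hyK : IsIntegral K y := Algebra.IsIntegral.isIntegral y
  have htop : Algebra.adjoin K ({y} : Set K') = ⊤ := by
    rw [← IntermediateField.adjoin_simple_toSubalgebra_of_isAlgebraic hyK.isAlgebraic, hy,
      IntermediateField.top_toSubalgebra]
  have h1 : (σ : K' →ₐ[K] K') = (τ : K' →ₐ[K] K') := by
    apply AlgHom.ext_of_adjoin_eq_top htop
    intro z hz
    rw [Set.mem_singleton_iff] at hz
    rw [hz]
    exact hστ
  ext z
  exact DFunLike.congr_fun h1 z

open scoped Classical in
/-- `g'(y) = ∏_{σ ≠ 1} (y - σ y)`. -/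
theorem aeval_derivative_minpoly_eq_prod {y : K'}
    (hy : IntermediateField.adjoin K ({y} : Set K') = ⊤) :
    aeval y (derivative (minpoly K y)) =
      ∏ σ ∈ (Finset.univ.erase 1 : Finset (K' ≃ₐ[K] K')), (y - σ y) := by
  have hyK : IsIntegral K y := Algebra.IsIntegral.isIntegral y
  set p := (minpoly K y).map (algebraMap K K') with hp
  have hsplit : p.Splits := Normal.splits inferInstance y
  have hmonic : p.Monic := (minpoly.monic hyK).map _
  have hdeg : p.natDegree = Fintype.card (K' ≃ₐ[K] K') := by
    rw [hp, natDegree_map, ← IntermediateField.adjoin.finrank hyK, hy,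
      IntermediateField.finrank_top', ← IsGalois.card_aut_eq_finrank, Nat.card_eq_fintype_card]
  have hinj := injective_apply_of_adjoin_eq_top hy
  set S : Multiset K' := (Finset.univ : Finset (K' ≃ₐ[K] K')).val.map (fun σ => σ y) with hS
  have hSnodup : S.Nodup := Multiset.Nodup.map hinj Finset.univ.nodup
  have hp0 : p ≠ 0 := hmonic.ne_zero
  have hSsub : S ⊆ p.roots := by
    intro a ha
    rw [hS, Multiset.mem_map] at ha
    obtain ⟨σ, -, rfl⟩ := ha
    rw [mem_roots hp0, IsRoot.def, hp, eval_map_algebraMap]
    have h1 := Polynomial.aeval_algHom_apply (σ : K' →ₐ[K] K') y (minpoly K y)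
    rw [minpoly.aeval, map_zero] at h1
    exact h1
  have hSle : S ≤ p.roots := (Multiset.le_iff_subset hSnodup).mpr hSsub
  have hcard : p.roots.card ≤ S.card := by
    rw [hS, Multiset.card_map]
    calc p.roots.card ≤ p.natDegree := card_roots' p
      _ = Fintype.card (K' ≃ₐ[K] K') := hdeg
      _ = (Finset.univ : Finset (K' ≃ₐ[K] K')).val.card := rfl
  have hroots : S = p.roots := Multiset.eq_of_le_of_card_le hSle hcard
  have hymem : y ∈ p.roots := by
    rw [← hroots, hS, Multiset.mem_map]
    exact ⟨1, Finset.mem_univ _, rfl⟩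
  have h1 := hsplit.eval_root_derivative hmonic hymem
  rw [hp, derivative_map, eval_map_algebraMap] at h1
  rw [h1, ← hp, ← hroots, hS]
  have h2 : ((Finset.univ : Finset (K' ≃ₐ[K] K')).val.map (fun σ => σ y)).erase y =
      ((Finset.univ : Finset (K' ≃ₐ[K] K')).val.erase 1).map (fun σ => σ y) := by
    rw [Multiset.map_erase _ hinj]
    rfl
  rw [h2, Multiset.map_map]
  rfl

end Groth.Agent.Lib.Helper27.Hilb
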