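import Mathlib
import Groth.Agent.Lib.Helper27.Hilb3
import Groth.Agent.Lib.Helper27.Hilb1
import Groth.Agent.Lib.Helper27.FFExt7
import Groth.Agent.Lib.Helper27.FunFld1

/-! Hilbert's different formula, part 4: ramification groups and a local generator. -/

set_option autoImplicit false

namespace Groth.Agent.Lib.Helper27.Hilb

open FunFld Polynomial WithZero

universe u v w

section General

variable {k : Type u} {L : Type v} [Field k] [Field L] [Algebra k L]

/-- `g(a) - g(b)` is divisible by `a - b` in the valuation ring. -/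
theorem val_aeval_sub_le (Q : Place k L) {a b : L} (ha : Q.1 a ≤ 1) (hb : Q.1 b ≤ 1) (g : k[X]) :
    Q.1 (aeval a g - aeval b g) ≤ Q.1 (a - b) := by
  induction g using Polynomial.induction_on' with
  | add p q hp hq =>
    have e : aeval a (p + q) - aeval b (p + q) =
        (aeval a p - aeval b p) + (aeval a q - aeval b q) := by
      rw [map_add, map_add]; ring
    rw [e]
    exact (Q.1.map_add _ _).trans (max_le hp hq)
  | monomial n c =>
    rw [aeval_monomial, aeval_monomial, ← mul_sub, ← Commute.geom_sum₂_mul (Commute.all a b),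
      map_mul, map_mul]
    have h1 : Q.1 (algebraMap k L c) ≤ 1 := Q.2.1 c
    have h2 : Q.1 (∑ i ∈ Finset.range n, a ^ i * b ^ (n - 1 - i)) ≤ 1 := by
      apply Q.1.map_sum_le
      intro i _
      rw [map_mul, map_pow, map_pow]
      exact mul_le_one' (pow_le_one' ha _) (pow_le_one' hb _)
    calc Q.1 (algebraMap k L c) * (Q.1 (∑ i ∈ Finset.range n, a ^ i * b ^ (n - 1 - i)) *
          Q.1 (a - b)) ≤ 1 * (1 * Q.1 (a - b)) := mul_le_mul' h1 (mul_le_mul' h2 le_rfl)
      _ = Q.1 (a - b) := by rw [one_mul, one_mul]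

theorem ord_prod (Q : Place k L) {ι : Type*} (s : Finset ι) (f : ι → L) (hf : ∀ i ∈ s, f i ≠ 0) :
    Q.ord (∏ i ∈ s, f i) = ∑ i ∈ s, Q.ord (f i) := by
  classical
  induction s using Finset.induction_on with
  | empty => simp [FF.ord_one]
  | insert a s ha ih =>
    rw [Finset.prod_insert ha, Finset.sum_insert ha,
      FF.ord_mul Q (hf a (Finset.mem_insert_self _ _))
        (Finset.prod_ne_zero_iff.mpr (fun i hi => hf i (Finset.mem_insert_of_mem hi))),
      ih (fun i hi => hf i (Finset.mem_insert_of_mem hi))]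

/-- an element of valuation `≤ exp (-i)` for all `i` is zero -/
theorem eq_zero_of_forall_le (Q : Place k L) {z : L}
    (h : ∀ i : ℕ, 1 ≤ i → Q.1 z ≤ exp (-(i : ℤ))) : z = 0 := by
  by_contra hz
  have hne : Q.1 z ≠ 0 := (Q.1.ne_zero_iff).mpr hz
  obtain ⟨n, hn⟩ : ∃ n : ℤ, Q.1 z = exp n := ⟨log (Q.1 z), (exp_log hne).symm⟩
  have := h ((-n).toNat + 1) (by omega)
  rw [hn, exp_le_exp] at this
  push_cast at this
  omega

end General

section Galois

variable {k : Type u} {K : Type v} {K' : Type w} [Field k] [Field K] [Field K'] [Algebra k K]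
  [Algebra K K'] [Algebra k K'] [IsScalarTower k K K']

/-- If `k[y]` is dense in `O_Q`, `y` is a unit at `Q` and small at the other conjugates of `Q`,
then `σ` moves every element of `O_Q` at least as little as it moves `y`. -/
theorem moves_le_of_dense (Q : Place k K') {y : K'} (hyQ : Q.1 y = 1)
    (hdense : ∀ z₀ : K', Q.1 z₀ ≤ 1 → ∀ N : ℕ, ∃ r ∈ Algebra.adjoin k ({y} : Set K'),
      Q.1 (r - z₀) ≤ exp (-(N : ℤ)))
    (σ : K' ≃ₐ[K] K') (hσ : FF.actP (k := k) σ Q ≠ Q → Q.1 (σ y) < 1)
    {i : ℕ} (hi : 1 ≤ i) (h : Q.1 (σ y - y) ≤ exp (-(i : ℤ))) :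
    ∀ z : K', Q.1 z ≤ 1 → Q.1 (σ z - z) ≤ exp (-(i : ℤ)) := by
  have hlt : exp (-(i : ℤ)) < (1 : WithZero (Multiplicative ℤ)) := by
    rw [← exp_zero, exp_lt_exp]; omega
  have hfix : FF.actP (k := k) σ Q = Q := by
    by_contra hne
    have h1 := hσ hne
    have h2 : Q.1 (σ y - y) = 1 := by
      rw [← Valuation.map_neg, neg_sub]
      have : y - σ y = y + -(σ y) := by ring
      rw [this, Valuation.map_add_eq_of_lt_left _ (by rw [Valuation.map_neg, hyQ]; exact h1), hyQ]
    rw [h2] at h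
    exact absurd h (not_le.mpr hlt)
  have hσQ : ∀ z : K', Q.1 (σ z) = Q.1 z := fun z => by
    rw [← FF.actP_apply (k := k) σ Q z, hfix]
  intro z hz
  obtain ⟨r, hrR, hr⟩ := hdense z hz i
  rw [Algebra.adjoin_singleton_eq_range_aeval] at hrR
  obtain ⟨g, rfl⟩ := hrR
  have hσy : Q.1 (σ y) ≤ 1 := by rw [hσQ, hyQ]
  have e : σ z - z = -(σ (aeval y g - z)) + (aeval y g - z) + (aeval (σ y) g - aeval y g) := by
    have h1 : σ (aeval y g) = aeval (σ y) g := by
      have := Polynomial.aeval_algHom_apply ((σ : K' →ₐ[K] K').restrictScalars k) y g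
      exact this.symm
    rw [map_sub, h1]; ring
  rw [e]
  refine (Q.1.map_add _ _).trans (max_le ((Q.1.map_add _ _).trans (max_le ?_ hr)) ?_)
  · rw [Valuation.map_neg, hσQ]; exact hr
  · exact (val_aeval_sub_le Q hσy hyQ.le g).trans h

/-- an automorphism fixing `O_Q` pointwise is the identity -/
theorem eq_one_of_fix (Q : Place k K') (σ : K' ≃ₐ[K] K')
    (h : ∀ z : K', Q.1 z ≤ 1 → σ z = z) : σ = 1 := by
  ext z
  show σ z = z
  rcases le_total (Q.1 z) 1 with hz | hz
  · exact h z hz
  · have hz0 : z ≠ 0 := by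
      rintro rfl
      rw [map_zero] at hz
      exact absurd hz (not_le.mpr zero_lt_one)
    have h1 : Q.1 z⁻¹ ≤ 1 := by
      rw [map_inv₀]; exact inv_le_one_of_one_le₀ hz
    have h2 := h z⁻¹ h1
    rw [map_inv₀] at h2
    exact inv_injective h2

end Galois

end Groth.Agent.Lib.Helper27.Hilb
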