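import Mathlib

/-! Hilbert's different formula, part 5: the counting identity
`∑_{i ≥ 1} (|G_i| - 1) = ∑_{σ ≠ 1} N σ`. -/

set_option autoImplicit false

namespace Groth.Agent.Lib.Helper27.Hilb

open scoped Classical in
theorem count_identity {G : Type*} [Fintype G] (one : G) (N : G → ℕ) (H : ℕ → G → Prop)
    (hone : ∀ i, 1 ≤ i → H i one)
    (hH : ∀ σ, σ ≠ one → ∀ i, 1 ≤ i → (H i σ ↔ i ≤ N σ)) :
    (Function.support fun i : ℕ => (Nat.card {σ : G // H i σ} : ℤ) - 1).Finite ∧
    (∑ᶠ i : ℕ, if 1 ≤ i then (Nat.card {σ : G // H i σ} : ℤ) - 1 else 0) =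
      ∑ σ ∈ Finset.univ.erase one, (N σ : ℤ) := by
  set M : ℕ := ∑ σ, N σ with hM
  have hNM : ∀ σ, N σ ≤ M := fun σ =>
    Finset.single_le_sum (f := N) (fun _ _ => Nat.zero_le _) (Finset.mem_univ σ)
  have hcard : ∀ i, 1 ≤ i → (Nat.card {σ : G // H i σ} : ℤ) - 1 =
      (((Finset.univ.erase one).filter (fun σ => i ≤ N σ)).card : ℤ) := by
    intro i hi
    rw [Nat.card_eq_fintype_card, Fintype.card_subtype]
    have h1 : (Finset.univ.filter (fun σ => H i σ)) =
        insert one ((Finset.univ.erase one).filter (fun σ => i ≤ N σ)) := by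
      ext σ
      rw [Finset.mem_filter, Finset.mem_insert, Finset.mem_filter, Finset.mem_erase]
      constructor
      · rintro ⟨-, h⟩
        by_cases hσ : σ = one
        · exact Or.inl hσ
        · exact Or.inr ⟨⟨hσ, Finset.mem_univ _⟩, (hH σ hσ i hi).mp h⟩
      · rintro (rfl | ⟨⟨hσ, -⟩, h⟩)
        · exact ⟨Finset.mem_univ _, hone i hi⟩
        · exact ⟨Finset.mem_univ _, (hH σ hσ i hi).mpr h⟩
    rw [h1, Finset.card_insert_of_notMem (by simp)]
    push_cast
    ring
  have hzero : ∀ i, M < i → (Nat.card {σ : G // H i σ} : ℤ) - 1 = 0 := by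
    intro i hi
    rw [hcard i (by omega)]
    have : (Finset.univ.erase one).filter (fun σ => i ≤ N σ) = ∅ := by
      rw [Finset.filter_eq_empty_iff]
      intro σ _
      have := hNM σ
      omega
    rw [this, Finset.card_empty, Nat.cast_zero]
  constructor
  · apply (Finset.range (M + 1)).finite_toSet.subset
    intro i hi
    rw [Function.mem_support] at hi
    rw [Finset.mem_coe, Finset.mem_range]
    by_contra hcon
    exact hi (hzero i (by omega))
  · rw [finsum_eq_sum_of_support_subset (s := Finset.range (M + 1))]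
    · have h2 : ∀ i ∈ Finset.range (M + 1),
          (if 1 ≤ i then (Nat.card {σ : G // H i σ} : ℤ) - 1 else 0) =
          ∑ σ ∈ Finset.univ.erase one, (if 1 ≤ i ∧ i ≤ N σ then (1 : ℤ) else 0) := by
        intro i _
        split_ifs with hi
        · rw [hcard i hi, Finset.card_filter]
          push_cast
          refine Finset.sum_congr rfl (fun σ _ => ?_)
          simp [hi]
        · symm
          apply Finset.sum_eq_zero
          intro σ _
          rw [if_neg]
          exact fun h => hi h.1
      rw [Finset.sum_congr rfl h2, Finset.sum_comm]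
      refine Finset.sum_congr rfl (fun σ _ => ?_)
      rw [← Finset.sum_filter, Finset.sum_const, nsmul_eq_mul, mul_one]
      have h3 : (Finset.range (M + 1)).filter (fun i => 1 ≤ i ∧ i ≤ N σ) = Finset.Icc 1 (N σ) := by
        ext i
        simp only [Finset.mem_filter, Finset.mem_range, Finset.mem_Icc]
        have := hNM σ
        constructor
        · rintro ⟨-, h⟩; exact h
        · intro h; exact ⟨by omega, h⟩
      rw [h3, Nat.card_Icc]
      simp
    · intro i hi
      rw [Function.mem_support] at hi
      rw [Finset.mem_coe, Finset.mem_range]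
      by_contra hcon
      apply hi
      rw [if_pos (by omega)]
      exact hzero i (by omega)

end Groth.Agent.Lib.Helper27.Hilb
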