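import Groth.Agent.Lib.Helper8.Hzl.FibreSeparable
import Groth.Agent.S0539

/-!
# Incomparability of primes in fibres of ind-étale-like maps; immediate étale generizations

* `IndEtaleLike.eq_of_le_of_under_eq`: primes of an ind-étale-like algebra over the same prime are
  incomparable.
* `main16577`.
-/

open TensorProduct
universe u
open IsLocalRing
open Groth.Agent.Lib.Helper8.Hzl
set_option linter.style.haveILetI false
set_option linter.unusedSectionVars false
set_option autoImplicit false

namespace Groth.Agent.Lib.Helper27.IndEtIncomp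

/-- Primes of an ind-étale-like algebra lying over the same prime are incomparable. -/
theorem IndEtaleLike.eq_of_le_of_under_eq {R S : Type u} [CommRing R] [CommRing S] [Algebra R S]
    (h : IndEtaleLike R S) (P0 P : Ideal S) [P0.IsPrime] [P.IsPrime] (hle : P0 ≤ P)
    (hu : P.under R ≤ P0.under R) : P0 = P := by
  have h1 := h.map_under_eq_maximalIdeal P
  have h2 : maximalIdeal (Localization.AtPrime P) ≤
      P0.map (algebraMap S (Localization.AtPrime P)) := by
    rw [← h1, IsScalarTower.algebraMap_eq R S (Localization.AtPrime P), ← Ideal.map_map]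
    apply Ideal.map_mono
    rw [Ideal.map_le_iff_le_comap]
    exact hu
  have h3 : P0.map (algebraMap S (Localization.AtPrime P)) =
      maximalIdeal (Localization.AtPrime P) := by
    apply le_antisymm _ h2
    rw [← Localization.AtPrime.map_eq_maximalIdeal]
    exact Ideal.map_mono hle
  have hdisj : Disjoint (P.primeCompl : Set S) (P0 : Set S) := by
    rw [Set.disjoint_left]
    intro x hx hx0
    exact hx (hle hx0)
  have h4 := IsLocalization.under_map_of_isPrime_disjoint P.primeCompl (Localization.AtPrime P)
    (inferInstance : P0.IsPrime) hdisj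
  rw [h3] at h4
  have h5 : (maximalIdeal (Localization.AtPrime P)).under S = P :=
    Localization.AtPrime.under_maximalIdeal
  rw [h5] at h4
  exact h4.symm


theorem main16577
    (A : Type u) [CommRing A] [IsNoetherianRing A] [IsLocalRing A]
    (S' : Type u) [CommRing S'] [IsLocalRing S'] [Algebra A S'] [IsLocalHom (algebraMap A S')]
    [Hensel.IsStrictHenselization A S']
    (p : Ideal A) [p.IsPrime] :
    (∃ P ∈ (p.map (algebraMap A S')).minimalPrimes, ringKrullDim (S' ⧸ P) = 1) ↔
    (∃ P : Ideal S', P.IsPrime ∧ P.comap (algebraMap A S') = p ∧ ringKrullDim (S' ⧸ P) = 1) := by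
  haveI : Module.FaithfullyFlat A S' := Groth.Agent.S0539.result A S'
  have hind := strictHenselization_indEtaleLike A S'
  constructor
  · rintro ⟨P, hP, hdim⟩
    haveI hPp : P.IsPrime := hP.1.1
    refine ⟨P, hPp, ?_, hdim⟩
    have hle : p ≤ P.under A := Ideal.map_le_iff_le_comap.mp hP.1.2
    by_contra hne
    have hlt : p < P.under A := lt_of_le_of_ne hle (fun h => hne h.symm)
    obtain ⟨P', hP'le, hP'prime, hP'over⟩ :=
      Algebra.HasGoingDown.exists_ideal_le_liesOver_of_lt (p := p) P hlt
    have h1 : p.map (algebraMap A S') ≤ P' := by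
      rw [Ideal.map_le_iff_le_comap]
      exact (hP'over.over).le
    have h2 : P ≤ P' := hP.2 ⟨hP'prime, h1⟩ hP'le
    have h3 : P' = P := le_antisymm hP'le h2
    rw [← h3] at hlt
    exact (lt_irrefl _) (hP'over.over ▸ hlt)
  · rintro ⟨P, hPp, hcomap, hdim⟩
    refine ⟨P, ⟨⟨hPp, ?_⟩, ?_⟩, hdim⟩
    · rw [Ideal.map_le_iff_le_comap, hcomap]
    · rintro P0 ⟨hP0p, hP0⟩ hle
      haveI := hP0p
      have hu : P.under A ≤ P0.under A := by
        show P.comap _ ≤ P0.comap _
        rw [hcomap]
        exact Ideal.map_le_iff_le_comap.mp hP0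
      exact (IndEtaleLike.eq_of_le_of_under_eq hind P0 P hle hu).ge

end Groth.Agent.Lib.Helper27.IndEtIncomp
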