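import Mathlib

/-!
# Vandermonde descent for rings of invariants (helper27)

If `G` (finite) acts on `S` with invariants `R`, and `θ : S` is such that the differences
`g • θ - h • θ` (`g ≠ h`) are units, then `S` is spanned over `R` by `1, θ, …, θ^(|G|-1)`.
-/

set_option autoImplicit false

namespace Groth.Agent.Lib.Helper27.Inert

open Matrix

theorem isUnit_det_vandermonde {S : Type*} [CommRing S] {n : ℕ} (v : Fin n → S)
    (hv : ∀ i j : Fin n, i ≠ j → IsUnit (v j - v i)) : IsUnit (Matrix.vandermonde v).det := by
  rw [Matrix.det_vandermonde]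
  refine Finset.prod_induction _ IsUnit (fun _ _ => IsUnit.mul) isUnit_one ?_
  intro i _
  refine Finset.prod_induction _ IsUnit (fun _ _ => IsUnit.mul) isUnit_one ?_
  intro j hj
  exact hv i j (ne_of_lt (Finset.mem_Ioi.mp hj))

theorem mem_span_pow_of_isUnit_sub {R S G : Type*} [CommRing R] [CommRing S] [Algebra R S]
    [Group G] [Fintype G] [MulSemiringAction G S] [SMulCommClass G R S]
    [Algebra.IsInvariant R S G]
    (θ : S) (hθ : ∀ g h : G, g ≠ h → IsUnit (g • θ - h • θ)) (z : S) :
    z ∈ Submodule.span R (Set.range fun j : Fin (Fintype.card G) => θ ^ (j : ℕ)) := by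
  classical
  set N := Fintype.card G with hN
  let e : G ≃ Fin N := Fintype.equivFin G
  let v : Fin N → S := fun i => (e.symm i) • θ
  let V : Matrix (Fin N) (Fin N) S := Matrix.vandermonde v
  have hdet : IsUnit V.det := by
    apply isUnit_det_vandermonde
    intro i j hij
    exact hθ _ _ (fun h => hij (e.symm.injective h).symm)
  let w : Fin N → S := fun i => (e.symm i) • z
  let c : Fin N → S := V⁻¹ *ᵥ w
  have hVc : V *ᵥ c = w := by
    simp only [c, Matrix.mulVec_mulVec, Matrix.mul_nonsing_inv V hdet, Matrix.one_mulVec]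
  have hinv : ∀ (h : G) (j : Fin N), h • c j = c j := by
    intro h
    have h1 : V *ᵥ (fun j => h • c j) = w := by
      funext i
      have h2 := congrFun hVc (e (h⁻¹ * e.symm i))
      simp only [Matrix.mulVec, dotProduct, V, Matrix.vandermonde_apply, v, w,
        Equiv.symm_apply_apply] at h2 ⊢
      have h3 := congrArg (fun x => h • x) h2
      simp only [Finset.smul_sum, smul_mul', smul_pow', smul_smul, mul_inv_cancel_left] at h3
      exact h3
    have h4 : (fun j => h • c j) = V⁻¹ *ᵥ w := by
      rw [← h1, Matrix.mulVec_mulVec, Matrix.nonsing_inv_mul V hdet, Matrix.one_mulVec]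
    intro j
    exact congrFun h4 j
  have hr : ∀ j, ∃ r : R, algebraMap R S r = c j := fun j =>
    Algebra.IsInvariant.isInvariant (A := R) (G := G) (c j) (fun g => hinv g j)
  choose r hr using hr
  have hz : z = ∑ j : Fin N, r j • θ ^ (j : ℕ) := by
    have h2 := congrFun hVc (e 1)
    simp only [Matrix.mulVec, dotProduct, V, Matrix.vandermonde_apply, v, w,
      Equiv.symm_apply_apply, one_smul] at h2
    rw [← h2]
    refine Finset.sum_congr rfl (fun j _ => ?_)
    rw [Algebra.smul_def, hr, mul_comm]
  rw [hz]
  refine Submodule.sum_mem _ (fun j _ => Submodule.smul_mem _ _ (Submodule.subset_span ⟨j, rfl⟩))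

end Groth.Agent.Lib.Helper27.Inert
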