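import Mathlib
import Groth.Agent.Lib.Helper27.Inert1

/-!
# Inertia groups for normal local domains (helper27)
-/

set_option autoImplicit false

namespace Groth.Agent.Lib.Helper27.Inert

open IsLocalRing Pointwise

universe u

/-- Nakayama: elements spanning modulo an ideal inside `𝔪S` span. -/
theorem span_eq_top_of_forall_exists_sub_mem {R S : Type*} [CommRing R] [IsLocalRing R]
    [CommRing S] [Algebra R S] [Module.Finite R S] (n : Ideal S)
    (hn : n ≤ (maximalIdeal R).map (algebraMap R S)) {ι : Type*} (b : ι → S)
    (hb : ∀ s : S, ∃ t ∈ Submodule.span R (Set.range b), s - t ∈ n) :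
    Submodule.span R (Set.range b) = ⊤ := by
  rw [← top_le_iff]
  apply Submodule.le_of_le_smul_of_le_jacobson_bot (I := maximalIdeal R)
  · exact Module.finite_def.mp ‹_›
  · exact (jacobson_eq_maximalIdeal ⊥ bot_ne_top).ge
  · rw [Ideal.smul_top_eq_map]
    rintro s -
    obtain ⟨t, ht, hst⟩ := hb s
    have : s = t + (s - t) := by ring
    rw [this]
    exact Submodule.add_mem_sup ht (hn hst)

section

variable (R S G : Type u) [CommRing R] [CommRing S] [IsDomain R] [IsDomain S]
    [IsNoetherianRing R] [IsIntegrallyClosed R]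
    [Algebra R S] [FaithfulSMul R S] [IsIntegrallyClosed S]
    [Group G] [Finite G] [MulSemiringAction G S] [SMulCommClass G R S] [IsGaloisGroup G R S]

include G in
theorem finite_of_isGaloisGroup : Module.Finite R S := by
  let K := FractionRing R
  let L := FractionRing S
  letI : Algebra K L := FractionRing.liftAlgebra R L
  letI := IsFractionRing.mulSemiringAction G S L
  haveI : IsGaloisGroup G K L := IsGaloisGroup.toFractionRing G R S
  haveI : IsGalois K L := IsGaloisGroup.isGalois G K L
  haveI : FiniteDimensional K L := IsGaloisGroup.finiteDimensional G K L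
  haveI : Algebra.IsIntegral R S := Algebra.IsInvariant.isIntegral R S G
  haveI : IsIntegralClosure S R L := IsIntegralClosure.of_isIntegrallyClosed S R L
  exact IsIntegralClosure.finite R K L S

end

section

attribute [local instance] Ideal.Quotient.field

variable (R S G : Type u) [CommRing R] [CommRing S] [IsDomain R] [IsDomain S]
    [IsNoetherianRing R] [IsLocalRing R] [IsIntegrallyClosed R]
    [Algebra R S] [FaithfulSMul R S] [IsIntegrallyClosed S]
    [Group G] [Finite G] [MulSemiringAction G S] [SMulCommClass G R S] [IsGaloisGroup G R S]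
    (n : Ideal S) [n.IsMaximal] [n.LiesOver (IsLocalRing.maximalIdeal R)]

theorem card_le_finrank_of_map_eq (hmap : (maximalIdeal R).map (algebraMap R S) = n)
    [Module.Finite (R ⧸ maximalIdeal R) (S ⧸ n)] :
    Nat.card G ≤ Module.finrank (R ⧸ maximalIdeal R) (S ⧸ n) := by
  classical
  haveI : Module.Finite R S := finite_of_isGaloisGroup R S G
  rw [IsGaloisGroup.card_eq_finrank' G R S]
  let b := Module.finBasis (R ⧸ maximalIdeal R) (S ⧸ n)
  choose b' hb' using fun i => Ideal.Quotient.mk_surjective (b i)
  have hspan : Submodule.span R (Set.range b') = ⊤ := by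
    apply span_eq_top_of_forall_exists_sub_mem n hmap.ge
    intro s
    choose c hc using fun i => Ideal.Quotient.mk_surjective (b.repr (Ideal.Quotient.mk n s) i)
    refine ⟨∑ i, c i • b' i, Submodule.sum_mem _ (fun i _ => Submodule.smul_mem _ _
      (Submodule.subset_span ⟨i, rfl⟩)), ?_⟩
    rw [← Ideal.Quotient.eq]
    conv_lhs => rw [← b.sum_repr (Ideal.Quotient.mk n s)]
    rw [map_sum]
    refine Finset.sum_congr rfl (fun i _ => ?_)
    rw [Algebra.smul_def, ← hb', ← hc, Algebra.smul_def (c i), map_mul]
    rfl
  have := finrank_le_of_span_eq_top hspan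
  simpa using this

theorem inertia_eq_bot_of_map_eq (hmap : (maximalIdeal R).map (algebraMap R S) = n)
    [Module.Finite (R ⧸ maximalIdeal R) (S ⧸ n)]
    [Algebra.IsSeparable (R ⧸ maximalIdeal R) (S ⧸ n)] :
    n.toAddSubgroup.inertia G = ⊥ := by
  classical
  have h1 := card_le_finrank_of_map_eq R S G n hmap
  haveI : Normal (R ⧸ maximalIdeal R) (S ⧸ n) := Ideal.Quotient.normal G (maximalIdeal R) n
  haveI : IsGalois (R ⧸ maximalIdeal R) (S ⧸ n) := {}
  have h2 := IsGalois.card_aut_eq_finrank (R ⧸ maximalIdeal R) (S ⧸ n)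
  have h3 := Ideal.Quotient.stabilizerHom_surjective G (maximalIdeal R) n
  have h4 := Subgroup.card_mul_index (Ideal.Quotient.stabilizerHom n (maximalIdeal R) G).ker
  rw [Subgroup.index_ker, MonoidHom.range_eq_top.mpr h3, Subgroup.card_top, h2] at h4
  have h5 : Nat.card (Ideal.Quotient.stabilizerHom n (maximalIdeal R) G).ker =
      Nat.card (n.toAddSubgroup.inertia G) := by
    have := Ideal.Quotient.map_ker_stabilizer_subtype n (maximalIdeal R) G
    unfold Ideal.inertia at this
    rw [← this]
    exact (Subgroup.card_map_of_injective (Subgroup.subtype_injective _)).symm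
  have h6 : Nat.card (MulAction.stabilizer G n) ≤ Nat.card G := Subgroup.card_le_card_group _
  have hpos : 0 < Module.finrank (R ⧸ maximalIdeal R) (S ⧸ n) := Module.finrank_pos
  rw [h5] at h4
  have h7 : Nat.card (n.toAddSubgroup.inertia G) ≤ 1 := by
    by_contra hlt
    push Not at hlt
    have : 2 * Module.finrank (R ⧸ maximalIdeal R) (S ⧸ n) ≤
        Nat.card (n.toAddSubgroup.inertia G) * Module.finrank (R ⧸ maximalIdeal R) (S ⧸ n) :=
      Nat.mul_le_mul_right _ hlt
    omega
  exact Subgroup.eq_bot_of_card_le _ h7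

end

end Groth.Agent.Lib.Helper27.Inert
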