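import Mathlib
import Groth.Agent.Lib.Helper27.Inert2
import Groth.Agent.Lib.Helper15.FiniteComplete
import Groth.Agent.Lib.Helper15.ComplSemilocal

/-!
# Trivial inertia over a complete normal local domain (helper27)
-/

set_option autoImplicit false

namespace Groth.Agent.Lib.Helper27.Inert

open IsLocalRing Pointwise

universe u

theorem exists_forall_smul_eq_imp (ℓ H : Type*) [Field ℓ] [Group H] [Finite H]
    [MulSemiringAction H ℓ] [FaithfulSMul H ℓ] : ∃ t : ℓ, ∀ σ : H, σ • t = t → σ = 1 := by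
  let F := FixedPoints.subfield H ℓ
  obtain ⟨t, ht⟩ := Field.exists_primitive_element F ℓ
  refine ⟨t, fun σ hσ => ?_⟩
  have hadj : Algebra.adjoin F {t} = ⊤ := by
    rw [← IntermediateField.adjoin_simple_toSubalgebra_of_isAlgebraic
      (Algebra.IsAlgebraic.isAlgebraic t), ht, IntermediateField.top_toSubalgebra]
  have h1 : (MulSemiringAction.toAlgEquiv F ℓ σ : ℓ →ₐ[F] ℓ) = AlgHom.id F ℓ := by
    apply AlgHom.ext_of_adjoin_eq_top hadj
    intro x hx
    rw [Set.mem_singleton_iff] at hx
    subst hx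
    simpa using hσ
  apply FaithfulSMul.eq_of_smul_eq_smul (α := ℓ)
  intro x
  have := congrArg (fun f => f x) h1
  simpa using this

attribute [local instance] Ideal.Quotient.field

variable (R S G : Type u) [CommRing R] [CommRing S] [IsDomain R] [IsDomain S]
    [IsNoetherianRing R] [IsLocalRing R] [IsIntegrallyClosed R]
    [Algebra R S] [FaithfulSMul R S] [IsIntegrallyClosed S]
    [Group G] [Finite G] [MulSemiringAction G S] [SMulCommClass G R S] [IsGaloisGroup G R S]
    (n : Ideal S) [n.IsMaximal] [n.LiesOver (IsLocalRing.maximalIdeal R)]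

include G in
theorem isLocalRing_of_complete [IsAdicComplete (maximalIdeal R) R] : IsLocalRing S := by
  haveI : Module.Finite R S := finite_of_isGaloisGroup R S G
  haveI := Groth.Agent.Lib.Helper15.FiniteComplete.isAdicComplete_mS R S
  haveI := Groth.Agent.Lib.Helper15.FiniteComplete.isArtinianRing_quot R S
  exact Groth.Agent.Lib.Helper15.ComplSemilocal.isLocalRing_of_isDomain
    (Groth.Agent.Lib.Helper15.FiniteComplete.mS R S)

theorem smul_eq_self_of_isLocalRing [IsLocalRing S] (g : G) : g • n = n := by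
  have hn : n = maximalIdeal S := IsLocalRing.eq_maximalIdeal ‹_›
  ext x
  rw [Ideal.mem_pointwise_smul_iff_inv_smul_mem, hn, mem_maximalIdeal, mem_maximalIdeal,
    mem_nonunits_iff, mem_nonunits_iff]
  exact not_congr (isUnit_map_iff (MulSemiringAction.toRingEquiv G S g⁻¹) x)

theorem of_inertia_eq_bot [IsAdicComplete (maximalIdeal R) R]
    (hI : n.toAddSubgroup.inertia G = ⊥) :
    (maximalIdeal R).map (algebraMap R S) = n ∧
      Module.Finite (R ⧸ maximalIdeal R) (S ⧸ n) ∧
      Algebra.IsSeparable (R ⧸ maximalIdeal R) (S ⧸ n) := by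
  classical
  haveI : Fintype G := Fintype.ofFinite G
  haveI hfin : Module.Finite R S := finite_of_isGaloisGroup R S G
  haveI : IsLocalRing S := isLocalRing_of_complete R S G
  have hstab : ∀ g : G, g • n = n := smul_eq_self_of_isLocalRing S G n
  haveI : Module.Finite (R ⧸ maximalIdeal R) (S ⧸ n) :=
    Module.Finite.of_restrictScalars_finite R _ _
  let φ := Ideal.Quotient.stabilizerHom n (maximalIdeal R) G
  have hφs : Function.Surjective φ :=
    Ideal.Quotient.stabilizerHom_surjective G (maximalIdeal R) n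
  have hφi : Function.Injective φ := by
    rw [← MonoidHom.ker_eq_bot_iff, Ideal.Quotient.ker_stabilizerHom, eq_bot_iff]
    intro σ hσ
    have h6 : (σ : G) ∈ n.toAddSubgroup.inertia G := Ideal.coe_mem_inertia.mpr hσ
    rw [hI, Subgroup.mem_bot] at h6
    rw [Subgroup.mem_bot]
    exact Subtype.ext h6
  obtain ⟨t, ht⟩ := exists_forall_smul_eq_imp (S ⧸ n) ((S ⧸ n) ≃ₐ[R ⧸ maximalIdeal R] (S ⧸ n))
  obtain ⟨θ, rfl⟩ := Ideal.Quotient.mk_surjective t
  have hunit : ∀ g h : G, g ≠ h → IsUnit (g • θ - h • θ) := by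
    intro g h hgh
    by_contra hnu
    have h1 : g • θ - h • θ ∈ n := by
      rw [IsLocalRing.eq_maximalIdeal ‹n.IsMaximal›]; exact hnu
    have h2 : (h⁻¹ * g) • θ - θ ∈ n := by
      have := (Ideal.smul_mem_pointwise_smul_iff (a := h⁻¹)).mpr h1
      rw [hstab, smul_sub, smul_smul, inv_smul_smul] at this
      exact this
    let σ : MulAction.stabilizer G n := ⟨h⁻¹ * g, hstab _⟩
    have h3 : φ σ (Ideal.Quotient.mk n θ) = Ideal.Quotient.mk n θ := by
      rw [Ideal.Quotient.stabilizerHom_apply]
      exact Ideal.Quotient.eq.mpr h2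
    have h4 : φ σ = 1 := ht _ h3
    have h5 : σ = 1 := hφi (by rw [h4, map_one])
    have h6 : h⁻¹ * g = 1 := congrArg Subtype.val h5
    exact hgh (by rw [← mul_right_inj h⁻¹, h6, inv_mul_cancel])
  have hspan : ∀ z : S, z ∈ Submodule.span R
      (Set.range fun j : Fin (Fintype.card G) => θ ^ (j : ℕ)) :=
    mem_span_pow_of_isUnit_sub θ hunit
  let v : Fin (Fintype.card G) → S ⧸ n := fun j => Ideal.Quotient.mk n θ ^ (j : ℕ)
  have hvspan : Submodule.span (R ⧸ maximalIdeal R) (Set.range v) = ⊤ := by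
    rw [eq_top_iff]
    rintro y -
    obtain ⟨z, rfl⟩ := Ideal.Quotient.mk_surjective y
    have h1 := Submodule.mem_map_of_mem (f := (Ideal.Quotient.mkₐ R n).toLinearMap) (hspan z)
    rw [Submodule.map_span, ← Set.range_comp] at h1
    have h2 : Submodule.span R (Set.range v) ≤
        (Submodule.span (R ⧸ maximalIdeal R) (Set.range v)).restrictScalars R :=
      Submodule.span_le_restrictScalars R (R ⧸ maximalIdeal R) _
    have h3 : ((Ideal.Quotient.mkₐ R n).toLinearMap ∘ fun j : Fin (Fintype.card G) =>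
        θ ^ (j : ℕ)) = v := by
      funext j
      simp [v]
    rw [h3] at h1
    exact h2 h1
  have hle : Module.finrank (R ⧸ maximalIdeal R) (S ⧸ n) ≤ Fintype.card G := by
    simpa using finrank_le_of_span_eq_top hvspan
  have hstabtop : MulAction.stabilizer G n = ⊤ := by
    ext g
    simp [MulAction.mem_stabilizer_iff, hstab g]
  have hcard : Nat.card ((S ⧸ n) ≃ₐ[R ⧸ maximalIdeal R] (S ⧸ n)) = Fintype.card G := by
    rw [← Nat.card_congr (Equiv.ofBijective φ ⟨hφi, hφs⟩), hstabtop, Subgroup.card_top,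
      Nat.card_eq_fintype_card]
  have hle2 : Nat.card ((S ⧸ n) ≃ₐ[R ⧸ maximalIdeal R] (S ⧸ n)) ≤
      Module.finrank (R ⧸ maximalIdeal R) (S ⧸ n) := by
    rw [Nat.card_eq_fintype_card]
    exact AlgEquiv.card_le
  have hfr : Module.finrank (R ⧸ maximalIdeal R) (S ⧸ n) = Fintype.card G := by omega
  haveI : IsGalois (R ⧸ maximalIdeal R) (S ⧸ n) :=
    IsGalois.of_card_aut_eq_finrank _ _ (by rw [hcard, hfr])
  refine ⟨?_, inferInstance, inferInstance⟩
  apply le_antisymm
  · rw [Ideal.map_le_iff_le_comap]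
    exact (Ideal.LiesOver.over (P := n) (p := maximalIdeal R)).le
  · intro x hx
    obtain ⟨c, hc⟩ := (Submodule.mem_span_range_iff_exists_fun R).mp (hspan x)
    have hli : LinearIndependent (R ⧸ maximalIdeal R) v :=
      linearIndependent_of_top_le_span_of_card_eq_finrank hvspan.ge (by simpa using hfr.symm)
    have h1 : ∑ j, (Ideal.Quotient.mk (maximalIdeal R) (c j)) • v j = 0 := by
      have h2 : Ideal.Quotient.mk n x = 0 := Ideal.Quotient.eq_zero_iff_mem.mpr hx
      rw [← hc, map_sum] at h2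
      rw [← h2]
      refine Finset.sum_congr rfl (fun j _ => ?_)
      simp only [v, Algebra.smul_def, map_mul, map_pow]
      rfl
    have h3 := Fintype.linearIndependent_iff.mp hli _ h1
    rw [← hc]
    refine Ideal.sum_mem _ (fun j _ => ?_)
    rw [Algebra.smul_def]
    exact Ideal.mul_mem_right _ _ (Ideal.mem_map_of_mem _
      (Ideal.Quotient.eq_zero_iff_mem.mp (h3 j)))

end Groth.Agent.Lib.Helper27.Inert
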