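import Mathlib

/-!
# Inertia acts trivially on points extending over the valuation ring (helper27)

Mathlib-only part.
* `eq_of_formallyUnramified_of_residue_eq`: two `V`-points (`V` local) of `X` with the same image
  under a formally unramified morphism `f : X ⟶ Y` locally of finite type and agreeing on the closed
  point are equal.
* `resW`, `toW`: restriction of an inertia element to the valuation subring, and the map `R → W`.
-/

set_option autoImplicit false
universe u
open CategoryTheory CategoryTheory.Limits AlgebraicGeometry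

namespace Groth.Agent.Lib.Helper27.InertiaA

theorem eq_of_formallyUnramified_of_residue_eq {X Y : Scheme.{u}} (f : X ⟶ Y)
    [FormallyUnramified f] [LocallyOfFiniteType f] (V : Type u) [CommRing V] [IsLocalRing V]
    (a b : Spec (CommRingCat.of V) ⟶ X) (hab : a ≫ f = b ≫ f)
    (hcl : Spec.map (CommRingCat.ofHom (IsLocalRing.residue V)) ≫ a =
      Spec.map (CommRingCat.ofHom (IsLocalRing.residue V)) ≫ b) : a = b := by
  let c : Spec (CommRingCat.of V) ⟶ pullback f f := pullback.lift a b hab
  have hc1 : c ≫ pullback.fst f f = a := pullback.lift_fst _ _ _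
  have hc2 : c ≫ pullback.snd f f = b := pullback.lift_snd _ _ _
  let i := Spec.map (CommRingCat.ofHom (IsLocalRing.residue V))
  have hic : i ≫ c = (i ≫ a) ≫ pullback.diagonal f := by
    apply pullback.hom_ext
    · rw [Category.assoc, hc1, Category.assoc, pullback.diagonal_fst, Category.comp_id]
    · rw [Category.assoc, hc2, Category.assoc, pullback.diagonal_snd, Category.comp_id, hcl]
  -- the closed point lies in the preimage of the (open) range of the diagonal
  have hcp : IsLocalRing.closedPoint V ∈ c ⁻¹ᵁ (pullback.diagonal f).opensRange := by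
    obtain ⟨y, hy⟩ : ∃ y, i y = IsLocalRing.closedPoint V := by
      have hmem : IsLocalRing.closedPoint V ∈ PrimeSpectrum.zeroLocus
          ((RingHom.ker (IsLocalRing.residue V) : Ideal V) : Set V) := by
        intro r hr
        rw [SetLike.mem_coe, IsLocalRing.ker_residue] at hr
        exact hr
      rw [← range_comap_of_surjective _ (IsLocalRing.residue V)
        IsLocalRing.residue_surjective] at hmem
      exact hmem
    change c (IsLocalRing.closedPoint V) ∈ Set.range (pullback.diagonal f)
    rw [← hy, ← Scheme.Hom.comp_apply, hic, Scheme.Hom.comp_apply]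
    exact ⟨_, rfl⟩
  have htop : c ⁻¹ᵁ (pullback.diagonal f).opensRange = ⊤ :=
    (IsLocalRing.closedPoint_mem_iff _).mp hcp
  have hrange : Set.range c ⊆ Set.range (pullback.diagonal f) := by
    rintro _ ⟨y, rfl⟩
    have : y ∈ c ⁻¹ᵁ (pullback.diagonal f).opensRange := htop ▸ trivial
    exact this
  let d := IsOpenImmersion.lift (pullback.diagonal f) c hrange
  have hd : d ≫ pullback.diagonal f = c := IsOpenImmersion.lift_fac _ _ _
  rw [← hc1, ← hc2, ← hd, Category.assoc, Category.assoc, pullback.diagonal_fst,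
    pullback.diagonal_snd]

section Val

variable {K : Type u} [Field K] {Ω : Type u} [Field Ω] [Algebra K Ω] (W : ValuationSubring Ω)

/-- restriction to `W` of an automorphism preserving `W` -/
def resW (σ : Ω ≃ₐ[K] Ω) (hσ : ∀ x : Ω, x ∈ W → σ x ∈ W) : ↥W →+* ↥W where
  toFun w := ⟨σ w, hσ w w.2⟩
  map_one' := Subtype.ext (map_one σ)
  map_mul' a b := Subtype.ext (map_mul σ (a : Ω) (b : Ω))
  map_zero' := Subtype.ext (map_zero σ)
  map_add' a b := Subtype.ext (map_add σ (a : Ω) (b : Ω))

theorem algebraMap_comp_resW (σ : Ω ≃ₐ[K] Ω) (hσ : ∀ x : Ω, x ∈ W → σ x ∈ W) :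
    (algebraMap ↥W Ω).comp (resW W σ hσ) = ((σ : Ω ≃+* Ω) : Ω →+* Ω).comp (algebraMap ↥W Ω) :=
  rfl

theorem residue_comp_resW (σ : Ω ≃ₐ[K] Ω) (hσ : ∀ x : Ω, x ∈ W → σ x ∈ W)
    (hσ' : ∀ x : Ω, x ∈ W → W.valuation (σ x - x) < 1) :
    (IsLocalRing.residue ↥W).comp (resW W σ hσ) = IsLocalRing.residue ↥W := by
  ext w
  rw [RingHom.comp_apply, ← sub_eq_zero, ← map_sub, IsLocalRing.residue_eq_zero_iff,
    ValuationSubring.valuation_lt_one_iff]
  exact hσ' w w.2

variable (K) in
/-- the map `R → W` for `W` containing the image of `R` -/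
def toW (R : Type u) [CommRing R] [Algebra R K]
    (h : ∀ r : R, algebraMap K Ω (algebraMap R K r) ∈ W) : R →+* ↥W where
  toFun r := ⟨algebraMap K Ω (algebraMap R K r), h r⟩
  map_one' := Subtype.ext (by simp)
  map_mul' a b := Subtype.ext (by simp)
  map_zero' := Subtype.ext (by simp)
  map_add' a b := Subtype.ext (by simp)

theorem algebraMap_comp_toW (R : Type u) [CommRing R] [Algebra R K]
    (h : ∀ r : R, algebraMap K Ω (algebraMap R K r) ∈ W) :
    (algebraMap ↥W Ω).comp (toW K W R h) = (algebraMap K Ω).comp (algebraMap R K) := rfl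

theorem resW_comp_toW (R : Type u) [CommRing R] [Algebra R K]
    (h : ∀ r : R, algebraMap K Ω (algebraMap R K r) ∈ W)
    (σ : Ω ≃ₐ[K] Ω) (hσ : ∀ x : Ω, x ∈ W → σ x ∈ W) :
    (resW W σ hσ).comp (toW K W R h) = toW K W R h := by
  ext r
  exact σ.commutes (algebraMap R K r)

end Val

end Groth.Agent.Lib.Helper27.InertiaA
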