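import Mathlib
import Groth.Prelude.Def_SGA7IX
import Groth.Agent.Lib.Helper27.InertiaA
import Groth.Agent.Lib.Helper22.LieGenF

/-!
# Inertia acts trivially on torsion points of the generic fibre of a proper commutative group
scheme over a local ring on which the order is invertible (helper27)
-/

set_option autoImplicit false
universe u
open CategoryTheory CategoryTheory.Limits AlgebraicGeometry MonoidalCategory
  CartesianMonoidalCategory MonObj
open scoped Obj

namespace Groth.Agent.Lib.Helper27.InertiaB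

open Groth.Agent.Lib.Helper27.InertiaA Groth.Agent.Lib.Helper22

section

variable {S T : Scheme.{u}} (j : T ⟶ S) (B : Over S) [GrpObj B]

/-- the power map of the base change is the base change of the power map -/
theorem map_zpow_id (d : ℤ) :
    (Over.pullback j).map (𝟙 B ^ d) = (𝟙 ((Over.pullback j).obj B)) ^ d := by
  have h := map_zpow ((Over.pullback j).homMonoidHom (X := B) (M := B)) (𝟙 B) d
  simpa using h

omit [GrpObj B] in
/-- the underlying point in `B` of a point of the base change -/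
theorem comp_map_left_fst {X : Over T} {B' : Over S} (y : X ⟶ (Over.pullback j).obj B')
    (g : B' ⟶ B) :
    (y ≫ (Over.pullback j).map g).left ≫ pullback.fst B.hom j =
      (y.left ≫ pullback.fst B'.hom j) ≫ g.left := by
  rw [Over.comp_left, Category.assoc, Category.assoc]
  congr 1
  simp only [Over.pullback_map_left]
  erw [pullback.lift_fst]

/-- the underlying point in `B` of the unit point of the base change -/
theorem one_left_fst (X : Over T) :
    (1 : X ⟶ (Over.pullback j).obj B).left ≫ pullback.fst B.hom j =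
      (X.hom ≫ j) ≫ η[B].left := by
  have h1 : (1 : X ⟶ (Over.pullback j).obj B) =
      (toUnit X ≫ Functor.LaxMonoidal.ε (Over.pullback j)) ≫ (Over.pullback j).map η[B] := by
    rw [Hom.one_def, Functor.obj.η_def, Category.assoc]
  rw [h1, comp_map_left_fst]
  congr 1
  have hc := pullback.condition (f := (𝟙_ (Over S)).hom) (g := j)
  have hc' : pullback.fst (𝟙_ (Over S)).hom j = pullback.snd (𝟙_ (Over S)).hom j ≫ j :=
    (Category.comp_id _).symm.trans hc
  rw [hc', ← Category.assoc]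
  congr 1
  exact Over.w (toUnit X ≫ Functor.LaxMonoidal.ε (Over.pullback j))

end

section Main

variable (R K Ω : Type u) [CommRing R] [IsLocalRing R] [Field K] [Algebra R K] [Field Ω]
  [Algebra K Ω]

theorem specMap_algEquiv (σ : Ω ≃ₐ[K] Ω) :
    (SGA7.specAut σ).left = Spec.map (CommRingCat.ofHom (σ : Ω →+* Ω)) := rfl

/-- Inertia fixes the `n`-torsion points of the generic fibre of a proper commutative group scheme
over `R`, `n` invertible in `R`. -/
theorem specAut_comp_eq_of_pow_eq_one (W : ValuationSubring Ω) (hW : SGA7.LiesOver K R W)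
    (B : Over (Spec (CommRingCat.of R))) [GrpObj B] [IsCommMonObj B] [IsProper B.hom]
    (n : ℕ) (hn : IsUnit (n : R))
    (j : Spec (CommRingCat.of K) ⟶ Spec (CommRingCat.of R))
    (hj : j = Spec.map (CommRingCat.ofHom (algebraMap R K)))
    (y : SGA7.pt (K := K) Ω ⟶ (Over.pullback j).obj B)
    (hy : y ^ n = 1) (σ : Ω ≃ₐ[K] Ω) (hσ : SGA7.IsInertia W σ) :
    SGA7.specAut σ ≫ y = y := by
  -- the power map on `B`
  have hnΓ : IsUnit (((n : ℤ)) : Γ(Spec (CommRingCat.of R), ⊤)) := by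
    have h1 := hn.map (Scheme.ΓSpecIso (CommRingCat.of R)).inv.hom
    rw [map_natCast] at h1
    exact_mod_cast h1
  haveI hunr : FormallyUnramified (𝟙 B ^ (n : ℤ)).left :=
    LieGen.formallyUnramified_zpow_base B (n : ℤ) hnΓ
  haveI : LocallyOfFiniteType ((𝟙 B ^ (n : ℤ)).left ≫ B.hom) := by
    rw [Over.w (𝟙 B ^ (n : ℤ))]
    infer_instance
  haveI : LocallyOfFiniteType (𝟙 B ^ (n : ℤ)).left :=
    locallyOfFiniteType_of_comp (𝟙 B ^ (n : ℤ)).left B.hom
  -- the underlying point of `B`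
  obtain ⟨y', hy'⟩ : ∃ y' : Spec (CommRingCat.of Ω) ⟶ B.left,
      y' = y.left ≫ pullback.fst B.hom j := ⟨_, rfl⟩
  have hyN : y' ≫ (𝟙 B ^ (n : ℤ)).left =
      (Spec.map (CommRingCat.ofHom (algebraMap K Ω)) ≫ j) ≫ η[B].left := by
    have h1 : y ≫ (Over.pullback j).map (𝟙 B ^ (n : ℤ)) = 1 := by
      rw [map_zpow_id, GrpObj.comp_zpow, Category.comp_id, zpow_natCast, hy]
    rw [hy', ← comp_map_left_fst, h1, one_left_fst]
    rfl
  -- maps of rings
  have hσW : ∀ x : Ω, x ∈ W → σ x ∈ W := fun x hx => (hσ x hx).1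
  have hσW' : ∀ x : Ω, x ∈ W → W.valuation (σ x - x) < 1 := fun x hx => (hσ x hx).2
  obtain ⟨ρ, hρ⟩ : ∃ ρ : R →+* ↥W, ρ = toW K W R hW.1 := ⟨_, rfl⟩
  obtain ⟨i₂, hi₂⟩ : ∃ i₂ : Spec (CommRingCat.of ↥W) ⟶ Spec (CommRingCat.of R),
      i₂ = Spec.map (CommRingCat.ofHom ρ) := ⟨_, rfl⟩
  obtain ⟨ιW, hιW⟩ : ∃ ιW : Spec (CommRingCat.of Ω) ⟶ Spec (CommRingCat.of ↥W),
      ιW = Spec.map (CommRingCat.ofHom (algebraMap ↥W Ω)) := ⟨_, rfl⟩
  obtain ⟨τ, hτ⟩ : ∃ τ : Spec (CommRingCat.of ↥W) ⟶ Spec (CommRingCat.of ↥W),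
      τ = Spec.map (CommRingCat.ofHom (resW W σ hσW)) := ⟨_, rfl⟩
  have hιi : ιW ≫ i₂ = Spec.map (CommRingCat.ofHom (algebraMap K Ω)) ≫ j := by
    rw [hj, hιW, hi₂, hρ, ← Spec.map_comp, ← Spec.map_comp, ← CommRingCat.ofHom_comp,
      ← CommRingCat.ofHom_comp, algebraMap_comp_toW]
  have hτi : τ ≫ i₂ = i₂ := by
    rw [hτ, hi₂, hρ, ← Spec.map_comp, ← CommRingCat.ofHom_comp, resW_comp_toW]
  have hιτ : ιW ≫ τ = (SGA7.specAut σ).left ≫ ιW := by
    rw [specMap_algEquiv, hιW, hτ, ← Spec.map_comp, ← Spec.map_comp, ← CommRingCat.ofHom_comp,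
      ← CommRingCat.ofHom_comp]
    rfl
  have hresτ : Spec.map (CommRingCat.ofHom (IsLocalRing.residue ↥W)) ≫ τ =
      Spec.map (CommRingCat.ofHom (IsLocalRing.residue ↥W)) := by
    rw [hτ, ← Spec.map_comp, ← CommRingCat.ofHom_comp, residue_comp_resW W σ hσW hσW']
  have hσj : (SGA7.specAut σ).left ≫ Spec.map (CommRingCat.ofHom (algebraMap K Ω)) =
      Spec.map (CommRingCat.ofHom (algebraMap K Ω)) := SGA7.spec_map_algEquiv_comp σ
  -- the valuative square
  have hsq : y' ≫ B.hom = ιW ≫ i₂ := by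
    rw [hιi, hy', Category.assoc, pullback.condition, ← Category.assoc]
    congr 1
    exact Over.w y
  let Sq : ValuativeCommSq B.hom :=
    { R := ↥W, K := Ω, i₁ := y', i₂ := i₂, commSq := ⟨by rw [hsq, hιW]⟩ }
  have hex : ValuativeCriterion.Existence B.hom := by
    have h1 : UniversallyClosed B.hom := inferInstance
    rw [UniversallyClosed.eq_valuativeCriterion] at h1
    exact h1.1
  obtain ⟨⟨l, hl1, hl2⟩⟩ := (hex Sq).exists_lift
  have hl1' : ιW ≫ l = y' := by rw [hιW]; exact hl1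
  have hl2' : l ≫ B.hom = i₂ := hl2
  haveI : IsDominant ιW := by
    rw [hιW]
    refine ⟨?_⟩
    change DenseRange (PrimeSpectrum.comap (algebraMap ↥W Ω))
    rw [PrimeSpectrum.denseRange_comap_iff_ker_le_nilRadical]
    have hinj : Function.Injective (algebraMap ↥W Ω) := Subtype.val_injective
    rw [(RingHom.injective_iff_ker_eq_bot _).mp hinj]
    exact bot_le
  have hab : (τ ≫ l) ≫ (𝟙 B ^ (n : ℤ)).left = l ≫ (𝟙 B ^ (n : ℤ)).left := by
    refine ext_of_isDominant_of_isSeparated B.hom ?_ ιW ?_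
    · have hN : (𝟙 B ^ (n : ℤ)).left ≫ B.hom = B.hom := Over.w (𝟙 B ^ (n : ℤ))
      rw [Category.assoc, Category.assoc, hN, hl2', hτi, Category.assoc, hN, hl2']
    · rw [← Category.assoc, ← Category.assoc, hιτ, Category.assoc (SGA7.specAut σ).left, hl1',
        Category.assoc, hyN, ← Category.assoc, ← Category.assoc, hσj, ← Category.assoc, hl1', hyN]
  have hcl : Spec.map (CommRingCat.ofHom (IsLocalRing.residue ↥W)) ≫ (τ ≫ l) =
      Spec.map (CommRingCat.ofHom (IsLocalRing.residue ↥W)) ≫ l := by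
    rw [← Category.assoc, hresτ]
  have hτl : τ ≫ l = l :=
    eq_of_formallyUnramified_of_residue_eq (𝟙 B ^ (n : ℤ)).left ↥W (τ ≫ l) l hab hcl
  have hσy' : (SGA7.specAut σ).left ≫ y' = y' := by
    rw [← hl1', ← Category.assoc, ← hιτ, Category.assoc, hτl]
  apply Over.OverMorphism.ext
  rw [Over.comp_left]
  apply pullback.hom_ext
  · rw [Category.assoc, ← hy', hσy']
  · rw [Category.assoc]
    have h1 : y.left ≫ pullback.snd B.hom j =
        Spec.map (CommRingCat.ofHom (algebraMap K Ω)) := Over.w y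
    rw [h1, hσj]

end Main

end Groth.Agent.Lib.Helper27.InertiaB
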