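import Mathlib
import Groth.Prelude.Def_SGA7IX
import Groth.Agent.Lib.Helper27.InertiaB

/-!
# Inertia acts trivially on torsion of an abelian variety with good reduction, modulo rigidity
(helper27)
-/

set_option autoImplicit false
universe u
open CategoryTheory CategoryTheory.Limits AlgebraicGeometry MonoidalCategory
  CartesianMonoidalCategory MonObj
open scoped Obj

namespace Groth.Agent.Lib.Helper27.InertiaC

open Groth.Agent.Lib.Helper27.InertiaB

variable (R K Ω : Type u) [CommRing R] [IsLocalRing R] [Field K] [Algebra R K] [Field Ω]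
  [Algebra K Ω]

theorem galAct_eq_of_rigid (W : ValuationSubring Ω) (hW : SGA7.LiesOver K R W)
    (n : ℕ) (hn : IsUnit (n : R))
    (A : Over (Spec (CommRingCat.of K))) [GrpObj A]
    (B : Over (Spec (CommRingCat.of R))) [GrpObj B] [IsCommMonObj B] [IsProper B.hom]
    (e : (Over.pullback (Spec.map (CommRingCat.ofHom (algebraMap R K)))).obj B ≅ A)
    (hrig : ∀ h : (Over.pullback (Spec.map (CommRingCat.ofHom (algebraMap R K)))).obj B ⟶ A,
      η[(Over.pullback (Spec.map (CommRingCat.ofHom (algebraMap R K)))).obj B] ≫ h = η[A] →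
        IsMonHom h)
    (σ : Ω ≃ₐ[K] Ω) (hσ : SGA7.IsInertia W σ) (x : SGA7.Pts Ω A) (hx : x ^ n = 1) :
    SGA7.galAct σ x = x := by
  obtain ⟨BK, hBK⟩ : ∃ BK, BK =
    (Over.pullback (Spec.map (CommRingCat.ofHom (algebraMap R K)))).obj B := ⟨_, rfl⟩
  -- the translated isomorphism
  let a₀ : 𝟙_ (Over (Spec (CommRingCat.of K))) ⟶ A :=
    η[(Over.pullback (Spec.map (CommRingCat.ofHom (algebraMap R K)))).obj B] ≫ e.hom
  let h : (Over.pullback (Spec.map (CommRingCat.ofHom (algebraMap R K)))).obj B ⟶ A :=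
    e.hom * (toUnit _ ≫ a₀⁻¹)
  have hη : η[(Over.pullback (Spec.map (CommRingCat.ofHom (algebraMap R K)))).obj B] ≫ h =
      η[A] := by
    show η[(Over.pullback (Spec.map (CommRingCat.ofHom (algebraMap R K)))).obj B] ≫
      (e.hom * (toUnit _ ≫ a₀⁻¹)) = η[A]
    rw [MonObj.comp_mul, ← Category.assoc,
      toUnit_unique (η[(Over.pullback (Spec.map (CommRingCat.ofHom
        (algebraMap R K)))).obj B] ≫ toUnit _) (𝟙 _), Category.id_comp]
    show a₀ * a₀⁻¹ = η[A]
    rw [mul_inv_cancel, Hom.one_def, toUnit_unique (toUnit (𝟙_ _)) (𝟙 _), Category.id_comp]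
  haveI : IsMonHom h := hrig h hη
  -- the point `y`
  let c : SGA7.pt (K := K) Ω ⟶ A := toUnit _ ≫ a₀
  let y : SGA7.pt (K := K) Ω ⟶
      (Over.pullback (Spec.map (CommRingCat.ofHom (algebraMap R K)))).obj B := (x * c) ≫ e.inv
  have hcomp : ∀ z : SGA7.pt (K := K) Ω ⟶
      (Over.pullback (Spec.map (CommRingCat.ofHom (algebraMap R K)))).obj B,
      z ≫ h = (z ≫ e.hom) * c⁻¹ := by
    intro z
    show z ≫ (e.hom * (toUnit _ ≫ a₀⁻¹)) = (z ≫ e.hom) * c⁻¹
    rw [MonObj.comp_mul, ← Category.assoc, toUnit_unique (z ≫ toUnit _) (toUnit _)]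
    congr 1
  have hyh : y ≫ h = x := by
    rw [hcomp]
    show (((x * c) ≫ e.inv) ≫ e.hom) * c⁻¹ = x
    rw [Category.assoc, Iso.inv_hom_id, Category.comp_id, mul_inv_cancel_right]
  have hinj : ∀ z₁ z₂ : SGA7.pt (K := K) Ω ⟶
      (Over.pullback (Spec.map (CommRingCat.ofHom (algebraMap R K)))).obj B,
      z₁ ≫ h = z₂ ≫ h → z₁ = z₂ := by
    intro z₁ z₂ hz
    rw [hcomp, hcomp] at hz
    have h1 : z₁ ≫ e.hom = z₂ ≫ e.hom := mul_right_cancel hz
    exact (cancel_mono e.hom).mp h1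
  have hy : y ^ n = 1 := by
    apply hinj
    rw [MonObj.pow_comp, hyh, hx, MonObj.one_comp]
  have hmain := specAut_comp_eq_of_pow_eq_one R K Ω W hW B n hn _ rfl y hy σ hσ
  show SGA7.specAut σ ≫ x = x
  rw [← hyh, ← Category.assoc, hmain]

end Groth.Agent.Lib.Helper27.InertiaC
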