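import Mathlib
import Groth.Prelude.Def_SGA7IX
import Groth.Agent.Lib.Helper27.InertiaC
import Groth.Agent.Lib.Helper22.SmoothRed
import Groth.Agent.S7784
import Groth.Agent.S7785

/-!
# Good reduction implies that inertia acts trivially on torsion prime to the residue
characteristic (helper27)

`galAct_eq`: `R` local, `B` a proper smooth `R`-group scheme with geometrically connected fibres
whose generic fibre is isomorphic (as a scheme) to the abelian variety `A`; then every inertia
element fixes the `n`-torsion points of `A`, `n` invertible in `R`.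
-/

set_option autoImplicit false
universe u
open CategoryTheory CategoryTheory.Limits AlgebraicGeometry MonoidalCategory
  CartesianMonoidalCategory MonObj
open scoped Obj

namespace Groth.Agent.Lib.Helper27.InertiaD

theorem geomRed_of_smooth {X Y : Scheme.{u}} (f : X ⟶ Y) [Smooth f] : GeometricallyReduced f := by
  refine ⟨fun K _ y Z fst snd h => ?_⟩
  haveI : Smooth snd := MorphismProperty.of_isPullback (P := @Smooth) h inferInstance
  exact Groth.Agent.Lib.Helper22.SmoothRed.isReduced_of_smooth snd

theorem geomConn_of_geomIrred {X Y : Scheme.{u}} (f : X ⟶ Y) [GeometricallyIrreducible f] :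
    GeometricallyConnected f := by
  refine ⟨fun K _ y Z fst snd h => ?_⟩
  haveI : IrreducibleSpace Z :=
    GeometricallyIrreducible.geometrically_irreducibleSpace (f := f) y fst snd h
  infer_instance

variable (R K Ω : Type u) [CommRing R] [IsLocalRing R] [Field K] [Algebra R K] [Field Ω]
  [Algebra K Ω]

theorem galAct_eq (W : ValuationSubring Ω) (hW : SGA7.LiesOver K R W)
    (n : ℕ) (hn : IsUnit (n : R))
    (A : Over (Spec (CommRingCat.of K))) [GrpObj A] [IsProper A.hom]
    [GeometricallyIntegral A.hom]
    (B : Over (Spec (CommRingCat.of R))) [GrpObj B] [IsProper B.hom] [Smooth B.hom]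
    [GeometricallyConnected B.hom]
    (e : (Over.pullback (Spec.map (CommRingCat.ofHom (algebraMap R K)))).obj B ≅ A)
    (σ : Ω ≃ₐ[K] Ω) (hσ : SGA7.IsInertia W σ) (x : SGA7.Pts Ω A) (hx : x ^ n = 1) :
    SGA7.galAct σ x = x := by
  haveI : GeometricallyReduced B.hom := geomRed_of_smooth B.hom
  haveI : IsCommMonObj B := Groth.Agent.S7785.result B
  refine InertiaC.galAct_eq_of_rigid R K Ω W hW n hn A B e ?_ σ hσ x hx
  intro h hη
  haveI : IsProper ((Over.pullback (Spec.map (CommRingCat.ofHom (algebraMap R K)))).obj B).hom :=
    inferInstanceAs (IsProper (pullback.snd B.hom _))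
  haveI : Flat ((Over.pullback (Spec.map (CommRingCat.ofHom (algebraMap R K)))).obj B).hom :=
    inferInstanceAs (Flat (pullback.snd B.hom _))
  haveI : LocallyOfFinitePresentation
      ((Over.pullback (Spec.map (CommRingCat.ofHom (algebraMap R K)))).obj B).hom :=
    inferInstanceAs (LocallyOfFinitePresentation (pullback.snd B.hom _))
  haveI : GeometricallyReduced
      ((Over.pullback (Spec.map (CommRingCat.ofHom (algebraMap R K)))).obj B).hom :=
    inferInstanceAs (GeometricallyReduced (pullback.snd B.hom _))
  haveI : GeometricallyConnected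
      ((Over.pullback (Spec.map (CommRingCat.ofHom (algebraMap R K)))).obj B).hom :=
    inferInstanceAs (GeometricallyConnected (pullback.snd B.hom _))
  haveI : Flat A.hom := inferInstance
  haveI : LocallyOfFinitePresentation A.hom :=
    LocallyOfFinitePresentation.iff_locallyOfFiniteType.mpr inferInstance
  haveI : GeometricallyConnected A.hom := geomConn_of_geomIrred A.hom
  exact Groth.Agent.S7784.result _ A h hη

end Groth.Agent.Lib.Helper27.InertiaD
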