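import Mathlib

/-!
If `d ∈ D` becomes invertible in an extension `E ⊇ D` with inverse integral over `D`, then `d`
is a unit of `D`.
-/

set_option autoImplicit false

namespace Groth.Agent.Lib.Helper27.InvIntegral

open Polynomial

theorem isUnit_of_isIntegral_inv {D E : Type*} [CommRing D] [CommRing E] [Algebra D E]
    (hinj : Function.Injective (algebraMap D E)) (d : D) (δ : E)
    (h1 : δ * algebraMap D E d = 1) (hδ : IsIntegral D δ) : IsUnit d := by
  obtain ⟨p, hp, hpe⟩ := hδ
  letI : Invertible δ := ⟨algebraMap D E d, by rw [mul_comm]; exact h1, h1⟩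
  have h2 := Polynomial.eval₂_reverse_mul_pow (algebraMap D E) δ p
  rw [hpe] at h2
  have hu : IsUnit (δ ^ p.natDegree) := (isUnit_of_invertible δ).pow _
  have h3 : eval₂ (algebraMap D E) (⅟δ) p.reverse = 0 := (hu.mul_left_eq_zero).mp h2
  have h3' : eval₂ (algebraMap D E) (algebraMap D E d) p.reverse = 0 := h3
  rw [Polynomial.eval₂_at_apply] at h3'
  have h4 : p.reverse.eval d = 0 := hinj (by rw [map_zero]; exact h3')
  have h5 : p.reverse = p.reverse.divX * X + C 1 := by
    conv_lhs => rw [← divX_mul_X_add p.reverse]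
    rw [coeff_zero_reverse, hp.leadingCoeff]
  rw [h5, eval_add, eval_mul, eval_X, eval_C] at h4
  apply IsUnit.of_mul_eq_one (-(p.reverse.divX.eval d))
  linear_combination (-1 : D) * h4

end Groth.Agent.Lib.Helper27.InvIntegral
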