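import Mathlib

set_option autoImplicit false

namespace Groth.Agent.Lib.Helper27.InvU

open Matrix

/-- Nakayama with denominators (determinant trick). -/
theorem exists_smul_mem_of_forall_exists_smul_mem_sup {R A : Type*} [CommRing R] [AddCommGroup A]
    [Module R A] [Module.Finite R A] (P : Ideal R) [P.IsPrime] (y : R) (hy : y ∈ P)
    (N : Submodule R A)
    (h : ∀ α : A, ∃ c : R, c ∉ P ∧ ∃ ν ∈ N, ∃ β : A, c • α = ν + y • β) :
    ∀ α : A, ∃ r : R, r ∉ P ∧ r • α ∈ N := by
  classical
  obtain ⟨m, s, hs⟩ := Module.Finite.exists_fin (R := R) (M := A)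
  choose c hc ν hν β hβ using fun j => h (s j)
  have hβ' : ∀ j, ∃ t : Fin m → R, ∑ k, t k • s k = β j := fun j =>
    (Submodule.mem_span_range_iff_exists_fun R).mp (hs ▸ Submodule.mem_top)
  choose t ht using hβ'
  let d : Fin m → R := fun j => ∏ i ∈ Finset.univ.erase j, c i
  let C : R := ∏ i, c i
  have hC : C ∉ P := by
    intro hmem
    obtain ⟨i, -, hi⟩ := Ideal.IsPrime.prod_mem_iff.mp hmem
    exact hc i hi
  have hdC : ∀ j, d j * c j = C := fun j => Finset.prod_erase_mul _ _ (Finset.mem_univ j)
  let Mx : Matrix (Fin m) (Fin m) R := fun j k => (if j = k then C else 0) - y * (d j * t j k)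
  have hrow : ∀ j, ∑ k, Mx j k • s k = d j • ν j := by
    intro j
    have h1 : C • s j = d j • ν j + y • ∑ k, (d j * t j k) • s k := by
      rw [← hdC j, mul_smul, hβ j, smul_add, ← ht j, Finset.smul_sum, Finset.smul_sum,
        Finset.smul_sum]
      congr 1
      refine Finset.sum_congr rfl (fun k _ => ?_)
      rw [smul_smul, smul_smul, smul_smul]
      congr 1
      ring
    simp only [Mx, sub_smul, Finset.sum_sub_distrib, ite_smul, zero_smul, Finset.sum_ite_eq,
      Finset.mem_univ, if_true]
    rw [h1, Finset.smul_sum]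
    simp only [mul_smul]
    abel
  have hdet : ∀ i, Mx.det • s i ∈ N := by
    intro i
    have h2 : Mx.det • s i = ∑ j, Mx.adjugate i j • (∑ k, Mx j k • s k) := by
      have h3 : ∀ k, (Mx.adjugate * Mx) i k = if i = k then Mx.det else 0 := by
        intro k
        rw [Matrix.adjugate_mul]
        simp [Matrix.one_apply]
      calc Mx.det • s i = ∑ k, (Mx.adjugate * Mx) i k • s k := by
            simp [h3]
        _ = ∑ k, ∑ j, (Mx.adjugate i j * Mx j k) • s k := by
            refine Finset.sum_congr rfl (fun k _ => ?_)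
            rw [Matrix.mul_apply, Finset.sum_smul]
        _ = ∑ j, ∑ k, (Mx.adjugate i j * Mx j k) • s k := Finset.sum_comm
        _ = ∑ j, Mx.adjugate i j • (∑ k, Mx j k • s k) := by
            refine Finset.sum_congr rfl (fun j _ => ?_)
            rw [Finset.smul_sum]
            refine Finset.sum_congr rfl (fun k _ => ?_)
            rw [mul_smul]
    rw [h2]
    refine Submodule.sum_mem _ (fun j _ => Submodule.smul_mem _ _ ?_)
    rw [hrow j]
    exact Submodule.smul_mem _ _ (hν j)
  have hdetP : Mx.det ∉ P := by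
    intro hmem
    have h4 : (Ideal.Quotient.mk P) Mx.det = 0 := Ideal.Quotient.eq_zero_iff_mem.mpr hmem
    rw [RingHom.map_det] at h4
    have h5 : (Ideal.Quotient.mk P).mapMatrix Mx =
        (Ideal.Quotient.mk P C) • (1 : Matrix (Fin m) (Fin m) (R ⧸ P)) := by
      ext j k
      show Ideal.Quotient.mk P (Mx j k) = _
      simp only [Mx, map_sub, map_mul,
        Ideal.Quotient.eq_zero_iff_mem.mpr hy, zero_mul, sub_zero, Matrix.smul_apply,
        Matrix.one_apply, smul_eq_mul]
      split_ifs <;> simp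
    rw [h5, Matrix.det_smul, Matrix.det_one, mul_one] at h4
    exact hC (Ideal.Quotient.eq_zero_iff_mem.mp (IsNilpotent.eq_zero ⟨_, h4⟩))
  intro α
  refine ⟨Mx.det, hdetP, ?_⟩
  obtain ⟨e, he⟩ := (Submodule.mem_span_range_iff_exists_fun R).mp
    (hs ▸ (Submodule.mem_top : α ∈ ⊤))
  rw [← he, Finset.smul_sum]
  refine Submodule.sum_mem _ (fun k _ => ?_)
  rw [smul_comm]
  exact Submodule.smul_mem _ _ (hdet k)

end Groth.Agent.Lib.Helper27.InvU
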