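import Mathlib
import Groth.Agent.Lib.Helper27.InvU1

set_option autoImplicit false

namespace Groth.Agent.Lib.Helper27.InvU

open Pointwise

section Key

variable {R A D : Type*} [CommRing R] [CommRing A] [IsDomain A] [Algebra R A] [FaithfulSMul R A]
  [Module.Finite R A] [Group D] [Finite D] [MulSemiringAction D A] [IsGaloisGroup D R A]
  (p : Ideal A) [p.IsPrime] (a : A) (hp : p = Ideal.span {a})
  (hres : ∀ α : A, ∃ b c : R, algebraMap R A c ∉ p ∧
    algebraMap R A c * α - algebraMap R A b ∈ p)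

include hp hres in
theorem exists_smul_eq_add_pow_mul (k : ℕ) (α : A) :
    ∃ c : R, algebraMap R A c ∉ p ∧
      ∃ ν ∈ Submodule.span R (Set.range fun i : Fin k => a ^ (i : ℕ)),
        ∃ β : A, c • α = ν + a ^ k * β := by
  induction k with
  | zero =>
    refine ⟨1, ?_, 0, Submodule.zero_mem _, α, by simp⟩
    rw [map_one]
    exact fun h => ‹p.IsPrime›.ne_top ((Ideal.eq_top_iff_one _).mpr h)
  | succ k ih =>
    obtain ⟨c, hc, ν, hν, β, hβ⟩ := ih
    obtain ⟨b', c', hc', hb'⟩ := hres β
    rw [hp, Ideal.mem_span_singleton'] at hb'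
    obtain ⟨γ, hγ⟩ := hb'
    refine ⟨c' * c, ?_, c' • ν + b' • a ^ k, ?_, γ, ?_⟩
    · rw [map_mul]
      exact fun h => (‹p.IsPrime›.mem_or_mem h).elim hc' hc
    · refine Submodule.add_mem _ (Submodule.smul_mem _ _ ?_) (Submodule.smul_mem _ _ ?_)
      · refine Submodule.span_mono ?_ hν
        rintro _ ⟨i, rfl⟩
        exact ⟨i.castSucc, rfl⟩
      · exact Submodule.subset_span ⟨Fin.last k, rfl⟩
    · rw [mul_smul, hβ, smul_add, Algebra.smul_def c', Algebra.smul_def c', Algebra.smul_def b']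
      have : algebraMap R A c' * β = γ * a + algebraMap R A b' := by rw [hγ]; ring
      rw [mul_left_comm, this]
      ring

include hp hres in
theorem card_le_of_eq_pow_mul (hD : ∀ g : D, g • p = p) (y : R) (n : ℕ) (u : A)
    (hY : algebraMap R A y = a ^ n * u) (hu : u ∉ p) (hyp : algebraMap R A y ∈ p) :
    Nat.card D ≤ n := by
  classical
  haveI : Fintype D := Fintype.ofFinite D
  haveI : IsDomain R := (FaithfulSMul.algebraMap_injective R A).isDomain
  let P : Ideal R := p.comap (algebraMap R A)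
  have hyP : y ∈ P := hyp
  let N : Submodule R A := Submodule.span R (Set.range fun i : Fin n => a ^ (i : ℕ))
  -- the norm of `u`
  let Nu : A := ∏ g : D, g • u
  have hNuinv : ∀ g : D, g • Nu = Nu := by
    intro g
    simp only [Nu, Finset.smul_prod', smul_smul]
    exact Fintype.prod_equiv (Equiv.mulLeft g) _ _ (fun h => rfl)
  obtain ⟨cu, hcu⟩ := Algebra.IsInvariant.isInvariant (A := R) (G := D) Nu hNuinv
  have hNup : Nu ∉ p := by
    intro hmem
    obtain ⟨g, -, hg⟩ := Ideal.IsPrime.prod_mem_iff.mp hmem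
    have := (Ideal.smul_mem_pointwise_smul_iff (a := g⁻¹)).mpr hg
    rw [hD, inv_smul_smul] at this
    exact hu this
  obtain ⟨w, hw⟩ : u ∣ Nu := by
    have := Finset.dvd_prod_of_mem (fun g : D => g • u) (Finset.mem_univ (1 : D))
    simpa using this
  have key : ∀ α : A, ∃ c : R, c ∉ P ∧ ∃ ν ∈ N, ∃ β : A, c • α = ν + y • β := by
    intro α
    obtain ⟨c₁, hc₁, ν, hν, β, hβ⟩ := exists_smul_eq_add_pow_mul p a hp hres n α
    refine ⟨cu * c₁, ?_, cu • ν, Submodule.smul_mem _ _ hν, w * β, ?_⟩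
    · show algebraMap R A (cu * c₁) ∉ p
      rw [map_mul, hcu]
      exact fun h => (‹p.IsPrime›.mem_or_mem h).elim hNup hc₁
    · rw [mul_smul, hβ, smul_add, Algebra.smul_def cu (a ^ n * β), hcu, hw, Algebra.smul_def y,
        hY]
      ring
  have h2 := exists_smul_mem_of_forall_exists_smul_mem_sup P y hyP N key
  have hrank0 : Module.rank R (A ⧸ N) = 0 := by
    rw [rank_eq_zero_iff]
    intro x
    obtain ⟨α, rfl⟩ := Submodule.Quotient.mk_surjective N x
    obtain ⟨r, hr, hrα⟩ := h2 α
    refine ⟨r, fun h0 => hr (h0 ▸ P.zero_mem), ?_⟩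
    rw [← Submodule.Quotient.mk_smul, Submodule.Quotient.mk_eq_zero]
    exact hrα
  have hrank := rank_quotient_add_rank_of_isDomain N
  rw [hrank0, zero_add] at hrank
  have hNle : Module.rank R N ≤ (n : Cardinal) := by
    refine (rank_span_le _).trans ?_
    simpa using Cardinal.mk_range_le_lift (f := fun i : Fin n => a ^ (i : ℕ))
  rw [hrank] at hNle
  rw [IsGaloisGroup.card_eq_finrank' D R A]
  exact Module.finrank_le_of_rank_le hNle

end Key

end Groth.Agent.Lib.Helper27.InvU
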