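import Mathlib
import Groth.Agent.Lib.Helper27.InvU2

set_option autoImplicit false

namespace Groth.Agent.Lib.Helper27.InvU

open Pointwise

universe u

section Main

variable {A B G : Type u} [CommRing A] [IsDomain A]
    [UniqueFactorizationMonoid A]
    [CommRing B] [Algebra B A] [FaithfulSMul B A]
    [Group G] [Finite G] [MulSemiringAction G A] [SMulCommClass G B A]
    [Algebra.IsInvariant B A G]

/-- the norm of an element lies in `B`. -/
theorem exists_algebraMap_eq_prod_smul [Fintype G] (a : A) :
    ∃ b : B, algebraMap B A b = ∏ g : G, g • a := by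
  apply Algebra.IsInvariant.isInvariant (A := B) (G := G)
  intro g
  simp only [Finset.smul_prod', smul_smul]
  exact Fintype.prod_equiv (Equiv.mulLeft g) _ _ (fun h => rfl)

variable (q : Ideal B) [q.IsPrime] (hq : q.height = 1) (p : Ideal A) [p.IsPrime] [p.LiesOver q]

include hq G in
theorem exists_prime_span_eq : ∃ a : A, Prime a ∧ p = Ideal.span {a} := by
  classical
  haveI : Fintype G := Fintype.ofFinite G
  haveI : IsDomain B := (FaithfulSMul.algebraMap_injective B A).isDomain
  haveI : Algebra.IsIntegral B A := Algebra.IsInvariant.isIntegral B A G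
  have hqbot : q ≠ ⊥ := Ideal.ne_bot_of_height_eq_one hq
  have hpbot : p ≠ ⊥ := by
    intro h
    apply hqbot
    rw [Ideal.LiesOver.over (P := p) (p := q), h, Ideal.under_def]
    exact Ideal.comap_bot_of_injective _ (FaithfulSMul.algebraMap_injective B A)
  obtain ⟨a, hap, ha⟩ := Ideal.IsPrime.exists_mem_prime_of_ne_bot ‹p.IsPrime› hpbot
  refine ⟨a, ha, ?_⟩
  haveI hp₀ : (Ideal.span {a}).IsPrime := (Ideal.span_singleton_prime ha.ne_zero).mpr ha
  have hle : Ideal.span {a} ≤ p := (Ideal.span_singleton_le_iff_mem _).mpr hap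
  by_contra hne
  have hlt : Ideal.span {a} < p := lt_of_le_of_ne hle (Ne.symm hne)
  have h1 := Ideal.IsIntegral.comap_lt_comap (R := B) hlt
  rw [← Ideal.under_def, ← Ideal.under_def, ← Ideal.LiesOver.over (P := p) (p := q)] at h1
  haveI : ((Ideal.span {a}).under B).IsPrime := Ideal.IsPrime.under B _
  haveI : ((Ideal.span {a}).under B).FiniteHeight := by
    rw [Ideal.finiteHeight_iff_lt]
    right
    exact lt_of_le_of_lt (Ideal.height_mono h1.le) (by rw [hq]; exact ENat.one_lt_top)
  have h2 := Ideal.height_strict_mono_of_isPrime h1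
  rw [hq, Order.lt_one_iff, Ideal.height_eq_zero_iff_eq_bot] at h2
  obtain ⟨b, hb⟩ := exists_algebraMap_eq_prod_smul (B := B) (G := G) a
  have hbmem : b ∈ (Ideal.span {a}).under B := by
    rw [Ideal.under_def, Ideal.mem_comap, hb, Ideal.mem_span_singleton]
    have := Finset.dvd_prod_of_mem (fun g : G => g • a) (Finset.mem_univ (1 : G))
    simpa using this
  rw [h2, Ideal.mem_bot] at hbmem
  rw [hbmem, map_zero] at hb
  obtain ⟨g, -, hg⟩ := Finset.prod_eq_zero_iff.mp hb.symm
  exact ha.ne_zero ((smul_eq_zero_iff_eq g).mp hg)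

include G in
theorem pow_card_stabilizer_dvd [Module.Finite B A] [FaithfulSMul G A] (a : A) (ha : Prime a)
    (hp : p = Ideal.span {a})
    (hres : ∀ a : A, ∃ b c : B, c ∉ q ∧ algebraMap B A c * a - algebraMap B A b ∈ p)
    (x : B) (hx : x ∈ q) :
    a ^ Nat.card (MulAction.stabilizer G p) ∣ algebraMap B A x := by
  classical
  by_cases hx0 : x = 0
  · rw [hx0, map_zero]; exact dvd_zero _
  let D := MulAction.stabilizer G p
  let R' := FixedPoints.subalgebra B A D
  haveI : FaithfulSMul R' A := (faithfulSMul_iff_algebraMap_injective R' A).mpr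
    Subtype.val_injective
  haveI : Module.Finite R' A := Module.Finite.of_restrictScalars_finite B R' A
  haveI : FaithfulSMul D A := ⟨fun {g h} hgh => Subtype.ext (FaithfulSMul.eq_of_smul_eq_smul hgh)⟩
  haveI : IsGaloisGroup D R' A :=
    { faithful := inferInstance
      commutes := inferInstance
      isInvariant := ⟨fun b hb => ⟨⟨b, hb⟩, rfl⟩⟩ }
  have hX0 : algebraMap B A x ≠ 0 := fun h =>
    hx0 (FaithfulSMul.algebraMap_injective B A (by rw [h, map_zero]))
  obtain ⟨n, u, hu, hXu⟩ := WfDvdMonoid.max_power_factor hX0 ha.irreducible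
  have hup : u ∉ p := by rw [hp, Ideal.mem_span_singleton]; exact hu
  have hD : ∀ g : D, g • p = p := fun g => g.2
  have hres' : ∀ α : A, ∃ b c : R', algebraMap R' A c ∉ p ∧
      algebraMap R' A c * α - algebraMap R' A b ∈ p := by
    intro α
    obtain ⟨b, c, hc, hbc⟩ := hres α
    refine ⟨algebraMap B R' b, algebraMap B R' c, ?_, hbc⟩
    intro hmem
    exact hc ((Ideal.mem_of_liesOver p q c).mpr hmem)
  have hXp : algebraMap B A x ∈ p := (Ideal.mem_of_liesOver p q x).mp hx
  have := card_le_of_eq_pow_mul (R := R') (D := D) p a hp hres' hD (algebraMap B R' x) n u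
    hXu hup hXp
  rw [hXu]
  exact Dvd.dvd.mul_right (pow_dvd_pow a this) u

end Main

end Groth.Agent.Lib.Helper27.InvU
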