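import Mathlib
import Groth.Agent.Lib.Helper27.InvU3

set_option autoImplicit false

namespace Groth.Agent.Lib.Helper27.InvU

open Pointwise

universe u

theorem smul_span_singleton {A G : Type*} [CommRing A] [Group G] [MulSemiringAction G A] (g : G)
    (a : A) : g • Ideal.span {a} = Ideal.span {g • a} := by
  rw [Ideal.pointwise_smul_def, Ideal.map_span, Set.image_singleton]
  rfl

theorem prod_smul_dvd {A G : Type*} [CommRing A] [IsDomain A] [UniqueFactorizationMonoid A]
    [Group G] [Fintype G] [MulSemiringAction G A] (a : A) (ha : Prime a) (X : A)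
    (h : ∀ g : G, (g • a) ^ Nat.card (MulAction.stabilizer G (Ideal.span {a})) ∣ X) :
    ∏ g : G, g • a ∣ X := by
  classical
  set D := MulAction.stabilizer G (Ideal.span {a}) with hDdef
  have hprime : ∀ g : G, Prime (g • a) := fun g =>
    (MulEquiv.prime_iff (MulSemiringAction.toRingEquiv G A g)).mpr ha
  have hne : ∏ g : G, g • a ≠ 0 := Finset.prod_ne_zero_iff.mpr (fun g _ => (hprime g).ne_zero)
  rw [UniqueFactorizationMonoid.dvd_iff_emultiplicity_le hne]
  intro π hπ
  rw [Finset.emultiplicity_prod hπ]
  by_cases hex : ∃ g₀ : G, π ∣ g₀ • a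
  · obtain ⟨g₀, hg₀⟩ := hex
    have hass : Associated π (g₀ • a) :=
      hπ.irreducible.associated_of_dvd (hprime g₀).irreducible hg₀
    have hterm : ∀ g : G, emultiplicity π (g • a) ≤ if g₀⁻¹ * g ∈ D then 1 else 0 := by
      intro g
      by_cases hdvd : π ∣ g • a
      · have hass2 : Associated (g₀ • a) (g • a) :=
          hass.symm.trans (hπ.irreducible.associated_of_dvd (hprime g).irreducible hdvd)
        have hmem : g₀⁻¹ * g ∈ D := by
          rw [hDdef, MulAction.mem_stabilizer_iff, mul_smul, smul_span_singleton,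
            smul_span_singleton, Ideal.span_singleton_eq_span_singleton]
          have := (MulSemiringAction.toRingEquiv G A g₀⁻¹).toMulEquiv
          have h3 : Associated (g₀⁻¹ • g₀ • a) (g₀⁻¹ • g • a) :=
            hass2.map (MulSemiringAction.toRingEquiv G A g₀⁻¹).toMulEquiv.toMonoidHom
          rw [inv_smul_smul] at h3
          exact h3.symm
        rw [if_pos hmem]
        have hlt : emultiplicity π (g • a) < ((2 : ℕ) : ℕ∞) := by
          rw [emultiplicity_lt_iff_not_dvd]
          rintro ⟨c, hc⟩
          rw [pow_two, mul_assoc] at hc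
          rcases (hprime g).irreducible.isUnit_or_isUnit hc with h1 | h1
          · exact hπ.not_isUnit h1
          · exact hπ.not_isUnit (isUnit_of_mul_isUnit_left h1)
        exact Order.le_of_lt_add_one (by exact_mod_cast hlt)
      · rw [emultiplicity_eq_zero.mpr hdvd]
        exact zero_le
    refine (Finset.sum_le_sum (fun g _ => hterm g)).trans ?_
    rw [Finset.sum_boole]
    have hcard : (Finset.univ.filter (fun g : G => g₀⁻¹ * g ∈ D)).card = Nat.card D := by
      rw [Nat.card_eq_fintype_card, ← Fintype.card_subtype]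
      exact Fintype.card_congr (Equiv.subtypeEquiv (Equiv.mulLeft g₀⁻¹) (fun g => by simp))
    rw [hcard, emultiplicity_eq_of_associated_left hass.symm]
    exact le_emultiplicity_of_pow_dvd (h g₀)
  · push Not at hex
    rw [Finset.sum_eq_zero (fun g _ => emultiplicity_eq_zero.mpr (hex g))]
    exact zero_le

section Main

variable {A B G : Type u} [CommRing A] [IsDomain A]
    [UniqueFactorizationMonoid A]
    [CommRing B] [Algebra B A] [FaithfulSMul B A] [Module.Finite B A]
    [Group G] [Finite G] [MulSemiringAction G A] [FaithfulSMul G A] [SMulCommClass G B A]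
    [Algebra.IsInvariant B A G]
    (q : Ideal B) [q.IsPrime] (hq : q.height = 1) (p : Ideal A) [p.IsPrime] [p.LiesOver q]
    (hres : ∀ a : A, ∃ b c : B, c ∉ q ∧ algebraMap B A c * a - algebraMap B A b ∈ p)

include G hq p hres in
theorem exists_span_singleton_eq : ∃ b₀ : B, b₀ ≠ 0 ∧ q = Ideal.span {b₀} := by
  classical
  haveI : Fintype G := Fintype.ofFinite G
  obtain ⟨a, ha, hp⟩ := exists_prime_span_eq (G := G) q hq p
  have hprime : ∀ g : G, Prime (g • a) := fun g =>
    (MulEquiv.prime_iff (MulSemiringAction.toRingEquiv G A g)).mpr ha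
  have F1 : ∀ x ∈ q, a ^ Nat.card (MulAction.stabilizer G p) ∣ algebraMap B A x :=
    fun x hx => pow_card_stabilizer_dvd (G := G) q p a ha hp hres x hx
  have F2 : ∀ x ∈ q, ∀ g : G,
      (g • a) ^ Nat.card (MulAction.stabilizer G (Ideal.span {a})) ∣ algebraMap B A x := by
    intro x hx g
    have h1 := map_dvd (MulSemiringAction.toRingHom G A g) (F1 x hx)
    rw [map_pow] at h1
    simp only [MulSemiringAction.toRingHom_apply, smul_algebraMap] at h1
    rw [← hp]
    exact h1
  obtain ⟨b₀, hb₀⟩ := exists_algebraMap_eq_prod_smul (B := B) (G := G) a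
  have hNne : ∏ g : G, g • a ≠ 0 := Finset.prod_ne_zero_iff.mpr (fun g _ => (hprime g).ne_zero)
  have hb₀ne : b₀ ≠ 0 := by
    intro h0
    rw [h0, map_zero] at hb₀
    exact hNne hb₀.symm
  refine ⟨b₀, hb₀ne, le_antisymm ?_ ?_⟩
  · intro x hx
    obtain ⟨t, ht⟩ := prod_smul_dvd a ha (algebraMap B A x) (F2 x hx)
    have htinv : ∀ g : G, g • t = t := by
      intro g
      have h1 := congrArg (fun z => g • z) ht
      simp only [smul_algebraMap, smul_mul'] at h1
      have h2 : g • ∏ h : G, h • a = ∏ h : G, h • a := by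
        rw [← hb₀, smul_algebraMap]
      rw [h2, ht] at h1
      exact (mul_left_cancel₀ hNne h1).symm
    obtain ⟨t', ht'⟩ := Algebra.IsInvariant.isInvariant (A := B) (G := G) t htinv
    rw [Ideal.mem_span_singleton]
    refine ⟨t', FaithfulSMul.algebraMap_injective B A ?_⟩
    rw [map_mul, ht', hb₀, ht]
  · rw [Ideal.span_singleton_le_iff_mem, Ideal.mem_of_liesOver p q, hb₀, hp,
      Ideal.mem_span_singleton]
    have := Finset.dvd_prod_of_mem (fun g : G => g • a) (Finset.mem_univ (1 : G))
    simpa using this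

end Main

end Groth.Agent.Lib.Helper27.InvU
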