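import Mathlib

set_option autoImplicit false

namespace Groth.Agent.Lib.Helper27.InvU

open IsLocalRing

theorem isRegularLocalRing_of_quotient_span_singleton {B : Type*} [CommRing B] [IsDomain B]
    [IsLocalRing B] [IsNoetherianRing B] (b₀ : B) (hb₀ : b₀ ≠ 0)
    (h : IsRegularLocalRing (B ⧸ Ideal.span {b₀})) : IsRegularLocalRing B := by
  classical
  set I : Ideal B := Ideal.span {b₀} with hI
  haveI : Nontrivial (B ⧸ I) := h.toIsLocalRing.toNontrivial
  have hItop : I ≠ ⊤ := Ideal.Quotient.nontrivial_iff.mp ‹_›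
  haveI : IsLocalHom (Ideal.Quotient.mk I) :=
    IsLocalHom.of_surjective (Ideal.Quotient.mk I) Ideal.Quotient.mk_surjective
  have hcomap : (maximalIdeal (B ⧸ I)).comap (Ideal.Quotient.mk I) = maximalIdeal B :=
    maximalIdeal_comap _
  apply IsRegularLocalRing.of_spanFinrank_maximalIdeal_le
  obtain ⟨T, hTcard, hTspan⟩ :=
    Submodule.FG.exists_span_finset_card_eq_spanFinrank
      (IsNoetherian.noetherian (maximalIdeal (B ⧸ I)))
  let σ : B ⧸ I → B := Function.surjInv Ideal.Quotient.mk_surjective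
  have hσ : ∀ t, Ideal.Quotient.mk I (σ t) = t := Function.surjInv_eq _
  let T' : Finset B := insert b₀ (T.image σ)
  have hT' : Ideal.span (T' : Set B) = maximalIdeal B := by
    rw [← hcomap, ← hTspan]
    have h1 : Ideal.span ((T : Set (B ⧸ I))) =
        (Ideal.span ((T.image σ : Finset B) : Set B)).map (Ideal.Quotient.mk I) := by
      rw [Ideal.map_span, Finset.coe_image, ← Set.image_comp]
      congr 1
      ext x
      simp [hσ]
    show Ideal.span (T' : Set B) = (Ideal.span (T : Set (B ⧸ I))).comap (Ideal.Quotient.mk I)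
    rw [h1, Ideal.comap_map_of_surjective _ Ideal.Quotient.mk_surjective,
      ← RingHom.ker_eq_comap_bot, Ideal.mk_ker]
    show _ = _ ⊔ Ideal.span ({b₀} : Set B)
    rw [← Ideal.span_union, Finset.coe_insert, Set.union_comm, Set.singleton_union]
  have h2 : (maximalIdeal B).spanFinrank ≤ T'.card := by
    rw [← hT']
    have := Submodule.spanFinrank_span_le_ncard_of_finite (R := B) (T'.finite_toSet)
    rwa [Set.ncard_coe_finset] at this
  have h3 : T'.card ≤ (maximalIdeal (B ⧸ I)).spanFinrank + 1 := by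
    rw [← hTcard]
    exact (Finset.card_insert_le _ _).trans (Nat.add_le_add_right Finset.card_image_le 1)
  have h4 := ringKrullDim_quotient_succ_le_of_nonZeroDivisor
    (mem_nonZeroDivisors_of_ne_zero hb₀)
  have h5 : ((maximalIdeal (B ⧸ I)).spanFinrank : WithBot ℕ∞) = ringKrullDim (B ⧸ I) :=
    h.spanFinrank_maximalIdeal
  calc ((maximalIdeal B).spanFinrank : WithBot ℕ∞)
      ≤ ((maximalIdeal (B ⧸ I)).spanFinrank + 1 : ℕ) := by exact_mod_cast h2.trans h3
    _ = ringKrullDim (B ⧸ I) + 1 := by rw [← h5]; push_cast; rfl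
    _ ≤ ringKrullDim B := h4

end Groth.Agent.Lib.Helper27.InvU
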