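import Mathlib
import Groth.Agent.Lib.Helper27.InvU4
import Groth.Agent.Lib.Helper27.InvU5
import Groth.Agent.Lib.Helper27.EN1

set_option autoImplicit false

namespace Groth.Agent.Lib.Helper27.InvU

open IsLocalRing

universe u

theorem isLocalRing_of_isIntegral (B A : Type*) [CommRing B] [CommRing A] [IsLocalRing A]
    [Algebra B A] [Algebra.IsIntegral B A] (hinj : Function.Injective (algebraMap B A)) :
    IsLocalRing B := by
  haveI : Nontrivial B := (algebraMap B A).domain_nontrivial
  have key : ∀ b : B, b ∈ nonunits B → algebraMap B A b ∈ maximalIdeal A := by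
    intro b hb
    obtain ⟨m, hm, hbm⟩ := exists_max_ideal_of_mem_nonunits hb
    obtain ⟨Q, hQ, hQm⟩ := Ideal.exists_ideal_over_maximal_of_isIntegral m (by
      rw [(RingHom.injective_iff_ker_eq_bot _).mp hinj]; exact bot_le)
    have : algebraMap B A b ∈ Q := by rw [← hQm] at hbm; exact hbm
    exact IsLocalRing.le_maximalIdeal hQ.ne_top this
  apply IsLocalRing.of_nonunits_add
  intro a b ha hb hab
  have := (maximalIdeal A).add_mem (key a ha) (key b hb)
  rw [← map_add] at this
  exact this (hab.map (algebraMap B A))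

theorem main {A B G : Type u} [CommRing A] [IsDomain A] [IsNoetherianRing A] [IsLocalRing A]
    [UniqueFactorizationMonoid A]
    [CommRing B] [Algebra B A] [FaithfulSMul B A] [Module.Finite B A]
    [Group G] [Finite G] [MulSemiringAction G A] [FaithfulSMul G A] [SMulCommClass G B A]
    [Algebra.IsInvariant B A G]
    (q : Ideal B) [q.IsPrime] (hq : q.height = 1) (p : Ideal A) [p.IsPrime] [p.LiesOver q]
    (hres : ∀ a : A, ∃ b c : B, c ∉ q ∧ algebraMap B A c * a - algebraMap B A b ∈ p) :
    Submodule.IsPrincipal q ∧ (IsRegularLocalRing (B ⧸ q) → IsRegularLocalRing B) := by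
  obtain ⟨b₀, hb₀ne, hq_eq⟩ := exists_span_singleton_eq (G := G) q hq p hres
  refine ⟨⟨⟨b₀, hq_eq⟩⟩, fun hreg => ?_⟩
  have hinj := FaithfulSMul.algebraMap_injective B A
  haveI : IsDomain B := hinj.isDomain
  haveI : Algebra.IsIntegral B A := Algebra.IsInvariant.isIntegral B A G
  haveI : IsNoetherianRing B := EN.isNoetherianRing_of_finite_of_injective B A hinj
  haveI : IsLocalRing B := isLocalRing_of_isIntegral B A hinj
  subst hq_eq
  exact isRegularLocalRing_of_quotient_span_singleton b₀ hb₀ne hreg

end Groth.Agent.Lib.Helper27.InvU
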