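import Mathlib
import Groth.Prelude.Def_EtRam
import Groth.Agent.Lib.Helper27.ASR8

/-! Kummer-type polynomial `P` with `w^p P(t) = (1 + w t)^p - 1`: algebraic facts. -/

set_option autoImplicit false

namespace Groth.Agent.Lib.Helper27.KR
open IsLocalRing Polynomial IntermediateField
open Groth.Agent.Lib.Helper27.ASR

universe u

section Fld

theorem prod_X_add_natCast {F : Type*} [Field F] (p : ℕ) [hp : Fact p.Prime] [CharP F p] :
    ∏ i ∈ Finset.range p, (X + C ((i : ℕ) : F)) = X ^ p - X := by
  have hr : (1 : F) ^ p - 1 = 0 := by rw [one_pow, sub_self]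
  have hroots := as_roots p hr
  have hsplit := as_splits p hr
  have hmon := as_monic p (0 : F)
  have e := hsplit.eq_prod_roots_of_monic hmon
  rw [hroots, Multiset.map_map] at e
  rw [← Finset.prod_range_reflect]
  have h2 : ∀ j ∈ Finset.range p, (X + C (((p - 1 - j : ℕ)) : F)) = X - C (1 + (j : F)) := by
    intro j hj
    rw [Finset.mem_range] at hj
    have h4 : ((p - 1 - j : ℕ) : F) = -(1 + (j : F)) := by
      have h3 : ((p - 1 - j : ℕ) : F) + (1 + (j : F)) = 0 := by
        have h5 : p - 1 - j + (1 + j) = p := by omega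
        have h6 : (((p - 1 - j + (1 + j) : ℕ)) : F) = 0 := by rw [h5, CharP.cast_eq_zero]
        rw [← h6]
        push_cast
        ring
      exact eq_neg_of_add_eq_zero_left h3
    rw [h4, C_neg, sub_eq_add_neg]
  rw [Finset.prod_congr rfl h2]
  have e' : (X ^ p - X : F[X]) = X ^ p - X - C 0 := by rw [C_0, sub_zero]
  rw [e', e]
  rfl

theorem subst_formula {L : Type*} [Field L] (W : L) (hW : W ≠ 0) (p : ℕ) (F : L → L)
    (hF : ∀ x, W ^ p * F x = (1 + W * x) ^ p - 1) (x c : L) (hc : 1 + W * c ≠ 0) :
    F ((x - c) / (1 + W * c)) * (1 + W ^ p * F c) = F x - F c := by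
  have hy := hF ((x - c) / (1 + W * c))
  have hx := hF x
  have hcc := hF c
  apply mul_left_cancel₀ (pow_ne_zero p hW)
  have h1 : 1 + W * ((x - c) / (1 + W * c)) = (1 + W * x) / (1 + W * c) := by
    field_simp
    ring
  rw [h1, div_pow] at hy
  have h2 : 1 + W ^ p * F c = (1 + W * c) ^ p := by
    rw [hcc]
    ring
  rw [h2, mul_sub, hx, hcc, ← mul_assoc, hy]
  field_simp
  ring

theorem adjoin_affine {K L : Type*} [Field K] [Field L] [Algebra K L] (z : L) (α β : K)
    (hα : α ≠ 0) (hgen : K⟮z⟯ = ⊤) : K⟮algebraMap K L α * z + algebraMap K L β⟯ = ⊤ := by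
  rw [eq_top_iff, ← hgen, IntermediateField.adjoin_simple_le_iff]
  have hα' : algebraMap K L α ≠ 0 := (_root_.map_ne_zero _).mpr hα
  have h2 : (algebraMap K L α)⁻¹ * ((algebraMap K L α * z + algebraMap K L β)
      - algebraMap K L β) ∈ K⟮algebraMap K L α * z + algebraMap K L β⟯ :=
    mul_mem (inv_mem (IntermediateField.algebraMap_mem _ _))
      (sub_mem (IntermediateField.mem_adjoin_simple_self K _)
        (IntermediateField.algebraMap_mem _ _))
  have e : (algebraMap K L α)⁻¹ * ((algebraMap K L α * z + algebraMap K L β)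
      - algebraMap K L β) = z := by
    rw [add_sub_cancel_right, inv_mul_cancel_left₀ hα']
  rwa [e] at h2

section Gen
variable {K L : Type*} [Field K] [Field L] [Algebra K L] {p : ℕ} (f : K[X]) (hf : f.Monic)
  (hdeg : f.natDegree = p) (z : L) (hroot : aeval z f = 0) (hgen : K⟮z⟯ = ⊤)
include hf hroot hgen

theorem gen_finite : Module.Finite K L := by
  have hint : IsIntegral K z := ⟨f, hf, hroot⟩
  haveI h3 : FiniteDimensional K K⟮z⟯ := adjoin.finiteDimensional hint
  have h4 : FiniteDimensional K (⊤ : IntermediateField K L) := hgen ▸ h3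
  exact (topEquiv : (⊤ : IntermediateField K L) ≃ₐ[K] L).toLinearEquiv.finiteDimensional

include hdeg in
theorem gen_finrank_le : Module.finrank K L ≤ p := by
  have hint : IsIntegral K z := ⟨f, hf, hroot⟩
  rw [← IntermediateField.finrank_top', ← hgen, adjoin.finrank hint]
  have h1 := natDegree_le_of_dvd (minpoly.dvd K z hroot) hf.ne_zero
  rwa [hdeg] at h1

end Gen

section Kummer
variable {K L : Type*} [Field K] [Field L] [Algebra K L] {p : ℕ} (hp : p.Prime) {ζK : K}
  (hζK : IsPrimitiveRoot ζK p) (y : L) (c : K) (hy : y ^ p = algebraMap K L c)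
  (hgen : K⟮y⟯ = ⊤)
include hp hζK hy hgen

theorem kummer_finrank : Module.finrank K L = 1 ∨ Module.finrank K L = p := by
  by_cases hb : ∃ b : K, b ^ p = c
  · left
    obtain ⟨b, rfl⟩ := hb
    have hyK : y ∈ (⊥ : IntermediateField K L) := by
      by_cases hb0 : b = 0
      · subst hb0
        rw [zero_pow hp.ne_zero, map_zero] at hy
        rw [(pow_eq_zero_iff hp.ne_zero).mp hy]
        exact zero_mem _
      · have hb' : algebraMap K L b ≠ 0 := (_root_.map_ne_zero _).mpr hb0
        have h1 : (y / algebraMap K L b) ^ p = 1 := by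
          rw [div_pow, hy, map_pow, div_self (pow_ne_zero _ hb')]
        haveI : NeZero p := ⟨hp.ne_zero⟩
        obtain ⟨i, -, hi⟩ :=
          (hζK.map_of_injective (algebraMap K L).injective).eq_pow_of_pow_eq_one h1
        rw [IntermediateField.mem_bot]
        refine ⟨ζK ^ i * b, ?_⟩
        rw [map_mul, map_pow, hi, div_mul_cancel₀ _ hb']
    rw [← bot_eq_top_iff_finrank_eq_one, ← hgen]
    exact (adjoin_simple_eq_bot_iff.mpr hyK).symm
  · right
    push Not at hb
    have hirr := X_pow_sub_C_irreducible_of_prime hp hb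
    have hroot : aeval y (X ^ p - C c : K[X]) = 0 := by simp [hy]
    have hmon : (X ^ p - C c : K[X]).Monic := monic_X_pow_sub_C c hp.ne_zero
    have hint : IsIntegral K y := ⟨_, hmon, hroot⟩
    rw [← IntermediateField.finrank_top', ← hgen, adjoin.finrank hint,
      ← minpoly.eq_of_irreducible_of_monic hirr hroot hmon, natDegree_X_pow_sub_C]

theorem kummer_isGalois [CharZero K] : IsGalois K L := by
  by_cases hc0 : c = 0
  · subst hc0
    rw [map_zero] at hy
    have hy0 : y = 0 := (pow_eq_zero_iff hp.ne_zero).mp hy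
    have hbt : (⊥ : IntermediateField K L) = ⊤ := by
      rw [← hgen]
      exact (adjoin_simple_eq_bot_iff.mpr (by rw [hy0]; exact zero_mem _)).symm
    have h1 : IsGalois K (⊥ : IntermediateField K L) := inferInstance
    rw [hbt] at h1
    exact IsGalois.of_algEquiv (topEquiv : (⊤ : IntermediateField K L) ≃ₐ[K] L)
  · have hroot : aeval y (X ^ p - C c : K[X]) = 0 := by simp [hy]
    have hmon : (X ^ p - C c : K[X]).Monic := monic_X_pow_sub_C c hp.ne_zero
    have hint : IsIntegral K y := ⟨_, hmon, hroot⟩
    haveI : (X ^ p - C c : K[X]).IsSplittingField K L := by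
      refine ⟨?_, ?_⟩
      · have hmap : (X ^ p - C c : K[X]).map (algebraMap K L)
            = X ^ p - C (algebraMap K L c) := by simp
        rw [hmap]
        exact X_pow_sub_C_splits_of_isPrimitiveRoot
          (hζK.map_of_injective (algebraMap K L).injective) hy
      · rw [eq_top_iff]
        have h1 : Algebra.adjoin K {y} = ⊤ := by
          rw [← adjoin_simple_toSubalgebra_of_isAlgebraic hint.isAlgebraic, hgen]
          rfl
        rw [← h1]
        apply Algebra.adjoin_mono
        rw [Set.singleton_subset_iff, mem_rootSet]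
        exact ⟨hmon.ne_zero, hroot⟩
    exact IsGalois.of_separable_splitting_field
      (separable_X_pow_sub_C c (by exact_mod_cast hp.ne_zero) hc0)

end Kummer

end Fld

end Groth.Agent.Lib.Helper27.KR
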