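import Mathlib
import Groth.Prelude.Def_EtRam
import Groth.Agent.Lib.Helper27.KR1

/-! Kummer-type polynomial `P`: product formula, reduction, coefficients. -/

set_option autoImplicit false

namespace Groth.Agent.Lib.Helper27.KR
open IsLocalRing Polynomial IntermediateField
open Groth.Agent.Lib.Helper27.ASR

universe u

section Prim
variable {A : Type*} [CommRing A] [IsDomain A] {p : ℕ}

theorem primitive_of_cyclotomic (hp : p.Prime) [CharZero A] {ζ : A}
    (hζ : aeval ζ (cyclotomic p ℤ) = 0) : IsPrimitiveRoot ζ p := by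
  haveI : NeZero ((p : ℕ) : A) := ⟨by exact_mod_cast hp.ne_zero⟩
  rw [← isRoot_cyclotomic_iff, IsRoot.def, ← map_cyclotomic_int, eval_map, ← algebraMap_int_eq,
    ← aeval_def]
  exact hζ

/-- `eps ζ i = 1 + ζ + ⋯ + ζ^(i-1)`. -/
def eps (ζ : A) (i : ℕ) : A := ∑ j ∈ Finset.range i, ζ ^ j

theorem one_sub_pow_eq (ζ : A) (i : ℕ) : 1 - ζ ^ i = (1 - ζ) * eps ζ i := by
  unfold eps
  rw [mul_neg_geom_sum]

theorem prod_formula (hp : p.Prime) {ζ : A} (hζ : IsPrimitiveRoot ζ p) {P : A[X]}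
    (hP : C ((1 - ζ) ^ p) * P = (1 + C (1 - ζ) * X) ^ p - 1) :
    P = ∏ i ∈ Finset.range p, (X + C (eps ζ i)) := by
  have hζ1 : ζ ≠ 1 := hζ.ne_one hp.one_lt
  have h1 : (X ^ p - C (1 : A)) = ∏ i ∈ Finset.range p, (X - C (ζ ^ i * 1)) :=
    X_pow_sub_C_eq_prod hζ hp.pos (one_pow p)
  have h2 := congrArg (fun Q : A[X] => Q.comp (1 + C (1 - ζ) * X)) h1
  simp only [sub_comp, pow_comp, X_comp, C_comp, prod_comp, mul_one] at h2
  have h3 : ∀ i ∈ Finset.range p, (1 + C (1 - ζ) * X - C (ζ ^ i) : A[X])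
      = C (1 - ζ) * (X + C (eps ζ i)) := by
    intro i _
    have e : C (ζ ^ i) = (1 : A[X]) - C (1 - ζ) * C (eps ζ i) := by
      rw [← C_mul, ← one_sub_pow_eq, C_sub, C_1]
      ring
    rw [e]
    ring
  rw [Finset.prod_congr rfl h3, Finset.prod_mul_distrib, Finset.prod_const, Finset.card_range,
    C_1, ← hP, ← C_pow] at h2
  have hw : C ((1 - ζ) ^ p) ≠ (0 : A[X]) := by
    rw [Ne, C_eq_zero]
    exact pow_ne_zero _ (sub_ne_zero.mpr (Ne.symm hζ1))
  exact mul_left_cancel₀ hw h2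

theorem P_monic (hp : p.Prime) {ζ : A} (hζ : IsPrimitiveRoot ζ p) {P : A[X]}
    (hP : C ((1 - ζ) ^ p) * P = (1 + C (1 - ζ) * X) ^ p - 1) : P.Monic := by
  rw [prod_formula hp hζ hP]
  exact monic_prod_of_monic _ _ fun i _ => monic_X_add_C _

theorem P_natDegree (hp : p.Prime) {ζ : A} (hζ : IsPrimitiveRoot ζ p) {P : A[X]}
    (hP : C ((1 - ζ) ^ p) * P = (1 + C (1 - ζ) * X) ^ p - 1) : P.natDegree = p := by
  rw [prod_formula hp hζ hP, natDegree_prod_of_monic _ _ (fun i _ => monic_X_add_C _)]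
  simp

end Prim

section Loc
variable {A : Type*} [CommRing A] [IsDomain A] [IsLocalRing A] {p : ℕ} (hp : p.Prime)
  [CharP (ResidueField A) p] {ζ : A} (hζ : IsPrimitiveRoot ζ p)
include hp hζ

theorem residue_zeta : residue A ζ = 1 := by
  haveI : Fact p.Prime := ⟨hp⟩
  have h1 : (residue A ζ - 1) ^ p = 0 := by
    rw [sub_pow_char, one_pow, ← map_pow, hζ.pow_eq_one, map_one, sub_self]
  exact sub_eq_zero.mp ((pow_eq_zero_iff hp.ne_zero).mp h1)

theorem residue_eps (i : ℕ) : residue A (eps ζ i) = (i : ResidueField A) := by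
  unfold eps
  rw [map_sum]
  simp [map_pow, residue_zeta hp hζ]

theorem one_sub_zeta_mem : 1 - ζ ∈ maximalIdeal A := by
  rw [← residue_eq_zero_iff, map_sub, map_one, residue_zeta hp hζ, sub_self]

theorem P_map {P : A[X]} (hP : C ((1 - ζ) ^ p) * P = (1 + C (1 - ζ) * X) ^ p - 1) :
    P.map (residue A) = X ^ p - X := by
  haveI : Fact p.Prime := ⟨hp⟩
  rw [prod_formula hp hζ hP, Polynomial.map_prod]
  have h1 : ∀ i ∈ Finset.range p, (X + C (eps ζ i) : A[X]).map (residue A)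
      = X + C ((i : ℕ) : ResidueField A) := by
    intro i _
    rw [Polynomial.map_add, map_X, map_C, residue_eps hp hζ]
  rw [Finset.prod_congr rfl h1]
  exact prod_X_add_natCast p

theorem P_coeff_one {P : A[X]} (hP : C ((1 - ζ) ^ p) * P = (1 + C (1 - ζ) * X) ^ p - 1) :
    IsUnit (P.coeff 1) := by
  rw [← residue_ne_zero_iff_isUnit, ← coeff_map, P_map hp hζ hP, coeff_sub, coeff_X_pow,
    coeff_X_one, if_neg hp.one_lt.ne, zero_sub]
  exact neg_ne_zero.mpr one_ne_zero

end Loc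

section W
variable {A : Type*} [CommRing A] [IsDomain A] {p : ℕ} {w : A} {P : A[X]}
  (hP : C (w ^ p) * P = (1 + C w * X) ^ p - 1)
include hP

theorem P_eval {R : Type*} [CommRing R] [Algebra A R] (x : R) :
    algebraMap A R w ^ p * aeval x P = (1 + algebraMap A R w * x) ^ p - 1 := by
  have h := congrArg (aeval x) hP
  simpa only [map_mul, map_pow, map_sub, map_add, map_one, aeval_C, aeval_X] using h

theorem P_coeff_zero (hw0 : w ≠ 0) : P.coeff 0 = 0 := by
  have h := congrArg (eval 0) hP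
  simp only [eval_mul, eval_C, eval_sub, eval_pow, eval_add, eval_one, eval_X, mul_zero,
    add_zero, one_pow, sub_self] at h
  rw [coeff_zero_eq_eval_zero]
  exact (mul_eq_zero.mp h).resolve_left (pow_ne_zero _ hw0)

theorem P_eq_divX (hw0 : w ≠ 0) : P = divX P * X := by
  conv_lhs => rw [← divX_mul_X_add P, P_coeff_zero hP hw0, C_0, add_zero]

end W

end Groth.Agent.Lib.Helper27.KR
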