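import Mathlib
import Groth.Prelude.Def_EtRam
import Groth.Agent.Lib.Helper27.KR2

/-! Valuation-theoretic lemmas: dominance of the leading term, density by successive
approximation, and packaged ramified / inert conclusions. -/

set_option autoImplicit false

namespace Groth.Agent.Lib.Helper27.KR
open IsLocalRing Polynomial IntermediateField
open Groth.Agent.Lib.Helper27.ASR

universe u

theorem isUnit_one_add {A : Type*} [CommRing A] [IsLocalRing A] {x : A}
    (hx : x ∈ maximalIdeal A) : IsUnit (1 + x) := by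
  have h1 : -x ∈ nonunits A := by
    have : -x ∈ maximalIdeal A := neg_mem hx
    rwa [mem_maximalIdeal] at this
  have h2 := IsLocalRing.isUnit_one_sub_self_of_mem_nonunits (-x) h1
  rwa [sub_neg_eq_add] at h2

theorem finrank_one_of_mem_bot {K L : Type*} [Field K] [Field L] [Algebra K L] (y : L)
    (hy : y ∈ (⊥ : IntermediateField K L)) (hgen : K⟮y⟯ = ⊤) : Module.finrank K L = 1 := by
  rw [← bot_eq_top_iff_finrank_eq_one, ← hgen]
  exact (adjoin_simple_eq_bot_iff.mpr hy).symm

section Val
variable {A : Type u} {K : Type*} [CommRing A] [IsDomain A] [IsDiscreteValuationRing A]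
  [Field K] [Algebra A K] [IsFractionRing A K] {π : A}
  (hπ : maximalIdeal A = Ideal.span {π})
  {L : Type u} [Field L] [Algebra K L] [Algebra A L] [IsScalarTower A K L]
  {V : ValuationSubring L} (h : EtRam.Dominates A (algebraMap A L) V)

include h in
theorem val_aeval_of_gt (H : A[X]) (hH : H.Monic) (θ : L) (hgt : 1 < V.valuation θ) :
    V.valuation (aeval θ H) = V.valuation θ ^ H.natDegree := by
  have hθ0 : V.valuation θ ≠ 0 := (zero_lt_one.trans hgt).ne'
  have e : aeval θ H = ∑ i ∈ Finset.range H.natDegree, algebraMap A L (H.coeff i) * θ ^ i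
      + θ ^ H.natDegree := by
    rw [aeval_eq_sum_range, Finset.sum_range_succ, hH.coeff_natDegree, one_smul]
    congr 1
    exact Finset.sum_congr rfl fun i _ => Algebra.smul_def _ _
  have hlt : V.valuation (∑ i ∈ Finset.range H.natDegree, algebraMap A L (H.coeff i) * θ ^ i)
      < V.valuation θ ^ H.natDegree := by
    apply Valuation.map_sum_lt _ (pow_ne_zero _ hθ0)
    intro i hi
    rw [Finset.mem_range] at hi
    rw [map_mul, map_pow]
    calc V.valuation (algebraMap A L (H.coeff i)) * V.valuation θ ^ i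
        ≤ 1 * V.valuation θ ^ i := mul_le_mul' (val_le_one h _) le_rfl
      _ = V.valuation θ ^ i := one_mul _
      _ < V.valuation θ ^ H.natDegree := pow_lt_pow_right₀ hgt hi
  rw [e, ← map_pow]
  apply Valuation.map_add_eq_of_lt_right
  rw [map_pow]
  exact hlt

include hπ h in
theorem dense_of_approx {p : ℕ} (t : L) (htmem : t ∈ V)
    (hspan : ∀ x : L, ∃ c : Fin p → K, x = ∑ i, algebraMap K L (c i) * t ^ (i : ℕ))
    (happ : ∀ N : ℕ, ∃ β : K, algebraMap K L β ∈ V ∧
      V.valuation (t - algebraMap K L β) ≤ V.valuation (algebraMap A L π) ^ N) :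
    ∀ b : L, b ≠ 0 → ∃ b' : K, V.valuation (b - algebraMap K L b') < V.valuation b := by
  have hω1 : V.valuation (algebraMap A L π) < 1 := val_pi_lt_one hπ h
  have hω0 : V.valuation (algebraMap A L π) ≠ 0 := val_pi_ne_zero K hπ h
  have hbound : ∀ c : Fin p → K, ∃ M : ℕ, ∀ y : Fin p → L, (∀ i, y i ∈ V) →
      V.valuation (∑ i, algebraMap K L (c i) * y i) * V.valuation (algebraMap A L π) ^ M ≤ 1 := by
    intro c
    obtain ⟨M, hM⟩ := exists_scale_fam hπ c
    choose a ha using hM
    refine ⟨M, fun y hy => ?_⟩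
    rw [← map_pow, ← map_mul, Finset.sum_mul, V.valuation_le_one_iff]
    refine sum_mem fun i _ => ?_
    have e : algebraMap K L (c i) * y i * algebraMap A L π ^ M = algebraMap A L (a i) * y i := by
      rw [IsScalarTower.algebraMap_apply A K L (a i), ← ha i, map_mul, map_pow,
        ← IsScalarTower.algebraMap_apply]
      ring
    rw [e]
    exact mul_mem (h.1 _) (hy i)
  intro b hb0
  obtain ⟨c, hc⟩ := hspan b
  obtain ⟨M, hM⟩ := hbound c
  obtain ⟨c', hc'⟩ := hspan b⁻¹
  obtain ⟨M', hM'⟩ := hbound c'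
  have hwb0 : V.valuation b ≠ 0 := (Valuation.ne_zero_iff _).mpr hb0
  have hlow : V.valuation (algebraMap A L π) ^ M' ≤ V.valuation b := by
    have h1 := hM' (fun i => t ^ (i : ℕ)) (fun i => pow_mem htmem _)
    rw [← hc', map_inv₀] at h1
    have h2 := (inv_mul_le_iff₀ (zero_lt_iff.mpr hwb0)).mp h1
    rwa [mul_one] at h2
  obtain ⟨β, hβV, hβ⟩ := happ (M + M' + 1)
  refine ⟨∑ i, c i * β ^ (i : ℕ), ?_⟩
  have hdiff : b - algebraMap K L (∑ i, c i * β ^ (i : ℕ))
      = (∑ i : Fin p, algebraMap K L (c i) * ∑ j ∈ Finset.range (i : ℕ),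
          t ^ j * algebraMap K L β ^ ((i : ℕ) - 1 - j))
        * (t - algebraMap K L β) := by
    rw [hc, map_sum, ← Finset.sum_sub_distrib, Finset.sum_mul]
    refine Finset.sum_congr rfl fun i _ => ?_
    rw [map_mul, map_pow, mul_assoc, geom_sum₂_mul, mul_sub]
  have hle : V.valuation (b - algebraMap K L (∑ i, c i * β ^ (i : ℕ)))
      * V.valuation (algebraMap A L π) ^ M ≤ V.valuation (algebraMap A L π) ^ (M + M' + 1) := by
    rw [hdiff, map_mul, mul_right_comm]
    calc V.valuation (∑ i : Fin p, algebraMap K L (c i) * ∑ j ∈ Finset.range (i : ℕ),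
            t ^ j * algebraMap K L β ^ ((i : ℕ) - 1 - j))
          * V.valuation (algebraMap A L π) ^ M * V.valuation (t - algebraMap K L β)
        ≤ 1 * V.valuation (t - algebraMap K L β) :=
          mul_le_mul' (hM (fun i => ∑ j ∈ Finset.range (i : ℕ),
            t ^ j * algebraMap K L β ^ ((i : ℕ) - 1 - j))
            (fun i => sum_mem fun j _ => mul_mem (pow_mem htmem _) (pow_mem hβV _))) le_rfl
      _ = V.valuation (t - algebraMap K L β) := one_mul _
      _ ≤ V.valuation (algebraMap A L π) ^ (M + M' + 1) := hβ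
  have hlt : V.valuation (algebraMap A L π) ^ (M + M' + 1)
      < V.valuation b * V.valuation (algebraMap A L π) ^ M := by
    calc V.valuation (algebraMap A L π) ^ (M + M' + 1)
        < V.valuation (algebraMap A L π) ^ (M' + M) :=
          pow_lt_pow_right_of_lt_one₀ (zero_lt_iff.mpr hω0) hω1 (by omega)
      _ = V.valuation (algebraMap A L π) ^ M' * V.valuation (algebraMap A L π) ^ M :=
          pow_add _ _ _
      _ ≤ V.valuation b * V.valuation (algebraMap A L π) ^ M := mul_le_mul' hlow le_rfl
  by_contra hcon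
  rw [not_lt] at hcon
  exact absurd (lt_of_le_of_lt ((mul_le_mul' hcon le_rfl).trans hle) hlt) (lt_irrefl _)

include hπ h in
theorem approx_of_unit_root (U : A[X]) (hU : IsUnit (U.coeff 0)) (t : L) (a₁ : A)
    (ht : t * aeval t U = algebraMap A L a₁) (htV : V.valuation t < 1) :
    ∀ N : ℕ, ∃ β : K, algebraMap K L β ∈ V ∧
      V.valuation (t - algebraMap K L β) ≤ V.valuation (algebraMap A L π) ^ N := by
  have hω1 := val_pi_lt_one hπ h
  have hUunit : ∀ x : L, V.valuation x < 1 → V.valuation (aeval x U) = 1 := by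
    intro x hx
    have hxV : x ∈ V := (V.valuation_le_one_iff x).mp hx.le
    have e : aeval x U = aeval x (divX U) * x + algebraMap A L (U.coeff 0) := by
      conv_lhs => rw [← divX_mul_X_add U]
      simp only [map_add, map_mul, aeval_X, aeval_C]
    rw [e, ← val_unit h hU]
    apply Valuation.map_add_eq_of_lt_right
    rw [val_unit h hU, map_mul]
    calc V.valuation (aeval x (divX U)) * V.valuation x
        ≤ 1 * V.valuation x :=
          mul_le_mul' ((V.valuation_le_one_iff _).mpr (aeval_mem h hxV _)) le_rfl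
      _ = V.valuation x := one_mul _
      _ < 1 := hx
  have hLip : ∀ x y : L, x ∈ V → y ∈ V →
      V.valuation (aeval x U - aeval y U) ≤ V.valuation (x - y) := by
    intro x y hx hy
    rw [aeval_eq_sum_range, aeval_eq_sum_range, ← Finset.sum_sub_distrib]
    apply Valuation.map_sum_le
    intro i _
    rw [← smul_sub, Algebra.smul_def, ← geom_sum₂_mul, map_mul, map_mul]
    calc V.valuation (algebraMap A L (U.coeff i))
          * (V.valuation (∑ j ∈ Finset.range i, x ^ j * y ^ (i - 1 - j)) * V.valuation (x - y))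
        ≤ 1 * (1 * V.valuation (x - y)) :=
          mul_le_mul' (val_le_one h _) (mul_le_mul' ((V.valuation_le_one_iff _).mpr
            (sum_mem fun j _ => mul_mem (pow_mem hx _) (pow_mem hy _))) le_rfl)
      _ = V.valuation (x - y) := by rw [one_mul, one_mul]
  have hta : V.valuation t = V.valuation (algebraMap A L a₁) := by
    rw [← ht, map_mul, hUunit t htV, mul_one]
  have ha₁ : a₁ ∈ maximalIdeal A := by
    rw [← val_lt_one_iff h, ← hta]
    exact htV
  have htω : V.valuation t ≤ V.valuation (algebraMap A L π) := by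
    rw [hta]
    exact val_le_pi_of_mem hπ h ha₁
  have htmem : t ∈ V := (V.valuation_le_one_iff t).mp htV.le
  obtain ⟨β, hβ0, hβs⟩ : ∃ β : ℕ → K, β 0 = 0 ∧
      ∀ k, β (k + 1) = algebraMap A K a₁ / aeval (β k) U :=
    ⟨fun k => Nat.rec 0 (fun _ x => algebraMap A K a₁ / aeval x U) k, rfl, fun _ => rfl⟩
  have hβ : ∀ k, V.valuation (algebraMap K L (β k)) < 1 ∧
      V.valuation (t - algebraMap K L (β k)) ≤ V.valuation (algebraMap A L π) ^ (k + 1) := by
    intro k
    induction k with
    | zero =>
      rw [hβ0, map_zero, map_zero, sub_zero, zero_add, pow_one]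
      exact ⟨zero_lt_one, htω⟩
    | succ k ih =>
      obtain ⟨ih1, ih2⟩ := ih
      have hxV : algebraMap K L (β k) ∈ V := (V.valuation_le_one_iff _).mp ih1.le
      have hUx1 := hUunit _ ih1
      have hUx0 : aeval (algebraMap K L (β k)) U ≠ 0 := by
        intro h0
        rw [h0, map_zero] at hUx1
        exact zero_ne_one hUx1
      have hnext : algebraMap K L (β (k + 1))
          = algebraMap A L a₁ / aeval (algebraMap K L (β k)) U := by
        rw [hβs, map_div₀, ← IsScalarTower.algebraMap_apply, aeval_algebraMap_apply]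
      refine ⟨?_, ?_⟩
      · rw [hnext, map_div₀, hUx1, div_one, ← hta]
        exact htV
      · have e : (t - algebraMap K L (β (k + 1))) * aeval (algebraMap K L (β k)) U
            = t * (aeval (algebraMap K L (β k)) U - aeval t U) := by
          rw [hnext, sub_mul, div_mul_cancel₀ _ hUx0, ← ht]
          ring
        have e2 : V.valuation (t - algebraMap K L (β (k + 1)))
            = V.valuation t * V.valuation (aeval (algebraMap K L (β k)) U - aeval t U) := by
          rw [← map_mul, ← e, map_mul, hUx1, mul_one]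
        rw [e2, pow_succ, mul_comm (V.valuation (algebraMap A L π) ^ (k + 1))]
        exact mul_le_mul' htω ((hLip _ _ hxV htmem).trans
          (by rw [Valuation.map_sub_swap]; exact ih2))
  intro N
  refine ⟨β N, (V.valuation_le_one_iff _).mp (hβ N).1.le, (hβ N).2.trans ?_⟩
  rw [pow_succ]
  exact mul_le_of_le_one_right' hω1.le

include hπ h in
theorem dense_of_unit_root {p : ℕ} (U : A[X]) (hU : IsUnit (U.coeff 0)) (t : L) (a₁ : A)
    (ht : t * aeval t U = algebraMap A L a₁) (htV : V.valuation t < 1)
    (hspan : ∀ x : L, ∃ c : Fin p → K, x = ∑ i, algebraMap K L (c i) * t ^ (i : ℕ)) :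
    ∀ b : L, b ≠ 0 → ∃ b' : K, V.valuation (b - algebraMap K L b') < V.valuation b :=
  dense_of_approx hπ h t ((V.valuation_le_one_iff t).mp htV.le) hspan
    (approx_of_unit_root hπ h U hU t a₁ ht htV)

end Val

section Pack
variable {A : Type u} {K : Type u} [CommRing A] [IsDomain A] [IsDiscreteValuationRing A]
  [Field K] [Algebra A K] [IsFractionRing A K] {π : A}
  (hπ : maximalIdeal A = Ideal.span {π})
  {L : Type u} [Field L] [Algebra K L] [Algebra A L] [IsScalarTower A K L]

include hπ in
theorem ram_of_theta {p : ℕ} (hp0 : 0 < p) (Θ : L) [Module.Finite K L]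
    (hrank : Module.finrank K L ≤ p)
    (hgood : ∀ V : ValuationSubring L, EtRam.Dominates A (algebraMap A L) V →
      V.valuation Θ ^ p = V.valuation (algebraMap A L π)) :
    EtRam.IsTotallyRamified A (algebraMap A L) ∧ Module.finrank K L = p := by
  obtain ⟨V₀, h₀⟩ := exists_dominating A L
  have hK : ∀ V : ValuationSubring L, EtRam.Dominates A (algebraMap A L) V →
      Θ ∈ V ∧ KProp π V p Θ :=
    fun V h => ⟨(V.valuation_le_one_iff _).mp (ram_KProp K hπ h _ (hgood V h)).1.le,
      (ram_KProp K hπ h _ (hgood V h)).2⟩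
  have hli := linearIndependent_pow_of_KProp (K := K) hπ h₀ p _ (hK V₀ h₀).2
  obtain ⟨hrank', hspan⟩ := span_of_indep p _ hp0 hrank hli
  refine ⟨⟨⟨V₀, h₀⟩, fun V V' h h' => unique_of_good hπ p _ hK hspan h h', fun V h => ?_⟩,
    hrank'⟩
  apply residue_surj_of h
  have hmem := mem_iff_of_good hπ h p _ (hK V h).1 (hK V h).2 hspan
  exact ram_residue h hp0 _ (ram_KProp K hπ h _ (hgood V h)).1
    (fun x hx => (hmem x).mp hx)

include hπ in
theorem case4_of_inert (p : ℕ) [hp : Fact p.Prime] [CharP (ResidueField A) p] (θ : L)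
    (H : A[X]) (hH : H.Monic) (hdeg : H.natDegree = p) (a : A)
    (hHmap : H.map (residue A) = X ^ p - C (residue A a))
    (hres : ∀ r : A, residue A a ≠ residue A r ^ p) (hroot : aeval θ H = 0)
    [Module.Finite K L] (hrank : Module.finrank K L ≤ p) : Case4 A L p := by
  have hp0 : 0 < p := hp.out.pos
  have hirr0 : Irreducible (X ^ p - C (residue A a) : (ResidueField A)[X]) := by
    apply X_pow_sub_C_irreducible_of_prime hp.out
    intro b
    obtain ⟨r, rfl⟩ := residue_surjective b
    exact (hres r).symm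
  have hirr : Irreducible (H.map (residue A)) := by
    rw [hHmap]
    exact hirr0
  obtain ⟨V₀, h₀⟩ := exists_dominating A L
  have hK : ∀ V : ValuationSubring L, EtRam.Dominates A (algebraMap A L) V →
      θ ∈ V ∧ KProp π V p θ :=
    fun V h => inert_KProp hπ h hp0 _ hH hdeg hirr hroot
  have hli := linearIndependent_pow_of_KProp (K := K) hπ h₀ p _ (hK V₀ h₀).2
  obtain ⟨hrank', hspan⟩ := span_of_indep p _ hp0 hrank hli
  refine ⟨⟨V₀, h₀⟩, fun V V' h h' => unique_of_good hπ p _ hK hspan h h', ?_⟩
  intro V h hloc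
  letI alg : Algebra A V := (RingHom.codRestrict (algebraMap A L) V h.1).toAlgebra
  obtain ⟨hWU, hfr, θ', hθ'root, hrep⟩ :=
    inert_main hπ h (fun _ => rfl) hp0 _ hH hdeg hirr hroot hspan
  refine ⟨hWU, purelyInsep_of_repr p θ' (residue A a) ?_ hrep, hfr⟩
  rw [hHmap] at hθ'root
  simp only [map_sub, map_pow, aeval_X, aeval_C] at hθ'root
  exact sub_eq_zero.mp hθ'root

end Pack

end Groth.Agent.Lib.Helper27.KR
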