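import Mathlib
import Groth.Prelude.Def_EtRam
import Groth.Agent.Lib.Helper27.KR3

/-! Kummer-type extensions `P(z) = ξ`: cases (A), (B), (C) and the auxiliary `y`-coordinate
cases. -/

set_option autoImplicit false

namespace Groth.Agent.Lib.Helper27.KR
open IsLocalRing Polynomial IntermediateField
open Groth.Agent.Lib.Helper27.ASR

universe u

theorem monic_sub_C' {A : Type*} [CommRing A] [Nontrivial A] {Q : A[X]} (hQ : Q.Monic)
    (hd : 0 < Q.natDegree) (a : A) : (Q - C a).Monic :=
  hQ.sub_of_left (lt_of_le_of_lt degree_C_le (natDegree_pos_iff_degree_pos.mp hd))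

section KPoly
variable {A : Type u} {K : Type u} [CommRing A] [IsDomain A] [IsDiscreteValuationRing A]
  [Field K] [Algebra A K] [IsFractionRing A K]
  {L : Type u} [Field L] [Algebra K L] [Algebra A L] [IsScalarTower A K L]
  {p : ℕ} [hpf : Fact p.Prime] {ζ : A} (hζ : IsPrimitiveRoot ζ p) {P : A[X]}
  (hP : C ((1 - ζ) ^ p) * P = (1 + C (1 - ζ) * X) ^ p - 1)
include hζ hP

theorem kf_monic (ξ : K) : (P.map (algebraMap A K) - C ξ).Monic := by
  have hPm := P_monic hpf.out hζ hP
  have hPd := P_natDegree hpf.out hζ hP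
  apply monic_sub_C' (hPm.map _)
  rw [hPm.natDegree_map, hPd]
  exact hpf.out.pos

theorem kf_natDegree (ξ : K) : (P.map (algebraMap A K) - C ξ).natDegree = p := by
  rw [natDegree_sub_C, (P_monic hpf.out hζ hP).natDegree_map, P_natDegree hpf.out hζ hP]

omit hζ hP hpf in
theorem kf_aeval (ξ : K) (z : L) (hz : aeval z P = algebraMap K L ξ) :
    aeval z (P.map (algebraMap A K) - C ξ) = 0 := by
  rw [map_sub, aeval_map_algebraMap, aeval_C, hz, sub_self]

omit hζ in
theorem kummer_y (hw0 : (1 - ζ) ≠ 0) (ξ : K) (z : L) (hz : aeval z P = algebraMap K L ξ)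
    (hgen : K⟮z⟯ = ⊤) :
    (algebraMap K L (algebraMap A K (1 - ζ)) * z + algebraMap K L 1) ^ p
        = algebraMap K L (1 + algebraMap A K (1 - ζ) ^ p * ξ) ∧
      K⟮algebraMap K L (algebraMap A K (1 - ζ)) * z + algebraMap K L 1⟯ = ⊤ := by
  refine ⟨?_, adjoin_affine z _ 1
    ((map_ne_zero_iff _ (IsFractionRing.injective A K)).mpr hw0) hgen⟩
  have h1 := P_eval hP (R := L) z
  rw [hz, IsScalarTower.algebraMap_apply A K L] at h1
  rw [map_one, map_add, map_one, map_mul, map_pow]
  linear_combination -h1

end KPoly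

section PerV
variable {A : Type u} {K : Type u} [CommRing A] [IsDomain A] [IsDiscreteValuationRing A]
  [Field K] [Algebra A K] [IsFractionRing A K] {π : A}
  (hπ : maximalIdeal A = Ideal.span {π})
  {L : Type u} [Field L] [Algebra K L] [Algebra A L] [IsScalarTower A K L]
  {V : ValuationSubring L} (h : EtRam.Dominates A (algebraMap A L) V)
  [algAV : Algebra A V] (hc : ∀ a : A, ((algebraMap A V a : V) : L) = algebraMap A L a)
  {p : ℕ} [hpf : Fact p.Prime] [CharP (ResidueField A) p] {ζ : A} (hζ : IsPrimitiveRoot ζ p)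
  {P : A[X]} (hP : C ((1 - ζ) ^ p) * P = (1 + C (1 - ζ) * X) ^ p - 1)

include h hc hζ hP in
theorem kexists_t [IsLocalHom (algebraMap A V)] (z : L) (a : A)
    (hz : aeval z P = algebraMap A L a) (hgen : K⟮z⟯ = ⊤) (c : A)
    (hcres : residue A c ^ p - residue A c = residue A a) :
    ∃ (t : L) (a₁ : A), aeval t P = algebraMap A L a₁ ∧ K⟮t⟯ = ⊤ ∧ V.valuation t < 1 := by
  have hp := hpf.out
  have hPm := P_monic hp hζ hP
  have hPd := P_natDegree hp hζ hP
  haveI : CharP (ResidueField V) p :=
    charP_of_injective_algebraMap (algebraMap (ResidueField A) (ResidueField V)).injective p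
  have hHroot : aeval z (P - C a) = 0 := by rw [map_sub, aeval_C, hz, sub_self]
  have hzV : z ∈ V :=
    mem_of_monic_root h (P - C a) (monic_sub_C' hPm (hPd ▸ hp.pos) a) z hHroot
  have h1 := residue_root hc (P - C a) hzV hHroot
  rw [Polynomial.map_sub, P_map hp hζ hP, map_C] at h1
  simp only [map_sub, map_pow, aeval_X, aeval_C] at h1
  have h2 : (algebraMap (ResidueField A) (ResidueField V) (residue A c)) ^ p
      - algebraMap (ResidueField A) (ResidueField V) (residue A c)
      = algebraMap (ResidueField A) (ResidueField V) (residue A a) := by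
    rw [← map_pow, ← map_sub, hcres]
  have h3 : (residue V ⟨z, hzV⟩
      - algebraMap (ResidueField A) (ResidueField V) (residue A c)) ^ p
      = residue V ⟨z, hzV⟩ - algebraMap (ResidueField A) (ResidueField V) (residue A c) := by
    rw [sub_pow_char]
    linear_combination h1 - h2
  obtain ⟨i, -, hi⟩ := eq_natCast_of_pow_eq p _ h3
  obtain ⟨c', hc'⟩ : ∃ c' : A, c' = c + (i : A) := ⟨_, rfl⟩
  have hlt : V.valuation (z - algebraMap A L c') < 1 := by
    have h4 : (⟨z, hzV⟩ : V) - algebraMap A V c' ∈ maximalIdeal V := by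
      rw [← residue_eq_zero_iff, map_sub, ← ResidueField.algebraMap_residue, hc', map_add,
        map_add, map_natCast, map_natCast]
      linear_combination hi
    rw [V.valuation_lt_one_iff] at h4
    have e : (((⟨z, hzV⟩ : V) - algebraMap A V c' : V) : L) = z - algebraMap A L c' := by
      rw [AddSubgroupClass.coe_sub, hc]
    rwa [e] at h4
  have hw0 : (1 - ζ) ≠ 0 := sub_ne_zero.mpr (hζ.ne_one hp.one_lt).symm
  have hwm : 1 - ζ ∈ maximalIdeal A := one_sub_zeta_mem hp hζ
  have hinj := algebraMap_AL_injective A K L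
  have hW0 : algebraMap A L (1 - ζ) ≠ 0 := (map_ne_zero_iff _ hinj).mpr hw0
  have hDu : IsUnit (1 + (1 - ζ) * c') := isUnit_one_add (Ideal.mul_mem_right _ _ hwm)
  have hD1 : V.valuation (1 + algebraMap A L (1 - ζ) * algebraMap A L c') = 1 := by
    have e : 1 + algebraMap A L (1 - ζ) * algebraMap A L c'
        = algebraMap A L (1 + (1 - ζ) * c') := by
      rw [map_add, map_one, map_mul]
    rw [e]
    exact val_unit h hDu
  have hD0 : 1 + algebraMap A L (1 - ζ) * algebraMap A L c' ≠ 0 := by
    intro h0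
    rw [h0, map_zero] at hD1
    exact zero_ne_one hD1
  have hEu : IsUnit (1 + (1 - ζ) ^ p * eval c' P) :=
    isUnit_one_add (Ideal.mul_mem_right _ _ (Ideal.pow_mem_of_mem _ hwm p hp.pos))
  obtain ⟨υ, hυ⟩ := hEu.exists_right_inv
  have hsub := subst_formula (algebraMap A L (1 - ζ)) hW0 p (fun x => aeval x P)
    (fun x => P_eval hP x) z (algebraMap A L c') hD0
  rw [aeval_algebraMap_apply_eq_algebraMap_eval, hz] at hsub
  refine ⟨(z - algebraMap A L c') / (1 + algebraMap A L (1 - ζ) * algebraMap A L c'),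
    (a - eval c' P) * υ, ?_, ?_, ?_⟩
  · have hE : (1 + algebraMap A L (1 - ζ) ^ p * algebraMap A L (eval c' P))
        * algebraMap A L υ = 1 := by
      have h5 := congrArg (algebraMap A L) hυ
      simpa only [map_mul, map_add, map_pow, map_one] using h5
    calc aeval ((z - algebraMap A L c') / (1 + algebraMap A L (1 - ζ) * algebraMap A L c')) P
        = aeval ((z - algebraMap A L c') / (1 + algebraMap A L (1 - ζ) * algebraMap A L c')) P
            * ((1 + algebraMap A L (1 - ζ) ^ p * algebraMap A L (eval c' P))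
              * algebraMap A L υ) := by rw [hE, mul_one]
      _ = (algebraMap A L a - algebraMap A L (eval c' P)) * algebraMap A L υ := by
          rw [← mul_assoc, hsub]
      _ = algebraMap A L ((a - eval c' P) * υ) := by rw [map_mul, map_sub]
  · have hα : (algebraMap A K (1 + (1 - ζ) * c'))⁻¹ ≠ 0 :=
      inv_ne_zero ((map_ne_zero_iff _ (IsFractionRing.injective A K)).mpr hDu.ne_zero)
    have e := adjoin_affine (L := L) z (algebraMap A K (1 + (1 - ζ) * c'))⁻¹
      (-(algebraMap A K c') * (algebraMap A K (1 + (1 - ζ) * c'))⁻¹) hα hgen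
    have e2 : algebraMap K L (algebraMap A K (1 + (1 - ζ) * c'))⁻¹ * z
        + algebraMap K L (-(algebraMap A K c') * (algebraMap A K (1 + (1 - ζ) * c'))⁻¹)
        = (z - algebraMap A L c') / (1 + algebraMap A L (1 - ζ) * algebraMap A L c') := by
      simp only [map_mul, map_neg, map_inv₀, map_add, map_one,
        ← IsScalarTower.algebraMap_apply A K L]
      rw [div_eq_mul_inv]
      ring
    rw [← e2]
    exact e
  · rw [map_div₀, hD1, div_one]
    exact hlt

include hπ h hc hζ hP in
theorem kcaseA_V [IsLocalHom (algebraMap A V)] (z : L) (a : A)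
    (hz : aeval z P = algebraMap A L a) (hgen : K⟮z⟯ = ⊤) :
    EtRam.IsWeaklyUnramified A V ∧
      Algebra.IsSeparable (ResidueField A) (ResidueField V) := by
  have hp := hpf.out
  have hPm := P_monic hp hζ hP
  have hPd := P_natDegree hp hζ hP
  have hw0 : (1 - ζ) ≠ 0 := sub_ne_zero.mpr (hζ.ne_one hp.one_lt).symm
  by_cases hκ : ∃ c' : ResidueField A, c' ^ p - c' = residue A a
  · obtain ⟨c', hc'⟩ := hκ
    obtain ⟨c, rfl⟩ := residue_surjective c'
    obtain ⟨t, a₁, ht, htgen, htV⟩ := kexists_t h hc hζ hP z a hz hgen c hc'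
    have ht' : aeval t P = algebraMap K L (algebraMap A K a₁) := by
      rw [← IsScalarTower.algebraMap_apply]
      exact ht
    have hspan := span_pow p t _ (kf_monic hζ hP _) (kf_natDegree hζ hP _)
      (kf_aeval _ t ht') htgen
    have htU : t * aeval t (divX P) = algebraMap A L a₁ := by
      rw [← ht]
      conv_rhs => rw [P_eq_divX hP hw0]
      rw [map_mul, aeval_X, mul_comm]
    have hU : IsUnit ((divX P).coeff 0) := by
      rw [coeff_divX]
      exact P_coeff_one hp hζ hP
    have hD := dense_of_unit_root hπ h (divX P) hU t a₁ htU htV hspan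
    exact ⟨weaklyUnramified_of_val K hπ h hc (dense_key hπ h hD),
      separable_of_dense hc (dense_residue hπ h hD)⟩
  · push Not at hκ
    have hz' : aeval z P = algebraMap K L (algebraMap A K a) := by
      rw [← IsScalarTower.algebraMap_apply]
      exact hz
    have hspan := span_pow p z _ (kf_monic hζ hP _) (kf_natDegree hζ hP _)
      (kf_aeval _ z hz') hgen
    have hHmap : (P - C a).map (residue A) = X ^ p - X - C (residue A a) := by
      rw [Polynomial.map_sub, P_map hp hζ hP, map_C]
    have hirr : Irreducible ((P - C a).map (residue A)) := by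
      rw [hHmap]
      exact as_irreducible p _ hκ
    have hroot : aeval z (P - C a) = 0 := by rw [map_sub, aeval_C, hz, sub_self]
    obtain ⟨hWU, -, θ', hθ'root, hrep⟩ := inert_main hπ h hc hp.pos _
      (monic_sub_C' hPm (hPd ▸ hp.pos) a) (by rw [natDegree_sub_C, hPd]) hirr hroot hspan
    refine ⟨hWU, separable_of_repr θ' ?_ hrep⟩
    rw [hHmap] at hθ'root
    unfold IsSeparable
    rw [← minpoly.eq_of_irreducible_of_monic (as_irreducible p _ hκ) hθ'root (as_monic p _)]
    exact as_separable p _

end PerV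

end Groth.Agent.Lib.Helper27.KR
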