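import Mathlib
import Groth.Prelude.Def_EtRam
import Groth.Agent.Lib.Helper27.KR4

/-! Kummer-type extensions: global cases (A), (B), (C) and the `y`-coordinate cases. -/

set_option autoImplicit false

namespace Groth.Agent.Lib.Helper27.KR
open IsLocalRing Polynomial IntermediateField
open Groth.Agent.Lib.Helper27.ASR

universe u

section KCase
variable {A : Type u} {K : Type u} [CommRing A] [IsDomain A] [IsDiscreteValuationRing A]
  [Field K] [Algebra A K] [IsFractionRing A K] {π : A}
  (hπ : maximalIdeal A = Ideal.span {π})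
  {L : Type u} [Field L] [Algebra K L] [Algebra A L] [IsScalarTower A K L]
  {p : ℕ} [hpf : Fact p.Prime] [CharP (ResidueField A) p] {ζ : A} (hζ : IsPrimitiveRoot ζ p)
  {P : A[X]} (hP : C ((1 - ζ) ^ p) * P = (1 + C (1 - ζ) * X) ^ p - 1)

include hπ hζ hP in
theorem kcaseA (ξ : K) (z : L) (hz : aeval z P = algebraMap K L ξ) (hgen : K⟮z⟯ = ⊤) (a : A)
    (ha : algebraMap A K a = ξ) :
    Module.finrank K L = 1 ∨
      (EtRam.IsUnramifiedExt A (algebraMap A L) ∧ Module.finrank K L = p) := by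
  have hp := hpf.out
  have hw0 : (1 - ζ) ≠ 0 := sub_ne_zero.mpr (hζ.ne_one hp.one_lt).symm
  obtain ⟨hy, hgeny⟩ := kummer_y hP hw0 ξ z hz hgen
  rcases kummer_finrank hp (hζ.map_of_injective (IsFractionRing.injective A K)) _ _ hy hgeny
    with h1 | h2
  · exact Or.inl h1
  · refine Or.inr ⟨?_, h2⟩
    intro V h hloc
    have hz' : aeval z P = algebraMap A L a := by
      rw [hz, ← ha, ← IsScalarTower.algebraMap_apply]
    exact kcaseA_V (algAV := (RingHom.codRestrict (algebraMap A L) V h.1).toAlgebra) hπ h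
      (fun _ => rfl) hζ hP z a hz' hgen

include hπ hζ hP in
theorem kcaseB (ξ : K) (z : L) (hz : aeval z P = algebraMap K L ξ) (hgen : K⟮z⟯ = ⊤) (n : ℕ)
    (a : Aˣ) (hn : 0 < n) (hpn : ¬ p ∣ n)
    (hξ : ξ * algebraMap A K π ^ n = algebraMap A K a) :
    EtRam.IsTotallyRamified A (algebraMap A L) ∧ Module.finrank K L = p := by
  have hp := hpf.out
  obtain ⟨s, t, hst⟩ := exists_st hp hpn
  have hX : algebraMap K L ξ * algebraMap A L π ^ n = algebraMap A L a := by
    rw [IsScalarTower.algebraMap_apply A K L, IsScalarTower.algebraMap_apply A K L, ← map_pow,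
      ← map_mul, hξ]
  haveI : Module.Finite K L := gen_finite _ (kf_monic hζ hP ξ) z (kf_aeval ξ z hz) hgen
  apply ram_of_theta hπ hp.pos (z ^ s * algebraMap A L π ^ t)
    (gen_finrank_le _ (kf_monic hζ hP ξ) (kf_natDegree hζ hP ξ) z (kf_aeval ξ z hz) hgen)
  intro V h
  have hω1 := val_pi_lt_one hπ h
  have hξω : V.valuation (algebraMap K L ξ) * V.valuation (algebraMap A L π) ^ n = 1 := by
    rw [← map_pow, ← map_mul, hX]
    exact val_unit h a.isUnit
  have hz1 : 1 < V.valuation z := by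
    by_contra hle
    rw [not_lt] at hle
    have hzV : z ∈ V := (V.valuation_le_one_iff z).mp hle
    have h1 : V.valuation (algebraMap K L ξ) ≤ 1 := by
      rw [← hz]
      exact (V.valuation_le_one_iff _).mpr (aeval_mem h hzV P)
    have h2 : V.valuation (algebraMap K L ξ) * V.valuation (algebraMap A L π) ^ n < 1 :=
      lt_of_le_of_lt (mul_le_mul' h1 le_rfl) (by rw [one_mul]; exact pow_lt_one' hω1 hn.ne')
    exact absurd hξω h2.ne
  have hzp : V.valuation (aeval z P) = V.valuation z ^ p := by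
    rw [val_aeval_of_gt h P (P_monic hp hζ hP) z hz1, P_natDegree hp hζ hP]
  have hW : V.valuation z ^ p * V.valuation (algebraMap A L π) ^ n = 1 := by
    rw [← hzp, hz]
    exact hξω
  rw [map_mul, map_pow, map_pow]
  exact pow_calc _ _ p n s t hst hW

include hζ hP in
theorem scaleRoots_map (hπ0 : residue A π = 0) {m : ℕ} (hm : 0 < m) :
    (scaleRoots P (π ^ m)).map (residue A) = X ^ p := by
  have hp := hpf.out
  have hPm := P_monic hp hζ hP
  have hPd := P_natDegree hp hζ hP
  rw [map_scaleRoots _ _ _ (by rw [hPm.leadingCoeff, map_one]; exact one_ne_zero), map_pow,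
    hπ0, zero_pow hm.ne', scaleRoots_zero, (hPm.map _).leadingCoeff, one_smul,
    hPm.natDegree_map, hPd]

include hπ hζ hP in
theorem kcaseC (ξ : K) (z : L) (hz : aeval z P = algebraMap K L ξ) (hgen : K⟮z⟯ = ⊤) (n : ℕ)
    (a : A) (hn : 0 < n) (hpn : p ∣ n) (hres : ∀ r : A, residue A a ≠ residue A r ^ p)
    (hξ : ξ * algebraMap A K π ^ n = algebraMap A K a) : Case4 A L p := by
  have hp := hpf.out
  obtain ⟨m, rfl⟩ := hpn
  have hm : 0 < m := Nat.pos_of_ne_zero (by rintro rfl; simp at hn)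
  have hPm := P_monic hp hζ hP
  have hPd := P_natDegree hp hζ hP
  have hX : algebraMap K L ξ * algebraMap A L π ^ (p * m) = algebraMap A L a := by
    rw [IsScalarTower.algebraMap_apply A K L, IsScalarTower.algebraMap_apply A K L, ← map_pow,
      ← map_mul, hξ]
  have hSm : (scaleRoots P (π ^ m)).Monic := (monic_scaleRoots_iff _).mpr hPm
  have hSd : (scaleRoots P (π ^ m)).natDegree = p := by rw [natDegree_scaleRoots, hPd]
  have hroot : aeval (algebraMap A L (π ^ m) * z) (scaleRoots P (π ^ m) - C a) = 0 := by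
    rw [map_sub, aeval_C, aeval_def, scaleRoots_eval₂_mul, ← aeval_def, hz, hPd, map_pow,
      ← pow_mul, mul_comm m p, mul_comm (algebraMap A L π ^ (p * m)), hX, sub_self]
  have hπ0 : residue A π = 0 := (residue_eq_zero_iff _).mpr (pi_mem hπ)
  have hHmap : (scaleRoots P (π ^ m) - C a).map (residue A) = X ^ p - C (residue A a) := by
    rw [Polynomial.map_sub, scaleRoots_map hζ hP hπ0 hm, map_C]
  haveI : Module.Finite K L := gen_finite _ (kf_monic hζ hP ξ) z (kf_aeval ξ z hz) hgen
  exact case4_of_inert hπ p _ _ (monic_sub_C' hSm (hSd ▸ hp.pos) a)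
    (by rw [natDegree_sub_C, hSd]) a hHmap hres hroot
    (gen_finrank_le _ (kf_monic hζ hP ξ) (kf_natDegree hζ hP ξ) z (kf_aeval ξ z hz) hgen)

include hπ in
omit [CharP (ResidueField A) p] in
theorem kummer_ram (y : L) (hgeny : K⟮y⟯ = ⊤) (u₁ : Aˣ) (v : ℕ) (hv : ¬ p ∣ v)
    (hy : y ^ p = algebraMap A L (u₁ * π ^ v)) :
    EtRam.IsTotallyRamified A (algebraMap A L) ∧ Module.finrank K L = p := by
  have hp := hpf.out
  obtain ⟨s, t, hst⟩ := exists_st hp hv
  have hroot : aeval y (X ^ p - C (algebraMap A K (u₁ * π ^ v)) : K[X]) = 0 := by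
    simp only [map_sub, map_pow, aeval_X, aeval_C]
    rw [hy, ← IsScalarTower.algebraMap_apply, sub_self]
  have hmon : (X ^ p - C (algebraMap A K (u₁ * π ^ v)) : K[X]).Monic :=
    monic_X_pow_sub_C _ hp.ne_zero
  haveI : Module.Finite K L := gen_finite _ hmon y hroot hgeny
  apply ram_of_theta hπ hp.pos (y⁻¹ ^ s * algebraMap A L π ^ t)
    (gen_finrank_le _ hmon (natDegree_X_pow_sub_C) y hroot hgeny)
  intro V h
  have hW : V.valuation y⁻¹ ^ p * V.valuation (algebraMap A L π) ^ v = 1 := by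
    have h1 : V.valuation y ^ p = V.valuation (algebraMap A L π) ^ v := by
      rw [← map_pow, hy, map_mul, map_mul, val_unit h u₁.isUnit, one_mul, map_pow, map_pow]
    rw [map_inv₀, inv_pow, h1]
    exact inv_mul_cancel₀ (pow_ne_zero _ (val_pi_ne_zero K hπ h))
  rw [map_mul, map_pow, map_pow]
  exact pow_calc _ _ p v s t hst hW

include hπ in
theorem kummer_inert (y : L) (hgeny : K⟮y⟯ = ⊤) (c₀ : A)
    (hres : ∀ r : A, residue A c₀ ≠ residue A r ^ p) (hy : y ^ p = algebraMap A L c₀) :
    Case4 A L p := by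
  have hp := hpf.out
  have hroot : aeval y (X ^ p - C c₀ : A[X]) = 0 := by
    simp only [map_sub, map_pow, aeval_X, aeval_C]
    rw [hy, sub_self]
  have hrootK : aeval y (X ^ p - C (algebraMap A K c₀) : K[X]) = 0 := by
    simp only [map_sub, map_pow, aeval_X, aeval_C]
    rw [hy, ← IsScalarTower.algebraMap_apply, sub_self]
  have hmon : (X ^ p - C (algebraMap A K c₀) : K[X]).Monic := monic_X_pow_sub_C _ hp.ne_zero
  haveI : Module.Finite K L := gen_finite _ hmon y hrootK hgeny
  exact case4_of_inert hπ p y (X ^ p - C c₀) (monic_X_pow_sub_C c₀ hp.ne_zero)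
    (natDegree_X_pow_sub_C) c₀ (by simp [Polynomial.map_sub, Polynomial.map_pow]) hres hroot
    (gen_finrank_le _ hmon (natDegree_X_pow_sub_C) y hrootK hgeny)

end KCase

end Groth.Agent.Lib.Helper27.KR
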