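import Mathlib
import Groth.Prelude.Def_EtRam
import Groth.Agent.Lib.Helper27.KR5

/-! Kummer-type extensions: the descent giving the four-way classification. -/

set_option autoImplicit false

namespace Groth.Agent.Lib.Helper27.KR
open IsLocalRing Polynomial IntermediateField
open Groth.Agent.Lib.Helper27.ASR

universe u

/-- The four-way classification. -/
def Cases (A K L : Type u) [CommRing A] [IsDomain A] [IsDiscreteValuationRing A] [Field K]
    [Field L] [Algebra K L] [Algebra A L] (p : ℕ) : Prop :=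
  Module.finrank K L = 1 ∨
    (EtRam.IsUnramifiedExt A (algebraMap A L) ∧ Module.finrank K L = p) ∨
    (EtRam.IsTotallyRamified A (algebraMap A L) ∧ Module.finrank K L = p) ∨
    Case4 A L p

section KDescent
variable {A : Type u} {K : Type u} [CommRing A] [IsDomain A] [IsDiscreteValuationRing A]
  [Field K] [Algebra A K] [IsFractionRing A K] {π : A}
  (hπ : maximalIdeal A = Ideal.span {π})
  {L : Type u} [Field L] [Algebra K L] [Algebra A L] [IsScalarTower A K L]
  {p : ℕ} [hpf : Fact p.Prime] [CharP (ResidueField A) p] {ζ : A} (hζ : IsPrimitiveRoot ζ p)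
  {P : A[X]} (hP : C ((1 - ζ) ^ p) * P = (1 + C (1 - ζ) * X) ^ p - 1)

include hπ in
omit hpf [CharP (ResidueField A) p] in
theorem dvr_not_dvd {ν : A} {k : ℕ} (hnd : ¬ ν ∣ π ^ k) : ∃ ν' : A, ν = π ^ (k + 1) * ν' := by
  by_cases hν0 : ν = 0
  · exact ⟨0, by rw [hν0, mul_zero]⟩
  obtain ⟨j, u', hu'⟩ :=
    IsDiscreteValuationRing.eq_unit_mul_pow_irreducible hν0 (pi_irreducible hπ)
  by_cases hjk : j ≤ k
  · exfalso
    apply hnd
    refine ⟨↑u'⁻¹ * π ^ (k - j), ?_⟩
    rw [hu']
    have h1 : (↑u' : A) * ↑u'⁻¹ = 1 := Units.mul_inv u'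
    calc π ^ k = π ^ j * π ^ (k - j) := by rw [← pow_add, Nat.add_sub_cancel' hjk]
      _ = ↑u' * π ^ j * (↑u'⁻¹ * π ^ (k - j)) := by
          linear_combination (-(π ^ j * π ^ (k - j))) * h1
  · refine ⟨↑u' * π ^ (j - (k + 1)), ?_⟩
    rw [hu']
    have h2 : j = (k + 1) + (j - (k + 1)) := by omega
    conv_lhs => rw [h2, pow_add]
    ring

include hπ hζ hP in
theorem kstep_std (m k : ℕ) (hk : m + 1 = p * k) (ξ : K) (z : L)
    (hz : aeval z P = algebraMap K L ξ) (hgen : K⟮z⟯ = ⊤) (a r νs b' : A)
    (ha : ξ * algebraMap A K π ^ (m + 1) = algebraMap A K a)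
    (hν : π ^ k = (π ^ k + (1 - ζ) * r) * νs)
    (hb' : a - eval r (scaleRoots P (π ^ k)) = π * b') :
    ∃ (ξ' : K) (z' : L), aeval z' P = algebraMap K L ξ' ∧ K⟮z'⟯ = ⊤ ∧
      ∃ a' : A, ξ' * algebraMap A K π ^ m = algebraMap A K a' := by
  have hp := hpf.out
  have hPd := P_natDegree hp hζ hP
  have hw0 : (1 - ζ) ≠ 0 := sub_ne_zero.mpr (hζ.ne_one hp.one_lt).symm
  have hP0 : algebraMap A K π ≠ 0 := iota_pi_ne_zero K hπ
  have hPk0 : algebraMap A K π ^ k ≠ 0 := pow_ne_zero _ hP0
  obtain ⟨η, hη⟩ : ∃ η : K, η = algebraMap A K r / algebraMap A K π ^ k := ⟨_, rfl⟩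
  have hηmul : algebraMap A K (π ^ k) * η = algebraMap A K r := by
    rw [hη, map_pow, mul_div_cancel₀ _ hPk0]
  have hinv : (1 + algebraMap A K (1 - ζ) * η) * algebraMap A K νs = 1 := by
    have h1 := congrArg (algebraMap A K) hν
    rw [map_mul, map_add, map_mul, map_pow] at h1
    have h2 : (1 + algebraMap A K (1 - ζ) * η)
        = (algebraMap A K π ^ k + algebraMap A K (1 - ζ) * algebraMap A K r)
          / algebraMap A K π ^ k := by
      rw [hη]
      field_simp
    rw [h2, div_mul_eq_mul_div, ← h1, div_self hPk0]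
  have hνs0 : algebraMap A K νs ≠ 0 := right_ne_zero_of_mul_eq_one hinv
  have hD0K : 1 + algebraMap A K (1 - ζ) * η ≠ 0 := left_ne_zero_of_mul_eq_one hinv
  have hPη := P_eval hP (R := K) η
  have hE : (1 + algebraMap A K (1 - ζ) ^ p * aeval η P) * algebraMap A K νs ^ p = 1 := by
    have h3 : 1 + algebraMap A K (1 - ζ) ^ p * aeval η P
        = (1 + algebraMap A K (1 - ζ) * η) ^ p := by
      rw [hPη]
      ring
    rw [h3, ← mul_pow, hinv, one_pow]
  -- the new generator
  have hgen' := adjoin_affine (L := L) z (algebraMap A K νs) (-η * algebraMap A K νs) hνs0 hgen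
  have hWL : algebraMap A L (1 - ζ) = algebraMap K L (algebraMap A K (1 - ζ)) :=
    IsScalarTower.algebraMap_apply A K L _
  have hWL0 : algebraMap A L (1 - ζ) ≠ 0 :=
    (map_ne_zero_iff _ (algebraMap_AL_injective A K L)).mpr hw0
  have hinvL : (1 + algebraMap A L (1 - ζ) * algebraMap K L η)
      * algebraMap K L (algebraMap A K νs) = 1 := by
    have h4 := congrArg (algebraMap K L) hinv
    rw [map_mul, map_add, map_one, map_mul] at h4
    rw [hWL]
    exact h4
  have hD0 : 1 + algebraMap A L (1 - ζ) * algebraMap K L η ≠ 0 :=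
    left_ne_zero_of_mul_eq_one hinvL
  have hz'eq : algebraMap K L (algebraMap A K νs) * z
      + algebraMap K L (-η * algebraMap A K νs)
      = (z - algebraMap K L η) / (1 + algebraMap A L (1 - ζ) * algebraMap K L η) := by
    rw [eq_div_iff hD0, map_mul, map_neg]
    linear_combination (z - algebraMap K L η) * hinvL
  have hsub := subst_formula (algebraMap A L (1 - ζ)) hWL0 p (fun x => aeval x P)
    (fun x => P_eval hP x) z (algebraMap K L η) hD0
  rw [aeval_algebraMap_apply, hz, ← hz'eq] at hsub
  have hEL : (1 + algebraMap A L (1 - ζ) ^ p * algebraMap K L (aeval η P))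
      * algebraMap K L (algebraMap A K νs ^ p) = 1 := by
    have h5 := congrArg (algebraMap K L) hE
    rw [map_mul, map_add, map_one, map_mul, map_pow] at h5
    rw [hWL]
    exact h5
  have hS : algebraMap A K (eval r (scaleRoots P (π ^ k)))
      = algebraMap A K π ^ (m + 1) * aeval η P := by
    have h6 := scaleRoots_eval₂_mul (p := P) (algebraMap A K) η (π ^ k)
    rw [hηmul, eval₂_at_apply, hPd, ← aeval_def, map_pow, ← pow_mul, mul_comm k p, ← hk] at h6
    exact h6
  have hb'K : algebraMap A K a - algebraMap A K (eval r (scaleRoots P (π ^ k)))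
      = algebraMap A K π * algebraMap A K b' := by
    rw [← map_sub, hb', map_mul]
  have hkey : (ξ - aeval η P) * algebraMap A K π ^ m = algebraMap A K b' := by
    apply mul_right_cancel₀ hP0
    rw [hS] at hb'K
    linear_combination ha + hb'K
  refine ⟨(ξ - aeval η P) * algebraMap A K νs ^ p,
    algebraMap K L (algebraMap A K νs) * z + algebraMap K L (-η * algebraMap A K νs),
    ?_, hgen', b' * νs ^ p, ?_⟩
  · calc aeval (algebraMap K L (algebraMap A K νs) * z
          + algebraMap K L (-η * algebraMap A K νs)) P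
        = aeval (algebraMap K L (algebraMap A K νs) * z
            + algebraMap K L (-η * algebraMap A K νs)) P
          * ((1 + algebraMap A L (1 - ζ) ^ p * algebraMap K L (aeval η P))
            * algebraMap K L (algebraMap A K νs ^ p)) := by rw [hEL, mul_one]
      _ = (algebraMap K L ξ - algebraMap K L (aeval η P))
          * algebraMap K L (algebraMap A K νs ^ p) := by rw [← mul_assoc, hsub]
      _ = algebraMap K L ((ξ - aeval η P) * algebraMap A K νs ^ p) := by
          rw [map_mul, map_sub]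
  · rw [map_mul, map_pow, ← hkey]
    ring

include hπ hζ hP in
theorem kstep_edge (m k : ℕ) (hk : m + 1 = p * k)
    (ih : ∀ (ξ : K) (z : L), aeval z P = algebraMap K L ξ → K⟮z⟯ = ⊤ →
      (∃ a : A, ξ * algebraMap A K π ^ m = algebraMap A K a) → Cases A K L p)
    (ξ : K) (z : L) (hz : aeval z P = algebraMap K L ξ) (hgen : K⟮z⟯ = ⊤) (a : A)
    (ha : ξ * algebraMap A K π ^ (m + 1) = algebraMap A K a) (u : Aˣ)
    (hu : 1 - ζ = π ^ k * u) : Cases A K L p := by
  have hp := hpf.out
  have hw0 : (1 - ζ) ≠ 0 := sub_ne_zero.mpr (hζ.ne_one hp.one_lt).symm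
  have hP0 : algebraMap A K π ≠ 0 := iota_pi_ne_zero K hπ
  have hW0 : algebraMap A K (1 - ζ) ≠ 0 :=
    (map_ne_zero_iff _ (IsFractionRing.injective A K)).mpr hw0
  have hWL0 : algebraMap A L (1 - ζ) ≠ 0 :=
    (map_ne_zero_iff _ (algebraMap_AL_injective A K L)).mpr hw0
  have hGL0 : algebraMap A L π ≠ 0 :=
    (map_ne_zero_iff _ (algebraMap_AL_injective A K L)).mpr (pi_ne_zero hπ)
  obtain ⟨hy, hgeny⟩ := kummer_y hP hw0 ξ z hz hgen
  obtain ⟨y, hydef⟩ : ∃ y : L,
      y = algebraMap K L (algebraMap A K (1 - ζ)) * z + algebraMap K L 1 := ⟨_, rfl⟩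
  rw [← hydef] at hy hgeny
  have hWp : algebraMap A K (1 - ζ) ^ p
      = algebraMap A K π ^ (m + 1) * algebraMap A K (u : A) ^ p := by
    rw [hu, map_mul, map_pow, mul_pow, ← pow_mul, mul_comm k p, ← hk]
  have hc₁ : 1 + algebraMap A K (1 - ζ) ^ p * ξ = algebraMap A K (1 + (u : A) ^ p * a) := by
    rw [hWp, map_add, map_one, map_mul, map_pow]
    linear_combination (algebraMap A K (u : A)) ^ p * ha
  have hy' : y ^ p = algebraMap A L (1 + (u : A) ^ p * a) := by
    rw [hy, hc₁, ← IsScalarTower.algebraMap_apply]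
  by_cases hc0 : 1 + (u : A) ^ p * a = 0
  · left
    rw [hc0, map_zero] at hy'
    have hy0 : y = 0 := (pow_eq_zero_iff hp.ne_zero).mp hy'
    exact finrank_one_of_mem_bot y (by rw [hy0]; exact zero_mem _) hgeny
  · obtain ⟨v, u₁, hu₁⟩ :=
      IsDiscreteValuationRing.eq_unit_mul_pow_irreducible hc0 (pi_irreducible hπ)
    by_cases hpv : p ∣ v
    · obtain ⟨j, rfl⟩ := hpv
      obtain ⟨y₁, hy₁def⟩ : ∃ y₁ : L,
          y₁ = algebraMap K L ((algebraMap A K π ^ j)⁻¹) * y + algebraMap K L 0 := ⟨_, rfl⟩
      have hgen₁ : K⟮y₁⟯ = ⊤ := by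
        rw [hy₁def]
        exact adjoin_affine y _ 0 (inv_ne_zero (pow_ne_zero _ hP0)) hgeny
      have halg : algebraMap K L ((algebraMap A K π ^ j)⁻¹) = (algebraMap A L π ^ j)⁻¹ := by
        rw [map_inv₀, map_pow, ← IsScalarTower.algebraMap_apply]
      have hy₁ : y₁ ^ p = algebraMap A L (u₁ : A) := by
        rw [hy₁def, halg, map_zero, add_zero, mul_pow, hy', hu₁, map_mul, map_pow, inv_pow,
          ← pow_mul, mul_comm j p, mul_comm (algebraMap A L (u₁ : A)),
          inv_mul_cancel_left₀ (pow_ne_zero _ hGL0)]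
      by_cases hres : ∀ r : A, residue A (u₁ : A) ≠ residue A r ^ p
      · exact Or.inr (Or.inr (Or.inr (kummer_inert hπ y₁ hgen₁ (u₁ : A) hres hy₁)))
      · push Not at hres
        obtain ⟨s, hs⟩ := hres
        have hsu : IsUnit s := by
          rw [← residue_ne_zero_iff_isUnit]
          intro h0
          have h7 : residue A (u₁ : A) = 0 := by rw [hs, h0, zero_pow hp.ne_zero]
          exact (residue_ne_zero_iff_isUnit _).mpr u₁.isUnit h7
        obtain ⟨σ, hσ⟩ := hsu.exists_right_inv
        have hc₂ : (u₁ : A) * σ ^ p - 1 ∈ maximalIdeal A := by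
          rw [← residue_eq_zero_iff, map_sub, map_mul, map_pow, hs, ← mul_pow, ← map_mul, hσ,
            map_one, one_pow, sub_self]
        obtain ⟨d, hd⟩ := (mem_max_iff hπ).mp hc₂
        have hσ0 : algebraMap A K σ ≠ 0 := by
          intro h0
          have h8 := congrArg (algebraMap A K) hσ
          rw [map_mul, h0, mul_zero, map_one] at h8
          exact zero_ne_one h8
        obtain ⟨z₂, hz₂def⟩ : ∃ z₂ : L,
            z₂ = algebraMap K L (algebraMap A K σ / algebraMap A K (1 - ζ)) * y₁
              + algebraMap K L (-(1 / algebraMap A K (1 - ζ))) := ⟨_, rfl⟩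
        have hgen₂ : K⟮z₂⟯ = ⊤ := by
          rw [hz₂def]
          exact adjoin_affine y₁ _ _ (div_ne_zero hσ0 hW0) hgen₁
        have h1 : 1 + algebraMap A L (1 - ζ) * z₂ = algebraMap A L σ * y₁ := by
          rw [hz₂def, map_div₀, map_neg, map_div₀, map_one,
            ← IsScalarTower.algebraMap_apply, ← IsScalarTower.algebraMap_apply]
          field_simp
          ring
        have hPz₂ := P_eval hP (R := L) z₂
        have h10 : algebraMap A L σ ^ p * algebraMap A L (u₁ : A) - 1
            = algebraMap A L (π * d) := by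
          rw [← hd, map_sub, map_mul, map_pow, map_one]
          ring
        rw [h1, mul_pow, hy₁, h10] at hPz₂
        have hz₂ : aeval z₂ P
            = algebraMap K L (algebraMap A K (π * d) / algebraMap A K (1 - ζ) ^ p) := by
          rw [map_div₀, map_pow, ← IsScalarTower.algebraMap_apply,
            ← IsScalarTower.algebraMap_apply, eq_div_iff (pow_ne_zero _ hWL0), mul_comm]
          exact hPz₂
        apply ih _ z₂ hz₂ hgen₂
        refine ⟨d * ((u⁻¹ : Aˣ) : A) ^ p, ?_⟩
        have h9 : algebraMap A K ((u⁻¹ : Aˣ) : A) ^ p * algebraMap A K (u : A) ^ p = 1 := by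
          rw [← mul_pow, ← map_mul, Units.inv_mul, map_one, one_pow]
        have hne : algebraMap A K π ^ (m + 1) * algebraMap A K (u : A) ^ p ≠ 0 :=
          hWp ▸ pow_ne_zero _ hW0
        rw [hWp, div_mul_eq_mul_div, div_eq_iff hne, map_mul, map_mul, map_pow]
        linear_combination (-(algebraMap A K d * algebraMap A K π ^ (m + 1))) * h9
    · exact Or.inr (Or.inr (Or.inl (kummer_ram hπ y hgeny u₁ v hpv (by rw [hy', hu₁]))))

include hπ hζ hP in
theorem kdescent (m : ℕ) :
    ∀ (ξ : K) (z : L), aeval z P = algebraMap K L ξ → K⟮z⟯ = ⊤ →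
      (∃ a : A, ξ * algebraMap A K π ^ m = algebraMap A K a) → Cases A K L p := by
  have hp := hpf.out
  have hπ0 : residue A π = 0 := (residue_eq_zero_iff _).mpr (pi_mem hπ)
  induction m with
  | zero =>
    rintro ξ z hz hgen ⟨a, ha⟩
    rw [pow_zero, mul_one] at ha
    rcases kcaseA hπ hζ hP ξ z hz hgen a ha.symm with h1 | h2
    · exact Or.inl h1
    · exact Or.inr (Or.inl h2)
  | succ m ih =>
    rintro ξ z hz hgen ⟨a, ha⟩
    by_cases hau : a ∈ maximalIdeal A
    · obtain ⟨a', rfl⟩ := (mem_max_iff hπ).mp hau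
      apply ih ξ z hz hgen
      refine ⟨a', ?_⟩
      rw [pow_succ, ← mul_assoc, map_mul, mul_comm (algebraMap A K π)] at ha
      exact mul_right_cancel₀ (iota_pi_ne_zero K hπ) ha
    · have hunit : IsUnit a := by
        rwa [mem_maximalIdeal, mem_nonunits_iff, not_not] at hau
      by_cases hpm : p ∣ m + 1
      · by_cases hres : ∀ r : A, residue A a ≠ residue A r ^ p
        · exact Or.inr (Or.inr (Or.inr
            (kcaseC hπ hζ hP ξ z hz hgen (m + 1) a (Nat.succ_pos m) hpm hres ha)))
        · push Not at hres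
          obtain ⟨r, hr⟩ := hres
          obtain ⟨k, hk⟩ := hpm
          have hk0 : 0 < k := Nat.pos_of_ne_zero (by rintro rfl; simp at hk)
          by_cases hdiv : (π ^ k + (1 - ζ) * r) ∣ π ^ k
          · obtain ⟨νs, hνs⟩ := hdiv
            have hb : a - eval r (scaleRoots P (π ^ k)) ∈ maximalIdeal A := by
              rw [← residue_eq_zero_iff, map_sub, ← eval₂_at_apply, ← eval_map,
                scaleRoots_map hζ hP hπ0 hk0, eval_pow, eval_X, hr, sub_self]
            obtain ⟨b', hb'⟩ := (mem_max_iff hπ).mp hb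
            obtain ⟨ξ', z', hz', hgen', ha'⟩ :=
              kstep_std hπ hζ hP m k hk ξ z hz hgen a r νs b' ha hνs hb'
            exact ih ξ' z' hz' hgen' ha'
          · obtain ⟨ν', hν'⟩ := dvr_not_dvd hπ hdiv
            have hru : IsUnit r := by
              rw [← residue_ne_zero_iff_isUnit]
              intro h0
              have h7 : residue A a = 0 := by rw [hr, h0, zero_pow hp.ne_zero]
              exact (residue_ne_zero_iff_isUnit _).mpr hunit h7
            obtain ⟨ρ, hρ⟩ := hru.exists_right_inv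
            have hu1 : IsUnit (π * ν' - 1) := by
              have h8 := isUnit_one_add (x := -(π * ν'))
                (neg_mem (Ideal.mul_mem_right _ _ (pi_mem hπ)))
              have e : π * ν' - 1 = -(1 + -(π * ν')) := by ring
              rw [e]
              exact h8.neg
            have hρu : IsUnit ρ := IsUnit.of_mul_eq_one r (by rw [mul_comm]; exact hρ)
            have huu : IsUnit ((π * ν' - 1) * ρ) := hu1.mul hρu
            have hwu : 1 - ζ = π ^ k * ((π * ν' - 1) * ρ) := by
              have h1 : (1 - ζ) * r = π ^ k * (π * ν' - 1) := by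
                have h9 := hν'
                rw [pow_succ] at h9
                linear_combination h9
              calc 1 - ζ = (1 - ζ) * (r * ρ) := by rw [hρ, mul_one]
                _ = (1 - ζ) * r * ρ := by ring
                _ = π ^ k * ((π * ν' - 1) * ρ) := by rw [h1]; ring
            exact kstep_edge hπ hζ hP m k hk ih ξ z hz hgen a ha huu.unit
              (by rw [IsUnit.unit_spec]; exact hwu)
      · exact Or.inr (Or.inr (Or.inl (kcaseB hπ hζ hP ξ z hz hgen (m + 1) hunit.unit
          (Nat.succ_pos m) hpm (by rw [IsUnit.unit_spec]; exact ha))))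

end KDescent

end Groth.Agent.Lib.Helper27.KR
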