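import Mathlib

/-! The ring `A' = A[z]/(z^e - π)` for a local ring `A` with maximal ideal `(π)`. -/

set_option autoImplicit false

namespace Groth.Agent.Lib.Helper27.KU
open IsLocalRing Polynomial

universe u

section
variable {A : Type u} [CommRing A] [IsLocalRing A] (π : A) (e : ℕ)

local notation "A'" => AdjoinRoot (X ^ e - C π : A[X])
local notation "z" => AdjoinRoot.root (X ^ e - C π : A[X])
local notation "ofA" => AdjoinRoot.of (X ^ e - C π : A[X])

theorem root_pow : (z) ^ e = ofA π := by
  have h := AdjoinRoot.eval₂_root (X ^ e - C π : A[X])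
  rw [eval₂_sub, eval₂_X_pow, eval₂_C, sub_eq_zero] at h
  exact h

theorem exists_eq_add (x : A') : ∃ (a : A) (y : A'), x = ofA a + z * y := by
  obtain ⟨p, rfl⟩ := AdjoinRoot.mk_surjective x
  refine ⟨p.coeff 0, AdjoinRoot.mk _ p.divX, ?_⟩
  conv_lhs => rw [← Polynomial.divX_mul_X_add p]
  rw [map_add, map_mul, AdjoinRoot.mk_X, AdjoinRoot.mk_C, add_comm, mul_comm]

variable (hπ : maximalIdeal A = Ideal.span {π}) (he : 0 < e)
include hπ he

theorem pi_mem : π ∈ maximalIdeal A := by
  rw [hπ]; exact Ideal.mem_span_singleton_self _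

/-- The map `A' → A/m`, `z ↦ 0`. -/
noncomputable def phi : A' →+* ResidueField A :=
  AdjoinRoot.lift (residue A) 0 (by
    rw [eval₂_sub, eval₂_X_pow, eval₂_C, zero_pow he.ne', zero_sub, neg_eq_zero,
      residue_eq_zero_iff]
    exact pi_mem π e hπ he)

theorem phi_of (a : A) : phi π e hπ he (ofA a) = residue A a := AdjoinRoot.lift_of _

theorem phi_root : phi π e hπ he (z) = 0 := AdjoinRoot.lift_root _

theorem phi_surjective : Function.Surjective (phi π e hπ he) := by
  intro x
  obtain ⟨a, rfl⟩ := residue_surjective x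
  exact ⟨ofA a, phi_of π e hπ he a⟩

theorem of_mem_span_root {a : A} (ha : a ∈ maximalIdeal A) : ofA a ∈ Ideal.span {z} := by
  rw [hπ, Ideal.mem_span_singleton] at ha
  obtain ⟨c, rfl⟩ := ha
  rw [map_mul, ← root_pow, Ideal.mem_span_singleton]
  have he1 : (z) ^ e = z * (z) ^ (e - 1) := by
    rw [← pow_succ', Nat.sub_add_cancel he]
  refine ⟨(z) ^ (e - 1) * ofA c, ?_⟩
  rw [he1]
  ring

theorem ker_phi : RingHom.ker (phi π e hπ he) = Ideal.span {z} := by
  apply le_antisymm
  · intro x hx
    rw [RingHom.mem_ker] at hx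
    obtain ⟨a, y, rfl⟩ := exists_eq_add π e x
    rw [map_add, map_mul, phi_root, zero_mul, add_zero, phi_of, residue_eq_zero_iff] at hx
    exact Ideal.add_mem _ (of_mem_span_root π e hπ he hx)
      (Ideal.mul_mem_right _ _ (Ideal.mem_span_singleton_self _))
  · rw [Ideal.span_singleton_le_iff_mem, RingHom.mem_ker]
    exact phi_root π e hπ he

theorem span_root_isMaximal : (Ideal.span {z} : Ideal A').IsMaximal := by
  rw [← ker_phi π e hπ he]
  exact RingHom.ker_isMaximal_of_surjective _ (phi_surjective π e hπ he)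

theorem isLocalRing : IsLocalRing A' := by
  have hmon : (X ^ e - C π : A[X]).Monic := monic_X_pow_sub_C π he.ne'
  haveI : Module.Finite A A' := hmon.finite_adjoinRoot
  haveI : Algebra.IsIntegral A A' := Algebra.IsIntegral.of_finite A A'
  haveI hmax := span_root_isMaximal π e hπ he
  refine IsLocalRing.of_unique_max_ideal ⟨Ideal.span {z}, hmax, fun M hM => ?_⟩
  haveI : M.IsMaximal := hM
  have h1 : (M.comap (algebraMap A A')).IsMaximal :=
    Ideal.isMaximal_comap_of_isIntegral_of_isMaximal M
  have h2 : M.comap (algebraMap A A') = maximalIdeal A := IsLocalRing.eq_maximalIdeal h1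
  have h3 : ofA π ∈ M := by
    have : π ∈ M.comap (algebraMap A A') := by rw [h2]; exact pi_mem π e hπ he
    exact this
  rw [← root_pow] at h3
  have h4 : z ∈ M := hM.isPrime.mem_of_pow_mem _ h3
  have h5 : Ideal.span {z} ≤ M := (Ideal.span_singleton_le_iff_mem _).mpr h4
  exact (hmax.eq_of_le hM.ne_top h5).symm

variable [IsLocalRing (AdjoinRoot (X ^ e - C π : A[X]))]

theorem maximalIdeal_eq : maximalIdeal A' = Ideal.span {z} :=
  (IsLocalRing.eq_maximalIdeal (span_root_isMaximal π e hπ he)).symm

theorem isLocalHom_of : IsLocalHom (algebraMap A A') := by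
  constructor
  intro a ha
  by_contra hna
  have h1 : a ∈ maximalIdeal A := (mem_maximalIdeal a).mpr hna
  have h2 : ofA a ∈ maximalIdeal A' := by
    rw [maximalIdeal_eq π e hπ he]
    exact of_mem_span_root π e hπ he h1
  exact (mem_maximalIdeal _).mp h2 ha

theorem residue_surj (x : A') : ∃ a : A, residue A' x = residue A' (ofA a) := by
  obtain ⟨a, y, rfl⟩ := exists_eq_add π e x
  refine ⟨a, ?_⟩
  rw [map_add, add_eq_left, residue_eq_zero_iff, maximalIdeal_eq π e hπ he]
  exact Ideal.mul_mem_right _ _ (Ideal.mem_span_singleton_self _)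

end

end Groth.Agent.Lib.Helper27.KU
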