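import Mathlib
import Groth.Prelude.Def_EtRam
import Groth.Agent.Lib.Helper27.KU1
import Groth.Agent.Lib.Helper27.TBC4

/-! A tamely ramified extension becomes unramified after adjoining a root of the uniformizer. -/

set_option autoImplicit false

namespace Groth.Agent.Lib.Helper27.KU
open IsLocalRing Polynomial TensorProduct

universe u

theorem main {A K L : Type u} [CommRing A] [IsDomain A]
    [IsDiscreteValuationRing A] [Field K] [Algebra A K] [IsFractionRing A K] [Field L] [Algebra K L]
    [Algebra A L] [IsScalarTower A K L] [FiniteDimensional K L] [Algebra.IsSeparable K L]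
    (π : A) (hπ : maximalIdeal A = Ideal.span {π}) (e : ℕ) (he : 0 < e)
    (htame : EtRam.IsTamelyRamified A (algebraMap A L))
    (hdiv : ∀ (V : ValuationSubring L) (hV : EtRam.Dominates A (algebraMap A L) V),
      letI : Algebra A V := (RingHom.codRestrict (algebraMap A L) V hV.1).toAlgebra
      Ideal.ramificationIdx' (maximalIdeal A) (maximalIdeal V) ∣ e)
    (M : Type u) [Field M] [Algebra K M] [FiniteDimensional K M] [Algebra L M] [IsScalarTower K L M]
    [Algebra (AdjoinRoot (X ^ e - C π : A[X])) M]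
    (hcompat : (algebraMap (AdjoinRoot (X ^ e - C π : A[X])) M).comp
      (AdjoinRoot.of (X ^ e - C π)) = (algebraMap K M).comp (algebraMap A K))
    (hgen : Algebra.adjoin L {algebraMap (AdjoinRoot (X ^ e - C π : A[X])) M
      (AdjoinRoot.root (X ^ e - C π))} = ⊤)
    [IsLocalRing (AdjoinRoot (X ^ e - C π : A[X]))] :
    EtRam.IsUnramifiedExt (AdjoinRoot (X ^ e - C π : A[X]))
      (algebraMap (AdjoinRoot (X ^ e - C π : A[X])) M) := by
  classical
  intro W hW hlocW
  letI algA'W : Algebra (AdjoinRoot (X ^ e - C π : A[X])) W :=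
    (RingHom.codRestrict (algebraMap (AdjoinRoot (X ^ e - C π : A[X])) M) W hW.1).toAlgebra
  haveI hlocAA' : IsLocalHom (algebraMap A (AdjoinRoot (X ^ e - C π : A[X]))) :=
    isLocalHom_of π e hπ he
  have hmA' := maximalIdeal_eq π e hπ he
  -- algebra structures on `M`
  letI algAM : Algebra A M := ((algebraMap K M).comp (algebraMap A K)).toAlgebra
  haveI : IsScalarTower A K M := .of_algebraMap_eq fun _ => rfl
  have hAM : ∀ a : A, algebraMap A M a = algebraMap L M (algebraMap A L a) := by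
    intro a
    show algebraMap K M (algebraMap A K a) = _
    rw [IsScalarTower.algebraMap_apply A K L, ← IsScalarTower.algebraMap_apply K L M]
  haveI : IsScalarTower A L M := .of_algebraMap_eq hAM
  have hAM' : ∀ a : A, algebraMap A M a =
      algebraMap (AdjoinRoot (X ^ e - C π : A[X])) M (AdjoinRoot.of _ a) := by
    intro a
    exact (RingHom.congr_fun hcompat a).symm
  haveI : IsScalarTower A (AdjoinRoot (X ^ e - C π : A[X])) M := .of_algebraMap_eq hAM'
  have hWA : EtRam.Dominates A (algebraMap A M) W := by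
    refine ⟨fun a => ?_, fun a ha => ?_⟩
    · rw [hAM']; exact hW.1 _
    · rw [hAM']
      refine hW.2 _ ?_
      exact (mem_maximalIdeal _).mpr (map_nonunit (algebraMap A (AdjoinRoot (X ^ e - C π : A[X])))
        a ((mem_maximalIdeal a).mp ha))
  have hV : EtRam.Dominates A (algebraMap A L) (W.comap (algebraMap L M)) :=
    TT.dominates_comap hWA
  letI algAV : Algebra A (W.comap (algebraMap L M)) :=
    (RingHom.codRestrict (algebraMap A L) (W.comap (algebraMap L M)) hV.1).toAlgebra
  haveI hlocV : IsLocalHom (algebraMap A (W.comap (algebraMap L M))) :=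
    TT.isLocalHom_of_dominates hV (fun _ => rfl)
  obtain ⟨hsepres, htameV⟩ := htame (W.comap (algebraMap L M)) hV
  haveI : Algebra.EssFiniteType A (W.comap (algebraMap L M)) :=
    UBC.essFiniteType_of_dominates (K := K) hV (fun _ => rfl)
  haveI : IsDiscreteValuationRing (W.comap (algebraMap L M)) :=
    WU.isDVR_of_dominates_finite (K := K) hV
  haveI : IsDiscreteValuationRing W := WU.isDVR_of_dominates_finite (K := K) (A := A) hWA
  haveI hEred : IsReduced (ResidueField (AdjoinRoot (X ^ e - C π : A[X])) ⊗[ResidueField A]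
      ResidueField (W.comap (algebraMap L M))) := TBC.isReduced_tensor_residue
  -- algebra structures on `W`
  letI algAW : Algebra A W := ((algebraMap (AdjoinRoot (X ^ e - C π : A[X])) W).comp
    (algebraMap A (AdjoinRoot (X ^ e - C π : A[X])))).toAlgebra
  haveI : IsScalarTower A (AdjoinRoot (X ^ e - C π : A[X])) W := .of_algebraMap_eq fun _ => rfl
  letI algVW : Algebra (W.comap (algebraMap L M)) W :=
    (EtRam.inclOfComap W (algebraMap L M)).toAlgebra
  haveI hlocVW : IsLocalHom (algebraMap (W.comap (algebraMap L M)) W) :=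
    EtRam.isLocalHom_inclOfComap W _
  haveI : IsScalarTower A (W.comap (algebraMap L M)) W := .of_algebraMap_eq fun a => Subtype.ext (by
    show algebraMap (AdjoinRoot (X ^ e - C π : A[X])) M (AdjoinRoot.of _ a) =
      algebraMap L M (algebraMap A L a)
    rw [← hAM', hAM])
  -- uniformizers
  obtain ⟨π', hπ'⟩ := IsDiscreteValuationRing.exists_irreducible (W.comap (algebraMap L M))
  have hπirr : Irreducible π := (IsDiscreteValuationRing.irreducible_iff_uniformizer π).mpr hπ
  have hinjAL : Function.Injective (algebraMap A L) := ASR.algebraMap_AL_injective A K L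
  have hπA0 : algebraMap A (W.comap (algebraMap L M)) π ≠ 0 := by
    intro h0
    have : algebraMap A L π = 0 := congrArg Subtype.val h0
    exact hπirr.ne_zero (hinjAL (by rw [this, map_zero]))
  obtain ⟨e', u', hu'⟩ := IsDiscreteValuationRing.eq_unit_mul_pow_irreducible hπA0 hπ'
  have he' : Ideal.ramificationIdx' (maximalIdeal A)
      (maximalIdeal (W.comap (algebraMap L M))) = e' :=
    WU.ramificationIdx'_eq π hπ π' hπ' e' u' hu'
  have hdvd : e' ∣ e := by
    have := hdiv (W.comap (algebraMap L M)) hV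
    rwa [he'] at this
  obtain ⟨b, hb⟩ := hdvd
  have he'0 : e' ≠ 0 := by
    rintro rfl
    rw [zero_mul] at hb
    omega
  have hb0 : b ≠ 0 := by
    rintro rfl
    rw [mul_zero] at hb
    omega
  have hgk : ((e' : ℕ) : ResidueField A) ≠ 0 := by
    obtain ⟨p, hp⟩ := CharP.exists (ResidueField A)
    rw [Ne, CharP.cast_eq_zero_iff (ResidueField A) p e']
    rcases CharP.char_is_prime_or_zero (ResidueField A) p with hpp | hp0
    · intro hdvd
      exact htameV p hpp hp (by rw [he']; exact hdvd)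
    · rw [hp0, zero_dvd_iff]
      exact he'0
  -- elements of `M`
  have hP0 : algebraMap L M (π' : L) ≠ 0 := by
    apply (_root_.map_ne_zero _).mpr
    intro h0
    exact hπ'.ne_zero (Subtype.ext h0)
  have hAMπ' : algebraMap A M π = algebraMap (AdjoinRoot (X ^ e - C π : A[X])) M
      (AdjoinRoot.root (X ^ e - C π)) ^ e := by
    rw [hAM', ← map_pow, root_pow]
  have hAMπ0 : algebraMap A M π ≠ 0 := by
    rw [hAM]
    apply (_root_.map_ne_zero _).mpr
    intro h0
    exact hπirr.ne_zero (hinjAL (by rw [h0, map_zero]))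
  have hQ0 : algebraMap (AdjoinRoot (X ^ e - C π : A[X])) M (AdjoinRoot.root (X ^ e - C π)) ≠ 0 := by
    intro h0
    rw [h0, zero_pow he.ne'] at hAMπ'
    exact hAMπ0 hAMπ'
  have hAMπ : algebraMap A M π = algebraMap L M ((u' : W.comap (algebraMap L M)) : L) *
      algebraMap L M (π' : L) ^ e' := by
    rw [hAM, ← map_pow, ← map_mul]
    exact congrArg _ (congrArg Subtype.val hu')
  have hθM : (algebraMap L M (π' : L) / algebraMap (AdjoinRoot (X ^ e - C π : A[X])) M
      (AdjoinRoot.root (X ^ e - C π)) ^ b) ^ e' *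
      algebraMap L M ((u' : W.comap (algebraMap L M)) : L) = 1 := by
    rw [div_pow, ← pow_mul, mul_comm b e', ← hb, ← hAMπ', div_mul_eq_mul_div,
      div_eq_iff hAMπ0, one_mul, mul_comm, ← hAMπ]
  have hvu' : W.valuation (algebraMap L M ((u' : W.comap (algebraMap L M)) : L)) = 1 := by
    have h1 : IsUnit (algebraMap (W.comap (algebraMap L M)) W (u' : _)) := u'.isUnit.map _
    exact (W.valuation_eq_one_iff _).mp h1
  have hvθ : W.valuation (algebraMap L M (π' : L) /
      algebraMap (AdjoinRoot (X ^ e - C π : A[X])) M (AdjoinRoot.root (X ^ e - C π)) ^ b) = 1 := by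
    have h1 := congrArg W.valuation hθM
    rw [map_mul, map_pow, hvu', mul_one, map_one] at h1
    exact (pow_eq_one_iff_of_nonneg zero_le he'0).mp h1
  have hrootmem : AdjoinRoot.root (X ^ e - C π : A[X]) ∈
      maximalIdeal (AdjoinRoot (X ^ e - C π : A[X])) := by
    rw [hmA']; exact Ideal.mem_span_singleton_self _
  have hvQ : W.valuation (algebraMap (AdjoinRoot (X ^ e - C π : A[X])) M
      (AdjoinRoot.root (X ^ e - C π))) < 1 := hW.2 _ hrootmem
  let θ : W := ⟨algebraMap L M (π' : L) / algebraMap (AdjoinRoot (X ^ e - C π : A[X])) M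
    (AdjoinRoot.root (X ^ e - C π)) ^ b, (W.valuation_le_one_iff _).mp hvθ.le⟩
  let ϖ : W := algebraMap (AdjoinRoot (X ^ e - C π : A[X])) W (AdjoinRoot.root (X ^ e - C π))
  have hϖmem : ϖ ∈ maximalIdeal W := (W.valuation_lt_one_iff ϖ).mpr hvQ
  have hθ : θ ^ e' * algebraMap (W.comap (algebraMap L M)) W (u' : _) =
      algebraMap (AdjoinRoot (X ^ e - C π : A[X])) W
        ((1 : (AdjoinRoot (X ^ e - C π : A[X]))ˣ) : AdjoinRoot (X ^ e - C π : A[X])) := by
    rw [Units.val_one, map_one]
    exact Subtype.ext hθM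
  have hϖB : algebraMap (AdjoinRoot (X ^ e - C π : A[X])) W (AdjoinRoot.root (X ^ e - C π)) =
      ϖ ^ 1 * θ ^ 0 := by
    rw [pow_one, pow_zero, mul_one]
  have hϖ' : algebraMap (W.comap (algebraMap L M)) W π' = ϖ ^ b * θ ^ 1 := by
    refine Subtype.ext ?_
    show algebraMap L M (π' : L) = algebraMap (AdjoinRoot (X ^ e - C π : A[X])) M
      (AdjoinRoot.root (X ^ e - C π)) ^ b * (algebraMap L M (π' : L) /
        algebraMap (AdjoinRoot (X ^ e - C π : A[X])) M (AdjoinRoot.root (X ^ e - C π)) ^ b) ^ 1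
    rw [pow_one, mul_div_cancel₀ _ (pow_ne_zero _ hQ0)]
  -- the tensor product
  let ψ : (AdjoinRoot (X ^ e - C π : A[X])) ⊗[A] (W.comap (algebraMap L M)) →ₐ[A] W :=
    Algebra.TensorProduct.productMap
      (IsScalarTower.toAlgHom A (AdjoinRoot (X ^ e - C π : A[X])) W)
      (IsScalarTower.toAlgHom A (W.comap (algebraMap L M)) W)
  have hψ : ∀ (x : AdjoinRoot (X ^ e - C π : A[X])) (v : W.comap (algebraMap L M)),
      ((ψ (x ⊗ₜ[A] v) : W) : M) =
        algebraMap (AdjoinRoot (X ^ e - C π : A[X])) M x * algebraMap L M (v : L) :=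
    fun x v => rfl
  let jB : (AdjoinRoot (X ^ e - C π : A[X])) →+*
      (AdjoinRoot (X ^ e - C π : A[X])) ⊗[A] (W.comap (algebraMap L M)) :=
    (Algebra.TensorProduct.includeLeft : (AdjoinRoot (X ^ e - C π : A[X])) →ₐ[A]
      (AdjoinRoot (X ^ e - C π : A[X])) ⊗[A] (W.comap (algebraMap L M))).toRingHom
  let jV : (W.comap (algebraMap L M)) →+*
      (AdjoinRoot (X ^ e - C π : A[X])) ⊗[A] (W.comap (algebraMap L M)) :=
    (Algebra.TensorProduct.includeRight : (W.comap (algebraMap L M)) →ₐ[A]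
      (AdjoinRoot (X ^ e - C π : A[X])) ⊗[A] (W.comap (algebraMap L M))).toRingHom
  have hjj : ∀ (x : AdjoinRoot (X ^ e - C π : A[X])) (v : W.comap (algebraMap L M)),
      jB x * jV v = x ⊗ₜ[A] v := by
    intro x v
    show (x ⊗ₜ[A] (1 : W.comap (algebraMap L M))) *
      ((1 : AdjoinRoot (X ^ e - C π : A[X])) ⊗ₜ[A] v) = _
    rw [Algebra.TensorProduct.tmul_mul_tmul, mul_one, one_mul]
  have hψB : ∀ x : AdjoinRoot (X ^ e - C π : A[X]), ψ.toRingHom (jB x) =
      algebraMap (AdjoinRoot (X ^ e - C π : A[X])) W x := by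
    intro x
    show ψ (x ⊗ₜ[A] (1 : W.comap (algebraMap L M))) = _
    refine Subtype.ext ?_
    rw [hψ]
    show algebraMap (AdjoinRoot (X ^ e - C π : A[X])) M x * algebraMap L M 1 = _
    rw [map_one, mul_one]
    rfl
  have hψV : ∀ v : W.comap (algebraMap L M), ψ.toRingHom (jV v) =
      algebraMap (W.comap (algebraMap L M)) W v := by
    intro v
    show ψ ((1 : AdjoinRoot (X ^ e - C π : A[X])) ⊗ₜ[A] v) = _
    refine Subtype.ext ?_
    rw [hψ, map_one, one_mul]
    rfl
  have hind : ∀ (P : (AdjoinRoot (X ^ e - C π : A[X])) ⊗[A] (W.comap (algebraMap L M)) → Prop),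
      P 0 → (∀ x v, P (jB x * jV v)) → (∀ t t', P t → P t' → P (t + t')) → ∀ t, P t := by
    intro P h0 hmul hadd t
    induction t using TensorProduct.induction_on with
    | zero => exact h0
    | tmul x v => rw [← hjj]; exact hmul x v
    | add t t' ht ht' => exact hadd t t' ht ht'
  obtain ⟨Φ, hΦ, hΦsurj⟩ := WU.exists_Phi A (AdjoinRoot (X ^ e - C π : A[X]))
    (W.comap (algebraMap L M))
  have hΦ' : ∀ x v, Φ (jB x * jV v) = (residue (AdjoinRoot (X ^ e - C π : A[X])) x)
      ⊗ₜ[ResidueField A] (residue (W.comap (algebraMap L M)) v) := by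
    intro x v
    rw [hjj, hΦ]
  -- fractions
  let ψM : (AdjoinRoot (X ^ e - C π : A[X])) ⊗[A] (W.comap (algebraMap L M)) →+* M :=
    W.subtype.comp ψ.toRingHom
  have hψM : ∀ (x : AdjoinRoot (X ^ e - C π : A[X])) (v : W.comap (algebraMap L M)),
      ψM (x ⊗ₜ[A] v) =
        algebraMap (AdjoinRoot (X ^ e - C π : A[X])) M x * algebraMap L M (v : L) :=
    fun _ _ => rfl
  have hfracM : ∀ y : M, WU.IsFrac ψM y := by
    intro y
    have hy : y ∈ Algebra.adjoin L {algebraMap (AdjoinRoot (X ^ e - C π : A[X])) M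
        (AdjoinRoot.root (X ^ e - C π))} := by rw [hgen]; trivial
    induction hy using Algebra.adjoin_induction with
    | mem y hy =>
      rw [Set.mem_singleton_iff] at hy
      have : y = ψM ((AdjoinRoot.root (X ^ e - C π : A[X])) ⊗ₜ[A]
          (1 : W.comap (algebraMap L M))) := by
        rw [hψM, hy]
        show _ = _ * algebraMap L M 1
        rw [map_one, mul_one]
      rw [this]
      exact WU.isFrac_map _
    | algebraMap l =>
      obtain ⟨v₁, v₂, hv₂, rfl⟩ :=
        IsFractionRing.div_surjective (A := W.comap (algebraMap L M)) l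
      have hv₂0 : (v₂ : L) ≠ 0 := fun h0 => nonZeroDivisors.ne_zero hv₂ (Subtype.ext h0)
      have e1 : algebraMap L M (algebraMap _ L v₁ / algebraMap _ L v₂) =
          ψM ((1 : AdjoinRoot (X ^ e - C π : A[X])) ⊗ₜ[A] v₁) /
            ψM ((1 : AdjoinRoot (X ^ e - C π : A[X])) ⊗ₜ[A] v₂) := by
        rw [hψM, hψM, map_one, one_mul, one_mul, map_div₀]
        rfl
      rw [e1]
      refine WU.isFrac_div ?_
      rw [hψM, map_one, one_mul]
      exact (_root_.map_ne_zero _).mpr hv₂0
    | add y y' _ _ hy hy' => exact hy.add hy'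
    | mul y y' _ _ hy hy' => exact hy.mul hy'
  have hfrac : ∀ y : W, ∃ t₁ t₂ : (AdjoinRoot (X ^ e - C π : A[X])) ⊗[A]
      (W.comap (algebraMap L M)), ψ.toRingHom t₂ ≠ 0 ∧ y * ψ.toRingHom t₂ = ψ.toRingHom t₁ := by
    intro y
    obtain ⟨t₁, t₂, h2, h12⟩ := hfracM (y : M)
    exact ⟨t₁, t₂, fun h0 => h2 (by
      show ((ψ t₂ : W) : M) = 0
      rw [show ψ t₂ = 0 from h0]; rfl), Subtype.ext h12⟩
  haveI := hsepres
  haveI : Algebra.IsAlgebraic (ResidueField A) (ResidueField (W.comap (algebraMap L M))) :=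
    Algebra.IsSeparable.isAlgebraic _ _
  obtain ⟨hmax, hall⟩ := TBC.weak_abstract jB jV ψ.toRingHom
    (fun x => by
      show (algebraMap A (AdjoinRoot (X ^ e - C π : A[X])) x) ⊗ₜ[A]
          (1 : W.comap (algebraMap L M)) =
        (1 : AdjoinRoot (X ^ e - C π : A[X])) ⊗ₜ[A]
          (algebraMap A (W.comap (algebraMap L M)) x)
      rw [Algebra.TensorProduct.tmul_one_eq_one_tmul])
    hψB hψV hind Φ hΦ' hΦsurj (AdjoinRoot.root (X ^ e - C π : A[X])) hmA' π'
    hπ'.maximalIdeal_eq e' 1 b 0 1 hgk one_ne_zero hb0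
    1 u' θ ϖ hθ hϖB hϖ' hϖmem (TBC.sep_of_dvr ϖ hϖmem) hfrac
  have hsepW : Algebra.IsSeparable (ResidueField (AdjoinRoot (X ^ e - C π : A[X])))
      (ResidueField W) :=
    TBC.residue_separable jB jV ψ.toRingHom hψB hψV hind e' hgk 1 u' θ ϖ hθ hϖmem hall
  refine ⟨?_, hsepW⟩
  show (maximalIdeal (AdjoinRoot (X ^ e - C π : A[X]))).map
    (algebraMap (AdjoinRoot (X ^ e - C π : A[X])) W) = maximalIdeal W
  rw [hmA', Ideal.map_span, Set.image_singleton, hmax]

end Groth.Agent.Lib.Helper27.KU
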