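import Mathlib
import Groth.Prelude.Def_EtRam
import Groth.Agent.Lib.Helper27.WU8

/-! Powers of a uniformizer are linearly independent over the base fraction field. -/

set_option autoImplicit false

namespace Groth.Agent.Lib.Helper27.WU
open IsLocalRing TensorProduct

universe u

section LinInd
variable {B L M : Type u} [CommRing B] [IsDomain B] [IsDiscreteValuationRing B] [Field L]
  [Algebra B L] [IsFractionRing B L]
  [Field M] [Algebra L M] [Algebra B M] [IsScalarTower B L M]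
  {W : ValuationSubring M} (hW : EtRam.Dominates B (algebraMap B M) W)
  (ϖ : W) (hϖ : ¬ IsUnit ϖ) (πB : B) (hπB : Irreducible πB) (e : ℕ) (c : W)
  (hc : (⟨algebraMap B M πB, hW.1 πB⟩ : W) = ϖ ^ e * c)

include hϖ hπB hc L

theorem dvd_of_sum_eq_zero (β : Fin e → B)
    (hsum : ∑ i : Fin e, (⟨algebraMap B M (β i), hW.1 (β i)⟩ : W) * ϖ ^ (i : ℕ) = 0) :
    ∀ i, πB ∣ β i := by
  classical
  let ι : B →+* W := RingHom.codRestrict (algebraMap B M) W hW.1
  have hιinj : Function.Injective ι := by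
    intro x y hxy
    have h1 : algebraMap B M x = algebraMap B M y := congrArg Subtype.val hxy
    rw [IsScalarTower.algebraMap_apply B L M, IsScalarTower.algebraMap_apply B L M] at h1
    exact IsFractionRing.injective B L ((algebraMap L M).injective h1)
  have hιπ : ι πB = ϖ ^ e * c := hc
  rcases Nat.eq_zero_or_pos e with he | hepos
  · subst he
    intro i; exact i.elim0
  have hϖ0 : ϖ ≠ 0 := by
    rintro rfl
    have : ι πB = 0 := by rw [hιπ, zero_pow hepos.ne', zero_mul]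
    exact hπB.ne_zero (hιinj (by rw [this, map_zero]))
  by_contra hcon
  push_neg at hcon
  obtain ⟨i₀, hi₀⟩ := hcon
  -- minimal bad index
  let S : Finset (Fin e) := Finset.univ.filter fun i => ¬ πB ∣ β i
  have hSne : S.Nonempty := ⟨i₀, by simp [S, hi₀]⟩
  obtain ⟨j, hjS, hjmin⟩ := Finset.exists_min_image S (fun i => (i : ℕ)) hSne
  have hj : ¬ πB ∣ β j := (Finset.mem_filter.mp hjS).2
  have hlt : ∀ i : Fin e, (i : ℕ) < (j : ℕ) → πB ∣ β i := by
    intro i hi
    by_contra hni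
    have := hjmin i (by simp [S, hni])
    omega
  -- every other term is divisible by `ϖ ^ (j+1)`
  let I : Ideal W := Ideal.span {ϖ ^ ((j : ℕ) + 1)}
  have hterm : ∀ i : Fin e, i ≠ j → ι (β i) * ϖ ^ (i : ℕ) ∈ I := by
    intro i hij
    rcases lt_or_gt_of_ne (fun h => hij (Fin.ext h)) with hi | hi
    · obtain ⟨d, hd⟩ := hlt i hi
      have : ι (β i) * ϖ ^ (i : ℕ) =
          ϖ ^ ((j : ℕ) + 1) * (ϖ ^ (e - ((j : ℕ) + 1)) * c * ι d * ϖ ^ (i : ℕ)) := by
        have hpow : ϖ ^ e = ϖ ^ ((j : ℕ) + 1) * ϖ ^ (e - ((j : ℕ) + 1)) := by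
          rw [← pow_add]; congr 1; have := j.2; omega
        rw [hd, map_mul, hιπ, hpow]
        ring
      rw [this]
      exact Ideal.mul_mem_right _ _ (Ideal.mem_span_singleton_self _)
    · have : ι (β i) * ϖ ^ (i : ℕ) =
          ϖ ^ ((j : ℕ) + 1) * (ι (β i) * ϖ ^ ((i : ℕ) - ((j : ℕ) + 1))) := by
        have hpow : ϖ ^ (i : ℕ) = ϖ ^ ((j : ℕ) + 1) * ϖ ^ ((i : ℕ) - ((j : ℕ) + 1)) := by
          rw [← pow_add]; congr 1; omega
        rw [hpow]
        ring
      rw [this]
      exact Ideal.mul_mem_right _ _ (Ideal.mem_span_singleton_self _)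
  have hsum' : ∑ i : Fin e, ι (β i) * ϖ ^ (i : ℕ) = 0 := hsum
  rw [← Finset.add_sum_erase Finset.univ _ (Finset.mem_univ j)] at hsum'
  have hjI : ι (β j) * ϖ ^ (j : ℕ) ∈ I := by
    have h1 : ∑ i ∈ Finset.univ.erase j, ι (β i) * ϖ ^ (i : ℕ) ∈ I :=
      Ideal.sum_mem _ fun i hi => hterm i (Finset.ne_of_mem_erase hi)
    have h2 : ι (β j) * ϖ ^ (j : ℕ) = -∑ i ∈ Finset.univ.erase j, ι (β i) * ϖ ^ (i : ℕ) :=
      eq_neg_of_add_eq_zero_left hsum'
    rw [h2]
    exact I.neg_mem h1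
  rw [Ideal.mem_span_singleton] at hjI
  obtain ⟨d, hd⟩ := hjI
  have e1 : ϖ ^ (j : ℕ) * ι (β j) = ϖ ^ (j : ℕ) * (ϖ * d) := by
    rw [mul_comm, hd, pow_succ]; ring
  have e2 := mul_left_cancel₀ (pow_ne_zero _ hϖ0) e1
  have hβu : IsUnit (β j) := by
    by_contra hnu
    have : β j ∈ maximalIdeal B := (mem_maximalIdeal _).mpr hnu
    rw [hπB.maximalIdeal_eq, Ideal.mem_span_singleton] at this
    exact hj this
  have hu : IsUnit (ϖ * d) := by rw [← e2]; exact hβu.map ι
  exact hϖ (isUnit_of_mul_isUnit_left hu)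

theorem eq_zero_of_sum_eq_zero (β : Fin e → B)
    (hsum : ∑ i : Fin e, (⟨algebraMap B M (β i), hW.1 (β i)⟩ : W) * ϖ ^ (i : ℕ) = 0) :
    ∀ i, β i = 0 := by
  classical
  let ι : B →+* W := RingHom.codRestrict (algebraMap B M) W hW.1
  have hιinj : Function.Injective ι := by
    intro x y hxy
    have h1 : algebraMap B M x = algebraMap B M y := congrArg Subtype.val hxy
    rw [IsScalarTower.algebraMap_apply B L M, IsScalarTower.algebraMap_apply B L M] at h1
    exact IsFractionRing.injective B L ((algebraMap L M).injective h1)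
  have hιπ0 : ι πB ≠ 0 := fun h0 => hπB.ne_zero (hιinj (by rw [h0, map_zero]))
  have key : ∀ k : ℕ, ∀ β : Fin e → B,
      (∑ i : Fin e, ι (β i) * ϖ ^ (i : ℕ) = 0) → ∀ i, πB ^ k ∣ β i := by
    intro k
    induction k with
    | zero => intro β _ i; rw [pow_zero]; exact one_dvd _
    | succ k ih =>
      intro β hβ i
      have h1 := dvd_of_sum_eq_zero (L := L) hW ϖ hϖ πB hπB e c hc β hβ
      choose β' hβ' using h1
      have hβ'sum : ∑ i : Fin e, ι (β' i) * ϖ ^ (i : ℕ) = 0 := by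
        apply mul_left_cancel₀ hιπ0
        rw [mul_zero, Finset.mul_sum, ← hβ]
        refine Finset.sum_congr rfl fun i _ => ?_
        rw [hβ' i, map_mul, mul_assoc]
      obtain ⟨d, hd⟩ := ih β' hβ'sum i
      exact ⟨d, by rw [hβ' i, hd, pow_succ]; ring⟩
  intro i
  by_contra hne
  obtain ⟨n, u, hu⟩ := IsDiscreteValuationRing.eq_unit_mul_pow_irreducible hne hπB
  obtain ⟨d, hd⟩ := key (n + 1) β hsum i
  have e1 : πB ^ n * (u : B) = πB ^ n * (πB * d) := by
    rw [mul_comm, ← hu, hd, pow_succ]; ring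
  have e2 := mul_left_cancel₀ (pow_ne_zero n hπB.ne_zero) e1
  exact hπB.not_isUnit (isUnit_of_mul_isUnit_left (e2 ▸ u.isUnit))

theorem linearIndependent_pow :
    LinearIndependent L (fun i : Fin e => ((ϖ : W) : M) ^ (i : ℕ)) := by
  classical
  rw [Fintype.linearIndependent_iff]
  intro g hg i
  obtain ⟨b, hb⟩ := IsLocalization.exist_integer_multiples_of_finset (nonZeroDivisors B)
    (Finset.univ.image g)
  choose β hβ using fun i => hb (g i) (Finset.mem_image_of_mem _ (Finset.mem_univ i))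
  have hb0 : algebraMap B L (b : B) ≠ 0 := fun h0 =>
    nonZeroDivisors.ne_zero b.2 (IsFractionRing.injective B L (by rw [h0, map_zero]))
  have hβ' : ∀ i, algebraMap B L (β i) = algebraMap B L (b : B) * g i := by
    intro i
    rw [hβ i, Algebra.smul_def]
  have hsum : ∑ i : Fin e, (⟨algebraMap B M (β i), hW.1 (β i)⟩ : W) * ϖ ^ (i : ℕ) = 0 := by
    apply Subtype.ext
    rw [AddSubmonoidClass.coe_finset_sum]
    show ∑ i : Fin e, algebraMap B M (β i) * ((ϖ : W) : M) ^ (i : ℕ) = 0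
    have : ∀ i : Fin e, algebraMap B M (β i) * ((ϖ : W) : M) ^ (i : ℕ) =
        algebraMap L M (algebraMap B L (b : B)) * (g i • ((ϖ : W) : M) ^ (i : ℕ)) := by
      intro i
      rw [IsScalarTower.algebraMap_apply B L M, hβ', map_mul, Algebra.smul_def, mul_assoc]
    rw [Finset.sum_congr rfl fun i _ => this i, ← Finset.mul_sum, hg, mul_zero]
  have h0 := eq_zero_of_sum_eq_zero (L := L) hW ϖ hϖ πB hπB e c hc β hsum i
  have := hβ' i
  rw [h0, map_zero] at this
  exact (mul_eq_zero.mp this.symm).resolve_left hb0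

end LinInd

end Groth.Agent.Lib.Helper27.WU
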