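import Mathlib
import Groth.Prelude.Def_EtRam
import Groth.Agent.Lib.Helper27.KU2
import Groth.Agent.Lib.Helper27.WU9

/-! Construction of the extension `L(π^{1/e})` and the statement of S9329. -/

set_option autoImplicit false

namespace Groth.Agent.Lib.Helper27.KU
open IsLocalRing Polynomial TensorProduct

universe u

section
variable {A K L : Type u} [CommRing A] [IsDomain A]
    [IsDiscreteValuationRing A] [Field K] [Algebra A K] [IsFractionRing A K] [Field L] [Algebra K L]
    [Algebra A L] [IsScalarTower A K L] [FiniteDimensional K L] [Algebra.IsSeparable K L]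

include K in
theorem natCast_ne_zero (e : ℕ) (heK : (e : ResidueField A) ≠ 0) : ((e : ℕ) : L) ≠ 0 := by
  have h1 : ((e : ℕ) : L) = algebraMap A L ((e : ℕ) : A) := (map_natCast _ _).symm
  rw [h1]
  intro h0
  have h2 : ((e : ℕ) : A) = 0 := ASR.algebraMap_AL_injective A K L (by rw [h0, map_zero])
  apply heK
  have h3 : ((e : ℕ) : ResidueField A) = residue A ((e : ℕ) : A) := (map_natCast _ _).symm
  rw [h3, h2, map_zero]

theorem exists_ext (π : A) (hπ : maximalIdeal A = Ideal.span {π}) (e : ℕ) (he : 0 < e)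
    (heK : (e : ResidueField A) ≠ 0) :
    ∃ (M : Type u) (_ : Field M) (_ : Algebra K M) (_ : Algebra L M) (_ : IsScalarTower K L M)
      (_ : Algebra (AdjoinRoot (X ^ e - C π : A[X])) M),
      FiniteDimensional K M ∧ Algebra.IsSeparable K M ∧
      (algebraMap (AdjoinRoot (X ^ e - C π : A[X])) M).comp (AdjoinRoot.of (X ^ e - C π)) =
        (algebraMap K M).comp (algebraMap A K) ∧
      Algebra.adjoin L {algebraMap (AdjoinRoot (X ^ e - C π : A[X])) M
        (AdjoinRoot.root (X ^ e - C π))} = ⊤ := by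
  classical
  have hπirr : Irreducible π := (IsDiscreteValuationRing.irreducible_iff_uniformizer π).mpr hπ
  have hπL0 : algebraMap A L π ≠ 0 := by
    intro h0
    exact hπirr.ne_zero (ASR.algebraMap_AL_injective A K L (by rw [h0, map_zero]))
  have hmon : (X ^ e - C (algebraMap A L π) : L[X]).Monic := monic_X_pow_sub_C _ he.ne'
  have hnu : ¬ IsUnit (X ^ e - C (algebraMap A L π) : L[X]) := by
    intro hu
    have := natDegree_eq_zero_of_isUnit hu
    rw [natDegree_X_pow_sub_C] at this
    omega
  obtain ⟨q, hq, hqdvd⟩ := WfDvdMonoid.exists_irreducible_factor hnu hmon.ne_zero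
  haveI : Fact (Irreducible q) := ⟨hq⟩
  have hϖ : (AdjoinRoot.root q) ^ e = algebraMap L (AdjoinRoot q) (algebraMap A L π) := by
    have h1 : AdjoinRoot.mk q (X ^ e - C (algebraMap A L π)) = 0 :=
      AdjoinRoot.mk_eq_zero.mpr hqdvd
    rw [map_sub, map_pow, AdjoinRoot.mk_X, AdjoinRoot.mk_C, sub_eq_zero] at h1
    exact h1
  have hlift : eval₂ ((algebraMap K (AdjoinRoot q)).comp (algebraMap A K)) (AdjoinRoot.root q)
      (X ^ e - C π : A[X]) = 0 := by
    rw [eval₂_sub, eval₂_X_pow, eval₂_C, hϖ, sub_eq_zero]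
    show _ = algebraMap K (AdjoinRoot q) (algebraMap A K π)
    rw [IsScalarTower.algebraMap_apply A K L, ← IsScalarTower.algebraMap_apply K L (AdjoinRoot q)]
  letI algA'M : Algebra (AdjoinRoot (X ^ e - C π : A[X])) (AdjoinRoot q) :=
    (AdjoinRoot.lift ((algebraMap K (AdjoinRoot q)).comp (algebraMap A K)) (AdjoinRoot.root q)
      hlift).toAlgebra
  have hroot : algebraMap (AdjoinRoot (X ^ e - C π : A[X])) (AdjoinRoot q)
      (AdjoinRoot.root (X ^ e - C π)) = AdjoinRoot.root q := AdjoinRoot.lift_root hlift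
  haveI hfinL : FiniteDimensional L (AdjoinRoot q) := (AdjoinRoot.powerBasis hq.ne_zero).finite
  haveI hfinK : FiniteDimensional K (AdjoinRoot q) := FiniteDimensional.trans K L (AdjoinRoot q)
  have hsepf : (X ^ e - C (algebraMap A L π) : L[X]).Separable :=
    separable_X_pow_sub_C _ (natCast_ne_zero (K := K) e heK) hπL0
  have hsepϖ : IsSeparable L (AdjoinRoot.root q) := by
    refine hsepf.of_dvd (minpoly.dvd L _ ?_)
    rw [map_sub, map_pow, aeval_X, aeval_C, hϖ, sub_self]
  haveI hsepL : Algebra.IsSeparable L (AdjoinRoot q) := by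
    rw [← separableClosure.eq_top_iff, eq_top_iff]
    have h1 : Algebra.adjoin L {AdjoinRoot.root q} ≤
        (separableClosure L (AdjoinRoot q)).toSubalgebra :=
      Algebra.adjoin_le (Set.singleton_subset_iff.mpr (mem_separableClosure_iff.mpr hsepϖ))
    rw [AdjoinRoot.adjoinRoot_eq_top] at h1
    intro y _
    exact h1 (Algebra.mem_top)
  haveI hsepK : Algebra.IsSeparable K (AdjoinRoot q) := Algebra.IsSeparable.trans K L (AdjoinRoot q)
  refine ⟨AdjoinRoot q, inferInstance, inferInstance, inferInstance, inferInstance, algA'M,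
    hfinK, hsepK, ?_, ?_⟩
  · exact AdjoinRoot.lift_comp_of hlift
  · rw [hroot]
    exact AdjoinRoot.adjoinRoot_eq_top

end

end Groth.Agent.Lib.Helper27.KU
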