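import Mathlib
import Groth.Prelude.Def_EtRam
import Groth.Agent.Lib.Helper27.KU3

/-! Tame extensions become unramified after adjoining a root of the uniformizer (S9329). -/

set_option autoImplicit false

namespace Groth.Agent.Lib.Helper27.KU
open IsLocalRing Polynomial TensorProduct

universe u

section
variable {A K L : Type u} [CommRing A] [IsDomain A]
    [IsDiscreteValuationRing A] [Field K] [Algebra A K] [IsFractionRing A K] [Field L] [Algebra K L]
    [Algebra A L] [IsScalarTower A K L] [FiniteDimensional K L] [Algebra.IsSeparable K L]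

include K in
theorem ram_bounds (V : ValuationSubring L) (hV : EtRam.Dominates A (algebraMap A L) V) :
    letI : Algebra A V := (RingHom.codRestrict (algebraMap A L) V hV.1).toAlgebra
    Ideal.ramificationIdx' (maximalIdeal A) (maximalIdeal V) ≠ 0 ∧
      Ideal.ramificationIdx' (maximalIdeal A) (maximalIdeal V) ≤ Module.finrank K L := by
  classical
  letI algAV : Algebra A V := (RingHom.codRestrict (algebraMap A L) V hV.1).toAlgebra
  haveI hlocV : IsLocalHom (algebraMap A V) := TT.isLocalHom_of_dominates hV (fun _ => rfl)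
  haveI : IsDiscreteValuationRing V := WU.isDVR_of_dominates_finite (K := K) hV
  obtain ⟨π, hπ⟩ := IsDiscreteValuationRing.exists_irreducible A
  obtain ⟨π', hπ'⟩ := IsDiscreteValuationRing.exists_irreducible V
  have hπA0 : algebraMap A V π ≠ 0 := by
    intro h0
    have : algebraMap A L π = 0 := congrArg Subtype.val h0
    exact hπ.ne_zero (ASR.algebraMap_AL_injective A K L (by rw [this, map_zero]))
  obtain ⟨e', u', hu'⟩ := IsDiscreteValuationRing.eq_unit_mul_pow_irreducible hπA0 hπ'
  have he' : Ideal.ramificationIdx' (maximalIdeal A) (maximalIdeal V) = e' :=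
    WU.ramificationIdx'_eq π hπ.maximalIdeal_eq π' hπ' e' u' hu'
  show Ideal.ramificationIdx' (maximalIdeal A) (maximalIdeal V) ≠ 0 ∧
    Ideal.ramificationIdx' (maximalIdeal A) (maximalIdeal V) ≤ Module.finrank K L
  rw [he']
  constructor
  · rintro rfl
    rw [pow_zero, mul_one] at hu'
    exact hπ.not_isUnit (isUnit_of_map_unit (algebraMap A V) π (hu' ▸ u'.isUnit))
  · have hli := WU.linearIndependent_pow (L := K) hV π' hπ'.not_isUnit π hπ e' (u' : V) (by
      rw [mul_comm]; exact hu')
    have := hli.fintype_card_le_finrank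
    rwa [Fintype.card_fin] at this

/-- The candidate `e₀`. -/
noncomputable def e₀ (A : Type u) [CommRing A] [IsLocalRing A] (n : ℕ) : ℕ := by
  classical
  exact ∏ i ∈ (Finset.Icc 1 n).filter (fun i : ℕ => (i : ResidueField A) ≠ 0), i

theorem e₀_pos (n : ℕ) : 0 < e₀ A n := by
  classical
  unfold e₀
  refine Finset.prod_pos fun i hi => ?_
  rw [Finset.mem_filter, Finset.mem_Icc] at hi
  omega

theorem e₀_cast (n : ℕ) : ((e₀ A n : ℕ) : ResidueField A) ≠ 0 := by
  classical
  unfold e₀
  rw [Nat.cast_prod, Finset.prod_ne_zero_iff]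
  intro i hi
  rw [Finset.mem_filter] at hi
  exact hi.2

theorem dvd_e₀ (n i : ℕ) (h1 : i ≠ 0) (h2 : i ≤ n) (h3 : (i : ResidueField A) ≠ 0) :
    i ∣ e₀ A n := by
  classical
  unfold e₀
  refine Finset.dvd_prod_of_mem _ ?_
  rw [Finset.mem_filter, Finset.mem_Icc]
  exact ⟨⟨by omega, h2⟩, h3⟩

theorem s9329 (π : A) (hπ : maximalIdeal A = Ideal.span {π})
    (h : EtRam.IsTamelyRamified A (algebraMap A L)) :
    ∃ e₀ : ℕ, 0 < e₀ ∧ (e₀ : ResidueField A) ≠ 0 ∧
      ∀ d : ℕ, 0 < d → (d : ResidueField A) ≠ 0 →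
        ∃ (L' : Type u) (_ : Field L') (_ : Algebra K L')
          (_ : Algebra (AdjoinRoot (X ^ (d * e₀) - C π : A[X])) L') (_ : L →ₐ[K] L'),
          FiniteDimensional K L' ∧ Algebra.IsSeparable K L' ∧
          (algebraMap (AdjoinRoot (X ^ (d * e₀) - C π : A[X])) L').comp (AdjoinRoot.of (X ^ (d * e₀) - C π)) =
            (algebraMap K L').comp (algebraMap A K) ∧
          ∀ [IsLocalRing (AdjoinRoot (X ^ (d * e₀) - C π : A[X]))],
            EtRam.IsUnramifiedExt (AdjoinRoot (X ^ (d * e₀) - C π : A[X]))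
              (algebraMap (AdjoinRoot (X ^ (d * e₀) - C π : A[X])) L') := by
  classical
  refine ⟨e₀ A (Module.finrank K L), e₀_pos _, e₀_cast _, fun d hd hdK => ?_⟩
  have he : 0 < d * e₀ A (Module.finrank K L) := Nat.mul_pos hd (e₀_pos _)
  have heK : ((d * e₀ A (Module.finrank K L) : ℕ) : ResidueField A) ≠ 0 := by
    rw [Nat.cast_mul]
    exact mul_ne_zero hdK (e₀_cast _)
  obtain ⟨M, iF, iKM, iLM, iT, iA'M, hfin, hsep, hcompat, hgen⟩ :=
    exists_ext (K := K) (L := L) π hπ (d * e₀ A (Module.finrank K L)) he heK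
  refine ⟨M, iF, iKM, iA'M, IsScalarTower.toAlgHom K L M, hfin, hsep, hcompat, ?_⟩
  intro hloc
  refine main π hπ (d * e₀ A (Module.finrank K L)) he h ?_ M hcompat hgen
  intro V hV
  obtain ⟨h0, hle⟩ := ram_bounds (K := K) V hV
  letI algAV : Algebra A V := (RingHom.codRestrict (algebraMap A L) V hV.1).toAlgebra
  haveI hlocV : IsLocalHom (algebraMap A V) := TT.isLocalHom_of_dominates hV (fun _ => rfl)
  obtain ⟨-, htameV⟩ := h V hV
  refine Dvd.dvd.mul_left (dvd_e₀ _ _ h0 hle ?_) d
  obtain ⟨p, hp⟩ := CharP.exists (ResidueField A)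
  rw [Ne, CharP.cast_eq_zero_iff (ResidueField A) p]
  rcases CharP.char_is_prime_or_zero (ResidueField A) p with hpp | hp0
  · exact htameV p hpp hp
  · rw [hp0, zero_dvd_iff]
    exact h0

end

end Groth.Agent.Lib.Helper27.KU
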