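import Mathlib
import Groth.Prelude.Def_EtRam
import Groth.Agent.Lib.Helper27.KU4
import Groth.Agent.Lib.Helper27.TameTower3

/-! Tameness is equivalent to becoming unramified after adjoining a root of the uniformizer
(S9328). -/

set_option autoImplicit false

namespace Groth.Agent.Lib.Helper27.KU
open IsLocalRing Polynomial TensorProduct

universe u

section
variable {A K : Type u} [CommRing A] [IsDomain A]
    [IsDiscreteValuationRing A] [Field K] [Algebra A K] [IsFractionRing A K]

/-- If `L'` is unramified over `A' = A[π^{1/e}]` with `e` invertible in the residue field, then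
`L'` is tamely ramified over `A`. -/
theorem tame_of_unram (π : A) (hπ : maximalIdeal A = Ideal.span {π}) (e : ℕ) (he : 0 < e)
    (heK : (e : ResidueField A) ≠ 0)
    (L' : Type u) [Field L'] [Algebra K L'] [Algebra (AdjoinRoot (X ^ e - C π : A[X])) L']
    [FiniteDimensional K L']
    (hcompat : (algebraMap (AdjoinRoot (X ^ e - C π : A[X])) L').comp
      (AdjoinRoot.of (X ^ e - C π)) = (algebraMap K L').comp (algebraMap A K))
    [IsLocalRing (AdjoinRoot (X ^ e - C π : A[X]))]
    (hU : EtRam.IsUnramifiedExt (AdjoinRoot (X ^ e - C π : A[X]))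
      (algebraMap (AdjoinRoot (X ^ e - C π : A[X])) L')) :
    EtRam.IsTamelyRamified A ((algebraMap K L').comp (algebraMap A K)) := by
  classical
  intro W hW hlocW
  letI algAL' : Algebra A L' := ((algebraMap K L').comp (algebraMap A K)).toAlgebra
  haveI : IsScalarTower A K L' := .of_algebraMap_eq fun _ => rfl
  letI algAW : Algebra A W :=
    (RingHom.codRestrict ((algebraMap K L').comp (algebraMap A K)) W hW.1).toAlgebra
  haveI hlocAA' : IsLocalHom (algebraMap A (AdjoinRoot (X ^ e - C π : A[X]))) :=
    isLocalHom_of π e hπ he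
  have hmA' := maximalIdeal_eq π e hπ he
  have hAL' : ∀ a : A, algebraMap A L' a =
      algebraMap (AdjoinRoot (X ^ e - C π : A[X])) L' (AdjoinRoot.of _ a) := by
    intro a
    exact (RingHom.congr_fun hcompat a).symm
  haveI : IsScalarTower A (AdjoinRoot (X ^ e - C π : A[X])) L' := .of_algebraMap_eq hAL'
  have hmon : (X ^ e - C π : A[X]).Monic := monic_X_pow_sub_C π he.ne'
  haveI : Module.Finite A (AdjoinRoot (X ^ e - C π : A[X])) := hmon.finite_adjoinRoot
  haveI : Algebra.IsIntegral A (AdjoinRoot (X ^ e - C π : A[X])) := Algebra.IsIntegral.of_finite A _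
  have hπmem : π ∈ maximalIdeal A := by rw [hπ]; exact Ideal.mem_span_singleton_self _
  -- `W` dominates `A'`
  have hvz : W.valuation (algebraMap (AdjoinRoot (X ^ e - C π : A[X])) L'
      (AdjoinRoot.root (X ^ e - C π))) < 1 := by
    have h1 : W.valuation (algebraMap A L' π) < 1 := hW.2 π hπmem
    rw [hAL', ← root_pow, map_pow, map_pow] at h1
    exact (pow_lt_one_iff he.ne').mp h1
  have hWA' : EtRam.Dominates (AdjoinRoot (X ^ e - C π : A[X]))
      (algebraMap (AdjoinRoot (X ^ e - C π : A[X])) L') W := by
    have h1 : ∀ x : AdjoinRoot (X ^ e - C π : A[X]),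
        algebraMap (AdjoinRoot (X ^ e - C π : A[X])) L' x ∈ W := by
      intro x
      refine WU.mem_valuationSubring_of_isIntegral (A := A) W (fun a => hW.1 a) ?_
      exact (Algebra.IsIntegral.isIntegral (R := A) x).map
        (IsScalarTower.toAlgHom A (AdjoinRoot (X ^ e - C π : A[X])) L')
    refine ⟨h1, fun x hx => ?_⟩
    rw [hmA', Ideal.mem_span_singleton] at hx
    obtain ⟨y, rfl⟩ := hx
    rw [map_mul, map_mul]
    have h2 : W.valuation (algebraMap (AdjoinRoot (X ^ e - C π : A[X])) L' y) ≤ 1 :=
      (W.valuation_le_one_iff _).mpr (h1 y)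
    calc _ ≤ W.valuation (algebraMap (AdjoinRoot (X ^ e - C π : A[X])) L'
          (AdjoinRoot.root (X ^ e - C π))) * 1 := mul_le_mul_right h2 _
      _ < 1 := by rw [mul_one]; exact hvz
  letI algA'W : Algebra (AdjoinRoot (X ^ e - C π : A[X])) W :=
    (RingHom.codRestrict (algebraMap (AdjoinRoot (X ^ e - C π : A[X])) L') W hWA'.1).toAlgebra
  haveI hlocA'W : IsLocalHom (algebraMap (AdjoinRoot (X ^ e - C π : A[X])) W) :=
    TT.isLocalHom_of_dominates hWA' (fun _ => rfl)
  obtain ⟨hweak, hsepW⟩ := hU W hWA'
  haveI : IsScalarTower A (AdjoinRoot (X ^ e - C π : A[X])) W :=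
    .of_algebraMap_eq fun a => Subtype.ext (hAL' a)
  haveI : IsDiscreteValuationRing W := WU.isDVR_of_dominates_finite (K := K) (A := A) hW
  -- the ramification index
  have hmW : maximalIdeal W = Ideal.span {algebraMap (AdjoinRoot (X ^ e - C π : A[X])) W
      (AdjoinRoot.root (X ^ e - C π))} := by
    have h1 : (maximalIdeal (AdjoinRoot (X ^ e - C π : A[X]))).map
      (algebraMap (AdjoinRoot (X ^ e - C π : A[X])) W) = maximalIdeal W := hweak
    rw [← h1, hmA', Ideal.map_span, Set.image_singleton]
  have hirr : Irreducible (algebraMap (AdjoinRoot (X ^ e - C π : A[X])) W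
      (AdjoinRoot.root (X ^ e - C π))) :=
    (IsDiscreteValuationRing.irreducible_iff_uniformizer _).mpr hmW
  have heW : Ideal.ramificationIdx' (maximalIdeal A) (maximalIdeal W) = e :=
    WU.ramificationIdx'_eq π hπ _ hirr e 1 (by
      rw [Units.val_one, one_mul, ← map_pow, root_pow]
      exact IsScalarTower.algebraMap_apply A (AdjoinRoot (X ^ e - C π : A[X])) W π)
  refine ⟨?_, fun p hp hcp hdvd => ?_⟩
  · -- separability of the residue field extension
    haveI : IsScalarTower (ResidueField A) (ResidueField (AdjoinRoot (X ^ e - C π : A[X])))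
        (ResidueField W) := by
      refine .of_algebraMap_eq fun x => ?_
      obtain ⟨x, rfl⟩ := residue_surjective x
      rw [ResidueField.algebraMap_residue, ResidueField.algebraMap_residue,
        ResidueField.algebraMap_residue, ← IsScalarTower.algebraMap_apply]
    haveI : Algebra.IsSeparable (ResidueField A)
        (ResidueField (AdjoinRoot (X ^ e - C π : A[X]))) := by
      refine ⟨fun x => ?_⟩
      obtain ⟨x, rfl⟩ := residue_surjective x
      obtain ⟨a, ha⟩ := residue_surj π e hπ he x
      rw [ha]
      have : residue (AdjoinRoot (X ^ e - C π : A[X])) (AdjoinRoot.of _ a) =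
          algebraMap (ResidueField A) (ResidueField (AdjoinRoot (X ^ e - C π : A[X])))
            (residue A a) := rfl
      rw [this]
      exact isSeparable_algebraMap _
    exact Algebra.IsSeparable.trans (ResidueField A)
      (ResidueField (AdjoinRoot (X ^ e - C π : A[X]))) (ResidueField W)
  · rw [heW] at hdvd
    haveI := hcp
    exact heK ((CharP.cast_eq_zero_iff (ResidueField A) p e).mpr hdvd)

end

section
variable {A K L : Type u} [CommRing A] [IsDomain A]
    [IsDiscreteValuationRing A] [Field K] [Algebra A K] [IsFractionRing A K] [Field L] [Algebra K L]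
    [Algebra A L] [IsScalarTower A K L] [FiniteDimensional K L] [Algebra.IsSeparable K L]

theorem s9328 (π : A) (hπ : maximalIdeal A = Ideal.span {π}) :
    EtRam.IsTamelyRamified A (algebraMap A L) ↔
      ∃ e : ℕ, 0 < e ∧ (e : ResidueField A) ≠ 0 ∧
        ∃ (L' : Type u) (_ : Field L') (_ : Algebra K L')
          (_ : Algebra (AdjoinRoot (X ^ e - C π : A[X])) L') (_ : L →ₐ[K] L'),
          FiniteDimensional K L' ∧ Algebra.IsSeparable K L' ∧
          (algebraMap (AdjoinRoot (X ^ e - C π : A[X])) L').comp (AdjoinRoot.of (X ^ e - C π)) =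
            (algebraMap K L').comp (algebraMap A K) ∧
          ∀ [IsLocalRing (AdjoinRoot (X ^ e - C π : A[X]))],
            EtRam.IsUnramifiedExt (AdjoinRoot (X ^ e - C π : A[X]))
              (algebraMap (AdjoinRoot (X ^ e - C π : A[X])) L') := by
  classical
  constructor
  · intro h
    obtain ⟨e₀, he₀, he₀K, hall⟩ := s9329 (K := K) π hπ h
    refine ⟨1 * e₀, by omega, by rw [one_mul]; exact he₀K, ?_⟩
    exact hall 1 one_pos (by rw [Nat.cast_one]; exact one_ne_zero)
  · rintro ⟨e, he, heK, L', iF, iKL', iA'L', f, hfin, hsep, hcompat, hU⟩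
    haveI hloc : IsLocalRing (AdjoinRoot (X ^ e - C π : A[X])) := isLocalRing π e hπ he
    have hM := tame_of_unram (K := K) π hπ e he heK L' hcompat hU
    letI algAL' : Algebra A L' := ((algebraMap K L').comp (algebraMap A K)).toAlgebra
    haveI : IsScalarTower A K L' := .of_algebraMap_eq fun _ => rfl
    letI algLL' : Algebra L L' := f.toRingHom.toAlgebra
    haveI : IsScalarTower K L L' := .of_algebraMap_eq fun k => (f.commutes k).symm
    haveI : IsScalarTower A L L' := .of_algebraMap_eq fun a => by
      show algebraMap K L' (algebraMap A K a) = f (algebraMap A L a)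
      rw [IsScalarTower.algebraMap_apply A K L, f.commutes]
    exact TT.tame_bot (K := K) (L := L) (M := L') hM

end

end Groth.Agent.Lib.Helper27.KU
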