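import Mathlib

/-! Kummer extensions `K(f^{1/n})` with `(f) = I^n`, `n` invertible: the integral closure is étale. -/

set_option autoImplicit false

namespace Groth.Agent.Lib.Helper27.Kum
open nonZeroDivisors Polynomial

section Scaling
variable {A K : Type*} [CommRing A] [IsDedekindDomain A] [Field K] [Algebra A K]
  [IsFractionRing A K]

lemma pow_mem_pow {J : FractionalIdeal A⁰ K} {x : K} (hx : x ∈ J) : ∀ n : ℕ, x ^ n ∈ J ^ n := by
  intro n
  induction n with
  | zero => rw [pow_zero, pow_zero]; exact FractionalIdeal.one_mem_one _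
  | succ n ih => rw [pow_succ, pow_succ]; exact FractionalIdeal.mul_mem_mul ih hx

theorem exists_scaling (n : ℕ) (hn0 : n ≠ 0) (f : K) (hf : f ≠ 0) (I : FractionalIdeal A⁰ K)
    (hI : FractionalIdeal.spanSingleton A⁰ f = I ^ n) (p : Ideal A) [p.IsPrime] :
    ∃ (b : K) (c : A), b ≠ 0 ∧ b ^ n * f = algebraMap A K c ∧ c ∉ p := by
  have hinj : Function.Injective (algebraMap A K) := IsFractionRing.injective A K
  have hI0 : I ≠ 0 := by
    rintro rfl
    rw [zero_pow hn0, FractionalIdeal.spanSingleton_eq_zero_iff] at hI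
    exact hf hI
  have hmul : I⁻¹ * I = 1 := inv_mul_cancel₀ hI0
  have hex : ∃ b ∈ I⁻¹, ∃ y ∈ I, b * y ∉ (p : FractionalIdeal A⁰ K) := by
    by_contra hcon
    push_neg at hcon
    have hle : I⁻¹ * I ≤ (p : FractionalIdeal A⁰ K) := FractionalIdeal.mul_le.mpr hcon
    rw [hmul] at hle
    have h1 : (1 : K) ∈ (p : FractionalIdeal A⁰ K) := hle (FractionalIdeal.one_mem_one _)
    obtain ⟨x', hx', hx1⟩ := (FractionalIdeal.mem_coeIdeal _).mp h1
    have : x' = 1 := hinj (by rw [hx1, map_one])
    rw [this] at hx'
    exact (Ideal.IsPrime.ne_top inferInstance) ((Ideal.eq_top_iff_one p).mpr hx')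
  obtain ⟨b, hb, y, hy, hby⟩ := hex
  have hby1 : b * y ∈ (1 : FractionalIdeal A⁰ K) := by
    rw [← hmul]; exact FractionalIdeal.mul_mem_mul hb hy
  obtain ⟨a, ha⟩ := (FractionalIdeal.mem_one_iff _).mp hby1
  have hap : a ∉ p := by
    intro hap
    exact hby ((FractionalIdeal.mem_coeIdeal _).mpr ⟨a, hap, ha⟩)
  have hfI : f ∈ I ^ n := by
    rw [← hI]; exact FractionalIdeal.mem_spanSingleton_self _ _
  have hc1 : b ^ n * f ∈ (1 : FractionalIdeal A⁰ K) := by
    have : b ^ n * f ∈ (I⁻¹) ^ n * I ^ n := FractionalIdeal.mul_mem_mul (pow_mem_pow hb n) hfI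
    rwa [← mul_pow, hmul, one_pow] at this
  obtain ⟨c, hc⟩ := (FractionalIdeal.mem_one_iff _).mp hc1
  have hyn : y ^ n ∈ FractionalIdeal.spanSingleton A⁰ f := by
    rw [hI]; exact pow_mem_pow hy n
  obtain ⟨r, hr⟩ := (FractionalIdeal.mem_spanSingleton _).mp hyn
  refine ⟨b, c, ?_, hc.symm, ?_⟩
  · rintro rfl
    rw [zero_mul] at ha
    have : a = 0 := hinj (by rw [ha, map_zero])
    exact hap (this ▸ p.zero_mem)
  · intro hcp
    have hanrc : a ^ n = r * c := by
      apply hinj
      rw [map_pow, ha, mul_pow, ← hr, map_mul, hc, Algebra.smul_def]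
      ring
    have : a ^ n ∈ p := by rw [hanrc]; exact p.mul_mem_left _ hcp
    exact hap (Ideal.IsPrime.mem_of_pow_mem inferInstance n this)

end Scaling

section Unram

attribute [local instance] FractionRing.liftAlgebra FractionRing.isScalarTower_liftAlgebra

variable (A K L B : Type*) [CommRing A] [Field K] [CommRing B] [Field L]
  [Algebra A K] [Algebra B L] [Algebra A B] [Algebra K L] [Algebra A L]
  [IsScalarTower A K L] [IsScalarTower A B L] [IsDomain A] [IsDomain B]
  [IsFractionRing A K] [IsFractionRing B L] [Module.IsTorsionFree A B]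

theorem isSeparable_fractionRing [Algebra.IsSeparable K L] :
    Algebra.IsSeparable (FractionRing A) (FractionRing B) := by
  have H : RingHom.comp (algebraMap (FractionRing A) (FractionRing B))
      ↑(FractionRing.algEquiv A K).symm.toRingEquiv =
        RingHom.comp ↑(FractionRing.algEquiv B L).symm.toRingEquiv (algebraMap K L) := by
    apply IsLocalization.ringHom_ext A⁰
    ext
    simp only [RingHom.coe_comp, RingHom.coe_coe,
      AlgEquiv.coe_ringEquiv, Function.comp_apply, AlgEquiv.commutes,
      ← IsScalarTower.algebraMap_apply]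
    rw [IsScalarTower.algebraMap_apply A B L, AlgEquiv.commutes, ← IsScalarTower.algebraMap_apply]
  exact Algebra.IsSeparable.of_equiv_equiv _ _ H

variable {B}

theorem formallyUnramified_of_kummer [IsDedekindDomain A] [IsDedekindDomain B]
    [IsIntegralClosure B A L] [FiniteDimensional K L] [Algebra.IsSeparable K L]
    [Module.Finite A B] (n : ℕ) (hn : IsUnit (n : A))
    (hx : ∀ (p : Ideal A) [p.IsPrime], ∃ (x : B) (c : A), x ^ n = algebraMap A B c ∧ c ∉ p ∧
      Algebra.adjoin K {algebraMap B L x} = ⊤) :
    Algebra.FormallyUnramified A B := by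
  haveI := isSeparable_fractionRing A K L B
  have hn0 : n ≠ 0 := by
    rintro rfl
    rw [Nat.cast_zero] at hn
    exact not_isUnit_zero hn
  rw [← Algebra.unramifiedLocus_eq_univ_iff, Set.eq_univ_iff_forall]
  intro P
  show Algebra.IsUnramifiedAt A P.asIdeal
  rw [← not_dvd_differentIdeal_iff]
  intro hdvd
  obtain ⟨x, c, hxc, hcp, hadj⟩ := hx (P.asIdeal.under A)
  have hD : differentIdeal A B ≤ P.asIdeal := Ideal.dvd_iff_le.mp hdvd
  have hcm := conductor_mul_differentIdeal A K L x hadj
  have hg' : aeval x (derivative (minpoly A x)) ∈ P.asIdeal := by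
    apply hD
    have : aeval x (derivative (minpoly A x)) ∈ conductor A x * differentIdeal A B := by
      rw [hcm]; exact Ideal.mem_span_singleton_self _
    exact (Ideal.mul_le_inf.trans inf_le_right) this
  have hxint : IsIntegral A x := IsIntegralClosure.isIntegral A L x
  have hroot : aeval x (X ^ n - C c : A[X]) = 0 := by
    simp [hxc]
  obtain ⟨h, hh⟩ := minpoly.isIntegrallyClosed_dvd hxint hroot
  have hder : algebraMap A B (n : A) * x ^ (n - 1) =
      aeval x (derivative (minpoly A x)) * aeval x h := by
    have h1 := congrArg (fun q => aeval x (derivative q)) hh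
    simp only [derivative_sub, derivative_X_pow, derivative_C, sub_zero, derivative_mul, map_add,
      map_mul, minpoly.aeval, zero_mul, add_zero, aeval_C, aeval_X, map_pow] at h1
    exact h1
  have hmem : algebraMap A B (n : A) * x ^ (n - 1) ∈ P.asIdeal := by
    rw [hder]; exact Ideal.mul_mem_right _ _ hg'
  have hunit : IsUnit (algebraMap A B (n : A)) := hn.map _
  have hx1 : x ^ (n - 1) ∈ P.asIdeal := by
    rcases P.isPrime.mem_or_mem hmem with h1 | h1
    · exact absurd (Ideal.eq_top_of_isUnit_mem _ h1 hunit) P.isPrime.ne_top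
    · exact h1
  have hxP : x ∈ P.asIdeal := P.isPrime.mem_of_pow_mem _ hx1
  have : algebraMap A B c ∈ P.asIdeal := by
    rw [← hxc]; exact Ideal.pow_mem_of_mem _ hxP n (Nat.pos_of_ne_zero hn0)
  exact hcp this

end Unram

section Main
universe u v w
variable {A : Type u} {K : Type v} {L : Type w} [CommRing A] [IsDedekindDomain A]
    [Field K] [Algebra A K] [IsFractionRing A K]
    [Field L] [Algebra K L] [Algebra A L] [IsScalarTower A K L]

theorem main (n : ℕ) (hn : IsUnit (n : A)) (f : K) (hf : f ≠ 0)
    (I : FractionalIdeal A⁰ K) (hI : FractionalIdeal.spanSingleton A⁰ f = I ^ n)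
    (α : L) (hα : α ^ n = algebraMap K L f) (hgen : IntermediateField.adjoin K {α} = ⊤) :
    Algebra.Etale A (integralClosure A L) ∧ Module.Finite A (integralClosure A L) := by
  have hn0 : n ≠ 0 := by
    rintro rfl
    rw [Nat.cast_zero] at hn
    exact not_isUnit_zero hn
  have hnK : (n : K) ≠ 0 := by
    have : (n : K) = algebraMap A K (n : A) := (map_natCast _ n).symm
    rw [this]
    exact (hn.map (algebraMap A K)).ne_zero
  have hinjAL : Function.Injective (algebraMap A L) := by
    rw [IsScalarTower.algebraMap_eq A K L]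
    exact (algebraMap K L).injective.comp (IsFractionRing.injective A K)
  have hroot : aeval α (X ^ n - C f : K[X]) = 0 := by
    simp [hα]
  have hint : IsIntegral K α := ⟨X ^ n - C f, monic_X_pow_sub_C f hn0, hroot⟩
  have hsepα : IsSeparable K α :=
    (separable_X_pow_sub_C f hnK hf).of_dvd (minpoly.dvd K α hroot)
  haveI hsepKα : Algebra.IsSeparable K (IntermediateField.adjoin K {α}) :=
    (IntermediateField.isSeparable_adjoin_simple_iff_isSeparable K L).mpr hsepα
  haveI hfinKα : FiniteDimensional K (IntermediateField.adjoin K {α}) :=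
    IntermediateField.adjoin.finiteDimensional hint
  let e : IntermediateField.adjoin K {α} ≃ₐ[K] L :=
    (IntermediateField.equivOfEq hgen).trans IntermediateField.topEquiv
  haveI : Algebra.IsSeparable K L := AlgEquiv.Algebra.isSeparable e
  haveI : FiniteDimensional K L := Module.Finite.equiv e.toLinearEquiv
  haveI : Module.IsTorsionFree A L := Module.isTorsionFree_iff_algebraMap_injective.mpr hinjAL
  haveI : IsDedekindDomain (integralClosure A L) := IsIntegralClosure.isDedekindDomain A K L _
  haveI hfin : Module.Finite A (integralClosure A L) := IsIntegralClosure.finite A K L _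
  haveI : IsFractionRing (integralClosure A L) L :=
    IsIntegralClosure.isFractionRing_of_finite_extension A K L _
  haveI : Algebra.FinitePresentation A (integralClosure A L) :=
    Algebra.FinitePresentation.of_finiteType.mp inferInstance
  have hx : ∀ (p : Ideal A) [p.IsPrime], ∃ (x : integralClosure A L) (c : A),
      x ^ n = algebraMap A (integralClosure A L) c ∧ c ∉ p ∧
      Algebra.adjoin K {algebraMap (integralClosure A L) L x} = ⊤ := by
    intro p _
    obtain ⟨b, c, hb0, hbc, hcp⟩ := exists_scaling n hn0 f hf I hI p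
    have hpow : (algebraMap K L b * α) ^ n = algebraMap A L c := by
      rw [mul_pow, hα, ← map_pow, ← map_mul, hbc, ← IsScalarTower.algebraMap_apply]
    have hxint : IsIntegral A (algebraMap K L b * α) :=
      ⟨X ^ n - C c, monic_X_pow_sub_C c hn0, by simp [hpow]⟩
    refine ⟨⟨algebraMap K L b * α, hxint⟩, c, ?_, hcp, ?_⟩
    · apply Subtype.ext
      simp [hpow]
    · show Algebra.adjoin K {algebraMap K L b * α} = ⊤
      have hbL : algebraMap K L b ≠ 0 := (_root_.map_ne_zero _).mpr hb0
      apply Algebra.adjoin_eq_top_of_primitive_element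
        (Algebra.IsAlgebraic.isAlgebraic (algebraMap K L b * α))
      rw [eq_top_iff, ← hgen, IntermediateField.adjoin_simple_le_iff]
      have : α = (algebraMap K L b)⁻¹ * (algebraMap K L b * α) := by field_simp
      have hmem : (algebraMap K L b)⁻¹ * (algebraMap K L b * α) ∈
          IntermediateField.adjoin K {algebraMap K L b * α} :=
        mul_mem (inv_mem (algebraMap_mem _ b)) (IntermediateField.mem_adjoin_simple_self K _)
      rwa [← this] at hmem
  haveI : Algebra.FormallyUnramified A (integralClosure A L) :=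
    formallyUnramified_of_kummer A K L n hn hx
  exact ⟨Algebra.Etale.of_formallyUnramified_of_flat, hfin⟩

end Main

end Groth.Agent.Lib.Helper27.Kum
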