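import Groth.Agent.Lib.Helper29.LocHomog

/-!
# Descent of the locally-of-finite-type locus along an affine base change, from an algebraic
hypothesis (helper27)
-/

set_option autoImplicit false
set_option linter.style.haveILetI false
universe u
open CategoryTheory CategoryTheory.Limits AlgebraicGeometry TensorProduct

namespace Groth.Agent.Lib.Helper27.LftDescA

open Groth.Agent.Lib.Helper29.LocHomog

section general

variable (P : MorphismProperty Scheme.{u}) [IsZariskiLocalAtSource P]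

theorem mem_Loc_iff {X Y : Scheme.{u}} (f : X ⟶ Y) (x : X) :
    x ∈ Loc P f ↔ ∃ (V : Scheme.{u}) (j : V ⟶ X) (_ : IsOpenImmersion j) (v : V),
      j v = x ∧ P (j ≫ f) := by
  constructor
  · rintro ⟨W, hxW, hW⟩
    exact ⟨W, W.ι, inferInstance, ⟨x, hxW⟩, rfl, hW⟩
  · rintro ⟨V, j, hj, v, rfl, hP⟩
    refine ⟨j.opensRange, ⟨v, rfl⟩, ?_⟩
    have e : j.isoOpensRange.hom ≫ j.opensRange.ι = j := j.isoOpensRange_hom_ι
    rw [← e, Category.assoc] at hP
    exact (MorphismProperty.cancel_left_of_respectsIso P _ _).1 hP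

/-- restriction to an open. -/
theorem mem_Loc_comp_of_mem {X Y V : Scheme.{u}} (f : X ⟶ Y) (j : V ⟶ X) [IsOpenImmersion j]
    (v : V) (hv : j v ∈ Loc P f) : v ∈ Loc P (j ≫ f) := by
  rw [mem_Loc_iff] at hv ⊢
  obtain ⟨V₁, j₁, hj₁, v₁, hv₁, hP⟩ := hv
  obtain ⟨z, hz1, hz2⟩ := Scheme.Pullback.exists_preimage_pullback (f := j₁) (g := j) v₁ v hv₁
  refine ⟨pullback j₁ j, pullback.snd j₁ j, inferInstance, z, hz2, ?_⟩
  rw [← Category.assoc, ← pullback.condition, Category.assoc]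
  exact IsZariskiLocalAtSource.comp hP _

theorem mem_Loc_of_comp {X Y V : Scheme.{u}} (f : X ⟶ Y) (j : V ⟶ X) [IsOpenImmersion j]
    (v : V) (hv : v ∈ Loc P (j ≫ f)) : j v ∈ Loc P f := by
  rw [mem_Loc_iff] at hv ⊢
  obtain ⟨V₁, j₁, hj₁, v₁, hv₁, hP⟩ := hv
  refine ⟨V₁, j₁ ≫ j, inferInstance, v₁, by rw [Scheme.Hom.comp_apply, hv₁], ?_⟩
  rwa [Category.assoc]

theorem exists_basicOpen_of_mem_Loc {T : CommRingCat.{u}} {Y : Scheme.{u}} (q : Spec T ⟶ Y)
    (t : Spec T) (ht : t ∈ Loc P q) :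
    ∃ h : T, h ∉ t.asIdeal ∧
      P (Spec.map (CommRingCat.ofHom (algebraMap T (Localization.Away h))) ≫ q) := by
  obtain ⟨W, htW, hW⟩ := ht
  obtain ⟨_, ⟨_, ⟨h, rfl⟩, rfl⟩, hht, hhW⟩ :=
    PrimeSpectrum.isBasis_basic_opens.exists_subset_of_mem_open htW W.2
  refine ⟨h, hht, ?_⟩
  have hrange : Set.range (Spec.map (CommRingCat.ofHom (algebraMap T (Localization.Away h)))) ⊆
      Set.range W.ι := by
    rw [Scheme.Opens.range_ι]
    refine subset_trans ?_ hhW
    rw [← Scheme.Hom.coe_opensRange, Scheme.Hom.opensRange_localizationAway]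
    exact fun _ hx => hx
  have e := IsOpenImmersion.lift_fac W.ι _ hrange
  rw [← e, Category.assoc]
  exact IsZariskiLocalAtSource.comp hW _

end general

section plumbing

/-- the algebraic hypothesis. -/
def HAlg (R R' : Type u) [CommRing R] [CommRing R'] [Algebra R R'] : Prop :=
  ∀ (B : Type u) [CommRing B] [Algebra R B] (P : Ideal (R' ⊗[R] B)) [P.IsPrime]
    (h : R' ⊗[R] B), h ∉ P → Algebra.FiniteType R' (Localization.Away h) →
    ∃ f : B, (1 : R') ⊗ₜ[R] f ∉ P ∧ Algebra.FiniteType R (Localization.Away f)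

variable {R R' : Type u} [CommRing R] [CommRing R'] [Algebra R R']

theorem Loc_lft_descend_of_HAlg (H : HAlg R R') {X' X : Scheme.{u}} {g' : X' ⟶ X}
    {f' : X' ⟶ Spec (CommRingCat.of R')} {f : X ⟶ Spec (CommRingCat.of R)}
    (h : IsPullback g' f' f (Spec.map (CommRingCat.ofHom (algebraMap R R')))) (x' : X')
    (hx' : x' ∈ Loc @LocallyOfFiniteType f') : g' x' ∈ Loc @LocallyOfFiniteType f := by
  obtain ⟨B₀, j, hj, b, hb⟩ : ∃ (B₀ : CommRingCat.{u}) (j : Spec B₀ ⟶ X) (_ : IsOpenImmersion j)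
      (b : Spec B₀), j b = g' x' :=
    ⟨_, X.affineOpenCover.f (X.affineOpenCover.idx (g' x')), inferInstance,
      X.affineOpenCover.covers (g' x')⟩
  rw [← hb]
  apply mem_Loc_of_comp
  let φ : CommRingCat.of R ⟶ B₀ := Spec.preimage (j ≫ f)
  have hφ : Spec.map φ = j ≫ f := Spec.map_preimage _
  letI : Algebra R B₀ := φ.hom.toAlgebra
  have hφ' : Spec.map (CommRingCat.ofHom (algebraMap R B₀)) = j ≫ f := hφ
  have hP₁ : IsPullback (pullback.snd g' j) (pullback.fst g' j ≫ f')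
      (Spec.map (CommRingCat.ofHom (algebraMap R B₀)))
      (Spec.map (CommRingCat.ofHom (algebraMap R R'))) := by
    rw [hφ']
    exact (IsPullback.of_hasPullback g' j).flip.paste_vert h
  obtain ⟨p₁, hp1, hp2⟩ := Scheme.Pullback.exists_preimage_pullback (f := g') (g := j) x' b hb.symm
  have hp₁ : p₁ ∈ Loc @LocallyOfFiniteType (pullback.fst g' j ≫ f') :=
    mem_Loc_comp_of_mem _ f' (pullback.fst g' j) p₁ (by rw [hp1]; exact hx')
  have std : IsPullback
      (Spec.map (CommRingCat.ofHom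
        (Algebra.TensorProduct.includeRight.toRingHom : B₀ →+* R' ⊗[R] B₀)))
      (Spec.map (CommRingCat.ofHom
        (Algebra.TensorProduct.includeLeftRingHom : R' →+* R' ⊗[R] B₀)))
      (Spec.map (CommRingCat.ofHom (algebraMap R B₀)))
      (Spec.map (CommRingCat.ofHom (algebraMap R R'))) :=
    (isPullback_SpecMap_of_isPushout _ _ _ _ (CommRingCat.isPushout_tensorProduct R R' B₀)).flip
  let θ := hP₁.isoIsPullback _ _ std
  have hθ1 : θ.hom ≫ Spec.map (CommRingCat.ofHom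
      (Algebra.TensorProduct.includeRight.toRingHom : B₀ →+* R' ⊗[R] B₀)) = pullback.snd g' j :=
    IsPullback.isoIsPullback_hom_fst _ _ hP₁ std
  have hθ2 : θ.hom ≫ Spec.map (CommRingCat.ofHom
      (Algebra.TensorProduct.includeLeftRingHom : R' →+* R' ⊗[R] B₀)) =
      pullback.fst g' j ≫ f' :=
    IsPullback.isoIsPullback_hom_snd _ _ hP₁ std
  have ht : θ.hom p₁ ∈ Loc @LocallyOfFiniteType (Spec.map (CommRingCat.ofHom
      (Algebra.TensorProduct.includeLeftRingHom : R' →+* R' ⊗[R] B₀))) :=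
    mem_Loc_of_comp _ _ θ.hom p₁ (by rw [hθ2]; exact hp₁)
  obtain ⟨h₀, hh₀t, hh₀⟩ := exists_basicOpen_of_mem_Loc _ _ (θ.hom p₁) ht
  have hfin : Algebra.FiniteType R' (Localization.Away h₀) := by
    rw [← Spec.map_comp, HasRingHomProperty.Spec_iff (P := @LocallyOfFiniteType)] at hh₀
    exact RingHom.finiteType_algebraMap.1 hh₀
  obtain ⟨f₀, hf₀t, hf₀⟩ := H B₀ (θ.hom p₁).asIdeal h₀ hh₀t hfin
  have hbt : b = Spec.map (CommRingCat.ofHom
      (Algebra.TensorProduct.includeRight.toRingHom : B₀ →+* R' ⊗[R] B₀)) (θ.hom p₁) := by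
    rw [← hp2, ← hθ1, Scheme.Hom.comp_apply]
  have hb_mem : b ∈ Set.range
      (Spec.map (CommRingCat.ofHom (algebraMap B₀ (Localization.Away f₀)))) := by
    rw [← Scheme.Hom.coe_opensRange, Scheme.Hom.opensRange_localizationAway]
    show f₀ ∉ b.asIdeal
    rw [hbt]
    exact hf₀t
  obtain ⟨v, hv⟩ := hb_mem
  rw [mem_Loc_iff]
  refine ⟨_, Spec.map (CommRingCat.ofHom (algebraMap B₀ (Localization.Away f₀))), inferInstance,
    v, hv, ?_⟩
  rw [← hφ', ← Spec.map_comp, HasRingHomProperty.Spec_iff (P := @LocallyOfFiniteType)]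
  exact RingHom.finiteType_algebraMap.2 hf₀

end plumbing

end Groth.Agent.Lib.Helper27.LftDescA
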