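import Mathlib

/-!
# Descent of "finite type near a point" along a field extension (helper27)

`k ⊆ K` fields, `B` a `k`-algebra, `h ∈ K ⊗ B` with `(K ⊗ B)_h` of finite type over `K` and a
prime `P ∌ h`: then there is `f ∈ B` with `1 ⊗ f ∉ P` and `B_f` of finite type over `k`.
(Used for SGA3 VI_B 1.3 without finite-type hypothesis.)
-/

set_option autoImplicit false
universe u
open TensorProduct

namespace Groth.Agent.Lib.Helper27.LftDescB

section fg
variable {R A B : Type u} [CommRing R] [CommRing A] [CommRing B] [Algebra R A] [Algebra R B]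

lemma baseChange_mono {C D : Subalgebra R B} (h : C ≤ D) : C.baseChange A ≤ D.baseChange A := by
  rintro _ ⟨y, rfl⟩
  induction y using TensorProduct.induction_on with
  | zero => simp
  | tmul a c => exact Subalgebra.tmul_mem_baseChange (h c.2) a
  | add x y hx hy =>
    rw [map_add]
    exact add_mem hx hy

lemma exists_fg_forall_mem_baseChange (F : Finset (A ⊗[R] B)) :
    ∃ C : Subalgebra R B, C.FG ∧ ∀ y ∈ F, y ∈ C.baseChange A := by
  classical
  induction F using Finset.induction_on with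
  | empty => exact ⟨⊥, Subalgebra.fg_bot, by simp⟩
  | insert a s _ ih =>
    obtain ⟨C, hC, hCs⟩ := ih
    obtain ⟨D, hD, hDa⟩ := exists_fg_and_mem_baseChange a
    refine ⟨C ⊔ D, hC.sup hD, fun y hy => ?_⟩
    rw [Finset.mem_insert] at hy
    rcases hy with rfl | hy
    · exact baseChange_mono le_sup_right hDa
    · exact baseChange_mono le_sup_left (hCs y hy)

end fg

section openmap

variable (k K B : Type u) [Field k] [Field K] [Algebra k K] [CommRing B] [Algebra k B]

lemma isOpenMap_comap_includeRight :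
    IsOpenMap (PrimeSpectrum.comap
      (Algebra.TensorProduct.includeRight : B →ₐ[k] K ⊗[k] B).toRingHom) := by
  have h1 := PrimeSpectrum.isOpenMap_comap_algebraMap_tensorProduct_of_field
    (K := k) (A := B) (B := K)
  have e : (Algebra.TensorProduct.includeRight : B →ₐ[k] K ⊗[k] B).toRingHom =
      ((Algebra.TensorProduct.comm k B K : B ⊗[k] K ≃ₐ[k] K ⊗[k] B) : B ⊗[k] K →+* K ⊗[k] B).comp
        (algebraMap B (B ⊗[k] K)) := by
    ext b
    simp [Algebra.TensorProduct.algebraMap_apply]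
  rw [e, PrimeSpectrum.comap_comp]
  refine h1.comp ?_
  exact (PrimeSpectrum.isHomeomorph_comap_of_bijective
    (Algebra.TensorProduct.comm k B K).bijective).isOpenMap

end openmap


section main

variable {k K B : Type u} [Field k] [Field K] [Algebra k K] [CommRing B] [Algebra k B]

/-- the ideal of `a ∈ B₀` with `a * b ∈ B₀`. -/
def colonIdeal (B₀ : Subalgebra k B) (b : B) : Ideal B₀ where
  carrier := {a | (a : B) * b ∈ B₀}
  add_mem' := by
    intro a a' ha ha'
    simp only [Set.mem_ofPred_eq] at *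
    rw [Subalgebra.coe_add, add_mul]
    exact add_mem ha ha'
  zero_mem' := by simp
  smul_mem' := by
    intro c a ha
    simp only [Set.mem_ofPred_eq, smul_eq_mul, Subalgebra.coe_mul] at *
    rw [mul_assoc]
    exact mul_mem c.2 ha

lemma mem_colonIdeal (B₀ : Subalgebra k B) (b : B) (a : B₀) :
    a ∈ colonIdeal B₀ b ↔ (a : B) * b ∈ B₀ := Iff.rfl

/-- flatness step: if `ι t * (1 ⊗ b)` lies in `K ⊗ B₀` then `t` lies in the extension of the colon
ideal. -/
lemma mem_map_colonIdeal (B₀ : Subalgebra k B) (b : B) (t : K ⊗[k] B₀)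
    (ht : Algebra.TensorProduct.map (AlgHom.id K K) B₀.val t * ((1 : K) ⊗ₜ[k] b) ∈
      B₀.baseChange K) :
    t ∈ (colonIdeal B₀ b).map
      (Algebra.TensorProduct.includeRight : B₀ →ₐ[k] K ⊗[k] B₀).toRingHom := by
  let N : Submodule k B := Subalgebra.toSubmodule B₀
  let g₁ : B₀ →ₗ[k] B ⧸ N := N.mkQ ∘ₗ (LinearMap.mulRight k b) ∘ₗ B₀.val.toLinearMap
  have hex : Function.Exact (LinearMap.ker g₁).subtype g₁ := LinearMap.exact_subtype_ker_map g₁
  have hex' := Module.Flat.lTensor_exact K hex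
  have key : ∀ t' : K ⊗[k] B₀, g₁.lTensor K t' =
      (N.mkQ.lTensor K) (Algebra.TensorProduct.map (AlgHom.id K K) B₀.val t' *
        ((1 : K) ⊗ₜ[k] b)) := by
    intro t'
    induction t' using TensorProduct.induction_on with
    | zero => simp
    | tmul c a => simp [g₁, Algebra.TensorProduct.tmul_mul_tmul]
    | add x y hx hy => rw [map_add, map_add, add_mul, map_add, hx, hy]
  have hzero : ∀ t' : K ⊗[k] B₀, (N.mkQ.lTensor K)
      (Algebra.TensorProduct.map (AlgHom.id K K) B₀.val t') = 0 := by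
    intro t'
    induction t' using TensorProduct.induction_on with
    | zero => simp
    | tmul c a =>
      have h0 : N.mkQ (a : B) = 0 := (Submodule.Quotient.mk_eq_zero _).2 a.2
      simp only [Algebra.TensorProduct.map_tmul, LinearMap.lTensor_tmul, AlgHom.coe_id, id_eq,
        Subalgebra.coe_val, h0, tmul_zero]
    | add x y hx hy => rw [map_add, map_add, hx, hy, add_zero]
  obtain ⟨t', ht'⟩ := ht
  have h0 : g₁.lTensor K t = 0 := by
    rw [key, ← ht']
    exact hzero t'
  obtain ⟨s, hs⟩ := (hex' t).1 h0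
  rw [← hs]
  clear hs
  induction s using TensorProduct.induction_on with
  | zero => simp
  | tmul c a =>
    rw [LinearMap.lTensor_tmul]
    have ha : (a : B₀) ∈ colonIdeal B₀ b := by
      have := a.2
      rw [LinearMap.mem_ker] at this
      rw [mem_colonIdeal]
      exact (Submodule.Quotient.mk_eq_zero N).1 this
    have e : c ⊗ₜ[k] ((LinearMap.ker g₁).subtype a) = (c ⊗ₜ[k] (1 : B₀)) *
        (Algebra.TensorProduct.includeRight : B₀ →ₐ[k] K ⊗[k] B₀).toRingHom (a : B₀) := by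
      simp [Algebra.TensorProduct.tmul_mul_tmul]
    rw [e]
    exact Ideal.mul_mem_left _ _ (Ideal.mem_map_of_mem _ ha)
  | add x y hx hy =>
    rw [map_add]
    exact add_mem hx hy

end main


section thm

variable {k K B : Type u} [Field k] [Field K] [Algebra k K] [CommRing B] [Algebra k B]

theorem exists_finiteType_away (P : Ideal (K ⊗[k] B)) [P.IsPrime] (h : K ⊗[k] B) (hP : h ∉ P)
    (hfin : Algebra.FiniteType K (Localization.Away h)) :
    ∃ f : B, (1 : K) ⊗ₜ[k] f ∉ P ∧ Algebra.FiniteType k (Localization.Away f) := by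
  classical
  obtain ⟨s, hs⟩ := hfin.out
  choose n a hna using fun z : Localization.Away h => IsLocalization.Away.surj h z
  obtain ⟨B₀, hB₀fg, hB₀⟩ := exists_fg_forall_mem_baseChange (A := K) (insert h (s.image a))
  let ι : K ⊗[k] B₀ →ₐ[K] K ⊗[k] B := Algebra.TensorProduct.map (AlgHom.id K K) B₀.val
  obtain ⟨h₀, hh₀⟩ : ∃ h₀, ι h₀ = h := hB₀ h (Finset.mem_insert_self _ _)
  have step2 : ∀ z : Localization.Away h, ∃ (m : ℕ) (t₀ : K ⊗[k] B₀),
      algebraMap _ (Localization.Away h) (ι t₀) =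
        z * algebraMap _ (Localization.Away h) h ^ m := by
    intro z
    have hz : z ∈ Algebra.adjoin K (s : Set (Localization.Away h)) := by rw [hs]; trivial
    induction hz using Algebra.adjoin_induction with
    | mem z hz =>
      obtain ⟨t₀, ht₀⟩ : ∃ t₀, ι t₀ = a z :=
        hB₀ (a z) (Finset.mem_insert_of_mem (Finset.mem_image_of_mem _ hz))
      exact ⟨n z, t₀, by rw [ht₀, hna]⟩
    | algebraMap c =>
      refine ⟨0, algebraMap K _ c, ?_⟩
      rw [pow_zero, mul_one, AlgHom.commutes, ← IsScalarTower.algebraMap_apply]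
    | add z w _ _ hz hw =>
      obtain ⟨m₁, t₁, e₁⟩ := hz
      obtain ⟨m₂, t₂, e₂⟩ := hw
      refine ⟨m₁ + m₂, t₁ * h₀ ^ m₂ + t₂ * h₀ ^ m₁, ?_⟩
      simp only [map_add, map_mul, map_pow, e₁, e₂, hh₀]
      ring
    | mul z w _ _ hz hw =>
      obtain ⟨m₁, t₁, e₁⟩ := hz
      obtain ⟨m₂, t₂, e₂⟩ := hw
      refine ⟨m₁ + m₂, t₁ * t₂, ?_⟩
      rw [map_mul, map_mul, e₁, e₂]
      ring
  have step2' : ∀ b : B, ∃ (m : ℕ), h ^ m * ((1 : K) ⊗ₜ[k] b) ∈ B₀.baseChange K := by
    intro b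
    obtain ⟨m, t₀, e⟩ := step2 (algebraMap _ _ ((1 : K) ⊗ₜ[k] b))
    rw [← map_pow, ← map_mul] at e
    obtain ⟨r, hr⟩ := IsLocalization.Away.exists_of_eq h e
    refine ⟨r + m, (h₀ ^ r * t₀), ?_⟩
    show ι (h₀ ^ r * t₀) = _
    rw [map_mul, map_pow, hh₀, hr]
    ring
  let P₀ : Ideal (K ⊗[k] B₀) := P.comap ι
  haveI : P₀.IsPrime := Ideal.comap_isPrime ι P
  have hh₀P : h₀ ∉ P₀ := by
    rw [Ideal.mem_comap, hh₀]
    exact hP
  let incl : B₀ →+* K ⊗[k] B₀ :=
    (Algebra.TensorProduct.includeRight : B₀ →ₐ[k] K ⊗[k] B₀).toRingHom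
  let π := PrimeSpectrum.comap incl
  have hopen : IsOpen (π '' (PrimeSpectrum.basicOpen h₀ : Set _)) :=
    isOpenMap_comap_includeRight k K B₀ _ (PrimeSpectrum.basicOpen h₀).isOpen
  let 𝔭₀ : PrimeSpectrum B₀ := π ⟨P₀, inferInstance⟩
  have h𝔭₀ : 𝔭₀ ∈ π '' (PrimeSpectrum.basicOpen h₀ : Set _) := ⟨⟨P₀, inferInstance⟩, hh₀P, rfl⟩
  obtain ⟨_, ⟨_, ⟨f, rfl⟩, rfl⟩, hf𝔭, hfU⟩ :=
    PrimeSpectrum.isBasis_basic_opens.exists_subset_of_mem_open h𝔭₀ hopen
  have step4 : ∀ b : B, ∃ m : ℕ, (f : B) ^ m * b ∈ B₀ := by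
    intro b
    obtain ⟨m, hm⟩ := step2' b
    by_contra hcon
    have hfr : f ∉ (colonIdeal B₀ b).radical := by
      rintro ⟨j, hj⟩
      refine hcon ⟨j, ?_⟩
      rw [mem_colonIdeal] at hj
      simpa using hj
    obtain ⟨𝔮, ⟨h𝔮I, h𝔮p⟩, hf𝔮⟩ :
        ∃ J : Ideal B₀, (colonIdeal B₀ b ≤ J ∧ J.IsPrime) ∧ f ∉ J := by
      by_contra hc
      apply hfr
      rw [Ideal.radical_eq_sInf, Ideal.mem_sInf]
      intro J hJ
      by_contra hJf
      exact hc ⟨J, hJ, hJf⟩
    have hmem : (⟨𝔮, h𝔮p⟩ : PrimeSpectrum B₀) ∈ π '' (PrimeSpectrum.basicOpen h₀ : Set _) :=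
      hfU hf𝔮
    obtain ⟨𝔔, h𝔔h, h𝔔⟩ := hmem
    have hle : (colonIdeal B₀ b).map incl ≤ 𝔔.asIdeal := by
      rw [Ideal.map_le_iff_le_comap]
      have : Ideal.comap incl 𝔔.asIdeal = 𝔮 := congrArg PrimeSpectrum.asIdeal h𝔔
      rw [this]
      exact h𝔮I
    have hpow : h₀ ^ m ∈ 𝔔.asIdeal :=
      hle (mem_map_colonIdeal B₀ b (h₀ ^ m) (by rw [map_pow]; erw [hh₀]; exact hm))
    exact h𝔔h (𝔔.2.mem_of_pow_mem m hpow)
  refine ⟨(f : B), ?_, ?_⟩
  · intro hmem
    apply hf𝔭
    show f ∈ 𝔭₀.asIdeal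
    simpa [𝔭₀, π, P₀, incl, ι] using hmem
  · obtain ⟨s₀, hs₀⟩ := hB₀fg
    set inv := IsLocalization.Away.invSelf (S := Localization.Away (f : B)) (f : B) with hinv
    set F := algebraMap B (Localization.Away (f : B)) (f : B) with hF
    refine ⟨⟨s₀.image (algebraMap B (Localization.Away (f : B))) ∪ {inv}, ?_⟩⟩
    rw [eq_top_iff]
    rintro z -
    obtain ⟨j, b, hjb⟩ := IsLocalization.Away.surj (f : B) z
    obtain ⟨m, hm⟩ := step4 b
    have hu : F * inv = 1 := IsLocalization.Away.mul_invSelf _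
    have h1 : ∀ i : ℕ, F ^ i * inv ^ i = 1 := fun i => by rw [← mul_pow, hu, one_pow]
    have hz : z = algebraMap B _ ((f : B) ^ m * b) * inv ^ (m + j) := by
      rw [map_mul, map_pow, ← hjb, pow_add]
      calc z = z * (F ^ m * inv ^ m) * (F ^ j * inv ^ j) := by rw [h1, h1, mul_one, mul_one]
        _ = _ := by ring
    rw [hz]
    refine mul_mem ?_ (pow_mem (Algebra.subset_adjoin (by simp)) _)
    have hmem : (f : B) ^ m * b ∈ Algebra.adjoin k (s₀ : Set B) := by rw [hs₀]; exact hm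
    have h2 : Algebra.adjoin k (algebraMap B (Localization.Away (f : B)) '' (s₀ : Set B)) ≤
        Algebra.adjoin k (↑(s₀.image (algebraMap B (Localization.Away (f : B))) ∪ {inv}) :
          Set (Localization.Away (f : B))) := by
      apply Algebra.adjoin_mono
      intro y hy
      simp only [Finset.coe_union, Finset.coe_image, Finset.coe_singleton, Set.mem_union]
      exact Or.inl hy
    apply h2
    have h3 := AlgHom.map_adjoin (IsScalarTower.toAlgHom k B (Localization.Away (f : B)))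
      (s₀ : Set B)
    have h4 : (IsScalarTower.toAlgHom k B (Localization.Away (f : B))) ((f : B) ^ m * b) ∈
        Subalgebra.map (IsScalarTower.toAlgHom k B (Localization.Away (f : B)))
          (Algebra.adjoin k (s₀ : Set B)) := ⟨_, hmem, rfl⟩
    rw [h3] at h4
    exact h4

end thm

end Groth.Agent.Lib.Helper27.LftDescB
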