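import Mathlib
import Groth.Agent.S5338

/-!
# Lifting "finite type near a point" along a nilpotent thickening of the base (helper27)
-/

set_option autoImplicit false
universe u
open TensorProduct

namespace Groth.Agent.Lib.Helper27.LftDescC

variable {A B : Type u} [CommRing A] [CommRing B] [Algebra A B]

lemma exists_one_tmul_eq (n : Ideal A) (t : (A ⧸ n) ⊗[A] B) :
    ∃ b : B, (1 : A ⧸ n) ⊗ₜ[A] b = t := by
  induction t using TensorProduct.induction_on with
  | zero => exact ⟨0, by simp⟩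
  | tmul a b =>
    obtain ⟨a, rfl⟩ := Ideal.Quotient.mk_surjective a
    refine ⟨a • b, ?_⟩
    rw [← TensorProduct.smul_tmul]
    congr 1
    rw [Algebra.smul_def, mul_one]
    rfl
  | add x y hx hy =>
    obtain ⟨b, rfl⟩ := hx
    obtain ⟨c, rfl⟩ := hy
    exact ⟨b + c, by rw [tmul_add]⟩

theorem exists_finiteType_away_of_nilpotent (n : Ideal A) (hn : IsNilpotent n)
    (P : Ideal ((A ⧸ n) ⊗[A] B)) [P.IsPrime] (h : (A ⧸ n) ⊗[A] B) (hP : h ∉ P)
    (hfin : Algebra.FiniteType (A ⧸ n) (Localization.Away h)) :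
    ∃ f : B, (1 : A ⧸ n) ⊗ₜ[A] f ∉ P ∧ Algebra.FiniteType A (Localization.Away f) := by
  obtain ⟨f, rfl⟩ := exists_one_tmul_eq n h
  refine ⟨f, hP, ?_⟩
  set C := Localization.Away f with hC
  set T := (A ⧸ n) ⊗[A] B with hT
  set h : T := (1 : A ⧸ n) ⊗ₜ[A] f with hh
  apply (Groth.Agent.S5338.result A A C n hn).1
  set J : Ideal C := (n.map (algebraMap A A)).map (algebraMap A C) with hJ
  have hker : ∀ a ∈ n, Algebra.ofId A (C ⧸ J) a = 0 := by
    intro a ha
    show Ideal.Quotient.mk J (algebraMap A C a) = 0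
    rw [Ideal.Quotient.eq_zero_iff_mem]
    exact Ideal.mem_map_of_mem _ (Ideal.mem_map_of_mem _ ha)
  let ψ₀ : T →ₐ[A] C ⧸ J := Algebra.TensorProduct.lift
    (Ideal.Quotient.liftₐ n (Algebra.ofId A (C ⧸ J)) hker)
    ((IsScalarTower.toAlgHom A C (C ⧸ J)).comp (IsScalarTower.toAlgHom A B C))
    (fun _ _ => Commute.all _ _)
  have hψ₀ : ∀ b : B, ψ₀ ((1 : A ⧸ n) ⊗ₜ[A] b) = Ideal.Quotient.mk J (algebraMap B C b) := by
    intro b
    show Algebra.TensorProduct.lift _ _ _ ((1 : A ⧸ n) ⊗ₜ[A] b) = _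
    rw [Algebra.TensorProduct.lift_tmul, map_one, one_mul]
    rfl
  have hunit : IsUnit (ψ₀.toRingHom h) := by
    show IsUnit (ψ₀ h)
    rw [hh, hψ₀]
    exact (IsLocalization.Away.algebraMap_isUnit f).map (Ideal.Quotient.mk J)
  let ψ : Localization.Away h →+* C ⧸ J := IsLocalization.Away.lift h hunit
  have hψ : ∀ t : T, ψ (algebraMap T _ t) = ψ₀ t := fun t => IsLocalization.Away.lift_eq h hunit t
  let ψa : Localization.Away h →ₐ[A] C ⧸ J :=
    { ψ with
      commutes' := by
        intro a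
        show ψ (algebraMap A (Localization.Away h) a) = _
        rw [IsScalarTower.algebraMap_apply A T (Localization.Away h), hψ]
        exact ψ₀.commutes a }
  have hsurj : Function.Surjective ψa := by
    intro c
    obtain ⟨c, rfl⟩ := Ideal.Quotient.mk_surjective c
    obtain ⟨m, b, hmb⟩ := IsLocalization.Away.surj f c
    set inv := IsLocalization.Away.invSelf (S := Localization.Away h) h with hinv
    have hu : ψ inv * Ideal.Quotient.mk J (algebraMap B C f) = 1 := by
      rw [← hψ₀, ← hψ, ← map_mul, mul_comm]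
      rw [show algebraMap T (Localization.Away h) ((1 : A ⧸ n) ⊗ₜ[A] f) * inv = 1 from
        IsLocalization.Away.mul_invSelf _, map_one]
    refine ⟨algebraMap T _ ((1 : A ⧸ n) ⊗ₜ[A] b) * inv ^ m, ?_⟩
    show ψ (algebraMap T _ ((1 : A ⧸ n) ⊗ₜ[A] b) * inv ^ m) = _
    rw [map_mul, hψ, hψ₀, ← hmb, map_mul, map_pow, map_pow, mul_assoc, ← mul_pow, mul_comm _ (ψ inv),
      hu, one_pow, mul_one]
  haveI : Algebra.FiniteType A (A ⧸ n) := inferInstance
  haveI : Algebra.FiniteType A (Localization.Away h) :=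
    Algebra.FiniteType.trans (S := A ⧸ n) inferInstance hfin
  haveI : Algebra.FiniteType A (C ⧸ J) := Algebra.FiniteType.of_surjective ψa hsurj
  exact Algebra.FiniteType.of_restrictScalars_finiteType A _ _

end Groth.Agent.Lib.Helper27.LftDescC
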