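import Groth.Agent.Lib.Helper27.LftDescA
import Groth.Agent.Lib.Helper27.LftDescB
import Groth.Agent.Lib.Helper27.LftDescC
import Groth.Agent.Lib.Helper29.LocHomog2

/-!
# SGA3 VI_B 1.3 without finite-type hypothesis (helper27)

Over a local artinian base, the locally-of-finite-type locus descends along *arbitrary* base
change; hence a group scheme over a local artinian ring which is locally of finite type on a
nonempty open is locally of finite type.
-/

set_option autoImplicit false
set_option linter.style.haveILetI false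
universe u
open CategoryTheory CategoryTheory.Limits MonoidalCategory CartesianMonoidalCategory MonObj
  AlgebraicGeometry TensorProduct

namespace Groth.Agent.Lib.Helper27.LftDescD

open Groth.Agent.Lib.Helper29.LocHomog Groth.Agent.Lib.Helper29.HomogSq
  Groth.Agent.Lib.Helper27.LftDescA

theorem hAlg_field (k K : Type u) [Field k] [Field K] [Algebra k K] : HAlg k K :=
  fun _ _ _ P _ h hP hfin => LftDescB.exists_finiteType_away P h hP hfin

theorem hAlg_nilp (A : Type u) [CommRing A] (n : Ideal A) (hn : IsNilpotent n) :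
    HAlg A (A ⧸ n) :=
  fun _ _ _ P _ h hP hfin => LftDescC.exists_finiteType_away_of_nilpotent n hn P h hP hfin

theorem isNilpotent_maximalIdeal (A : Type u) [CommRing A] [IsArtinianRing A] [IsLocalRing A] :
    IsNilpotent (IsLocalRing.maximalIdeal A) := by
  have h := IsArtinianRing.isNilpotent_jacobson_bot (R := A)
  rwa [IsLocalRing.jacobson_eq_maximalIdeal ⊥ bot_ne_top] at h

theorem Loc_lft_descend_artinian (A : Type u) [CommRing A] [IsArtinianRing A] [IsLocalRing A]
    {X' X Y' : Scheme.{u}} {g' : X' ⟶ X} {f' : X' ⟶ Y'} {f : X ⟶ Spec (CommRingCat.of A)}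
    {g : Y' ⟶ Spec (CommRingCat.of A)} (h : IsPullback g' f' f g) (x' : X')
    (hx' : x' ∈ Loc @LocallyOfFiniteType f') : g' x' ∈ Loc @LocallyOfFiniteType f := by
  set m := IsLocalRing.maximalIdeal A with hm
  -- the residue field at `f' x'`
  obtain ⟨K, hK, i, s, his⟩ : ∃ (K : Type u) (_ : Field K) (i : Spec (CommRingCat.of K) ⟶ Y')
      (s : Spec (CommRingCat.of K)), i s = f' x' :=
    ⟨Y'.residueField (f' x'), inferInstance, Y'.fromSpecResidueField (f' x'),
      ⟨⊥, Ideal.isPrime_bot⟩, Scheme.fromSpecResidueField_apply _ _⟩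
  have hX'' : IsPullback (pullback.fst f' i ≫ g') (pullback.snd f' i) f (i ≫ g) :=
    (IsPullback.of_hasPullback f' i).paste_horiz h
  obtain ⟨x'', hx1, hx2⟩ :=
    Scheme.Pullback.exists_preimage_pullback (f := f') (g := i) x' s his.symm
  have hx'' : x'' ∈ Loc @LocallyOfFiniteType (pullback.snd f' i) :=
    Loc_baseChange @LocallyOfFiniteType (IsPullback.of_hasPullback f' i) x''
      (by rw [hx1]; exact hx')
  let ψ : CommRingCat.of A ⟶ CommRingCat.of K := Spec.preimage (i ≫ g)
  have hψ : Spec.map ψ = i ≫ g := Spec.map_preimage _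
  have hker : ∀ a ∈ m, ψ.hom a = 0 := by
    intro a ha
    have hprime : (Ideal.comap ψ.hom ⊥).IsPrime := Ideal.comap_isPrime _ _
    have hmax : (Ideal.comap ψ.hom ⊥).IsMaximal := IsArtinianRing.isMaximal_of_isPrime _
    have hmm := IsLocalRing.eq_maximalIdeal hmax
    have ha' : a ∈ Ideal.comap ψ.hom ⊥ := by rw [hmm]; exact ha
    simpa using ha'
  let q := Spec.map (CommRingCat.ofHom (algebraMap A (A ⧸ m)))
  let ψ₀ : A ⧸ m →+* K := Ideal.Quotient.lift m ψ.hom hker
  letI : Field (A ⧸ m) := Ideal.Quotient.field m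
  letI : Algebra (A ⧸ m) K := ψ₀.toAlgebra
  have hψ' : ψ = CommRingCat.ofHom (algebraMap A (A ⧸ m)) ≫
      CommRingCat.ofHom (algebraMap (A ⧸ m) K) := by
    ext a
    show ψ.hom a = ψ₀ (Ideal.Quotient.mk m a)
    rw [Ideal.Quotient.lift_mk]
  let r := Spec.map (CommRingCat.ofHom (algebraMap (A ⧸ m) K))
  have hig : i ≫ g = r ≫ q := by rw [← hψ, hψ', Spec.map_comp]
  let l : pullback f' i ⟶ pullback f q :=
    pullback.lift (pullback.fst f' i ≫ g') (pullback.snd f' i ≫ r)
      (by rw [Category.assoc, Category.assoc, ← hig, ← Category.assoc, hX''.w])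
  have hl1 : l ≫ pullback.fst f q = pullback.fst f' i ≫ g' := pullback.lift_fst _ _ _
  have hl2 : l ≫ pullback.snd f q = pullback.snd f' i ≫ r := pullback.lift_snd _ _ _
  have hleft : IsPullback l (pullback.snd f' i) (pullback.snd f q) r := by
    refine IsPullback.of_right ?_ hl2 (IsPullback.of_hasPullback f q)
    rw [hl1, ← hig]
    exact hX''
  have h1 : l x'' ∈ Loc @LocallyOfFiniteType (pullback.snd f q) :=
    Loc_lft_descend_of_HAlg (hAlg_field (A ⧸ m) K) hleft x'' hx''
  have h2 : pullback.fst f q (l x'') ∈ Loc @LocallyOfFiniteType f :=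
    Loc_lft_descend_of_HAlg (hAlg_nilp A m (isNilpotent_maximalIdeal A))
      (IsPullback.of_hasPullback f q) (l x'') h1
  have e : pullback.fst f q (l x'') = g' x' := by
    rw [← Scheme.Hom.comp_apply, hl1, Scheme.Hom.comp_apply, hx1]
  rwa [e] at h2

/-- SGA3 VI_B 1.3.? : a group scheme over a local artinian ring which is locally of finite type on
a nonempty open is locally of finite type. -/
theorem lft_of_open (A : Type u) [CommRing A] [IsArtinianRing A] [IsLocalRing A]
    (G : Over (Spec (CommRingCat.of A))) [GrpObj G] (W : G.left.Opens)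
    (hW : (W : Set G.left).Nonempty) (hlft : LocallyOfFiniteType (W.ι ≫ G.hom)) :
    LocallyOfFiniteType G.hom := by
  haveI := subsingleton_spec_of_artinian_local A
  obtain ⟨x₀, hx₀⟩ := hW
  let u : G ⟶ 𝟙_ (Over (Spec (CommRingCat.of A))) := toUnit G
  have hu : u.left = G.hom := rfl
  have hmain : LocallyOfFiniteType u.left := by
    apply of_forall_mem_Loc @LocallyOfFiniteType
    intro y
    refine Loc_homog u @LocallyOfFiniteType
      (fun z hz => Loc_lft_descend_artinian A (f := u.left) (g := (tw u).left) (sq2 u) z hz)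
      x₀ y (Subsingleton.elim _ _) ⟨W, hx₀, ?_⟩
    rw [hu]
    exact hlft
  rwa [hu] at hmain

end Groth.Agent.Lib.Helper27.LftDescD
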