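import Mathlib
import Groth.Agent.Lib.Helper27.LimConstr

/-! Irreducible / connected components of a cofiltered limit of schemes with affine dominant
transition maps and Noetherian limit (helper27). -/

set_option autoImplicit false
universe u
open CategoryTheory CategoryTheory.Limits AlgebraicGeometry

namespace Groth.Agent.Lib.Helper27.LimComp

section Top

variable {X W : Type*} [TopologicalSpace X] [TopologicalSpace W]

/-- Topological lemma: dense continuous map, finitely many irreducible components upstairs, and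
closures of images of distinct components are incomparable: then `Y ↦ closure (f '' Y)` is a
bijection of irreducible components. -/
theorem bijOn_irreducibleComponents (f : X → W) (hf : Continuous f) (hd : DenseRange f)
    (hfin : (irreducibleComponents X).Finite)
    (hsep : ∀ Y ∈ irreducibleComponents X, ∀ Y' ∈ irreducibleComponents X,
      closure (f '' Y) ⊆ closure (f '' Y') → Y = Y') :
    Set.BijOn (fun Y : Set X => closure (f '' Y)) (irreducibleComponents X)
      (irreducibleComponents W) := by
  have hirr : ∀ Y ∈ irreducibleComponents X, IsIrreducible (closure (f '' Y)) := fun Y hY =>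
    (hY.1.image f hf.continuousOn).closure
  have hcov : (⋃ Y ∈ irreducibleComponents X, closure (f '' Y)) = Set.univ := by
    rw [← hfin.closure_biUnion, ← Set.image_iUnion₂, ← Set.sUnion_eq_biUnion,
      sUnion_irreducibleComponents, Set.image_univ]
    exact hd.closure_range
  have hkey : ∀ Z : Set W, IsIrreducible Z →
      ∃ Y ∈ irreducibleComponents X, Z ⊆ closure (f '' Y) := by
    intro Z hZ
    classical
    have h := (isIrreducible_iff_sUnion_isClosed.mp hZ)
      (hfin.toFinset.image (fun Y : Set X => closure (f '' Y)))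
      (by
        intro z hz
        rw [Finset.mem_image] at hz
        obtain ⟨Y, _, rfl⟩ := hz
        exact isClosed_closure)
      (by
        intro w _
        have hw : w ∈ ⋃ Y ∈ irreducibleComponents X, closure (f '' Y) := by
          rw [hcov]; trivial
        rw [Set.mem_iUnion₂] at hw
        obtain ⟨Y, hY, hwY⟩ := hw
        refine Set.mem_sUnion.mpr ⟨closure (f '' Y), ?_, hwY⟩
        rw [Finset.coe_image]
        exact ⟨Y, by simpa using hY, rfl⟩)
    obtain ⟨z, hz, hZz⟩ := h
    rw [Finset.mem_image] at hz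
    obtain ⟨Y, hY, rfl⟩ := hz
    exact ⟨Y, by simpa using hY, hZz⟩
  refine ⟨?_, ?_, ?_⟩
  · intro Y hY
    obtain ⟨Z', hZ'irr, hsub, hmax⟩ := exists_preirreducible _ (hirr Y hY).isPreirreducible
    have hZ'ne : Z'.Nonempty := (hirr Y hY).nonempty.mono hsub
    have hZ' : IsIrreducible Z' := ⟨hZ'ne, hZ'irr⟩
    obtain ⟨Y', hY', hZ'Y'⟩ := hkey Z' hZ'
    have hYY' : Y = Y' := hsep Y hY Y' hY' (hsub.trans hZ'Y')
    subst hYY'
    have heq : closure (f '' Y) = Z' := le_antisymm hsub hZ'Y'
    show closure (f '' Y) ∈ irreducibleComponents W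
    rw [heq]
    refine ⟨hZ', fun u hu hle => ?_⟩
    exact (hmax u hu.isPreirreducible hle).le
  · intro Y hY Y' hY' h
    exact hsep Y hY Y' hY' (le_of_eq h)
  · intro Z hZ
    obtain ⟨Y, hY, hZY⟩ := hkey Z hZ.1
    refine ⟨Y, hY, ?_⟩
    exact le_antisymm (hZ.2 (hirr Y hY) hZY) hZY

/-- In a Noetherian space there are finitely many connected components. -/
theorem finite_range_connectedComponent [TopologicalSpace.NoetherianSpace X] :
    (Set.range (connectedComponent : X → Set X)).Finite := by
  classical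
  have hfin : (irreducibleComponents X).Finite :=
    TopologicalSpace.NoetherianSpace.finite_irreducibleComponents
  let g : Set X → Set X := fun Z => if h : Z.Nonempty then connectedComponent h.some else ∅
  refine (hfin.image g).subset ?_
  rintro _ ⟨x, rfl⟩
  have hx : x ∈ ⋃₀ irreducibleComponents X := by
    rw [sUnion_irreducibleComponents]; trivial
  obtain ⟨Z, hZ, hxZ⟩ := hx
  refine ⟨Z, hZ, ?_⟩
  have hne : Z.Nonempty := ⟨x, hxZ⟩
  show (if h : Z.Nonempty then connectedComponent h.some else ∅) = connectedComponent x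
  rw [dif_pos hne]
  have hsub : Z ⊆ connectedComponent x :=
    hZ.1.isPreirreducible.isPreconnected.subset_connectedComponent hxZ
  exact (connectedComponent_eq (hsub hne.some_mem)).symm

/-- If there are finitely many connected components, each is open. -/
theorem isOpen_connectedComponent_of_finite
    (h : (Set.range (connectedComponent : X → Set X)).Finite) (x : X) :
    IsOpen (connectedComponent x) := by
  have hcl : IsClosed (⋃ C ∈ (Set.range (connectedComponent : X → Set X)) \ {connectedComponent x},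
      C) := by
    refine Set.Finite.isClosed_biUnion (h.subset Set.diff_subset) ?_
    rintro _ ⟨⟨y, rfl⟩, -⟩
    exact isClosed_connectedComponent
  have heq : connectedComponent x =
      (⋃ C ∈ (Set.range (connectedComponent : X → Set X)) \ {connectedComponent x}, C)ᶜ := by
    ext y
    simp only [Set.mem_compl_iff, Set.mem_iUnion, not_exists]
    constructor
    · rintro hy C ⟨⟨z, rfl⟩, hne⟩ hyC
      apply hne
      show connectedComponent z = connectedComponent x
      rw [connectedComponent_eq hy, connectedComponent_eq hyC]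
    · intro hy
      by_contra hyx
      refine hy (connectedComponent y) ⟨⟨y, rfl⟩, ?_⟩ mem_connectedComponent
      intro heq
      apply hyx
      have : connectedComponent y = connectedComponent x := heq
      rw [← this]
      exact mem_connectedComponent
  rw [heq]
  exact hcl.isOpen_compl

theorem closure_image_preimage_of_isClopen (f : X → W) (hd : DenseRange f) (V : Set W)
    (hV : IsClopen V) : closure (f '' (f ⁻¹' V)) = V := by
  apply le_antisymm
  · exact closure_minimal (Set.image_preimage_subset _ _) hV.isClosed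
  · rw [Set.image_preimage_eq_inter_range]
    exact hd.open_subset_closure_inter hV.isOpen

/-- Topological lemma for connected components. -/
theorem bijOn_connectedComponents (f : X → W) (hf : Continuous f) (hd : DenseRange f)
    (hfin : (Set.range (connectedComponent : X → Set X)).Finite)
    (hopen : ∀ C ∈ Set.range (connectedComponent : X → Set X), IsOpen (closure (f '' C)))
    (hdisj : ∀ C ∈ Set.range (connectedComponent : X → Set X),
      ∀ C' ∈ Set.range (connectedComponent : X → Set X), C ≠ C' →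
        Disjoint (closure (f '' C)) (closure (f '' C'))) :
    Set.BijOn (fun C : Set X => closure (f '' C)) (Set.range (connectedComponent : X → Set X))
      (Set.range (connectedComponent : W → Set W)) := by
  have hconn : ∀ C ∈ Set.range (connectedComponent : X → Set X),
      IsConnected (closure (f '' C)) := by
    rintro _ ⟨x, rfl⟩
    exact (isConnected_connectedComponent.image f hf.continuousOn).closure
  have hcov : (⋃ C ∈ Set.range (connectedComponent : X → Set X), closure (f '' C)) =
      Set.univ := by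
    rw [← hfin.closure_biUnion, ← Set.image_iUnion₂]
    have : (⋃ C ∈ Set.range (connectedComponent : X → Set X), C) = Set.univ := by
      apply Set.eq_univ_of_forall
      intro x
      exact Set.mem_iUnion₂.mpr ⟨connectedComponent x, ⟨x, rfl⟩, mem_connectedComponent⟩
    rw [this, Set.image_univ]
    exact hd.closure_range
  have hkey : ∀ C ∈ Set.range (connectedComponent : X → Set X), ∀ w ∈ closure (f '' C),
      connectedComponent w = closure (f '' C) := by
    intro C hC w hw
    apply le_antisymm
    · exact IsClopen.connectedComponent_subset ⟨isClosed_closure, hopen C hC⟩ hw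
    · exact (hconn C hC).subset_connectedComponent hw
  refine ⟨?_, ?_, ?_⟩
  · rintro _ ⟨x, rfl⟩
    refine ⟨f x, ?_⟩
    exact hkey _ ⟨x, rfl⟩ (f x) (subset_closure ⟨x, mem_connectedComponent, rfl⟩)
  · intro C hC C' hC' h
    by_contra hne
    have hd' := hdisj C hC C' hC' hne
    have h' : closure (f '' C) = closure (f '' C') := h
    rw [← h', disjoint_self] at hd'
    exact (hconn C hC).nonempty.ne_empty hd'
  · rintro _ ⟨w, rfl⟩
    have hw : w ∈ ⋃ C ∈ Set.range (connectedComponent : X → Set X), closure (f '' C) := by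
      rw [hcov]; trivial
    rw [Set.mem_iUnion₂] at hw
    obtain ⟨C, hC, hwC⟩ := hw
    exact ⟨C, hC, (hkey C hC w hwC).symm⟩

end Top

section Lim

open Groth.Agent.Lib.Helper27.LimConstr

variable {I : Type u} [SmallCategory I] [IsCofiltered I]
  (D : I ⥤ Scheme.{u}) (c : Cone D) (hc : IsLimit c)
  [∀ (i j : I) (f : i ⟶ j), IsAffineHom (D.map f)]

omit [∀ (i j : I) (f : i ⟶ j), IsAffineHom (D.map f)] in
/-- Finitely many "eventual" properties hold at a common stage. -/
theorem exists_common_stage {α : Type*} (s : Set α) (hs : s.Finite) (i₀ : I)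
    (P : α → I → Prop) (hP : ∀ a ∈ s, ∃ (k : I) (_ : k ⟶ i₀), ∀ (j : I) (_ : j ⟶ k), P a j) :
    ∃ (i : I) (_ : i ⟶ i₀), ∀ a ∈ s, ∀ (j : I) (_ : j ⟶ i), P a j := by
  classical
  induction s, hs using Set.Finite.induction_on with
  | empty => exact ⟨i₀, 𝟙 _, fun a ha => (Set.notMem_empty a ha).elim⟩
  | insert _ _ ih =>
    rename_i a s has hs
    obtain ⟨i, fi, hi⟩ := ih (fun b hb => hP b (Set.mem_insert_of_mem _ hb))
    obtain ⟨k, fk, hk⟩ := hP a (Set.mem_insert _ _)
    refine ⟨IsCofiltered.min i k, IsCofiltered.minToLeft i k ≫ fi, ?_⟩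
    intro b hb j fj
    rcases hb with rfl | hb
    · exact hk j (fj ≫ IsCofiltered.minToRight i k)
    · exact hi b hb j (fj ≫ IsCofiltered.minToLeft i k)

include hc in
/-- Separation of two distinct closed subsets (not contained in each other) at a stage. -/
theorem exists_stage_separating [TopologicalSpace.NoetherianSpace c.pt] (i₀ : I)
    (Y Y' : Set c.pt) (hY' : IsClosed Y') (hne : ¬ Y ⊆ Y') :
    ∃ (k : I) (_ : k ⟶ i₀), ∀ (j : I) (_ : j ⟶ k),
      ¬ (closure (⇑(c.π.app j) '' Y) ⊆ closure (⇑(c.π.app j) '' Y')) := by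
  obtain ⟨k, fk, V, hVo, -, hV⟩ := exists_compact_open_preimage_eq D c hc i₀ Y'ᶜ
    hY'.isOpen_compl (TopologicalSpace.NoetherianSpace.isCompact _)
  refine ⟨k, fk, fun j fj hsub => ?_⟩
  obtain ⟨y, hyY, hyY'⟩ := Set.not_subset.mp hne
  have hVj : (c.π.app j) ⁻¹' ((D.map fj) ⁻¹' V) = Y'ᶜ := by
    rw [preimage_π_map, hV]
  have hVjo : IsOpen ((D.map fj) ⁻¹' V) := (D.map fj).continuous.isOpen_preimage _ hVo
  have hy1 : c.π.app j y ∈ (D.map fj) ⁻¹' V := by
    have : y ∈ (c.π.app j) ⁻¹' ((D.map fj) ⁻¹' V) := by rw [hVj]; exact hyY'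
    exact this
  have hy2 : c.π.app j y ∈ closure (⇑(c.π.app j) '' Y') :=
    hsub (subset_closure ⟨y, hyY, rfl⟩)
  obtain ⟨w, hw1, hw2⟩ := mem_closure_iff.mp hy2 _ hVjo hy1
  obtain ⟨y', hy'Y', rfl⟩ := hw2
  have : y' ∈ (c.π.app j) ⁻¹' ((D.map fj) ⁻¹' V) := hw1
  rw [hVj] at this
  exact this hy'Y'

include hc in
theorem eventually_bijOn_irreducibleComponents (i₀ : I)
    [CompactSpace (D.obj i₀)] [TopologicalSpace.NoetherianSpace c.pt]
    (hd : ∀ (i j : I) (φ : i ⟶ j), IsDominant (D.map φ)) :
    ∃ (i : I) (_ : i ⟶ i₀), ∀ (j : I) (_ : j ⟶ i),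
      Set.BijOn (fun Y : Set c.pt => closure (⇑(c.π.app j) '' (Y : Set c.pt) : Set (D.obj j)))
        (irreducibleComponents c.pt) (irreducibleComponents (D.obj j)) := by
  have hfin : (irreducibleComponents c.pt).Finite :=
    TopologicalSpace.NoetherianSpace.finite_irreducibleComponents
  let s : Set (Set c.pt × Set c.pt) :=
    {p | p.1 ∈ irreducibleComponents c.pt ∧ p.2 ∈ irreducibleComponents c.pt ∧ p.1 ≠ p.2}
  have hs : s.Finite := (hfin.prod hfin).subset (fun p hp => ⟨hp.1, hp.2.1⟩)
  obtain ⟨i, fi, hi⟩ := exists_common_stage (I := I) s hs i₀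
    (fun p j => ¬ (closure (⇑(c.π.app j) '' p.1) ⊆ closure (⇑(c.π.app j) '' p.2)))
    (by
      rintro ⟨Y, Y'⟩ ⟨hY, hY', hne⟩
      refine exists_stage_separating D c hc i₀ Y Y'
        (isClosed_of_mem_irreducibleComponents _ hY') (fun hsub => hne ?_)
      exact le_antisymm hsub (hY.2 hY'.1 hsub))
  refine ⟨i, fi, fun j fj => ?_⟩
  refine bijOn_irreducibleComponents _ (c.π.app j).continuous
    (isDominant_π D c hc j (fun l φ => hd l j φ)).denseRange hfin ?_
  intro Y hY Y' hY' hsub
  by_contra hne
  exact hi (Y, Y') ⟨hY, hY', hne⟩ j fj hsub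

include hc in
/-- A clopen subset of the limit descends to a clopen subset at all sufficiently small stages
(dominant transition maps, compact stage). -/
theorem exists_stage_isClopen (i₀ : I) [CompactSpace (D.obj i₀)]
    (hd : ∀ (i j : I) (φ : i ⟶ j), IsDominant (D.map φ))
    (C : Set c.pt) (hC : IsClopen C) :
    ∃ (k : I) (_ : k ⟶ i₀), ∀ (j : I) (_ : j ⟶ k),
      ∃ V : Set (D.obj j), IsClopen V ∧ (c.π.app j) ⁻¹' V = C := by
  have hcpt : CompactSpace c.pt := compactSpace_pt D c hc i₀
  obtain ⟨k₁, f₁, V₁, hV₁o, -, hV₁⟩ := exists_compact_open_preimage_eq D c hc i₀ C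
    hC.isOpen hC.isClosed.isCompact
  obtain ⟨k₂, f₂, V₂, hV₂o, -, hV₂⟩ := exists_compact_open_preimage_eq D c hc i₀ Cᶜ
    hC.compl.isOpen hC.compl.isClosed.isCompact
  let k := IsCofiltered.min k₁ k₂
  let a₁ : k ⟶ k₁ := IsCofiltered.minToLeft k₁ k₂
  let a₂ : k ⟶ k₂ := IsCofiltered.minToRight k₁ k₂
  let W₁ : Set (D.obj k) := (D.map a₁) ⁻¹' V₁
  let W₂ : Set (D.obj k) := (D.map a₂) ⁻¹' V₂
  have hW₁o : IsOpen W₁ := (D.map a₁).continuous.isOpen_preimage _ hV₁o
  have hW₂o : IsOpen W₂ := (D.map a₂).continuous.isOpen_preimage _ hV₂o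
  have hW₁ : (c.π.app k) ⁻¹' W₁ = C := by rw [preimage_π_map, hV₁]
  have hW₂ : (c.π.app k) ⁻¹' W₂ = Cᶜ := by rw [preimage_π_map, hV₂]
  have hk : CompactSpace (D.obj k) := compactSpace_stage D (a₁ ≫ f₁)
  obtain ⟨l, fl, hl⟩ := exists_map_preimage_subset D c hc (U := Set.univ) (V := W₁ ∪ W₂)
    isOpen_univ (hW₁o.union hW₂o) isCompact_univ (by
      intro x _
      rw [Set.preimage_union, hW₁, hW₂, Set.union_compl_self]
      trivial)
  refine ⟨l, fl ≫ a₁ ≫ f₁, fun j fj => ?_⟩
  let g : j ⟶ k := fj ≫ fl
  let V : Set (D.obj j) := (D.map g) ⁻¹' W₁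
  let V' : Set (D.obj j) := (D.map g) ⁻¹' W₂
  have hVo : IsOpen V := (D.map g).continuous.isOpen_preimage _ hW₁o
  have hV'o : IsOpen V' := (D.map g).continuous.isOpen_preimage _ hW₂o
  have hV : (c.π.app j) ⁻¹' V = C := by rw [preimage_π_map, hW₁]
  have hV' : (c.π.app j) ⁻¹' V' = Cᶜ := by rw [preimage_π_map, hW₂]
  have hcov : V ∪ V' = Set.univ := by
    apply Set.eq_univ_of_forall
    intro x
    have h1 : D.map fj x ∈ (D.map fl) ⁻¹' (W₁ ∪ W₂) := hl (Set.mem_univ _)
    have h2 : D.map g x ∈ W₁ ∪ W₂ := by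
      have h3 : (D.map g) x = (D.map fl) ((D.map fj) x) := by
        show (D.map (fj ≫ fl)) x = _
        rw [D.map_comp]; rfl
      rw [h3]; exact h1
    exact h2
  have hdj : V ∩ V' = ∅ := by
    by_contra hne
    have hne' : (V ∩ V').Nonempty := Set.nonempty_iff_ne_empty.mpr hne
    have hdom : DenseRange (c.π.app j) :=
      (isDominant_π D c hc j (fun l φ => hd l j φ)).denseRange
    obtain ⟨w, hw, s, rfl⟩ := hdom.inter_open_nonempty _ (hVo.inter hV'o) hne'
    have h1 : s ∈ C := by rw [← hV]; exact hw.1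
    have h2 : s ∈ Cᶜ := by rw [← hV']; exact hw.2
    exact h2 h1
  have hVc : Vᶜ = V' := by
    ext x
    constructor
    · intro hx
      have : x ∈ V ∪ V' := by rw [hcov]; trivial
      exact this.resolve_left hx
    · intro hx hxV
      have : x ∈ V ∩ V' := ⟨hxV, hx⟩
      rw [hdj] at this
      exact this
  refine ⟨V, ⟨?_, hVo⟩, hV⟩
  rw [← isOpen_compl_iff, hVc]
  exact hV'o

include hc in
theorem eventually_bijOn_connectedComponents (i₀ : I)
    [CompactSpace (D.obj i₀)] [TopologicalSpace.NoetherianSpace c.pt]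
    (hd : ∀ (i j : I) (φ : i ⟶ j), IsDominant (D.map φ)) :
    ∃ (i : I) (_ : i ⟶ i₀), ∀ (j : I) (_ : j ⟶ i),
      Set.BijOn (fun C : Set c.pt => closure (⇑(c.π.app j) '' (C : Set c.pt) : Set (D.obj j)))
        (Set.range (connectedComponent : c.pt → Set c.pt))
        (Set.range (connectedComponent : D.obj j → Set (D.obj j))) := by
  have hfin : (Set.range (connectedComponent : c.pt → Set c.pt)).Finite :=
    finite_range_connectedComponent
  obtain ⟨i, fi, hi⟩ := exists_common_stage (I := I) _ hfin i₀
    (fun (C : Set c.pt) j => ∃ V : Set (D.obj j), IsClopen V ∧ (c.π.app j) ⁻¹' V = C)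
    (by
      rintro _ ⟨x, rfl⟩
      exact exists_stage_isClopen D c hc i₀ hd _
        ⟨isClosed_connectedComponent, isOpen_connectedComponent_of_finite hfin x⟩)
  refine ⟨i, fi, fun j fj => ?_⟩
  have hdom : DenseRange (c.π.app j) :=
    (isDominant_π D c hc j (fun l φ => hd l j φ)).denseRange
  have hcl : ∀ C ∈ Set.range (connectedComponent : c.pt → Set c.pt),
      ∃ V : Set (D.obj j), IsClopen V ∧ (c.π.app j) ⁻¹' V = C ∧
        closure (⇑(c.π.app j) '' C) = V := by
    intro C hC
    obtain ⟨V, hV, hVC⟩ := hi C hC j fj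
    refine ⟨V, hV, hVC, ?_⟩
    rw [← hVC]
    exact closure_image_preimage_of_isClopen _ hdom V hV
  refine bijOn_connectedComponents _ (c.π.app j).continuous hdom hfin ?_ ?_
  · intro C hC
    obtain ⟨V, hV, -, hVe⟩ := hcl C hC
    rw [hVe]; exact hV.isOpen
  · intro C hC C' hC' hne
    obtain ⟨V, hV, hVC, hVe⟩ := hcl C hC
    rw [hVe]
    have hsub : closure (⇑(c.π.app j) '' C') ⊆ Vᶜ := by
      refine closure_minimal ?_ hV.compl.isClosed
      rintro _ ⟨s, hs, rfl⟩ hV'
      have hsC : s ∈ C := by rw [← hVC]; exact hV'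
      obtain ⟨x, rfl⟩ := hC
      obtain ⟨x', rfl⟩ := hC'
      exact (Set.disjoint_left.mp (connectedComponent_disjoint hne)) hsC hs
    exact Set.disjoint_left.mpr (fun w hw hw' => hsub hw' hw)

end Lim

end Groth.Agent.Lib.Helper27.LimComp
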