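import Mathlib
import Groth.Agent.Lib.Helper27.LimConstr
import Groth.Agent.Lib.Helper27.LimBC

/-! Open / universally open projections of cofiltered limits of schemes (helper27). -/

set_option autoImplicit false
universe u
open CategoryTheory CategoryTheory.Limits AlgebraicGeometry
open Groth.Agent.Lib.Helper27.LimBC

namespace Groth.Agent.Lib.Helper27.LimOpen

theorem isOpenMap_π_iff_of_surjective {I : Type u} [SmallCategory I] [IsCofiltered I]
    (D : I ⥤ Scheme.{u}) (c : Limits.Cone D) (hc : Limits.IsLimit c)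
    [∀ (i j : I) (f : i ⟶ j), IsAffineHom (D.map f)] (i : I)
    (hs : ∀ (j : I) (φ : j ⟶ i), Surjective (c.π.app j)) :
    IsOpenMap ⇑(c.π.app i) ↔ ∀ (j : I) (φ : j ⟶ i), IsOpenMap ⇑(D.map φ) := by
  constructor
  · intro hopen j φ V hV
    have hsurj : Function.Surjective (c.π.app j) := (hs j φ).surj
    have : (D.map φ) '' V = (c.π.app i) '' ((c.π.app j) ⁻¹' V) := by
      ext y; constructor
      · rintro ⟨x, hx, rfl⟩
        obtain ⟨s, rfl⟩ := hsurj x
        refine ⟨s, hx, ?_⟩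
        rw [← c.w φ]; rfl
      · rintro ⟨s, hs', rfl⟩
        refine ⟨c.π.app j s, hs', ?_⟩
        rw [← c.w φ]; rfl
    rw [this]
    exact hopen _ ((c.π.app j).continuous.isOpen_preimage _ hV)
  · intro h U hU
    have hB := isBasis_preimage_isAffineOpen D c hc
    rw [isOpen_iff_forall_mem_open]
    rintro _ ⟨x, hxU, rfl⟩
    obtain ⟨_, ⟨k, V, hV, rfl⟩, hxV, hVU⟩ :=
      TopologicalSpace.Opens.isBasis_iff_nbhd.mp hB (U := ⟨U, hU⟩) (x := x) hxU
    let l := IsCofiltered.min k i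
    let a : l ⟶ k := IsCofiltered.minToLeft k i
    let b : l ⟶ i := IsCofiltered.minToRight k i
    have hWo : IsOpen ((D.map a) ⁻¹' (V : Set (D.obj k))) :=
      (D.map a).continuous.isOpen_preimage _ V.isOpen
    have hW : (c.π.app l) ⁻¹' ((D.map a) ⁻¹' (V : Set (D.obj k))) =
        (c.π.app k) ⁻¹' (V : Set (D.obj k)) :=
      Groth.Agent.Lib.Helper27.LimConstr.preimage_π_map D c a _
    refine ⟨(D.map b) '' ((D.map a) ⁻¹' (V : Set (D.obj k))), ?_, h l b _ hWo, ?_⟩
    · rintro _ ⟨w, hw, rfl⟩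
      obtain ⟨s, rfl⟩ := (hs l b).surj w
      have hs1 : s ∈ (c.π.app k) ⁻¹' (V : Set (D.obj k)) := by rw [← hW]; exact hw
      refine ⟨s, hVU hs1, ?_⟩
      rw [← c.w b]; rfl
    · refine ⟨c.π.app l x, ?_, ?_⟩
      · have : x ∈ (c.π.app l) ⁻¹' ((D.map a) ⁻¹' (V : Set (D.obj k))) := by
          rw [hW]; exact hxV
        exact this
      · rw [← c.w b]; rfl

theorem isOpenMap_comp {A B C : Scheme.{u}} (f : A ⟶ B) (g : B ⟶ C) (hf : IsOpenMap ⇑f)
    (hg : IsOpenMap ⇑g) : IsOpenMap ⇑(f ≫ g) := by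
  have : ⇑(f ≫ g) = ⇑g ∘ ⇑f := by ext x; simp
  rw [this]; exact hg.comp hf

theorem isOpenMap_of_isIso {A B : Scheme.{u}} (f : A ⟶ B) [IsIso f] : IsOpenMap ⇑f :=
  f.isOpenEmbedding.isOpenMap

theorem isOpenMap_cancel_iso {A B C : Scheme.{u}} (f : A ⟶ B) (e : B ⟶ C) (h : A ⟶ C)
    (he : IsIso e) (hfe : f ≫ e = h) : IsOpenMap ⇑f ↔ IsOpenMap ⇑h := by
  constructor
  · intro hf
    rw [← hfe]
    exact isOpenMap_comp _ _ hf (isOpenMap_of_isIso _)
  · intro hh
    have e' : f = h ≫ inv e := by rw [IsIso.eq_comp_inv]; exact hfe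
    rw [e']
    exact isOpenMap_comp _ _ hh (isOpenMap_of_isIso _)

theorem universallyOpen_iff_snd {A B : Scheme.{u}} (f : A ⟶ B) :
    UniversallyOpen f ↔ ∀ {T : Scheme.{u}} (g : T ⟶ B), IsOpenMap ⇑(pullback.snd f g) := by
  constructor
  · intro h T g
    exact (pullback.snd f g).isOpenMap
  · intro h
    refine ⟨fun X' Y' i₁ i₂ f' hpb => ?_⟩
    have e : f' = hpb.flip.isoPullback.hom ≫ pullback.snd f i₂ :=
      (hpb.flip.isoPullback_hom_snd).symm
    show IsOpenMap ⇑f'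
    rw [e]
    exact isOpenMap_comp _ _ (isOpenMap_of_isIso _) (h i₂)

set_option backward.isDefEq.respectTransparency false in
theorem isOpenMap_snd_iff {I : Type u} [SmallCategory I] [IsCofiltered I]
    (D : I ⥤ Scheme.{u}) (c : Limits.Cone D) (hc : Limits.IsLimit c)
    [∀ (i j : I) (f : i ⟶ j), IsAffineHom (D.map f)] (i : I)
    (hs : ∀ (j : I) (φ : j ⟶ i), Surjective (c.π.app j)) {T : Scheme.{u}} (g : T ⟶ D.obj i) :
    IsOpenMap ⇑(pullback.snd (c.π.app i) g) ↔
      ∀ (j : I) (φ : j ⟶ i), IsOpenMap ⇑(pullback.snd (D.map φ) g) := by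
  have haff : ∀ (j k : Over i) (u : j ⟶ k), IsAffineHom ((bcDiagram D i g).map u) :=
    fun j k u => isAffineHom_bcDiagram_map D i g u
  have hsurj : ∀ (j : Over i) (φ : j ⟶ Over.mk (𝟙 i)),
      Surjective ((bcCone D c i g).π.app j) := by
    intro j φ
    exact MorphismProperty.of_isPullback (P := @Surjective) (isPullback_bc D c i g j).flip
      (hs j.left j.hom)
  have h65 := isOpenMap_π_iff_of_surjective (bcDiagram D i g) (bcCone D c i g)
    (isLimitBcCone D c hc i g) (Over.mk (𝟙 i)) hsurj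
  have hiso : IsIso (pullback.snd (D.map (𝟙 i)) g) := isIso_snd_id D i g
  have h1 : IsOpenMap ⇑((bcCone D c i g).π.app (Over.mk (𝟙 i))) ↔
      IsOpenMap ⇑(pullback.snd (c.π.app i) g) :=
    isOpenMap_cancel_iso _ (pullback.snd (D.map (𝟙 i)) g) _ hiso
      (bcCone_π_snd D c i g (Over.mk (𝟙 i)))
  have h2 : ∀ (j : Over i) (φ : j ⟶ Over.mk (𝟙 i)),
      IsOpenMap ⇑((bcDiagram D i g).map φ) ↔ IsOpenMap ⇑(pullback.snd (D.map j.hom) g) :=
    fun j φ => isOpenMap_cancel_iso _ (pullback.snd (D.map (𝟙 i)) g) _ hiso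
      (bcDiagram_map_snd D i g φ)
  rw [← h1, h65]
  constructor
  · intro h j φ
    exact (h2 (Over.mk φ) (Over.homMk φ (by simp))).mp (h _ _)
  · intro h j φ
    exact (h2 j φ).mpr (h j.left j.hom)

theorem universallyOpen_π_iff_of_surjective {I : Type u} [SmallCategory I] [IsCofiltered I]
    (D : I ⥤ Scheme.{u}) (c : Limits.Cone D) (hc : Limits.IsLimit c)
    [∀ (i j : I) (f : i ⟶ j), IsAffineHom (D.map f)] (i : I)
    (hs : ∀ (j : I) (φ : j ⟶ i), Surjective (c.π.app j)) :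
    UniversallyOpen (c.π.app i) ↔ ∀ (j : I) (φ : j ⟶ i), UniversallyOpen (D.map φ) := by
  rw [universallyOpen_iff_snd]
  constructor
  · intro h j φ
    rw [universallyOpen_iff_snd]
    intro T g
    exact (isOpenMap_snd_iff D c hc i hs g).mp (h g) j φ
  · intro h T g
    exact (isOpenMap_snd_iff D c hc i hs g).mpr
      (fun j φ => (universallyOpen_iff_snd (D.map φ)).mp (h j φ) g)

end Groth.Agent.Lib.Helper27.LimOpen
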