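import Mathlib
import Groth.Agent.Lib.Helper27.LimBC
import Groth.Agent.Lib.Helper27.LimConstr

/-! Reducedness and cofiltered limits of schemes with affine transition maps (helper27). -/

set_option autoImplicit false
universe u
open CategoryTheory CategoryTheory.Limits AlgebraicGeometry

namespace Groth.Agent.Lib.Helper27.LimRed

/-- For a flat surjective morphism, pullback of sections is injective on every open. -/
theorem app_injective_of_flat_surjective {X Y : Scheme.{u}} (f : X ⟶ Y) [Flat f] [Surjective f]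
    (U : Y.Opens) : Function.Injective (f.app U) := by
  rw [injective_iff_map_eq_zero]
  intro s hs
  refine TopCat.Presheaf.section_ext Y.sheaf U s 0 (fun y hy => ?_)
  obtain ⟨x, rfl⟩ := f.surjective y
  letI : Algebra (Y.presheaf.stalk (f x)) (X.presheaf.stalk x) := (f.stalkMap x).hom.toAlgebra
  have h1 : Module.Flat (Y.presheaf.stalk (f x)) (X.presheaf.stalk x) := Flat.stalkMap f x
  have h2 : IsLocalHom (algebraMap (Y.presheaf.stalk (f x)) (X.presheaf.stalk x)) := by
    change IsLocalHom (f.stalkMap x).hom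
    infer_instance
  have h3 : Module.FaithfullyFlat (Y.presheaf.stalk (f x)) (X.presheaf.stalk x) :=
    Module.FaithfullyFlat.of_flat_of_isLocalHom
  have hinj : Function.Injective (algebraMap (Y.presheaf.stalk (f x)) (X.presheaf.stalk x)) :=
    FaithfulSMul.algebraMap_injective _ _
  apply hinj
  change f.stalkMap x (Y.presheaf.germ U (f x) hy s) = f.stalkMap x (Y.presheaf.germ U (f x) hy 0)
  rw [Scheme.Hom.germ_stalkMap_apply, Scheme.Hom.germ_stalkMap_apply, hs, map_zero, map_zero,
    map_zero]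

/-- A cofiltered limit of affine schemes with cofinally many reduced stages is reduced. -/
theorem isReduced_of_isAffine_of_cofinal {J : Type u} [SmallCategory J] [IsCofiltered J]
    (D' : J ⥤ Scheme.{u}) (c' : Cone D') (hc' : IsLimit c') [∀ j, IsAffine (D'.obj j)]
    (h : ∀ j, ∃ (l : J) (_ : l ⟶ j), IsReduced (D'.obj l)) : IsReduced c'.pt := by
  have : IsAffine c'.pt := Scheme.isAffine_of_isLimit c' hc'
  have hred : _root_.IsReduced Γ(c'.pt, ⊤) := by
    refine ⟨fun s hs => ?_⟩
    obtain ⟨n, hn⟩ := hs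
    obtain ⟨j, t, rfl⟩ := exists_appTop_π_eq_of_isAffine_of_isLimit D' c' hc' s
    have h0 : (c'.π.app j).appTop (t ^ n) = 0 := by rw [map_pow, hn]
    obtain ⟨k, f, hk⟩ := exists_appTop_map_eq_zero_of_isAffine_of_isLimit D' c' hc' j (t ^ n) h0
    obtain ⟨l, g, hl⟩ := h k
    have h1 : (D'.map (g ≫ f)).appTop t = 0 := by
      have hnil : IsNilpotent ((D'.map (g ≫ f)).appTop t) := ⟨n, by
        rw [← map_pow, D'.map_comp, Scheme.Hom.comp_appTop, CommRingCat.comp_apply, hk, map_zero]⟩
      exact hnil.eq_zero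
    have h2 : c'.π.app j = c'.π.app l ≫ D'.map (g ≫ f) := (c'.w (g ≫ f)).symm
    rw [h2, Scheme.Hom.comp_appTop, CommRingCat.comp_apply, h1, map_zero]
  exact isReduced_of_isAffine_isReduced c'.pt

variable {I : Type u} [SmallCategory I] [IsCofiltered I]
  (D : I ⥤ Scheme.{u}) (c : Cone D) (hc : IsLimit c)
  [∀ (i j : I) (f : i ⟶ j), IsAffineHom (D.map f)]

include hc in
theorem isReduced_pt_of_cofinal (h : ∀ i, ∃ (j : I) (_ : j ⟶ i), IsReduced (D.obj j)) :
    IsReduced c.pt := by
  obtain ⟨i⟩ := IsCofiltered.nonempty (C := I)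
  let U : (D.obj i).affineOpens → c.pt.Opens := fun V => c.π.app i ⁻¹ᵁ V.1
  have hU : TopologicalSpace.IsOpenCover U := by
    rw [TopologicalSpace.IsOpenCover, eq_top_iff]
    intro x _
    obtain ⟨_, ⟨V, hV, rfl⟩, hxV, -⟩ := (D.obj i).isBasis_affineOpens.exists_subset_of_mem_open
      (Set.mem_univ (c.π.app i x)) isOpen_univ
    exact TopologicalSpace.Opens.mem_iSup.mpr ⟨⟨V, hV⟩, hxV⟩
  have hred : ∀ V, IsReduced ((c.pt.openCoverOfIsOpenCover U hU).X V) := by
    intro V
    have haff : ∀ j : Over i, IsAffine ((opensDiagram D i V.1).obj j) := fun j => V.2.preimage _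
    exact isReduced_of_isAffine_of_cofinal (opensDiagram D i V.1) (opensCone D c i V.1)
      (isLimitOpensCone D c hc i V.1) (fun j => by
        obtain ⟨l, g, hl⟩ := h j.left
        refine ⟨Over.mk (g ≫ j.hom), Over.homMk g rfl, ?_⟩
        change IsReduced ((D.map (g ≫ j.hom) ⁻¹ᵁ V.1 : (D.obj l).Opens) : Scheme)
        infer_instance)
  exact IsReduced.of_openCover _ (c.pt.openCoverOfIsOpenCover U hU)

include hc in
theorem not_isReduced_eventually (h : ¬ IsReduced c.pt) :
    ∃ (i : I), ∀ (j : I) (_ : j ⟶ i), ¬ IsReduced (D.obj j) := by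
  by_contra hcon
  push Not at hcon
  exact h (isReduced_pt_of_cofinal D c hc hcon)

end Groth.Agent.Lib.Helper27.LimRed

namespace Groth.Agent.Lib.Helper27.LimRed

variable {I : Type u} [SmallCategory I] [IsCofiltered I]
  (D : I ⥤ Scheme.{u}) (c : Cone D) (hc : IsLimit c)
  [∀ (i j : I) (f : i ⟶ j), IsAffineHom (D.map f)]

include hc in
theorem isReduced_stage_of_flat_surjective (i : I) [IsReduced c.pt]
    (hf : ∀ (j : I) (φ : j ⟶ i), Flat (D.map φ) ∧ Surjective (D.map φ)) :
    IsReduced (D.obj i) := by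
  have hS : IsAffineHom (c.π.app i) := isAffineHom_π_app D c hc i
  have hdom : IsSchemeTheoreticallyDominant (c.π.app i) := by
    rw [isSchemeTheoreticallyDominant_iff]
    ext U : 2
    rw [Scheme.Hom.ker_apply]
    simp only [Scheme.IdealSheafData.ideal_bot, Pi.bot_apply]
    rw [eq_bot_iff]
    intro t ht
    have ht' : (c.π.app i).app U.1 t = 0 := ht
    obtain ⟨j, f, hj⟩ := exists_app_map_eq_zero_of_isLimit D c hc (U := U.1) U.2.isCompact t ht'
    have h1 := (hf j f).1
    have h2 := (hf j f).2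
    have := app_injective_of_flat_surjective (D.map f) U.1 (hj.trans (map_zero _).symm)
    exact this
  exact IsSchemeTheoreticallyDominant.isReduced (X := c.pt) (c.π.app i)

include hc in
theorem isReduced_iff_forall
    (hf : ∀ (i j : I) (φ : i ⟶ j), Flat (D.map φ) ∧ Surjective (D.map φ)) :
    IsReduced c.pt ↔ ∀ (i : I), IsReduced (D.obj i) :=
  ⟨fun _ i => isReduced_stage_of_flat_surjective D c hc i (fun j φ => hf j i φ),
    fun h => isReduced_pt_of_cofinal D c hc (fun i => ⟨i, 𝟙 i, h i⟩)⟩

include hc in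
theorem isIntegral_iff_eventually (i₀ : I)
    (hf : ∀ (i j : I) (φ : i ⟶ j), Flat (D.map φ) ∧ Surjective (D.map φ)) :
    IsIntegral c.pt ↔ ∃ (i : I) (_ : i ⟶ i₀), ∀ (j : I) (_ : j ⟶ i), IsIntegral (D.obj j) := by
  have hd : ∀ (i j : I) (φ : i ⟶ j), IsDominant (D.map φ) := fun i j φ => by
    have := (hf i j φ).2
    infer_instance
  constructor
  · intro h
    have hirr : IrreducibleSpace c.pt := inferInstance
    have hred : IsReduced c.pt := inferInstance
    obtain ⟨i, φ, hi⟩ := (LimConstr.irreducible_iff_eventually D c hc i₀ hd).mp hirr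
    refine ⟨i, φ, fun j ψ => ?_⟩
    have h1 : IrreducibleSpace (D.obj j) := hi j ψ
    have h2 : IsReduced (D.obj j) := (isReduced_iff_forall D c hc hf).mp hred j
    exact isIntegral_of_irreducibleSpace_of_isReduced _
  · rintro ⟨i, φ, hi⟩
    have hirr : IrreducibleSpace c.pt :=
      (LimConstr.irreducible_iff_eventually D c hc i₀ hd).mpr
        ⟨i, φ, fun j ψ => by have := hi j ψ; infer_instance⟩
    have hred : IsReduced c.pt := isReduced_pt_of_cofinal D c hc (fun i' => by
      refine ⟨IsCofiltered.min i' i, IsCofiltered.minToLeft i' i, ?_⟩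
      have := hi _ (IsCofiltered.minToRight i' i)
      infer_instance)
    exact isIntegral_of_irreducibleSpace_of_isReduced _

end Groth.Agent.Lib.Helper27.LimRed
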