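import Mathlib

/-!
# Local rings of étale algebras with finite spectrum are étale

If `B` is étale over `A`, `Spec B` is finite, and `C` is the localization of `B` at a prime `P`,
then `C = B_g` for some `g ∉ P`, so `C` is étale over `A`.
-/

set_option autoImplicit false

namespace Groth.Agent.Lib.Helper27.LocEt

/-- In a ring with finite spectrum, the generizations of a prime `P` form a basic open `D(g)`. -/
theorem exists_basicOpen {B : Type*} [CommRing B] [Finite (PrimeSpectrum B)] (P : Ideal B)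
    [P.IsPrime] : ∃ g : B, g ∉ P ∧ ∀ (Q : Ideal B) [Q.IsPrime], g ∉ Q → Q ≤ P := by
  classical
  haveI := Fintype.ofFinite (PrimeSpectrum B)
  have hex : ∀ Q : PrimeSpectrum B, ∃ x : B, x ∉ P ∧ (¬ Q.asIdeal ≤ P → x ∈ Q.asIdeal) := by
    intro Q
    by_cases h : Q.asIdeal ≤ P
    · exact ⟨1, fun h1 => (Ideal.IsPrime.ne_top ‹_›) ((Ideal.eq_top_iff_one _).mpr h1),
        fun h' => absurd h h'⟩
    · obtain ⟨x, hxQ, hxP⟩ := SetLike.not_le_iff_exists.mp h
      exact ⟨x, hxP, fun _ => hxQ⟩
  choose gq hgqP hgqQ using hex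
  refine ⟨∏ Q : PrimeSpectrum B, gq Q, ?_, ?_⟩
  · rw [Ideal.IsPrime.prod_mem_iff]
    rintro ⟨Q, _, hQ⟩
    exact hgqP Q hQ
  · intro Q hQ hg
    by_contra h
    exact hg (Ideal.mem_of_dvd Q (Finset.dvd_prod_of_mem gq (Finset.mem_univ ⟨Q, hQ⟩))
      (hgqQ ⟨Q, hQ⟩ h))

theorem isLocalization_away_of_atPrime {B C : Type*} [CommRing B] [CommRing C] [Algebra B C]
    (P : Ideal B) [P.IsPrime] [IsLocalization.AtPrime C P] (g : B) (hgP : g ∉ P)
    (hg : ∀ (Q : Ideal B) [Q.IsPrime], g ∉ Q → Q ≤ P) : IsLocalization.Away g C := by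
  have h₁ : Submonoid.powers g ≤ P.primeCompl := Submonoid.powers_le.mpr hgP
  have h₂ : ∀ r ∈ P.primeCompl, IsUnit (algebraMap B (Localization.Away g) r) := by
    intro r hr
    by_contra hnu
    obtain ⟨M, hM, hrM⟩ := exists_max_ideal_of_mem_nonunits hnu
    haveI := hM.isPrime
    have hgQ : g ∉ M.comap (algebraMap B (Localization.Away g)) := by
      intro hmem
      exact hM.ne_top (Ideal.eq_top_of_isUnit_mem M (Ideal.mem_comap.mp hmem)
        (IsLocalization.Away.algebraMap_isUnit g))
    exact hr (hg _ hgQ (Ideal.mem_comap.mpr hrM))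
  haveI : IsLocalization P.primeCompl (Localization.Away g) :=
    IsLocalization.of_le (M := Submonoid.powers g) (S := Localization.Away g) P.primeCompl h₁ h₂
  exact IsLocalization.isLocalization_of_algEquiv (Submonoid.powers g)
    (IsLocalization.algEquiv P.primeCompl (Localization.Away g) C)

theorem etale_of_atPrime {A B C : Type*} [CommRing A] [CommRing B] [CommRing C]
    [Algebra A B] [Algebra B C] [Algebra A C] [IsScalarTower A B C] [Algebra.Etale A B]
    [Finite (PrimeSpectrum B)] (P : Ideal B) [P.IsPrime] [IsLocalization.AtPrime C P] :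
    Algebra.Etale A C := by
  obtain ⟨g, hgP, hg⟩ := exists_basicOpen P
  haveI : IsLocalization.Away g C := isLocalization_away_of_atPrime P g hgP hg
  haveI : Algebra.Etale B C := Algebra.Etale.of_isLocalizationAway g
  exact Algebra.Etale.comp A B C

end Groth.Agent.Lib.Helper27.LocEt
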