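import Mathlib
import Groth.Prelude.Def_W4c5cptfessfintypeLocImm

/-!
Basic facts on localizing morphisms / localizing immersions (helper27).
-/

universe u
open CategoryTheory AlgebraicGeometry

namespace Groth.Agent.Lib.Helper27.LocImmLib

theorem localRingHom_bijective_of_isLocHom {A B : Type u} [CommRing A] [CommRing B] (φ : A →+* B)
    (h : LocImm.IsLocHom φ) (p : Ideal B) [p.IsPrime] :
    Function.Bijective (Localization.localRingHom (p.comap φ) p φ rfl) := by
  letI := φ.toAlgebra
  obtain ⟨S, hS⟩ := h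
  haveI : IsLocalization.AtPrime (Localization.AtPrime p) (p.comap φ) :=
    IsLocalization.isLocalization_isLocalization_atPrime_isLocalization S
      (Localization.AtPrime p) p
  let ψ : Localization.AtPrime (p.comap φ) ≃ₐ[A] Localization.AtPrime p :=
    IsLocalization.algEquiv (p.comap φ).primeCompl _ _
  have e : Localization.localRingHom (p.comap φ) p φ rfl = ψ.toRingEquiv.toRingHom := by
    apply IsLocalization.ringHom_ext (p.comap φ).primeCompl
    ext x
    rw [RingHom.comp_apply, RingHom.comp_apply, Localization.localRingHom_to_map]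
    show algebraMap B (Localization.AtPrime p) (φ x) = ψ (algebraMap A _ x)
    rw [ψ.commutes]
    exact (IsScalarTower.algebraMap_apply A B (Localization.AtPrime p) x).symm
  rw [e]
  exact ψ.toRingEquiv.bijective

theorem bijective_respectsIso :
    RingHom.RespectsIso (fun {R S : Type u} [CommRing R] [CommRing S] (f : R →+* S) =>
      Function.Bijective f) := by
  constructor
  · intro R S T _ _ _ f e hf
    exact e.bijective.comp hf
  · intro R S T _ _ _ f e hf
    exact hf.comp e.bijective

theorem isIso_stalkMap_SpecMap {R S : CommRingCat.{u}} (φ : R ⟶ S) (h : LocImm.IsLocHom φ.hom)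
    (x : Spec S) : IsIso ((Spec.map φ).stalkMap x) := by
  rw [ConcreteCategory.isIso_iff_bijective]
  have := (stalkwise_SpecMap_iff (P := fun f => Function.Bijective f) bijective_respectsIso φ).mpr
    (fun p hp => localRingHom_bijective_of_isLocHom φ.hom h p)
  exact this x

theorem isIso_stalkMap_of_isLocalizing {X Y : Scheme.{u}} (f : X ⟶ Y)
    (hf : LocImm.IsLocalizing f) (x : X) : IsIso (f.stalkMap x) := by
  obtain ⟨U, V, hxV, e, h⟩ := hf x
  obtain ⟨x₀, rfl⟩ : ∃ x₀, V.2.fromSpec x₀ = x := by
    have : x ∈ Set.range V.2.fromSpec := by rw [V.2.range_fromSpec]; exact hxV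
    exact this
  have h1 := isIso_stalkMap_SpecMap (f.appLE U.1 V.1 e) h x₀
  have hA : IsIso (U.2.fromSpec.stalkMap ((Spec.map (f.appLE U.1 V.1 e)) x₀) ≫
      (Spec.map (f.appLE U.1 V.1 e)).stalkMap x₀) := inferInstance
  have hB : IsIso ((Spec.map (f.appLE U.1 V.1 e) ≫ U.2.fromSpec).stalkMap x₀) := by
    rw [Scheme.Hom.stalkMap_comp]; exact hA
  have hC : IsIso ((V.2.fromSpec ≫ f).stalkMap x₀) := by
    rw [Scheme.Hom.stalkMap_congr_hom _ _ (U.2.SpecMap_appLE_fromSpec f V.2 e).symm]
    infer_instance
  have hD : IsIso (f.stalkMap (V.2.fromSpec x₀) ≫ V.2.fromSpec.stalkMap x₀) := by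
    rw [← Scheme.Hom.stalkMap_comp]; exact hC
  exact IsIso.of_isIso_comp_right (f.stalkMap (V.2.fromSpec x₀)) (V.2.fromSpec.stalkMap x₀)

theorem flat_of_isLocalizing {X Y : Scheme.{u}} (f : X ⟶ Y) (hf : LocImm.IsLocalizing f) :
    Flat f :=
  (Flat.iff_flat_stalkMap f).mpr fun x =>
    haveI := isIso_stalkMap_of_isLocalizing f hf x
    RingHom.Flat.of_bijective
      ((ConcreteCategory.isIso_iff_bijective (f.stalkMap x)).mp inferInstance)

theorem isEmbedding_of_injective_generalizing {X Y : Type*} [TopologicalSpace X]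
    [TopologicalSpace Y] [TopologicalSpace.NoetherianSpace X] [QuasiSober X] (f : X → Y)
    (hc : Continuous f) (hinj : Function.Injective f) (hgen : GeneralizingMap f) :
    Topology.IsEmbedding f := by
  refine ⟨⟨TopologicalSpace.ext_isClosed fun Z => ?_⟩, hinj⟩
  rw [isClosed_induced_iff]
  constructor
  · intro hZ
    refine ⟨closure (f '' Z), isClosed_closure, Set.Subset.antisymm ?_
      (fun x hx => subset_closure (Set.mem_image_of_mem f hx))⟩
    intro x hx
    obtain ⟨S, hSfin, hScl, hSirr, hS⟩ :=
      TopologicalSpace.NoetherianSpace.exists_finite_set_isClosed_irreducible hZ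
    have hC : IsClosed (⋃ t ∈ S, closure (f '' t)) :=
      hSfin.isClosed_biUnion fun t _ => isClosed_closure
    have hsub : closure (f '' Z) ⊆ ⋃ t ∈ S, closure (f '' t) := by
      apply closure_minimal _ hC
      rintro _ ⟨z, hz, rfl⟩
      rw [hS] at hz
      obtain ⟨t, htS, hzt⟩ := Set.mem_sUnion.mp hz
      exact Set.mem_biUnion htS (subset_closure (Set.mem_image_of_mem f hzt))
    obtain ⟨t, htS, hxt⟩ := Set.mem_iUnion₂.mp (hsub hx)
    obtain ⟨ξ, hξ⟩ := QuasiSober.sober (hSirr t htS) (hScl t htS)
    have h1 : closure (f '' t) ⊆ closure {f ξ} := by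
      apply closure_minimal _ isClosed_closure
      rw [← hξ.def, ← Set.image_singleton]
      exact image_closure_subset_closure_image hc
    have h2 : f ξ ⤳ f x := specializes_iff_mem_closure.mpr (h1 hxt)
    obtain ⟨x', hx', hfx'⟩ := hgen h2
    have hx'ξ : x' = ξ := hinj hfx'
    subst hx'ξ
    rw [hS]
    refine Set.mem_sUnion.mpr ⟨t, htS, ?_⟩
    rw [← hξ.def]
    exact specializes_iff_mem_closure.mp hx'
  · rintro ⟨C, hC, rfl⟩
    exact hC.preimage hc

theorem isPreimmersion_of_isLocImmersion {X Y : Scheme.{u}} [IsNoetherian X] (f : X ⟶ Y)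
    (hf : LocImm.IsLocImmersion f) : IsPreimmersion f := by
  have := flat_of_isLocalizing f hf.1
  refine { stalkMap_surjective := fun x => ?_, isEmbedding := ?_ }
  · have := isIso_stalkMap_of_isLocalizing f hf.1 x
    exact ((ConcreteCategory.isIso_iff_bijective (f.stalkMap x)).mp inferInstance).2
  · exact isEmbedding_of_injective_generalizing _ f.continuous hf.2 (Flat.generalizingMap f)

end Groth.Agent.Lib.Helper27.LocImmLib
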