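import Mathlib
import Groth.Prelude.Def_W4bk4boschfrg79
import Groth.Agent.Lib.Helper27.MixKeyA
import Groth.Agent.Lib.Helper27.RPowKey
import Groth.Agent.Lib.Helper27.AdicComplete
import Groth.Agent.Lib.Helper27.AdicDim

/-!
Mixed key lemma, class (V): for `B` topologically of finite type over `R`, every `t`-saturated
ideal of the polynomial ring `B[ξ]` is finitely generated.
-/

set_option autoImplicit false
universe u

namespace Groth.Agent.Lib.Helper27.MixKey

open MvPolynomial IsLocalRing AdicRing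
open Groth.Agent.Lib.Helper27

attribute [local instance] MvPolynomial.gradedAlgebra

variable (R : Type u) [CommRing R] [IsDomain R] [ValuationRing R] [Ring.KrullDimLE 1 R]
  (t : R) (ht : t ≠ 0) [IsAdicComplete (Ideal.span {t}) R]
  (B : Type u) [CommRing B] [Algebra R B] (hB : TopFiniteType R (Ideal.span {t}) B)
  {σ : Type*} [Finite σ]

omit [IsDomain R] [ValuationRing R] [Ring.KrullDimLE 1 R] [IsAdicComplete (Ideal.span {t}) R]
  [Finite σ] in
lemma sat_pow (𝔇 : Ideal (MvPolynomial σ B))
    (hsat : ∀ F : MvPolynomial σ B, t • F ∈ 𝔇 → F ∈ 𝔇) :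
    ∀ (j : ℕ) (F : MvPolynomial σ B), t ^ j • F ∈ 𝔇 → F ∈ 𝔇 := by
  intro j
  induction j with
  | zero => intro F hF; simpa using hF
  | succ j ih =>
    intro F hF
    apply ih
    apply hsat
    rwa [← mul_smul, ← pow_succ']

include ht hB in
/-- graded version -/
theorem fg_of_homogeneous_saturated (𝔇 : Ideal (MvPolynomial σ B))
    (hhom : 𝔇.IsHomogeneous (homogeneousSubmodule σ B))
    (hsat : ∀ F : MvPolynomial σ B, t • F ∈ 𝔇 → F ∈ 𝔇) : 𝔇.FG := by
  classical
  have ht_mem : t ∈ maximalIdeal R := RPowKey.mem_maximalIdeal_of_isHausdorff t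
  haveI hcB0 : IsAdicComplete (Ideal.span {t}) B :=
    AdicComplete.isAdicComplete_classV R t ht B hB B
  haveI hcB : IsAdicComplete ((Ideal.span {t}).map (algebraMap R B)) B :=
    (IsAdicComplete.map_algebraMap_iff (Ideal.span {t}) B).mpr hcB0
  have h𝔪jac : (maximalIdeal R).map (algebraMap R B) ≤ (⊥ : Ideal B).jacobson := by
    rw [Ideal.map_le_iff_le_comap]
    intro c hc
    exact AdicDim.algebraMap_mem_jacobson R t ht B c hc
  -- Noetherianity of the special fibre
  haveI hNoeth : IsNoetherianRing (B ⧸ (maximalIdeal R).map (algebraMap R B)) := by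
    obtain ⟨n, φ, hφ⟩ := hB
    have ht𝔪 : algebraMap R B t ∈ (maximalIdeal R).map (algebraMap R B) :=
      Ideal.mem_map_of_mem _ ht_mem
    haveI : Algebra.FiniteType R (B ⧸ (maximalIdeal R).map (algebraMap R B)) :=
      Algebra.FiniteType.of_surjective _ (AdicFin.aeval_mk_surjective R t φ hφ _ ht𝔪)
    letI : Field (R ⧸ maximalIdeal R) := Ideal.Quotient.field _
    haveI : Algebra.FiniteType (R ⧸ maximalIdeal R)
        (B ⧸ (maximalIdeal R).map (algebraMap R B)) :=
      Algebra.FiniteType.of_restrictScalars_finiteType R _ _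
    exact Algebra.FiniteType.isNoetherianRing (R ⧸ maximalIdeal R) _
  haveI : IsNoetherianRing (MvPolynomial σ (B ⧸ (maximalIdeal R).map (algebraMap R B))) :=
    MvPolynomial.isNoetherianRing
  set ρ : MvPolynomial σ B →+* MvPolynomial σ (B ⧸ (maximalIdeal R).map (algebraMap R B)) :=
    MvPolynomial.map (Ideal.Quotient.mk ((maximalIdeal R).map (algebraMap R B))) with hρdef
  have hρ : Function.Surjective ρ :=
    MvPolynomial.map_surjective _ Ideal.Quotient.mk_surjective
  have hfg : (𝔇.map ρ).FG := IsNoetherian.noetherian _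
  -- a finitely generated homogeneous subideal with the same reduction
  obtain ⟨S, hS⟩ := hfg
  have hlift : ∀ s ∈ S, ∃ F ∈ 𝔇, ρ F = s := by
    intro s hs
    have : s ∈ 𝔇.map ρ := hS ▸ Ideal.subset_span hs
    exact (Ideal.mem_map_iff_of_surjective ρ hρ).mp this
  choose! lift hlift_mem hlift_eq using hlift
  set T' : Finset (MvPolynomial σ B) :=
    S.biUnion (fun s => (Finset.range ((lift s).totalDegree + 1)).image
      (fun e => homogeneousComponent e (lift s))) with hT'
  set 𝔤 : Ideal (MvPolynomial σ B) := Ideal.span (T' : Set (MvPolynomial σ B)) with h𝔤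
  have hT'mem : ∀ G ∈ T', G ∈ 𝔇 ∧ ∃ e, G.IsHomogeneous e := by
    intro G hG
    rw [hT', Finset.mem_biUnion] at hG
    obtain ⟨s, hs, hG⟩ := hG
    rw [Finset.mem_image] at hG
    obtain ⟨e, _, rfl⟩ := hG
    exact ⟨homogeneousComponent_mem_of_mem hhom (hlift_mem s hs) e,
      e, homogeneousComponent_isHomogeneous e _⟩
  have h𝔤le : 𝔤 ≤ 𝔇 := Ideal.span_le.mpr (fun G hG => (hT'mem G hG).1)
  have h𝔤hom : 𝔤.IsHomogeneous (homogeneousSubmodule σ B) := by
    apply Ideal.homogeneous_span
    intro G hG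
    obtain ⟨e, he⟩ := (hT'mem G hG).2
    exact ⟨e, he⟩
  have hliftg : ∀ s ∈ S, lift s ∈ 𝔤 := by
    intro s hs
    rw [← sum_homogeneousComponent (lift s)]
    apply Ideal.sum_mem
    intro e he
    apply Ideal.subset_span
    rw [Finset.mem_coe, hT', Finset.mem_biUnion]
    exact ⟨s, hs, Finset.mem_image.mpr ⟨e, he, rfl⟩⟩
  have hmapg : 𝔇.map ρ ≤ 𝔤.map ρ := by
    rw [← hS, Ideal.span_le]
    intro s hs
    rw [← hlift_eq s hs]
    exact Ideal.mem_map_of_mem _ (hliftg s hs)
  -- the statement degree by degree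
  have key : ∀ d : ℕ, ∀ F ∈ 𝔇, F.IsHomogeneous d → F ∈ 𝔤 := by
    intro d
    set E : Submodule B (MvPolynomial σ B) := homogeneousSubmodule σ B d with hE
    set N : Submodule B (MvPolynomial σ B) := E ⊓ 𝔇.restrictScalars B with hN
    set L : Submodule B (MvPolynomial σ B) := E ⊓ 𝔤.restrictScalars B with hL
    have hNfg : N.FG := by
      haveI : Module.Finite B ↥E := Module.Finite.iff_fg.mpr (homogeneousSubmodule_fg σ B d)
      set N' : Submodule B ↥E := (𝔇.restrictScalars B).comap E.subtype with hN'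
      have hN'sat : ∀ x : ↥E, t • x ∈ N' → x ∈ N' := by
        intro x hx
        exact hsat x.1 hx
      have hN'fg : N'.FG := RPowKey.fg_of_saturated_tft R t ht B hB ↥E N' hN'sat
      have e : N = N'.map E.subtype := by
        rw [hN', Submodule.map_comap_subtype]
      rw [e]
      exact hN'fg.map _
    have hle : N ≤ L ⊔ (maximalIdeal R).map (algebraMap R B) • N := by
      rintro F ⟨hFd, hF⟩
      have hFd' : F.IsHomogeneous d := hFd
      have hF' : F ∈ 𝔇 := hF
      have h1 : ρ F ∈ 𝔤.map ρ := hmapg (Ideal.mem_map_of_mem _ hF')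
      obtain ⟨G', hG', hG'F⟩ := (Ideal.mem_map_iff_of_surjective ρ hρ).mp h1
      set G := homogeneousComponent d G' with hG
      have hGg : G ∈ 𝔤 := homogeneousComponent_mem_of_mem h𝔤hom hG' d
      have hGd : G.IsHomogeneous d := homogeneousComponent_isHomogeneous d G'
      have hρG : ρ G = ρ F := by
        rw [hG, hρdef, MixKeyA.map_homogeneousComponent, ← hρdef, hG'F, hρdef,
          ← MixKeyA.map_homogeneousComponent, homogeneousComponent_eq_self hFd']
      set H := F - G with hH
      have hHd : H.IsHomogeneous d := hFd'.sub hGd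
      have hH𝔇 : H ∈ 𝔇 := 𝔇.sub_mem hF' (h𝔤le hGg)
      have hρH : ρ H = 0 := by rw [hH, map_sub, hρG, sub_self]
      have hcoef : ∀ s, coeff s H ∈ (maximalIdeal R).map (algebraMap R B) := by
        intro s
        have := congrArg (coeff s) hρH
        rw [hρdef, coeff_map, coeff_zero, Ideal.Quotient.eq_zero_iff_mem] at this
        exact this
      obtain ⟨c, hc, H', hHH', hsupp⟩ := MixKeyA.exists_smul_of_coeff_mem _ H hcoef
      have hFeq : F = G + H := by rw [hH]; ring
      rw [hFeq]
      refine Submodule.add_mem _ (Submodule.mem_sup_left ⟨hGd, hGg⟩) (Submodule.mem_sup_right ?_)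
      by_cases hc0 : c = 0
      · rw [hHH', hc0, zero_smul]
        exact Submodule.zero_mem _
      · obtain ⟨j, e, hj⟩ := RPowKey.exists_dvd_pow t c hc0
        have hH'𝔇 : H' ∈ 𝔇 := by
          apply sat_pow R t B 𝔇 hsat j
          rw [hj, mul_comm, mul_smul, ← hHH']
          exact 𝔇.smul_of_tower_mem e hH𝔇
        have hH'd : H'.IsHomogeneous d := by
          intro s hs
          apply hHd
          have : s ∈ H.support := hsupp (MvPolynomial.mem_support_iff.mpr hs)
          exact MvPolynomial.mem_support_iff.mp this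
        rw [hHH', ← algebraMap_smul B c H']
        exact Submodule.smul_mem_smul (Ideal.mem_map_of_mem _ hc) ⟨hH'd, hH'𝔇⟩
    have hNL : N ≤ L := Submodule.le_of_le_smul_of_le_jacobson_bot hNfg h𝔪jac hle
    intro F hF hFd
    exact (hNL ⟨hFd, hF⟩).2
  have h𝔇le : 𝔇 ≤ 𝔤 := by
    intro F hF
    rw [← sum_homogeneousComponent F]
    exact Ideal.sum_mem _ (fun e _ => key e _ (homogeneousComponent_mem_of_mem hhom hF e)
      (homogeneousComponent_isHomogeneous e F))
  have : 𝔇 = 𝔤 := le_antisymm h𝔇le h𝔤le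
  rw [this]
  exact ⟨T', rfl⟩

end Groth.Agent.Lib.Helper27.MixKey
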