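import Mathlib
import Groth.Agent.Lib.Helper27.MixKey
import Groth.Agent.Lib.Helper27.AdicBase

/-!
Mixed key lemma, ungraded version, and bounded `t`-torsion of quotients of `B[ξ]`.
-/

set_option autoImplicit false
universe u

namespace Groth.Agent.Lib.Helper27.MixKey2

open MvPolynomial IsLocalRing AdicRing
open Groth.Agent.Lib.Helper27

attribute [local instance] MvPolynomial.gradedAlgebra

variable (R : Type u) [CommRing R] [IsDomain R] [ValuationRing R] [Ring.KrullDimLE 1 R]
  (t : R) (ht : t ≠ 0) [IsAdicComplete (Ideal.span {t}) R]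
  (B : Type u) [CommRing B] [Algebra R B] (hB : TopFiniteType R (Ideal.span {t}) B)
  {σ : Type*} [Finite σ]

include ht hB in
/-- every `t`-saturated ideal of `B[ξ]` is finitely generated. -/
theorem fg_of_saturated (𝔡 : Ideal (MvPolynomial σ B))
    (hsat : ∀ F : MvPolynomial σ B, t • F ∈ 𝔡 → F ∈ 𝔡) : 𝔡.FG := by
  classical
  set gen : Set (MvPolynomial (Option σ) B) :=
    {F | (∃ e, F.IsHomogeneous e) ∧ MixKeyA.dehom F ∈ 𝔡} with hgen
  set 𝔇 : Ideal (MvPolynomial (Option σ) B) := Ideal.span gen with h𝔇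
  have h𝔇comap : 𝔇 ≤ 𝔡.comap (MixKeyA.dehom : MvPolynomial (Option σ) B →ₐ[B] _).toRingHom := by
    rw [h𝔇, Ideal.span_le]
    intro F hF
    exact hF.2
  have hhom : 𝔇.IsHomogeneous (homogeneousSubmodule (Option σ) B) := by
    apply Ideal.homogeneous_span
    intro F hF
    obtain ⟨e, he⟩ := hF.1
    exact ⟨e, he⟩
  have hsat' : ∀ F : MvPolynomial (Option σ) B, t • F ∈ 𝔇 → F ∈ 𝔇 := by
    intro F hF
    rw [← sum_homogeneousComponent F]
    apply Ideal.sum_mem
    intro e _
    apply Ideal.subset_span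
    refine ⟨⟨e, homogeneousComponent_isHomogeneous e F⟩, ?_⟩
    apply hsat
    have h1 : homogeneousComponent e (t • F) ∈ 𝔇 := homogeneousComponent_mem_of_mem hhom hF e
    have h2 : homogeneousComponent e (t • F) = t • homogeneousComponent e F := by
      rw [← algebraMap_smul B t F, map_smul, algebraMap_smul]
    rw [h2] at h1
    have h3 : MixKeyA.dehom (t • homogeneousComponent e F) ∈ 𝔡 := h𝔇comap h1
    rwa [← algebraMap_smul B t (homogeneousComponent e F), map_smul, algebraMap_smul] at h3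
  have hfg := MixKey.fg_of_homogeneous_saturated R t ht B hB 𝔇 hhom hsat'
  have e : 𝔡 = 𝔇.map (MixKeyA.dehom : MvPolynomial (Option σ) B →ₐ[B] _).toRingHom := by
    apply le_antisymm
    · intro f hf
      have h1 : MixKeyA.hom f ∈ 𝔇 :=
        Ideal.subset_span ⟨⟨_, MixKeyA.hom_isHomogeneous f⟩, by rwa [MixKeyA.dehom_hom]⟩
      have h2 := Ideal.mem_map_of_mem
        (MixKeyA.dehom : MvPolynomial (Option σ) B →ₐ[B] _).toRingHom h1
      have h3 : (MixKeyA.dehom : MvPolynomial (Option σ) B →ₐ[B] _).toRingHom (MixKeyA.hom f)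
          = f := MixKeyA.dehom_hom f
      rwa [h3] at h2
    · exact Ideal.map_le_iff_le_comap.mpr h𝔇comap
  rw [e]
  exact hfg.map _

include ht hB in
/-- bounded `t`-torsion modulo an arbitrary ideal of `B[ξ]`. -/
theorem exists_sat_bound (𝔡 : Ideal (MvPolynomial σ B)) :
    ∃ e : ℕ, ∀ F : MvPolynomial σ B, (∃ j : ℕ, t ^ j • F ∈ 𝔡) → t ^ e • F ∈ 𝔡 := by
  have h := fg_of_saturated R t ht B hB (AdicBase.satSubmodule t 𝔡)
    (AdicBase.satSubmodule_sat t 𝔡)
  obtain ⟨e, he⟩ := AdicBase.exists_pow_smul_mem_of_fg t 𝔡 h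
  exact ⟨e, fun F hF => he F hF⟩

end Groth.Agent.Lib.Helper27.MixKey2
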