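import Mathlib
import Groth.Agent.Lib.Helper27.MixKey2
import Groth.Agent.Lib.Helper27.CplFlat
import Groth.Agent.Lib.Helper27.AdicFlat

/-!
Class (V): the completion of an algebra of finite type over an algebra topologically of finite
type is flat.
-/

set_option autoImplicit false
universe u

namespace Groth.Agent.Lib.Helper27.MixFlat

open MvPolynomial IsLocalRing AdicRing TensorProduct
open Groth.Agent.Lib.Helper27

variable (R : Type u) [CommRing R] [IsDomain R] [ValuationRing R] [Ring.KrullDimLE 1 R]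
  (t : R) (ht : t ≠ 0) [IsAdicComplete (Ideal.span {t}) R]
  (A : Type u) [CommRing A] [Algebra R A] (hA : TopFiniteType R (Ideal.span {t}) A)
  (C : Type u) [CommRing C] [Algebra R C] [Algebra A C] [IsScalarTower R A C]
  [Algebra.FiniteType A C]

omit [IsDomain R] [ValuationRing R] [Ring.KrullDimLE 1 R] [IsAdicComplete (Ideal.span {t}) R]
  [Algebra.FiniteType A C] in
lemma map_smul_R {m : ℕ} (ψ : MvPolynomial (Fin m) A →ₐ[A] C) (r : R)
    (F : MvPolynomial (Fin m) A) : ψ (r • F) = algebraMap R C r * ψ F := by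
  rw [← algebraMap_smul A r F, map_smul, algebraMap_smul, Algebra.smul_def]

omit [IsDomain R] [ValuationRing R] [Ring.KrullDimLE 1 R] [IsAdicComplete (Ideal.span {t}) R] in
lemma map_pow_span (n : ℕ) : ((Ideal.span {t}) ^ n).map (algebraMap R C) =
    Ideal.span {algebraMap R C t ^ n} := by
  rw [Ideal.span_singleton_pow, Ideal.map_span, Set.image_singleton, map_pow]

include ht hA in
/-- bounded torsion / Artin–Rees for arbitrary ideals of `C`. -/
theorem artinRees (𝔞 : Ideal C) (k : ℕ) :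
    ∃ n, ((Ideal.span {t}) ^ n).map (algebraMap R C) ⊓ 𝔞 ≤
      ((Ideal.span {t}) ^ k).map (algebraMap R C) * 𝔞 := by
  classical
  obtain ⟨m, ψ, hψ⟩ := (Algebra.FiniteType.iff_quotient_mvPolynomial'' (R := A) (S := C)).mp
    inferInstance
  obtain ⟨e, he⟩ := MixKey2.exists_sat_bound R t ht A hA (𝔞.comap ψ.toRingHom)
  refine ⟨k + e, ?_⟩
  rintro y ⟨hy1, hy2⟩
  rw [SetLike.mem_coe, map_pow_span, Ideal.mem_span_singleton] at hy1
  obtain ⟨c, rfl⟩ := hy1
  obtain ⟨F, rfl⟩ := hψ c
  have h1 : t ^ (k + e) • F ∈ 𝔞.comap ψ.toRingHom := by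
    rw [Ideal.mem_comap]
    show ψ (t ^ (k + e) • F) ∈ 𝔞
    rw [map_smul_R, map_pow]
    exact hy2
  have h2 : ψ (t ^ e • F) ∈ 𝔞 := he F ⟨k + e, h1⟩
  rw [map_smul_R, map_pow] at h2
  rw [map_pow_span, pow_add, mul_assoc]
  exact Ideal.mul_mem_mul (Ideal.mem_span_singleton_self _) h2

include ht hA in
theorem flat_cpl :
    Module.Flat C (AdicCompletion ((Ideal.span {t}).map (algebraMap R C)) C) := by
  classical
  have hI : (Ideal.span {t}).FG := ⟨{t}, by simp⟩
  refine AdicFlat.flat_of_flat_quotients _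
    (fun k => ((Ideal.span {t}) ^ k).map (algebraMap R C)) ?_ ?_ ?_
  · intro k
    exact CplFlat.flat_trunc_tensor (Ideal.span {t}) hI C k
  · intro 𝔞 _ k
    exact artinRees R t ht A hA C 𝔞 k
  · intro 𝔞 h𝔞
    haveI : Module.Finite C ↥𝔞 := Module.Finite.iff_fg.mpr h𝔞
    have htft : TopFiniteType R (Ideal.span {t}) (CplAlg.Cpl (Ideal.span {t}) C) :=
      CplAlg.tft_cpl _ hI C hA
    have h1 : IsAdicComplete (Ideal.span {t}) (CplAlg.Cpl (Ideal.span {t}) C ⊗[C] ↥𝔞) :=
      AdicComplete.isAdicComplete_classV R t ht _ htft _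
    have hH : IsHausdorff ((Ideal.span {t}).map (algebraMap R C))
        (CplAlg.Cpl (Ideal.span {t}) C ⊗[C] ↥𝔞) :=
      IsHausdorff.map_algebraMap_iff.mpr h1.toIsHausdorff
    rw [eq_bot_iff]
    intro x hx
    rw [Submodule.mem_iInf] at hx
    have key : ∀ n, (TensorProduct.comm C ↥𝔞 (CplAlg.Cpl (Ideal.span {t}) C)) x ∈
        (((Ideal.span {t}) ^ n).map (algebraMap R C) • ⊤ :
          Submodule C (CplAlg.Cpl (Ideal.span {t}) C ⊗[C] ↥𝔞)) := by
      intro n
      have h := Submodule.mem_map_of_mem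
        (f := (TensorProduct.comm C ↥𝔞 (CplAlg.Cpl (Ideal.span {t}) C)).toLinearMap) (hx n)
      rw [Submodule.map_smul'', Submodule.map_top, LinearEquiv.range] at h
      exact h
    have h0 : (TensorProduct.comm C ↥𝔞 (CplAlg.Cpl (Ideal.span {t}) C)) x = 0 := by
      apply IsHausdorff.haus hH
      intro n
      rw [SModEq.zero, ← Ideal.map_pow]
      exact key n
    rw [Submodule.mem_bot]
    exact (LinearEquiv.map_eq_zero_iff _).mp h0

end Groth.Agent.Lib.Helper27.MixFlat
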