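import Mathlib
import Groth.Agent.Lib.Helper29.HomogSq

/-!
# Pullback squares for whiskering and multiplication (helper27), towards SGA3 VI_B 6.?
(`(x, y) ↦ f(x) f(y)` is an fppf covering).
-/

set_option autoImplicit false
set_option linter.style.haveILetI false
universe u v
open CategoryTheory CategoryTheory.Limits MonoidalCategory CartesianMonoidalCategory MonObj
  AlgebraicGeometry

namespace Groth.Agent.Lib.Helper27.MulCoverA

open Groth.Agent.Lib.Helper29.HomogSq

section abstract

variable {C : Type u} [Category.{v} C] [CartesianMonoidalCategory C]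

theorem isPullback_fst_whiskerRight {X Y : C} (u : X ⟶ Y) (G : C) :
    IsPullback (fst X G) (u ▷ G) u (fst Y G) where
  w := by simp
  isLimit' := Nonempty.intro <| PullbackCone.IsLimit.mk _
    (fun s => lift s.fst (s.snd ≫ snd Y G))
    (fun s => by simp)
    (fun s => by
      refine CartesianMonoidalCategory.hom_ext _ _ ?_ (by simp)
      simp [s.condition])
    (fun s m hm₁ hm₂ => by
      refine CartesianMonoidalCategory.hom_ext _ _ (by simpa using hm₁) ?_
      rw [lift_snd, ← hm₂]
      simp)

end abstract

section scheme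

variable {S : Scheme.{u}}

theorem sqL {X Y : Over S} (Z : Over S) (u : X ⟶ Y) :
    IsPullback (snd Z X).left (Z ◁ u).left u.left (snd Z Y).left := by
  simpa using (isPullback_snd_whiskerLeft Z u).map (Over.forget _)

theorem sqR {X Y : Over S} (u : X ⟶ Y) (Z : Over S) :
    IsPullback (fst X Z).left (u ▷ Z).left u.left (fst Y Z).left := by
  simpa using (isPullback_fst_whiskerRight u Z).map (Over.forget _)

variable (G : Over S) [GrpObj G]

theorem isPullback_fst_mul_left : IsPullback (fst G G).left (μ[G]).left G.hom G.hom := by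
  have h := ((isPullback_tw_fst (𝟙 G)).flip).map (Over.forget _)
  simpa [tw] using h

/-- `μ` has a section. -/
theorem exists_mul_eq (g : G.left) : ∃ w : (G ⊗ G).left, (μ[G]).left w = g := by
  refine ⟨(lift (𝟙 G) (toUnit G ≫ η[G])).left g, ?_⟩
  rw [← Scheme.Hom.comp_apply, ← Over.comp_left]
  have : lift (𝟙 G) (toUnit G ≫ η[G]) ≫ μ[G] = 𝟙 G := by simp
  rw [this]
  rfl

end scheme

end Groth.Agent.Lib.Helper27.MulCoverA
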