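import Mathlib

/-!
# Density of a set containing the maximal points of the fibres, after base change to a residue
field (helper27)
-/

set_option autoImplicit false
set_option linter.style.haveILetI false
universe u
open CategoryTheory CategoryTheory.Limits AlgebraicGeometry

namespace Groth.Agent.Lib.Helper27.MulCoverB

section top

variable {Z T : Type*} [TopologicalSpace Z] [TopologicalSpace T]

/-- a nonempty open of a quasi-sober space contains a maximal point. -/
theorem exists_maximal_point_mem [QuasiSober Z] (O : Set Z) (hO : IsOpen O) (hne : O.Nonempty) :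
    ∃ η ∈ O, closure ({η} : Set Z) ∈ irreducibleComponents Z := by
  obtain ⟨o, ho⟩ := hne
  have hirr : IsIrreducible (irreducibleComponent o) := isIrreducible_irreducibleComponent
  have hcl : IsClosed (irreducibleComponent o) := isClosed_irreducibleComponent
  refine ⟨hirr.genericPoint, ?_, ?_⟩
  · have hgen : IsGenericPoint hirr.genericPoint (irreducibleComponent o) :=
      hirr.isGenericPoint_genericPoint hcl
    have hspec : hirr.genericPoint ⤳ o := hgen.specializes mem_irreducibleComponent
    exact hspec.mem_open hO ho
  · rw [hirr.closure_genericPoint hcl]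
    exact irreducibleComponent_mem_irreducibleComponents o

theorem closure_singleton_mem_irreducibleComponents_homeomorph (e : Z ≃ₜ T) (η : Z)
    (h : closure ({η} : Set Z) ∈ irreducibleComponents Z) :
    closure ({e η} : Set T) ∈ irreducibleComponents T := by
  have h1 := image_mem_irreducibleComponents_of_isPreirreducible_fiber e e.continuous e.isOpenMap
    (fun x => (Set.subsingleton_singleton.preimage e.injective).isPreirreducible) e.surjective h
  rwa [e.image_closure, Set.image_singleton] at h1

end top

section scheme

variable {X S : Scheme.{u}} (f : X ⟶ S) (U : Set X)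

/-- if `U` contains the maximal points of the fibre over `s` then every nonempty open of the
scheme-theoretic fibre meets the preimage of `U`. -/
theorem exists_mem_fiber_of_maximal (s : S)
    (hU : ∀ g : ↥(f ⁻¹' {s}), closure {g} ∈ irreducibleComponents ↥(f ⁻¹' {s}) → g.1 ∈ U)
    (O : Set (f.fiber s)) (hO : IsOpen O) (hne : O.Nonempty) :
    ∃ η ∈ O, f.fiberι s η ∈ U := by
  obtain ⟨η, hη, hcl⟩ := exists_maximal_point_mem O hO hne
  refine ⟨η, hη, ?_⟩
  have h2 := closure_singleton_mem_irreducibleComponents_homeomorph (f.fiberHomeo s) η hcl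
  exact hU _ h2

/-- the key lemma: for `x : X`, the base change `F` of `Spec κ(x) ⟶ S` along `f` maps to `X` with
every nonempty open of `F` meeting the preimage of `U`. -/
theorem exists_mem_of_isPullback (x : X)
    (hU : ∀ g : ↥(f ⁻¹' {f x}), closure {g} ∈ irreducibleComponents ↥(f ⁻¹' {f x}) → g.1 ∈ U)
    {F : Scheme.{u}} (a : F ⟶ X) (q : F ⟶ Spec (X.residueField x))
    (h : IsPullback a q f (X.fromSpecResidueField x ≫ f))
    (W : Set F) (hW : IsOpen W) (hne : W.Nonempty) : ∃ z ∈ W, a z ∈ U := by
  have hfac : Spec.map (f.residueFieldMap x) ≫ S.fromSpecResidueField (f x) =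
      X.fromSpecResidueField x ≫ f := Scheme.Hom.SpecMap_residueFieldMap_fromSpecResidueField f x
  let ℓ : F ⟶ f.fiber (f x) := pullback.lift a (q ≫ Spec.map (f.residueFieldMap x))
    (by rw [Category.assoc, hfac, h.w])
  have hℓ1 : ℓ ≫ f.fiberι (f x) = a := pullback.lift_fst _ _ _
  have hℓ2 : ℓ ≫ f.fiberToSpecResidueField (f x) = q ≫ Spec.map (f.residueFieldMap x) :=
    pullback.lift_snd _ _ _
  have hpb : IsPullback ℓ q (f.fiberToSpecResidueField (f x))
      (Spec.map (f.residueFieldMap x)) := by
    refine IsPullback.of_right ?_ hℓ2 (IsPullback.of_hasPullback f (S.fromSpecResidueField (f x)))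
    rw [hfac]
    exact hℓ1 ▸ h
  haveI : UniversallyOpen (Spec.map (f.residueFieldMap x)) := inferInstance
  haveI hℓo : UniversallyOpen ℓ :=
    MorphismProperty.of_isPullback (P := @UniversallyOpen) hpb.flip inferInstance
  have hopen : IsOpen (ℓ '' W) := ℓ.isOpenMap _ hW
  obtain ⟨η, ⟨z, hz, rfl⟩, hη⟩ :=
    exists_mem_fiber_of_maximal f U (f x) hU (ℓ '' W) hopen (hne.image _)
  refine ⟨z, hz, ?_⟩
  rw [← hℓ1, Scheme.Hom.comp_apply]
  exact hη

end scheme

end Groth.Agent.Lib.Helper27.MulCoverB
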