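import Groth.Agent.Lib.Helper27.MulCoverA
import Groth.Agent.Lib.Helper27.MulCoverB

/-!
# `(x, y) ↦ φ(x) φ(y)` is flat, lfp and surjective when `φ : Y ⟶ G` is flat lfp and its image
contains the maximal points of the fibres of `G` (helper27; SGA3 VI_B)
-/

set_option autoImplicit false
set_option linter.style.haveILetI false
universe u
open CategoryTheory CategoryTheory.Limits MonoidalCategory CartesianMonoidalCategory MonObj
  AlgebraicGeometry

namespace Groth.Agent.Lib.Helper27.MulCoverC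

open Groth.Agent.Lib.Helper29.HomogSq Groth.Agent.Lib.Helper27.MulCoverA
  Groth.Agent.Lib.Helper27.MulCoverB

/-- cancellation for lfp (same proof as helper17's `HSquare.locallyOfFinitePresentation_of_comp`). -/
theorem locallyOfFinitePresentation_of_comp {X Y Z : Scheme.{u}} (f : X ⟶ Y) (g : Y ⟶ Z)
    [hfg : LocallyOfFinitePresentation (f ≫ g)] [hg : LocallyOfFiniteType g] :
    LocallyOfFinitePresentation f := by
  have hQ : RingHom.StableUnderCompositionWithLocalizationAwaySource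
      @RingHom.FinitePresentation :=
    (RingHom.finitePresentation_stableUnderComposition.stableUnderCompositionWithLocalizationAway
      RingHom.finitePresentation_holdsForLocalizationAway).left
  rw [HasRingHomProperty.iff_exists_appLE (P := @LocallyOfFinitePresentation) hQ]
  intro x
  obtain ⟨_, ⟨W, hW, rfl⟩, hxW, -⟩ :=
    Z.isBasis_affineOpens.exists_subset_of_mem_open (Set.mem_univ (g (f x))) isOpen_univ
  obtain ⟨_, ⟨U, hU, rfl⟩, hxU, hUW⟩ :=
    Y.isBasis_affineOpens.exists_subset_of_mem_open (show f x ∈ ((g ⁻¹ᵁ W : Y.Opens) : Set Y)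
      from hxW) (g ⁻¹ᵁ W).isOpen
  obtain ⟨_, ⟨V, hV, rfl⟩, hxV, hVU⟩ :=
    X.isBasis_affineOpens.exists_subset_of_mem_open (show x ∈ ((f ⁻¹ᵁ U : X.Opens) : Set X)
      from hxU) (f ⁻¹ᵁ U).isOpen
  have e₁ : U ≤ g ⁻¹ᵁ W := hUW
  have e₂ : V ≤ f ⁻¹ᵁ U := hVU
  refine ⟨⟨U, hU⟩, ⟨V, hV⟩, hxV, e₂, ?_⟩
  have h1 := HasRingHomProperty.appLE (P := @LocallyOfFinitePresentation) (f ≫ g) hfg
    ⟨W, hW⟩ ⟨V, hV⟩ (e₂.trans ((TopologicalSpace.Opens.map f.base).map (homOfLE e₁)).le)
  have h2 := HasRingHomProperty.appLE (P := @LocallyOfFiniteType) g hg ⟨W, hW⟩ ⟨U, hU⟩ e₁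
  rw [← Scheme.Hom.appLE_comp_appLE f g W U V e₁ e₂, CommRingCat.hom_comp] at h1
  exact RingHom.FinitePresentation.of_comp_finiteType _ h1 h2

variable {S : Scheme.{u}} (G : Over S) [GrpObj G] [LocallyOfFinitePresentation G.hom]
  [Flat G.hom]

theorem core {Y : Over S} (φ : Y ⟶ G) [Flat φ.left] [LocallyOfFinitePresentation φ.left]
    (hU : ∀ (s : S) (g : ↥(G.hom.base ⁻¹' {s})),
      closure {g} ∈ irreducibleComponents ↥(G.hom.base ⁻¹' {s}) → g.1 ∈ Set.range φ.left) :
    Flat ((φ ⊗ₘ φ) ≫ μ[G]).left ∧ LocallyOfFinitePresentation ((φ ⊗ₘ φ) ≫ μ[G]).left ∧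
      Surjective ((φ ⊗ₘ φ) ≫ μ[G]).left := by
  have e : ((φ ⊗ₘ φ) ≫ μ[G]).left = (φ ▷ Y).left ≫ (G ◁ φ).left ≫ μ[G].left := by
    rw [MonoidalCategory.tensorHom_def]
    simp
  haveI h1 : Flat (φ ▷ Y).left :=
    MorphismProperty.of_isPullback (P := @Flat) (sqR φ Y) inferInstance
  haveI h2 : Flat (G ◁ φ).left :=
    MorphismProperty.of_isPullback (P := @Flat) (sqL G φ) inferInstance
  haveI h3 : Flat μ[G].left :=
    MorphismProperty.of_isPullback (P := @Flat) (isPullback_snd_mul_left G) inferInstance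
  haveI h1' : LocallyOfFinitePresentation (φ ▷ Y).left :=
    MorphismProperty.of_isPullback (P := @LocallyOfFinitePresentation) (sqR φ Y) inferInstance
  haveI h2' : LocallyOfFinitePresentation (G ◁ φ).left :=
    MorphismProperty.of_isPullback (P := @LocallyOfFinitePresentation) (sqL G φ) inferInstance
  haveI h3' : LocallyOfFinitePresentation μ[G].left :=
    MorphismProperty.of_isPullback (P := @LocallyOfFinitePresentation)
      (isPullback_snd_mul_left G) inferInstance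
  refine ⟨by rw [e]; infer_instance, by rw [e]; infer_instance, ⟨fun g => ?_⟩⟩
  -- surjectivity
  let pt := G.left.fromSpecResidueField g
  let p := pullback.fst μ[G].left pt
  let q := pullback.snd μ[G].left pt
  have hF : IsPullback p q μ[G].left pt := IsPullback.of_hasPullback _ _
  have hp1 : IsPullback (p ≫ (fst G G).left) q G.hom (pt ≫ G.hom) :=
    hF.paste_horiz (isPullback_fst_mul_left G)
  have hp2 : IsPullback (p ≫ (snd G G).left) q G.hom (pt ≫ G.hom) :=
    hF.paste_horiz (isPullback_snd_mul_left G)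
  set U : Set G.left := Set.range φ.left with hUdef
  have hUopen : IsOpen U := φ.left.isOpenMap.isOpen_range
  obtain ⟨w₀, hw₀⟩ := exists_mul_eq G g
  obtain ⟨z₀, -, -⟩ := Scheme.Pullback.exists_preimage_pullback (f := μ[G].left) (g := pt) w₀
    (⟨⊥, Ideal.isPrime_bot⟩ : Spec (G.left.residueField g))
    (by rw [hw₀, Scheme.fromSpecResidueField_apply])
  obtain ⟨z₁, -, hz₁⟩ := exists_mem_of_isPullback G.hom U g (hU (G.hom g)) _ q hp1 Set.univ
    isOpen_univ ⟨z₀, trivial⟩
  have hW₁ : IsOpen ((p ≫ (fst G G).left) ⁻¹' U) := hUopen.preimage (p ≫ (fst G G).left).continuous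
  obtain ⟨z, hzW, hz2⟩ := exists_mem_of_isPullback G.hom U g (hU (G.hom g)) _ q hp2 _ hW₁
    ⟨z₁, hz₁⟩
  have hμ : μ[G].left (p z) = g := by
    rw [← Scheme.Hom.comp_apply, hF.w, Scheme.Hom.comp_apply, Scheme.fromSpecResidueField_apply]
  obtain ⟨y₀, hy₀⟩ : (snd G G).left (p z) ∈ U := by
    rw [← Scheme.Hom.comp_apply]; exact hz2
  obtain ⟨x₀, hx₀⟩ : (fst G G).left (p z) ∈ U := by
    rw [← Scheme.Hom.comp_apply]; exact hzW
  obtain ⟨t₁, ht₁a, ht₁b⟩ := exists_preimage_of_isPullback (sqL G φ) y₀ (p z) hy₀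
  have hfst : (fst G Y).left t₁ = (fst G G).left (p z) := by
    rw [← ht₁b, ← Scheme.Hom.comp_apply, ← Over.comp_left, whiskerLeft_fst]
  obtain ⟨t, hta, htb⟩ := exists_preimage_of_isPullback (sqR φ Y) x₀ t₁ (hx₀.trans hfst.symm)
  refine ⟨t, ?_⟩
  rw [e, Scheme.Hom.comp_apply, Scheme.Hom.comp_apply, htb, ht₁b, hμ]

end Groth.Agent.Lib.Helper27.MulCoverC
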