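import Mathlib

/-!
# Roots of split separable polynomials are combinations of idempotents
-/

set_option autoImplicit false
open Polynomial

namespace Groth.Agent.Lib.Helper27.MweA

variable {F D : Type*} [Field F] [CommRing D] [Algebra F D]

theorem nodal_dvd_of_forall_eval_eq_zero (s : Finset F) (g : F[X]) (hg : ∀ r ∈ s, g.eval r = 0) :
    Lagrange.nodal s id ∣ g := by
  classical
  by_cases hg0 : g = 0
  · rw [hg0]; exact dvd_zero _
  have h1 : Lagrange.nodal s id = (s.val.map fun a => X - C a).prod := by
    rw [Lagrange.nodal]; rfl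
  rw [h1, Multiset.prod_X_sub_C_dvd_iff_le_roots hg0, Multiset.le_iff_subset s.nodup]
  intro r hr
  rw [mem_roots hg0]
  exact hg r hr

theorem aeval_eq_zero_of_forall_eval_eq_zero (s : Finset F) (x : D)
    (hx : aeval x (Lagrange.nodal s id) = 0) (g : F[X]) (hg : ∀ r ∈ s, g.eval r = 0) :
    aeval x g = 0 := by
  obtain ⟨q, rfl⟩ := nodal_dvd_of_forall_eval_eq_zero s g hg
  rw [map_mul, hx, zero_mul]

theorem mem_span_idem_of_nodal (s : Finset F) (x : D)
    (hx : aeval x (Lagrange.nodal s id) = 0) :
    x ∈ Submodule.span F {e : D | IsIdempotentElem e} := by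
  classical
  have hinj : Set.InjOn (id : F → F) s := Function.injective_id.injOn
  have e1 : ∀ r ∈ s, eval r (Lagrange.basis s id r) = 1 := fun r hr =>
    Lagrange.eval_basis_self (v := id) hinj hr
  have e2 : ∀ r r', r ≠ r' → r' ∈ s → eval r' (Lagrange.basis s id r) = 0 := fun r r' h hr' =>
    Lagrange.eval_basis_of_ne (v := id) h hr'
  have hidem : ∀ r ∈ s, IsIdempotentElem (aeval x (Lagrange.basis s id r)) := by
    intro r hr
    have h := aeval_eq_zero_of_forall_eval_eq_zero s x hx
      (Lagrange.basis s id r * Lagrange.basis s id r - Lagrange.basis s id r) (by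
        intro r' hr'
        rw [eval_sub, eval_mul]
        by_cases h : r = r'
        · subst h
          rw [e1 r hr]; ring
        · rw [e2 r r' h hr']; ring)
    rw [map_sub, map_mul, sub_eq_zero] at h
    exact h
  have hsum : x = ∑ r ∈ s, r • aeval x (Lagrange.basis s id r) := by
    have h := aeval_eq_zero_of_forall_eval_eq_zero s x hx
      (X - ∑ r ∈ s, C r * Lagrange.basis s id r) (by
        intro r' hr'
        rw [eval_sub, eval_X, eval_finsetSum, sub_eq_zero]
        rw [Finset.sum_eq_single r']
        · rw [eval_mul, eval_C, e1 r' hr', mul_one]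
        · intro b hb hbr
          rw [eval_mul, eval_C, e2 b r' hbr hr', mul_zero]
        · intro h; exact absurd hr' h)
    rw [map_sub, aeval_X, map_sum, sub_eq_zero] at h
    refine h.trans ?_
    apply Finset.sum_congr rfl
    intro r _
    rw [map_mul, aeval_C, Algebra.smul_def]
  rw [hsum]
  exact Submodule.sum_mem _ fun r hr => Submodule.smul_mem _ _ (Submodule.subset_span (hidem r hr))

theorem mem_span_idem_of_separable [IsAlgClosed F] (x : D) (P : F[X]) (hP : P.Separable)
    (hx : aeval x P = 0) :
    x ∈ Submodule.span F {e : D | IsIdempotentElem e} := by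
  classical
  have hP0 : P ≠ 0 := hP.ne_zero
  have hsplit : P.Splits := IsAlgClosed.splits P
  have h1 : P = C P.leadingCoeff * (P.roots.map fun a => X - C a).prod :=
    (Polynomial.Splits.eq_prod_roots hsplit)
  have hnd : P.roots.Nodup := nodup_roots hP
  have h2 : (P.roots.map fun a => X - C a).prod = Lagrange.nodal P.roots.toFinset id := by
    rw [Lagrange.nodal]
    rw [Finset.prod, Multiset.toFinset_val, hnd.dedup]
    rfl
  apply mem_span_idem_of_nodal P.roots.toFinset x
  rw [← h2]
  rw [h1, map_mul, aeval_C] at hx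
  have hu : IsUnit (algebraMap F D P.leadingCoeff) :=
    (isUnit_iff_ne_zero.mpr (leadingCoeff_ne_zero.mpr hP0)).map _
  exact (hu.mul_right_eq_zero).mp hx

end Groth.Agent.Lib.Helper27.MweA
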