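import Groth.Agent.Lib.Helper9.GeomLib3
import Groth.Agent.Lib.Helper27.ClopenCpl

/-!
# Idempotents of `A ⊗[K] Ω` for `K` separably closed come from `A`
-/

set_option autoImplicit false
set_option linter.style.haveILetI false
set_option linter.unusedSectionVars false
universe u
open TensorProduct

namespace Groth.Agent.Lib.Helper27.MweB

open Groth.Agent.Lib.Helper9.GeomLib

variable {K : Type u} [Field K] [IsSepClosed K]

theorem trivIdem_of_field (F : Type*) [Field F] : TrivIdem F := by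
  intro e he
  rcases eq_or_ne e 0 with h | h
  · left; exact h
  · right
    have : e * e = e * 1 := by rw [mul_one]; exact he
    exact mul_left_cancel₀ h this

theorem isPreconnected_fibre (Ω A : Type u) [Field Ω] [Algebra K Ω] [CommRing A] [Algebra K A]
    (p : PrimeSpectrum A) :
    IsPreconnected (PrimeSpectrum.comap (algebraMap A (A ⊗[K] Ω)) ⁻¹' {p}) := by
  let hh := PrimeSpectrum.preimageHomeomorphFiber A (A ⊗[K] Ω) p
  let e1 : p.asIdeal.ResidueField ⊗[A] (A ⊗[K] Ω) ≃ₐ[p.asIdeal.ResidueField]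
      p.asIdeal.ResidueField ⊗[K] Ω :=
    Algebra.TensorProduct.cancelBaseChange K A p.asIdeal.ResidueField p.asIdeal.ResidueField Ω
  let e2 : p.asIdeal.ResidueField ⊗[K] Ω ≃ₐ[K] Ω ⊗[K] p.asIdeal.ResidueField :=
    Algebra.TensorProduct.comm K p.asIdeal.ResidueField Ω
  have h1 : TrivIdem (Ω ⊗[K] p.asIdeal.ResidueField) :=
    trivIdem_tensor_of_isSepClosed Ω p.asIdeal.ResidueField (trivIdem_of_field _)
  have h2 : TrivIdem (p.asIdeal.ResidueField ⊗[A] (A ⊗[K] Ω)) :=
    TrivIdem.of_injective ((e2 : p.asIdeal.ResidueField ⊗[K] Ω →+* Ω ⊗[K] p.asIdeal.ResidueField).comp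
      (e1 : p.asIdeal.ResidueField ⊗[A] (A ⊗[K] Ω) →+* p.asIdeal.ResidueField ⊗[K] Ω))
      (e2.injective.comp e1.injective) h1
  haveI : Nontrivial (p.asIdeal.ResidueField ⊗[A] (A ⊗[K] Ω)) := by
    haveI : Nontrivial (p.asIdeal.ResidueField ⊗[K] Ω) := inferInstance
    exact e1.toRingEquiv.nontrivial
  haveI : ConnectedSpace (PrimeSpectrum (p.asIdeal.Fiber (A ⊗[K] Ω))) :=
    (Groth.Agent.Lib.Helper9.GeomLib.connectedSpace_iff _).mpr ⟨‹_›, h2⟩
  haveI : ConnectedSpace ↥(PrimeSpectrum.comap (algebraMap A (A ⊗[K] Ω)) ⁻¹' {p}) :=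
    hh.symm.surjective.connectedSpace hh.symm.continuous
  exact isPreconnected_iff_preconnectedSpace.mpr inferInstance

theorem exists_idem_eq (Ω A : Type u) [Field Ω] [Algebra K Ω] [CommRing A] [Algebra K A]
    (e : A ⊗[K] Ω) (he : IsIdempotentElem e) :
    ∃ e₀ : A, IsIdempotentElem e₀ ∧ e = e₀ ⊗ₜ[K] (1 : Ω) := by
  set f := PrimeSpectrum.comap (algebraMap A (A ⊗[K] Ω)) with hf
  have hopen : IsOpenMap f := PrimeSpectrum.isOpenMap_comap_algebraMap_tensorProduct_of_field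
  haveI : Module.FaithfullyFlat A (A ⊗[K] Ω) := inferInstance
  have hsurj : Function.Surjective f := PrimeSpectrum.comap_surjective_of_faithfullyFlat
  have hq : Topology.IsQuotientMap f :=
    hopen.isQuotientMap (PrimeSpectrum.continuous_comap _) hsurj
  have hV : IsClopen (PrimeSpectrum.basicOpen e : Set (PrimeSpectrum (A ⊗[K] Ω))) :=
    PrimeSpectrum.isClopen_iff.mpr ⟨e, he, rfl⟩
  obtain ⟨U, ⟨hU, hUV⟩, -⟩ := ClopenCpl.existsUnique_isClopen_preimage f hq
    (isPreconnected_fibre Ω A) _ hV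
  obtain ⟨e₀, he₀, rfl⟩ := PrimeSpectrum.isClopen_iff.mp hU
  refine ⟨e₀, he₀, ?_⟩
  have he₁ : IsIdempotentElem (e₀ ⊗ₜ[K] (1 : Ω) : A ⊗[K] Ω) := by
    have := he₀.map (algebraMap A (A ⊗[K] Ω))
    exact this
  apply PrimeSpectrum.basicOpen_injOn_isIdempotentElem he he₁
  apply TopologicalSpace.Opens.ext
  rw [← hUV]
  rfl

end Groth.Agent.Lib.Helper27.MweB
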