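import Groth.Agent.Lib.Helper8.WEField

/-!
# Idempotents of `K₁ ⊗[K] A` for a finite Galois extension `K₁/K` lie in `K₁ ⊗ Sep(K, A)`
-/

set_option autoImplicit false
set_option linter.style.haveILetI false
set_option linter.unusedSectionVars false
universe u
open TensorProduct Polynomial

namespace Groth.Agent.Lib.Helper27.MweC

open Groth.Agent.Lib.Helper8.WEField

variable {K : Type u} [Field K] (K₁ : Type u) [Field K₁] [Algebra K K₁]
  (A : Type u) [CommRing A] [Algebra K A]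

/-- The action of an automorphism on the first factor. -/
noncomputable def sA (σ : K₁ ≃ₐ[K] K₁) : K₁ ⊗[K] A →ₐ[K] K₁ ⊗[K] A :=
  Algebra.TensorProduct.map (σ : K₁ →ₐ[K] K₁) (AlgHom.id K A)

variable {K₁ A}

theorem sA_tmul (σ : K₁ ≃ₐ[K] K₁) (x : K₁) (a : A) : sA K₁ A σ (x ⊗ₜ[K] a) = σ x ⊗ₜ[K] a := by
  simp [sA]

theorem sA_comp_algebraMap (σ : K₁ ≃ₐ[K] K₁) :
    ((sA K₁ A σ : K₁ ⊗[K] A →+* K₁ ⊗[K] A)).comp (algebraMap K₁ (K₁ ⊗[K] A)) =
      (algebraMap K₁ (K₁ ⊗[K] A)).comp (σ : K₁ →+* K₁) := by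
  ext c
  simp [Algebra.TensorProduct.algebraMap_apply, sA]

theorem isSepElem_of_isIdempotentElem {F D : Type*} [Field F] [CommRing D] [Algebra F D] (e : D)
    (he : IsIdempotentElem e) : IsSepElem F e := by
  refine ⟨X * (X - C 1), ?_, ?_⟩
  · refine separable_X.mul (separable_X_sub_C) ⟨1, -1, ?_⟩
    simp
  · simp only [map_mul, aeval_X, map_sub, map_one]
    rw [mul_sub, mul_one, he.eq, sub_self]

variable [FiniteDimensional K K₁] [IsGalois K K₁]

theorem isSepElem_of_one_tmul (a : A) (h : IsSepElem K₁ ((1 : K₁) ⊗ₜ[K] a)) : IsSepElem K a := by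
  obtain ⟨Q, hQ, h0⟩ := h
  set y : K₁ ⊗[K] A := (1 : K₁) ⊗ₜ[K] a with hy
  have hint : IsIntegral K₁ y := IsAlgebraic.isIntegral ⟨Q, hQ.ne_zero, h0⟩
  have hsep : (minpoly K₁ y).Separable := hQ.of_dvd (minpoly.dvd K₁ y h0)
  have hfix : ∀ σ : K₁ ≃ₐ[K] K₁, (minpoly K₁ y).map (σ : K₁ →+* K₁) = minpoly K₁ y := by
    intro σ
    have hσy : sA K₁ A σ y = y := by rw [hy, sA_tmul, map_one]
    have hz : aeval y ((minpoly K₁ y).map (σ : K₁ →+* K₁)) = 0 := by
      have h1 : (sA K₁ A σ : K₁ ⊗[K] A →+* K₁ ⊗[K] A) (aeval y (minpoly K₁ y)) = 0 := by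
        rw [minpoly.aeval, map_zero]
      rw [aeval_def, hom_eval₂, sA_comp_algebraMap] at h1
      rw [aeval_def, eval₂_map]
      have : (sA K₁ A σ : K₁ ⊗[K] A →+* K₁ ⊗[K] A) y = y := hσy
      rw [this] at h1
      exact h1
    apply minpoly.unique K₁ y ((minpoly.monic hint).map _) hz
    intro q hq hq0
    rw [degree_map]
    exact minpoly.min K₁ y hq hq0
  have hlift : minpoly K₁ y ∈ lifts (algebraMap K K₁) := by
    rw [lifts_iff_coeff_lifts]
    intro n
    rw [IsGalois.mem_range_algebraMap_iff_fixed]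
    intro σ
    have := congrArg (fun p => p.coeff n) (hfix σ)
    simpa [coeff_map] using this
  obtain ⟨m, hm⟩ := hlift
  have hm : m.map (algebraMap K K₁) = minpoly K₁ y := hm
  refine ⟨m, (separable_map (algebraMap K K₁)).mp (hm ▸ hsep), ?_⟩
  have hinj : Function.Injective (Algebra.TensorProduct.includeRight : A →ₐ[K] K₁ ⊗[K] A) :=
    Algebra.TensorProduct.includeRight_injective (FaithfulSMul.algebraMap_injective K K₁)
  apply hinj
  rw [map_zero, ← aeval_algHom_apply, Algebra.TensorProduct.includeRight_apply, ← hy,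
    ← aeval_map_algebraMap K₁, hm, minpoly.aeval]

end Groth.Agent.Lib.Helper27.MweC
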