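import Groth.Agent.Lib.Helper27.MweC

/-!
# Idempotents of `K₁ ⊗[K] A` (finite Galois) via the trace
-/

set_option autoImplicit false
set_option linter.style.haveILetI false
set_option linter.unusedSectionVars false
universe u
open TensorProduct Polynomial

namespace Groth.Agent.Lib.Helper27.MweD

open Groth.Agent.Lib.Helper8.WEField Groth.Agent.Lib.Helper27.MweC

variable {K : Type u} [Field K] {K₁ : Type u} [Field K₁] [Algebra K K₁]
  {A : Type u} [CommRing A] [Algebra K A]

variable (A) in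
/-- `x ⊗ a ↦ Tr(c x) • a`. -/
noncomputable def tau (c : K₁) : K₁ ⊗[K] A →ₗ[K] A :=
  (TensorProduct.lid K A).toLinearMap ∘ₗ (LinearMap.rTensor A (Algebra.traceForm K K₁ c))

theorem tau_tmul (c x : K₁) (a : A) :
    tau A c (x ⊗ₜ[K] a) = Algebra.trace K K₁ (c * x) • a := by
  simp [tau, Algebra.traceForm_apply]

variable [FiniteDimensional K K₁] [IsGalois K K₁]

theorem one_tmul_tau (c : K₁) (z : K₁ ⊗[K] A) :
    (1 : K₁) ⊗ₜ[K] (tau A c z) = ∑ σ : K₁ ≃ₐ[K] K₁, (σ c ⊗ₜ[K] (1 : A)) * sA K₁ A σ z := by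
  induction z using TensorProduct.induction_on with
  | zero => simp
  | tmul x a =>
    rw [tau_tmul]
    have h1 : ∀ σ : K₁ ≃ₐ[K] K₁, (σ c ⊗ₜ[K] (1 : A)) * sA K₁ A σ (x ⊗ₜ[K] a) =
        (σ (c * x)) ⊗ₜ[K] a := by
      intro σ
      rw [sA_tmul, Algebra.TensorProduct.tmul_mul_tmul, one_mul, map_mul]
    rw [Finset.sum_congr rfl (fun σ _ => h1 σ), ← TensorProduct.sum_tmul,
      ← trace_eq_sum_automorphisms, TensorProduct.tmul_smul, TensorProduct.smul_tmul',
      Algebra.smul_def, mul_one]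
  | add z w hz hw =>
    rw [map_add, TensorProduct.tmul_add, hz, hw, ← Finset.sum_add_distrib]
    apply Finset.sum_congr rfl
    intro σ _
    rw [map_add, mul_add]

theorem eq_sum_dualBasis {ι : Type*} [Fintype ι] [DecidableEq ι] (b : Module.Basis ι K K₁)
    (z : K₁ ⊗[K] A) :
    z = ∑ i, ((Algebra.traceForm K K₁).dualBasis (traceForm_nondegenerate K K₁) b i) ⊗ₜ[K]
      (tau A (b i) z) := by
  induction z using TensorProduct.induction_on with
  | zero => simp
  | tmul x a =>
    have h1 : ∀ i, ((Algebra.traceForm K K₁).dualBasis (traceForm_nondegenerate K K₁) b i) ⊗ₜ[K]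
        (tau A (b i) (x ⊗ₜ[K] a)) =
        (((Algebra.traceForm K K₁).dualBasis (traceForm_nondegenerate K K₁) b).repr x i •
          ((Algebra.traceForm K K₁).dualBasis (traceForm_nondegenerate K K₁) b i)) ⊗ₜ[K] a := by
      intro i
      rw [tau_tmul, LinearMap.BilinForm.dualBasis_repr_apply, Algebra.traceForm_apply,
        TensorProduct.tmul_smul, TensorProduct.smul_tmul', mul_comm]
    rw [Finset.sum_congr rfl (fun i _ => h1 i), ← TensorProduct.sum_tmul, Module.Basis.sum_repr]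
  | add z w hz hw =>
    conv_lhs => rw [hz, hw]
    rw [← Finset.sum_add_distrib]
    apply Finset.sum_congr rfl
    intro i _
    rw [map_add, TensorProduct.tmul_add]

theorem tau_mem_sep (e : K₁ ⊗[K] A) (he : IsIdempotentElem e) (c : K₁) :
    tau A c e ∈ sepSubalgebra K A := by
  rw [mem_sepSubalgebra]
  apply isSepElem_of_one_tmul (K₁ := K₁)
  rw [one_tmul_tau]
  rw [← mem_sepSubalgebra]
  apply Subalgebra.sum_mem
  intro σ _
  apply Subalgebra.mul_mem
  · have : (σ c ⊗ₜ[K] (1 : A) : K₁ ⊗[K] A) = algebraMap K₁ (K₁ ⊗[K] A) (σ c) := by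
      rw [Algebra.TensorProduct.algebraMap_apply]; rfl
    rw [this]
    exact Subalgebra.algebraMap_mem _ _
  · rw [mem_sepSubalgebra]
    exact isSepElem_of_isIdempotentElem _ (he.map (sA K₁ A σ))

theorem idem_mem_range (e : K₁ ⊗[K] A) (he : IsIdempotentElem e) :
    e ∈ Set.range (Algebra.TensorProduct.map (AlgHom.id K₁ K₁) (sepSubalgebra K A).val) := by
  classical
  let b := Module.finBasis K K₁
  refine ⟨∑ i, ((Algebra.traceForm K K₁).dualBasis (traceForm_nondegenerate K K₁) b i) ⊗ₜ[K]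
    (⟨tau A (b i) e, tau_mem_sep e he (b i)⟩ : sepSubalgebra K A), ?_⟩
  rw [map_sum]
  conv_rhs => rw [eq_sum_dualBasis b e]
  apply Finset.sum_congr rfl
  intro i _
  rw [Algebra.TensorProduct.map_tmul]
  rfl

end Groth.Agent.Lib.Helper27.MweD
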