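import Groth.Agent.Lib.Helper27.MweA
import Groth.Agent.Lib.Helper27.MweB
import Groth.Agent.Lib.Helper27.MweD

/-!
# The largest weakly etale subalgebra commutes with field extension
-/

set_option autoImplicit false
set_option linter.style.haveILetI false
set_option linter.unusedSectionVars false
universe u
open TensorProduct Polynomial

namespace Groth.Agent.Lib.Helper27.MweE

open Groth.Agent.Lib.Helper8.WEField Groth.Agent.Lib.Helper27.MweC Groth.Agent.Lib.Helper27.MweD

variable {K : Type u} [Field K] {A : Type u} [CommRing A] [Algebra K A]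

/-- functoriality -/
theorem map_map_eq {E F : Type u} [Field E] [Field F] [Algebra K E] [Algebra K F] [Algebra E F]
    [IsScalarTower K E F] (B : Subalgebra K A) (w : E ⊗[K] B) :
    Algebra.TensorProduct.map (IsScalarTower.toAlgHom K E F) (AlgHom.id K A)
      (Algebra.TensorProduct.map (AlgHom.id E E) B.val w) =
    Algebra.TensorProduct.map (AlgHom.id F F) B.val
      (Algebra.TensorProduct.map (IsScalarTower.toAlgHom K E F) (AlgHom.id K B) w) := by
  induction w using TensorProduct.induction_on with
  | zero => simp
  | tmul x b => simp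
  | add z w hz hw => simp only [map_add, hz, hw]

/-- Idempotents over an (infinite) Galois extension. -/
theorem idem_mem_range_of_isGalois (E : Type u) [Field E] [Algebra K E] [IsGalois K E]
    (e : E ⊗[K] A) (he : IsIdempotentElem e) :
    e ∈ Set.range (Algebra.TensorProduct.map (AlgHom.id E E) (sepSubalgebra K A).val) := by
  classical
  obtain ⟨S, hS⟩ := TensorProduct.exists_finset e
  let s : Set E := ↑(S.image Prod.fst)
  haveI : Finite s := (S.image Prod.fst).finite_toSet
  let F := FiniteGaloisIntermediateField.adjoin K s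
  have hmem : ∀ i ∈ S, i.1 ∈ F.toIntermediateField := fun i hi =>
    FiniteGaloisIntermediateField.subset_adjoin K s (Finset.mem_image_of_mem Prod.fst hi)
  let e₁ : ↥F.toIntermediateField ⊗[K] A :=
    ∑ i ∈ S.attach, (⟨i.1.1, hmem i.1 i.2⟩ : ↥F.toIntermediateField) ⊗ₜ[K] i.1.2
  let ι := Algebra.TensorProduct.map (F.toIntermediateField.val) (AlgHom.id K A)
  have hι : Function.Injective ι :=
    Groth.Agent.Lib.Helper9.GeomLib.map_injective _ (Subtype.val_injective)
  have he₁ : ι e₁ = e := by
    rw [hS, map_sum, ← Finset.sum_attach S]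
    apply Finset.sum_congr rfl
    intro i _
    simp [ι]
  have hidem : IsIdempotentElem e₁ := by
    apply hι
    rw [map_mul, he₁]
    exact he
  obtain ⟨w, hw⟩ := idem_mem_range (K₁ := ↥F.toIntermediateField) e₁ hidem
  refine ⟨Algebra.TensorProduct.map (IsScalarTower.toAlgHom K ↥F.toIntermediateField E)
    (AlgHom.id K _) w, ?_⟩
  rw [← map_map_eq, hw]
  exact he₁

/-- Descent of membership along a field extension (linear algebra). -/
theorem mem_range_of_map_mem_range (L Ω : Type u) [Field L] [Field Ω] [Algebra K L] [Algebra K Ω]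
    [Algebra L Ω] [IsScalarTower K L Ω] (B : Subalgebra K A) (x : L ⊗[K] A)
    (hx : Algebra.TensorProduct.map (IsScalarTower.toAlgHom K L Ω) (AlgHom.id K A) x ∈
      Set.range (Algebra.TensorProduct.map (AlgHom.id Ω Ω) B.val)) :
    x ∈ Set.range (Algebra.TensorProduct.map (AlgHom.id L L) B.val) := by
  let q : A →ₗ[K] A ⧸ B.toSubmodule := B.toSubmodule.mkQ
  let j : ↥B.toSubmodule →ₗ[K] A := B.toSubmodule.subtype
  have hex : Function.Exact j q := by
    rw [LinearMap.exact_iff]
    simp [j, q]
  have hq : Function.Surjective q := Submodule.mkQ_surjective _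
  have hexL := lTensor_exact L hex hq
  have hexΩ := lTensor_exact Ω hex hq
  let ιL : L →ₗ[K] Ω := (IsScalarTower.toAlgHom K L Ω).toLinearMap
  have hιL : Function.Injective ιL := (algebraMap L Ω).injective
  have hinj : Function.Injective (LinearMap.rTensor (A ⧸ B.toSubmodule) ιL) :=
    Module.Flat.rTensor_preserves_injective_linearMap ιL hιL
  -- key computations
  have k1 : ∀ z : L ⊗[K] A, Algebra.TensorProduct.map (IsScalarTower.toAlgHom K L Ω)
      (AlgHom.id K A) z = LinearMap.rTensor A ιL z := by
    intro z
    induction z using TensorProduct.induction_on with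
    | zero => simp
    | tmul a r => simp [ιL]
    | add a b ha hb => simp only [map_add, ha, hb]
  have k2 : ∀ w : Ω ⊗[K] B, Algebra.TensorProduct.map (AlgHom.id Ω Ω) B.val w =
      LinearMap.lTensor Ω j w := by
    intro z
    induction z using TensorProduct.induction_on with
    | zero => simp
    | tmul a r => simp [j]
    | add a b ha hb => simp only [map_add, ha, hb]
  have k3 : ∀ w : L ⊗[K] B, Algebra.TensorProduct.map (AlgHom.id L L) B.val w =
      LinearMap.lTensor L j w := by
    intro z
    induction z using TensorProduct.induction_on with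
    | zero => simp
    | tmul a r => simp [j]
    | add a b ha hb => simp only [map_add, ha, hb]
  obtain ⟨w, hw⟩ := hx
  have h1 : LinearMap.lTensor Ω q (LinearMap.rTensor A ιL x) = 0 := by
    rw [← k1, ← hw, k2]
    exact (hexΩ _).mpr ⟨w, rfl⟩
  have h2 : LinearMap.rTensor (A ⧸ B.toSubmodule) ιL (LinearMap.lTensor L q x) = 0 := by
    rw [← h1]
    rw [← LinearMap.comp_apply, ← LinearMap.comp_apply, LinearMap.rTensor_comp_lTensor,
      LinearMap.lTensor_comp_rTensor]
  have h3 : LinearMap.lTensor L q x = 0 := hinj (by rw [h2, map_zero])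
  obtain ⟨w', hw'⟩ := (hexL x).mp h3
  exact ⟨w', by rw [k3, hw']⟩

end Groth.Agent.Lib.Helper27.MweE
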