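import Groth.Agent.Lib.Helper27.MweE

/-!
# The largest weakly etale subalgebra commutes with field extension: main theorem
-/

set_option autoImplicit false
set_option linter.style.haveILetI false
set_option linter.unusedSectionVars false
universe u
open TensorProduct Polynomial

namespace Groth.Agent.Lib.Helper27.MweF

open Groth.Agent.Lib.Helper8.WEField Groth.Agent.Lib.Helper27.MweC Groth.Agent.Lib.Helper27.MweD
  Groth.Agent.Lib.Helper27.MweE

variable {K : Type u} [Field K] {A : Type u} [CommRing A] [Algebra K A]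

theorem cancel_one_tmul (Ω₀ Ω : Type u) [Field Ω₀] [Field Ω] [Algebra K Ω₀] [Algebra K Ω]
    [Algebra Ω₀ Ω] [IsScalarTower K Ω₀ Ω] (z : Ω₀ ⊗[K] A) :
    Algebra.TensorProduct.cancelBaseChange K Ω₀ Ω Ω A ((1 : Ω) ⊗ₜ[Ω₀] z) =
      Algebra.TensorProduct.map (IsScalarTower.toAlgHom K Ω₀ Ω) (AlgHom.id K A) z := by
  induction z using TensorProduct.induction_on with
  | zero => simp
  | tmul s a => simp [Algebra.smul_def]
  | add z w hz hw => simp only [TensorProduct.tmul_add, map_add, hz, hw]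

/-- Idempotents of `Ω ⊗[K] A` lie in `Ω ⊗ Sep(K, A)` when `Ω` contains a separable closure `Ω₀` of `K`. -/
theorem idem_mem_range_big (Ω₀ Ω : Type u) [Field Ω₀] [Field Ω] [Algebra K Ω₀] [Algebra K Ω]
    [Algebra Ω₀ Ω] [IsScalarTower K Ω₀ Ω] [IsSepClosed Ω₀] [IsGalois K Ω₀]
    (e : Ω ⊗[K] A) (he : IsIdempotentElem e) :
    e ∈ Set.range (Algebra.TensorProduct.map (AlgHom.id Ω Ω) (sepSubalgebra K A).val) := by
  let c := Algebra.TensorProduct.cancelBaseChange K Ω₀ Ω Ω A
  let cm := Algebra.TensorProduct.comm Ω₀ Ω (Ω₀ ⊗[K] A)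
  have h1 : IsIdempotentElem (cm (c.symm e)) := (he.map c.symm).map cm
  obtain ⟨e₀, he₀, h2⟩ := MweB.exists_idem_eq (K := Ω₀) Ω (Ω₀ ⊗[K] A) _ h1
  have h3 : c.symm e = (1 : Ω) ⊗ₜ[Ω₀] e₀ := by
    apply cm.injective
    rw [h2]
    simp [cm]
  have h4 : e = Algebra.TensorProduct.map (IsScalarTower.toAlgHom K Ω₀ Ω) (AlgHom.id K A) e₀ := by
    rw [← cancel_one_tmul, ← h3]
    exact (c.apply_symm_apply e).symm
  obtain ⟨w, hw⟩ := idem_mem_range_of_isGalois Ω₀ e₀ he₀
  refine ⟨Algebra.TensorProduct.map (IsScalarTower.toAlgHom K Ω₀ Ω) (AlgHom.id K _) w, ?_⟩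
  rw [← map_map_eq, hw, h4]

theorem isSepElem_of_mem_range (L : Type u) [Field L] [Algebra K L] (w : L ⊗[K] sepSubalgebra K A) :
    Algebra.TensorProduct.map (AlgHom.id L L) (sepSubalgebra K A).val w ∈
      Algebra.adjoin L ((Algebra.TensorProduct.includeRight : A →ₐ[K] L ⊗[K] A) ''
        (sepSubalgebra K A : Set A)) := by
  induction w using TensorProduct.induction_on with
  | zero => simp
  | tmul l b =>
    have : Algebra.TensorProduct.map (AlgHom.id L L) (sepSubalgebra K A).val (l ⊗ₜ[K] b) =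
        l • ((Algebra.TensorProduct.includeRight : A →ₐ[K] L ⊗[K] A) (b : A)) := by
      simp [TensorProduct.smul_tmul']
    rw [this]
    exact Subalgebra.smul_mem _ (Algebra.subset_adjoin (Set.mem_image_of_mem _ b.2)) l
  | add z w hz hw =>
    rw [map_add]
    exact Subalgebra.add_mem _ hz hw

theorem main (L : Type u) [Field L] [Algebra K L] :
    sepSubalgebra L (L ⊗[K] A) =
      Algebra.adjoin L ((Algebra.TensorProduct.includeRight : A →ₐ[K] L ⊗[K] A) ''
        (sepSubalgebra K A : Set A)) := by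
  apply le_antisymm
  · intro ξ hξ
    obtain ⟨P, hP, h0⟩ := hξ
    let Ω := AlgebraicClosure L
    let φ := Algebra.TensorProduct.map (IsScalarTower.toAlgHom K L Ω) (AlgHom.id K A)
    have hcomp : (φ : L ⊗[K] A →+* Ω ⊗[K] A).comp (algebraMap L (L ⊗[K] A)) =
        (algebraMap Ω (Ω ⊗[K] A)).comp (algebraMap L Ω) := by
      ext c
      simp [φ, Algebra.TensorProduct.algebraMap_apply]
    have hz : aeval (φ ξ) (P.map (algebraMap L Ω)) = 0 := by
      have h1 : (φ : L ⊗[K] A →+* Ω ⊗[K] A) (aeval ξ P) = 0 := by rw [h0, map_zero]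
      rw [aeval_def, hom_eval₂, hcomp] at h1
      rw [aeval_def, eval₂_map]
      exact h1
    have hspan := MweA.mem_span_idem_of_separable (F := Ω) (φ ξ) (P.map (algebraMap L Ω))
      hP.map hz
    let Ω₀ := separableClosure K Ω
    haveI : IsSepClosed ↥Ω₀ := IsSepClosure.sep_closed K
    haveI : IsGalois K ↥Ω₀ := IsSepClosure.isGalois
    let ψ := Algebra.TensorProduct.map (AlgHom.id Ω Ω) (sepSubalgebra K A).val
    have hle : Submodule.span Ω {e : Ω ⊗[K] A | IsIdempotentElem e} ≤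
        Subalgebra.toSubmodule ψ.range := by
      rw [Submodule.span_le]
      intro e he
      exact idem_mem_range_big (↥Ω₀) Ω e he
    have hmem : φ ξ ∈ Set.range ψ := hle hspan
    obtain ⟨w, hw⟩ := mem_range_of_map_mem_range L Ω (sepSubalgebra K A) ξ hmem
    rw [← hw]
    exact isSepElem_of_mem_range L w
  · apply Algebra.adjoin_le
    rintro _ ⟨b, hb, rfl⟩
    obtain ⟨Q, hQ, hQ0⟩ := hb
    refine ⟨Q.map (algebraMap K L), hQ.map, ?_⟩
    rw [aeval_map_algebraMap, aeval_algHom_apply, hQ0, map_zero]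

theorem maxWeaklyEtale_baseChange (L : Type u) [Field L] [Algebra K L] :
    EtAlgD.maxWeaklyEtale L (L ⊗[K] A) =
      Algebra.adjoin L ((Algebra.TensorProduct.includeRight : A →ₐ[K] L ⊗[K] A) ''
        (EtAlgD.maxWeaklyEtale K A : Set A)) := by
  rw [maxWeaklyEtale_eq, maxWeaklyEtale_eq]
  exact main L

end Groth.Agent.Lib.Helper27.MweF
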