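import Mathlib
import Groth.Agent.Lib.Helper14.NeronStalk.Defs
import Groth.Agent.Lib.Helper12.StalkLim
import Groth.Agent.Lib.Helper14.LimPullback

/-!
# Injectivity at a model (T4c for S13750)
-/

universe u
set_option backward.isDefEq.respectTransparency false

open CategoryTheory CategoryTheory.Limits AlgebraicGeometry
open Groth.Agent.Lib.Helper14.NeronStalk Groth.Agent.Lib.Helper12 Groth.Agent.Lib.Helper14

namespace Groth.Agent.Lib.Helper27.NStalkT4c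

theorem model_inj {S : Scheme.{u}} [IsLocallyNoetherian S] (U : S.Opens) {N : Scheme.{u}}
    (n : N ⟶ S) [LocallyOfFinitePresentation n] [IsSeparated n] [QuasiCompact n]
    (hN : ∀ {Y Q : Scheme.{u}} (y : Y ⟶ S) [Smooth y] (q : Q ⟶ Y) (q' : Q ⟶ U.toScheme),
      IsPullback q q' y U.ι → NMPAt n y q)
    (s : S) {P Q : Scheme.{u}} (p : P ⟶ Spec (S.presheaf.stalk s))
    (q : Q ⟶ P) (q' : Q ⟶ U.toScheme) (hq : IsPullback q q' (p ≫ S.fromSpecStalk s) U.ι)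
    (W : StalkLim.AffNhd S s) {P₁ : Scheme.{u}} (p₁ : P₁ ⟶ (StalkLim.diag S s).obj W)
    [Smooth p₁] [QuasiCompact p₁] [QuasiSeparated p₁] (g : P ⟶ P₁)
    (hP : IsPullback g p p₁ ((StalkLim.cone S s).π.app W))
    (a b : P ⟶ N) (ha : a ≫ n = p ≫ S.fromSpecStalk s) (hb : b ≫ n = p ≫ S.fromSpecStalk s)
    (hab : q ≫ a = q ≫ b) : a = b := by
  let D := StalkLim.diag S s
  let c := StalkLim.cone S s
  have hc : IsLimit c := StalkLim.isLimitCone S s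
  haveI : CompactSpace P₁ := QuasiCompact.compactSpace_of_compactSpace p₁
  haveI : QuasiSeparatedSpace P₁ := quasiSeparatedSpace_of_quasiSeparated p₁
  let E := pullbackDiagram D W p₁
  let cE := pullbackDiagramCone D W p₁ c g p hP
  have hcE : IsLimit cE := isLimitPullbackDiagramCone D W p₁ c g p hP hc
  let t : E ⟶ (Functor.const _).obj S :=
    { app := fun φ => pullback.snd p₁ (D.map φ.hom) ≫ φ.left.U.ι
      naturality := fun j k f => by
        show E.map f ≫ pullback.snd p₁ (D.map k.hom) ≫ k.left.U.ι =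
          (pullback.snd p₁ (D.map j.hom) ≫ j.left.U.ι) ≫ 𝟙 _
        rw [Category.comp_id, pullbackDiagram_map_snd_assoc]
        congr 1
        exact S.homOfLE_ι (StalkLim.AffNhd.le_iff.mp f.left.le) }
  have htapp : ∀ φ : Over W, t.app φ = pullback.snd p₁ (D.map φ.hom) ≫ φ.left.U.ι := fun _ => rfl
  have hcπ : ∀ φ : Over W, cE.π.app φ ≫ t.app φ = p ≫ S.fromSpecStalk s := by
    intro φ
    rw [htapp, pullbackDiagramCone_π_snd_assoc]
    show p ≫ φ.left.U.fromSpecStalkOfMem s φ.left.mem ≫ φ.left.U.ι = _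
    rw [Scheme.Opens.fromSpecStalkOfMem_ι]
  haveI hsm : ∀ φ : Over W, Smooth (t.app φ) := by
    intro φ
    rw [htapp]
    infer_instance
  -- descend `a` and `b` to a stage
  have ha' : cE.π ≫ t = (Functor.const _).map (a ≫ n) := by
    ext φ : 2
    show cE.π.app φ ≫ t.app φ = a ≫ n
    rw [hcπ, ha]
  have hb' : cE.π ≫ t = (Functor.const _).map (b ≫ n) := by
    ext φ : 2
    show cE.π.app φ ≫ t.app φ = b ≫ n
    rw [hcπ, hb]
  obtain ⟨φa, a0, ha0, ha0'⟩ := Scheme.exists_π_app_comp_eq_of_locallyOfFinitePresentation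
    E t n cE hcE a ha'
  obtain ⟨φb, b0, hb0, hb0'⟩ := Scheme.exists_π_app_comp_eq_of_locallyOfFinitePresentation
    E t n cE hcE b hb'
  have htnat : ∀ {j k : Over W} (f : j ⟶ k), E.map f ≫ t.app k = t.app j := by
    intro j k f
    exact (t.naturality f).trans (Category.comp_id _)
  -- common stage
  let φ1 : Over W := IsCofiltered.min φa φb
  let a1 : E.obj φ1 ⟶ N := E.map (IsCofiltered.minToLeft φa φb) ≫ a0
  let b1 : E.obj φ1 ⟶ N := E.map (IsCofiltered.minToRight φa φb) ≫ b0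
  have ha1 : cE.π.app φ1 ≫ a1 = a := by
    show cE.π.app φ1 ≫ E.map (IsCofiltered.minToLeft φa φb) ≫ a0 = a
    rw [← Category.assoc, cE.w, ha0]
  have hb1 : cE.π.app φ1 ≫ b1 = b := by
    show cE.π.app φ1 ≫ E.map (IsCofiltered.minToRight φa φb) ≫ b0 = b
    rw [← Category.assoc, cE.w, hb0]
  have ha1' : a1 ≫ n = t.app φ1 := by
    show (E.map (IsCofiltered.minToLeft φa φb) ≫ a0) ≫ n = t.app φ1
    rw [Category.assoc, ha0', htnat]
  have hb1' : b1 ≫ n = t.app φ1 := by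
    show (E.map (IsCofiltered.minToRight φa φb) ≫ b0) ≫ n = t.app φ1
    rw [Category.assoc, hb0', htnat]
  -- restrict over `U`
  let O1 : (E.obj φ1).Opens := t.app φ1 ⁻¹ᵁ U
  let E' := opensDiagram E φ1 O1
  have hpre : ∀ ψ : Over φ1, E.map ψ.hom ⁻¹ᵁ O1 = t.app ψ.left ⁻¹ᵁ U := by
    intro ψ
    rw [← Scheme.Hom.comp_preimage, htnat]
  haveI : ∀ ψ, CompactSpace (E'.obj ψ) := by
    intro ψ
    show CompactSpace ↥(E.map ψ.hom ⁻¹ᵁ O1)
    let y : E.obj ψ.left ⟶ S := t.app ψ.left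
    haveI : Smooth y := hsm ψ.left
    haveI : IsLocallyNoetherian (E.obj ψ.left) := LocallyOfFiniteType.isLocallyNoetherian y
    haveI : IsNoetherian (E.obj ψ.left) := {}
    exact isCompact_iff_compactSpace.mp (TopologicalSpace.NoetherianSpace.isCompact _)
  let t' : E' ⟶ (Functor.const _).obj S :=
    { app := fun ψ => (E.map ψ.hom ⁻¹ᵁ O1).ι ≫ t.app ψ.left
      naturality := fun j k f => by
        show (E.map f.left).resLE _ _ _ ≫ (E.map k.hom ⁻¹ᵁ O1).ι ≫ t.app k.left =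
          ((E.map j.hom ⁻¹ᵁ O1).ι ≫ t.app j.left) ≫ 𝟙 _
        rw [Scheme.Hom.resLE_comp_ι_assoc, Category.comp_id, htnat] }
  let i₀ : Over φ1 := Over.mk (𝟙 φ1)
  let O₀ : (E.obj φ1).Opens := E.map i₀.hom ⁻¹ᵁ O1
  let a₁ : E'.obj i₀ ⟶ N := O₀.ι ≫ a1
  let b₁ : E'.obj i₀ ⟶ N := O₀.ι ≫ b1
  have h₁ : t'.app i₀ = a₁ ≫ n := by
    show O₀.ι ≫ t.app φ1 = (O₀.ι ≫ a1) ≫ n
    rw [Category.assoc, ha1']
  have h₂ : t'.app i₀ = b₁ ≫ n := by
    show O₀.ι ≫ t.app φ1 = (O₀.ι ≫ b1) ≫ n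
    rw [Category.assoc, hb1']
  have h₃ : (opensCone E cE φ1 O1).π.app i₀ ≫ a₁ = (opensCone E cE φ1 O1).π.app i₀ ≫ b₁ := by
    let f := p ≫ S.fromSpecStalk s
    let V₁ : P.Opens := cE.π.app φ1 ⁻¹ᵁ O1
    have hV : V₁ = f ⁻¹ᵁ U := by
      show cE.π.app φ1 ⁻¹ᵁ (t.app φ1 ⁻¹ᵁ U) = _
      rw [← Scheme.Hom.comp_preimage, hcπ]
    have e : V₁ ≤ f ⁻¹ᵁ U := hV.le
    have hπ : (opensCone E cE φ1 O1).π.app i₀ ≫ O₀.ι = V₁.ι ≫ cE.π.app φ1 := by
      show (cE.π.app φ1).resLE _ _ _ ≫ _ = _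
      exact Scheme.Hom.resLE_comp_ι _ _
    let l : (f ⁻¹ᵁ U : P.Opens).toScheme ⟶ Q :=
      hq.lift (f ⁻¹ᵁ U).ι (f ∣_ U) (morphismRestrict_ι f U).symm
    have hl : l ≫ q = (f ⁻¹ᵁ U).ι := hq.lift_fst _ _ _
    have key : V₁.ι ≫ a = V₁.ι ≫ b := by
      rw [← P.homOfLE_ι e, ← hl, Category.assoc, Category.assoc, Category.assoc, Category.assoc,
        hab]
    show (opensCone E cE φ1 O1).π.app i₀ ≫ O₀.ι ≫ a1 =
      (opensCone E cE φ1 O1).π.app i₀ ≫ O₀.ι ≫ b1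
    rw [reassoc_of% hπ, reassoc_of% hπ, ha1, hb1, key]
  obtain ⟨k, hik, hk⟩ := Scheme.exists_hom_comp_eq_comp_of_locallyOfFiniteType E' t' n
    (opensCone E cE φ1 O1) (isLimitOpensCone E cE hcE φ1 O1) a₁ b₁ h₁ h₂ h₃
  let φ2 : Over W := k.left
  let y2 : E.obj φ2 ⟶ S := t.app φ2
  let Ok : (E.obj φ2).Opens := E.map k.hom ⁻¹ᵁ O1
  have hOk : Ok = y2 ⁻¹ᵁ U := hpre k
  have hres : E'.map hik ≫ O₀.ι = Ok.ι ≫ E.map k.hom := by
    show (E.map hik.left).resLE _ _ _ ≫ _ = _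
    rw [Scheme.Hom.resLE_comp_ι]
    rfl
  have hfin : E.map k.hom ≫ a1 = E.map k.hom ≫ b1 := by
    refine (hN y2 (y2 ⁻¹ᵁ U).ι (y2 ∣_ U) (isPullback_morphismRestrict y2 U).flip).1 _ _ ?_ ?_ ?_
    · rw [Category.assoc, ha1', htnat]
    · rw [Category.assoc, hb1', htnat]
    · have e : y2 ⁻¹ᵁ U ≤ Ok := hOk.ge
      rw [← (E.obj φ2).homOfLE_ι e, Category.assoc, Category.assoc, ← reassoc_of% hres,
        ← reassoc_of% hres]
      exact congr(_ ≫ $hk)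
  have hw : cE.π.app φ2 ≫ E.map k.hom = cE.π.app φ1 := cE.w k.hom
  calc a = cE.π.app φ1 ≫ a1 := ha1.symm
    _ = (cE.π.app φ2 ≫ E.map k.hom) ≫ a1 := by rw [hw]
    _ = cE.π.app φ2 ≫ E.map k.hom ≫ a1 := Category.assoc _ _ _
    _ = cE.π.app φ2 ≫ E.map k.hom ≫ b1 := by rw [hfin]
    _ = (cE.π.app φ2 ≫ E.map k.hom) ≫ b1 := (Category.assoc _ _ _).symm
    _ = cE.π.app φ1 ≫ b1 := by rw [hw]
    _ = b := hb1

end Groth.Agent.Lib.Helper27.NStalkT4c
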