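import Groth.Agent.Lib.Helper14.CplReducedCrit
import Groth.Agent.Lib.Helper5.NormalDepthOne

/-!
# Towards "Nagata local domains are analytically unramified"

* `isReduced_of_ass_jacobson`: semilocal version of `Helper14.CplReducedCrit.isReduced_of_ass`.
* `isDiscreteValuationRing_atPrime_of_ass`: for a normal Noetherian domain `C` and `x ≠ 0`, the
  localization of `C` at an associated prime of `C/xC` is a discrete valuation ring.
-/

set_option autoImplicit false
set_option linter.style.haveILetI false

universe u

namespace Groth.Agent.Lib.Helper27.NagAU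

open IsLocalRing TensorProduct Groth.Agent.Lib.Helper14.CplReducedCrit

section crit
variable {R : Type u} [CommRing R] [IsNoetherianRing R] (B : Type u) [CommRing B] [Algebra R B]
  [Module.Flat R B] [IsNoetherianRing B]

/-- Semilocal version of `Helper14.CplReducedCrit.isReduced_of_ass`. -/
theorem isReduced_of_ass_jacobson (x : R) (hx : x ∈ nonZeroDivisors R)
    (hxm : algebraMap R B x ∈ (⊥ : Ideal B).jacobson)
    (h : ∀ p ∈ associatedPrimes R (R ⧸ Ideal.span {x}), ∀ (_ : p.IsPrime),
      (∃ (_ : IsDomain (Localization.AtPrime p)),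
        IsDiscreteValuationRing (Localization.AtPrime p)) ∧
      IsReduced (B ⧸ p.map (algebraMap R B))) : IsReduced B := by
  have hxreg : IsSMulRegular B (algebraMap R B x) :=
    IsSMulRegular.of_flat (by
      intro a b hab
      simp only [smul_eq_mul] at hab
      have h0 : x * (a - b) = 0 := by rw [mul_sub, hab, sub_self]
      have h0' : (a - b) * x = 0 := by rw [mul_comm]; exact h0
      rcases mem_nonZeroDivisors_iff.mp hx with ⟨h1, h2⟩
      first
        | exact sub_eq_zero.mp (h1 _ h0)
        | exact sub_eq_zero.mp (h1 _ h0'))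
  have key : ∀ n : B, IsNilpotent n → ∃ c : B, n = algebraMap R B x * c := by
    intro n hn
    rw [← mem_smul_top_iff]
    apply mem_of_forall_ass B x n
    intro p hp
    haveI hpp : p.IsPrime := IsAssociatedPrime.isPrime hp
    obtain ⟨⟨hdom, hdvr⟩, hred⟩ := h p hp hpp
    have hxp : x ∈ p := by
      have h1 := IsAssociatedPrime.annihilator_le hp
      rw [Submodule.annihilator_top, Ideal.annihilator_quotient] at h1
      exact h1 (Ideal.mem_span_singleton_self x)
    exact exists_smul_mem_of_isNilpotent B x hx p hxp hred n hn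
  rw [← nilradical_eq_bot_iff]
  have hle : nilradical B ≤ Ideal.span {algebraMap R B x} • nilradical B := by
    intro n hn
    obtain ⟨c, hc⟩ := key n hn
    have hcn : c ∈ nilradical B := by
      obtain ⟨k, hk⟩ := (mem_nilradical.mp hn)
      rw [mem_nilradical]
      refine ⟨k, ?_⟩
      rw [hc, mul_pow] at hk
      have : IsSMulRegular B ((algebraMap R B x) ^ k) := hxreg.pow k
      exact this (by simpa using hk)
    rw [hc, smul_eq_mul]
    exact Ideal.mul_mem_mul (Ideal.mem_span_singleton_self _) hcn
  refine Submodule.eq_bot_of_le_smul_of_le_jacobson_bot (Ideal.span {algebraMap R B x})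
    (nilradical B) (IsNoetherian.noetherian _) hle ?_
  rw [Ideal.span_singleton_le_iff_mem]
  exact hxm

end crit

section dvr
variable (C : Type u) [CommRing C] [IsDomain C] [IsNoetherianRing C] [IsIntegrallyClosed C]

/-- For a normal Noetherian domain `C` and `x ≠ 0`, the localization of `C` at an associated prime
of `C/xC` is a discrete valuation ring. -/
theorem isDiscreteValuationRing_atPrime_of_ass (x : C) (hx : x ≠ 0) (P : Ideal C) [P.IsPrime]
    (hP : P ∈ associatedPrimes C (C ⧸ Ideal.span {x})) :
    IsDiscreteValuationRing (Localization.AtPrime P) := by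
  obtain ⟨-, ybar, hy⟩ := (isAssociatedPrime_iff (R := C)).mp hP
  obtain ⟨y, rfl⟩ := Ideal.Quotient.mk_surjective ybar
  have hmem : ∀ r : C, r ∈ P ↔ ∃ c : C, r * y = x * c := by
    intro r
    rw [hy, Submodule.mem_colon_singleton, Submodule.mem_bot]
    have h0 : r • (Ideal.Quotient.mk (Ideal.span {x}) y) =
        Ideal.Quotient.mk (Ideal.span {x}) (r * y) := rfl
    rw [h0, Ideal.Quotient.eq_zero_iff_mem, Ideal.mem_span_singleton']
    constructor
    · rintro ⟨c, hc⟩; exact ⟨c, by rw [← hc, mul_comm]⟩
    · rintro ⟨c, hc⟩; exact ⟨c, by rw [hc, mul_comm]⟩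
  let A := Localization.AtPrime P
  have hinj : Function.Injective (algebraMap C A) :=
    IsLocalization.injective A P.primeCompl_le_nonZeroDivisors
  haveI : IsIntegrallyClosed A := isIntegrallyClosed_of_isLocalization A P.primeCompl
    P.primeCompl_le_nonZeroDivisors
  have hxP : x ∈ P := (hmem x).mpr ⟨y, rfl⟩
  have ha₁ : algebraMap C A x ∈ maximalIdeal A :=
    (IsLocalization.AtPrime.to_map_mem_maximal_iff A P x).mpr hxP
  have ha₂ : algebraMap C A x ≠ 0 := fun h0 => hx (hinj (by rw [h0, map_zero]))
  have hb₂ : algebraMap C A y ∉ Ideal.span {algebraMap C A x} := by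
    intro hmem'
    obtain ⟨c, hc⟩ := Ideal.mem_span_singleton'.mp hmem'
    obtain ⟨⟨c₀, s⟩, hcs⟩ := IsLocalization.surj P.primeCompl c
    have h1 : algebraMap C A (s * y) = algebraMap C A (x * c₀) := by
      rw [map_mul, map_mul, ← hcs, ← hc]; ring
    have h2 := hinj h1
    exact s.2 ((hmem s).mpr ⟨c₀, h2⟩)
  have hb₃ : ∀ m ∈ maximalIdeal A, ∃ k : A, k * algebraMap C A x = algebraMap C A y * m := by
    intro m hm
    obtain ⟨⟨m₀, s⟩, hms⟩ := IsLocalization.surj P.primeCompl m
    have hsu : IsUnit (algebraMap C A s) := IsLocalization.map_units A s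
    have hm₀ : m₀ ∈ P := by
      rw [← IsLocalization.AtPrime.to_map_mem_maximal_iff A P m₀, ← hms]
      exact Ideal.mul_mem_right _ _ hm
    obtain ⟨c, hc⟩ := (hmem m₀).mp hm₀
    obtain ⟨u, hu⟩ := hsu.exists_left_inv
    refine ⟨u * algebraMap C A c, ?_⟩
    have h3 : algebraMap C A m₀ * algebraMap C A y = algebraMap C A x * algebraMap C A c := by
      rw [← map_mul, ← map_mul, hc]
    calc u * algebraMap C A c * algebraMap C A x
        = u * (algebraMap C A x * algebraMap C A c) := by ring
      _ = u * (algebraMap C A m₀ * algebraMap C A y) := by rw [h3]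
      _ = u * (m * algebraMap C A s * algebraMap C A y) := by rw [hms]
      _ = (u * algebraMap C A s) * (algebraMap C A y * m) := by ring
      _ = algebraMap C A y * m := by rw [hu, one_mul]
  have hprin : (maximalIdeal A).IsPrincipal :=
    Groth.Agent.Lib.Helper5.NormalDepthOne.isPrincipal_maximalIdeal_of_colon _ _ ha₁ ha₂ hb₂ hb₃
  have hnf : ¬ IsField A := by
    rw [IsLocalRing.isField_iff_maximalIdeal_eq]
    intro h0
    rw [h0] at ha₁
    exact ha₂ ((Ideal.mem_bot).mp ha₁)
  exact ((IsDiscreteValuationRing.TFAE A hnf).out 0 4).mpr hprin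

end dvr

end Groth.Agent.Lib.Helper27.NagAU
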