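import Mathlib
import Groth.Prelude.Def_Found
import Groth.Agent.Lib.Helper12.N2Field

/-! Descent of the Japanese property along a separable extension of DVRs: preliminaries. -/

set_option autoImplicit false

namespace Groth.Agent.Lib.Helper27.NagDesc
open IsLocalRing TensorProduct
open Groth.Agent.Lib.Helper12.N2

universe u

/-- `K ⊗[k] k'` is reduced when `k'/k` is separable algebraic. -/
theorem isReduced_tensor_of_isSeparable (k K k' : Type*) [Field k] [Field K] [Field k']
    [Algebra k K] [Algebra k k'] [Algebra.IsSeparable k k'] : IsReduced (K ⊗[k] k') := by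
  apply IsReduced.tensorProduct_of_flat_of_forall_fg
  intro B hB
  obtain ⟨s, hs⟩ := hB
  have hE : (IntermediateField.adjoin k (s : Set k')).toSubalgebra = B := by
    rw [← hs]
    exact IntermediateField.adjoin_toSubalgebra (s : Set k')
  subst hE
  set E := IntermediateField.adjoin k (s : Set k') with hEdef
  haveI : Algebra.IsSeparable k E := Algebra.isSeparable_tower_bot_of_isSeparable k E k'
  haveI : FiniteDimensional k E :=
    IntermediateField.finiteDimensional_adjoin (fun x _ => Algebra.IsIntegral.isIntegral x)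
  haveI : Algebra.FormallyUnramified k E := Algebra.FormallyUnramified.of_isSeparable k E
  haveI : Algebra.FormallyUnramified K (K ⊗[k] E) := inferInstance
  haveI : Algebra.EssFiniteType K (K ⊗[k] E) := inferInstance
  have : IsReduced (K ⊗[k] E) := Algebra.FormallyUnramified.isReduced_of_field K (K ⊗[k] E)
  exact this

/-- Over a Noetherian Japanese domain, the integral closure in a reduced finite algebra over the
fraction field is a finite module. -/
theorem finite_integralClosure_of_isReduced (B L E : Type u) [CommRing B] [IsDomain B]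
    [IsNoetherianRing B] [Field L] [Algebra B L] [IsFractionRing B L] [CommRing E] [Algebra L E]
    [Algebra B E] [IsScalarTower B L E] [IsReduced E] [Module.Finite L E] (hB : N2' B) :
    Module.Finite B (integralClosure B E) := by
  classical
  haveI : IsArtinianRing E := IsArtinianRing.of_finite L E
  haveI : Finite (MaximalSpectrum E) := inferInstance
  -- the field quotients
  have hfin : ∀ 𝔪 : MaximalSpectrum E,
      Module.Finite B (integralClosure B (E ⧸ 𝔪.asIdeal)) := by
    intro 𝔪
    haveI := 𝔪.isMaximal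
    letI : Field (E ⧸ 𝔪.asIdeal) := Ideal.Quotient.field 𝔪.asIdeal
    haveI : FiniteDimensional L (E ⧸ 𝔪.asIdeal) :=
      Module.Finite.of_surjective (Ideal.Quotient.mkₐ L 𝔪.asIdeal).toLinearMap
        (Ideal.Quotient.mkₐ_surjective L 𝔪.asIdeal)
    refine hB (E ⧸ 𝔪.asIdeal) ?_ (finGen_of_finiteDimensional B L (E ⧸ 𝔪.asIdeal))
    rw [IsScalarTower.algebraMap_eq B L (E ⧸ 𝔪.asIdeal)]
    exact (algebraMap L (E ⧸ 𝔪.asIdeal)).injective.comp (IsFractionRing.injective B L)
  haveI := hfin
  let Ψ : integralClosure B E →ₗ[B] (∀ 𝔪 : MaximalSpectrum E,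
      integralClosure B (E ⧸ 𝔪.asIdeal)) :=
    { toFun := fun y 𝔪 => ⟨Ideal.Quotient.mk 𝔪.asIdeal (y : E),
        y.2.map (Ideal.Quotient.mkₐ B 𝔪.asIdeal)⟩
      map_add' := fun y y' => by
        funext 𝔪
        exact Subtype.ext (map_add (Ideal.Quotient.mk 𝔪.asIdeal) _ _)
      map_smul' := fun r y => by
        funext 𝔪
        refine Subtype.ext ?_
        show Ideal.Quotient.mk 𝔪.asIdeal (r • (y : E)) = r • Ideal.Quotient.mk 𝔪.asIdeal (y : E)
        rw [Algebra.smul_def, Algebra.smul_def, map_mul]
        rfl }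
  have hΨ : Function.Injective Ψ := by
    rw [← LinearMap.ker_eq_bot, eq_bot_iff]
    intro y hy
    rw [LinearMap.mem_ker] at hy
    have h1 : ∀ 𝔪 : MaximalSpectrum E, (y : E) ∈ 𝔪.asIdeal := by
      intro 𝔪
      have := congrFun hy 𝔪
      have h2 : Ideal.Quotient.mk 𝔪.asIdeal (y : E) = 0 := congrArg Subtype.val this
      exact Ideal.Quotient.eq_zero_iff_mem.mp h2
    have h3 : (y : E) ∈ Ideal.jacobson (⊥ : Ideal E) := by
      rw [Ideal.jacobson, Ideal.mem_sInf]
      rintro I ⟨-, hI⟩
      exact h1 ⟨I, hI⟩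
    have h4 : IsNilpotent (y : E) := by
      obtain ⟨n, hn⟩ := IsArtinianRing.isNilpotent_jacobson_bot (R := E)
      refine ⟨n, ?_⟩
      have : (y : E) ^ n ∈ (Ideal.jacobson (⊥ : Ideal E)) ^ n := Ideal.pow_mem_pow h3 n
      rw [hn] at this
      exact this
    rw [Submodule.mem_bot]
    exact Subtype.ext h4.eq_zero
  haveI : IsNoetherian B (∀ 𝔪 : MaximalSpectrum E, integralClosure B (E ⧸ 𝔪.asIdeal)) :=
    isNoetherian_of_isNoetherianRing_of_finite B _
  exact Module.Finite.of_injective Ψ hΨ

end Groth.Agent.Lib.Helper27.NagDesc
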