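import Mathlib
import Groth.Prelude.Def_Found
import Groth.Agent.Lib.Helper27.NagDesc1

/-! Descent of the Japanese property along a separable extension of DVRs: the denominator lemma
and the main argument. -/

set_option autoImplicit false

namespace Groth.Agent.Lib.Helper27.NagDesc
open IsLocalRing TensorProduct
open Groth.Agent.Lib.Helper12.N2

universe u

section
variable {A B K L : Type u} [CommRing A] [IsDomain A] [IsDiscreteValuationRing A]
    [CommRing B] [IsDomain B] [IsDiscreteValuationRing B] [Algebra A B] [IsLocalHom (algebraMap A B)]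
    [Field K] [Field L] [Algebra A K] [IsFractionRing A K] [Algebra B L] [IsFractionRing B L]
    [Algebra K L] [Algebra A L] [IsScalarTower A K L] [IsScalarTower A B L]

omit [IsDiscreteValuationRing A] [IsDiscreteValuationRing B] [IsLocalHom (algebraMap A B)]
  [IsFractionRing B L] [IsFractionRing A K] [IsDomain A] [IsDomain B] in
theorem algebraMap_KL (a : A) : algebraMap K L (algebraMap A K a) =
    algebraMap B L (algebraMap A B a) := by
  rw [← IsScalarTower.algebraMap_apply A K L, ← IsScalarTower.algebraMap_apply A B L]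

/-- Bounded denominators: `d⁻¹ B ∩ K ⊆ π^{-m} A`. -/
theorem exists_bound (hinj : Function.Injective (algebraMap A B)) (π : A) (hπ : Irreducible π)
    (d : B) (hd : d ≠ 0) :
    ∃ m : ℕ, ∀ c : K, (∃ β : B, algebraMap B L d * algebraMap K L c = algebraMap B L β) →
      ∃ a : A, algebraMap A K a = algebraMap A K π ^ m * c := by
  classical
  obtain ⟨πB, hπB⟩ := IsDiscreteValuationRing.exists_irreducible B
  obtain ⟨m, ud, hdm⟩ := IsDiscreteValuationRing.eq_unit_mul_pow_irreducible hd hπB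
  have hinjBL : Function.Injective (algebraMap B L) := IsFractionRing.injective B L
  have hinjAK : Function.Injective (algebraMap A K) := IsFractionRing.injective A K
  have hπ0 : algebraMap A K π ≠ 0 := fun h0 => hπ.ne_zero (hinjAK (by rw [h0, map_zero]))
  have hπB0 : algebraMap A B π ≠ 0 := fun h0 => hπ.ne_zero (hinj (by rw [h0, map_zero]))
  -- `π` lies in the maximal ideal of `B`
  have hπmem : algebraMap A B π ∈ maximalIdeal B :=
    (mem_maximalIdeal _).mpr (map_nonunit (algebraMap A B) π hπ.not_isUnit)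
  rw [hπB.maximalIdeal_eq, Ideal.mem_span_singleton] at hπmem
  obtain ⟨w, hw⟩ := hπmem
  refine ⟨m, fun c hc => ?_⟩
  obtain ⟨β, hβ⟩ := hc
  by_cases hc0 : c = 0
  · exact ⟨0, by rw [hc0, mul_zero, map_zero]⟩
  obtain ⟨a₁, a₂, ha₂, rfl⟩ := IsFractionRing.div_surjective (A := A) c
  have ha₂0 : a₂ ≠ 0 := nonZeroDivisors.ne_zero ha₂
  have ha₁0 : a₁ ≠ 0 := by
    rintro rfl
    apply hc0
    rw [map_zero, zero_div]
  obtain ⟨k₁, u₁, h₁⟩ := IsDiscreteValuationRing.eq_unit_mul_pow_irreducible ha₁0 hπ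
  obtain ⟨k₂, u₂, h₂⟩ := IsDiscreteValuationRing.eq_unit_mul_pow_irreducible ha₂0 hπ
  have ha₂K : algebraMap A K a₂ ≠ 0 := fun h0 => ha₂0 (hinjAK (by rw [h0, map_zero]))
  rcases le_or_gt k₂ k₁ with hk | hk
  · -- `c` is integral
    refine ⟨π ^ m * ((u₁ * (u₂⁻¹ : Aˣ) : Aˣ) : A) * π ^ (k₁ - k₂), ?_⟩
    rw [mul_div_assoc', eq_div_iff ha₂K, ← map_pow, ← map_mul, ← map_mul, h₁, h₂]
    congr 1
    have : π ^ k₁ = π ^ (k₁ - k₂) * π ^ k₂ := by rw [← pow_add, Nat.sub_add_cancel hk]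
    rw [this, Units.val_mul]
    have hu : ((u₂⁻¹ : Aˣ) : A) * (u₂ : A) = 1 := Units.inv_mul u₂
    calc π ^ m * ((u₁ : A) * ((u₂⁻¹ : Aˣ) : A)) * π ^ (k₁ - k₂) * ((u₂ : A) * π ^ k₂)
        = π ^ m * ((u₁ : A) * (((u₂⁻¹ : Aˣ) : A) * (u₂ : A))) * π ^ (k₁ - k₂) * π ^ k₂ := by ring
      _ = π ^ m * ((u₁ : A) * (π ^ (k₁ - k₂) * π ^ k₂)) := by rw [hu]; ring
  · -- `c` has a pole of order `j = k₂ - k₁`
    have hx₂L : algebraMap K L (algebraMap A K a₂) ≠ 0 := (map_ne_zero _).mpr ha₂K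
    have hrel : algebraMap B L (d * algebraMap A B a₁) =
        algebraMap B L (β * algebraMap A B a₂) := by
      rw [map_mul, map_mul, ← algebraMap_KL (K := K) a₁, ← algebraMap_KL (K := K) a₂, ← hβ,
        map_div₀, mul_assoc, div_mul_cancel₀ _ hx₂L]
    have hrelB : d * algebraMap A B a₁ = β * algebraMap A B a₂ := hinjBL hrel
    rw [h₁, h₂, map_mul, map_mul, map_pow, map_pow] at hrelB
    have hk' : k₂ = k₁ + (k₂ - k₁) := by omega
    rw [hk', pow_add] at hrelB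
    have hcancel : d * algebraMap A B (u₁ : A) =
        β * algebraMap A B (u₂ : A) * algebraMap A B π ^ (k₂ - k₁) := by
      apply mul_right_cancel₀ (pow_ne_zero k₁ hπB0)
      calc d * algebraMap A B (u₁ : A) * algebraMap A B π ^ k₁
          = d * (algebraMap A B (u₁ : A) * algebraMap A B π ^ k₁) := by ring
        _ = β * (algebraMap A B (u₂ : A) * (algebraMap A B π ^ k₁ *
              algebraMap A B π ^ (k₂ - k₁))) := hrelB
        _ = _ := by ring
    -- `πB ^ j ∣ d`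
    have hu₁ : IsUnit (algebraMap A B (u₁ : A)) := u₁.isUnit.map _
    obtain ⟨v₁, hv₁⟩ := hu₁
    have hdvd : πB ^ (k₂ - k₁) ∣ d := by
      have h3 : d = β * algebraMap A B (u₂ : A) * algebraMap A B π ^ (k₂ - k₁) *
          ((v₁⁻¹ : Bˣ) : B) := by
        rw [← hcancel, ← hv₁, mul_assoc, Units.mul_inv, mul_one]
      rw [h3, hw, mul_pow]
      exact ⟨β * algebraMap A B (u₂ : A) * w ^ (k₂ - k₁) * ((v₁⁻¹ : Bˣ) : B), by ring⟩
    have hjm : k₂ - k₁ ≤ m := by
      by_contra hlt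
      push Not at hlt
      have h4 : πB ^ (m + 1) ∣ d := dvd_trans (pow_dvd_pow πB (by omega)) hdvd
      rw [hdm, pow_succ] at h4
      obtain ⟨t, ht⟩ := h4
      have h5 : πB ^ m * (ud : B) = πB ^ m * (πB * t) := by
        rw [mul_comm, ht]; ring
      have h6 := mul_left_cancel₀ (pow_ne_zero m hπB.ne_zero) h5
      exact hπB.not_isUnit (isUnit_of_mul_isUnit_left (h6 ▸ ud.isUnit))
    refine ⟨π ^ (m - (k₂ - k₁)) * ((u₁ * (u₂⁻¹ : Aˣ) : Aˣ) : A), ?_⟩
    rw [mul_div_assoc', eq_div_iff ha₂K, ← map_pow, ← map_mul, ← map_mul, h₁, h₂]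
    congr 1
    have hm : π ^ m = π ^ (m - (k₂ - k₁)) * π ^ (k₂ - k₁) := by
      rw [← pow_add, Nat.sub_add_cancel hjm]
    have hk₂ : π ^ k₂ = π ^ (k₂ - k₁) * π ^ k₁ := by
      rw [← pow_add, Nat.sub_add_cancel hk.le]
    rw [hm, hk₂, Units.val_mul]
    have hu : ((u₂⁻¹ : Aˣ) : A) * (u₂ : A) = 1 := Units.inv_mul u₂
    calc π ^ (m - (k₂ - k₁)) * ((u₁ : A) * ((u₂⁻¹ : Aˣ) : A)) *
          ((u₂ : A) * (π ^ (k₂ - k₁) * π ^ k₁))
        = π ^ (m - (k₂ - k₁)) * ((u₁ : A) * (((u₂⁻¹ : Aˣ) : A) * (u₂ : A))) *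
            (π ^ (k₂ - k₁) * π ^ k₁) := by ring
      _ = π ^ (m - (k₂ - k₁)) * π ^ (k₂ - k₁) * ((u₁ : A) * π ^ k₁) := by rw [hu]; ring

end

end Groth.Agent.Lib.Helper27.NagDesc
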