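import Mathlib
import Groth.Prelude.Def_Found
import Groth.Agent.Lib.Helper27.NagDesc2

/-! Descent of the Japanese property along a separable extension of DVRs: the main argument. -/

set_option autoImplicit false

namespace Groth.Agent.Lib.Helper27.NagDesc
open IsLocalRing TensorProduct
open Groth.Agent.Lib.Helper12.N2

universe u

section
variable {A B K L K' E : Type u} [CommRing A] [IsDomain A] [IsDiscreteValuationRing A]
    [CommRing B] [IsDomain B] [IsDiscreteValuationRing B] [Algebra A B] [IsLocalHom (algebraMap A B)]
    [Field K] [Field L] [Algebra A K] [IsFractionRing A K] [Algebra B L] [IsFractionRing B L]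
    [Algebra K L] [Algebra A L] [IsScalarTower A K L] [IsScalarTower A B L]
    [Field K'] [Algebra A K'] [Algebra K K'] [IsScalarTower A K K']
    [CommRing E] [Algebra L E] [Algebra B E] [IsScalarTower B L E] [IsReduced E] [Module.Finite L E]

theorem n2'_main (hinj : Function.Injective (algebraMap A B)) (hB : N2' B)
    (ι : K' →+* E) (hι : ∀ k : K, ι (algebraMap K K' k) = algebraMap L E (algebraMap K L k))
    {n : ℕ} (b : Module.Basis (Fin n) K K') (bE : Module.Basis (Fin n) L E)
    (hb : ∀ i, bE i = ι (b i)) :
    Module.Finite A (integralClosure A K') := by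
  classical
  obtain ⟨π, hπ⟩ := IsDiscreteValuationRing.exists_irreducible A
  haveI hfinE : Module.Finite B (integralClosure B E) :=
    finite_integralClosure_of_isReduced B L E hB
  obtain ⟨S, hS⟩ := (Module.Finite.fg_top : (⊤ : Submodule B (integralClosure B E)).FG)
  let T : Finset L := S.biUnion (fun y => Finset.univ.image (fun i => bE.repr (y : E) i))
  obtain ⟨d, hd⟩ := IsLocalization.exist_integer_multiples_of_finset (nonZeroDivisors B) T
  obtain ⟨m, hm⟩ := exists_bound (K := K) (L := L) hinj π hπ (d : B) (nonZeroDivisors.ne_zero d.2)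
  -- the submodule of elements with bounded denominators
  let N : Submodule B E :=
    { carrier := {y | ∀ i, ∃ β : B, algebraMap B L d * bE.repr y i = algebraMap B L β}
      add_mem' := by
        intro y y' hy hy' i
        obtain ⟨β, hβ⟩ := hy i
        obtain ⟨β', hβ'⟩ := hy' i
        refine ⟨β + β', ?_⟩
        rw [map_add, Finsupp.add_apply, mul_add, hβ, hβ', map_add]
      zero_mem' := by
        intro i
        exact ⟨0, by rw [map_zero, Finsupp.zero_apply, mul_zero, map_zero]⟩
      smul_mem' := by
        intro r y hy i
        obtain ⟨β, hβ⟩ := hy i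
        refine ⟨r * β, ?_⟩
        rw [← algebraMap_smul L r y, map_smul, Finsupp.smul_apply, smul_eq_mul, map_mul, ← hβ]
        ring }
  have hSN : ∀ y : integralClosure B E, (y : E) ∈ N := by
    intro y
    have hy : y ∈ Submodule.span B (S : Set (integralClosure B E)) := by rw [hS]; trivial
    induction hy using Submodule.span_induction with
    | mem z hz =>
      intro i
      have hmem : bE.repr (z : E) i ∈ T := by
        rw [Finset.mem_biUnion]
        exact ⟨z, hz, Finset.mem_image_of_mem _ (Finset.mem_univ i)⟩
      obtain ⟨β, hβ⟩ := hd _ hmem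
      refine ⟨β, ?_⟩
      rw [hβ, Algebra.smul_def]
    | zero => exact N.zero_mem
    | add z z' _ _ hz hz' => exact N.add_mem hz hz'
    | smul r z _ hz => exact N.smul_mem r hz
  -- compatibility of the structure maps
  have hcomp : (algebraMap B E).comp (algebraMap A B) = ι.comp (algebraMap A K') := by
    ext a
    show algebraMap B E (algebraMap A B a) = ι (algebraMap A K' a)
    rw [IsScalarTower.algebraMap_apply B L E, ← algebraMap_KL (K := K), ← hι,
      ← IsScalarTower.algebraMap_apply A K K']
  have hπK : algebraMap A K π ^ m ≠ 0 := by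
    apply pow_ne_zero
    intro h0
    exact hπ.ne_zero (IsFractionRing.injective A K (by rw [h0, map_zero]))
  have hle : (integralClosure A K').toSubmodule ≤
      Submodule.span A (Set.range (fun i => (algebraMap A K π ^ m)⁻¹ • b i)) := by
    intro x hx
    have hx' : IsIntegral A x := hx
    have h1 : IsIntegral B (ι x) := hx'.map_of_comp_eq (algebraMap A B) ι hcomp
    have h2 : ι x ∈ N := hSN ⟨ι x, h1⟩
    have h3 : ∀ i, bE.repr (ι x) i = algebraMap K L (b.repr x i) := by
      have e1 : ι x = ∑ i, (algebraMap K L (b.repr x i)) • bE i := by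
        conv_lhs => rw [← b.sum_repr x]
        rw [map_sum]
        refine Finset.sum_congr rfl fun i _ => ?_
        rw [Algebra.smul_def, map_mul, hι, hb, Algebra.smul_def]
      intro i
      rw [e1, Module.Basis.repr_sum_self]
    have h4 : ∀ i, ∃ a : A, algebraMap A K a = algebraMap A K π ^ m * b.repr x i := by
      intro i
      obtain ⟨β, hβ⟩ := h2 i
      rw [h3] at hβ
      exact hm _ ⟨β, hβ⟩
    choose a ha using h4
    rw [← b.sum_repr x]
    refine Submodule.sum_mem _ fun i _ => ?_
    have e2 : b.repr x i • b i = a i • ((algebraMap A K π ^ m)⁻¹ • b i) := by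
      rw [← algebraMap_smul K (a i), smul_smul, ha, mul_comm, ← mul_assoc,
        inv_mul_cancel₀ hπK, one_mul]
    rw [e2]
    exact Submodule.smul_mem _ _ (Submodule.subset_span ⟨i, rfl⟩)
  haveI : IsNoetherian A (Submodule.span A
      (Set.range (fun i => (algebraMap A K π ^ m)⁻¹ • b i))) :=
    isNoetherian_span_of_finite A (Set.finite_range _)
  haveI : IsNoetherian A (integralClosure A K').toSubmodule := isNoetherian_of_le hle
  exact Module.IsNoetherian.finite A (integralClosure A K').toSubmodule

end

end Groth.Agent.Lib.Helper27.NagDesc
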