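import Mathlib
import Groth.Prelude.Def_Found
import Groth.Agent.Lib.Helper27.NagDesc3

/-! Descent of the Nagata property along a separable extension of DVRs. -/

set_option autoImplicit false

namespace Groth.Agent.Lib.Helper27.NagDesc
open IsLocalRing TensorProduct
open Groth.Agent.Lib.Helper12.N2

universe u

theorem n2'_of_separable (A B K L : Type u) [CommRing A] [IsDomain A] [IsDiscreteValuationRing A]
    [CommRing B] [IsDomain B] [IsDiscreteValuationRing B] [Algebra A B] [IsLocalHom (algebraMap A B)]
    (hinj : Function.Injective (algebraMap A B))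
    [Field K] [Field L] [Algebra A K] [IsFractionRing A K] [Algebra B L] [IsFractionRing B L]
    [Algebra K L] [Algebra A L] [IsScalarTower A K L] [IsScalarTower A B L]
    [Algebra.IsSeparable K L] (hB : N2' B) : N2' A := by
  classical
  intro K' _ _ hinjK' hfg
  letI algKK' : Algebra K K' := (IsFractionRing.lift hinjK').toAlgebra
  haveI : IsScalarTower A K K' :=
    .of_algebraMap_eq (fun x => (IsFractionRing.lift_algebraMap hinjK' x).symm)
  haveI : FiniteDimensional K K' := finiteDimensional_of_finGen A K K' hfg
  haveI : SMulCommClass K B L := ⟨fun k r l => by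
    rw [Algebra.smul_def, Algebra.smul_def, Algebra.smul_def, Algebra.smul_def]; ring⟩
  letI algBE : Algebra B (L ⊗[K] K') := inferInstance
  haveI : IsScalarTower B L (L ⊗[K] K') := inferInstance
  haveI : IsReduced (K' ⊗[K] L) := isReduced_tensor_of_isSeparable K K' L
  haveI : IsReduced (L ⊗[K] K') :=
    isReduced_of_injective (Algebra.TensorProduct.comm K L K').toRingHom
      (Algebra.TensorProduct.comm K L K').injective
  let b := Module.finBasis K K'
  let bE := Algebra.TensorProduct.basis L b
  refine n2'_main (K := K) (L := L) (E := L ⊗[K] K') hinj hB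
    (Algebra.TensorProduct.includeRight : K' →ₐ[K] L ⊗[K] K').toRingHom ?_ b bE ?_
  · intro k
    show (1 : L) ⊗ₜ[K] (algebraMap K K' k) = algebraMap L (L ⊗[K] K') (algebraMap K L k)
    rw [Algebra.TensorProduct.algebraMap_apply, Algebra.algebraMap_self, RingHom.id_apply,
      Algebra.TensorProduct.tmul_one_eq_one_tmul]
  · intro i
    exact Algebra.TensorProduct.basis_apply b i

theorem isNagata_of_n2' (A : Type u) [CommRing A] [IsDomain A] [IsDiscreteValuationRing A]
    (h : N2' A) : CAlg.IsNagata A := by
  refine ⟨inferInstance, fun p hp => ?_⟩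
  rcases eq_or_ne p ⊥ with rfl | hne
  · have h' : N2' (A ⧸ (⊥ : Ideal A)) := N2'_of_ringEquiv (RingEquiv.quotientBot A).symm h
    intro L _ _ _ _ hfd
    haveI := hfd
    exact isN2_of_N2' _ h' L
  · haveI hmax : p.IsMaximal := hp.isMaximal hne
    letI : Field (A ⧸ p) := Ideal.Quotient.field p
    have h' : N2' (A ⧸ p) := N2'_field (A ⧸ p)
    intro L _ _ _ _ hfd
    haveI := hfd
    exact isN2_of_N2' _ h' L

theorem n2'_of_isNagata (B : Type u) [CommRing B] [IsDomain B] (hB : CAlg.IsNagata B) : N2' B := by
  have h1 : CAlg.IsN2 (B ⧸ (⊥ : Ideal B)) := hB.2 ⊥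
  have h2 : N2' (B ⧸ (⊥ : Ideal B)) := N2'_of_isN2 _ h1
  exact N2'_of_ringEquiv (RingEquiv.quotientBot B) h2

theorem main (A B K L : Type u) [CommRing A] [IsDomain A] [IsDiscreteValuationRing A]
    [CommRing B] [IsDomain B] [IsDiscreteValuationRing B] [Algebra A B] [IsLocalHom (algebraMap A B)]
    (hinj : Function.Injective (algebraMap A B))
    [Field K] [Field L] [Algebra A K] [IsFractionRing A K] [Algebra B L] [IsFractionRing B L]
    [Algebra K L] [Algebra A L] [IsScalarTower A K L] [IsScalarTower A B L]
    [Algebra.IsSeparable K L] (hB : CAlg.IsNagata B) : CAlg.IsNagata A :=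
  isNagata_of_n2' A (n2'_of_separable A B K L hinj (n2'_of_isNagata B hB))

end Groth.Agent.Lib.Helper27.NagDesc
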