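import Groth.Agent.Lib.Helper27.NagCompl

/-!
# Finiteness of integral closure from reducedness of the completion (EGA 0_IV 23.1.7)

Part 1: a rank bound.
-/

set_option autoImplicit false
set_option linter.style.haveILetI false

universe u

namespace Groth.Agent.Lib.Helper27.NagFin

open TensorProduct IsLocalRing

/-- Let `R = S⁻¹B₀` and let `Ē` be an `R`-algebra which is a domain and is spanned over `R` by `n`
elements.  Then any `n + 1` elements of `Ē` are linearly dependent over `B₀`, with a coefficient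
acting non-trivially on `Ē`. -/
theorem exists_dependent {B₀ R E : Type*} [CommRing B₀] [CommRing R] [Algebra B₀ R]
    (S : Submonoid B₀) [IsLocalization S R] [CommRing E] [IsDomain E] [Algebra R E]
    [Algebra B₀ E] [IsScalarTower B₀ R E]
    (n : ℕ) (e : Fin n → E) (he : ∀ u : E, ∃ r : Fin n → R, u = ∑ i, r i • e i)
    (u : Fin (n + 1) → E) :
    ∃ c : Fin (n + 1) → B₀, (∃ j, algebraMap B₀ E (c j) ≠ 0) ∧ ∑ j, c j • u j = 0 := by
  classical
  choose r hr using fun j => he (u j)
  obtain ⟨s, hs⟩ := IsLocalization.exist_integer_multiples S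
    (Finset.univ : Finset (Fin (n + 1) × Fin n)) (fun p => r p.1 p.2)
  choose a ha using fun p => hs p (Finset.mem_univ p)
  set q := RingHom.ker (algebraMap B₀ E) with hq
  haveI : q.IsPrime := RingHom.ker_isPrime _
  let row : Fin (n + 1) → (Fin n → B₀ ⧸ q) := fun j i => Ideal.Quotient.mk q (a (j, i))
  have hdep : ¬ LinearIndependent (B₀ ⧸ q) row := by
    intro hli
    have := hli.fintype_card_le_finrank
    simp at this
  obtain ⟨g, hg, j₀, hj₀⟩ := Fintype.not_linearIndependent_iff.mp hdep
  choose c hc using fun j => Ideal.Quotient.mk_surjective (g j)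
  refine ⟨c, ⟨j₀, ?_⟩, ?_⟩
  · intro h0
    apply hj₀
    rw [← hc j₀, Ideal.Quotient.eq_zero_iff_mem]
    exact h0
  · have hsu : IsUnit (algebraMap B₀ E (s : B₀)) := by
      rw [IsScalarTower.algebraMap_apply B₀ R E]
      exact (IsLocalization.map_units R s).map _
    have hqz : ∀ x ∈ q, ∀ v : E, x • v = 0 := by
      intro x hx v
      rw [Algebra.smul_def, (RingHom.mem_ker).mp hx, zero_mul]
    have hcoef : ∀ i, ∑ j, c j * a (j, i) ∈ q := by
      intro i
      rw [← Ideal.Quotient.eq_zero_iff_mem, map_sum]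
      have h0 : (∑ j, g j • row j) i = 0 := by rw [hg]; rfl
      rw [Finset.sum_apply] at h0
      rw [← h0]
      refine Finset.sum_congr rfl fun j _ => ?_
      rw [map_mul, hc j]
      rfl
    have hsu' : ∀ j, (s : B₀) • u j = ∑ i, a (j, i) • e i := by
      intro j
      rw [hr j, Finset.smul_sum]
      refine Finset.sum_congr rfl fun i _ => ?_
      rw [← smul_assoc, ← algebraMap_smul R (a (j, i)) (e i)]
      congr 1
      exact (ha (j, i)).symm
    have key : (s : B₀) • ∑ j, c j • u j = 0 := by
      rw [Finset.smul_sum]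
      have h1 : ∀ j, (s : B₀) • c j • u j = ∑ i, (c j * a (j, i)) • e i := by
        intro j
        rw [smul_comm, hsu' j, Finset.smul_sum]
        exact Finset.sum_congr rfl fun i _ => by rw [mul_smul]
      rw [Finset.sum_congr rfl fun j _ => h1 j, Finset.sum_comm]
      refine Finset.sum_eq_zero fun i _ => ?_
      rw [← Finset.sum_smul]
      exact hqz _ (hcoef i) _
    rw [Algebra.smul_def] at key
    exact (hsu.mul_right_eq_zero).mp key

/-- A subalgebra, integral over a Nagata ring `B₀`, of a domain of bounded `B₀`-rank is finite. -/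
theorem finite_subalgebra_of_bounded {B₀ E : Type u} [CommRing B₀] [CommRing E] [IsDomain E]
    [Algebra B₀ E] (hB₀ : CAlg.IsNagata B₀) (n : ℕ)
    (hn : ∀ u : Fin (n + 1) → E, ∃ c : Fin (n + 1) → B₀,
      (∃ j, algebraMap B₀ E (c j) ≠ 0) ∧ ∑ j, c j • u j = 0)
    (C : Subalgebra B₀ E) (hC : ∀ x ∈ C, IsIntegral B₀ x) : Module.Finite B₀ C := by
  classical
  haveI := hB₀.1
  set q := RingHom.ker (algebraMap B₀ C) with hq
  haveI : q.IsPrime := RingHom.ker_isPrime _
  letI : Algebra (B₀ ⧸ q) C := (RingHom.kerLift (algebraMap B₀ C)).toAlgebra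
  haveI : IsScalarTower B₀ (B₀ ⧸ q) C := IsScalarTower.of_algebraMap_eq fun x => rfl
  haveI : FaithfulSMul (B₀ ⧸ q) C :=
    (faithfulSMul_iff_algebraMap_injective _ _).mpr (RingHom.kerLift_injective _)
  haveI : Algebra.IsIntegral (B₀ ⧸ q) C := by
    refine ⟨fun x => ?_⟩
    have h1 : IsIntegral B₀ x := by
      have := hC x.1 x.2
      exact (isIntegral_algHom_iff C.val Subtype.val_injective).mp this
    exact h1.tower_top
  have hbound : ∀ s : Finset C, LinearIndependent (B₀ ⧸ q) (fun i : s => (i : C)) →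
      s.card ≤ n := by
    intro s hs
    by_contra hlt
    push Not at hlt
    have hcard : Fintype.card (Fin (n + 1)) ≤ Fintype.card s := by
      rw [Fintype.card_fin, Fintype.card_coe]; omega
    obtain ⟨ι⟩ := Function.Embedding.nonempty_of_card_le hcard
    obtain ⟨c, ⟨j₀, hj₀⟩, hc⟩ := hn (fun j => ((ι j : C) : E))
    have hli := hs.comp ι ι.injective
    rw [Fintype.linearIndependent_iff] at hli
    have hsum : ∑ j, (Ideal.Quotient.mk q (c j)) • ((fun i : s => (i : C)) ∘ ι) j = 0 := by
      apply Subtype.val_injective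
      rw [ZeroMemClass.coe_zero, ← hc]
      show C.val (∑ j, _) = _
      rw [map_sum]
      refine Finset.sum_congr rfl fun j _ => ?_
      have : (Ideal.Quotient.mk q (c j)) • ((fun i : s => (i : C)) ∘ ι) j =
          c j • (ι j : C) := algebraMap_smul (B₀ ⧸ q) (c j) (ι j : C)
      rw [this, map_smul]
      rfl
    have h0 := hli _ hsum j₀
    rw [Ideal.Quotient.eq_zero_iff_mem, hq, RingHom.mem_ker] at h0
    apply hj₀
    have : algebraMap B₀ E (c j₀) = ((algebraMap B₀ C (c j₀) : C) : E) := rfl
    rw [this, h0]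
    rfl
  haveI : Module.Finite (B₀ ⧸ q) C :=
    NagTate.finite_of_bounded_indep (B₀ ⧸ q) C (hB₀.2 q) n hbound
  exact Module.Finite.trans (B₀ ⧸ q) C

end Groth.Agent.Lib.Helper27.NagFin
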