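import Groth.Agent.Lib.Helper27.NagFin1
import Groth.Agent.S0542

/-!
# Finiteness of integral closure from reducedness of the completion (EGA 0_IV 23.1.7)

Part 2: the theorem.
-/

set_option autoImplicit false
set_option linter.style.haveILetI false

universe u

namespace Groth.Agent.Lib.Helper27.NagFin

open TensorProduct IsLocalRing

section

variable {A K' R : Type u} [CommRing A] [IsDomain A] [IsLocalRing A] [IsNoetherianRing A]
  [CommRing R] [Algebra (AdicCompletion (maximalIdeal A) A) R]
  [IsFractionRing (AdicCompletion (maximalIdeal A) A) R] [Algebra A R]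
  [IsScalarTower A (AdicCompletion (maximalIdeal A) A) R]
  [Field K'] [Algebra A K'] [Algebra (FractionRing A) K'] [IsScalarTower A (FractionRing A) K']

local notation "Â" => AdicCompletion (maximalIdeal A) A

theorem isUnit_algebraMap_of_ne_zero (s : A) (hs : s ≠ 0) : IsUnit (algebraMap A R s) := by
  have h1 : algebraMap A Â s ∈ nonZeroDivisors Â := by
    have hreg : IsSMulRegular Â s :=
      Module.Flat.isSMulRegular_of_nonZeroDivisors (mem_nonZeroDivisors_of_ne_zero hs)
    rw [mem_nonZeroDivisors_iff_right]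
    intro x hx
    apply hreg
    show s • x = s • (0 : Â)
    rw [smul_zero, Algebra.smul_def, mul_comm]
    exact hx
  rw [IsScalarTower.algebraMap_apply A Â R]
  exact IsLocalization.map_units R (⟨_, h1⟩ : nonZeroDivisors Â)

variable [FiniteDimensional (FractionRing A) K']

theorem exists_sum_eq {n : ℕ} (b : Module.Basis (Fin n) (FractionRing A) K') (x : R ⊗[A] K') :
    ∃ r : Fin n → R, x = ∑ i, r i • ((1 : R) ⊗ₜ[A] b i) := by
  classical
  induction x using TensorProduct.induction_on with
  | zero => exact ⟨0, by simp⟩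
  | add x y hx hy =>
    obtain ⟨r, rfl⟩ := hx
    obtain ⟨r', rfl⟩ := hy
    refine ⟨r + r', ?_⟩
    rw [← Finset.sum_add_distrib]
    exact Finset.sum_congr rfl fun i _ => by rw [Pi.add_apply, add_smul]
  | tmul ρ z =>
    obtain ⟨s, hs⟩ := IsLocalization.exist_integer_multiples (nonZeroDivisors A)
      (Finset.univ : Finset (Fin n)) (fun i => b.repr z i)
    choose a ha using fun i => hs i (Finset.mem_univ i)
    have hs0 : (s : A) ≠ 0 := nonZeroDivisors.ne_zero s.2
    obtain ⟨σ, hσ⟩ := isUnit_algebraMap_of_ne_zero (R := R) (s : A) hs0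
    have hsz : (s : A) • z = ∑ i, a i • b i := by
      conv_lhs => rw [← b.sum_repr z, Finset.smul_sum]
      refine Finset.sum_congr rfl fun i _ => ?_
      rw [← smul_assoc, ← algebraMap_smul (FractionRing A) (a i) (b i)]
      congr 1
      exact (ha i).symm
    refine ⟨fun i => a i • (ρ * ((σ⁻¹ : Rˣ) : R)), ?_⟩
    have h1 : ρ ⊗ₜ[A] z = (ρ * ((σ⁻¹ : Rˣ) : R)) ⊗ₜ[A] ((s : A) • z) := by
      rw [TensorProduct.tmul_smul, TensorProduct.smul_tmul', Algebra.smul_def, ← hσ]
      congr 1
      rw [mul_comm, mul_assoc, Units.inv_mul, mul_one]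
    rw [h1, hsz, TensorProduct.tmul_sum]
    refine Finset.sum_congr rfl fun i _ => ?_
    rw [TensorProduct.tmul_smul, TensorProduct.smul_tmul', TensorProduct.smul_tmul', smul_eq_mul,
      mul_one]

/-- **EGA 0_IV 23.1.7 (i)**: if `Frac(Â) ⊗_A K'` is reduced then the integral closure of `A` in
`K'` is finite over `A`. -/
theorem finite_integralClosure (h : IsReduced (R ⊗[A] K')) :
    Module.Finite A (integralClosure A K') := by
  classical
  haveI hNÂ : IsNoetherianRing Â :=
    Groth.Agent.S0542.result A (maximalIdeal A) (IsNoetherian.noetherian _)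
  haveI : Module.FaithfullyFlat A Â := Module.FaithfullyFlat.of_flat_of_isLocalHom
  have hNag : CAlg.IsNagata Â := NagCompl.isNagata_of_complete Â
  let b := Module.finBasis (FractionRing A) K'
  have hspan := exists_sum_eq (R := R) b
  haveI : IsNoetherianRing R :=
    IsLocalization.isNoetherianRing (nonZeroDivisors Â) R inferInstance
  haveI : Module.Finite R (R ⊗[A] K') :=
    Module.Finite.of_surjective
      (Fintype.linearCombination R (fun i => (1 : R) ⊗ₜ[A] b i)) (fun x => by
        obtain ⟨r, hr⟩ := hspan x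
        exact ⟨r, by rw [Fintype.linearCombination_apply]; exact hr.symm⟩)
  haveI : IsNoetherianRing (R ⊗[A] K') := isNoetherian_of_tower R
    (isNoetherian_of_isNoetherianRing_of_finite R (R ⊗[A] K'))
  -- the comparison map
  let φ : Â ⊗[A] integralClosure A K' →ₐ[Â] R ⊗[A] K' :=
    Algebra.TensorProduct.map (Algebra.ofId Â R) (integralClosure A K').val
  have hφinj : Function.Injective φ := by
    haveI : Module.Flat A (FractionRing A) := IsLocalization.flat _ (nonZeroDivisors A)
    haveI : Module.Flat A K' := Module.Flat.trans A (FractionRing A) K'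
    have h1 := TensorProduct.map_injective_of_flat_flat'
      (IsScalarTower.toAlgHom A Â R).toLinearMap (integralClosure A K').val.toLinearMap
      (IsFractionRing.injective Â R) Subtype.val_injective
    exact h1
  have hfinP : (minimalPrimes (R ⊗[A] K')).Finite := minimalPrimes.finite_of_isNoetherianRing _
  haveI : Fintype ↥(minimalPrimes (R ⊗[A] K')) := hfinP.fintype
  let C : (P : minimalPrimes (R ⊗[A] K')) → Subalgebra Â ((R ⊗[A] K') ⧸ P.1) := fun P =>
    ((Ideal.Quotient.mkₐ Â P.1).comp φ).range
  have hCfin : ∀ P, Module.Finite Â (C P) := by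
    intro P
    haveI := P.2.1.1
    refine finite_subalgebra_of_bounded hNag (Module.finrank (FractionRing A) K') ?_ (C P) ?_
    · refine exists_dependent (R := R) (nonZeroDivisors Â) (Module.finrank (FractionRing A) K')
        (fun i => Ideal.Quotient.mk P.1 ((1 : R) ⊗ₜ[A] b i)) ?_
      intro u
      obtain ⟨x, rfl⟩ := Ideal.Quotient.mk_surjective u
      obtain ⟨r, hr⟩ := hspan x
      refine ⟨r, ?_⟩
      rw [hr, map_sum]
      rfl
    · rintro _ ⟨x, rfl⟩
      induction x using TensorProduct.induction_on with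
      | zero => rw [map_zero]; exact isIntegral_zero
      | add x y hx hy => rw [map_add]; exact hx.add hy
      | tmul c a' =>
        have h1 : ((Ideal.Quotient.mkₐ Â P.1).comp φ) (c ⊗ₜ[A] a') =
            c • Ideal.Quotient.mk P.1 ((1 : R) ⊗ₜ[A] (a' : K')) := by
          show Ideal.Quotient.mk P.1 (algebraMap Â R c ⊗ₜ[A] (a' : K')) = _
          rw [← Ideal.Quotient.mkₐ_eq_mk Â, ← map_smul, TensorProduct.smul_tmul',
            Algebra.smul_def, mul_one]
        show IsIntegral Â (((Ideal.Quotient.mkₐ Â P.1).comp φ) (c ⊗ₜ[A] a'))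
        rw [h1]
        have h2 : IsIntegral A (Ideal.Quotient.mk P.1 ((1 : R) ⊗ₜ[A] (a' : K'))) :=
          a'.2.map ((Ideal.Quotient.mkₐ A P.1).comp
            (Algebra.TensorProduct.includeRight : K' →ₐ[A] R ⊗[A] K'))
        exact (h2.tower_top (A := Â)).smul c
  let Ψ : Â ⊗[A] integralClosure A K' →ₗ[Â] ((P : minimalPrimes (R ⊗[A] K')) → C P) :=
    LinearMap.pi fun P => (((Ideal.Quotient.mkₐ Â P.1).comp φ).rangeRestrict).toLinearMap
  have hΨ : Function.Injective Ψ := by
    rw [injective_iff_map_eq_zero]
    intro x hx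
    apply hφinj
    rw [map_zero]
    have hmem : φ x ∈ sInf (minimalPrimes (R ⊗[A] K')) := by
      rw [Ideal.mem_sInf]
      intro P hP
      have h1 := congrFun hx ⟨P, hP⟩
      have h2 := congrArg Subtype.val h1
      exact Ideal.Quotient.eq_zero_iff_mem.mp h2
    have h0 : sInf (minimalPrimes (R ⊗[A] K')) = ⊥ := by
      show sInf (⊥ : Ideal (R ⊗[A] K')).minimalPrimes = ⊥
      rw [Ideal.sInf_minimalPrimes]
      exact nilradical_eq_zero _
    rw [h0] at hmem
    exact hmem
  haveI : ∀ P, Module.Finite Â (C P) := hCfin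
  haveI : Module.Finite Â (Â ⊗[A] integralClosure A K') := Module.Finite.of_injective Ψ hΨ
  exact Module.Finite.of_finite_tensorProduct_of_faithfullyFlat Â

end

end Groth.Agent.Lib.Helper27.NagFin
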