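import Mathlib
import Groth.Prelude.Def_Found

/-!
# Tate's lemma on N-2 rings, part 1: generalities

* `exists_pow_factor`: dividing a nonzero finite family of elements of a Noetherian domain by the
  largest common power of a non-unit `x`.
* `finite_of_bounded_indep`: an integral extension `B ⊆ C` of domains, with `B` Noetherian and N-2,
  such that `B`-linearly independent families in `C` have bounded size, is finite.
-/

set_option autoImplicit false
set_option linter.style.haveILetI false

universe u

namespace Groth.Agent.Lib.Helper27.NagTate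

theorem exists_pow_factor {R : Type*} [CommRing R] [IsDomain R] [IsNoetherianRing R] (x : R)
    (hx : ¬ IsUnit x) {ι : Type*} [Fintype ι] (a : ι → R) (ha : a ≠ 0) :
    ∃ (m : ℕ) (a' : ι → R), (∀ i, a i = x ^ m * a' i) ∧ ∃ i, ¬ x ∣ a' i := by
  classical
  obtain ⟨i₀, hi₀⟩ : ∃ i, a i ≠ 0 := by
    by_contra h
    push Not at h
    exact ha (funext h)
  have hne : Ideal.span {x} ≠ ⊤ := by rwa [Ne, Ideal.span_singleton_eq_top]
  have hbot := Ideal.iInf_pow_eq_bot_of_isDomain (Ideal.span {x}) hne
  have hex : ∃ M, ¬ ∀ i, x ^ M ∣ a i := by
    by_contra h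
    push Not at h
    apply hi₀
    have hmem : a i₀ ∈ (⨅ n, Ideal.span {x} ^ n : Ideal R) := by
      rw [Ideal.mem_iInf]
      intro n
      rw [Ideal.span_singleton_pow, Ideal.mem_span_singleton]
      exact h n i₀
    rw [hbot] at hmem
    exact hmem
  have hM : ¬ ∀ i, x ^ (Nat.find hex) ∣ a i := Nat.find_spec hex
  have hM0 : Nat.find hex ≠ 0 := by
    intro h0
    apply hM
    intro i
    rw [h0, pow_zero]
    exact one_dvd _
  obtain ⟨m, hm⟩ := Nat.exists_eq_succ_of_ne_zero hM0
  have hm' : ∀ i, x ^ m ∣ a i := by
    have := Nat.find_min hex (m := m) (by omega)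
    rwa [not_not] at this
  choose a' ha' using hm'
  refine ⟨m, a', ha', ?_⟩
  by_contra h
  push Not at h
  apply hM
  intro i
  obtain ⟨c, hc⟩ := h i
  rw [hm, Nat.succ_eq_add_one, pow_succ, ha' i, hc]
  exact ⟨c, by ring⟩

theorem finite_of_bounded_indep (B C : Type u) [CommRing B] [IsDomain B] [IsNoetherianRing B]
    [CommRing C] [IsDomain C] [Algebra B C] [FaithfulSMul B C] [Algebra.IsIntegral B C]
    (hB : CAlg.IsN2 B) (n : ℕ)
    (hn : ∀ s : Finset C, LinearIndependent B (fun i : s => (i : C)) → s.card ≤ n) :
    Module.Finite B C := by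
  classical
  haveI : FaithfulSMul B (FractionRing C) := by
    rw [faithfulSMul_iff_algebraMap_injective, IsScalarTower.algebraMap_eq B C (FractionRing C)]
    exact (IsFractionRing.injective C (FractionRing C)).comp
      (FaithfulSMul.algebraMap_injective B C)
  letI := FractionRing.liftAlgebra B (FractionRing C)
  haveI : IsScalarTower B (FractionRing B) (FractionRing C) :=
    FractionRing.isScalarTower_liftAlgebra B (FractionRing C)
  have hrank : Module.rank (FractionRing B) (FractionRing C) ≤ n := by
    apply rank_le
    intro s hs
    have hs' : LinearIndependent B (fun i : s => (i : FractionRing C)) := hs.restrict_scalars' B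
    have h3 := IsLocalization.linearIndepOn_finsetIntegerMultiple (R := B) (S := C)
      (nonZeroDivisors C) (s := s) hs'
    have h4 := hn (IsLocalization.finsetIntegerMultiple (nonZeroDivisors C) s) h3
    rwa [IsLocalization.card_finsetIntegerMultiple] at h4
  haveI : FiniteDimensional (FractionRing B) (FractionRing C) := by
    rw [FiniteDimensional, ← Module.rank_lt_aleph0_iff]
    exact lt_of_le_of_lt hrank (Cardinal.nat_lt_aleph0 n)
  have hfin : Module.Finite B (integralClosure B (FractionRing C)) :=
    hB (FractionRing C) inferInstance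
  haveI : IsNoetherian B (integralClosure B (FractionRing C)) :=
    isNoetherian_of_isNoetherianRing_of_finite B _
  let f : C →ₗ[B] integralClosure B (FractionRing C) :=
    LinearMap.codRestrict (Subalgebra.toSubmodule (integralClosure B (FractionRing C)))
      (IsScalarTower.toAlgHom B C (FractionRing C)).toLinearMap
      (fun c => (Algebra.IsIntegral.isIntegral c).map (IsScalarTower.toAlgHom B C (FractionRing C)))
  refine Module.Finite.of_injective f ?_
  intro c c' h
  have h' := congrArg Subtype.val h
  exact IsFractionRing.injective C (FractionRing C) h'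

end Groth.Agent.Lib.Helper27.NagTate
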