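import Groth.Agent.Lib.Helper27.NagTate1
import Groth.Agent.Lib.Helper26.CompleteFinite

/-!
# Tate's lemma on N-2 rings, part 2: the core finiteness statement

`R` a Noetherian normal domain, `x ≠ 0` with `(x)` prime, `R/(x)` N-2, `R` `(x)`-adically complete.
`L/K` a finite extension of `K = Frac R` such that `z ^ q ∈ K` for all `z ∈ L`, containing `y` with
`y ^ q = x`.  Then the integral closure of `R` in `L` is finite over `R`.
-/

set_option autoImplicit false
set_option linter.style.haveILetI false

universe u

namespace Groth.Agent.Lib.Helper27.NagTate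

section core

variable {R : Type u} [CommRing R] [IsDomain R] [IsIntegrallyClosed R]
  (x : R) (K : Type*) [Field K] [Algebra R K] [IsFractionRing R K]
  (L : Type u) [Field L] [Algebra R L] [Algebra K L] [IsScalarTower R K L]
  (q : ℕ) (hq : 0 < q) (hqL : ∀ z : L, z ^ q ∈ (algebraMap K L).range)

include K in
theorem algebraMap_injective' : Function.Injective (algebraMap R L) := by
  rw [IsScalarTower.algebraMap_eq R K L]
  exact (algebraMap K L).injective.comp (IsFractionRing.injective R K)

include hqL in
theorem exists_pow_eq (f : integralClosure R L) :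
    ∃ r : R, (f : L) ^ q = algebraMap R L r := by
  obtain ⟨a, ha⟩ := hqL f
  have h1 : IsIntegral R ((f : L) ^ q) := f.2.pow q
  rw [← ha] at h1
  have h2 : IsIntegral R a :=
    (isIntegral_algHom_iff (IsScalarTower.toAlgHom R K L) (algebraMap K L).injective).mp h1
  obtain ⟨r, hr⟩ := IsIntegrallyClosed.isIntegral_iff.mp h2
  exact ⟨r, by rw [← ha, ← hr, ← IsScalarTower.algebraMap_apply]⟩

include hq in
omit [IsDomain R] [IsIntegrallyClosed R] in
theorem isIntegral_of_pow_eq (z : L) (r : R) (h : z ^ q = algebraMap R L r) : IsIntegral R z :=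
  IsIntegral.of_pow hq (by rw [h]; exact isIntegral_algebraMap)

variable (y : L) (hy : y ^ q = algebraMap R L x) (hx0 : x ≠ 0)

/-- `y` as an element of the integral closure. -/
def ys : integralClosure R L := ⟨y, isIntegral_of_pow_eq L q hq y x hy⟩

include K hx0 hq hy in
theorem y_ne_zero : y ≠ 0 := by
  intro h0
  rw [h0, zero_pow hq.ne'] at hy
  exact hx0 ((algebraMap_injective' K L) (by rw [← hy, map_zero]))

include K hx0 hqL in
theorem ys_dvd_iff (f : integralClosure R L) (r : R) (hr : (f : L) ^ q = algebraMap R L r) :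
    ys x L q hq y hy ∣ f ↔ x ∣ r := by
  have hinj := algebraMap_injective' (R := R) K L
  have hy0 := y_ne_zero x K L q hq y hy hx0
  constructor
  · rintro ⟨g, rfl⟩
    obtain ⟨rg, hrg⟩ := exists_pow_eq K L q hqL g
    refine ⟨rg, hinj ?_⟩
    rw [← hr, map_mul, ← hy, ← hrg]
    show ((ys x L q hq y hy : L) * (g : L)) ^ q = _
    rw [mul_pow]
    rfl
  · rintro ⟨r', rfl⟩
    have hz : ((f : L) / y) ^ q = algebraMap R L r' := by
      rw [div_pow, hr, hy, map_mul, mul_div_cancel_left₀]
      intro h0
      exact hx0 (hinj (by rw [h0, map_zero]))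
    refine ⟨⟨(f : L) / y, isIntegral_of_pow_eq L q hq _ r' hz⟩, Subtype.ext ?_⟩
    show (f : L) = y * ((f : L) / y)
    rw [mul_div_cancel₀ _ hy0]

variable [hxp : (Ideal.span ({x} : Set R)).IsPrime]

include K hx0 hqL hxp in
theorem prime_ys : Prime (ys x L q hq y hy) := by
  have hxprime : Prime x := (Ideal.span_singleton_prime hx0).mp hxp
  refine ⟨?_, ?_, ?_⟩
  · intro h0
    exact y_ne_zero x K L q hq y hy hx0 (congrArg Subtype.val h0)
  · intro hu
    have h1 : ys x L q hq y hy ∣ 1 := hu.dvd
    rw [ys_dvd_iff x K L q hq hqL y hy hx0 1 1 (by simp)] at h1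
    exact hxprime.not_unit (isUnit_of_dvd_one h1)
  · intro a b hab
    obtain ⟨ra, hra⟩ := exists_pow_eq K L q hqL a
    obtain ⟨rb, hrb⟩ := exists_pow_eq K L q hqL b
    have hrab : ((a * b : integralClosure R L) : L) ^ q = algebraMap R L (ra * rb) := by
      rw [map_mul, ← hra, ← hrb, ← mul_pow]
      rfl
    rw [ys_dvd_iff x K L q hq hqL y hy hx0 _ _ hrab] at hab
    rcases hxprime.dvd_or_dvd hab with h | h
    · exact Or.inl ((ys_dvd_iff x K L q hq hqL y hy hx0 a ra hra).mpr h)
    · exact Or.inr ((ys_dvd_iff x K L q hq hqL y hy hx0 b rb hrb).mpr h)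

include K hx0 hqL hxp in
theorem liesOver : (Ideal.span {ys x L q hq y hy}).LiesOver (Ideal.span ({x} : Set R)) := by
  have hxprime : Prime x := (Ideal.span_singleton_prime hx0).mp hxp
  constructor
  ext r
  rw [Ideal.under_def, Ideal.mem_comap, Ideal.mem_span_singleton, Ideal.mem_span_singleton]
  have hr : ((algebraMap R (integralClosure R L) r : integralClosure R L) : L) ^ q =
      algebraMap R L (r ^ q) := by
    rw [map_pow]
    rfl
  rw [ys_dvd_iff x K L q hq hqL y hy hx0 _ _ hr]
  exact ⟨fun h => dvd_pow h hq.ne', fun h => hxprime.dvd_of_dvd_pow h⟩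

variable [IsNoetherianRing R] [FiniteDimensional K L]

include K hx0 hqL hxp in
theorem card_le_of_linearIndependent
    [(Ideal.span {ys x L q hq y hy}).LiesOver (Ideal.span ({x} : Set R))]
    (s : Finset (integralClosure R L ⧸ Ideal.span {ys x L q hq y hy}))
    (hs : LinearIndependent (R ⧸ Ideal.span ({x} : Set R))
      (fun i : s => (i : integralClosure R L ⧸ Ideal.span {ys x L q hq y hy}))) :
    s.card ≤ Module.finrank K L := by
  classical
  have hxprime : Prime x := (Ideal.span_singleton_prime hx0).mp hxp
  have hinj := algebraMap_injective' (R := R) K L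
  have hlift : ∀ i : s, ∃ g : integralClosure R L,
      Ideal.Quotient.mk (Ideal.span {ys x L q hq y hy}) g = (i : _ ⧸ _) :=
    fun i => Ideal.Quotient.mk_surjective _
  choose g hg using hlift
  have hinjS : Function.Injective (algebraMap R (integralClosure R L)) := by
    intro a b hab
    exact hinj (congrArg Subtype.val hab)
  haveI : Module.IsTorsionFree R (integralClosure R L) :=
    Module.isTorsionFree_iff_algebraMap_injective.mpr hinjS
  have hlin : LinearIndependent R g := by
    rw [Fintype.linearIndependent_iff]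
    intro a ha
    by_contra hne
    have ha0 : a ≠ 0 := fun h0 => hne (fun i => by rw [h0]; rfl)
    obtain ⟨m, a', ha', i₁, hi₁⟩ := exists_pow_factor x hxprime.not_unit a ha0
    have hsum : ∑ i, a' i • g i = 0 := by
      have h1 : x ^ m • ∑ i, a' i • g i = 0 := by
        rw [Finset.smul_sum, ← ha]
        refine Finset.sum_congr rfl fun i _ => ?_
        rw [smul_smul, ← ha' i]
      rcases smul_eq_zero.mp h1 with h | h
      · exact absurd h (pow_ne_zero m hx0)
      · exact h
    have hsum' : ∑ i : s, (Ideal.Quotient.mk (Ideal.span ({x} : Set R)) (a' i)) •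
        (i : integralClosure R L ⧸ Ideal.span {ys x L q hq y hy}) = 0 := by
      have h2 := congrArg (Ideal.Quotient.mkₐ R (Ideal.span {ys x L q hq y hy})) hsum
      rw [map_sum, map_zero] at h2
      rw [← h2]
      refine Finset.sum_congr rfl fun i _ => ?_
      rw [map_smul, Ideal.Quotient.mkₐ_eq_mk, hg i]
      exact (algebraMap_smul (R ⧸ Ideal.span ({x} : Set R)) (a' i)
        (i : integralClosure R L ⧸ Ideal.span {ys x L q hq y hy})).symm
    have h3 := Fintype.linearIndependent_iff.mp hs _ hsum' i₁
    rw [Ideal.Quotient.eq_zero_iff_mem, Ideal.mem_span_singleton] at h3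
    exact hi₁ h3
  have hlinL : LinearIndependent R (fun i => (g i : L)) :=
    hlin.map' (integralClosure R L).val.toLinearMap
      (LinearMap.ker_eq_bot.mpr Subtype.val_injective)
  rw [LinearIndependent.iff_fractionRing R K] at hlinL
  have := hlinL.fintype_card_le_finrank
  rwa [Fintype.card_coe] at this

include K hx0 hqL hxp in
theorem finite_quot (h2 : CAlg.IsN2 (R ⧸ Ideal.span ({x} : Set R))) :
    Module.Finite R (integralClosure R L ⧸ Ideal.span {ys x L q hq y hy}) := by
  haveI := liesOver x K L q hq hqL y hy hx0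
  haveI : (Ideal.span {ys x L q hq y hy}).IsPrime :=
    (Ideal.span_singleton_prime (prime_ys x K L q hq hqL y hy hx0).ne_zero).mpr
      (prime_ys x K L q hq hqL y hy hx0)
  haveI : Module.Finite (R ⧸ Ideal.span ({x} : Set R))
      (integralClosure R L ⧸ Ideal.span {ys x L q hq y hy}) :=
    finite_of_bounded_indep _ _ h2 (Module.finrank K L)
      (card_le_of_linearIndependent x K L q hq hqL y hy hx0)
  exact Module.Finite.trans (R ⧸ Ideal.span ({x} : Set R)) _

/-- The quotients `S/(y^j)` are finite over `R`. -/
theorem finite_quot_pow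
    (h1 : Module.Finite R (integralClosure R L ⧸ Ideal.span {ys x L q hq y hy})) (j : ℕ) :
    Module.Finite R (integralClosure R L ⧸ Ideal.span {ys x L q hq y hy ^ j}) := by
  induction j with
  | zero =>
    have : Ideal.span {ys x L q hq y hy ^ 0} = ⊤ := by
      rw [pow_zero, Ideal.span_singleton_one]
    haveI : Subsingleton (integralClosure R L ⧸ Ideal.span {ys x L q hq y hy ^ 0}) := by
      rw [this]
      exact Ideal.Quotient.subsingleton_iff.mpr rfl
    exact Module.Finite.of_finite
  | succ j ih =>
    have hle : Ideal.span {ys x L q hq y hy ^ (j + 1)} ≤ Ideal.span {ys x L q hq y hy ^ j} := by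
      rw [Ideal.span_singleton_le_span_singleton]
      exact pow_dvd_pow _ (Nat.le_succ j)
    have hmap : Ideal.span {ys x L q hq y hy} ≤
        Submodule.comap (LinearMap.mulLeft (integralClosure R L) (ys x L q hq y hy ^ j))
          (Ideal.span {ys x L q hq y hy ^ (j + 1)}) := by
      intro t ht
      rw [Ideal.mem_span_singleton'] at ht
      obtain ⟨c, rfl⟩ := ht
      rw [Submodule.mem_comap, LinearMap.mulLeft_apply, Ideal.mem_span_singleton']
      exact ⟨c, by rw [pow_succ]; ring⟩
    let f : (integralClosure R L ⧸ Ideal.span {ys x L q hq y hy}) →ₗ[R]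
        (integralClosure R L ⧸ Ideal.span {ys x L q hq y hy ^ (j + 1)}) :=
      (Submodule.mapQ _ _ (LinearMap.mulLeft (integralClosure R L) (ys x L q hq y hy ^ j))
        hmap).restrictScalars R
    let g : (integralClosure R L ⧸ Ideal.span {ys x L q hq y hy ^ (j + 1)}) →ₗ[R]
        (integralClosure R L ⧸ Ideal.span {ys x L q hq y hy ^ j}) :=
      (Ideal.Quotient.factorₐ R hle).toLinearMap
    have hg : Function.Surjective g := Ideal.Quotient.factor_surjective hle
    have hexact : Function.Exact f g := by
      intro c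
      obtain ⟨t, rfl⟩ := Ideal.Quotient.mk_surjective c
      constructor
      · intro h0
        have h0' : Ideal.Quotient.mk (Ideal.span {ys x L q hq y hy ^ j}) t = 0 := h0
        rw [Ideal.Quotient.eq_zero_iff_mem, Ideal.mem_span_singleton'] at h0'
        obtain ⟨c, rfl⟩ := h0'
        refine ⟨Ideal.Quotient.mk _ c, ?_⟩
        show Ideal.Quotient.mk _ (ys x L q hq y hy ^ j * c) = _
        rw [mul_comm]
      · rintro ⟨d, hd⟩
        obtain ⟨d, rfl⟩ := Ideal.Quotient.mk_surjective d
        have hd' : Ideal.Quotient.mk (Ideal.span {ys x L q hq y hy ^ (j + 1)})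
            (ys x L q hq y hy ^ j * d) = Ideal.Quotient.mk _ t := hd
        show Ideal.Quotient.mk (Ideal.span {ys x L q hq y hy ^ j}) t = 0
        rw [Ideal.Quotient.eq_zero_iff_mem]
        rw [Ideal.Quotient.eq] at hd'
        have h3 := hle hd'
        have h4 : ys x L q hq y hy ^ j * d ∈ Ideal.span {ys x L q hq y hy ^ j} :=
          Ideal.mul_mem_right _ _ (Ideal.mem_span_singleton_self _)
        have h5 := Ideal.sub_mem _ h4 h3
        rwa [sub_sub_cancel] at h5
    exact Module.Finite.of_exact hexact hg

include K hx0 hqL hxp hq in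
theorem isHausdorff : IsHausdorff (Ideal.span ({x} : Set R)) (integralClosure R L) := by
  have hinj := algebraMap_injective' (R := R) K L
  constructor
  intro f hf
  obtain ⟨r, hr⟩ := exists_pow_eq K L q hqL f
  have hr0 : r = 0 := by
    have hmem : r ∈ (⨅ n, Ideal.span ({x} : Set R) ^ n : Ideal R) := by
      rw [Ideal.mem_iInf]
      intro n
      have hn := hf n
      rw [SModEq.zero, Ideal.span_singleton_pow, Ideal.smul_top_eq_map,
        Submodule.restrictScalars_mem, Ideal.map_span, Set.image_singleton,
        Ideal.mem_span_singleton] at hn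
      obtain ⟨g, rfl⟩ := hn
      obtain ⟨rg, hrg⟩ := exists_pow_eq K L q hqL g
      have hrr : r = (x ^ n) ^ q * rg := by
        apply hinj
        rw [← hr, map_mul, map_pow, ← hrg]
        have e1 : (((algebraMap R (integralClosure R L)) x ^ n * g : integralClosure R L) : L) =
            algebraMap R L x ^ n * (g : L) := rfl
        rw [e1, mul_pow, map_pow, map_pow]
      rw [Ideal.span_singleton_pow, Ideal.mem_span_singleton, hrr]
      exact Dvd.dvd.mul_right (dvd_pow_self _ hq.ne') _
    rwa [Ideal.iInf_pow_eq_bot_of_isDomain _ hxp.ne_top, Ideal.mem_bot] at hmem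
  rw [hr0, map_zero] at hr
  exact Subtype.ext ((pow_eq_zero_iff hq.ne').mp hr)

include K hx0 hqL hxp hq hy in
/-- **Tate's lemma, core case**. -/
theorem finite_integralClosure_core [IsAdicComplete (Ideal.span ({x} : Set R)) R]
    (h2 : CAlg.IsN2 (R ⧸ Ideal.span ({x} : Set R))) :
    Module.Finite R (integralClosure R L) := by
  haveI := isHausdorff x K L q hq hqL hx0
  apply Groth.Agent.Lib.Helper26.CompleteFinite.finite_of_isHausdorff_of_fg_quotient
    (Ideal.span ({x} : Set R))
  have h1 := finite_quot_pow x L q hq y hy (finite_quot x K L q hq hqL y hy hx0 h2) q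
  have heq : (Ideal.span ({x} : Set R) • ⊤ : Submodule R (integralClosure R L)) =
      (Ideal.span {ys x L q hq y hy ^ q}).restrictScalars R := by
    rw [Ideal.smul_top_eq_map, Ideal.map_span, Set.image_singleton]
    congr 3
    exact Subtype.ext hy.symm
  rw [heq]
  exact Module.Finite.equiv
    (Submodule.Quotient.restrictScalarsEquiv R (Ideal.span {ys x L q hq y hy ^ q})).symm

end core

end Groth.Agent.Lib.Helper27.NagTate
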