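import Groth.Agent.Lib.Helper27.NagTate2
import Groth.Agent.Lib.Helper12.NagataLoc
import Groth.Agent.Lib.Helper12.N2Insep
import Groth.Agent.Lib.Helper12.N2

/-!
# Tate's lemma on N-2 rings, part 3: the theorem

`R` an integrally closed Noetherian domain, `(x)` a prime ideal with `R/(x)` N-2 and `R`
`(x)`-adically complete.  Then `R` is N-2.
-/

set_option autoImplicit false
set_option linter.style.haveILetI false

universe u

namespace Groth.Agent.Lib.Helper27.NagTate

open Groth.Agent.Lib.Helper12

section enlarge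

variable {K K' : Type u} [Field K] [Field K'] [Algebra K K']

/-- The elements of a field extension `Ω/K'` whose `p^e`-th power lies in `K`. -/
def powField (Ω : Type u) [Field Ω] [Algebra K Ω] [Algebra K' Ω] [IsScalarTower K K' Ω]
    (p e : ℕ) [ExpChar Ω p]
    (h : ∀ a : K', a ^ p ^ e ∈ (algebraMap K K').range) : IntermediateField K' Ω where
  carrier := {z | z ^ p ^ e ∈ (algebraMap K Ω).fieldRange}
  mul_mem' {a b} ha hb := by
    show (a * b) ^ p ^ e ∈ (algebraMap K Ω).fieldRange
    rw [mul_pow]
    exact mul_mem ha hb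
  add_mem' {a b} ha hb := by
    show (a + b) ^ p ^ e ∈ (algebraMap K Ω).fieldRange
    rw [add_pow_expChar_pow]
    exact add_mem ha hb
  algebraMap_mem' r := by
    show (algebraMap K' Ω r) ^ p ^ e ∈ (algebraMap K Ω).fieldRange
    obtain ⟨a, ha⟩ := h r
    rw [← map_pow, ← ha, ← IsScalarTower.algebraMap_apply]
    exact ⟨a, rfl⟩
  inv_mem' a ha := by
    show (a⁻¹) ^ p ^ e ∈ (algebraMap K Ω).fieldRange
    rw [inv_pow]
    exact inv_mem ha

end enlarge

section main

variable (R : Type u) [CommRing R] [IsDomain R] [IsNoetherianRing R] [IsIntegrallyClosed R]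
  (x : R) [hxp : (Ideal.span ({x} : Set R)).IsPrime]
  [IsAdicComplete (Ideal.span ({x} : Set R)) R]

theorem finite_integralClosure_of_isPurelyInseparable (hx0 : x ≠ 0)
    (h2 : CAlg.IsN2 (R ⧸ Ideal.span ({x} : Set R)))
    (K' : Type u) [Field K'] [Algebra R K'] [Algebra (FractionRing R) K']
    [IsScalarTower R (FractionRing R) K'] [FiniteDimensional (FractionRing R) K']
    [IsPurelyInseparable (FractionRing R) K'] :
    Module.Finite R (integralClosure R K') := by
  classical
  -- notation
  let K := FractionRing R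
  let p := ringExpChar K
  haveI hpK : ExpChar K p := ringExpChar.expChar K
  let e := IsPurelyInseparable.exponent K K'
  have hq : 0 < p ^ e := pow_pos (expChar_pos K p) e
  have hK' : ∀ a : K', a ^ p ^ e ∈ (algebraMap K K').range :=
    fun a => IsPurelyInseparable.exponent_def K a
  let Ω := AlgebraicClosure K'
  haveI : ExpChar Ω p := expChar_of_injective_algebraMap (algebraMap K Ω).injective p
  obtain ⟨y, hy⟩ := IsAlgClosed.exists_pow_nat_eq (algebraMap R Ω x) hq
  let L' : IntermediateField K' Ω := IntermediateField.adjoin K' {y}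
  have hyL : y ∈ L' := IntermediateField.mem_adjoin_simple_self K' y
  have hle : L' ≤ powField Ω p e hK' := by
    rw [IntermediateField.adjoin_le_iff, Set.singleton_subset_iff]
    show y ^ p ^ e ∈ (algebraMap K Ω).fieldRange
    rw [hy, IsScalarTower.algebraMap_apply R K Ω]
    exact ⟨_, rfl⟩
  haveI : IsScalarTower R K L' :=
    IsScalarTower.of_algebraMap_eq fun r => Subtype.ext (IsScalarTower.algebraMap_apply R K Ω r)
  haveI : FiniteDimensional K' L' :=
    IntermediateField.adjoin.finiteDimensional (Algebra.IsIntegral.isIntegral y)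
  haveI : FiniteDimensional K L' := FiniteDimensional.trans K K' L'
  have hqL : ∀ z : L', z ^ p ^ e ∈ (algebraMap K L').range := by
    intro z
    obtain ⟨a, ha⟩ := hle z.2
    exact ⟨a, Subtype.ext ha⟩
  have hcore : Module.Finite R (integralClosure R L') :=
    finite_integralClosure_core x K L' (p ^ e) hq hqL ⟨y, hyL⟩ (Subtype.ext hy) hx0 h2
  exact N2.finite_integralClosure_of_tower_top R K' L' hcore

/-- **Tate's lemma** (Stacks 032U). -/
theorem isN2_of_complete (h2 : CAlg.IsN2 (R ⧸ Ideal.span ({x} : Set R))) : CAlg.IsN2 R := by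
  by_cases hx0 : x = 0
  · have hbot : Ideal.span ({x} : Set R) = ⊥ := by rw [hx0]; exact Ideal.span_singleton_eq_bot.mpr rfl
    have e : (R ⧸ Ideal.span ({x} : Set R)) ≃+* R :=
      (Ideal.quotEquivOfEq hbot).trans (RingEquiv.quotientBot R)
    rw [NagataLoc.isN2_iff_N2'] at h2 ⊢
    exact N2.N2'_of_ringEquiv e h2
  · rw [NagataLoc.isN2_iff_N2']
    exact N2Insep.N2'_of_purelyInseparable R fun K' _ _ _ _ _ _ =>
      finite_integralClosure_of_isPurelyInseparable R x hx0 h2 K'

end main

end Groth.Agent.Lib.Helper27.NagTate
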