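import Mathlib
import Groth.Prelude.Def_BlowUp2

/-!
# Basic structure of the affine blowup algebra `A[I/a] ⊆ A_a`
-/

namespace Groth.Agent.Lib.Helper27.NerA

universe u

variable {A : Type u} [CommRing A] (I : Ideal A) (a : A)

/-- the fraction `x/a`. -/
noncomputable abbrev frac (x : A) : Localization.Away a :=
  IsLocalization.mk' (Localization.Away a) x (⟨a, Submonoid.mem_powers a⟩ : Submonoid.powers a)

lemma frac_mem {x : A} (hx : x ∈ I) : frac a x ∈ BlowUp.affineAlgebra A I a :=
  Algebra.subset_adjoin ⟨x, hx, rfl⟩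

lemma algebraMap_mul_frac (x : A) :
    algebraMap A (Localization.Away a) a * frac a x = algebraMap A (Localization.Away a) x := by
  unfold frac
  rw [mul_comm]
  exact IsLocalization.mk'_spec _ x _

lemma frac_eq_smul (x : A) : frac a x = x • frac a 1 := by
  unfold frac
  rw [Algebra.smul_def, ← IsLocalization.mk'_eq_mul_mk'_one]

/-- the fraction `x/a` as an element of the blowup algebra. -/
noncomputable def fracA {x : A} (hx : x ∈ I) : BlowUp.affineAlgebra A I a :=
  ⟨frac a x, frac_mem I a hx⟩

lemma algebraMap_mul_fracA {x : A} (hx : x ∈ I) :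
    algebraMap A (BlowUp.affineAlgebra A I a) a * fracA I a hx =
      algebraMap A (BlowUp.affineAlgebra A I a) x :=
  Subtype.ext (algebraMap_mul_frac a x)

lemma fg_of_fg (hI : I.FG) : (BlowUp.affineAlgebra A I a).FG := by
  classical
  obtain ⟨s, hs⟩ := hI
  refine ⟨s.image (frac a), ?_⟩
  apply le_antisymm
  · apply Algebra.adjoin_mono
    intro q hq
    rw [Finset.coe_image] at hq
    obtain ⟨x, hx, rfl⟩ := hq
    exact ⟨x, by rw [← hs]; exact Ideal.subset_span hx, rfl⟩
  · apply Algebra.adjoin_le
    rintro q ⟨x, hx, rfl⟩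
    let ℓ : A →ₗ[A] Localization.Away a := LinearMap.toSpanSingleton A _ (frac a 1)
    have hℓ : ∀ y, ℓ y = frac a y := fun y => by
      rw [frac_eq_smul]; rfl
    have h1 : Submodule.map ℓ (Submodule.span A (s : Set A)) ≤
        Subalgebra.toSubmodule (Algebra.adjoin A ((s.image (frac a) : Finset _) : Set (Localization.Away a))) := by
      rw [Submodule.map_span, Submodule.span_le]
      rintro _ ⟨y, hy, rfl⟩
      rw [hℓ]
      exact Algebra.subset_adjoin (by rw [Finset.coe_image]; exact ⟨y, hy, rfl⟩)
    rw [← hs] at hx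
    have := h1 (Submodule.mem_map_of_mem hx)
    rw [hℓ] at this
    exact this

instance finiteType_of_fg [IsNoetherianRing A] :
    Algebra.FiniteType A (BlowUp.affineAlgebra A I a) :=
  (Subalgebra.fg_iff_finiteType _).mp (fg_of_fg I a (IsNoetherian.noetherian I))

/-- `A_a` is also the localization of the blowup algebra at `a`. -/
instance isLocalization_away :
    IsLocalization.Away (algebraMap A (BlowUp.affineAlgebra A I a) a) (Localization.Away a) := by
  show IsLocalization (Submonoid.powers _) _
  rw [isLocalization_iff]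
  refine ⟨?_, ?_, ?_⟩
  · rintro ⟨_, n, rfl⟩
    show IsUnit (algebraMap (BlowUp.affineAlgebra A I a) (Localization.Away a)
      (algebraMap A (BlowUp.affineAlgebra A I a) a ^ n))
    rw [map_pow]
    exact (IsLocalization.Away.algebraMap_isUnit a).pow n
  · intro z
    obtain ⟨⟨x, ⟨_, n, rfl⟩⟩, hx⟩ := IsLocalization.surj (Submonoid.powers a) z
    refine ⟨⟨algebraMap A _ x, ⟨_, n, rfl⟩⟩, ?_⟩
    show z * algebraMap (BlowUp.affineAlgebra A I a) (Localization.Away a)
      (algebraMap A (BlowUp.affineAlgebra A I a) a ^ n) = _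
    rw [map_pow]
    have hx' : z * algebraMap A (Localization.Away a) a ^ n = algebraMap A (Localization.Away a) x := by
      rw [← map_pow]; exact hx
    exact hx'
  · intro x y hxy
    exact ⟨1, by rw [Subtype.ext hxy]⟩

end Groth.Agent.Lib.Helper27.NerA
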