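import Mathlib

/-!
# Fibre ranks of Kähler differentials: invariance under field extension and localization
-/

namespace Groth.Agent.Lib.Helper27.NerB

universe u

open TensorProduct

/-- the fibre rank over a field `F` factoring through an algebra `S` over which the base change
is free. -/
lemma finrank_tensor_eq {B S F M : Type u} [CommRing B] [CommRing S] [Field F] [Algebra B S]
    [Algebra S F] [Algebra B F] [IsScalarTower B S F] [AddCommGroup M] [Module B M]
    [Module.Free S (S ⊗[B] M)] :
    Module.finrank F (F ⊗[B] M) = Module.finrank S (S ⊗[B] M) := by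
  haveI : Nontrivial S := (algebraMap S F).domain_nontrivial
  let e : F ⊗[S] (S ⊗[B] M) ≃ₗ[F] F ⊗[B] M :=
    TensorProduct.AlgebraTensorModule.cancelBaseChange _ _ _ _ _
  rw [← e.finrank_eq, Module.finrank_baseChange]

/-- the fibre rank does not change under extension of the field. -/
lemma finrank_tensor_field_ext {B F F' M : Type u} [CommRing B] [Field F] [Field F'] [Algebra B F]
    [Algebra F F'] [Algebra B F'] [IsScalarTower B F F'] [AddCommGroup M] [Module B M] :
    Module.finrank F' (F' ⊗[B] M) = Module.finrank F (F ⊗[B] M) :=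
  finrank_tensor_eq

/-- the fibre rank of Kähler differentials is insensitive to localization. -/
lemma finrank_kaehler_of_isLocalization {R B B' F : Type u} [CommRing R] [CommRing B] [CommRing B']
    [Algebra R B] [Algebra R B'] [Algebra B B'] [IsScalarTower R B B'] (M : Submonoid B)
    [IsLocalization M B'] [Field F] [Algebra B' F] [Algebra B F] [IsScalarTower B B' F] :
    Module.finrank F (F ⊗[B'] Ω[B'⁄R]) = Module.finrank F (F ⊗[B] Ω[B⁄R]) := by
  haveI := Algebra.FormallyEtale.of_isLocalization (Rₘ := B') M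
  let e1 : B' ⊗[B] Ω[B⁄R] ≃ₗ[B'] Ω[B'⁄R] :=
    KaehlerDifferential.tensorKaehlerEquivOfFormallyEtale R B B'
  let e2 : F ⊗[B'] (B' ⊗[B] Ω[B⁄R]) ≃ₗ[F] F ⊗[B] Ω[B⁄R] :=
    TensorProduct.AlgebraTensorModule.cancelBaseChange _ _ _ _ _
  let e3 : F ⊗[B'] (B' ⊗[B] Ω[B⁄R]) ≃ₗ[F] F ⊗[B'] Ω[B'⁄R] :=
    TensorProduct.AlgebraTensorModule.congr (LinearEquiv.refl F F) e1
  rw [← e3.finrank_eq, e2.finrank_eq]

/-- at a smooth point, the localized module of differentials is free. -/
lemma free_tensor_kaehler_of_isSmoothAt {R B : Type u} [CommRing R] [CommRing B] [Algebra R B]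
    [Algebra.FiniteType R B] (p : Ideal B) [p.IsPrime] (h : Algebra.IsSmoothAt R p) :
    Module.Free (Localization.AtPrime p) (Localization.AtPrime p ⊗[B] Ω[B⁄R]) := by
  haveI := Algebra.FormallyEtale.of_isLocalization (Rₘ := Localization.AtPrime p) p.primeCompl
  let e1 : Localization.AtPrime p ⊗[B] Ω[B⁄R] ≃ₗ[Localization.AtPrime p] Ω[Localization.AtPrime p⁄R] :=
    KaehlerDifferential.tensorKaehlerEquivOfFormallyEtale R B (Localization.AtPrime p)
  haveI : Algebra.FormallySmooth R (Localization.AtPrime p) := h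
  haveI : Module.Finite B Ω[B⁄R] := inferInstance
  haveI : Module.Finite (Localization.AtPrime p) (Localization.AtPrime p ⊗[B] Ω[B⁄R]) :=
    inferInstance
  haveI : Module.Projective (Localization.AtPrime p) (Localization.AtPrime p ⊗[B] Ω[B⁄R]) :=
    Module.Projective.of_equiv e1.symm
  exact Module.free_of_flat_of_isLocalRing

end Groth.Agent.Lib.Helper27.NerB
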