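import Mathlib

/-!
# The conormal injectivity lemma behind Néron's blowup

If `κ(𝔭)` is formally smooth over the residue field `k = R/π`, then an element `g ∈ 𝔭` whose
differential vanishes in `κ(𝔭) ⊗ Ω_{A/R}` lies in `𝔭² + πA` locally at `𝔭`.
-/

namespace Groth.Agent.Lib.Helper27.NerC

universe u

open TensorProduct IsLocalRing

set_option maxHeartbeats 1600000 in
lemma key_abstract {R A k : Type u} [CommRing R] [CommRing A] [Algebra R A] [Field k] [Algebra R k]
    (𝔭 : Ideal A) [𝔭.IsPrime] [Algebra k 𝔭.ResidueField] [IsScalarTower R k 𝔭.ResidueField]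
    [Algebra.FormallySmooth k 𝔭.ResidueField]
    (π : R) (hk : Function.Surjective (algebraMap R k))
    (hkerk : RingHom.ker (algebraMap R k) = Ideal.span {π})
    (g : A) (hg : g ∈ 𝔭)
    (hdg : (1 : 𝔭.ResidueField) ⊗ₜ[A] KaehlerDifferential.D R A g = 0) :
    ∃ s ∉ 𝔭, s * g ∈ 𝔭 ^ 2 ⊔ Ideal.span {algebraMap R A π} := by
  classical
  let Aₚ := Localization.AtPrime 𝔭
  let K := 𝔭.ResidueField
  let 𝔪 : Ideal Aₚ := maximalIdeal Aₚ
  let πₚ : Aₚ := algebraMap R Aₚ π
  let J : Ideal Aₚ := 𝔪 ^ 2 ⊔ Ideal.span {πₚ}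
  let C := Aₚ ⧸ J
  have hπk : algebraMap R k π = 0 := by
    have : π ∈ RingHom.ker (algebraMap R k) := by
      rw [hkerk]; exact Ideal.subset_span (Set.mem_singleton _)
    exact this
  have hπK : algebraMap R K π = 0 := by
    rw [IsScalarTower.algebraMap_apply R k K, hπk, map_zero]
  have hπm : πₚ ∈ 𝔪 := by
    have h1 : residue Aₚ πₚ = 0 := by
      have : residue Aₚ πₚ = algebraMap R K π := rfl
      rw [this, hπK]
    exact (residue_eq_zero_iff _).mp h1
  have hJ : J ≤ 𝔪 := by
    refine sup_le (Ideal.pow_le_self two_ne_zero) ?_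
    rw [Ideal.span_le, Set.singleton_subset_iff]
    exact hπm
  -- k → C
  have hkerC : RingHom.ker (algebraMap R k) ≤ RingHom.ker (algebraMap R C) := by
    rw [hkerk, Ideal.span_le, Set.singleton_subset_iff]
    show algebraMap R C π = 0
    have : algebraMap R C π = Ideal.Quotient.mk J πₚ := rfl
    rw [this, Ideal.Quotient.eq_zero_iff_mem]
    exact Ideal.mem_sup_right (Ideal.subset_span (Set.mem_singleton _))
  let ι : k →+* C := (algebraMap R k).liftOfSurjective hk ⟨algebraMap R C, hkerC⟩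
  have hι : ∀ r : R, ι (algebraMap R k r) = algebraMap R C r := fun r =>
    (algebraMap R k).liftOfSurjective_comp_apply hk ⟨algebraMap R C, hkerC⟩ r
  letI : Algebra k C := ι.toAlgebra
  haveI : IsScalarTower R k C := IsScalarTower.of_algebraMap_eq fun r => (hι r).symm
  -- C → K
  let ρ₀ : C →+* K := Ideal.Quotient.lift J (residue Aₚ) (fun x hx => (residue_eq_zero_iff _).mpr (hJ hx))
  have hρ₀mk : ∀ x : Aₚ, ρ₀ (Ideal.Quotient.mk J x) = residue Aₚ x := fun x => rfl
  let ρ : C →ₐ[k] K :=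
    { ρ₀ with
      commutes' := by
        intro x
        obtain ⟨r, rfl⟩ := hk x
        show ρ₀ (ι (algebraMap R k r)) = _
        rw [hι, ← IsScalarTower.algebraMap_apply R k K]
        rfl }
  have hρmk : ∀ x : Aₚ, ρ (Ideal.Quotient.mk J x) = residue Aₚ x := fun x => rfl
  have hρsurj : Function.Surjective ρ := by
    intro x
    obtain ⟨y, rfl⟩ := residue_surjective x
    exact ⟨Ideal.Quotient.mk J y, rfl⟩
  have hkermul : ∀ n₁ n₂ : C, ρ n₁ = 0 → ρ n₂ = 0 → n₁ * n₂ = 0 := by
    intro n₁ n₂ h₁ h₂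
    obtain ⟨y₁, rfl⟩ := Ideal.Quotient.mk_surjective n₁
    obtain ⟨y₂, rfl⟩ := Ideal.Quotient.mk_surjective n₂
    rw [hρmk, residue_eq_zero_iff] at h₁ h₂
    rw [← map_mul, Ideal.Quotient.eq_zero_iff_mem]
    refine Ideal.mem_sup_left ?_
    rw [pow_two]
    exact Ideal.mul_mem_mul h₁ h₂
  have hnil : IsNilpotent (RingHom.ker (ρ : C →+* K)) := by
    refine ⟨2, ?_⟩
    rw [Ideal.zero_eq_bot, eq_bot_iff]
    have h2 : RingHom.ker (ρ : C →+* K) ^ 2 = RingHom.ker (ρ : C →+* K) * RingHom.ker (ρ : C →+* K) :=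
      pow_two _
    rw [h2, Ideal.mul_le]
    intro n₁ h₁ n₂ h₂
    rw [Ideal.mem_bot]
    exact hkermul n₁ n₂ h₁ h₂
  let σ : K →ₐ[k] C := Algebra.FormallySmooth.liftOfSurjective (AlgHom.id k K) ρ hρsurj hnil
  have hσ : ∀ x : K, ρ (σ x) = x := fun x =>
    Algebra.FormallySmooth.liftOfSurjective_apply (AlgHom.id k K) ρ hρsurj hnil x
  have hσR : ∀ (r : R) (x : K), σ (r • x) = r • σ x := by
    intro r x
    rw [← algebraMap_smul k r x, ← algebraMap_smul k r (σ x), map_smul]
  -- the derivation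
  have hdiff : ∀ a : A, ρ (algebraMap A C a - σ (algebraMap A K a)) = 0 := by
    intro a
    rw [map_sub, hσ, sub_eq_zero]
    rfl
  let D₀lin : A →ₗ[R] C :=
    { toFun := fun a => algebraMap A C a - σ (algebraMap A K a)
      map_add' := fun a b => by simp only [map_add]; ring
      map_smul' := fun r a => by
        simp only [RingHom.id_apply]
        rw [Algebra.smul_def, map_mul, map_mul, ← IsScalarTower.algebraMap_apply,
          ← IsScalarTower.algebraMap_apply, ← Algebra.smul_def, ← Algebra.smul_def, hσR, smul_sub] }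
  let D₀ : Derivation R A C := Derivation.mk' D₀lin (by
    intro a b
    show algebraMap A C (a * b) - σ (algebraMap A K (a * b)) =
      a • (algebraMap A C b - σ (algebraMap A K b)) + b • (algebraMap A C a - σ (algebraMap A K a))
    rw [Algebra.smul_def, Algebra.smul_def, map_mul, map_mul, map_mul]
    have h := hkermul _ _ (hdiff a) (hdiff b)
    linear_combination (-1 : C) * h)
  let ℓ : Ω[A⁄R] →ₗ[A] C := D₀.liftKaehlerDifferential
  have hℓD : ∀ a : A, ℓ (KaehlerDifferential.D R A a) = algebraMap A C a - σ (algebraMap A K a) :=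
    fun a => D₀.liftKaehlerDifferential_comp_D a
  have hℓker : ∀ ω : Ω[A⁄R], ρ (ℓ ω) = 0 := by
    intro ω
    have hω : ω ∈ Submodule.span A (Set.range (KaehlerDifferential.D R A)) := by
      rw [KaehlerDifferential.span_range_derivation]; trivial
    induction hω using Submodule.span_induction with
    | mem x hx =>
      obtain ⟨a, rfl⟩ := hx
      rw [hℓD]; exact hdiff a
    | zero => rw [map_zero, map_zero]
    | add x y _ _ hx hy => rw [map_add, map_add, hx, hy, add_zero]
    | smul c x _ hx => rw [map_smul, Algebra.smul_def, map_mul, hx, mul_zero]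
  let β : K →ₗ[A] Ω[A⁄R] →ₗ[A] C := LinearMap.mk₂ A (fun x ω => σ x * ℓ ω)
    (fun x y ω => by rw [map_add, add_mul])
    (fun a x ω => by
      rw [Algebra.smul_def, map_mul, Algebra.smul_def]
      have h := hkermul _ _ (hdiff a) (hℓker ω)
      linear_combination (-(σ x)) * h)
    (fun x ω ω' => by rw [map_add, mul_add])
    (fun a x ω => by rw [map_smul, mul_smul_comm])
  let Θ : K ⊗[A] Ω[A⁄R] →ₗ[A] C := TensorProduct.lift β
  have hΘ : Θ ((1 : K) ⊗ₜ[A] KaehlerDifferential.D R A g) = algebraMap A C g := by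
    show σ 1 * ℓ (KaehlerDifferential.D R A g) = _
    rw [map_one, one_mul, hℓD]
    have : algebraMap A K g = 0 := Ideal.algebraMap_residueField_eq_zero.mpr hg
    rw [this, map_zero, sub_zero]
  rw [hdg, map_zero] at hΘ
  have hgJ : algebraMap A Aₚ g ∈ J := by
    rw [← Ideal.Quotient.eq_zero_iff_mem]
    exact hΘ.symm
  have hJmap : J = (𝔭 ^ 2 ⊔ Ideal.span {algebraMap R A π}).map (algebraMap A Aₚ) := by
    rw [Ideal.map_sup, Ideal.map_pow, Localization.AtPrime.map_eq_maximalIdeal, Ideal.map_span,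
      Set.image_singleton, ← IsScalarTower.algebraMap_apply]
  rw [hJmap, IsLocalization.mem_map_algebraMap_iff 𝔭.primeCompl] at hgJ
  obtain ⟨⟨⟨j, hj⟩, ⟨s, hs⟩⟩, hjs⟩ := hgJ
  simp only at hjs
  rw [← map_mul, IsLocalization.eq_iff_exists 𝔭.primeCompl] at hjs
  obtain ⟨⟨c, hc⟩, hcs⟩ := hjs
  simp only at hcs
  refine ⟨c * s, fun h => ?_, ?_⟩
  · rcases Ideal.IsPrime.mem_or_mem inferInstance h with h | h
    · exact hc h
    · exact hs h
  · have : c * s * g = c * j := by rw [← hcs]; ring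
    rw [this]
    exact Ideal.mul_mem_left _ _ hj

end Groth.Agent.Lib.Helper27.NerC
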