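import Mathlib
import Groth.Agent.Lib.Helper14.SmoothInsep
import Groth.Agent.Lib.Helper27.NerC

/-!
# The conormal injectivity lemma in the Néron blowup situation
-/

namespace Groth.Agent.Lib.Helper27.NerD

universe u

open TensorProduct IsLocalRing

set_option maxHeartbeats 1600000 in
lemma key {R A Λ : Type u} [CommRing R] [IsLocalRing R] [CommRing A] [Algebra R A]
    [Algebra.FiniteType R A] [CommRing Λ] [IsLocalRing Λ] [Algebra R Λ]
    [IsLocalHom (algebraMap R Λ)] [Algebra A Λ] [IsScalarTower R A Λ]
    (hsep : Algebra.IsGeometricallyReduced (ResidueField R) (ResidueField Λ))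
    (π : R) (hπ : maximalIdeal R = Ideal.span {π})
    (g : A) (hg : g ∈ (maximalIdeal Λ).comap (algebraMap A Λ))
    (hdg : (1 : ((maximalIdeal Λ).comap (algebraMap A Λ)).ResidueField) ⊗ₜ[A]
      KaehlerDifferential.D R A g = 0) :
    ∃ s ∉ (maximalIdeal Λ).comap (algebraMap A Λ),
      s * g ∈ ((maximalIdeal Λ).comap (algebraMap A Λ)) ^ 2 ⊔ Ideal.span {algebraMap R A π} := by
  classical
  let 𝔭 : Ideal A := (maximalIdeal Λ).comap (algebraMap A Λ)
  let B := A ⧸ 𝔭
  let K := 𝔭.ResidueField
  let k := ResidueField R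
  have h₁ : ∀ r ∈ maximalIdeal R, ((Ideal.Quotient.mk 𝔭).comp (algebraMap R A)) r = 0 := by
    intro r hr
    rw [RingHom.comp_apply, Ideal.Quotient.eq_zero_iff_mem, Ideal.mem_comap,
      ← IsScalarTower.algebraMap_apply]
    exact map_nonunit (algebraMap R Λ) r hr
  let φ₁ : k →+* B := Ideal.Quotient.lift (maximalIdeal R) ((Ideal.Quotient.mk 𝔭).comp (algebraMap R A)) h₁
  letI : Algebra k B := φ₁.toAlgebra
  haveI : IsScalarTower R k B := IsScalarTower.of_algebraMap_eq fun r => rfl
  haveI : Algebra.FiniteType R B :=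
    Algebra.FiniteType.of_surjective (Ideal.Quotient.mkₐ R 𝔭) Ideal.Quotient.mk_surjective
  haveI : Algebra.FiniteType k B := Algebra.FiniteType.of_restrictScalars_finiteType R k B
  -- the embedding into the residue field of Λ
  let ψ₀ : B →+* ResidueField Λ := Ideal.Quotient.lift 𝔭 ((residue Λ).comp (algebraMap A Λ)) (by
    intro a ha
    rw [RingHom.comp_apply, residue_eq_zero_iff]
    exact ha)
  have hψ₀inj : Function.Injective ψ₀ := by
    apply RingHom.lift_injective_of_ker_le_ideal
    intro a ha
    rw [RingHom.mem_ker, RingHom.comp_apply, residue_eq_zero_iff] at ha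
    exact ha
  let ψ : B →ₐ[k] ResidueField Λ :=
    { ψ₀ with
      commutes' := by
        intro x
        obtain ⟨r, rfl⟩ := residue_surjective x
        show residue Λ (algebraMap A Λ (algebraMap R A r)) = _
        rw [← IsScalarTower.algebraMap_apply]
        rfl }
  haveI : Algebra.IsGeometricallyReduced k B :=
    Algebra.IsGeometricallyReduced.of_injective ψ hψ₀inj
  haveI : (⊥ : Ideal B).IsPrime := Ideal.isPrime_bot
  have hmin : (⊥ : Ideal B) ∈ minimalPrimes B := by
    rw [IsDomain.minimalPrimes_eq_singleton_bot]; rfl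
  haveI hsm : Algebra.FormallySmooth k (Localization.AtPrime (⊥ : Ideal B)) :=
    Groth.Agent.Lib.Helper14.SmoothInsep.isSmoothAt_of_mem_minimalPrimes k B ⊥ hmin
  letI : Algebra k K := ((algebraMap B K).comp φ₁).toAlgebra
  haveI : IsScalarTower k B K := IsScalarTower.of_algebraMap_eq fun r => rfl
  haveI : IsScalarTower R k K := IsScalarTower.of_algebraMap_eq fun r => by
    show algebraMap R K r = algebraMap B K (algebraMap R B r)
    rw [← IsScalarTower.algebraMap_apply]
  haveI : IsLocalization (⊥ : Ideal B).primeCompl K := by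
    rw [Ideal.primeCompl_bot]
    infer_instance
  let e : Localization.AtPrime (⊥ : Ideal B) ≃ₐ[k] K :=
    (IsLocalization.algEquiv (⊥ : Ideal B).primeCompl (Localization.AtPrime (⊥ : Ideal B)) K).restrictScalars k
  haveI : Algebra.FormallySmooth k K := Algebra.FormallySmooth.of_equiv e
  have hk : Function.Surjective (algebraMap R k) := residue_surjective
  have hkerk : RingHom.ker (algebraMap R k) = Ideal.span {π} := by
    rw [← hπ]
    exact IsLocalRing.ker_residue
  exact NerC.key_abstract 𝔭 π hk hkerk g hg hdg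

end Groth.Agent.Lib.Helper27.NerD
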