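import Mathlib

/-!
# Generators of `𝔭 A_𝔭` from a basis of the span of `d𝔭` in `κ(𝔭) ⊗ Ω`
-/

namespace Groth.Agent.Lib.Helper27.NerE

universe u

open TensorProduct IsLocalRing

variable {R A : Type u} [CommRing R] [CommRing A] [Algebra R A]

/-- the class of `dg` in `κ(𝔭) ⊗ Ω_{A/R}`. -/
noncomputable def δ (𝔭 : Ideal A) [𝔭.IsPrime] (g : A) : 𝔭.ResidueField ⊗[A] Ω[A⁄R] :=
  (1 : 𝔭.ResidueField) ⊗ₜ[A] KaehlerDifferential.D R A g

variable (𝔭 : Ideal A) [𝔭.IsPrime]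

lemma one_tmul_smul (u : A) (ω : Ω[A⁄R]) :
    (1 : 𝔭.ResidueField) ⊗ₜ[A] (u • ω) = algebraMap A 𝔭.ResidueField u • ((1 : 𝔭.ResidueField) ⊗ₜ[A] ω) := by
  rw [TensorProduct.tmul_smul, algebraMap_smul]

lemma δ_mul (u w : A) :
    δ (R := R) 𝔭 (u * w) = algebraMap A 𝔭.ResidueField u • δ 𝔭 w +
      algebraMap A 𝔭.ResidueField w • δ 𝔭 u := by
  unfold δ
  rw [Derivation.leibniz, TensorProduct.tmul_add, one_tmul_smul, one_tmul_smul]

lemma δ_mul_of_mem (u w : A) (hw : w ∈ 𝔭) :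
    δ (R := R) 𝔭 (u * w) = algebraMap A 𝔭.ResidueField u • δ 𝔭 w := by
  rw [δ_mul, Ideal.algebraMap_residueField_eq_zero.mpr hw, zero_smul, add_zero]

lemma δ_sub (u w : A) : δ (R := R) 𝔭 (u - w) = δ 𝔭 u - δ 𝔭 w := by
  unfold δ
  rw [map_sub, TensorProduct.tmul_sub]

lemma δ_sum {ι : Type*} (s : Finset ι) (f : ι → A) :
    δ (R := R) 𝔭 (∑ i ∈ s, f i) = ∑ i ∈ s, δ 𝔭 (f i) := by
  unfold δ
  rw [map_sum, TensorProduct.tmul_sum]

lemma exists_denom (x : 𝔭.ResidueField) :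
    ∃ n d : A, d ∉ 𝔭 ∧ x * algebraMap A 𝔭.ResidueField d = algebraMap A 𝔭.ResidueField n := by
  obtain ⟨y, rfl⟩ := residue_surjective x
  obtain ⟨n, ⟨d, hd⟩, rfl⟩ := IsLocalization.exists_mk'_eq 𝔭.primeCompl y
  refine ⟨n, d, hd, ?_⟩
  have h := IsLocalization.mk'_spec (Localization.AtPrime 𝔭) n (⟨d, hd⟩ : 𝔭.primeCompl)
  have h2 := congrArg (residue (Localization.AtPrime 𝔭)) h
  rw [map_mul] at h2
  exact h2

lemma exists_common_denom {ι : Type*} [Fintype ι] (l : ι → 𝔭.ResidueField) :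
    ∃ s ∉ 𝔭, ∃ a' : ι → A, ∀ i, l i * algebraMap A 𝔭.ResidueField s =
      algebraMap A 𝔭.ResidueField (a' i) := by
  classical
  have key : ∀ T : Finset ι, ∃ s ∉ 𝔭, ∀ i ∈ T, ∃ a : A,
      l i * algebraMap A 𝔭.ResidueField s = algebraMap A 𝔭.ResidueField a := by
    intro T
    induction T using Finset.induction_on with
    | empty => exact ⟨1, fun h => (Ideal.IsPrime.ne_top inferInstance) ((Ideal.eq_top_iff_one _).mpr h), fun i hi => absurd hi (Finset.notMem_empty i)⟩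
    | insert j T hj ih =>
      obtain ⟨s, hs, hT⟩ := ih
      obtain ⟨n, d, hd, hnd⟩ := exists_denom 𝔭 (l j)
      refine ⟨s * d, fun h => ?_, ?_⟩
      · rcases Ideal.IsPrime.mem_or_mem inferInstance h with h | h
        · exact hs h
        · exact hd h
      · intro i hi
        rw [Finset.mem_insert] at hi
        rcases hi with rfl | hi
        · refine ⟨s * n, ?_⟩
          rw [map_mul, map_mul, ← hnd]; ring
        · obtain ⟨a, ha⟩ := hT i hi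
          refine ⟨a * d, ?_⟩
          rw [map_mul, map_mul, ← ha]; ring
  obtain ⟨s, hs, h⟩ := key Finset.univ
  choose a' ha' using fun i => h i (Finset.mem_univ i)
  exact ⟨s, hs, a', ha'⟩

set_option maxHeartbeats 1600000 in
lemma nak [IsNoetherianRing A] (a : A) (ha : a ∈ 𝔭)
    (KEY : ∀ g ∈ 𝔭, δ (R := R) 𝔭 g = 0 → ∃ s ∉ 𝔭, s * g ∈ 𝔭 ^ 2 ⊔ Ideal.span {a})
    {ι : Type*} [Fintype ι] (gg : ι → A) (hgg : ∀ i, gg i ∈ 𝔭)
    (hspan : ∀ x ∈ 𝔭, δ (R := R) 𝔭 x ∈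
      Submodule.span 𝔭.ResidueField (Set.range fun i => δ (R := R) 𝔭 (gg i)))
    (x : A) (hx : x ∈ 𝔭) :
    ∃ s ∉ 𝔭, s * x ∈ Ideal.span {a} ⊔ Ideal.span (Set.range gg) := by
  classical
  let Aₚ := Localization.AtPrime 𝔭
  let K := 𝔭.ResidueField
  let 𝔪 : Ideal Aₚ := maximalIdeal Aₚ
  let J₀ : Ideal A := Ideal.span {a} ⊔ Ideal.span (Set.range gg)
  let J₀ₚ : Ideal Aₚ := J₀.map (algebraMap A Aₚ)
  have hggJ : ∀ i, gg i ∈ J₀ := fun i =>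
    Ideal.mem_sup_right (Ideal.subset_span ⟨i, rfl⟩)
  have haJ : a ∈ J₀ := Ideal.mem_sup_left (Ideal.subset_span (Set.mem_singleton _))
  have hm : 𝔪 = 𝔭.map (algebraMap A Aₚ) := (Localization.AtPrime.map_eq_maximalIdeal).symm
  have hstep : ∀ x ∈ 𝔭, algebraMap A Aₚ x ∈ J₀ₚ ⊔ 𝔪 • 𝔪 := by
    intro x hx
    obtain ⟨l, hl⟩ := (Submodule.mem_span_range_iff_exists_fun K).mp (hspan x hx)
    obtain ⟨s, hs, a', ha'⟩ := exists_common_denom 𝔭 l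
    let y : A := s * x - ∑ i, a' i * gg i
    have hy : y ∈ 𝔭 := by
      refine Ideal.sub_mem _ (Ideal.mul_mem_left _ _ hx) (Ideal.sum_mem _ fun i _ => ?_)
      exact Ideal.mul_mem_left _ _ (hgg i)
    have hδy : δ (R := R) 𝔭 y = 0 := by
      show δ 𝔭 (s * x - ∑ i, a' i * gg i) = 0
      rw [δ_sub, δ_sum, δ_mul_of_mem 𝔭 s x hx, ← hl, Finset.smul_sum, ← Finset.sum_sub_distrib]
      refine Finset.sum_eq_zero fun i _ => ?_
      rw [δ_mul_of_mem 𝔭 (a' i) (gg i) (hgg i), ← ha' i, smul_smul, mul_comm, sub_self]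
    obtain ⟨t, ht, hty⟩ := KEY y hy hδy
    have h1 : algebraMap A Aₚ (t * y) ∈ J₀ₚ ⊔ 𝔪 • 𝔪 := by
      have h2 : algebraMap A Aₚ (t * y) ∈ (𝔭 ^ 2 ⊔ Ideal.span {a}).map (algebraMap A Aₚ) :=
        Ideal.mem_map_of_mem _ hty
      rw [Ideal.map_sup, Ideal.map_pow, ← hm, pow_two] at h2
      refine (sup_le ?_ ?_ : 𝔪 * 𝔪 ⊔ (Ideal.span {a}).map (algebraMap A Aₚ) ≤ J₀ₚ ⊔ 𝔪 • 𝔪) h2
      · exact le_sup_right
      · exact le_trans (Ideal.map_mono le_sup_left) le_sup_left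
    have htu : IsUnit (algebraMap A Aₚ t) :=
      IsLocalization.map_units Aₚ (⟨t, ht⟩ : 𝔭.primeCompl)
    have hsu : IsUnit (algebraMap A Aₚ s) :=
      IsLocalization.map_units Aₚ (⟨s, hs⟩ : 𝔭.primeCompl)
    rw [map_mul, Ideal.unit_mul_mem_iff_mem _ htu] at h1
    have h3 : algebraMap A Aₚ (∑ i, a' i * gg i) ∈ J₀ₚ ⊔ 𝔪 • 𝔪 := by
      refine Ideal.mem_sup_left (Ideal.mem_map_of_mem _ ?_)
      exact Ideal.sum_mem _ fun i _ => Ideal.mul_mem_left _ _ (hggJ i)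
    have h4 : algebraMap A Aₚ (s * x) ∈ J₀ₚ ⊔ 𝔪 • 𝔪 := by
      have : s * x = y + ∑ i, a' i * gg i := by show s * x = s * x - _ + _; ring
      rw [this, map_add]
      exact Ideal.add_mem _ h1 h3
    rw [map_mul, Ideal.unit_mul_mem_iff_mem _ hsu] at h4
    exact h4
  have h' : 𝔭.map (algebraMap A Aₚ) ≤ J₀ₚ ⊔ 𝔪 • 𝔪 :=
    Ideal.map_le_iff_le_comap.mpr fun x hx => hstep x hx
  have h'' : 𝔪 ≤ J₀ₚ ⊔ 𝔪 • 𝔪 := by
    intro z hz
    have hz' : z ∈ 𝔭.map (algebraMap A Aₚ) := hm ▸ hz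
    exact h' hz'
  have hle : 𝔪 ≤ J₀ₚ :=
    Submodule.le_of_le_smul_of_le_jacobson_bot (IsNoetherian.noetherian 𝔪)
      (IsLocalRing.maximalIdeal_le_jacobson _) h''
  have hxJ : algebraMap A Aₚ x ∈ J₀ₚ := hle (by rw [hm]; exact Ideal.mem_map_of_mem _ hx)
  rw [IsLocalization.mem_map_algebraMap_iff 𝔭.primeCompl] at hxJ
  obtain ⟨⟨⟨j, hj⟩, ⟨s, hs⟩⟩, hjs⟩ := hxJ
  simp only at hjs
  rw [← map_mul, IsLocalization.eq_iff_exists 𝔭.primeCompl] at hjs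
  obtain ⟨⟨c, hc⟩, hcs⟩ := hjs
  simp only at hcs
  refine ⟨c * s, fun h => ?_, ?_⟩
  · rcases Ideal.IsPrime.mem_or_mem inferInstance h with h | h
    · exact hc h
    · exact hs h
  · have : c * s * x = c * j := by rw [← hcs]; ring
    rw [this]
    exact Ideal.mul_mem_left _ _ hj

end Groth.Agent.Lib.Helper27.NerE
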