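import Mathlib
import Groth.Prelude.Def_BlowUp2
import Groth.Agent.Lib.Helper27.NerA
import Groth.Agent.Lib.Helper27.NerE

/-!
# The fibre rank of differentials does not grow under Néron's blowup
-/

namespace Groth.Agent.Lib.Helper27.NerF

universe u

open TensorProduct IsLocalRing
open Groth.Agent.Lib.Helper27.NerA Groth.Agent.Lib.Helper27.NerE

variable {R A : Type u} [CommRing R] [CommRing A] [Algebra R A]

section Theta

variable (𝔭 : Ideal A) [𝔭.IsPrime] {A' : Type u} [CommRing A'] [Algebra A A'] [Algebra R A']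
  [IsScalarTower R A A'] (𝔭' : Ideal A') [𝔭'.IsPrime] [Algebra 𝔭.ResidueField 𝔭'.ResidueField]
  [IsScalarTower A 𝔭.ResidueField 𝔭'.ResidueField]

/-- the comparison map `κ(𝔭) ⊗ Ω_{A/R} → κ(𝔭') ⊗ Ω_{A'/R}` (additive, semilinear). -/
noncomputable def Θ : 𝔭.ResidueField ⊗[A] Ω[A⁄R] →+ 𝔭'.ResidueField ⊗[A'] Ω[A'⁄R] :=
  TensorProduct.liftAddHom
    { toFun := fun l =>
        { toFun := fun ω => algebraMap 𝔭.ResidueField 𝔭'.ResidueField l ⊗ₜ[A']
            KaehlerDifferential.map R R A A' ω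
          map_zero' := by rw [map_zero, TensorProduct.tmul_zero]
          map_add' := fun ω ω' => by rw [map_add, TensorProduct.tmul_add] }
      map_zero' := by
        ext ω
        show algebraMap 𝔭.ResidueField 𝔭'.ResidueField 0 ⊗ₜ[A'] _ = 0
        rw [map_zero, TensorProduct.zero_tmul]
      map_add' := fun l l' => by
        ext ω
        show algebraMap 𝔭.ResidueField 𝔭'.ResidueField (l + l') ⊗ₜ[A'] _ = _ ⊗ₜ[A'] _ + _ ⊗ₜ[A'] _
        rw [map_add, TensorProduct.add_tmul] }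
    (by
      intro r l ω
      show algebraMap 𝔭.ResidueField 𝔭'.ResidueField (r • l) ⊗ₜ[A'] KaehlerDifferential.map R R A A' ω =
        algebraMap 𝔭.ResidueField 𝔭'.ResidueField l ⊗ₜ[A'] KaehlerDifferential.map R R A A' (r • ω)
      rw [Algebra.smul_def r l, map_mul, ← IsScalarTower.algebraMap_apply A 𝔭.ResidueField 𝔭'.ResidueField,
        IsScalarTower.algebraMap_apply A A' 𝔭'.ResidueField, ← Algebra.smul_def,
        TensorProduct.smul_tmul, LinearMap.map_smul, algebraMap_smul])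

lemma Θ_tmul (l : 𝔭.ResidueField) (ω : Ω[A⁄R]) :
    Θ (R := R) 𝔭 𝔭' (l ⊗ₜ[A] ω) = algebraMap 𝔭.ResidueField 𝔭'.ResidueField l ⊗ₜ[A']
      KaehlerDifferential.map R R A A' ω := rfl

lemma Θ_smul (l : 𝔭.ResidueField) (n : 𝔭.ResidueField ⊗[A] Ω[A⁄R]) :
    Θ (R := R) 𝔭 𝔭' (l • n) = algebraMap 𝔭.ResidueField 𝔭'.ResidueField l • Θ (R := R) 𝔭 𝔭' n := by
  induction n using TensorProduct.induction_on with
  | zero => rw [smul_zero, map_zero, smul_zero]
  | tmul x ω =>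
    rw [TensorProduct.smul_tmul', Θ_tmul, Θ_tmul, TensorProduct.smul_tmul', smul_eq_mul, map_mul,
      smul_eq_mul]
  | add x y hx hy => rw [smul_add, map_add, map_add, hx, hy, smul_add]

lemma Θ_δ (g : A) :
    Θ (R := R) 𝔭 𝔭' (δ 𝔭 g) = (1 : 𝔭'.ResidueField) ⊗ₜ[A'] KaehlerDifferential.D R A' (algebraMap A A' g) := by
  unfold δ
  rw [Θ_tmul, map_one, KaehlerDifferential.map_D]

end Theta

section Core

variable [Algebra.FiniteType R A] [IsNoetherianRing A] (𝔭 : Ideal A) [𝔭.IsPrime] (a : A)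
  {A' : Type u} [CommRing A'] [Algebra A A'] [Algebra R A'] [IsScalarTower R A A']
  (𝔭' : Ideal A') [𝔭'.IsPrime]

local notation "K" => Ideal.ResidueField 𝔭
local notation "N" => Ideal.ResidueField 𝔭 ⊗[A] Ω[A⁄R]
local notation "F'" => Ideal.ResidueField 𝔭'
local notation "V" => Ideal.ResidueField 𝔭' ⊗[A'] Ω[A'⁄R]

omit [Algebra.FiniteType R A] [IsNoetherianRing A] [𝔭.IsPrime] [IsScalarTower R A A'] in
lemma htm (y : A') (ω : Ω[A'⁄R]) :
    (1 : F') ⊗ₜ[A'] (y • ω) = algebraMap A' F' y • ((1 : F') ⊗ₜ[A'] ω) := by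
  rw [TensorProduct.tmul_smul, algebraMap_smul]

omit [Algebra.FiniteType R A] [IsNoetherianRing A] [𝔭.IsPrime] [IsScalarTower R A A'] in
lemma hleib (x y : A') : (1 : F') ⊗ₜ[A'] KaehlerDifferential.D R A' (x * y) =
    algebraMap A' F' x • ((1 : F') ⊗ₜ[A'] KaehlerDifferential.D R A' y) +
      algebraMap A' F' y • ((1 : F') ⊗ₜ[A'] KaehlerDifferential.D R A' x) := by
  rw [Derivation.leibniz, TensorProduct.tmul_add, htm, htm]

/-- the step for generators of the blowup algebra. -/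
lemma gen_step (Sp : Submodule F' V)
    (halg : ∀ r : A, (1 : F') ⊗ₜ[A'] KaehlerDifferential.D R A' (algebraMap A A' r) ∈ Sp)
    {ι : Type*} [Fintype ι] (f : ι → A') (hf : ∀ i, (1 : F') ⊗ₜ[A'] KaehlerDifferential.D R A' (f i) ∈ Sp)
    (s c₀ : A) (c : ι → A) (X : A')
    (hid : algebraMap A A' s * X = algebraMap A A' c₀ + ∑ i, algebraMap A A' (c i) * f i)
    (hne : algebraMap A' F' (algebraMap A A' s) ≠ 0) :
    (1 : F') ⊗ₜ[A'] KaehlerDifferential.D R A' X ∈ Sp := by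
  have hmulmem : ∀ (c : A) (f : A'), (1 : F') ⊗ₜ[A'] KaehlerDifferential.D R A' f ∈ Sp →
      (1 : F') ⊗ₜ[A'] KaehlerDifferential.D R A' (algebraMap A A' c * f) ∈ Sp := by
    intro c f hf
    rw [hleib]
    exact Sp.add_mem (Sp.smul_mem _ hf) (Sp.smul_mem _ (halg c))
  have e1 : KaehlerDifferential.D R A' (algebraMap A A' c₀ + ∑ i, algebraMap A A' (c i) * f i) =
      KaehlerDifferential.D R A' (algebraMap A A' c₀) +
        ∑ i, KaehlerDifferential.D R A' (algebraMap A A' (c i) * f i) := by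
    rw [map_add, map_sum]
  have hR : (1 : F') ⊗ₜ[A'] KaehlerDifferential.D R A'
      (algebraMap A A' c₀ + ∑ i, algebraMap A A' (c i) * f i) ∈ Sp := by
    rw [e1, TensorProduct.tmul_add, TensorProduct.tmul_sum]
    refine Sp.add_mem (halg c₀) (Sp.sum_mem fun i _ => ?_)
    exact hmulmem (c i) _ (hf i)
  have hL : (1 : F') ⊗ₜ[A'] KaehlerDifferential.D R A' (algebraMap A A' s * X) ∈ Sp := by
    rw [hid]; exact hR
  rw [hleib] at hL
  have h2 : algebraMap A' F' (algebraMap A A' s) •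
      ((1 : F') ⊗ₜ[A'] KaehlerDifferential.D R A' X) ∈ Sp := by
    have h3 := Sp.sub_mem hL (Sp.smul_mem (algebraMap A' F' X) (halg s))
    rwa [add_sub_cancel_right] at h3
  exact (Submodule.smul_mem_iff _ hne).mp h2

set_option maxHeartbeats 1600000 in
lemma core_abstract (ha𝔭 : a ∈ 𝔭) (hDa : KaehlerDifferential.D R A' (algebraMap A A' a) = 0)
    (KEY : ∀ g ∈ 𝔭, δ (R := R) 𝔭 g = 0 → ∃ s ∉ 𝔭, s * g ∈ 𝔭 ^ 2 ⊔ Ideal.span {a})
    (fr : 𝔭 → A') (hfr : ∀ x : 𝔭, algebraMap A A' a * fr x = algebraMap A A' x)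
    (hgenA : Algebra.adjoin A (Set.range fr) = ⊤)
    (hcancel : ∀ u v : A', algebraMap A A' a * u = algebraMap A A' a * v → u = v)
    (h𝔭' : 𝔭 = 𝔭'.comap (algebraMap A A')) :
    Module.finrank F' V ≤ Module.finrank K N := by
  classical
  letI : Algebra K F' := (Ideal.ResidueField.map 𝔭 𝔭' (algebraMap A A') h𝔭').toAlgebra
  haveI : IsScalarTower A K F' := IsScalarTower.of_algebraMap_eq fun r => by
    show algebraMap A F' r = Ideal.ResidueField.map 𝔭 𝔭' (algebraMap A A') h𝔭' (algebraMap A K r)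
    rw [Ideal.ResidueField.map_algebraMap, ← IsScalarTower.algebraMap_apply]
  -- basis
  let s₁ : Set N := (fun g => δ (R := R) 𝔭 g) '' (𝔭 : Set A)
  obtain ⟨b₁, hb₁s, hb₁span, hb₁li⟩ := exists_linearIndependent K s₁
  have hli : LinearIndepOn K id b₁ := hb₁li
  let b₂ : Set N := hli.extend (Set.subset_univ b₁)
  have hb₁₂ : b₁ ⊆ b₂ := hli.subset_extend _
  let bas : Module.Basis b₂ K N := Module.Basis.extend hli
  haveI : Finite b₂ := Module.Finite.finite_basis bas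
  haveI : Fintype b₂ := Fintype.ofFinite _
  haveI : Finite b₁ := Finite.Set.subset b₂ hb₁₂
  haveI : Fintype b₁ := Fintype.ofFinite _
  have hcard : Module.finrank K N = Fintype.card b₂ := Module.finrank_eq_card_basis bas
  choose gg hgg𝔭 hggδ using fun n : b₁ => hb₁s n.2
  have hggδ' : ∀ n : b₁, δ (R := R) 𝔭 (gg n) = n.1 := hggδ
  let v : b₂ → V := fun n =>
    if h : n.1 ∈ b₁ then (1 : F') ⊗ₜ[A'] KaehlerDifferential.D R A' (fr ⟨gg ⟨n.1, h⟩, hgg𝔭 ⟨n.1, h⟩⟩)
    else Θ (R := R) 𝔭 𝔭' n.1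
  let Sp : Submodule F' V := Submodule.span F' (Set.range v)
  suffices hSp : Sp = ⊤ by
    calc Module.finrank F' V = Module.finrank F' (⊤ : Submodule F' V) := (finrank_top F' V).symm
      _ = Module.finrank F' Sp := by rw [hSp]
      _ ≤ Fintype.card b₂ := finrank_range_le_card v
      _ = Module.finrank K N := hcard.symm
  have ha' : algebraMap A' F' (algebraMap A A' a) = 0 := by
    rw [Ideal.algebraMap_residueField_eq_zero]
    have : a ∈ 𝔭'.comap (algebraMap A A') := h𝔭' ▸ ha𝔭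
    exact this
  have hvb₁ : ∀ n : b₁, (1 : F') ⊗ₜ[A'] KaehlerDifferential.D R A'
      (fr ⟨gg n, hgg𝔭 n⟩) ∈ Sp := by
    intro n
    refine Submodule.subset_span ⟨⟨n.1, hb₁₂ n.2⟩, ?_⟩
    show (if h : n.1 ∈ b₁ then (1 : F') ⊗ₜ[A'] KaehlerDifferential.D R A'
      (fr ⟨gg ⟨n.1, h⟩, hgg𝔭 ⟨n.1, h⟩⟩) else Θ (R := R) 𝔭 𝔭' n.1) = _
    rw [dif_pos n.2]
  have hΘb : ∀ n : b₂, Θ (R := R) 𝔭 𝔭' n.1 ∈ Sp := by
    intro n
    by_cases h : n.1 ∈ b₁
    · have h1 : n.1 = δ 𝔭 (gg ⟨n.1, h⟩) := (hggδ' ⟨n.1, h⟩).symm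
      rw [h1, Θ_δ, ← hfr ⟨gg ⟨n.1, h⟩, hgg𝔭 ⟨n.1, h⟩⟩, hleib, hDa,
        TensorProduct.tmul_zero, smul_zero, add_zero, ha', zero_smul]
      exact Sp.zero_mem
    · refine Submodule.subset_span ⟨n, ?_⟩
      show (if h : n.1 ∈ b₁ then (1 : F') ⊗ₜ[A'] KaehlerDifferential.D R A'
        (fr ⟨gg ⟨n.1, h⟩, hgg𝔭 ⟨n.1, h⟩⟩) else Θ (R := R) 𝔭 𝔭' n.1) = _
      rw [dif_neg h]
  have hΘ : ∀ n : N, Θ (R := R) 𝔭 𝔭' n ∈ Sp := by
    intro n
    have hn : n ∈ Submodule.span K (Set.range bas) := by rw [bas.span_eq]; trivial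
    induction hn using Submodule.span_induction with
    | mem x hx =>
      obtain ⟨m, rfl⟩ := hx
      rw [show bas m = m.1 from Module.Basis.extend_apply_self _ m]
      exact hΘb m
    | zero => rw [map_zero]; exact Sp.zero_mem
    | add x y _ _ hx hy => rw [map_add]; exact Sp.add_mem hx hy
    | smul c x _ hx => rw [Θ_smul]; exact Sp.smul_mem _ hx
  have halg : ∀ r : A, (1 : F') ⊗ₜ[A'] KaehlerDifferential.D R A' (algebraMap A A' r) ∈ Sp := by
    intro r
    rw [← Θ_δ 𝔭 𝔭' r]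
    exact hΘ _
  have hspan' : ∀ x ∈ 𝔭, δ (R := R) 𝔭 x ∈
      Submodule.span K (Set.range fun i : b₁ => δ (R := R) 𝔭 (gg i)) := by
    intro x hx
    have h1 : (fun i : b₁ => δ (R := R) 𝔭 (gg i)) = Subtype.val := funext hggδ'
    rw [h1, Subtype.range_coe, hb₁span]
    exact Submodule.subset_span ⟨x, hx, rfl⟩
  have hgen : ∀ x : 𝔭, (1 : F') ⊗ₜ[A'] KaehlerDifferential.D R A' (fr x) ∈ Sp := by
    rintro ⟨x, hx⟩
    obtain ⟨s, hs, hsx⟩ := nak (R := R) 𝔭 a ha𝔭 KEY gg hgg𝔭 hspan' x hx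
    obtain ⟨y, hy, z, hz, hyz⟩ := Submodule.mem_sup.mp hsx
    obtain ⟨c₀, rfl⟩ := Ideal.mem_span_singleton'.mp hy
    obtain ⟨c, rfl⟩ := (Ideal.mem_span_range_iff_exists_fun).mp hz
    have hid : algebraMap A A' s * fr ⟨x, hx⟩ =
        algebraMap A A' c₀ + ∑ i, algebraMap A A' (c i) * fr ⟨gg i, hgg𝔭 i⟩ := by
      apply hcancel
      rw [mul_left_comm, hfr, ← map_mul, ← hyz, map_add, map_mul, map_sum, mul_add,
        Finset.mul_sum]
      congr 1
      · ring
      · refine Finset.sum_congr rfl fun i _ => ?_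
        rw [mul_left_comm, hfr, map_mul]
    have hne : algebraMap A' F' (algebraMap A A' s) ≠ 0 := by
      rw [Ne, Ideal.algebraMap_residueField_eq_zero]
      intro hmem
      apply hs
      rw [h𝔭']
      exact hmem
    exact gen_step 𝔭' Sp halg (fun i => fr ⟨gg i, hgg𝔭 i⟩) hvb₁ s c₀ c _ hid hne
  have hall : ∀ x' : A', (1 : F') ⊗ₜ[A'] KaehlerDifferential.D R A' x' ∈ Sp := by
    intro x'
    have hx' : x' ∈ Algebra.adjoin A (Set.range fr) := by rw [hgenA]; trivial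
    induction hx' using Algebra.adjoin_induction with
    | mem z hz => obtain ⟨x, rfl⟩ := hz; exact hgen x
    | algebraMap r => exact halg r
    | add z w _ _ ihz ihw =>
      rw [map_add, TensorProduct.tmul_add]
      exact Sp.add_mem ihz ihw
    | mul z w _ _ ihz ihw =>
      rw [hleib]
      exact Sp.add_mem (Sp.smul_mem _ ihw) (Sp.smul_mem _ ihz)
  rw [eq_top_iff]
  rintro w -
  induction w using TensorProduct.induction_on with
  | zero => exact Sp.zero_mem
  | tmul l ω =>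
    have hω : ω ∈ Submodule.span A' (Set.range (KaehlerDifferential.D R A')) := by
      rw [KaehlerDifferential.span_range_derivation]; trivial
    have h1 : (1 : F') ⊗ₜ[A'] ω ∈ Sp := by
      induction hω using Submodule.span_induction with
      | mem x hx => obtain ⟨x', rfl⟩ := hx; exact hall x'
      | zero => rw [TensorProduct.tmul_zero]; exact Sp.zero_mem
      | add x y _ _ hx hy => rw [TensorProduct.tmul_add]; exact Sp.add_mem hx hy
      | smul c x _ hx => rw [htm]; exact Sp.smul_mem _ hx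
    have : l ⊗ₜ[A'] ω = l • ((1 : F') ⊗ₜ[A'] ω) := by
      rw [TensorProduct.smul_tmul', smul_eq_mul, mul_one]
    rw [this]
    exact Sp.smul_mem _ h1
  | add x y hx hy => exact Sp.add_mem hx hy

end Core

end Groth.Agent.Lib.Helper27.NerF
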