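import Mathlib
import Groth.Prelude.Def_BlowUp2
import Groth.Agent.Lib.Helper27.NerA
import Groth.Agent.Lib.Helper27.NerD
import Groth.Agent.Lib.Helper27.NerE
import Groth.Agent.Lib.Helper27.NerF

/-!
# The fibre rank inequality for Néron's blowup, concrete form
-/

namespace Groth.Agent.Lib.Helper27.NerG

universe u

open TensorProduct IsLocalRing
open Groth.Agent.Lib.Helper27.NerA Groth.Agent.Lib.Helper27.NerE

variable {A : Type u} [CommRing A] (I : Ideal A) (a : A)

/-- the fractions `x/a`, `x ∈ I`, generate the blowup algebra (as a statement inside it). -/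
lemma adjoin_range_fracA :
    Algebra.adjoin A (Set.range fun x : I => fracA I a x.2) = ⊤ := by
  rw [eq_top_iff]
  rintro ⟨z, hz⟩ -
  refine Algebra.adjoin_induction
    (p := fun z hz => (⟨z, hz⟩ : BlowUp.affineAlgebra A I a) ∈
      Algebra.adjoin A (Set.range fun x : I => fracA I a x.2)) ?_ ?_ ?_ ?_ hz
  · rintro z ⟨x, hx, rfl⟩
    exact Algebra.subset_adjoin ⟨⟨x, hx⟩, rfl⟩
  · intro r
    exact Subalgebra.algebraMap_mem _ r
  · intro z w hz hw ihz ihw
    exact Subalgebra.add_mem _ ihz ihw
  · intro z w hz hw ihz ihw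
    exact Subalgebra.mul_mem _ ihz ihw

lemma cancel_a (u v : BlowUp.affineAlgebra A I a)
    (h : algebraMap A (BlowUp.affineAlgebra A I a) a * u =
      algebraMap A (BlowUp.affineAlgebra A I a) a * v) : u = v := by
  apply Subtype.ext
  have hu : IsUnit (algebraMap A (Localization.Away a) a) := IsLocalization.Away.algebraMap_isUnit _
  apply hu.mul_left_cancel
  exact congrArg Subtype.val h

variable {R Λ : Type u} [CommRing R] [IsLocalRing R] [Algebra R A] [Algebra.FiniteType R A]
  [IsNoetherianRing A] [CommRing Λ] [IsLocalRing Λ] [Algebra R Λ] [IsLocalHom (algebraMap R Λ)]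
  [Algebra A Λ] [IsScalarTower R A Λ]

set_option maxHeartbeats 1600000 in
lemma rank_le (hsep : Algebra.IsGeometricallyReduced (ResidueField R) (ResidueField Λ))
    (π : R) (hπ : maximalIdeal R = Ideal.span {π})
    (𝔭' : Ideal (BlowUp.affineAlgebra A ((maximalIdeal Λ).comap (algebraMap A Λ)) (algebraMap R A π)))
    [𝔭'.IsPrime]
    (h𝔭' : (maximalIdeal Λ).comap (algebraMap A Λ) = 𝔭'.comap (algebraMap A _)) :
    Module.finrank 𝔭'.ResidueField (𝔭'.ResidueField ⊗[BlowUp.affineAlgebra A
        ((maximalIdeal Λ).comap (algebraMap A Λ)) (algebraMap R A π)]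
        Ω[BlowUp.affineAlgebra A ((maximalIdeal Λ).comap (algebraMap A Λ)) (algebraMap R A π)⁄R]) ≤
      Module.finrank ((maximalIdeal Λ).comap (algebraMap A Λ)).ResidueField
        (((maximalIdeal Λ).comap (algebraMap A Λ)).ResidueField ⊗[A] Ω[A⁄R]) := by
  have hπ𝔭 : algebraMap R A π ∈ (maximalIdeal Λ).comap (algebraMap A Λ) := by
    rw [Ideal.mem_comap, ← IsScalarTower.algebraMap_apply]
    refine map_nonunit (algebraMap R Λ) π ?_
    rw [hπ]
    exact Ideal.subset_span (Set.mem_singleton _)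
  refine NerF.core_abstract (R := R) ((maximalIdeal Λ).comap (algebraMap A Λ)) (algebraMap R A π) 𝔭' hπ𝔭
    ?_ ?_ (fun x => fracA _ (algebraMap R A π) x.2) ?_ (adjoin_range_fracA _ _) (cancel_a _ _) h𝔭'
  · rw [← IsScalarTower.algebraMap_apply R A]
    exact Derivation.map_algebraMap _ _
  · intro g hg hδ
    exact NerD.key hsep π hπ g hg hδ
  · intro x
    exact algebraMap_mul_fracA _ _ x.2

end Groth.Agent.Lib.Helper27.NerG
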