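import Mathlib
import Groth.Prelude.Def_BlowUp2
import Groth.Agent.Lib.Helper27.NerA
import Groth.Agent.Lib.Helper27.NerB
import Groth.Agent.Lib.Helper27.NerG

/-!
# Néron's blowup: structure of `A'`, the generic point `𝔮'` and the ranks
-/

namespace Groth.Agent.Lib.Helper27.NerH

universe u

open TensorProduct IsLocalRing
open Groth.Agent.Lib.Helper27.NerA Groth.Agent.Lib.Helper27.NerB

section Flat

variable {R A : Type u} [CommRing R] [IsDomain R] [IsDedekindDomain R] [CommRing A] [Algebra R A]
  [Module.Flat R A] (I : Ideal A) (a : A)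

lemma flat_affineAlgebra : Module.Flat R (BlowUp.affineAlgebra A I a) := by
  haveI : Module.Flat A (Localization.Away a) := IsLocalization.flat _ (Submonoid.powers a)
  haveI : Module.Flat R (Localization.Away a) := Module.Flat.trans R A _
  haveI : Module.IsTorsionFree R (BlowUp.affineAlgebra A I a) :=
    Function.Injective.moduleIsTorsionFree (N := Localization.Away a) Subtype.val
      Subtype.val_injective (fun r m => rfl)
  infer_instance

end Flat

section Main

variable {R Λ A : Type u} [CommRing R] [IsDomain R] [IsDiscreteValuationRing R] [CommRing Λ]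
  [IsDomain Λ] [IsDiscreteValuationRing Λ] [Algebra R Λ] [NoZeroSMulDivisors R Λ]
  [IsLocalHom (algebraMap R Λ)]
  [CommRing A] [Algebra R A] [Module.Flat R A] [Algebra.FiniteType R A] [Algebra A Λ]
  [IsScalarTower R A Λ]

local notation "𝔭" => Ideal.comap (algebraMap A Λ) (IsLocalRing.maximalIdeal Λ)

set_option maxHeartbeats 3200000 in
/-- the data needed to apply the specialization criterion of smoothness. -/
theorem exists_generic_prime
    (hsep : Algebra.IsGeometricallyReduced (IsLocalRing.ResidueField R) (IsLocalRing.ResidueField Λ))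
    (π : R) (hπ : IsLocalRing.maximalIdeal R = Ideal.span {π})
    (hsm : Algebra.IsSmoothAt R 𝔭)
    (φ' : BlowUp.affineAlgebra A 𝔭 (algebraMap R A π) →ₐ[A] Λ)
    (hφ' : ∀ a' : BlowUp.affineAlgebra A 𝔭 (algebraMap R A π),
      algebraMap Λ (Localization.Away (algebraMap A Λ (algebraMap R A π))) (φ' a') =
        Localization.awayMap (algebraMap A Λ) (algebraMap R A π) a'.val) :
    ∃ (𝔮' : Ideal (BlowUp.affineAlgebra A 𝔭 (algebraMap R A π))) (_ : 𝔮'.IsPrime),
      𝔮' ≤ (IsLocalRing.maximalIdeal Λ).comap φ'.toRingHom ∧ Algebra.IsSmoothAt R 𝔮' ∧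
      Module.finrank ((IsLocalRing.maximalIdeal Λ).comap φ'.toRingHom).ResidueField
        (((IsLocalRing.maximalIdeal Λ).comap φ'.toRingHom).ResidueField ⊗[BlowUp.affineAlgebra A 𝔭 (algebraMap R A π)]
          Ω[BlowUp.affineAlgebra A 𝔭 (algebraMap R A π)⁄R]) ≤
      Module.finrank 𝔮'.ResidueField (𝔮'.ResidueField ⊗[BlowUp.affineAlgebra A 𝔭 (algebraMap R A π)]
          Ω[BlowUp.affineAlgebra A 𝔭 (algebraMap R A π)⁄R]) := by
  classical
  haveI : IsNoetherianRing A := Algebra.FiniteType.isNoetherianRing R A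
  haveI : Algebra.FinitePresentation R A := Algebra.FinitePresentation.of_finiteType.mp inferInstance
  -- π ≠ 0
  have hπ0 : π ≠ 0 := by
    rintro rfl
    apply IsDiscreteValuationRing.not_a_field R
    rw [hπ, Ideal.span_singleton_eq_bot]
  have hπΛ : algebraMap A Λ (algebraMap R A π) ≠ 0 := by
    rw [← IsScalarTower.algebraMap_apply]
    exact fun h => hπ0 ((injective_iff_map_eq_zero _).mp (FaithfulSMul.algebraMap_injective R Λ) π h)
  have hpow : Submonoid.powers (algebraMap A Λ (algebraMap R A π)) ≤ nonZeroDivisors Λ :=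
    Submonoid.powers_le.mpr (mem_nonZeroDivisors_of_ne_zero hπΛ)
  haveI : IsDomain (Localization.Away (algebraMap A Λ (algebraMap R A π))) :=
    IsLocalization.isDomain_localization hpow
  have hinj : Function.Injective (algebraMap Λ (Localization.Away (algebraMap A Λ (algebraMap R A π)))) :=
    IsLocalization.injective _ hpow
  let ρ := Localization.awayMap (algebraMap A Λ) (algebraMap R A π)
  let P : Ideal (Localization.Away (algebraMap R A π)) := RingHom.ker ρ
  haveI : P.IsPrime := RingHom.ker_isPrime ρ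
  let 𝔮' : Ideal (BlowUp.affineAlgebra A 𝔭 (algebraMap R A π)) :=
    P.comap (algebraMap (BlowUp.affineAlgebra A 𝔭 (algebraMap R A π)) (Localization.Away (algebraMap R A π)))
  haveI : 𝔮'.IsPrime := Ideal.comap_isPrime _ _
  have h𝔮' : ∀ x, x ∈ 𝔮' ↔ φ' x = 0 := by
    intro x
    show ρ x.val = 0 ↔ _
    rw [← hφ' x, map_eq_zero_iff _ hinj]
  let 𝔮 : Ideal A := P.comap (algebraMap A (Localization.Away (algebraMap R A π)))
  haveI : 𝔮.IsPrime := Ideal.comap_isPrime _ _
  have hρalg : ∀ x : A, ρ (algebraMap A _ x) = algebraMap Λ _ (algebraMap A Λ x) := by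
    intro x
    simp [ρ, IsLocalization.Away.map, IsLocalization.map_eq]
  have h𝔮 : ∀ x, x ∈ 𝔮 ↔ algebraMap A Λ x = 0 := by
    intro x
    show ρ (algebraMap A _ x) = 0 ↔ _
    rw [hρalg, map_eq_zero_iff _ hinj]
  have h𝔮𝔭 : 𝔮 ≤ 𝔭 := by
    intro x hx
    rw [Ideal.mem_comap, (h𝔮 x).mp hx]
    exact Ideal.zero_mem _
  refine ⟨𝔮', inferInstance, ?_, ?_, ?_⟩
  · intro x hx
    rw [Ideal.mem_comap]
    show φ' x ∈ _
    rw [(h𝔮' x).mp hx]
    exact Ideal.zero_mem _
  · -- smoothness at the generic point
    have hopen := Algebra.isOpen_smoothLocus (R := R) (A := A)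
    have hspec : (⟨𝔮, inferInstance⟩ : PrimeSpectrum A) ⤳ ⟨𝔭, inferInstance⟩ :=
      (PrimeSpectrum.le_iff_specializes _ _).mp h𝔮𝔭
    have h1 : (⟨𝔮, inferInstance⟩ : PrimeSpectrum A) ∈ Algebra.smoothLocus R A :=
      hspec.mem_open hopen hsm
    have h2 : (⟨P, inferInstance⟩ : PrimeSpectrum (Localization.Away (algebraMap R A π))) ∈
        Algebra.smoothLocus R (Localization.Away (algebraMap R A π)) := by
      rw [← Algebra.smoothLocus_comap_of_isLocalization (R := R) (A := A)
        (Af := Localization.Away (algebraMap R A π)) (algebraMap R A π)]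
      exact h1
    rw [← Algebra.smoothLocus_comap_of_isLocalization (R := R)
      (A := BlowUp.affineAlgebra A 𝔭 (algebraMap R A π))
      (Af := Localization.Away (algebraMap R A π))
      (algebraMap A (BlowUp.affineAlgebra A 𝔭 (algebraMap R A π)) (algebraMap R A π))] at h2
    exact h2
  · -- the ranks
    have h𝔭' : 𝔭 = ((IsLocalRing.maximalIdeal Λ).comap φ'.toRingHom).comap
        (algebraMap A (BlowUp.affineAlgebra A 𝔭 (algebraMap R A π))) := by
      ext x
      rw [Ideal.mem_comap, Ideal.mem_comap, Ideal.mem_comap]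
      show _ ↔ φ' (algebraMap A _ x) ∈ _
      rw [φ'.commutes]
    haveI hfree := free_tensor_kaehler_of_isSmoothAt (R := R) 𝔭 hsm
    -- κ(P) as an algebra over A_𝔭
    have hunit : ∀ y : (𝔭).primeCompl, IsUnit (algebraMap A P.ResidueField y) := by
      intro y
      rw [isUnit_iff_ne_zero, IsScalarTower.algebraMap_apply A (Localization.Away (algebraMap R A π))
        P.ResidueField, Ne, Ideal.algebraMap_residueField_eq_zero]
      intro hy
      exact y.2 (h𝔮𝔭 hy)
    letI : Algebra (Localization.AtPrime 𝔭) P.ResidueField :=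
      (IsLocalization.lift (M := (𝔭).primeCompl) (g := algebraMap A P.ResidueField) hunit).toAlgebra
    haveI : IsScalarTower A (Localization.AtPrime 𝔭) P.ResidueField :=
      IsScalarTower.of_algebraMap_eq fun x => (IsLocalization.lift_eq hunit x).symm
    letI : Algebra 𝔮'.ResidueField P.ResidueField :=
      (Ideal.ResidueField.map 𝔮' P (algebraMap (BlowUp.affineAlgebra A 𝔭 (algebraMap R A π))
        (Localization.Away (algebraMap R A π))) rfl).toAlgebra
    haveI : IsScalarTower (BlowUp.affineAlgebra A 𝔭 (algebraMap R A π)) 𝔮'.ResidueField P.ResidueField :=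
      IsScalarTower.of_algebraMap_eq fun x => by
        show _ = Ideal.ResidueField.map 𝔮' P _ rfl (algebraMap _ 𝔮'.ResidueField x)
        rw [Ideal.ResidueField.map_algebraMap, ← IsScalarTower.algebraMap_apply]
    calc _ ≤ Module.finrank (𝔭).ResidueField ((𝔭).ResidueField ⊗[A] Ω[A⁄R]) :=
          NerG.rank_le hsep π hπ _ h𝔭'
      _ = Module.finrank (Localization.AtPrime 𝔭) (Localization.AtPrime 𝔭 ⊗[A] Ω[A⁄R]) :=
          finrank_tensor_eq
      _ = Module.finrank P.ResidueField (P.ResidueField ⊗[A] Ω[A⁄R]) :=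
          (finrank_tensor_eq (S := Localization.AtPrime 𝔭)).symm
      _ = Module.finrank P.ResidueField (P.ResidueField ⊗[Localization.Away (algebraMap R A π)]
            Ω[Localization.Away (algebraMap R A π)⁄R]) :=
          (finrank_kaehler_of_isLocalization (Submonoid.powers (algebraMap R A π))).symm
      _ = Module.finrank P.ResidueField (P.ResidueField ⊗[BlowUp.affineAlgebra A 𝔭 (algebraMap R A π)]
            Ω[BlowUp.affineAlgebra A 𝔭 (algebraMap R A π)⁄R]) :=
          finrank_kaehler_of_isLocalization (Submonoid.powers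
            (algebraMap A (BlowUp.affineAlgebra A 𝔭 (algebraMap R A π)) (algebraMap R A π)))
      _ = _ := finrank_tensor_field_ext

end Main

end Groth.Agent.Lib.Helper27.NerH
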