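import Mathlib
import Groth.Agent.Lib.Helper12.NagataFin
import Groth.Agent.Lib.Helper8.NormCompA

/-!
# Integral closure of a normal Noetherian domain in a finite étale algebra over its fraction field
(helper27)

`R` a domain with fraction field `K`, `L` a `K`-algebra, `C = integralClosure R L`.
* `isLocalization_integralClosure`: `L` is the localization of `C` at `R⁰` (for `L` integral over
  `K`).
* `finite_integralClosure_etale`: `C` is a finite `R`-module if `R` is normal Noetherian and `L`
  finite étale over `K`.
* `exists_idempotent_normal`: `Spec C` is covered by basic opens of idempotents whose rings are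
  integrally closed domains.
-/

set_option autoImplicit false
set_option linter.style.haveILetI false
universe u
open scoped nonZeroDivisors

namespace Groth.Agent.Lib.Helper27.NeronDedA

open Classical in
theorem exists_idempotent_of_maximal (L : Type u) [CommRing L] [IsReduced L] [IsArtinianRing L]
    (m : MaximalSpectrum L) :
    ∃ e : L, IsIdempotentElem e ∧ Ideal.Quotient.mk m.asIdeal e = 1 ∧
      (∀ b : L, Ideal.Quotient.mk m.asIdeal b = 0 → e * b = 0) ∧
      (IsArtinianRing.equivPi L e = Pi.single m 1) := by
  classical
  refine ⟨(IsArtinianRing.equivPi L).symm (Pi.single m 1), ?_, ?_, ?_, ?_⟩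
  · apply (IsArtinianRing.equivPi L).injective
    show (IsArtinianRing.equivPi L) (_ * _) = _
    rw [map_mul, AlgEquiv.apply_symm_apply, ← Pi.single_mul, mul_one]
  · have h1 : IsArtinianRing.equivPi L ((IsArtinianRing.equivPi L).symm (Pi.single m 1)) m = 1 := by
      rw [AlgEquiv.apply_symm_apply, Pi.single_eq_same]
    exact h1
  · intro b hb
    apply (IsArtinianRing.equivPi L).injective
    rw [map_mul, AlgEquiv.apply_symm_apply, map_zero]
    funext m'
    by_cases hm : m' = m
    · subst hm
      have h2 : IsArtinianRing.equivPi L b m' = 0 := hb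
      rw [Pi.mul_apply, h2, mul_zero]; rfl
    · rw [Pi.mul_apply, Pi.single_eq_of_ne hm, zero_mul]; rfl
  · rw [AlgEquiv.apply_symm_apply]


variable (R K L : Type u) [CommRing R] [IsDomain R] [Field K] [Algebra R K] [IsFractionRing R K]
  [CommRing L] [Algebra K L] [Algebra R L] [IsScalarTower R K L]

theorem isLocalization_integralClosure [Algebra.IsIntegral K L] :
    IsLocalization (Algebra.algebraMapSubmonoid (integralClosure R L) R⁰) L := by
  refine ⟨?_, fun z => ?_, fun {x y} h => ⟨1, ?_⟩⟩
  · rintro ⟨_, x, hx, rfl⟩
    have h1 : algebraMap (integralClosure R L) L (algebraMap R (integralClosure R L) x) =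
        algebraMap K L (algebraMap R K x) := by
      rw [← IsScalarTower.algebraMap_apply, IsScalarTower.algebraMap_apply R K L]
    show IsUnit (algebraMap (integralClosure R L) L (algebraMap R (integralClosure R L) x))
    rw [h1]
    apply IsUnit.map
    rw [isUnit_iff_ne_zero]
    exact IsFractionRing.to_map_ne_zero_of_mem_nonZeroDivisors hx
  · obtain ⟨m, hm⟩ :=
      IsIntegral.exists_multiple_integral_of_isLocalization R⁰ z
        (Algebra.IsIntegral.isIntegral (R := K) z)
    refine ⟨⟨⟨m • z, hm⟩, algebraMap R (integralClosure R L) m, m, SetLike.coe_mem m, rfl⟩, ?_⟩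
    show z * algebraMap (integralClosure R L) L (algebraMap R (integralClosure R L) m) = m • z
    rw [← IsScalarTower.algebraMap_apply, mul_comm, Submonoid.smul_def, Algebra.smul_def]
  · have : x = y := Subtype.ext h
    rw [this]

variable [Module.Finite K L] [Algebra.Etale K L]

include K

omit [Algebra R L] [Module.Finite K L] in
theorem isReduced_of_etale : IsReduced L :=
  Algebra.FormallyUnramified.isReduced_of_field K L

omit [Algebra R L] [Algebra.Etale K L] in
theorem isArtinianRing_of_finite : IsArtinianRing L :=
  IsArtinianRing.of_finite K L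

theorem finite_integralClosure_etale [IsIntegrallyClosed R] [IsNoetherianRing R] :
    Module.Finite R (integralClosure R L) := by
  haveI := isReduced_of_etale K L
  haveI := isArtinianRing_of_finite K L
  refine Groth.Agent.Lib.Helper12.NagataFin.finite_integralClosure_of_jointly_injective R L
    (fun m : MaximalSpectrum L => L ⧸ m.asIdeal)
    (fun m => Ideal.Quotient.mkₐ R m.asIdeal) ?_ ?_
  · intro c c' h
    apply (IsArtinianRing.equivPi L).injective
    funext m
    exact h m
  · intro m
    letI : Field (L ⧸ m.asIdeal) := Ideal.Quotient.field m.asIdeal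
    haveI : Algebra.FormallyUnramified K (L ⧸ m.asIdeal) :=
      Algebra.FormallyUnramified.of_surjective (Ideal.Quotient.mkₐ K m.asIdeal)
        Ideal.Quotient.mk_surjective
    haveI : Algebra.IsSeparable K (L ⧸ m.asIdeal) :=
      Algebra.FormallyUnramified.isSeparable K (L ⧸ m.asIdeal)
    exact IsIntegralClosure.finite R K (L ⧸ m.asIdeal) (integralClosure R (L ⧸ m.asIdeal))

theorem exists_idempotent_normal (q : Ideal (integralClosure R L)) [q.IsPrime] :
    ∃ e : integralClosure R L, IsIdempotentElem e ∧ e ∉ q ∧
      ∀ (A' : Type u) [CommRing A'] [Algebra (integralClosure R L) A'] [IsLocalization.Away e A'],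
        IsDomain A' ∧ IsIntegrallyClosed A' := by
  classical
  haveI := isReduced_of_etale K L
  haveI := isArtinianRing_of_finite K L
  have key := fun m : MaximalSpectrum L => exists_idempotent_of_maximal L m
  choose e he1 he2 he3 he4 using key
  have hint : ∀ m, IsIntegral R (e m) := fun m => by
    refine ⟨Polynomial.X ^ 2 - Polynomial.X, ?_, ?_⟩
    · exact Polynomial.monic_X_pow_sub (by
        rw [Polynomial.degree_X]; norm_num)
    · rw [Polynomial.eval₂_sub, Polynomial.eval₂_pow, Polynomial.eval₂_X, pow_two, (he1 m).eq,
        sub_self]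
  haveI : Fintype (MaximalSpectrum L) := Fintype.ofFinite _
  have hsum : ∑ m : MaximalSpectrum L, e m = 1 := by
    apply (IsArtinianRing.equivPi L).injective
    rw [map_sum, map_one]
    simp_rw [he4]
    exact Finset.univ_sum_single (1 : ∀ I : MaximalSpectrum L, L ⧸ I.asIdeal)
  -- some idempotent is not in `q`
  obtain ⟨m, hm⟩ : ∃ m, (⟨e m, hint m⟩ : integralClosure R L) ∉ q := by
    by_contra hcon
    push Not at hcon
    have h1 : (∑ m : MaximalSpectrum L, (⟨e m, hint m⟩ : integralClosure R L)) ∈ q :=
      Ideal.sum_mem _ fun m _ => hcon m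
    have h2 : (∑ m : MaximalSpectrum L, (⟨e m, hint m⟩ : integralClosure R L)) = 1 := by
      apply Subtype.ext
      rw [AddSubmonoidClass.coe_finset_sum]
      exact hsum
    rw [h2] at h1
    exact (‹q.IsPrime›).ne_top ((Ideal.eq_top_iff_one q).mpr h1)
  refine ⟨⟨e m, hint m⟩, ?_, hm, ?_⟩
  · exact Subtype.ext (he1 m).eq
  intro A' _ _ _
  letI : Field (L ⧸ m.asIdeal) := Ideal.Quotient.field m.asIdeal
  obtain ⟨θ, hθ⟩ : ∃ θ : integralClosure R L →+* L ⧸ m.asIdeal,
      θ = (Ideal.Quotient.mk m.asIdeal).comp (algebraMap (integralClosure R L) L) := ⟨_, rfl⟩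
  have hθa : ∀ a : integralClosure R L, θ a = Ideal.Quotient.mk m.asIdeal (a : L) := fun a => by
    rw [hθ]; rfl
  refine Groth.Agent.Lib.Helper8.NormCompA.normal_of_away (A'' := integralClosure R L) (R := A')
    (C := L ⧸ m.asIdeal) ⟨e m, hint m⟩ (Subtype.ext (he1 m).eq) θ ?_ ?_
  · intro a
    rw [hθa]
    constructor
    · intro h
      exact Subtype.ext (he3 m (a : L) h)
    · intro h
      have h1 : e m * (a : L) = 0 := congrArg Subtype.val h
      have h2 := congrArg (Ideal.Quotient.mk m.asIdeal) h1
      rw [map_mul, he2 m, one_mul, map_zero] at h2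
      exact h2
  · intro c hc
    -- `c` is integral over `R`
    have hcR : ((Ideal.Quotient.mk m.asIdeal).comp (algebraMap R L)).IsIntegralElem c := by
      have hal : algebraMap (integralClosure R L) (L ⧸ m.asIdeal) = θ := by
        rw [hθ]; rfl
      haveI : Algebra.IsIntegral R (integralClosure R L) := inferInstance
      have h1 : IsIntegral (integralClosure R L) c := by
        show (algebraMap (integralClosure R L) (L ⧸ m.asIdeal)).IsIntegralElem c
        rw [hal]; exact hc
      have h2 : IsIntegral R c := isIntegral_trans c h1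
      exact h2
    obtain ⟨b, hb, hbc⟩ := Groth.Agent.Lib.Helper8.NormCompA.exists_integral_lift
      (algebraMap R L) (Ideal.Quotient.mk m.asIdeal) (e m) Ideal.Quotient.mk_surjective
      (he3 m) (he2 m) c hcR
    exact ⟨⟨b, hb⟩, by rw [hθa]; exact hbc⟩

end Groth.Agent.Lib.Helper27.NeronDedA
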