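import Mathlib
import Groth.Prelude.Def_Pi1
import Groth.Agent.Lib.Helper27.NeronDedA

/-!
# The spectrum of the integral closure in a finite étale algebra (helper27)

* `isNormalScheme_Spec_of_idempotent_cover`: an affine scheme covered by basic opens of idempotents
  whose rings are integrally closed domains is normal.
* `isNormalScheme_Spec_integralClosure`, `isFinite_Spec_integralClosure`,
  `isPullback_Spec_integralClosure`.
-/

set_option autoImplicit false
set_option linter.style.haveILetI false
universe u
open AlgebraicGeometry CategoryTheory CategoryTheory.Limits TopologicalSpace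
open scoped nonZeroDivisors

namespace Groth.Agent.Lib.Helper27.NeronDedB

theorem isNormalScheme_Spec_of_idempotent_cover (A : CommRingCat.{u})
    (h : ∀ (q : Ideal A) [q.IsPrime], ∃ e : A, IsIdempotentElem e ∧ e ∉ q ∧
      ∀ (A' : Type u) [CommRing A'] [Algebra A A'] [IsLocalization.Away e A'],
        IsDomain A' ∧ IsIntegrallyClosed A') :
    Pi1.IsNormalScheme (Spec A) := by
  intro x
  obtain ⟨e, -, hex, hA'⟩ := h x.asIdeal
  obtain ⟨D, hDdef⟩ : ∃ D : (Spec A).Opens, D = PrimeSpectrum.basicOpen e := ⟨_, rfl⟩
  have hD : IsAffineOpen D := hDdef ▸ IsAffineOpen.Spec_basicOpen e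
  have hxD : x ∈ D := by rw [hDdef]; exact hex
  obtain ⟨hd, hi⟩ : IsDomain Γ(Spec A, D) ∧ IsIntegrallyClosed Γ(Spec A, D) := by
    subst hDdef
    exact hA' Γ(Spec A, PrimeSpectrum.basicOpen e)
  letI := TopCat.Presheaf.algebra_section_stalk (Spec A).presheaf (⟨x, hxD⟩ : D)
  haveI : IsLocalization.AtPrime ((Spec A).presheaf.stalk x)
      (hD.primeIdealOf ⟨x, hxD⟩).asIdeal := hD.isLocalization_stalk ⟨x, hxD⟩
  exact ⟨IsLocalization.isDomain_of_le_nonZeroDivisors (R := Γ(Spec A, D))
      (S := (Spec A).presheaf.stalk x)
      (M := (hD.primeIdealOf ⟨x, hxD⟩).asIdeal.primeCompl)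
      (Ideal.primeCompl_le_nonZeroDivisors _),
    isIntegrallyClosed_of_isLocalization (R := Γ(Spec A, D))
      (S := (Spec A).presheaf.stalk x)
      (hD.primeIdealOf ⟨x, hxD⟩).asIdeal.primeCompl
      (Ideal.primeCompl_le_nonZeroDivisors _)⟩

variable (R K L : Type u) [CommRing R] [IsDomain R] [Field K] [Algebra R K] [IsFractionRing R K]
  [CommRing L] [Algebra K L] [Algebra R L] [IsScalarTower R K L]

include K in
theorem isNormalScheme_Spec_integralClosure [Module.Finite K L] [Algebra.Etale K L] :
    Pi1.IsNormalScheme (Spec (CommRingCat.of (integralClosure R L))) :=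
  isNormalScheme_Spec_of_idempotent_cover (CommRingCat.of (integralClosure R L))
    (fun q _ => Groth.Agent.Lib.Helper27.NeronDedA.exists_idempotent_normal R K L q)

include K in
theorem isFinite_Spec_integralClosure [Module.Finite K L] [Algebra.Etale K L]
    [IsIntegrallyClosed R] [IsNoetherianRing R] :
    IsFinite (Spec.map (CommRingCat.ofHom (algebraMap R (integralClosure R L)))) := by
  rw [IsFinite.SpecMap_iff]
  haveI := Groth.Agent.Lib.Helper27.NeronDedA.finite_integralClosure_etale R K L
  exact RingHom.finite_algebraMap.mpr inferInstance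

theorem isPullback_Spec_integralClosure [Algebra.IsIntegral K L] :
    IsPullback (Spec.map (CommRingCat.ofHom (algebraMap (integralClosure R L) L)))
      (Spec.map (CommRingCat.ofHom (algebraMap K L)))
      (Spec.map (CommRingCat.ofHom (algebraMap R (integralClosure R L))))
      (Spec.map (CommRingCat.ofHom (algebraMap R K))) := by
  haveI : IsLocalization (Submonoid.map (algebraMap R (integralClosure R L)) R⁰) L :=
    Groth.Agent.Lib.Helper27.NeronDedA.isLocalization_integralClosure R K L
  apply isPullback_SpecMap_of_isPushout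
  refine CommRingCat.isPushout_of_isLocalization (algebraMap R (integralClosure R L))
    (algebraMap K L) ?_ R⁰
  ext r
  simp only [RingHom.comp_apply]
  rw [← IsScalarTower.algebraMap_apply, ← IsScalarTower.algebraMap_apply]

end Groth.Agent.Lib.Helper27.NeronDedB
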