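import Mathlib
import Groth.Agent.Lib.Helper17.UnramLocus
import Groth.Agent.Lib.Helper14.StalkEtale
import Groth.Agent.Lib.Helper11.ER4
import Groth.Agent.Lib.Helper12.UnramLocus

/-!
# Descending étaleness at a point along a flat base change with an open section (helper27)

Let `π : T ⟶ S` be locally of finite presentation over a locally Noetherian `S`, `g : Z ⟶ S` flat,
and `σ : Z ⟶ T ×_S Z` a section of the second projection which is an open immersion.  Then the
composite `Z ⟶ T` lands in the smooth (étale) locus of `π`.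
-/

set_option autoImplicit false
universe u

open AlgebraicGeometry CategoryTheory TopologicalSpace Limits

namespace Groth.Agent.Lib.Helper27.NeronFinB

theorem mem_smoothLocus_of_section {S T Z : Scheme.{u}} [IsLocallyNoetherian S]
    (π : T ⟶ S) [LocallyOfFinitePresentation π] (g : Z ⟶ S) [Flat g]
    (σ : Z ⟶ pullback π g) [IsOpenImmersion σ] (hσ : σ ≫ pullback.snd π g = 𝟙 Z) (z : Z) :
    (σ ≫ pullback.fst π g) z ∈ π.smoothLocus := by
  obtain ⟨h, hh⟩ : ∃ h : Z ⟶ T, h = σ ≫ pullback.fst π g := ⟨_, rfl⟩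
  rw [← hh]
  haveI : Flat h := by rw [hh]; infer_instance
  have hπ : h ≫ π = g := by
    rw [hh, Category.assoc, pullback.condition, ← Category.assoc, hσ, Category.id_comp]
  haveI : Flat (h ≫ π) := by rw [hπ]; infer_instance
  -- flatness of `π` at `h z`
  have hfl : (π.stalkMap (h z)).hom.Flat := by
    have h1 : ((h ≫ π).stalkMap z).hom.Flat := Flat.stalkMap (h ≫ π) z
    have h2 : (h.stalkMap z).hom.Flat := Flat.stalkMap h z
    rw [Scheme.Hom.stalkMap_comp] at h1
    refine Groth.Agent.Lib.Helper11.ER4.ringHom_flat_of_comp _ (h.stalkMap z).hom h1 ?_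
    letI : Algebra (T.presheaf.stalk (h z)) (Z.presheaf.stalk z) := (h.stalkMap z).hom.toAlgebra
    haveI : Module.Flat (T.presheaf.stalk (h z)) (Z.presheaf.stalk z) := h2
    haveI : IsLocalHom (algebraMap (T.presheaf.stalk (h z)) (Z.presheaf.stalk z)) :=
      inferInstanceAs (IsLocalHom (h.stalkMap z).hom)
    exact (Module.FaithfullyFlat.of_flat_of_isLocalHom :
      Module.FaithfullyFlat (T.presheaf.stalk (h z)) (Z.presheaf.stalk z))
  -- unramifiedness of `π` at `h z`
  have hU : FormallyUnramified (σ.opensRange.ι ≫ pullback.snd π g) := by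
    have e : σ.opensRange.ι ≫ pullback.snd π g = σ.isoOpensRange.inv := by
      rw [← cancel_epi σ.isoOpensRange.hom, ← Category.assoc, Scheme.Hom.isoOpensRange_hom_ι, hσ,
        Iso.hom_inv_id]
    rw [e]; infer_instance
  obtain ⟨U₀, htU₀, hU₀⟩ :=
    Groth.Agent.Lib.Helper17.UnramLocus.exists_formallyUnramified_nhd_of_baseChange π g
      σ.opensRange (σ z) ⟨z, rfl⟩ hU
  have htU₀' : h z ∈ U₀ := by
    rw [hh, Scheme.Hom.comp_apply]; exact htU₀
  have hunr : (π.stalkMap (h z)).hom.FormallyUnramified := by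
    have h3 : (⟨h z, htU₀'⟩ : U₀.toScheme) ∈
        Groth.Agent.Lib.Helper12.UnramLocus.unramLocus (U₀.ι ≫ π) :=
      FormallyUnramified.stalkMap (U₀.ι ≫ π) _
    exact (Groth.Agent.Lib.Helper12.UnramLocus.mem_unramLocus_comp_left_iff U₀.ι π
      ⟨h z, htU₀'⟩).mp h3
  obtain ⟨U, hUa, V, hVa, hVU, hxV, het⟩ :=
    Groth.Agent.Lib.Helper14.exists_etale_of_stalk π (h z) hunr hfl
  rw [Scheme.Hom.mem_smoothLocus, formallySmooth_stalkMap_iff U hUa V hVa hVU hxV]
  algebraize [(π.appLE U V hVU).hom]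
  have : Algebra.smoothLocus Γ(S, U) Γ(T, V) = Set.univ := Algebra.smoothLocus_eq_univ
  rw [this]
  trivial

end Groth.Agent.Lib.Helper27.NeronFinB
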