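import Mathlib
import Groth.Prelude.Def_Pi1
import Groth.Agent.Lib.Helper22.SmoothNormalSch
import Groth.Agent.Lib.Helper27.NeronFinA
import Groth.Agent.Lib.Helper27.NeronFinB

/-!
# Néron mapping property along a "normal" dominant morphism (helper27)

A variant of `NeronFinC.existsUnique_extension` in which the dense open immersion `Z₀ ⟶ Z` is
replaced by an arbitrary dominant quasi-compact quasi-separated morphism `j : Z₀ ⟶ Z` such that
`Z` is its own relative normalization in `Z₀` (e.g. the inclusion of the generic fibre of a smooth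
scheme over a normal domain).
-/

set_option autoImplicit false
universe u

open AlgebraicGeometry CategoryTheory TopologicalSpace Limits

namespace Groth.Agent.Lib.Helper27.NeronDedC

theorem existsUnique_extension' {S T Z Z₀ : Scheme.{u}} [IsLocallyNoetherian S]
    (hS : Pi1.IsNormalScheme S) (π : T ⟶ S) [IsFinite π] [LocallyOfFinitePresentation π]
    (hT : Pi1.IsNormalScheme T) (g : Z ⟶ S) [Smooth g] (j : Z₀ ⟶ Z) [QuasiCompact j]
    [QuasiSeparated j] [IsIso j.fromNormalization] [IsDominant j]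
    (f₀ : Z₀ ⟶ π.smoothLocus.toScheme)
    (hf₀ : f₀ ≫ π.smoothLocus.ι ≫ π = j ≫ g) :
    ∃! F : Z ⟶ π.smoothLocus.toScheme, F ≫ π.smoothLocus.ι ≫ π = g ∧ j ≫ F = f₀ := by
  haveI : IsLocallyNoetherian Z := LocallyOfFiniteType.isLocallyNoetherian g
  have hZ : Pi1.IsNormalScheme Z := fun z =>
    (Groth.Agent.Lib.Helper22.SmoothNormalSch.stalk_iff_of_smooth g z).2.mpr (hS (g z))
  haveI : IsReduced Z := Groth.Agent.Lib.Helper27.NeronFinA.isReduced_of_isNormalScheme hZ
  haveI : IsLocallyNoetherian (pullback π g) :=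
    LocallyOfFiniteType.isLocallyNoetherian (pullback.snd π g)
  have hP : Pi1.IsNormalScheme (pullback π g) := fun x =>
    (Groth.Agent.Lib.Helper22.SmoothNormalSch.stalk_iff_of_smooth (pullback.fst π g) x).2.mpr
      (hT _)
  obtain ⟨s₀, hs₀⟩ : ∃ s₀ : Z₀ ⟶ pullback π g,
      s₀ = pullback.lift (f₀ ≫ π.smoothLocus.ι) j (by rw [Category.assoc]; exact hf₀) := ⟨_, rfl⟩
  have hs₀snd : j = s₀ ≫ pullback.snd π g := by rw [hs₀, pullback.lift_snd]
  have hs₀fst : s₀ ≫ pullback.fst π g = f₀ ≫ π.smoothLocus.ι := by rw [hs₀, pullback.lift_fst]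
  obtain ⟨σ, hσdef⟩ : ∃ σ : Z ⟶ pullback π g,
      σ = inv j.fromNormalization ≫ j.normalizationDesc s₀ (pullback.snd π g) hs₀snd := ⟨_, rfl⟩
  have hσ : σ ≫ pullback.snd π g = 𝟙 Z := by
    rw [hσdef, Category.assoc, Scheme.Hom.normalizationDesc_comp, IsIso.inv_hom_id]
  have hjσ : j ≫ σ = s₀ := by
    have : j ≫ inv j.fromNormalization = j.toNormalization := by
      rw [IsIso.comp_inv_eq, j.toNormalization_fromNormalization]
    rw [hσdef, ← Category.assoc, this, Scheme.Hom.toNormalization_normalizationDesc]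
  haveI : IsOpenImmersion σ :=
    Groth.Agent.Lib.Helper27.NeronFinA.isOpenImmersion_of_section hP (pullback.snd π g) σ hσ
  have hmem : ∀ z, (σ ≫ pullback.fst π g) z ∈ π.smoothLocus :=
    Groth.Agent.Lib.Helper27.NeronFinB.mem_smoothLocus_of_section π g σ hσ
  have hrange : Set.range (σ ≫ pullback.fst π g) ⊆ Set.range π.smoothLocus.ι := by
    rintro _ ⟨z, rfl⟩
    rw [Scheme.Opens.range_ι]
    exact hmem z
  obtain ⟨F, hF⟩ : ∃ F : Z ⟶ π.smoothLocus.toScheme,
      F ≫ π.smoothLocus.ι = σ ≫ pullback.fst π g :=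
    ⟨IsOpenImmersion.lift π.smoothLocus.ι _ hrange, IsOpenImmersion.lift_fac _ _ _⟩
  have hF1 : F ≫ π.smoothLocus.ι ≫ π = g := by
    rw [← Category.assoc, hF, Category.assoc, pullback.condition, ← Category.assoc, hσ,
      Category.id_comp]
  have hF2 : j ≫ F = f₀ := by
    rw [← cancel_mono π.smoothLocus.ι, Category.assoc, hF, ← Category.assoc, hjσ, hs₀fst]
  refine ⟨F, ⟨hF1, hF2⟩, ?_⟩
  rintro F' ⟨h1, h2⟩
  exact ext_of_isDominant_of_isSeparated (π.smoothLocus.ι ≫ π) (h1.trans hF1.symm) j
    (h2.trans hF2.symm)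

/-- For an integrally closed domain `R` with fraction field `K`, the relative normalization of
`Spec R` in `Spec K` is `Spec R`. -/
theorem isIso_fromNormalization_genPt_aux (R K : Type u) [CommRing R] [IsDomain R]
    [IsIntegrallyClosed R] [Field K] [Algebra R K] [IsFractionRing R K]
    (η : Spec (CommRingCat.of K) ⟶ Spec (CommRingCat.of R)) [QuasiCompact η] [QuasiSeparated η]
    (hη : η = Spec.map (CommRingCat.ofHom (algebraMap R K))) :
    IsIso η.fromNormalization := by
  apply IsZariskiLocalAtTarget.of_forall_exists_morphismRestrict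
    (P := MorphismProperty.isomorphisms Scheme) fun x => ?_
  have hW : IsAffineOpen (⊤ : (Spec (CommRingCat.of R)).Opens) := isAffineOpen_top _
  refine ⟨⊤, trivial, (isIso_morphismRestrict_iff_isIso_app _ hW).mpr ?_⟩
  rw [Scheme.Hom.fromNormalization_app _ hW]
  letI := (η.app ⊤).hom.toAlgebra
  suffices h : Function.Bijective (algebraMap Γ(Spec (CommRingCat.of R), ⊤)
      (integralClosure Γ(Spec (CommRingCat.of R), ⊤) Γ(Spec (CommRingCat.of K), η ⁻¹ᵁ ⊤))) by
    haveI : IsIso (CommRingCat.ofHom (algebraMap Γ(Spec (CommRingCat.of R), ⊤)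
      (integralClosure Γ(Spec (CommRingCat.of R), ⊤) Γ(Spec (CommRingCat.of K), η ⁻¹ᵁ ⊤)))) :=
      (ConcreteCategory.isIso_iff_bijective _).mpr h
    infer_instance
  have hnat : ∀ r : Γ(Spec (CommRingCat.of R), ⊤),
      (Scheme.ΓSpecIso (CommRingCat.of K)).hom.hom ((η.app ⊤).hom r) =
        algebraMap R K ((Scheme.ΓSpecIso (CommRingCat.of R)).hom.hom r) := fun r => by
    have := Scheme.ΓSpecIso_naturality (CommRingCat.ofHom (algebraMap R K))
    rw [← hη] at this
    exact congrArg (fun φ => φ.hom r) this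
  have hKinj : Function.Injective (Scheme.ΓSpecIso (CommRingCat.of K)).hom.hom :=
    (ConcreteCategory.bijective_of_isIso (Scheme.ΓSpecIso (CommRingCat.of K)).hom).1
  have hRinj : Function.Injective (Scheme.ΓSpecIso (CommRingCat.of R)).hom.hom :=
    (ConcreteCategory.bijective_of_isIso (Scheme.ΓSpecIso (CommRingCat.of R)).hom).1
  have hRsurj : Function.Surjective (Scheme.ΓSpecIso (CommRingCat.of R)).hom.hom :=
    (ConcreteCategory.bijective_of_isIso (Scheme.ΓSpecIso (CommRingCat.of R)).hom).2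
  constructor
  · intro a b hab
    have h1 := congrArg Subtype.val hab
    change (η.app ⊤).hom a = (η.app ⊤).hom b at h1
    have h2 := congrArg (Scheme.ΓSpecIso (CommRingCat.of K)).hom.hom h1
    rw [hnat, hnat] at h2
    exact hRinj (IsFractionRing.injective R K h2)
  · rintro ⟨c, hc⟩
    have hcint : IsIntegral R ((Scheme.ΓSpecIso (CommRingCat.of K)).hom.hom c) := by
      obtain ⟨p, hp, hp0⟩ := hc
      refine ⟨p.map (Scheme.ΓSpecIso (CommRingCat.of R)).hom.hom, hp.map _, ?_⟩
      rw [Polynomial.eval₂_map]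
      have : (algebraMap R K).comp (Scheme.ΓSpecIso (CommRingCat.of R)).hom.hom =
          (Scheme.ΓSpecIso (CommRingCat.of K)).hom.hom.comp (η.app ⊤).hom := by
        ext r; exact (hnat r).symm
      rw [this, ← Polynomial.hom_eval₂]
      have hp0' : Polynomial.eval₂ (η.app ⊤).hom c p = 0 := hp0
      exact (congrArg (Scheme.ΓSpecIso (CommRingCat.of K)).hom.hom hp0').trans (map_zero _)
    obtain ⟨r, hr⟩ := IsIntegrallyClosed.algebraMap_eq_of_integral hcint
    obtain ⟨r', rfl⟩ := hRsurj r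
    refine ⟨r', Subtype.ext ?_⟩
    change (η.app ⊤).hom r' = c
    apply hKinj
    rw [hnat, hr]

theorem isIso_fromNormalization_genPt (R K : Type u) [CommRing R] [IsDomain R]
    [IsIntegrallyClosed R] [Field K] [Algebra R K] [IsFractionRing R K] :
    IsIso (Spec.map (CommRingCat.ofHom (algebraMap R K))).fromNormalization :=
  isIso_fromNormalization_genPt_aux R K _ rfl

end Groth.Agent.Lib.Helper27.NeronDedC
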