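import Mathlib
import Groth.Prelude.Def_Pi1
import Groth.Agent.Lib.Helper22.SmoothNormalSch
import Groth.Agent.Lib.Helper17.UnramLocus
import Groth.Agent.Lib.Helper14.StalkEtale
import Groth.Agent.Lib.Helper11.ER4
import Groth.Agent.Lib.Helper12.UnramLocus
import Groth.Agent.Lib.Helper27.NeronFinA

/-!
# Morphisms from smooth schemes to finite normal covers (helper27)

Let `π : T ⟶ S` be finite and locally of finite presentation over a locally Noetherian `S`, with
`T` normal, and let `g : Z ⟶ S` be smooth.  Every `S`-morphism `h : Z ⟶ T` is an open map and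
`π` is étale in a neighbourhood of every point of `h(Z)`.  In particular the smooth locus of `π`
is étale over `S`.
-/

set_option autoImplicit false
universe u

open AlgebraicGeometry CategoryTheory TopologicalSpace Limits

namespace Groth.Agent.Lib.Helper27.NeronFinD

theorem exists_etale_nhd_of_section {S T Z : Scheme.{u}} [IsLocallyNoetherian S]
    (π : T ⟶ S) [LocallyOfFinitePresentation π] (g : Z ⟶ S) [Flat g]
    (σ : Z ⟶ pullback π g) [IsOpenImmersion σ] (hσ : σ ≫ pullback.snd π g = 𝟙 Z) (z : Z) :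
    ∃ V : T.Opens, (σ ≫ pullback.fst π g) z ∈ V ∧ Etale (V.ι ≫ π) := by
  obtain ⟨h, hh⟩ : ∃ h : Z ⟶ T, h = σ ≫ pullback.fst π g := ⟨_, rfl⟩
  rw [← hh]
  haveI : Flat h := by rw [hh]; infer_instance
  have hπ : h ≫ π = g := by
    rw [hh, Category.assoc, pullback.condition, ← Category.assoc, hσ, Category.id_comp]
  haveI : Flat (h ≫ π) := by rw [hπ]; infer_instance
  have hfl : (π.stalkMap (h z)).hom.Flat := by
    have h1 : ((h ≫ π).stalkMap z).hom.Flat := Flat.stalkMap (h ≫ π) z
    have h2 : (h.stalkMap z).hom.Flat := Flat.stalkMap h z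
    rw [Scheme.Hom.stalkMap_comp] at h1
    refine Groth.Agent.Lib.Helper11.ER4.ringHom_flat_of_comp _ (h.stalkMap z).hom h1 ?_
    letI : Algebra (T.presheaf.stalk (h z)) (Z.presheaf.stalk z) := (h.stalkMap z).hom.toAlgebra
    haveI : Module.Flat (T.presheaf.stalk (h z)) (Z.presheaf.stalk z) := h2
    haveI : IsLocalHom (algebraMap (T.presheaf.stalk (h z)) (Z.presheaf.stalk z)) :=
      inferInstanceAs (IsLocalHom (h.stalkMap z).hom)
    exact (Module.FaithfullyFlat.of_flat_of_isLocalHom :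
      Module.FaithfullyFlat (T.presheaf.stalk (h z)) (Z.presheaf.stalk z))
  have hU : FormallyUnramified (σ.opensRange.ι ≫ pullback.snd π g) := by
    have e : σ.opensRange.ι ≫ pullback.snd π g = σ.isoOpensRange.inv := by
      rw [← cancel_epi σ.isoOpensRange.hom, ← Category.assoc, Scheme.Hom.isoOpensRange_hom_ι, hσ,
        Iso.hom_inv_id]
    rw [e]; infer_instance
  obtain ⟨U₀, htU₀, hU₀⟩ :=
    Groth.Agent.Lib.Helper17.UnramLocus.exists_formallyUnramified_nhd_of_baseChange π g
      σ.opensRange (σ z) ⟨z, rfl⟩ hU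
  have htU₀' : h z ∈ U₀ := by
    rw [hh, Scheme.Hom.comp_apply]; exact htU₀
  have hunr : (π.stalkMap (h z)).hom.FormallyUnramified := by
    have h3 : (⟨h z, htU₀'⟩ : U₀.toScheme) ∈
        Groth.Agent.Lib.Helper12.UnramLocus.unramLocus (U₀.ι ≫ π) :=
      FormallyUnramified.stalkMap (U₀.ι ≫ π) _
    exact (Groth.Agent.Lib.Helper12.UnramLocus.mem_unramLocus_comp_left_iff U₀.ι π
      ⟨h z, htU₀'⟩).mp h3
  obtain ⟨U, hUa, V, hVa, hVU, hxV, het⟩ :=
    Groth.Agent.Lib.Helper14.exists_etale_of_stalk π (h z) hunr hfl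
  exact ⟨V, hxV, Groth.Agent.Lib.Helper14.etale_ι_comp_of_appLE π U hUa V hVa hVU het⟩

section

variable {S T Z : Scheme.{u}} [IsLocallyNoetherian S] (π : T ⟶ S) [IsFinite π]
  [LocallyOfFinitePresentation π] (hT : Pi1.IsNormalScheme T) (g : Z ⟶ S) [Smooth g]
  (h : Z ⟶ T) (hh : h ≫ π = g)

include hT hh in
theorem isOpenImmersion_graph :
    IsOpenImmersion (pullback.lift h (𝟙 Z) (by rw [hh, Category.id_comp]) :
      Z ⟶ pullback π g) := by
  haveI : IsLocallyNoetherian Z := LocallyOfFiniteType.isLocallyNoetherian g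
  haveI : IsLocallyNoetherian (pullback π g) :=
    LocallyOfFiniteType.isLocallyNoetherian (pullback.snd π g)
  have hP : Pi1.IsNormalScheme (pullback π g) := fun x =>
    (Groth.Agent.Lib.Helper22.SmoothNormalSch.stalk_iff_of_smooth (pullback.fst π g) x).2.mpr
      (hT _)
  exact Groth.Agent.Lib.Helper27.NeronFinA.isOpenImmersion_of_section hP (pullback.snd π g) _
    (pullback.lift_snd _ _ _)

include hT hh in
theorem isOpenMap_of_over : IsOpenMap h := by
  have hc : h ≫ π = 𝟙 Z ≫ g := by rw [hh, Category.id_comp]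
  haveI : IsOpenImmersion (pullback.lift h (𝟙 Z) hc) := isOpenImmersion_graph π hT g h hh
  have e : h = pullback.lift h (𝟙 Z) hc ≫ pullback.fst π g :=
    (pullback.lift_fst _ _ _).symm
  rw [e]
  exact (pullback.fst π g).isOpenMap.comp
    (pullback.lift h (𝟙 Z) hc).isOpenEmbedding.isOpenMap

include hT hh in
theorem exists_etale_nhd (z : Z) : ∃ V : T.Opens, h z ∈ V ∧ Etale (V.ι ≫ π) := by
  have hc : h ≫ π = 𝟙 Z ≫ g := by rw [hh, Category.id_comp]
  haveI : IsOpenImmersion (pullback.lift h (𝟙 Z) hc) := isOpenImmersion_graph π hT g h hh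
  obtain ⟨V, hV, hVe⟩ := exists_etale_nhd_of_section π g
    (pullback.lift h (𝟙 Z) hc) (pullback.lift_snd _ _ _) z
  refine ⟨V, ?_, hVe⟩
  rwa [pullback.lift_fst] at hV

end

theorem smooth_smoothLocus_ι_comp {S T : Scheme.{u}} (π : T ⟶ S)
    [LocallyOfFinitePresentation π] : Smooth (π.smoothLocus.ι ≫ π) := by
  rw [← Scheme.Hom.smoothLocus_eq_top_iff, ← Scheme.Hom.preimage_smoothLocus_eq]
  ext x
  simp only [Scheme.Hom.coe_preimage, Set.mem_preimage, SetLike.mem_coe, Opens.coe_top, Set.mem_univ, iff_true]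
  exact x.2

/-- The smooth locus of a finite morphism from a normal scheme to a locally Noetherian scheme is
étale over the base. -/
theorem etale_smoothLocus_ι_comp {S T : Scheme.{u}} [IsLocallyNoetherian S] (π : T ⟶ S)
    [IsFinite π] [LocallyOfFinitePresentation π] (hT : Pi1.IsNormalScheme T) :
    Etale (π.smoothLocus.ι ≫ π) := by
  haveI := smooth_smoothLocus_ι_comp π
  have key : ∀ x : π.smoothLocus.toScheme, ∃ V : T.Opens, π.smoothLocus.ι x ∈ V ∧
      Etale (V.ι ≫ π) := fun x =>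
    exists_etale_nhd π hT (π.smoothLocus.ι ≫ π) π.smoothLocus.ι rfl x
  choose V hxV hV using key
  rw [IsZariskiLocalAtSource.iff_of_iSup_eq_top (P := @Etale)
    (fun x : π.smoothLocus.toScheme => π.smoothLocus.ι ⁻¹ᵁ V x)]
  · intro x
    haveI := hV x
    have e : (π.smoothLocus.ι ⁻¹ᵁ V x).ι ≫ π.smoothLocus.ι ≫ π =
        (π.smoothLocus.ι.resLE (V x) (π.smoothLocus.ι ⁻¹ᵁ V x) le_rfl) ≫ (V x).ι ≫ π := by
      rw [← Category.assoc, ← Category.assoc, Scheme.Hom.resLE_comp_ι]
    rw [e]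
    infer_instance
  · rw [eq_top_iff]
    intro x _
    exact Opens.mem_iSup.mpr ⟨x, hxV x⟩

end Groth.Agent.Lib.Helper27.NeronFinD
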