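import Mathlib
import Groth.Prelude.Def_Pi1
import Groth.Agent.Lib.Helper22.SmoothNormalSch
import Groth.Agent.Lib.Helper27.NormDenseB
import Groth.Agent.Lib.Helper27.NeronFinA
import Groth.Agent.Lib.Helper27.NeronFinB

/-!
# Néron mapping property for the étale locus of a finite normal cover (helper27)

Let `S` be a locally Noetherian normal scheme, `π : T ⟶ S` finite and locally of finite
presentation with `T` normal, and `N ⊆ T` the smooth locus of `π`.  For a smooth `S`-scheme `Z`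
and a dense open `Z₀ ⊆ Z`, every `S`-morphism `Z₀ ⟶ N` extends uniquely to an `S`-morphism
`Z ⟶ N`.
-/

set_option autoImplicit false
universe u

open AlgebraicGeometry CategoryTheory TopologicalSpace Limits

namespace Groth.Agent.Lib.Helper27.NeronFinC

theorem existsUnique_extension {S T Z Z₀ : Scheme.{u}} [IsLocallyNoetherian S]
    (hS : Pi1.IsNormalScheme S) (π : T ⟶ S) [IsFinite π] [LocallyOfFinitePresentation π]
    (hT : Pi1.IsNormalScheme T) (g : Z ⟶ S) [Smooth g] (j : Z₀ ⟶ Z) [IsOpenImmersion j]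
    (hj : Dense (Set.range j)) (f₀ : Z₀ ⟶ π.smoothLocus.toScheme)
    (hf₀ : f₀ ≫ π.smoothLocus.ι ≫ π = j ≫ g) :
    ∃! F : Z ⟶ π.smoothLocus.toScheme, F ≫ π.smoothLocus.ι ≫ π = g ∧ j ≫ F = f₀ := by
  haveI : IsLocallyNoetherian Z := LocallyOfFiniteType.isLocallyNoetherian g
  have hZ : Pi1.IsNormalScheme Z := fun z =>
    (Groth.Agent.Lib.Helper22.SmoothNormalSch.stalk_iff_of_smooth g z).2.mpr (hS (g z))
  haveI : IsReduced Z := Groth.Agent.Lib.Helper27.NeronFinA.isReduced_of_isNormalScheme hZ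
  haveI : IsLocallyNoetherian (pullback π g) :=
    LocallyOfFiniteType.isLocallyNoetherian (pullback.snd π g)
  have hP : Pi1.IsNormalScheme (pullback π g) := fun x =>
    (Groth.Agent.Lib.Helper22.SmoothNormalSch.stalk_iff_of_smooth (pullback.fst π g) x).2.mpr
      (hT _)
  haveI : QuasiCompact j := inferInstance
  haveI : IsIso j.fromNormalization :=
    Groth.Agent.Lib.Helper27.NormDenseB.isIso_fromNormalization_of_dense hZ j hj
  obtain ⟨s₀, hs₀⟩ : ∃ s₀ : Z₀ ⟶ pullback π g,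
      s₀ = pullback.lift (f₀ ≫ π.smoothLocus.ι) j (by rw [Category.assoc]; exact hf₀) := ⟨_, rfl⟩
  have hs₀snd : j = s₀ ≫ pullback.snd π g := by rw [hs₀, pullback.lift_snd]
  have hs₀fst : s₀ ≫ pullback.fst π g = f₀ ≫ π.smoothLocus.ι := by rw [hs₀, pullback.lift_fst]
  obtain ⟨σ, hσdef⟩ : ∃ σ : Z ⟶ pullback π g,
      σ = inv j.fromNormalization ≫ j.normalizationDesc s₀ (pullback.snd π g) hs₀snd := ⟨_, rfl⟩
  have hσ : σ ≫ pullback.snd π g = 𝟙 Z := by
    rw [hσdef, Category.assoc, Scheme.Hom.normalizationDesc_comp, IsIso.inv_hom_id]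
  have hjσ : j ≫ σ = s₀ := by
    have : j ≫ inv j.fromNormalization = j.toNormalization := by
      rw [IsIso.comp_inv_eq, j.toNormalization_fromNormalization]
    rw [hσdef, ← Category.assoc, this, Scheme.Hom.toNormalization_normalizationDesc]
  haveI : IsOpenImmersion σ :=
    Groth.Agent.Lib.Helper27.NeronFinA.isOpenImmersion_of_section hP (pullback.snd π g) σ hσ
  have hmem : ∀ z, (σ ≫ pullback.fst π g) z ∈ π.smoothLocus :=
    Groth.Agent.Lib.Helper27.NeronFinB.mem_smoothLocus_of_section π g σ hσ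
  have hrange : Set.range (σ ≫ pullback.fst π g) ⊆ Set.range π.smoothLocus.ι := by
    rintro _ ⟨z, rfl⟩
    rw [Scheme.Opens.range_ι]
    exact hmem z
  obtain ⟨F, hF⟩ : ∃ F : Z ⟶ π.smoothLocus.toScheme,
      F ≫ π.smoothLocus.ι = σ ≫ pullback.fst π g :=
    ⟨IsOpenImmersion.lift π.smoothLocus.ι _ hrange, IsOpenImmersion.lift_fac _ _ _⟩
  have hF1 : F ≫ π.smoothLocus.ι ≫ π = g := by
    rw [← Category.assoc, hF, Category.assoc, pullback.condition, ← Category.assoc, hσ,
      Category.id_comp]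
  have hF2 : j ≫ F = f₀ := by
    rw [← cancel_mono π.smoothLocus.ι, Category.assoc, hF, ← Category.assoc, hjσ, hs₀fst]
  refine ⟨F, ⟨hF1, hF2⟩, ?_⟩
  rintro F' ⟨h1, h2⟩
  haveI : IsDominant j := ⟨hj⟩
  exact ext_of_isDominant_of_isSeparated (π.smoothLocus.ι ≫ π) (h1.trans hF1.symm) j
    (h2.trans hF2.symm)

end Groth.Agent.Lib.Helper27.NeronFinC
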