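import Mathlib
import Groth.Prelude.Def_Pi1
import Groth.Agent.Lib.Helper12.NagataFin
import Groth.Agent.Lib.Helper27.NormDenseB

/-!
# Finiteness of relative normalization over a normal base of characteristic zero (helper27)

* `n2'_of_isIntegrallyClosed_charZero`: a Noetherian integrally closed domain of characteristic
  zero is N-2.
* `finite_integralClosure_of_flat_reduced`: for a flat reduced finite type algebra `C` over a
  Noetherian N-2 domain `A`, the integral closure of `A` in `C` is finite.
* `isFinite_fromNormalization_of_flat`: the relative normalization of a locally Noetherian normal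
  scheme of characteristic zero in a reduced, flat, finite type scheme over it is finite.
-/

set_option autoImplicit false
universe u

open AlgebraicGeometry CategoryTheory TopologicalSpace Function
open Groth.Agent.Lib.Helper12.KAExt Groth.Agent.Lib.Helper12.N2
  Groth.Agent.Lib.Helper12.NormGen Groth.Agent.Lib.Helper12.NagataFin

namespace Groth.Agent.Lib.Helper27.NormFinA

theorem n2'_of_isIntegrallyClosed_charZero (A : Type u) [CommRing A] [IsDomain A]
    [IsNoetherianRing A] [IsIntegrallyClosed A] [CharZero A] : N2' A := by
  intro L _ _ hinj hfg
  letI : Algebra (FractionRing A) L := (IsFractionRing.lift hinj).toAlgebra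
  haveI : IsScalarTower A (FractionRing A) L :=
    IsScalarTower.of_algebraMap_eq (fun a => (IsFractionRing.lift_algebraMap hinj a).symm)
  haveI : FiniteDimensional (FractionRing A) L :=
    finiteDimensional_of_finGen A (FractionRing A) L hfg
  haveI : CharZero (FractionRing A) :=
    charZero_of_injective_algebraMap (IsFractionRing.injective A (FractionRing A))
  haveI : Algebra.IsSeparable (FractionRing A) L := inferInstance
  exact IsIntegralClosure.finite A (FractionRing A) L (integralClosure A L)

theorem finite_integralClosure_of_flat_reduced (A C : Type u) [CommRing A] [IsDomain A]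
    [IsNoetherianRing A] (hA : N2' A) [CommRing C] [IsReduced C] [Algebra A C]
    [Algebra.FiniteType A C] [Module.Flat A C] :
    Module.Finite A (integralClosure A C) := by
  haveI : IsNoetherianRing C := Algebra.FiniteType.isNoetherianRing A C
  haveI : Finite {q : Ideal C // q ∈ minimalPrimes C} :=
    (minimalPrimes.finite_of_isNoetherianRing C).to_subtype
  refine finite_integralClosure_of_jointly_injective A C
    (fun q : {q : Ideal C // q ∈ minimalPrimes C} => C ⧸ q.1)
    (fun q => Ideal.Quotient.mkₐ A q.1) ?_ ?_
  · intro c c' h
    rw [← sub_eq_zero]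
    have hmem : c - c' ∈ sInf (minimalPrimes C) := by
      rw [Ideal.mem_sInf]
      intro q hq
      have := h ⟨q, hq⟩
      rw [← sub_eq_zero, ← map_sub] at this
      exact Ideal.Quotient.eq_zero_iff_mem.1 this
    have h0 : sInf (minimalPrimes C) = ⊥ := by
      show sInf (⊥ : Ideal C).minimalPrimes = ⊥
      rw [Ideal.sInf_minimalPrimes]
      exact nilradical_eq_zero C
    rw [h0] at hmem
    exact hmem
  · intro q
    haveI := q.2.1.1
    haveI : Algebra.FiniteType A (C ⧸ q.1) :=
      Algebra.FiniteType.of_surjective (Ideal.Quotient.mkₐ A q.1) Ideal.Quotient.mk_surjective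
    refine finite_integralClosure_of_finiteType_domain A (C ⧸ q.1) hA ?_
    rw [injective_iff_map_eq_zero]
    intro a ha
    by_contra hne
    have ha' : algebraMap A C a ∈ q.1 := by
      rw [IsScalarTower.algebraMap_apply A C (C ⧸ q.1)] at ha
      exact Ideal.Quotient.eq_zero_iff_mem.1 ha
    have hnzd : algebraMap A C a ∈ nonZeroDivisors C := by
      rw [mem_nonZeroDivisors_iff_right]
      intro c hc
      have hreg : IsSMulRegular C a :=
        Module.Flat.isSMulRegular_of_isRegular (M := C) (isRegular_of_ne_zero hne)
      apply hreg
      show a • c = a • (0 : C)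
      rw [smul_zero, Algebra.smul_def, mul_comm]
      exact hc
    exact (Ideal.disjoint_nonZeroDivisors_of_mem_minimalPrimes q.2).le_bot ⟨ha', hnzd⟩

end Groth.Agent.Lib.Helper27.NormFinA
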