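import Mathlib
import Groth.Prelude.Def_Pi1
import Groth.Agent.Lib.Helper12.NagataFin
import Groth.Agent.Lib.Helper27.NormDenseB
import Groth.Agent.Lib.Helper27.NormFinA

/-!
# Finiteness of relative normalization over a normal base of characteristic zero, scheme level
(helper27)
-/

set_option autoImplicit false
universe u

open AlgebraicGeometry CategoryTheory TopologicalSpace Function
open Groth.Agent.Lib.Helper12.KAExt Groth.Agent.Lib.Helper12.N2
  Groth.Agent.Lib.Helper12.NormGen Groth.Agent.Lib.Helper12.NagataFin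

namespace Groth.Agent.Lib.Helper27.NormFinB

theorem finite_app_of_eq {X Y : Scheme.{u}} (g : X ⟶ Y) {D D' : Y.Opens} (e : D' = D)
    (h : (g.app D).hom.Finite) : (g.app D').hom.Finite := by
  subst e; exact h

theorem isFinite_restrict_of_finite_app {X Y : Scheme.{u}} (g : X ⟶ Y) [IsAffineHom g]
    (W : Y.Opens) (hW : IsAffineOpen W) (h : (g.app W).hom.Finite) : IsFinite (g ∣_ W) := by
  haveI : IsAffine W.toScheme := hW
  rw [HasAffineProperty.iff_of_isAffine (P := @IsFinite)]
  refine ⟨hW.preimage g, ?_⟩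
  rw [morphismRestrict_appTop]
  have h1 : (g.app (W.ι ''ᵁ ⊤)).hom.Finite := finite_app_of_eq g W.ι_image_top h
  have h2 : (X.presheaf.map (eqToHom (image_morphismRestrict_preimage g W ⊤)).op).hom.Finite := by
    haveI : IsIso (eqToHom (image_morphismRestrict_preimage g W ⊤)).op := isIso_op _
    haveI : IsIso (X.presheaf.map (eqToHom (image_morphismRestrict_preimage g W ⊤)).op) :=
      Functor.map_isIso _ _
    exact RingHom.Finite.of_surjective _
      (ConcreteCategory.bijective_of_isIso
        (X.presheaf.map (eqToHom (image_morphismRestrict_preimage g W ⊤)).op)).2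
  exact RingHom.Finite.comp h2 h1

/-- The relative normalization of a locally Noetherian normal scheme of characteristic zero in a
reduced, flat, finite type scheme over it is finite. -/
theorem isFinite_fromNormalization_of_flat {X S : Scheme.{u}} (f : X ⟶ S)
    [LocallyOfFiniteType f] [QuasiCompact f] [QuasiSeparated f] [Flat f] [IsReduced X]
    [IsLocallyNoetherian S] (hS : Pi1.IsNormalScheme S)
    (hchar : ∀ U : S.Opens, IsAffineOpen U → IsDomain Γ(S, U) → CharZero Γ(S, U)) :
    IsFinite f.fromNormalization := by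
  apply IsZariskiLocalAtTarget.of_forall_exists_morphismRestrict (P := @IsFinite) fun x => ?_
  obtain ⟨U, hxU, hU, -, hdom, hic⟩ :=
    Groth.Agent.Lib.Helper27.NormDenseB.exists_affine_normal_nhd hS x ⊤ trivial
  refine ⟨U, hxU, isFinite_restrict_of_finite_app _ U hU ?_⟩
  haveI : IsNoetherianRing Γ(S, U) := IsLocallyNoetherian.component_noetherian ⟨U, hU⟩
  haveI : CharZero Γ(S, U) := hchar U hU hdom
  have hN2 : N2' Γ(S, U) :=
    Groth.Agent.Lib.Helper27.NormFinA.n2'_of_isIntegrallyClosed_charZero Γ(S, U)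
  letI algC := (f.app U).hom.toAlgebra
  obtain ⟨E, hE⟩ := exists_ringEquiv f hU
  haveI : Module.Finite Γ(S, U) (integralClosure Γ(S, U) Γ(X, f ⁻¹ᵁ U)) := by
    have hcomp : IsCompact ((f ⁻¹ᵁ U : X.Opens) : Set X) := f.isCompact_preimage hU.isCompact
    obtain ⟨s, hsfin, hs⟩ := isCompact_iff_finite_and_eq_biUnion_affineOpens.1 hcomp
    haveI : Finite s := hsfin.to_subtype
    have hle : ∀ i : s, (i.1 : X.Opens) ≤ f ⁻¹ᵁ U := fun i => by
      rw [hs]
      exact le_iSup₂ (f := fun (i : X.affineOpens) (_ : i ∈ s) => (i : X.Opens)) i.1 i.2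
    letI algCi : ∀ i : s, Algebra Γ(S, U) Γ(X, (i.1 : X.Opens)) :=
      fun i => (f.appLE U i.1 (hle i)).hom.toAlgebra
    let r : ∀ i : s, Γ(X, f ⁻¹ᵁ U) →ₐ[Γ(S, U)] Γ(X, (i.1 : X.Opens)) := fun i =>
      { (X.presheaf.map (homOfLE (hle i)).op).hom with commutes' := fun a => rfl }
    refine finite_integralClosure_of_jointly_injective Γ(S, U) Γ(X, f ⁻¹ᵁ U)
      (fun i : s => Γ(X, (i.1 : X.Opens))) r ?_ ?_
    · intro c c' h
      refine X.sheaf.eq_of_locally_eq' (U := fun i : s => (i.1 : X.Opens)) (f ⁻¹ᵁ U)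
        (fun i => homOfLE (hle i)) ?_ c c' h
      rw [hs, iSup_subtype']
    · intro i
      haveI : Algebra.FiniteType Γ(S, U) Γ(X, (i.1 : X.Opens)) :=
        HasRingHomProperty.appLE (P := @LocallyOfFiniteType) f inferInstance
          ⟨U, hU⟩ ⟨i.1.1, i.1.2⟩ (hle i)
      haveI : Module.Flat Γ(S, U) Γ(X, (i.1 : X.Opens)) :=
        HasRingHomProperty.appLE (P := @Flat) f inferInstance
          ⟨U, hU⟩ ⟨i.1.1, i.1.2⟩ (hle i)
      exact Groth.Agent.Lib.Helper27.NormFinA.finite_integralClosure_of_flat_reduced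
        Γ(S, U) _ hN2
  exact finite_of_ringEquiv _ E hE

end Groth.Agent.Lib.Helper27.NormFinB
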