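import Mathlib
import Groth.Prelude.Def_Pi1
import Groth.Agent.Lib.Helper8.NormCompB
import Groth.Agent.Lib.Helper27.NormFinB
import Groth.Agent.Lib.Helper27.NeronFinC
import Groth.Agent.Lib.Helper27.NeronFinD

/-!
# Existence of Néron models of étale schemes over normal bases of characteristic zero (helper27)
-/

set_option autoImplicit false
set_option maxHeartbeats 800000
universe u

open AlgebraicGeometry CategoryTheory TopologicalSpace Limits

namespace Groth.Agent.Lib.Helper27.NeronFinE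

theorem locallyQuasiFinite_of_etale {X Y : Scheme.{u}} (f : X ⟶ Y) [Etale f] :
    LocallyQuasiFinite f := by
  rw [HasRingHomProperty.iff_appLE (P := @LocallyQuasiFinite)]
  intro U V e
  have h := Etale.etale_appLE (f := f) U.2 V.2 e
  algebraize [(f.appLE U V e).hom]
  have : Algebra.Etale Γ(Y, U) Γ(X, V) := h
  show (algebraMap Γ(Y, U) Γ(X, V)).QuasiFinite
  rw [RingHom.quasiFinite_algebraMap]
  infer_instance

theorem locallyOfFinitePresentation_of_isLocallyNoetherian {X Y : Scheme.{u}} (f : X ⟶ Y)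
    [IsLocallyNoetherian Y] [LocallyOfFiniteType f] : LocallyOfFinitePresentation f := by
  rw [HasRingHomProperty.iff_appLE (P := @LocallyOfFinitePresentation)]
  intro V U e
  haveI : IsNoetherianRing Γ(Y, V.1) := IsLocallyNoetherian.component_noetherian V
  exact RingHom.FinitePresentation.of_finiteType.mp
    (HasRingHomProperty.appLE (P := @LocallyOfFiniteType) f inferInstance V U e)

theorem exists_neron_model {S : Scheme.{u}} [IsNoetherian S] (hS : Pi1.IsNormalScheme S)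
    (hchar : ∀ U : S.Opens, IsAffineOpen U → IsDomain Γ(S, U) → CharZero Γ(S, U))
    (S₀ : S.Opens) (hS₀ : Dense (S₀ : Set S)) {N₀ : Scheme.{u}} (p₀ : N₀ ⟶ S₀.toScheme)
    [Etale p₀] [IsSeparated p₀] [QuasiCompact p₀] :
    ∃ (N : Scheme.{u}) (q : N ⟶ S) (ι : N₀ ⟶ N), Etale q ∧ IsSeparated q ∧ QuasiCompact q ∧
      IsOpenImmersion ι ∧ ι ≫ q = p₀ ≫ S₀.ι ∧ Set.range ι = q ⁻¹' (S₀ : Set S) ∧
      ∀ {Z Z₀ : Scheme.{u}} (g : Z ⟶ S) [Smooth g] (j : Z₀ ⟶ Z) [IsOpenImmersion j],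
        Set.range j = g ⁻¹' (S₀ : Set S) → ∀ (f₀ : Z₀ ⟶ N), f₀ ≫ q = j ≫ g →
          ∃! F : Z ⟶ N, F ≫ q = g ∧ j ≫ F = f₀ := by
  obtain ⟨f, hf⟩ : ∃ f : N₀ ⟶ S, f = p₀ ≫ S₀.ι := ⟨_, rfl⟩
  haveI : Etale f := by rw [hf]; infer_instance
  haveI : IsSeparated f := by rw [hf]; infer_instance
  haveI : QuasiCompact f := by rw [hf]; infer_instance
  haveI : LocallyQuasiFinite f := locallyQuasiFinite_of_etale f
  have hN₀ : Pi1.IsNormalScheme N₀ := fun x =>
    (Groth.Agent.Lib.Helper22.SmoothNormalSch.stalk_iff_of_smooth f x).2.mpr (hS (f x))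
  haveI : IsReduced N₀ := Groth.Agent.Lib.Helper27.NeronFinA.isReduced_of_isNormalScheme hN₀
  haveI : IsFinite f.fromNormalization :=
    Groth.Agent.Lib.Helper27.NormFinB.isFinite_fromNormalization_of_flat f hS hchar
  haveI : LocallyOfFinitePresentation f.fromNormalization :=
    locallyOfFinitePresentation_of_isLocallyNoetherian _
  haveI : IsLocallyNoetherian N₀ := LocallyOfFiniteType.isLocallyNoetherian f
  haveI : CompactSpace N₀ := QuasiCompact.compactSpace_of_compactSpace f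
  haveI : IsNoetherian N₀ := {}
  have hfin : LocallyFinite (fun Z : ↥(irreducibleComponents ↥N₀) => (Z : Set ↥N₀)) := by
    haveI : Finite ↥(irreducibleComponents ↥N₀) :=
      (NoetherianSpace.finite_irreducibleComponents (α := N₀)).to_subtype
    exact locallyFinite_of_finite _
  have hT : Pi1.IsNormalScheme f.normalization :=
    (Groth.Agent.Lib.Helper8.NormCompB.main f hN₀ hfin).1
  haveI : IsLocallyNoetherian f.normalization :=
    LocallyOfFiniteType.isLocallyNoetherian f.fromNormalization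
  haveI : IsOpenImmersion f.toNormalization := inferInstance
  -- notation
  obtain ⟨π, hπ⟩ : ∃ π : f.normalization ⟶ S, π = f.fromNormalization := ⟨_, rfl⟩
  obtain ⟨ι₀, hι₀⟩ : ∃ ι₀ : N₀ ⟶ f.normalization, ι₀ = f.toNormalization := ⟨_, rfl⟩
  haveI : IsFinite π := hπ ▸ inferInstance
  haveI : LocallyOfFinitePresentation π := hπ ▸ inferInstance
  haveI : IsOpenImmersion ι₀ := hι₀ ▸ inferInstance
  have hιπ : ι₀ ≫ π = f := by rw [hπ, hι₀, Scheme.Hom.toNormalization_fromNormalization]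
  -- `N₀` lands in the smooth locus
  have hι₀N' : ∀ x : N₀, ι₀ x ∈ π.smoothLocus := by
    intro x
    have h1 : ι₀ ⁻¹ᵁ π.smoothLocus = (ι₀ ≫ π).smoothLocus :=
      Scheme.Hom.preimage_smoothLocus_eq ι₀ π
    haveI : Smooth (ι₀ ≫ π) := by rw [hιπ]; infer_instance
    rw [Scheme.Hom.smoothLocus_eq_top (ι₀ ≫ π)] at h1
    have : x ∈ ι₀ ⁻¹ᵁ π.smoothLocus := by rw [h1]; trivial
    exact this
  -- the bad set
  obtain ⟨G, hG⟩ : ∃ G : Set f.normalization,
      G = ((π ⁻¹ᵁ S₀ ⊓ π.smoothLocus : f.normalization.Opens) : Set f.normalization) \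
        Set.range ι₀ := ⟨_, rfl⟩
  obtain ⟨N, hNdef⟩ : ∃ N : f.normalization.Opens,
      N = π.smoothLocus ⊓ ⟨(closure G)ᶜ, isClosed_closure.isOpen_compl⟩ := ⟨_, rfl⟩
  have hNle : N ≤ π.smoothLocus := by rw [hNdef]; exact inf_le_left
  have hmemN : ∀ t : f.normalization, t ∈ N ↔ t ∈ π.smoothLocus ∧ t ∉ closure G := by
    intro t; rw [hNdef]; exact Iff.rfl
  have hrange_open : IsOpen (Set.range ι₀) := ι₀.isOpenEmbedding.isOpen_range
  have hGdisj : Disjoint (Set.range ι₀) G := by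
    rw [hG]; exact Set.disjoint_sdiff_right
  have claim1 : ∀ t : f.normalization, (t ∈ N ∧ π t ∈ S₀) ↔ t ∈ Set.range ι₀ := by
    intro t
    constructor
    · rintro ⟨htN, htS⟩
      by_contra hnot
      have htG : t ∈ G := by
        rw [hG]
        exact ⟨⟨htS, ((hmemN t).mp htN).1⟩, hnot⟩
      exact ((hmemN t).mp htN).2 (subset_closure htG)
    · rintro ⟨x, rfl⟩
      refine ⟨(hmemN _).mpr ⟨hι₀N' x, ?_⟩, ?_⟩
      · have := (hGdisj.closure_right hrange_open)
        exact fun hc => Set.disjoint_left.mp this ⟨x, rfl⟩ hc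
      · have : π (ι₀ x) = f x := by rw [← Scheme.Hom.comp_apply, hιπ]
        rw [this, hf, Scheme.Hom.comp_apply]
        exact (p₀ x).2
  -- the morphisms
  have hrangeι₀ : Set.range ι₀ ⊆ Set.range N.ι := by
    rintro _ ⟨x, rfl⟩
    rw [Scheme.Opens.range_ι]
    exact ((claim1 _).mpr ⟨x, rfl⟩).1
  obtain ⟨ι, hι⟩ : ∃ ι : N₀ ⟶ N.toScheme, ι ≫ N.ι = ι₀ :=
    ⟨IsOpenImmersion.lift N.ι ι₀ hrangeι₀, IsOpenImmersion.lift_fac _ _ _⟩
  haveI hetN' : Etale (π.smoothLocus.ι ≫ π) :=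
    Groth.Agent.Lib.Helper27.NeronFinD.etale_smoothLocus_ι_comp π hT
  have hNι : N.ι = f.normalization.homOfLE hNle ≫ π.smoothLocus.ι :=
    (Scheme.homOfLE_ι _ hNle).symm
  refine ⟨N.toScheme, N.ι ≫ π, ι, ?_, inferInstance, inferInstance, ?_, ?_, ?_, ?_⟩
  · rw [hNι, Category.assoc]; infer_instance
  · have : IsOpenImmersion (ι ≫ N.ι) := by rw [hι]; infer_instance
    exact IsOpenImmersion.of_comp ι N.ι
  · rw [← Category.assoc, hι, hιπ, hf]
  · ext x
    constructor
    · rintro ⟨y, rfl⟩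
      have h1 : N.ι (ι y) = ι₀ y := by rw [← Scheme.Hom.comp_apply, hι]
      have := ((claim1 (ι₀ y)).mpr ⟨y, rfl⟩).2
      show (N.ι ≫ π) (ι y) ∈ S₀
      rw [Scheme.Hom.comp_apply, h1]
      exact this
    · intro hx
      have hx' : π (N.ι x) ∈ S₀ := by
        have : (N.ι ≫ π) x ∈ S₀ := hx
        rwa [Scheme.Hom.comp_apply] at this
      obtain ⟨y, hy⟩ := (claim1 (N.ι x)).mp ⟨x.2, hx'⟩
      refine ⟨y, ?_⟩
      apply N.ι.injective
      rw [← Scheme.Hom.comp_apply, hι]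
      exact hy
  · intro Z Z₀ g _ j _ hj f₀ hf₀
    have hjdense : Dense (Set.range j) := by
      rw [hj]; exact hS₀.preimage g.isOpenMap
    obtain ⟨F', ⟨hF'1, hF'2⟩, hF'u⟩ :=
      Groth.Agent.Lib.Helper27.NeronFinC.existsUnique_extension hS π hT g j hjdense
        (f₀ ≫ f.normalization.homOfLE hNle)
        (by rw [Category.assoc, ← Category.assoc (f.normalization.homOfLE hNle), ← hNι, hf₀])
    obtain ⟨h, hh⟩ : ∃ h : Z ⟶ f.normalization, h = F' ≫ π.smoothLocus.ι := ⟨_, rfl⟩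
    have hhπ : h ≫ π = g := by rw [hh, Category.assoc, hF'1]
    have hopen : IsOpen (Set.range h) :=
      (Groth.Agent.Lib.Helper27.NeronFinD.isOpenMap_of_over π hT g h hhπ).isOpen_range
    have hjh : j ≫ h = f₀ ≫ N.ι := by
      rw [hh, ← Category.assoc, hF'2, Category.assoc, ← hNι]
    have hdisj : Disjoint (Set.range h) G := by
      rw [Set.disjoint_left]
      rintro _ ⟨z, rfl⟩ hzG
      have hzG' := hzG
      rw [hG] at hzG'
      have hzS : π (h z) ∈ S₀ := hzG'.1.1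
      have hgz : g z ∈ S₀ := by
        rw [← hhπ, Scheme.Hom.comp_apply]; exact hzS
      have hzj : z ∈ Set.range j := by rw [hj]; exact hgz
      obtain ⟨z₀, rfl⟩ := hzj
      have e1 : h (j z₀) = N.ι (f₀ z₀) := by
        rw [← Scheme.Hom.comp_apply, hjh, Scheme.Hom.comp_apply]
      have hmem : h (j z₀) ∈ Set.range ι₀ := by
        apply (claim1 _).mp
        refine ⟨?_, hzS⟩
        rw [e1]; exact (f₀ z₀).2
      exact Set.disjoint_left.mp hGdisj hmem hzG
    have hdisj' : Disjoint (Set.range h) (closure G) := hdisj.closure_right hopen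
    have hrangeh : Set.range h ⊆ Set.range N.ι := by
      rintro _ ⟨z, rfl⟩
      rw [Scheme.Opens.range_ι]
      refine (hmemN _).mpr ⟨?_, fun hc => Set.disjoint_left.mp hdisj' ⟨z, rfl⟩ hc⟩
      rw [hh, Scheme.Hom.comp_apply]
      exact (F' z).2
    obtain ⟨F, hF⟩ : ∃ F : Z ⟶ N.toScheme, F ≫ N.ι = h :=
      ⟨IsOpenImmersion.lift N.ι h hrangeh, IsOpenImmersion.lift_fac _ _ _⟩
    refine ⟨F, ⟨?_, ?_⟩, ?_⟩
    · rw [← Category.assoc, hF, hhπ]
    · rw [← cancel_mono N.ι, Category.assoc, hF, hjh]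
    · rintro F₁ ⟨h1, h2⟩
      have e1 : F₁ ≫ f.normalization.homOfLE hNle = F' := by
        apply hF'u
        refine ⟨?_, ?_⟩
        · rw [Category.assoc, ← Category.assoc (f.normalization.homOfLE hNle), ← hNι, h1]
        · rw [← Category.assoc, h2]
      have e2 : F ≫ f.normalization.homOfLE hNle = F' := by
        rw [← cancel_mono π.smoothLocus.ι, Category.assoc, ← hNι, hF, hh]
      rw [← cancel_mono (f.normalization.homOfLE hNle), e1, e2]

end Groth.Agent.Lib.Helper27.NeronFinE
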