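import Mathlib
import Groth.Prelude.Def_Pi1
import Groth.Agent.Lib.Helper8.SmoothLocusBC
import Groth.Agent.Lib.Helper27.NeronDedB
import Groth.Agent.Lib.Helper27.NeronDedC
import Groth.Agent.Lib.Helper27.NeronFinD
import Groth.Agent.Lib.Helper27.NeronFinE

/-!
# Néron models of finite étale schemes over the fraction field of a normal Noetherian domain
(helper27)

For a Noetherian integrally closed domain `R` with fraction field `K` and a finite étale
`K`-scheme `G₀`, the étale locus `N` of the normalization of `Spec R` in `G₀` is an étale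
separated quasi-compact `R`-scheme with generic fibre `G₀` satisfying the Néron mapping property.
-/

set_option autoImplicit false
set_option linter.style.haveILetI false
universe u
open AlgebraicGeometry CategoryTheory CategoryTheory.Limits TopologicalSpace
open scoped nonZeroDivisors

namespace Groth.Agent.Lib.Helper27.NeronDedD

theorem isPullback_of_mono_comp {C : Type*} [Category C] {A B N T S : C} (τ : A ⟶ N) (p : A ⟶ B)
    (i : N ⟶ T) [Mono i] (π : T ⟶ S) (η : B ⟶ S)
    (h : IsPullback (τ ≫ i) p π η) : IsPullback τ p (i ≫ π) η := by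
  refine ⟨⟨by rw [← Category.assoc]; exact h.w⟩,
    ⟨PullbackCone.IsLimit.mk _ (fun s => h.lift (s.fst ≫ i) s.snd
      (by rw [Category.assoc]; exact s.condition)) ?_ ?_ ?_⟩⟩
  · intro s
    rw [← cancel_mono i, Category.assoc]
    exact h.lift_fst _ _ _
  · intro s
    exact h.lift_snd _ _ _
  · intro s m h1 h2
    apply h.hom_ext
    · rw [h.lift_fst, ← Category.assoc, h1]
    · rw [h.lift_snd, h2]

theorem appTop_injective_of_injective {R S : CommRingCat.{u}} (f : R ⟶ S)
    (hf : Function.Injective f.hom) : Function.Injective (Spec.map f).appTop := by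
  have h := Scheme.ΓSpecIso_naturality f
  have h2 : (Spec.map f).appTop = (Scheme.ΓSpecIso R).hom ≫ f ≫ (Scheme.ΓSpecIso S).inv := by
    rw [← Category.assoc, ← h, Category.assoc, Iso.hom_inv_id, Category.comp_id]
  rw [h2]
  have e1 := (ConcreteCategory.bijective_of_isIso (Scheme.ΓSpecIso R).hom).1
  have e2 := (ConcreteCategory.bijective_of_isIso (Scheme.ΓSpecIso S).inv).1
  intro a b hab
  apply e1
  apply hf
  apply e2
  exact hab

theorem isSchemeTheoreticallyDominant_SpecMap {R S : CommRingCat.{u}} (f : R ⟶ S)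
    (hf : Function.Injective f.hom) : IsSchemeTheoreticallyDominant (Spec.map f) := by
  rw [isSchemeTheoreticallyDominant_iff]
  have hinj : Function.Injective (Spec.map f).appTop := appTop_injective_of_injective f hf
  exact Scheme.IdealSheafData.ext_of_isAffine
    (by simpa [(Spec.map f).ker_apply ⟨⊤, isAffineOpen_top _⟩,
      ← RingHom.injective_iff_ker_eq_bot])

theorem existsUnique_of_genFibre {S T Z S₀ : Scheme.{u}} [IsLocallyNoetherian S]
    (hS : Pi1.IsNormalScheme S) (π : T ⟶ S) [IsFinite π] [LocallyOfFinitePresentation π]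
    (hT : Pi1.IsNormalScheme T) (η : S₀ ⟶ S) [QuasiCompact η] [QuasiSeparated η]
    [IsIso η.fromNormalization] [IsSchemeTheoreticallyDominant η]
    (g : Z ⟶ S) [Smooth g] (f₀ : pullback g η ⟶ π.smoothLocus.toScheme)
    (hf₀ : f₀ ≫ π.smoothLocus.ι ≫ π = pullback.fst g η ≫ g) :
    ∃! F : Z ⟶ π.smoothLocus.toScheme,
      F ≫ π.smoothLocus.ι ≫ π = g ∧ pullback.fst g η ≫ F = f₀ := by
  haveI : IsIso (pullback.snd η g).fromNormalization := by
    rw [← Scheme.Hom.normalizationPullback_snd]; infer_instance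
  haveI : IsSchemeTheoreticallyDominant (pullback.snd η g) := inferInstance
  haveI : IsDominant (pullback.snd η g) := inferInstance
  have hsym : (pullbackSymmetry g η).hom ≫ pullback.snd η g = pullback.fst g η :=
    pullbackSymmetry_hom_comp_snd _ _
  obtain ⟨F, ⟨hF1, hF2⟩, hFu⟩ := Groth.Agent.Lib.Helper27.NeronDedC.existsUnique_extension' hS π hT g
    (pullback.snd η g) ((pullbackSymmetry g η).inv ≫ f₀)
    (by rw [Category.assoc, hf₀, ← hsym, Category.assoc, Iso.inv_hom_id_assoc])
  refine ⟨F, ⟨hF1, ?_⟩, ?_⟩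
  · rw [← hsym, Category.assoc, hF2, Iso.hom_inv_id_assoc]
  · rintro F' ⟨h1, h2⟩
    apply hFu
    refine ⟨h1, ?_⟩
    rw [← h2, ← hsym, Category.assoc, Iso.inv_hom_id_assoc]

theorem isNormalScheme_Spec (R : Type u) [CommRing R] [IsDomain R] [IsIntegrallyClosed R] :
    Pi1.IsNormalScheme (Spec (CommRingCat.of R)) := by
  refine Groth.Agent.Lib.Helper27.NeronDedB.isNormalScheme_Spec_of_idempotent_cover
    (CommRingCat.of R) (fun q hq => ⟨(1 : R), IsIdempotentElem.one, ?_, ?_⟩)
  · intro h
    exact hq.ne_top ((Ideal.eq_top_iff_one _).mpr h)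
  · intro A' _ _ _
    have hle : Submonoid.powers (1 : R) ≤ R⁰ := Submonoid.powers_le.mpr (one_mem _)
    exact ⟨IsLocalization.isDomain_of_le_nonZeroDivisors (R := R) (S := A')
        (M := Submonoid.powers (1 : R)) hle,
      isIntegrallyClosed_of_isLocalization (R := R) (S := A') (Submonoid.powers (1 : R)) hle⟩

section

variable (R K L : Type u) [CommRing R] [IsDomain R] [IsIntegrallyClosed R] [IsNoetherianRing R]
  [Field K] [Algebra R K] [IsFractionRing R K]
  [CommRing L] [Algebra K L] [Algebra R L] [IsScalarTower R K L] [Module.Finite K L]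
  [Algebra.Etale K L]

theorem exists_neron_affine (η : Spec (CommRingCat.of K) ⟶ Spec (CommRingCat.of R))
    (hη : η = Spec.map (CommRingCat.ofHom (algebraMap R K)))
    (p : Spec (CommRingCat.of L) ⟶ Spec (CommRingCat.of K))
    (hp : p = Spec.map (CommRingCat.ofHom (algebraMap K L))) :
    ∃ (N : Scheme.{u}) (q : N ⟶ Spec (CommRingCat.of R)) (τ : Spec (CommRingCat.of L) ⟶ N),
      Etale q ∧ IsSeparated q ∧ QuasiCompact q ∧ IsPullback τ p q η ∧
      ∀ {Z : Scheme.{u}} (g : Z ⟶ Spec (CommRingCat.of R)) [Smooth g] (f₀ : pullback g η ⟶ N),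
        f₀ ≫ q = pullback.fst g η ≫ g →
          ∃! F : Z ⟶ N, F ≫ q = g ∧ pullback.fst g η ≫ F = f₀ := by
  obtain ⟨π, hπ⟩ : ∃ π : Spec (CommRingCat.of (integralClosure R L)) ⟶ Spec (CommRingCat.of R),
      π = Spec.map (CommRingCat.ofHom (algebraMap R (integralClosure R L))) := ⟨_, rfl⟩
  obtain ⟨τ₀, hτ₀⟩ : ∃ τ₀ : Spec (CommRingCat.of L) ⟶ Spec (CommRingCat.of (integralClosure R L)),
      τ₀ = Spec.map (CommRingCat.ofHom (algebraMap (integralClosure R L) L)) := ⟨_, rfl⟩
  have hpb : IsPullback τ₀ p π η := by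
    rw [hτ₀, hp, hπ, hη]
    exact Groth.Agent.Lib.Helper27.NeronDedB.isPullback_Spec_integralClosure R K L
  haveI : IsFinite π := by
    rw [hπ]; exact Groth.Agent.Lib.Helper27.NeronDedB.isFinite_Spec_integralClosure R K L
  haveI : LocallyOfFinitePresentation π :=
    Groth.Agent.Lib.Helper27.NeronFinE.locallyOfFinitePresentation_of_isLocallyNoetherian π
  haveI : IsLocallyNoetherian (Spec (CommRingCat.of (integralClosure R L))) :=
    LocallyOfFiniteType.isLocallyNoetherian π
  have hS : Pi1.IsNormalScheme (Spec (CommRingCat.of R)) := isNormalScheme_Spec R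
  have hT : Pi1.IsNormalScheme (Spec (CommRingCat.of (integralClosure R L))) :=
    Groth.Agent.Lib.Helper27.NeronDedB.isNormalScheme_Spec_integralClosure R K L
  haveI : QuasiCompact η := by rw [hη]; infer_instance
  haveI : QuasiSeparated η := by rw [hη]; infer_instance
  haveI : IsIso η.fromNormalization :=
    Groth.Agent.Lib.Helper27.NeronDedC.isIso_fromNormalization_genPt_aux R K η hη
  haveI : IsSchemeTheoreticallyDominant η := by
    rw [hη]
    exact isSchemeTheoreticallyDominant_SpecMap _ (IsFractionRing.injective R K)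
  haveI : Flat η := by
    rw [hη, HasRingHomProperty.Spec_iff (P := @Flat)]
    exact RingHom.flat_algebraMap_iff.mpr (IsLocalization.flat K R⁰)
  haveI : Etale p := by
    rw [hp, HasRingHomProperty.Spec_iff (P := @Etale)]
    exact RingHom.etale_algebraMap.mpr inferInstance
  have hτN : ∀ x, τ₀ x ∈ π.smoothLocus := fun x =>
    (Groth.Agent.Lib.Helper8.SmoothLocusBC.mem_smoothLocus_iff_of_isPullback π η p τ₀ hpb
      (Or.inr inferInstance) x).mp (by rw [Scheme.Hom.smoothLocus_eq_top p]; trivial)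
  obtain ⟨τ, hτ⟩ : ∃ τ : Spec (CommRingCat.of L) ⟶ π.smoothLocus.toScheme,
      τ ≫ π.smoothLocus.ι = τ₀ :=
    ⟨IsOpenImmersion.lift π.smoothLocus.ι τ₀ (by
      rintro _ ⟨x, rfl⟩
      rw [Scheme.Opens.range_ι]
      exact hτN x), IsOpenImmersion.lift_fac _ _ _⟩
  refine ⟨π.smoothLocus.toScheme, π.smoothLocus.ι ≫ π, τ,
    Groth.Agent.Lib.Helper27.NeronFinD.etale_smoothLocus_ι_comp π hT, inferInstance, inferInstance,
    isPullback_of_mono_comp τ p _ π η (by rw [hτ]; exact hpb), ?_⟩
  intro Z g _ f₀ hf₀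
  exact existsUnique_of_genFibre hS π hT η g f₀ hf₀

theorem exists_neron_of_iso (η : Spec (CommRingCat.of K) ⟶ Spec (CommRingCat.of R))
    (hη : η = Spec.map (CommRingCat.ofHom (algebraMap R K)))
    {G₀ : Scheme.{u}} (γ : G₀ ⟶ Spec (CommRingCat.of K)) (e : G₀ ≅ Spec (CommRingCat.of L))
    (he : γ = e.hom ≫ Spec.map (CommRingCat.ofHom (algebraMap K L))) :
    ∃ (N : Scheme.{u}) (q : N ⟶ Spec (CommRingCat.of R)) (τ : G₀ ⟶ N),
      Etale q ∧ IsSeparated q ∧ QuasiCompact q ∧ IsPullback τ γ q η ∧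
      ∀ {Z : Scheme.{u}} (g : Z ⟶ Spec (CommRingCat.of R)) [Smooth g] (f₀ : pullback g η ⟶ N),
        f₀ ≫ q = pullback.fst g η ≫ g →
          ∃! F : Z ⟶ N, F ≫ q = g ∧ pullback.fst g η ≫ F = f₀ := by
  obtain ⟨N, q, τ, h1, h2, h3, hpb, h4⟩ := exists_neron_affine R K L η hη _ rfl
  refine ⟨N, q, e.hom ≫ τ, h1, h2, h3, ?_, h4⟩
  have hsq : IsPullback e.hom γ (Spec.map (CommRingCat.ofHom (algebraMap K L))) (𝟙 _) :=
    IsPullback.of_horiz_isIso ⟨by rw [he, Category.comp_id]⟩
  have := hsq.paste_horiz hpb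
  rwa [Category.id_comp] at this

end

end Groth.Agent.Lib.Helper27.NeronDedD
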