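import Mathlib
import Groth.Prelude.Def_Pi1
import Groth.Agent.Lib.Helper27.NeronDedD

/-!
# Néron models of finite étale schemes over the fraction field, non-affine form (helper27)
-/

set_option autoImplicit false
set_option linter.style.haveILetI false
universe u
open AlgebraicGeometry CategoryTheory CategoryTheory.Limits TopologicalSpace

namespace Groth.Agent.Lib.Helper27.NeronDedE

theorem exists_neron_of_finite_etale (R : Type u) [CommRing R] [IsDomain R]
    [IsIntegrallyClosed R] [IsNoetherianRing R] (K : Type u) [Field K] [Algebra R K]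
    [IsFractionRing R K]
    (η : Spec (CommRingCat.of K) ⟶ Spec (CommRingCat.of R))
    (hη : η = Spec.map (CommRingCat.ofHom (algebraMap R K)))
    {G₀ : Scheme.{u}} (γ : G₀ ⟶ Spec (CommRingCat.of K)) [IsFinite γ] [Etale γ] :
    ∃ (N : Scheme.{u}) (q : N ⟶ Spec (CommRingCat.of R)) (τ : G₀ ⟶ N),
      Etale q ∧ IsSeparated q ∧ QuasiCompact q ∧ IsPullback τ γ q η ∧
      ∀ {Z : Scheme.{u}} (g : Z ⟶ Spec (CommRingCat.of R)) [Smooth g] (f₀ : pullback g η ⟶ N),
        f₀ ≫ q = pullback.fst g η ≫ g →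
          ∃! F : Z ⟶ N, F ≫ q = g ∧ pullback.fst g η ≫ F = f₀ := by
  haveI : IsAffine G₀ := isAffine_of_isAffineHom γ
  obtain ⟨φ, hφ⟩ : ∃ φ : CommRingCat.of K ⟶ Γ(G₀, ⊤),
      φ = (Scheme.ΓSpecIso (CommRingCat.of K)).inv ≫ γ.appTop := ⟨_, rfl⟩
  have hγ : γ = G₀.isoSpec.hom ≫ Spec.map φ := by
    have h1 := Scheme.isoSpec_hom_naturality γ
    rw [Scheme.isoSpec_Spec_hom] at h1
    rw [hφ, Spec.map_comp, ← Category.assoc, h1, Category.assoc, ← Spec.map_comp,
      Iso.inv_hom_id, Spec.map_id, Category.comp_id]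
  have hfin : IsFinite (Spec.map φ) := by
    have : Spec.map φ = G₀.isoSpec.inv ≫ γ := by rw [hγ, Iso.inv_hom_id_assoc]
    rw [this]; infer_instance
  have het : Etale (Spec.map φ) := by
    have : Spec.map φ = G₀.isoSpec.inv ≫ γ := by rw [hγ, Iso.inv_hom_id_assoc]
    rw [this]; infer_instance
  letI : Algebra K Γ(G₀, ⊤) := φ.hom.toAlgebra
  letI : Algebra R Γ(G₀, ⊤) := ((algebraMap K Γ(G₀, ⊤)).comp (algebraMap R K)).toAlgebra
  haveI : IsScalarTower R K Γ(G₀, ⊤) := IsScalarTower.of_algebraMap_eq (fun _ => rfl)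
  haveI : Module.Finite K Γ(G₀, ⊤) := (IsFinite.SpecMap_iff φ).mp hfin
  haveI : Algebra.Etale K Γ(G₀, ⊤) := (HasRingHomProperty.Spec_iff (P := @Etale)).mp het
  exact Groth.Agent.Lib.Helper27.NeronDedD.exists_neron_of_iso R K Γ(G₀, ⊤) η hη γ G₀.isoSpec hγ

end Groth.Agent.Lib.Helper27.NeronDedE
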