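import Mathlib
import Groth.Agent.Lib.Helper17.SchDomExt
import Groth.Agent.Lib.Helper3.Reduced
import Groth.Agent.Lib.Helper27.NeronDedD

/-!
# Extending a morphism from a dense "generic fibre" by stalkwise extensions (helper27)

Let `j : Y₀ ⟶ Y` be flat, quasi-compact and scheme-theoretically dominant, `G` separated and
locally of finite type over `S`, and `ψ : Y₀ ⟶ G` an `S`-morphism.  If for every point `y` of the
locally Noetherian scheme `Y` there is an `S`-morphism `Spec 𝒪_{Y,y} ⟶ G` agreeing with `ψ` on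
`Y₀ ×_Y Spec 𝒪_{Y,y}`, then `ψ` extends to an `S`-morphism `Y ⟶ G`.
-/

set_option autoImplicit false
set_option linter.style.haveILetI false
universe u
open AlgebraicGeometry CategoryTheory CategoryTheory.Limits TopologicalSpace

namespace Groth.Agent.Lib.Helper27.NeronLocA

open Groth.Agent.Lib.Helper17.SchDomExt in
/-- Gluing of local extensions. -/
theorem exists_glue {S Y Y₀ G : Scheme.{u}} (pY : Y ⟶ S) (pG : G ⟶ S) [IsSeparated pG]
    (j : Y₀ ⟶ Y) [IsSchemeTheoreticallyDominant j] [QuasiCompact j] (ψ : Y₀ ⟶ G)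
    (𝒰 : Y.OpenCover) (f : ∀ i, 𝒰.X i ⟶ G) (hf : ∀ i, f i ≫ pG = 𝒰.f i ≫ pY)
    (hfψ : ∀ i, pullback.snd j (𝒰.f i) ≫ f i = pullback.fst j (𝒰.f i) ≫ ψ) :
    ∃ φ : Y ⟶ G, φ ≫ pG = pY ∧ j ≫ φ = ψ := by
  have hcompat : ∀ x y, pullback.fst (𝒰.f x) (𝒰.f y) ≫ f x =
      pullback.snd (𝒰.f x) (𝒰.f y) ≫ f y := by
    intro x y
    obtain ⟨κ, hκ⟩ : ∃ κ : pullback (𝒰.f x) (𝒰.f y) ⟶ Y, κ = pullback.fst _ _ ≫ 𝒰.f x :=
      ⟨_, rfl⟩
    haveI : IsOpenImmersion κ := by rw [hκ]; infer_instance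
    haveI : Flat κ := inferInstance
    haveI : IsSchemeTheoreticallyDominant (pullback.snd j κ) := inferInstance
    refine ext_of_sd (pullback.snd j κ) pG _ _ ?_ ?_
    · rw [Category.assoc, Category.assoc, hf, hf, ← Category.assoc, ← Category.assoc,
        pullback.condition]
    · have key : ∀ (i : 𝒰.I₀) (a : pullback (𝒰.f x) (𝒰.f y) ⟶ 𝒰.X i), a ≫ 𝒰.f i = κ →
          pullback.snd j κ ≫ a ≫ f i = pullback.fst j κ ≫ ψ := by
        intro i a ha
        have hc : pullback.fst j κ ≫ j = (pullback.snd j κ ≫ a) ≫ 𝒰.f i := by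
          rw [Category.assoc, ha]; exact pullback.condition
        have h1 : pullback.lift (pullback.fst j κ) (pullback.snd j κ ≫ a) hc ≫
            pullback.snd j (𝒰.f i) = pullback.snd j κ ≫ a := pullback.lift_snd _ _ _
        have h2 : pullback.lift (pullback.fst j κ) (pullback.snd j κ ≫ a) hc ≫
            pullback.fst j (𝒰.f i) = pullback.fst j κ := pullback.lift_fst _ _ _
        rw [← Category.assoc, ← h1, Category.assoc, hfψ, ← Category.assoc, h2]
      rw [key x _ hκ.symm, key y _ (by rw [hκ, pullback.condition])]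
  obtain ⟨φ, hφ⟩ : ∃ φ : Y ⟶ G, ∀ i, 𝒰.f i ≫ φ = f i :=
    ⟨𝒰.glueMorphisms f hcompat, fun i => 𝒰.ι_glueMorphisms f hcompat i⟩
  refine ⟨φ, ?_, ?_⟩
  · apply 𝒰.hom_ext
    intro i
    rw [← Category.assoc, hφ, hf]
  · apply (𝒰.pullback₁ j).hom_ext
    intro i
    show pullback.fst j (𝒰.f i) ≫ j ≫ φ = pullback.fst j (𝒰.f i) ≫ ψ
    rw [← Category.assoc, pullback.condition, Category.assoc, hφ, hfψ]

open Groth.Agent.Lib.Helper17.SchDomExt in
/-- Local extension near a point from an extension on the local scheme. -/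
theorem exists_local_extension {S Y Y₀ G : Scheme.{u}} (pY : Y ⟶ S) (pG : G ⟶ S) [IsSeparated pG]
    [LocallyOfFiniteType pG] (j : Y₀ ⟶ Y) [Flat j] (ψ : Y₀ ⟶ G) (hψ : ψ ≫ pG = j ≫ pY)
    (y : Y) [Y.IsGermInjectiveAt y]
    (φy : Spec (Y.presheaf.stalk y) ⟶ G) (hφy : φy ≫ pG = Y.fromSpecStalk y ≫ pY)
    (hag : pullback.fst j (Y.fromSpecStalk y) ≫ ψ = pullback.snd j (Y.fromSpecStalk y) ≫ φy) :
    ∃ (V : Y.Opens) (_ : y ∈ V) (f : V.toScheme ⟶ G), f ≫ pG = V.ι ≫ pY ∧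
      pullback.snd j V.ι ≫ f = pullback.fst j V.ι ≫ ψ := by
  obtain ⟨U, hyU, f₀, hf₀, hf₀S⟩ := spread_out_of_isGermInjective' pY pG φy hφy
  obtain ⟨V, hyV, hVaff, hVU, hinj⟩ := Y.exists_le_and_germ_injective y U hyU
  obtain ⟨f, hfdef⟩ : ∃ f : V.toScheme ⟶ G, f = Y.homOfLE hVU ≫ f₀ := ⟨_, rfl⟩
  obtain ⟨s, hsdef⟩ : ∃ s : Spec (Y.presheaf.stalk y) ⟶ V.toScheme,
      s = V.fromSpecStalkOfMem y hyV := ⟨_, rfl⟩
  have hsι : s ≫ V.ι = Y.fromSpecStalk y := by rw [hsdef, Scheme.Opens.fromSpecStalkOfMem_ι]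
  have hsf : s ≫ f = φy := by
    have h1 : s ≫ Y.homOfLE hVU = U.fromSpecStalkOfMem y hyU := by
      rw [← cancel_mono U.ι, Category.assoc, Scheme.homOfLE_ι, hsι,
        Scheme.Opens.fromSpecStalkOfMem_ι]
    rw [hfdef, ← Category.assoc, h1, ← hf₀]
  have hfS : f ≫ pG = V.ι ≫ pY := by
    rw [hfdef, Category.assoc, hf₀S, ← Category.assoc, Scheme.homOfLE_ι]
  -- `s` is quasi-compact and scheme-theoretically dominant
  haveI : IsAffine V.toScheme := hVaff
  haveI : QuasiCompact s := inferInstance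
  haveI : IsSchemeTheoreticallyDominant s := by
    have h2 : s ≫ V.toSpecΓ = Spec.map (Y.presheaf.germ V y hyV) := by
      rw [hsdef, Scheme.Opens.fromSpecStalkOfMem_toSpecΓ]
    haveI : IsIso V.toSpecΓ := by
      rw [← hVaff.isoSpec_hom]; infer_instance
    have h3 : s = Spec.map (Y.presheaf.germ V y hyV) ≫ inv V.toSpecΓ := by
      rw [← h2, Category.assoc, IsIso.hom_inv_id, Category.comp_id]
    rw [h3]
    haveI := Groth.Agent.Lib.Helper27.NeronDedD.isSchemeTheoreticallyDominant_SpecMap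
      (Y.presheaf.germ V y hyV) hinj
    infer_instance
  refine ⟨V, hyV, f, hfS, ?_⟩
  haveI : Flat (pullback.snd j V.ι) := inferInstance
  haveI : IsSchemeTheoreticallyDominant (pullback.snd s (pullback.snd j V.ι)) := inferInstance
  refine ext_of_sd (pullback.snd s (pullback.snd j V.ι)) pG _ _ ?_ ?_
  · rw [Category.assoc, Category.assoc, hfS, hψ, ← Category.assoc, ← Category.assoc,
      pullback.condition]
  · -- notation
    obtain ⟨c, hc⟩ : ∃ c, c = pullback.fst s (pullback.snd j V.ι) := ⟨_, rfl⟩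
    obtain ⟨d, hd⟩ : ∃ d, d = pullback.snd s (pullback.snd j V.ι) := ⟨_, rfl⟩
    have hcd : c ≫ s = d ≫ pullback.snd j V.ι := by rw [hc, hd]; exact pullback.condition
    rw [← hd]
    have hlift : (d ≫ pullback.fst j V.ι) ≫ j = c ≫ Y.fromSpecStalk y := by
      rw [Category.assoc, pullback.condition, ← Category.assoc, ← hcd, Category.assoc, hsι]
    have e1 : pullback.lift (d ≫ pullback.fst j V.ι) c hlift ≫
        pullback.fst j (Y.fromSpecStalk y) = d ≫ pullback.fst j V.ι := pullback.lift_fst _ _ _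
    have e2 : pullback.lift (d ≫ pullback.fst j V.ι) c hlift ≫
        pullback.snd j (Y.fromSpecStalk y) = c := pullback.lift_snd _ _ _
    calc d ≫ pullback.snd j V.ι ≫ f = (d ≫ pullback.snd j V.ι) ≫ f := (Category.assoc _ _ _).symm
      _ = (c ≫ s) ≫ f := by rw [hcd]
      _ = c ≫ φy := by rw [Category.assoc, hsf]
      _ = (pullback.lift (d ≫ pullback.fst j V.ι) c hlift ≫
            pullback.snd j (Y.fromSpecStalk y)) ≫ φy := by rw [e2]
      _ = pullback.lift (d ≫ pullback.fst j V.ι) c hlift ≫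
            pullback.fst j (Y.fromSpecStalk y) ≫ ψ := by rw [Category.assoc, hag]
      _ = (d ≫ pullback.fst j V.ι) ≫ ψ := by rw [← Category.assoc, e1]
      _ = d ≫ pullback.fst j V.ι ≫ ψ := Category.assoc _ _ _

/-- Stalkwise extensions glue to a global extension. -/
theorem exists_extension_of_stalkwise {S Y Y₀ G : Scheme.{u}} (pY : Y ⟶ S) (pG : G ⟶ S)
    [IsSeparated pG] [LocallyOfFiniteType pG] [IsLocallyNoetherian Y]
    (j : Y₀ ⟶ Y) [Flat j] [IsSchemeTheoreticallyDominant j] [QuasiCompact j]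
    (ψ : Y₀ ⟶ G) (hψ : ψ ≫ pG = j ≫ pY)
    (H : ∀ y : Y, ∃ φy : Spec (Y.presheaf.stalk y) ⟶ G, φy ≫ pG = Y.fromSpecStalk y ≫ pY ∧
      pullback.fst j (Y.fromSpecStalk y) ≫ ψ = pullback.snd j (Y.fromSpecStalk y) ≫ φy) :
    ∃ φ : Y ⟶ G, φ ≫ pG = pY ∧ j ≫ φ = ψ := by
  have key : ∀ y : Y, ∃ (V : Y.Opens) (_ : y ∈ V) (f : V.toScheme ⟶ G), f ≫ pG = V.ι ≫ pY ∧
      pullback.snd j V.ι ≫ f = pullback.fst j V.ι ≫ ψ := by
    intro y
    obtain ⟨φy, h1, h2⟩ := H y
    exact exists_local_extension pY pG j ψ hψ y φy h1 h2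
  choose V hyV f hf hfψ using key
  let 𝒰 : Y.OpenCover := {
    I₀ := Y, X i := (V i), f i := (V i).ι,
    mem₀ := by
      rw [Scheme.presieve₀_mem_precoverage_iff]
      refine ⟨fun x ↦ ⟨x, by simpa using hyV x⟩, inferInstance⟩ }
  exact exists_glue pY pG j ψ 𝒰 f hf hfψ

end Groth.Agent.Lib.Helper27.NeronLocA
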