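import Mathlib
import Groth.Agent.Lib.Helper26.SchDominant
import Groth.Agent.Lib.Helper27.NeronLocA

/-!
# Local-to-global principle for the Néron mapping property over an integral Noetherian base
(helper27)
-/

set_option autoImplicit false
set_option linter.style.haveILetI false
universe u
open AlgebraicGeometry CategoryTheory CategoryTheory.Limits TopologicalSpace

namespace Groth.Agent.Lib.Helper27.NeronLocB

/-- From surjectivity of restriction to the "generic fibre" over an intermediate base `Sp`,
produce a morphism on `Y ×_S Sp` compatible with a given morphism `h` of generic fibres. -/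
theorem exists_of_surjective_pullback {S Sp Sη : Scheme.{u}} (ιp : Sp ⟶ S) [Mono ιp]
    (σ : Sη ⟶ Sp) (ι : Sη ⟶ S) (hι : σ ≫ ιp = ι) (Y G : Over S)
    (h : (Over.pullback ι).obj Y ⟶ (Over.pullback ι).obj G)
    (hloc : Function.Surjective
      (fun g : (Over.pullback ιp).obj Y ⟶ (Over.pullback ιp).obj G => (Over.pullback σ).map g)) :
    ∃ m : pullback Y.hom ιp ⟶ G.left, m ≫ G.hom = pullback.fst Y.hom ιp ≫ Y.hom ∧
      ∀ {Q : Scheme.{u}} (q₁ : Q ⟶ pullback Y.hom ι) (q₂ : Q ⟶ pullback Y.hom ιp),
        q₁ ≫ pullback.fst Y.hom ι = q₂ ≫ pullback.fst Y.hom ιp →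
          q₁ ≫ h.left ≫ pullback.fst G.hom ι = q₂ ≫ m := by
  have hw : h.left ≫ pullback.snd G.hom ι = pullback.snd Y.hom ι := Over.w h
  -- the comparison `a : (Y_p)_η ⟶ Y_η`
  have hac : (pullback.fst (pullback.snd Y.hom ιp) σ ≫ pullback.fst Y.hom ιp) ≫ Y.hom =
      pullback.snd (pullback.snd Y.hom ιp) σ ≫ ι := by
    rw [Category.assoc, pullback.condition, ← Category.assoc, pullback.condition, Category.assoc,
      hι]
  obtain ⟨a, ha⟩ : ∃ a : pullback (pullback.snd Y.hom ιp) σ ⟶ pullback Y.hom ι,
      a = pullback.lift (pullback.fst (pullback.snd Y.hom ιp) σ ≫ pullback.fst Y.hom ιp)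
        (pullback.snd (pullback.snd Y.hom ιp) σ) hac := ⟨_, rfl⟩
  have ha1 : a ≫ pullback.fst Y.hom ι =
      pullback.fst (pullback.snd Y.hom ιp) σ ≫ pullback.fst Y.hom ιp := by
    rw [ha, pullback.lift_fst]
  have ha2 : a ≫ pullback.snd Y.hom ι = pullback.snd (pullback.snd Y.hom ιp) σ := by
    rw [ha, pullback.lift_snd]
  have hc1 : (a ≫ h.left ≫ pullback.fst G.hom ι) ≫ G.hom =
      (pullback.snd (pullback.snd Y.hom ιp) σ ≫ σ) ≫ ιp := by
    rw [Category.assoc, Category.assoc, pullback.condition, ← Category.assoc h.left, hw,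
      ← Category.assoc, ha2, Category.assoc, hι]
  obtain ⟨w, hwdef⟩ : ∃ w : pullback (pullback.snd Y.hom ιp) σ ⟶ pullback G.hom ιp,
      w = pullback.lift (a ≫ h.left ≫ pullback.fst G.hom ι)
        (pullback.snd (pullback.snd Y.hom ιp) σ ≫ σ) hc1 := ⟨_, rfl⟩
  have hw1 : w ≫ pullback.fst G.hom ιp = a ≫ h.left ≫ pullback.fst G.hom ι := by
    rw [hwdef, pullback.lift_fst]
  have hw2 : w ≫ pullback.snd G.hom ιp = pullback.snd (pullback.snd Y.hom ιp) σ ≫ σ := by
    rw [hwdef, pullback.lift_snd]
  obtain ⟨vl, hvl⟩ : ∃ vl : pullback (pullback.snd Y.hom ιp) σ ⟶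
      pullback (pullback.snd G.hom ιp) σ,
      vl = pullback.lift w (pullback.snd (pullback.snd Y.hom ιp) σ) hw2 := ⟨_, rfl⟩
  have hvl1 : vl ≫ pullback.fst (pullback.snd G.hom ιp) σ = w := by
    rw [hvl, pullback.lift_fst]
  have hvl2 : vl ≫ pullback.snd (pullback.snd G.hom ιp) σ =
      pullback.snd (pullback.snd Y.hom ιp) σ := by
    rw [hvl, pullback.lift_snd]
  obtain ⟨gp, hgp⟩ := hloc (Over.homMk vl hvl2)
  have hgp' : (Over.pullback σ).map gp = Over.homMk vl hvl2 := hgp
  have hgpw : gp.left ≫ pullback.snd G.hom ιp = pullback.snd Y.hom ιp := Over.w gp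
  have hstar : pullback.fst (pullback.snd Y.hom ιp) σ ≫ gp.left = w := by
    have h5 := congrArg (fun m => m.left ≫ pullback.fst (pullback.snd G.hom ιp) σ) hgp'
    simp only [Over.pullback_map_left, Over.homMk_left] at h5
    erw [pullback.lift_fst] at h5
    rw [hvl1] at h5
    exact h5
  refine ⟨gp.left ≫ pullback.fst G.hom ιp, ?_, ?_⟩
  · rw [Category.assoc, pullback.condition, ← Category.assoc, hgpw, pullback.condition]
  · intro Q q₁ q₂ hq
    have hr : q₂ ≫ pullback.snd Y.hom ιp = (q₁ ≫ pullback.snd Y.hom ι) ≫ σ := by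
      rw [← cancel_mono ιp, Category.assoc, ← pullback.condition, ← Category.assoc, ← hq,
        Category.assoc, Category.assoc, Category.assoc, hι, pullback.condition]
    obtain ⟨r, hrdef⟩ : ∃ r : Q ⟶ pullback (pullback.snd Y.hom ιp) σ,
        r = pullback.lift q₂ (q₁ ≫ pullback.snd Y.hom ι) hr := ⟨_, rfl⟩
    have hr1 : r ≫ pullback.fst (pullback.snd Y.hom ιp) σ = q₂ := by
      rw [hrdef, pullback.lift_fst]
    have hr2 : r ≫ pullback.snd (pullback.snd Y.hom ιp) σ = q₁ ≫ pullback.snd Y.hom ι := by
      rw [hrdef, pullback.lift_snd]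
    have hra : r ≫ a = q₁ := by
      apply pullback.hom_ext
      · rw [Category.assoc, ha1, ← Category.assoc, hr1, hq]
      · rw [Category.assoc, ha2, hr2]
    calc q₁ ≫ h.left ≫ pullback.fst G.hom ι = (r ≫ a) ≫ h.left ≫ pullback.fst G.hom ι := by
          rw [hra]
      _ = r ≫ (a ≫ h.left ≫ pullback.fst G.hom ι) := Category.assoc _ _ _
      _ = r ≫ w ≫ pullback.fst G.hom ιp := by rw [hw1]
      _ = r ≫ (pullback.fst (pullback.snd Y.hom ιp) σ ≫ gp.left) ≫ pullback.fst G.hom ιp := by
          rw [hstar]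
      _ = (r ≫ pullback.fst (pullback.snd Y.hom ιp) σ) ≫ gp.left ≫ pullback.fst G.hom ιp := by
          simp only [Category.assoc]
      _ = q₂ ≫ gp.left ≫ pullback.fst G.hom ιp := by rw [hr1]

open Groth.Agent.Lib.Helper17.SchDomExt in
theorem neronLft_of_local {S : Scheme.{u}} [IsIntegral S] [IsNoetherian S] (G : Over S)
    [Smooth G.hom] [IsSeparated G.hom]
    (hloc : ∀ p : S, IsClosed ({p} : Set S) →
      ∀ Y : Over (Spec (S.presheaf.stalk p)), Smooth Y.hom →
        Function.Surjective (fun g : Y ⟶ (Over.pullback (S.fromSpecStalk p)).obj G =>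
          (Over.pullback (Spec.map (S.presheaf.stalkSpecializes
            (genericPoint_specializes p)))).map g))
    (Y : Over S) [Smooth Y.hom] :
    Function.Bijective (fun g : Y ⟶ G =>
      (Over.pullback (S.fromSpecStalk (genericPoint S))).map g) := by
  haveI := quasiCompact_fromSpecStalk_genericPoint S
  haveI := isSchemeTheoreticallyDominant_fromSpecStalk_genericPoint S
  haveI : Flat (S.fromSpecStalk (genericPoint S)) :=
    Groth.Agent.Lib.Helper3.flat_fromSpecStalk S _
  constructor
  · intro g₁ g₂ h12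
    exact Groth.Agent.Lib.Helper26.SchDominant.over_hom_ext_of_pullback_map_eq
      (S.fromSpecStalk (genericPoint S)) g₁ g₂ h12
  · intro h
    haveI : IsLocallyNoetherian Y.left := LocallyOfFiniteType.isLocallyNoetherian Y.hom
    have hw : h.left ≫ pullback.snd G.hom (S.fromSpecStalk (genericPoint S)) =
        pullback.snd Y.hom (S.fromSpecStalk (genericPoint S)) := Over.w h
    have hψ : (h.left ≫ pullback.fst G.hom (S.fromSpecStalk (genericPoint S))) ≫ G.hom =
        pullback.fst Y.hom (S.fromSpecStalk (genericPoint S)) ≫ Y.hom := by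
      rw [Category.assoc, pullback.condition, ← Category.assoc, hw, pullback.condition]
    obtain ⟨φ, hφ1, hφ2⟩ := Groth.Agent.Lib.Helper27.NeronLocA.exists_extension_of_stalkwise
      Y.hom G.hom (pullback.fst Y.hom (S.fromSpecStalk (genericPoint S)))
      (h.left ≫ pullback.fst G.hom (S.fromSpecStalk (genericPoint S))) hψ (fun y => by
        -- a closed point `p` specializing `Y.hom y`
        obtain ⟨p, hp, hpcl⟩ := (isClosed_closure (s := ({Y.hom y} : Set S))).exists_closed_singleton
          ⟨Y.hom y, subset_closure rfl⟩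
        have hyp : Y.hom y ⤳ p := specializes_iff_mem_closure.mpr hp
        haveI : Smooth ((Over.pullback (S.fromSpecStalk p)).obj Y).hom :=
          inferInstanceAs (Smooth (pullback.snd Y.hom (S.fromSpecStalk p)))
        obtain ⟨m, hm1, hm2⟩ := exists_of_surjective_pullback (S.fromSpecStalk p)
          (Spec.map (S.presheaf.stalkSpecializes (genericPoint_specializes p)))
          (S.fromSpecStalk (genericPoint S))
          (Scheme.SpecMap_stalkSpecializes_fromSpecStalk _) Y G h
          (hloc p hpcl ((Over.pullback (S.fromSpecStalk p)).obj Y) inferInstance)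
        have htc : Y.left.fromSpecStalk y ≫ Y.hom =
            (Spec.map (Y.hom.stalkMap y) ≫ Spec.map (S.presheaf.stalkSpecializes hyp)) ≫
              S.fromSpecStalk p := by
          rw [Category.assoc, Scheme.SpecMap_stalkSpecializes_fromSpecStalk,
            Scheme.SpecMap_stalkMap_fromSpecStalk]
        obtain ⟨t, ht⟩ : ∃ t : Spec (Y.left.presheaf.stalk y) ⟶ pullback Y.hom (S.fromSpecStalk p),
            t = pullback.lift (Y.left.fromSpecStalk y)
              (Spec.map (Y.hom.stalkMap y) ≫ Spec.map (S.presheaf.stalkSpecializes hyp)) htc :=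
          ⟨_, rfl⟩
        have ht1 : t ≫ pullback.fst Y.hom (S.fromSpecStalk p) = Y.left.fromSpecStalk y := by
          rw [ht, pullback.lift_fst]
        refine ⟨t ≫ m, ?_, ?_⟩
        · rw [Category.assoc, hm1, ← Category.assoc, ht1]
        · have h6 := hm2 (pullback.fst (pullback.fst Y.hom (S.fromSpecStalk (genericPoint S)))
              (Y.left.fromSpecStalk y))
            (pullback.snd (pullback.fst Y.hom (S.fromSpecStalk (genericPoint S)))
              (Y.left.fromSpecStalk y) ≫ t)
            (by rw [Category.assoc, ht1]; exact pullback.condition)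
          rw [h6, Category.assoc])
    refine ⟨Over.homMk φ hφ1, ?_⟩
    apply Over.OverMorphism.ext
    apply pullback.hom_ext
    · simp only [Over.pullback_map_left, Over.homMk_left, pullback.lift_fst]
      exact hφ2
    · simp only [Over.pullback_map_left, pullback.lift_snd]
      exact hw.symm

end Groth.Agent.Lib.Helper27.NeronLocB
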