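import Mathlib
import Groth.Prelude.Def_CInt

/-!
# Immersions through which a schematically dense open factors are open immersions
-/

set_option autoImplicit false
set_option linter.style.haveILetI false
universe u
open AlgebraicGeometry CategoryTheory CategoryTheory.Limits TopologicalSpace

namespace Groth.Agent.Lib.Helper27.SchDomImm

theorem injective_map_of_eq {X : Scheme.{u}} {O₁ O₂ Uo : X.Opens} (heq : O₁ = O₂) (h₁ : O₁ ≤ Uo)
    (h₂ : O₂ ≤ Uo) (h : Function.Injective (X.presheaf.map (homOfLE h₂).op)) :
    Function.Injective (X.presheaf.map (homOfLE h₁).op) := by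
  subst heq
  exact h

theorem isSchemeTheoreticallyDominant_ι_of_isSchematicallyDense {V : Scheme.{u}} (W : V.Opens)
    [QuasiCompact W.ι] (h : CInt.IsSchematicallyDense W) : IsSchemeTheoreticallyDominant W.ι := by
  rw [isSchemeTheoreticallyDominant_iff]
  refine Scheme.IdealSheafData.ext (funext fun Uo => ?_)
  rw [Scheme.Hom.ker_apply, Scheme.IdealSheafData.ideal_bot, Pi.bot_apply,
    ← RingHom.injective_iff_ker_eq_bot]
  have heq : W.ι ''ᵁ W.ι ⁻¹ᵁ Uo.1 = Uo.1 ⊓ W := by
    rw [Scheme.Hom.image_preimage_eq_opensRange_inf, Scheme.Opens.opensRange_ι, inf_comm]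
  exact injective_map_of_eq heq (heq.le.trans inf_le_left) inf_le_left (h Uo.1)

theorem isSchematicallyDense_of_isSchemeTheoreticallyDominant_ι {U : Scheme.{u}} (W' : U.Opens)
    [QuasiCompact W'.ι] [IsSchemeTheoreticallyDominant W'.ι] : CInt.IsSchematicallyDense W' := by
  intro O
  have heq : O ⊓ W' = W'.ι ''ᵁ W'.ι ⁻¹ᵁ O := by
    rw [Scheme.Hom.image_preimage_eq_opensRange_inf, Scheme.Opens.opensRange_ι, inf_comm]
  have h : Function.Injective (U.presheaf.map (homOfLE (heq.symm.le.trans inf_le_left)).op) :=
    W'.ι.app_injective O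
  exact injective_map_of_eq heq inf_le_left (heq.symm.le.trans inf_le_left) h

theorem isSchematicallyDense_preimage_of_flat {U V : Scheme.{u}} (q : U ⟶ V) [Flat q] (W : V.Opens)
    [QuasiCompact W.ι] (h : CInt.IsSchematicallyDense W) : CInt.IsSchematicallyDense (q ⁻¹ᵁ W) := by
  haveI := isSchemeTheoreticallyDominant_ι_of_isSchematicallyDense W h
  have H := isPullback_morphismRestrict q W
  haveI : QuasiCompact (q ⁻¹ᵁ W).ι :=
    MorphismProperty.of_isPullback (P := @QuasiCompact) H inferInstance
  haveI : IsSchemeTheoreticallyDominant (q ⁻¹ᵁ W).ι := IsSchemeTheoreticallyDominant.of_isPullback H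
  exact isSchematicallyDense_of_isSchemeTheoreticallyDominant_ι _

/-- An immersion into a locally Noetherian scheme through which a schematically dense open
subscheme factors is an open immersion. -/
theorem isOpenImmersion_of_factors {Z Y : Scheme.{u}} [IsLocallyNoetherian Y] (i : Z ⟶ Y)
    [IsImmersion i] (D : Y.Opens) (hD : CInt.IsSchematicallyDense D) (s : D.toScheme ⟶ Z)
    (hs : s ≫ i = D.ι) : IsOpenImmersion i := by
  haveI : QuasiCompact i := by rw [← i.liftCoborder_ι]; infer_instance
  haveI := isSchemeTheoreticallyDominant_ι_of_isSchematicallyDense D hD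
  haveI hsd : IsSchemeTheoreticallyDominant (s ≫ i) := by rw [hs]; infer_instance
  haveI : QuasiCompact (s ≫ i) := by rw [hs]; infer_instance
  have hker : i.ker = ⊥ := by
    refine Scheme.IdealSheafData.ext (funext fun U => ?_)
    rw [Scheme.Hom.ker_apply, Scheme.IdealSheafData.ideal_bot, Pi.bot_apply,
      ← RingHom.injective_iff_ker_eq_bot]
    have := (s ≫ i).app_injective U.1
    rw [Scheme.Hom.comp_app] at this
    exact Function.Injective.of_comp (f := (s.app (i ⁻¹ᵁ U.1)).hom) this
  haveI : IsIso i.imageι := (Scheme.isIso_subschemeι_iff_eq_bot _).mpr hker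
  rw [← i.toImage_imageι]
  infer_instance

end Groth.Agent.Lib.Helper27.SchDomImm
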