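import Mathlib
import Groth.Prelude.Def_CInt
import Groth.Agent.Lib.Helper26.SchDominant
import Groth.Agent.Lib.Helper27.SchDomImm
import Groth.Agent.Lib.Helper27.NeronLocA

/-!
# Descent of the Néron mapping property along a flat surjective morphism (helper27)
-/

set_option autoImplicit false
set_option linter.style.haveILetI false
universe u
open AlgebraicGeometry CategoryTheory CategoryTheory.Limits TopologicalSpace

namespace Groth.Agent.Lib.Helper27.NeronLocC

theorem faithfullyFlat_stalkMap {X Y : Scheme.{u}} (f : X ⟶ Y) [Flat f] (x : X) :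
    (f.stalkMap x).hom.FaithfullyFlat := by
  algebraize [(f.stalkMap x).hom]
  have : Module.FaithfullyFlat (Y.presheaf.stalk (f x)) (X.presheaf.stalk x) :=
    @Module.FaithfullyFlat.of_flat_of_isLocalHom _ _ _ _ _ _ _
      (Flat.stalkMap f x) (f.toLRSHom.prop x)
  exact this

/-- From surjectivity of restriction over `g⁻¹ U` after base change along `g`, produce a morphism
on `Y ×_S S'` compatible with a given morphism `h` over `U`. -/
theorem exists_of_surjective_baseChange {S S' : Scheme.{u}} (g : S' ⟶ S) (U : S.Opens)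
    (Y N : Over S)
    (h : (Over.pullback U.ι).obj Y ⟶ (Over.pullback U.ι).obj N)
    (hloc : Function.Surjective
      (fun f : (Over.pullback g).obj Y ⟶ (Over.pullback g).obj N =>
        (Over.pullback (g ⁻¹ᵁ U).ι).map f)) :
    ∃ m : pullback Y.hom g ⟶ N.left, m ≫ N.hom = pullback.fst Y.hom g ≫ Y.hom ∧
      ∀ {Q : Scheme.{u}} (q₁ : Q ⟶ pullback Y.hom U.ι) (q₂ : Q ⟶ pullback Y.hom g),
        q₁ ≫ pullback.fst Y.hom U.ι = q₂ ≫ pullback.fst Y.hom g →
          q₁ ≫ h.left ≫ pullback.fst N.hom U.ι = q₂ ≫ m := by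
  have hw : h.left ≫ pullback.snd N.hom U.ι = pullback.snd Y.hom U.ι := Over.w h
  have sq : IsPullback (g ⁻¹ᵁ U).ι (g ∣_ U) g U.ι := (isPullback_morphismRestrict g U).flip
  have hac : (pullback.fst (pullback.snd Y.hom g) (g ⁻¹ᵁ U).ι ≫ pullback.fst Y.hom g) ≫ Y.hom =
      (pullback.snd (pullback.snd Y.hom g) (g ⁻¹ᵁ U).ι ≫ (g ∣_ U)) ≫ U.ι := by
    rw [Category.assoc, pullback.condition, ← Category.assoc, pullback.condition, Category.assoc,
      Category.assoc, sq.w]
  obtain ⟨a, ha⟩ : ∃ a : pullback (pullback.snd Y.hom g) (g ⁻¹ᵁ U).ι ⟶ pullback Y.hom U.ι,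
      a = pullback.lift (pullback.fst (pullback.snd Y.hom g) (g ⁻¹ᵁ U).ι ≫ pullback.fst Y.hom g)
        (pullback.snd (pullback.snd Y.hom g) (g ⁻¹ᵁ U).ι ≫ (g ∣_ U)) hac := ⟨_, rfl⟩
  have ha1 : a ≫ pullback.fst Y.hom U.ι =
      pullback.fst (pullback.snd Y.hom g) (g ⁻¹ᵁ U).ι ≫ pullback.fst Y.hom g := by
    rw [ha, pullback.lift_fst]
  have ha2 : a ≫ pullback.snd Y.hom U.ι =
      pullback.snd (pullback.snd Y.hom g) (g ⁻¹ᵁ U).ι ≫ (g ∣_ U) := by
    rw [ha, pullback.lift_snd]
  have hc1 : (a ≫ h.left ≫ pullback.fst N.hom U.ι) ≫ N.hom =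
      (pullback.snd (pullback.snd Y.hom g) (g ⁻¹ᵁ U).ι ≫ (g ⁻¹ᵁ U).ι) ≫ g := by
    rw [Category.assoc, Category.assoc, pullback.condition, ← Category.assoc h.left, hw,
      ← Category.assoc, ha2, Category.assoc, Category.assoc, sq.w]
  obtain ⟨w, hwdef⟩ : ∃ w : pullback (pullback.snd Y.hom g) (g ⁻¹ᵁ U).ι ⟶ pullback N.hom g,
      w = pullback.lift (a ≫ h.left ≫ pullback.fst N.hom U.ι)
        (pullback.snd (pullback.snd Y.hom g) (g ⁻¹ᵁ U).ι ≫ (g ⁻¹ᵁ U).ι) hc1 := ⟨_, rfl⟩
  have hw1 : w ≫ pullback.fst N.hom g = a ≫ h.left ≫ pullback.fst N.hom U.ι := by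
    rw [hwdef, pullback.lift_fst]
  have hw2 : w ≫ pullback.snd N.hom g =
      pullback.snd (pullback.snd Y.hom g) (g ⁻¹ᵁ U).ι ≫ (g ⁻¹ᵁ U).ι := by
    rw [hwdef, pullback.lift_snd]
  obtain ⟨vl, hvl⟩ : ∃ vl : pullback (pullback.snd Y.hom g) (g ⁻¹ᵁ U).ι ⟶
      pullback (pullback.snd N.hom g) (g ⁻¹ᵁ U).ι,
      vl = pullback.lift w (pullback.snd (pullback.snd Y.hom g) (g ⁻¹ᵁ U).ι) hw2 := ⟨_, rfl⟩
  have hvl1 : vl ≫ pullback.fst (pullback.snd N.hom g) (g ⁻¹ᵁ U).ι = w := by
    rw [hvl, pullback.lift_fst]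
  have hvl2 : vl ≫ pullback.snd (pullback.snd N.hom g) (g ⁻¹ᵁ U).ι =
      pullback.snd (pullback.snd Y.hom g) (g ⁻¹ᵁ U).ι := by
    rw [hvl, pullback.lift_snd]
  obtain ⟨gp, hgp⟩ := hloc (Over.homMk vl hvl2)
  have hgp' : (Over.pullback (g ⁻¹ᵁ U).ι).map gp = Over.homMk vl hvl2 := hgp
  have hgpw : gp.left ≫ pullback.snd N.hom g = pullback.snd Y.hom g := Over.w gp
  have hstar : pullback.fst (pullback.snd Y.hom g) (g ⁻¹ᵁ U).ι ≫ gp.left = w := by
    have h5 := congrArg
      (fun m => m.left ≫ pullback.fst (pullback.snd N.hom g) (g ⁻¹ᵁ U).ι) hgp'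
    simp only [Over.pullback_map_left, Over.homMk_left] at h5
    erw [pullback.lift_fst] at h5
    rw [hvl1] at h5
    exact h5
  refine ⟨gp.left ≫ pullback.fst N.hom g, ?_, ?_⟩
  · rw [Category.assoc, pullback.condition, ← Category.assoc, hgpw, pullback.condition]
  · intro Q q₁ q₂ hq
    have hu : (q₂ ≫ pullback.snd Y.hom g) ≫ g = (q₁ ≫ pullback.snd Y.hom U.ι) ≫ U.ι := by
      rw [Category.assoc, ← pullback.condition, ← Category.assoc, ← hq, Category.assoc,
        Category.assoc, pullback.condition]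
    obtain ⟨u', hu'⟩ : ∃ u' : Q ⟶ (g ⁻¹ᵁ U).toScheme, u' = sq.lift _ _ hu := ⟨_, rfl⟩
    have hu1 : u' ≫ (g ⁻¹ᵁ U).ι = q₂ ≫ pullback.snd Y.hom g := by rw [hu', sq.lift_fst]
    have hu2 : u' ≫ (g ∣_ U) = q₁ ≫ pullback.snd Y.hom U.ι := by rw [hu', sq.lift_snd]
    obtain ⟨r, hrdef⟩ : ∃ r : Q ⟶ pullback (pullback.snd Y.hom g) (g ⁻¹ᵁ U).ι,
        r = pullback.lift q₂ u' hu1.symm := ⟨_, rfl⟩
    have hr1 : r ≫ pullback.fst (pullback.snd Y.hom g) (g ⁻¹ᵁ U).ι = q₂ := by
      rw [hrdef, pullback.lift_fst]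
    have hr2 : r ≫ pullback.snd (pullback.snd Y.hom g) (g ⁻¹ᵁ U).ι = u' := by
      rw [hrdef, pullback.lift_snd]
    have hra : r ≫ a = q₁ := by
      apply pullback.hom_ext
      · rw [Category.assoc, ha1, ← Category.assoc, hr1, hq]
      · rw [Category.assoc, ha2, ← Category.assoc, hr2, hu2]
    calc q₁ ≫ h.left ≫ pullback.fst N.hom U.ι = (r ≫ a) ≫ h.left ≫ pullback.fst N.hom U.ι := by
          rw [hra]
      _ = r ≫ (a ≫ h.left ≫ pullback.fst N.hom U.ι) := Category.assoc _ _ _
      _ = r ≫ w ≫ pullback.fst N.hom g := by rw [hw1]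
      _ = r ≫ (pullback.fst (pullback.snd Y.hom g) (g ⁻¹ᵁ U).ι ≫ gp.left) ≫
            pullback.fst N.hom g := by rw [hstar]
      _ = (r ≫ pullback.fst (pullback.snd Y.hom g) (g ⁻¹ᵁ U).ι) ≫ gp.left ≫
            pullback.fst N.hom g := by simp only [Category.assoc]
      _ = q₂ ≫ gp.left ≫ pullback.fst N.hom g := by rw [hr1]

open Groth.Agent.Lib.Helper17.SchDomExt in
theorem nmp_descent {S S' : Scheme.{u}} [IsLocallyNoetherian S] (g : S' ⟶ S) [Flat g]
    [Surjective g] (U : S.Opens) (hU : CInt.IsSchematicallyDense U)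
    (N : Over S) [Smooth N.hom] [IsSeparated N.hom]
    (hN' : ∀ Y' : Over S', Smooth Y'.hom →
      Function.Surjective (fun f : Y' ⟶ (Over.pullback g).obj N =>
        (Over.pullback (g ⁻¹ᵁ U).ι).map f))
    (Y : Over S) [Smooth Y.hom] :
    Function.Bijective (fun f : Y ⟶ N => (Over.pullback U.ι).map f) := by
  haveI : QuasiCompact U.ι := inferInstance
  haveI : IsSchemeTheoreticallyDominant U.ι :=
    Groth.Agent.Lib.Helper27.SchDomImm.isSchemeTheoreticallyDominant_ι_of_isSchematicallyDense U hU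
  constructor
  · intro g₁ g₂ h12
    exact Groth.Agent.Lib.Helper26.SchDominant.over_hom_ext_of_pullback_map_eq U.ι g₁ g₂ h12
  · intro h
    haveI : IsLocallyNoetherian Y.left := LocallyOfFiniteType.isLocallyNoetherian Y.hom
    have hw : h.left ≫ pullback.snd N.hom U.ι = pullback.snd Y.hom U.ι := Over.w h
    have hψ : (h.left ≫ pullback.fst N.hom U.ι) ≫ N.hom = pullback.fst Y.hom U.ι ≫ Y.hom := by
      rw [Category.assoc, pullback.condition, ← Category.assoc, hw, pullback.condition]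
    haveI : Smooth ((Over.pullback g).obj Y).hom :=
      inferInstanceAs (Smooth (pullback.snd Y.hom g))
    obtain ⟨m, hm1, hm2⟩ := exists_of_surjective_baseChange g U Y N h
      (hN' ((Over.pullback g).obj Y) inferInstance)
    obtain ⟨φ, hφ1, hφ2⟩ := Groth.Agent.Lib.Helper27.NeronLocA.exists_extension_of_stalkwise
      Y.hom N.hom (pullback.fst Y.hom U.ι) (h.left ≫ pullback.fst N.hom U.ι) hψ (fun y => by
        obtain ⟨y', rfl⟩ := (pullback.fst Y.hom g).surjective y
        obtain ⟨q, hq⟩ : ∃ q : Spec ((pullback Y.hom g).presheaf.stalk y') ⟶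
            Spec (Y.left.presheaf.stalk ((pullback.fst Y.hom g) y')),
            q = Spec.map ((pullback.fst Y.hom g).stalkMap y') := ⟨_, rfl⟩
        have hqfs : q ≫ Y.left.fromSpecStalk ((pullback.fst Y.hom g) y') =
            (pullback Y.hom g).fromSpecStalk y' ≫ pullback.fst Y.hom g := by
          rw [hq, Scheme.SpecMap_stalkMap_fromSpecStalk]
        obtain ⟨hqflat, hqsurj⟩ : Flat q ∧ Surjective q := by
          rw [hq]
          exact (flat_and_surjective_SpecMap_iff _).mpr
            (faithfullyFlat_stalkMap (pullback.fst Y.hom g) y')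
        haveI := hqflat
        haveI := hqsurj
        haveI : QuasiCompact q := inferInstance
        haveI : Flat (Y.left.fromSpecStalk ((pullback.fst Y.hom g) y')) :=
          Groth.Agent.Lib.Helper3.flat_fromSpecStalk _ _
        haveI : IsSchemeTheoreticallyDominant (pullback.snd (pullback.fst Y.hom U.ι)
            (Y.left.fromSpecStalk ((pullback.fst Y.hom g) y'))) := inferInstance
        obtain ⟨φy, h1, h2⟩ := exists_extension_core
          (Y.left.fromSpecStalk ((pullback.fst Y.hom g) y') ≫ Y.hom) N.hom q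
          (pullback.snd (pullback.fst Y.hom U.ι)
            (Y.left.fromSpecStalk ((pullback.fst Y.hom g) y')))
          ((pullback Y.hom g).fromSpecStalk y' ≫ m)
          (by rw [Category.assoc, hm1, ← Category.assoc, ← hqfs, Category.assoc])
          (pullback.fst (pullback.fst Y.hom U.ι)
            (Y.left.fromSpecStalk ((pullback.fst Y.hom g) y')) ≫
              h.left ≫ pullback.fst N.hom U.ι)
          (by
            have h6 := hm2 (pullback.snd q (pullback.snd (pullback.fst Y.hom U.ι)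
                (Y.left.fromSpecStalk ((pullback.fst Y.hom g) y'))) ≫
                pullback.fst (pullback.fst Y.hom U.ι)
                  (Y.left.fromSpecStalk ((pullback.fst Y.hom g) y')))
              (pullback.fst q (pullback.snd (pullback.fst Y.hom U.ι)
                (Y.left.fromSpecStalk ((pullback.fst Y.hom g) y'))) ≫
                (pullback Y.hom g).fromSpecStalk y')
              (by
                rw [Category.assoc, pullback.condition, ← Category.assoc, ← pullback.condition,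
                  Category.assoc, hqfs, Category.assoc])
            simpa only [Category.assoc] using h6.symm)
        exact ⟨φy, h1, h2.symm⟩)
    refine ⟨Over.homMk φ hφ1, ?_⟩
    apply Over.OverMorphism.ext
    apply pullback.hom_ext
    · simp only [Over.pullback_map_left, Over.homMk_left, pullback.lift_fst]
      exact hφ2
    · simp only [Over.pullback_map_left, pullback.lift_snd]
      exact hw.symm

end Groth.Agent.Lib.Helper27.NeronLocC
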