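import Mathlib
import Groth.Prelude.Def_EGA4b
import Groth.Agent.Lib.Helper14.NormalRing
import Groth.Agent.Lib.Helper21.NorGeom
import Groth.Agent.Lib.Helper27.RegFibF

/-!
# Geometric normality of fibre rings: transport lemmas (helper27)

Normal analogue of `RegFibA`, `RegFibD`, `RegFibF`.
-/

set_option autoImplicit false
set_option linter.style.haveILetI false
universe u

namespace Groth.Agent.Lib.Helper27.NorFibA

open TensorProduct Groth.Agent.Lib.Helper14

section pnor

variable (R : Type u) [CommRing R] (κ : Type u) [Field κ] [Algebra R κ]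
  (S : Type u) [CommRing S] [Algebra R S]

/-- Base-free form of geometric normality of `κ ⊗[R] S` over `κ`. -/
def PNor : Prop :=
  ∀ (K : Type u) [Field K] [Algebra R K] [Algebra κ K] [IsScalarTower R κ K],
    Module.Finite κ K → EGA4.IsNormalRing (K ⊗[R] S)

theorem isGeomNormal_tensor_iff :
    EGA4.IsGeomNormal κ (κ ⊗[R] S) ↔ PNor R κ S := by
  constructor
  · intro h K _ _ _ _ hfin
    have := h K hfin
    exact isNormalRing_of_ringEquiv
      (Algebra.TensorProduct.cancelBaseChange R κ K K S).toRingEquiv this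
  · intro h K _ _ hfin
    letI : Algebra R K := ((algebraMap κ K).comp (algebraMap R κ)).toAlgebra
    haveI : IsScalarTower R κ K := IsScalarTower.of_algebraMap_eq (fun _ => rfl)
    have := h K hfin
    exact isNormalRing_of_ringEquiv
      (Algebra.TensorProduct.cancelBaseChange R κ K K S).symm.toRingEquiv this

variable {R κ S}

theorem pNor_of_algEquiv {κ' : Type u} [Field κ'] [Algebra R κ'] (σ : κ' ≃ₐ[R] κ)
    (h : PNor R κ' S) : PNor R κ S := by
  intro K _ _ _ _ hfin
  letI : Algebra κ' K := ((algebraMap κ K).comp (σ : κ' →+* κ)).toAlgebra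
  letI : Algebra κ' κ := (σ : κ' →+* κ).toAlgebra
  haveI : IsScalarTower κ' κ K := IsScalarTower.of_algebraMap_eq (fun _ => rfl)
  haveI : IsScalarTower R κ' K := by
    refine IsScalarTower.of_algebraMap_eq (fun a => ?_)
    show algebraMap R K a = algebraMap κ K (σ (algebraMap R κ' a))
    rw [σ.commutes, ← IsScalarTower.algebraMap_apply]
  haveI : Module.Finite κ' κ :=
    Module.Finite.of_surjective (Algebra.linearMap κ' κ) σ.surjective
  haveI : Module.Finite κ K := hfin
  haveI : Module.Finite κ' K := Module.Finite.trans κ K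
  exact h K inferInstance

theorem isGeomNormal_of_algEquiv' {k B B' : Type u} [Field k] [CommRing B] [CommRing B']
    [Algebra k B] [Algebra k B'] (e : B ≃ₐ[k] B') (h : EGA4.IsGeomNormal k B) :
    EGA4.IsGeomNormal k B' := by
  intro k' _ _ hfin
  have := h k' hfin
  exact isNormalRing_of_ringEquiv
    (Algebra.TensorProduct.congr (AlgEquiv.refl : k' ≃ₐ[k] k') e).toRingEquiv this

/-- The chart condition is invariant under `R`-algebra isomorphisms of the algebra. -/
theorem pNor_congr {S' : Type u} [CommRing S'] [Algebra R S'] (e : S ≃ₐ[R] S')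
    (h : PNor R κ S) : PNor R κ S' := by
  intro K _ _ _ _ hfin
  have := h K hfin
  exact isNormalRing_of_ringEquiv
    (Algebra.TensorProduct.congr (AlgEquiv.refl : K ≃ₐ[R] K) e).toRingEquiv this

end pnor

section loc

/-- Normality is local for the covering by basic opens. -/
theorem isNormalRing_of_local_away {T : Type u} [CommRing T]
    (H : ∀ P : Ideal T, P.IsPrime → ∃ t : T, t ∉ P ∧ EGA4.IsNormalRing (Localization.Away t)) :
    EGA4.IsNormalRing T := by
  intro P hP
  obtain ⟨t, ht, hn⟩ := H P hP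
  have hdisj : Disjoint (Submonoid.powers t : Set T) (P : Set T) := by
    rw [Set.disjoint_left]
    rintro _ ⟨n, rfl⟩ hmem
    exact ht (hP.mem_of_pow_mem n hmem)
  let P' : Ideal (Localization.Away t) := P.map (algebraMap T (Localization.Away t))
  haveI hP' : P'.IsPrime :=
    IsLocalization.isPrime_of_isPrime_disjoint (Submonoid.powers t) _ P hP hdisj
  have hcomap : P'.comap (algebraMap T (Localization.Away t)) = P :=
    IsLocalization.comap_map_of_isPrime_disjoint (Submonoid.powers t) _ hP hdisj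
  obtain ⟨hd, hic⟩ := hn P'
  haveI : IsLocalization.AtPrime (Localization.AtPrime P')
      (P'.comap (algebraMap T (Localization.Away t))) :=
    IsLocalization.isLocalization_isLocalization_atPrime_isLocalization (Submonoid.powers t) _ P'
  haveI : IsLocalization.AtPrime (Localization.AtPrime P') P := by
    convert this using 1
    exact hcomap.symm
  let e : Localization.AtPrime P ≃ₐ[T] Localization.AtPrime P' :=
    IsLocalization.algEquiv P.primeCompl _ _
  exact ⟨e.toRingEquiv.toMulEquiv.isDomain _, IsIntegrallyClosed.of_equiv e.symm.toRingEquiv⟩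

variable (κ : Type u) [Field κ] (A : Type u) [CommRing A] [Algebra κ A]
  (K : Type u) [Field K] [Algebra κ K]

/-- Normality of `K ⊗[κ] A` can be checked on a cover of `Spec A` by basic opens. -/
theorem isNormalRing_tensor_of_local
    (H : ∀ q : Ideal A, q.IsPrime → ∃ (g : A) (_ : g ∉ q) (A' : Type u) (_ : CommRing A')
      (_ : Algebra κ A') (_ : Algebra A A') (_ : IsScalarTower κ A A')
      (_ : IsLocalization.Away g A'), EGA4.IsNormalRing (K ⊗[κ] A')) :
    EGA4.IsNormalRing (K ⊗[κ] A) := by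
  refine isNormalRing_of_local_away (fun P hP => ?_)
  let ι : A →+* K ⊗[κ] A := (Algebra.TensorProduct.includeRight : A →ₐ[κ] K ⊗[κ] A).toRingHom
  obtain ⟨g, hg, A', _, _, _, _, _, hreg⟩ := H (P.comap ι) (Ideal.comap_isPrime ι P)
  have ht : ((1 : K) ⊗ₜ[κ] g : K ⊗[κ] A) ∉ P := fun h => hg h
  refine ⟨(1 : K) ⊗ₜ[κ] g, ht, ?_⟩
  exact isNormalRing_of_ringEquiv
    (IsLocalization.Away.tensorProductEquivTMulRight κ K g A').toRingEquiv hreg

/-- Localisation away from an element preserves normality of `K ⊗[κ] -`. -/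
theorem isNormalRing_tensor_away (h : EGA4.IsNormalRing (K ⊗[κ] A)) (g : A) (A' : Type u)
    [CommRing A'] [Algebra κ A'] [Algebra A A'] [IsScalarTower κ A A'] [IsLocalization.Away g A'] :
    EGA4.IsNormalRing (K ⊗[κ] A') := by
  have h1 : EGA4.IsNormalRing (Localization.Away ((1 : K) ⊗ₜ[κ] g : K ⊗[κ] A)) :=
    isNormalRing_of_isLocalization (Submonoid.powers ((1 : K) ⊗ₜ[κ] g : K ⊗[κ] A)) _ h
  exact isNormalRing_of_ringEquiv
    (IsLocalization.Away.tensorProductEquivTMulRight κ K g A').symm.toRingEquiv h1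

end loc

section bc

open Groth.Agent.Lib.Helper27.RegFibF

variable (R R' S : Type u) [CommRing R] [CommRing R'] [CommRing S] [Algebra R R'] [Algebra R S]
  (k k' : Type u) [Field k] [Field k'] [Algebra R k] [Algebra R' k'] [Algebra k k']
  [Algebra R k'] [IsScalarTower R R' k'] [IsScalarTower R k k'] [Algebra.EssFiniteType k k']

theorem noeth_bc_iff :
    IsNoetherianRing (k ⊗[R] S) ↔ IsNoetherianRing (k' ⊗[R'] (R' ⊗[R] S)) := by
  constructor
  · intro hN
    haveI := hN
    haveI hN1 : IsNoetherianRing ((k ⊗[R] S) ⊗[k] k') :=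
      Algebra.EssFiniteType.isNoetherianRing (k ⊗[R] S) _
    haveI hN2 : IsNoetherianRing (k' ⊗[k] (k ⊗[R] S)) :=
      isNoetherianRing_of_ringEquiv _ (Algebra.TensorProduct.comm k (k ⊗[R] S) k').toRingEquiv
    exact isNoetherianRing_of_ringEquiv _ (cmpEquiv R R' S k k').symm.toRingEquiv
  · intro hN'
    haveI := hN'
    haveI hN2 : IsNoetherianRing (k' ⊗[k] (k ⊗[R] S)) :=
      isNoetherianRing_of_ringEquiv _ (cmpEquiv R R' S k k').toRingEquiv
    haveI hN1 : IsNoetherianRing ((k ⊗[R] S) ⊗[k] k') :=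
      isNoetherianRing_of_ringEquiv _ (Algebra.TensorProduct.comm k (k ⊗[R] S) k').symm.toRingEquiv
    haveI : Module.FaithfullyFlat k k' := inferInstance
    haveI : Module.FaithfullyFlat (k ⊗[R] S) ((k ⊗[R] S) ⊗[k] k') := inferInstance
    exact isNoetherianRing_of_faithfullyFlat' (R := k ⊗[R] S) (A := (k ⊗[R] S) ⊗[k] k')

theorem pnor_bc_iff :
    PNor R k S ↔ PNor R' k' (R' ⊗[R] S) := by
  constructor
  · intro hP
    have hGR : EGA4.IsGeomNormal k (k ⊗[R] S) := (isGeomNormal_tensor_iff R k S).mpr hP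
    have hGR' : EGA4.IsGeomNormal k' (k' ⊗[k] (k ⊗[R] S)) :=
      (Groth.Agent.Lib.Helper21.NorGeom.S2675_aux k (k ⊗[R] S) k').mp hGR
    exact (isGeomNormal_tensor_iff R' k' (R' ⊗[R] S)).mp
      (isGeomNormal_of_algEquiv' (cmpEquiv R R' S k k').symm hGR')
  · intro hP'
    have hGR' : EGA4.IsGeomNormal k' (k' ⊗[R'] (R' ⊗[R] S)) :=
      (isGeomNormal_tensor_iff R' k' (R' ⊗[R] S)).mpr hP'
    have hGR'' : EGA4.IsGeomNormal k' (k' ⊗[k] (k ⊗[R] S)) :=
      isGeomNormal_of_algEquiv' (cmpEquiv R R' S k k') hGR'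
    exact (isGeomNormal_tensor_iff R k S).mp
      ((Groth.Agent.Lib.Helper21.NorGeom.S2675_aux k (k ⊗[R] S) k').mpr hGR'')

theorem noeth_pnor_bc_iff :
    (IsNoetherianRing (k ⊗[R] S) ∧ PNor R k S) ↔
      (IsNoetherianRing (k' ⊗[R'] (R' ⊗[R] S)) ∧ PNor R' k' (R' ⊗[R] S)) := by
  rw [noeth_bc_iff R R' S k k', pnor_bc_iff R R' S k k']

end bc

end Groth.Agent.Lib.Helper27.NorFibA
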