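import Mathlib
import Groth.Agent.Lib.Helper27.NorFibA
import Groth.Agent.Lib.Helper27.RegFibE

/-!
# Normal ring maps on affine charts and geometrically normal fibres (helper27)

Normal analogue of `RegFibC`, `RegFibE`.
-/

set_option autoImplicit false
set_option linter.style.haveILetI false
universe u
open AlgebraicGeometry CategoryTheory Limits TensorProduct

namespace Groth.Agent.Lib.Helper27.NorFibC

open Groth.Agent.Lib.Helper28.FibreChart Groth.Agent.Lib.Helper27.RegFibA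
  Groth.Agent.Lib.Helper27.RegFibB Groth.Agent.Lib.Helper27.RegFibC
  Groth.Agent.Lib.Helper27.RegFibE Groth.Agent.Lib.Helper27.NorFibA

/-- The base-free normality predicate for the chart is equivalent to geometric normality of
the sections of the fibre over the chart. -/
theorem pNor_iff_fibre {X Y : Scheme.{u}} (f : X ⟶ Y) (y : Y) (V : Y.Opens) (hV : IsAffineOpen V)
    (hy : y ∈ V) (U : X.Opens) (hU : IsAffineOpen U) (hUV : U ≤ f ⁻¹ᵁ V) :
    letI := (f.appLE V U hUV).hom.toAlgebra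
    letI := (Y.evaluation V y hy).hom.toAlgebra
    letI : Algebra (Y.residueField y) Γ(f.fiber y, (f.fiberι y) ⁻¹ᵁ U) :=
      (fibStr f y ((f.fiberι y) ⁻¹ᵁ U)).hom.toAlgebra
    (PNor Γ(Y, V) (Y.residueField y) Γ(X, U) ↔
      EGA4.IsGeomNormal (Y.residueField y) Γ(f.fiber y, (f.fiberι y) ⁻¹ᵁ U)) ∧
    Nonempty (Y.residueField y ⊗[Γ(Y, V)] Γ(X, U) ≃+* Γ(f.fiber y, (f.fiberι y) ⁻¹ᵁ U)) := by
  letI algRS : Algebra Γ(Y, V) Γ(X, U) := (f.appLE V U hUV).hom.toAlgebra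
  letI algRK : Algebra Γ(Y, V) (Y.residueField y) := (Y.evaluation V y hy).hom.toAlgebra
  letI algKB : Algebra (Y.residueField y) Γ(f.fiber y, (f.fiberι y) ⁻¹ᵁ U) :=
    (fibStr f y ((f.fiberι y) ⁻¹ᵁ U)).hom.toAlgebra
  obtain ⟨-, ε, -, hε2⟩ := chart'' f y V hV hy U hU hUV
  let εA : (Y.residueField y) ⊗[Γ(Y, V)] Γ(X, U) ≃ₐ[Y.residueField y]
      Γ(f.fiber y, (f.fiberι y) ⁻¹ᵁ U) :=
    AlgEquiv.ofRingEquiv (f := ε) (fun c => by
      rw [Algebra.TensorProduct.algebraMap_apply]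
      exact hε2 c)
  refine ⟨?_, ⟨ε⟩⟩
  rw [← isGeomNormal_tensor_iff]
  exact ⟨isGeomNormal_of_algEquiv' εA, isGeomNormal_of_algEquiv' εA.symm⟩

/-- `(⇐)`: flat with geometrically normal fibres implies normal on affine charts. -/
theorem isNormalHom_appLE_of_fibres {X Y : Scheme.{u}} (f : X ⟶ Y) [Flat f]
    (hfib : ∀ (y : Y) (W : (f.fiber y).Opens), IsAffineOpen W →
      letI : Algebra (Y.residueField y) Γ(f.fiber y, W) := (fibStr f y W).hom.toAlgebra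
      IsNoetherianRing Γ(f.fiber y, W) ∧
        EGA4.IsGeomNormal (Y.residueField y) Γ(f.fiber y, W))
    (U : X.Opens) (V : Y.Opens) (hU : IsAffineOpen U) (hV : IsAffineOpen V) (hUV : U ≤ f ⁻¹ᵁ V) :
    letI := (f.appLE V U hUV).hom.toAlgebra
    EGA4.IsNormalHom Γ(Y, V) Γ(X, U) := by
  letI algRS : Algebra Γ(Y, V) Γ(X, U) := (f.appLE V U hUV).hom.toAlgebra
  refine ⟨?_, fun p _ => ?_⟩
  · have := HasRingHomProperty.appLE (P := @Flat) f inferInstance ⟨V, hV⟩ ⟨U, hU⟩ hUV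
    exact this
  · obtain ⟨y, hy, hp⟩ := exists_point_of_prime hV p
    subst hp
    letI algRK : Algebra Γ(Y, V) (Y.residueField y) := (Y.evaluation V y hy).hom.toAlgebra
    letI algKB : Algebra (Y.residueField y) Γ(f.fiber y, (f.fiberι y) ⁻¹ᵁ U) :=
      (fibStr f y ((f.fiberι y) ⁻¹ᵁ U)).hom.toAlgebra
    obtain ⟨σ⟩ := nonempty_sigma hV y hy
    obtain ⟨hW₀, -⟩ := chart'' f y V hV hy U hU hUV
    obtain ⟨hiff, -⟩ := pNor_iff_fibre f y V hV hy U hU hUV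
    obtain ⟨-, hGR⟩ := hfib y _ hW₀
    have h2 : PNor Γ(Y, V) (Y.residueField y) Γ(X, U) := hiff.mpr hGR
    have h3 : PNor Γ(Y, V) (hV.primeIdealOf ⟨y, hy⟩).asIdeal.ResidueField Γ(X, U) :=
      pNor_of_algEquiv σ.symm h2
    exact (isGeomNormal_tensor_iff _ _ _).mpr h3

/-- `(⇒)`: normal on affine charts implies geometrically normal fibres. -/
theorem isGeomNormal_fibre_of_appLE {X Y : Scheme.{u}} (f : X ⟶ Y)
    (H : ∀ (U : X.Opens) (V : Y.Opens) (hU : IsAffineOpen U) (hV : IsAffineOpen V)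
      (hUV : U ≤ f ⁻¹ᵁ V),
        letI := (f.appLE V U hUV).hom.toAlgebra
        EGA4.IsNormalHom Γ(Y, V) Γ(X, U))
    (y : Y) (W : (f.fiber y).Opens) (hW : IsAffineOpen W) :
    letI : Algebra (Y.residueField y) Γ(f.fiber y, W) := (fibStr f y W).hom.toAlgebra
    EGA4.IsGeomNormal (Y.residueField y) Γ(f.fiber y, W) := by
  letI algW : Algebra (Y.residueField y) Γ(f.fiber y, W) := algFib f y W
  intro K _ _ hfin
  haveI : Module.Finite (Y.residueField y) K := hfin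
  refine isNormalRing_tensor_of_local (Y.residueField y) Γ(f.fiber y, W) K (fun q hq => ?_)
  haveI := hq
  obtain ⟨w, hwW, hq'⟩ := exists_point_of_prime hW q
  -- charts around the image point
  have hfx : f (f.fiberι y w) = y := map_fiberι' f y w
  obtain ⟨V, hV, hyV, -⟩ := exists_isAffineOpen_mem_and_subset (x := y)
    (U := (⊤ : Y.Opens)) trivial
  have hxV : f.fiberι y w ∈ f ⁻¹ᵁ V := by
    show f (f.fiberι y w) ∈ V
    rw [hfx]; exact hyV
  obtain ⟨U, hU, hxU, hUV'⟩ := exists_isAffineOpen_mem_and_subset hxV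
  have hUV : U ≤ f ⁻¹ᵁ V := hUV'
  letI algRS : Algebra Γ(Y, V) Γ(X, U) := (f.appLE V U hUV).hom.toAlgebra
  letI algRK : Algebra Γ(Y, V) (Y.residueField y) := (Y.evaluation V y hyV).hom.toAlgebra
  letI algW₀ : Algebra (Y.residueField y) Γ(f.fiber y, (f.fiberι y) ⁻¹ᵁ U) :=
    algFib f y ((f.fiberι y) ⁻¹ᵁ U)
  obtain ⟨hW₀, -⟩ := chart'' f y V hV hyV U hU hUV
  have hwW₀ : w ∈ (f.fiberι y) ⁻¹ᵁ U := hxU
  -- geometric normality on the chart
  obtain ⟨σ⟩ := nonempty_sigma hV y hyV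
  obtain ⟨hiff, -⟩ := pNor_iff_fibre f y V hV hyV U hU hUV
  have hreg := (H U V hU hV hUV).2 (hV.primeIdealOf ⟨y, hyV⟩).asIdeal
  have h3 : PNor Γ(Y, V) (hV.primeIdealOf ⟨y, hyV⟩).asIdeal.ResidueField Γ(X, U) :=
    (isGeomNormal_tensor_iff _ _ _).mp hreg
  have h2 : PNor Γ(Y, V) (Y.residueField y) Γ(X, U) := pNor_of_algEquiv σ h3
  have hGR : EGA4.IsGeomNormal (Y.residueField y)
      Γ(f.fiber y, (f.fiberι y) ⁻¹ᵁ U) := hiff.mp h2
  have hregW₀ : EGA4.IsNormalRing (K ⊗[Y.residueField y] Γ(f.fiber y, (f.fiberι y) ⁻¹ᵁ U)) :=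
    hGR K hfin
  -- common basic open
  obtain ⟨g, g₀, hgg₀, hwg⟩ := exists_basicOpen_le_affine_inter hW hW₀ w ⟨hwW, hwW₀⟩
  have hgq : g ∉ q := by
    rw [← hq']
    exact (mem_basicOpen_iff_notMem_primeIdealOf' hW ⟨w, hwW⟩ g).mp hwg
  have hDW₀ : (f.fiber y).basicOpen g ≤ (f.fiberι y) ⁻¹ᵁ U := by
    rw [hgg₀]; exact (f.fiber y).basicOpen_le g₀
  letI algD : Algebra (Y.residueField y) Γ(f.fiber y, (f.fiber y).basicOpen g) :=
    algFib f y ((f.fiber y).basicOpen g)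
  letI algWD : Algebra Γ(f.fiber y, W) Γ(f.fiber y, (f.fiber y).basicOpen g) :=
    algRes ((f.fiber y).basicOpen_le g)
  haveI tw1 : IsScalarTower (Y.residueField y) Γ(f.fiber y, W)
      Γ(f.fiber y, (f.fiber y).basicOpen g) := isScalarTower_fib f y ((f.fiber y).basicOpen_le g)
  haveI locW : IsLocalization.Away g Γ(f.fiber y, (f.fiber y).basicOpen g) :=
    hW.isLocalization_basicOpen g
  refine ⟨g, hgq, Γ(f.fiber y, (f.fiber y).basicOpen g), inferInstance, algD, algWD, tw1, locW, ?_⟩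
  letI algW₀D : Algebra Γ(f.fiber y, (f.fiberι y) ⁻¹ᵁ U) Γ(f.fiber y, (f.fiber y).basicOpen g) :=
    algRes hDW₀
  haveI tw2 : IsScalarTower (Y.residueField y) Γ(f.fiber y, (f.fiberι y) ⁻¹ᵁ U)
      Γ(f.fiber y, (f.fiber y).basicOpen g) := isScalarTower_fib f y hDW₀
  haveI locW₀ : IsLocalization.Away g₀ Γ(f.fiber y, (f.fiber y).basicOpen g) :=
    hW₀.isLocalization_of_eq_basicOpen g₀ (homOfLE hDW₀) hgg₀
  exact isNormalRing_tensor_away (Y.residueField y) Γ(f.fiber y, (f.fiberι y) ⁻¹ᵁ U) K hregW₀ g₀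
    Γ(f.fiber y, (f.fiber y).basicOpen g)

end Groth.Agent.Lib.Helper27.NorFibC
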