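import Mathlib
import Groth.Agent.Lib.Helper27.NorFibC
import Groth.Agent.Lib.Helper27.RegFibJ

/-!
# Normal morphisms are local on the base for the fppf topology (helper27)

Normal analogue of `RegFibG`, `RegFibI`, `RegFibJ`.
-/

set_option autoImplicit false
set_option linter.style.haveILetI false
universe u
open AlgebraicGeometry CategoryTheory Limits TensorProduct

namespace Groth.Agent.Lib.Helper27.NorFibG

open Groth.Agent.Lib.Helper28.FibreChart Groth.Agent.Lib.Helper27.RegFibA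
  Groth.Agent.Lib.Helper27.RegFibB Groth.Agent.Lib.Helper27.RegFibC
  Groth.Agent.Lib.Helper27.RegFibE Groth.Agent.Lib.Helper27.NorFibA
  Groth.Agent.Lib.Helper27.NorFibC Groth.Agent.Lib.Helper27.RegFibH
  Groth.Agent.Lib.Helper27.RegFibI

/-- The fibre condition at a point. -/
def FibOKN {X Y : Scheme.{u}} (f : X ⟶ Y) (y : Y) : Prop :=
  ∀ (W : (f.fiber y).Opens), IsAffineOpen W →
    letI : Algebra (Y.residueField y) Γ(f.fiber y, W) := (fibStr f y W).hom.toAlgebra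
    IsNoetherianRing Γ(f.fiber y, W) ∧
      EGA4.IsGeomNormal (Y.residueField y) Γ(f.fiber y, W)

/-- The chart condition at a point. -/
def ChartOKN {X Y : Scheme.{u}} (f : X ⟶ Y) (y : Y) (V : Y.Opens) (hy : y ∈ V) (U : X.Opens)
    (hUV : U ≤ f ⁻¹ᵁ V) : Prop :=
  letI := (f.appLE V U hUV).hom.toAlgebra
  letI := (Y.evaluation V y hy).hom.toAlgebra
  IsNoetherianRing (Y.residueField y ⊗[Γ(Y, V)] Γ(X, U)) ∧
    PNor Γ(Y, V) (Y.residueField y) Γ(X, U)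

theorem chartOKN_of_fibOKN {X Y : Scheme.{u}} (f : X ⟶ Y) (y : Y) (h : FibOKN f y)
    (V : Y.Opens) (hV : IsAffineOpen V) (hy : y ∈ V) (U : X.Opens) (hU : IsAffineOpen U)
    (hUV : U ≤ f ⁻¹ᵁ V) : ChartOKN f y V hy U hUV := by
  letI algRS : Algebra Γ(Y, V) Γ(X, U) := (f.appLE V U hUV).hom.toAlgebra
  letI algRK : Algebra Γ(Y, V) (Y.residueField y) := (Y.evaluation V y hy).hom.toAlgebra
  obtain ⟨hW₀, -⟩ := chart'' f y V hV hy U hU hUV
  obtain ⟨hiff, ⟨ε⟩⟩ := pNor_iff_fibre f y V hV hy U hU hUV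
  obtain ⟨hN, hGR⟩ := h _ hW₀
  exact ⟨isNoetherianRing_of_ringEquiv _ ε.symm, hiff.mpr hGR⟩

theorem fibOKN_of_chartOKN {X Y : Scheme.{u}} (f : X ⟶ Y) (y : Y)
    (H : ∀ x : X, f x = y → ∃ (V : Y.Opens) (_ : IsAffineOpen V) (hy : y ∈ V) (U : X.Opens)
      (_ : IsAffineOpen U) (hUV : U ≤ f ⁻¹ᵁ V), x ∈ U ∧ ChartOKN f y V hy U hUV) :
    FibOKN f y := by
  -- local data on the fibre
  have key : ∀ w : f.fiber y, ∃ W₀ : (f.fiber y).Opens, IsAffineOpen W₀ ∧ w ∈ W₀ ∧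
      (letI : Algebra (Y.residueField y) Γ(f.fiber y, W₀) := (fibStr f y W₀).hom.toAlgebra
       IsNoetherianRing Γ(f.fiber y, W₀) ∧
        EGA4.IsGeomNormal (Y.residueField y) Γ(f.fiber y, W₀)) := by
    intro w
    obtain ⟨V, hV, hy, U, hU, hUV, hxU, hN, hP⟩ := H (f.fiberι y w) (map_fiberι' f y w)
    letI algRS : Algebra Γ(Y, V) Γ(X, U) := (f.appLE V U hUV).hom.toAlgebra
    letI algRK : Algebra Γ(Y, V) (Y.residueField y) := (Y.evaluation V y hy).hom.toAlgebra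
    obtain ⟨hW₀, -⟩ := chart'' f y V hV hy U hU hUV
    obtain ⟨hiff, ⟨ε⟩⟩ := pNor_iff_fibre f y V hV hy U hU hUV
    haveI := hN
    exact ⟨_, hW₀, hxU, isNoetherianRing_of_ringEquiv _ ε, hiff.mp hP⟩
  choose W₀ hW₀ hmem hNGR using key
  haveI hLN : IsLocallyNoetherian (f.fiber y) := by
    refine isLocallyNoetherian_of_affine_cover (S := fun w => ⟨W₀ w, hW₀ w⟩) ?_
      (fun w => (hNGR w).1)
    rw [eq_top_iff]
    intro w _
    exact TopologicalSpace.Opens.mem_iSup.mpr ⟨w, hmem w⟩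
  intro W hW
  letI algW : Algebra (Y.residueField y) Γ(f.fiber y, W) := algFib f y W
  haveI hNW : IsNoetherianRing Γ(f.fiber y, W) := hLN.component_noetherian ⟨W, hW⟩
  refine ⟨hNW, ?_⟩
  intro K _ _ hfin
  haveI : Module.Finite (Y.residueField y) K := hfin
  refine isNormalRing_tensor_of_local (Y.residueField y) Γ(f.fiber y, W) K (fun q hq => ?_)
  haveI := hq
  obtain ⟨w, hwW, hq'⟩ := exists_point_of_prime hW q
  letI algW₀ : Algebra (Y.residueField y) Γ(f.fiber y, W₀ w) := algFib f y (W₀ w)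
  have hregW₀ : EGA4.IsNormalRing (K ⊗[Y.residueField y] Γ(f.fiber y, W₀ w)) :=
    (hNGR w).2 K hfin
  obtain ⟨g, g₀, hgg₀, hwg⟩ := exists_basicOpen_le_affine_inter hW (hW₀ w) w ⟨hwW, hmem w⟩
  have hgq : g ∉ q := by
    rw [← hq']
    exact (mem_basicOpen_iff_notMem_primeIdealOf' hW ⟨w, hwW⟩ g).mp hwg
  have hDW₀ : (f.fiber y).basicOpen g ≤ W₀ w := by
    rw [hgg₀]; exact (f.fiber y).basicOpen_le g₀
  letI algD : Algebra (Y.residueField y) Γ(f.fiber y, (f.fiber y).basicOpen g) :=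
    algFib f y ((f.fiber y).basicOpen g)
  letI algWD : Algebra Γ(f.fiber y, W) Γ(f.fiber y, (f.fiber y).basicOpen g) :=
    algRes ((f.fiber y).basicOpen_le g)
  haveI tw1 : IsScalarTower (Y.residueField y) Γ(f.fiber y, W)
      Γ(f.fiber y, (f.fiber y).basicOpen g) := isScalarTower_fib f y ((f.fiber y).basicOpen_le g)
  haveI locW : IsLocalization.Away g Γ(f.fiber y, (f.fiber y).basicOpen g) :=
    hW.isLocalization_basicOpen g
  refine ⟨g, hgq, Γ(f.fiber y, (f.fiber y).basicOpen g), inferInstance, algD, algWD, tw1, locW, ?_⟩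
  letI algW₀D : Algebra Γ(f.fiber y, W₀ w) Γ(f.fiber y, (f.fiber y).basicOpen g) :=
    algRes hDW₀
  haveI tw2 : IsScalarTower (Y.residueField y) Γ(f.fiber y, W₀ w)
      Γ(f.fiber y, (f.fiber y).basicOpen g) := isScalarTower_fib f y hDW₀
  haveI locW₀ : IsLocalization.Away g₀ Γ(f.fiber y, (f.fiber y).basicOpen g) :=
    (hW₀ w).isLocalization_of_eq_basicOpen g₀ (homOfLE hDW₀) hgg₀
  exact isNormalRing_tensor_away (Y.residueField y) Γ(f.fiber y, W₀ w) K hregW₀ g₀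
    Γ(f.fiber y, (f.fiber y).basicOpen g)

theorem chartOKN_bc_iff {X Y X' Y' : Scheme.{u}} {f : X ⟶ Y} {f' : X' ⟶ Y'} {g' : X' ⟶ X}
    {g : Y' ⟶ Y} (hc : IsPullback g' f' f g) [LocallyOfFiniteType g] (y' : Y')
    (V : Y.Opens) (hV : IsAffineOpen V) (hy : g y' ∈ V) (V' : Y'.Opens) (hV' : IsAffineOpen V')
    (hy' : y' ∈ V') (hV'V : V' ≤ g ⁻¹ᵁ V) (U : X.Opens) (hU : IsAffineOpen U)
    (hUV : U ≤ f ⁻¹ᵁ V) :
    ChartOKN f (g y') V hy U hUV ↔
      ChartOKN f' y' V' hy' (g' ⁻¹ᵁ U ⊓ f' ⁻¹ᵁ V') inf_le_right := by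
  letI algRS : Algebra Γ(Y, V) Γ(X, U) := (f.appLE V U hUV).hom.toAlgebra
  letI algRR' : Algebra Γ(Y, V) Γ(Y', V') := (g.appLE V V' hV'V).hom.toAlgebra
  letI algRk : Algebra Γ(Y, V) (Y.residueField (g y')) := (Y.evaluation V (g y') hy).hom.toAlgebra
  letI algR'k' : Algebra Γ(Y', V') (Y'.residueField y') := (Y'.evaluation V' y' hy').hom.toAlgebra
  letI algkk' : Algebra (Y.residueField (g y')) (Y'.residueField y') :=
    (g.residueFieldMap y').hom.toAlgebra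
  letI algRk' : Algebra Γ(Y, V) (Y'.residueField y') :=
    ((algebraMap Γ(Y', V') (Y'.residueField y')).comp (algebraMap Γ(Y, V) Γ(Y', V'))).toAlgebra
  haveI tw1 : IsScalarTower Γ(Y, V) Γ(Y', V') (Y'.residueField y') :=
    IsScalarTower.of_algebraMap_eq (fun _ => rfl)
  haveI tw2 : IsScalarTower Γ(Y, V) (Y.residueField (g y')) (Y'.residueField y') := by
    refine IsScalarTower.of_algebraMap_eq (fun a => ?_)
    have h1 := Scheme.evaluation_naturality g y' hy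
    have h2 := evaluation_res hV'V y' hy'
    have h3 : g.appLE V V' hV'V ≫ Y'.evaluation V' y' hy' =
        Y.evaluation V (g y') hy ≫ g.residueFieldMap y' := by
      rw [h1, Scheme.Hom.appLE, Category.assoc, h2]
    exact congr($(h3).hom a)
  haveI hess : Algebra.EssFiniteType (Y.residueField (g y')) (Y'.residueField y') :=
    RingHom.EssFiniteType.residueFieldMap (LocallyOfFiniteType.stalkMap g y')
  obtain ⟨-, e, he1, -⟩ := pbChart hc V hV V' hV' hV'V U hU hUV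
  letI algR'S' : Algebra Γ(Y', V') Γ(X', g' ⁻¹ᵁ U ⊓ f' ⁻¹ᵁ V') :=
    (f'.appLE V' (g' ⁻¹ᵁ U ⊓ f' ⁻¹ᵁ V') inf_le_right).hom.toAlgebra
  let eA : Γ(Y', V') ⊗[Γ(Y, V)] Γ(X, U) ≃ₐ[Γ(Y', V')] Γ(X', g' ⁻¹ᵁ U ⊓ f' ⁻¹ᵁ V') :=
    AlgEquiv.ofRingEquiv (f := e) (fun a => by
      rw [Algebra.TensorProduct.algebraMap_apply]
      exact he1 a)
  have key := noeth_pnor_bc_iff Γ(Y, V) Γ(Y', V') Γ(X, U) (Y.residueField (g y'))
    (Y'.residueField y')
  have hN : IsNoetherianRing (Y'.residueField y' ⊗[Γ(Y', V')] (Γ(Y', V') ⊗[Γ(Y, V)] Γ(X, U))) ↔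
      IsNoetherianRing (Y'.residueField y' ⊗[Γ(Y', V')] Γ(X', g' ⁻¹ᵁ U ⊓ f' ⁻¹ᵁ V')) := by
    let eT := (Algebra.TensorProduct.congr
      (AlgEquiv.refl : Y'.residueField y' ≃ₐ[Γ(Y', V')] Y'.residueField y') eA).toRingEquiv
    exact ⟨fun h => isNoetherianRing_of_ringEquiv _ eT,
      fun h => isNoetherianRing_of_ringEquiv _ eT.symm⟩
  have hP : PNor Γ(Y', V') (Y'.residueField y') (Γ(Y', V') ⊗[Γ(Y, V)] Γ(X, U)) ↔
      PNor Γ(Y', V') (Y'.residueField y') Γ(X', g' ⁻¹ᵁ U ⊓ f' ⁻¹ᵁ V') :=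
    ⟨pNor_congr eA, pNor_congr eA.symm⟩
  unfold ChartOKN
  rw [← hN, ← hP]
  exact key

theorem fibOKN_bc {X Y X' Y' : Scheme.{u}} {f : X ⟶ Y} {f' : X' ⟶ Y'} {g' : X' ⟶ X}
    {g : Y' ⟶ Y} (hc : IsPullback g' f' f g) [LocallyOfFiniteType g]
    (H : ∀ y, FibOKN f y) (y' : Y') : FibOKN f' y' := by
  refine fibOKN_of_chartOKN f' y' (fun x' hx' => ?_)
  obtain ⟨V, hV, hyV, -⟩ := exists_isAffineOpen_mem_and_subset (x := g y') (U := ⊤) trivial
  have hy'1 : y' ∈ g ⁻¹ᵁ V := hyV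
  obtain ⟨V', hV', hy', hV'V⟩ := exists_isAffineOpen_mem_and_subset hy'1
  have hfx : f (g' x') = g y' := by
    have := congr($(hc.w) x')
    simp only [Scheme.Hom.comp_apply] at this
    rw [this, hx']
  have hx1 : g' x' ∈ f ⁻¹ᵁ V := by
    change f (g' x') ∈ V
    rw [hfx]; exact hyV
  obtain ⟨U, hU, hxU, hUV⟩ := exists_isAffineOpen_mem_and_subset hx1
  have hch := chartOKN_of_fibOKN f (g y') (H (g y')) V hV hyV U hU hUV
  have hch' := (chartOKN_bc_iff hc y' V hV hyV V' hV' hy' hV'V U hU hUV).mp hch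
  obtain ⟨haff, -⟩ := pbChart hc V hV V' hV' hV'V U hU hUV
  refine ⟨V', hV', hy', _, haff, inf_le_right, ⟨hxU, ?_⟩, hch'⟩
  change f' x' ∈ V'
  rw [hx']; exact hy'

theorem fibOKN_desc {X Y X' Y' : Scheme.{u}} {f : X ⟶ Y} {f' : X' ⟶ Y'} {g' : X' ⟶ X}
    {g : Y' ⟶ Y} (hc : IsPullback g' f' f g) [LocallyOfFiniteType g] [Surjective g]
    (H : ∀ y', FibOKN f' y') (y : Y) : FibOKN f y := by
  obtain ⟨y', rfl⟩ := g.surjective y
  refine fibOKN_of_chartOKN f (g y') (fun x hx => ?_)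
  obtain ⟨V, hV, hyV, -⟩ := exists_isAffineOpen_mem_and_subset (x := g y') (U := ⊤) trivial
  have hy'1 : y' ∈ g ⁻¹ᵁ V := hyV
  obtain ⟨V', hV', hy', hV'V⟩ := exists_isAffineOpen_mem_and_subset hy'1
  have hx1 : x ∈ f ⁻¹ᵁ V := by
    change f x ∈ V
    rw [hx]; exact hyV
  obtain ⟨U, hU, hxU, hUV⟩ := exists_isAffineOpen_mem_and_subset hx1
  obtain ⟨haff, -⟩ := pbChart hc V hV V' hV' hV'V U hU hUV
  have hch' := chartOKN_of_fibOKN f' y' (H y') V' hV' hy' _ haff inf_le_right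
  have hch := (chartOKN_bc_iff hc y' V hV hyV V' hV' hy' hV'V U hU hUV).mpr hch'
  exact ⟨V, hV, hyV, U, hU, hUV, hxU, hch⟩

/-- Reformulation of the two sides of the statement. -/
theorem side_iffN {X Y : Scheme.{u}} (f : X ⟶ Y) :
    ((∀ y : Y, IsLocallyNoetherian (f.fiber y)) ∧
      (∀ (U : X.Opens) (V : Y.Opens) (_ : IsAffineOpen U) (_ : IsAffineOpen V)
        (hUV : U ≤ f ⁻¹ᵁ V),
        letI := (f.appLE V U hUV).hom.toAlgebra
        EGA4.IsNormalHom Γ(Y, V) Γ(X, U))) ↔ (Flat f ∧ ∀ y, FibOKN f y) := by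
  constructor
  · rintro ⟨hN, H⟩
    refine ⟨?_, fun y W hW => ⟨(hN y).component_noetherian ⟨W, hW⟩,
      isGeomNormal_fibre_of_appLE f H y W hW⟩⟩
    rw [HasRingHomProperty.iff_appLE (P := @Flat)]
    intro V U e
    exact (H U.1 V.1 U.2 V.2 e).1
  · rintro ⟨hflat, hfib⟩
    haveI := hflat
    refine ⟨fun y => ⟨fun W => (hfib y W.1 W.2).1⟩, fun U V hU hV hUV => ?_⟩
    exact isNormalHom_appLE_of_fibres f hfib U V hU hV hUV

end Groth.Agent.Lib.Helper27.NorFibG
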