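import Mathlib
import Groth.Agent.Lib.Helper27.FFExt8
import Groth.Agent.Lib.Helper27.FFExt9

/-! The norm formula `deg P · v_P(N x) = ∑_{Q|P} deg Q · v_Q(x)` (helper27), part 1:
the fundamental equality over a finite extension of a function field, and
fibering of places in a tower. -/

set_option autoImplicit false

namespace Groth.Agent.Lib.Helper27.NormF

open FunFld Groth.Agent.Lib.Helper27.FF

universe u v w z

/-- the norm formula for `K'/K`. -/
def Formula (k : Type u) (K : Type v) (K' : Type w) [Field k] [Field K] [Field K'] [Algebra k K]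
    [Algebra K K'] [Algebra k K'] : Prop :=
  ∀ (P : Place k K) (x : K') (Qs : Finset (Place k K')), (∀ Q, Q ∈ Qs ↔ IsOver Q P) →
    (P.deg : ℤ) * P.ord (Algebra.norm K x) = ∑ Q ∈ Qs, (Q.deg : ℤ) * Q.ord x

section Weak

variable {k : Type u} {K : Type v} {L : Type w} {M : Type z} [Field k] [Field K] [Field L]
  [Field M] [Algebra k K] [Algebra K L] [Algebra k L] [IsScalarTower k K L]
  [Algebra L M] [Algebra k M] [IsScalarTower k L M]

/-- The fundamental equality for `M/L`, where `L` is a finite extension of a function field. -/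
theorem sum_ramIdx_mul_deg_w (hK : IsFunctionField k K) [FiniteDimensional K L]
    [FiniteDimensional L M] (Q : Place k L) :
    {R : Place k M | IsOver R Q}.Finite ∧
    ∀ (Rs : Finset (Place k M)), (∀ R, R ∈ Rs ↔ IsOver R Q) →
      (∑ R ∈ Rs, ramIdx R Q * R.deg) = Module.finrank L M * Q.deg := by
  classical
  obtain ⟨hL, hfin⟩ := isFunctionField_algebraicClosure (K' := L) hK
  haveI : IsScalarTower k (algebraicClosure k L) M := IsScalarTower.of_algebraMap_eq (fun c => by
    show algebraMap k M c =
      algebraMap L M (algebraMap (algebraicClosure k L) L (algebraMap k _ c))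
    rw [← IsScalarTower.algebraMap_apply k (algebraicClosure k L) L,
      ← IsScalarTower.algebraMap_apply k L M])
  obtain ⟨hfinite, hsum⟩ := sum_ramIdx_mul_deg (k := algebraicClosure k L) (K := L) (K' := M)
    hL (Place.up Q)
  have hover : ∀ R' : Place (algebraicClosure k L) M,
      IsOver R' (Place.up Q) ↔ IsOver (Place.down (k := k) R') Q := fun R' => Iff.rfl
  have hfinite' : {R : Place k M | IsOver R Q}.Finite := by
    apply (hfinite.toFinset.image (Place.down (k := k))).finite_toSet.subset
    intro R hR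
    rw [Finset.mem_coe, Finset.mem_image]
    refine ⟨Place.up R, ?_, Place.down_up R⟩
    rw [hfinite.mem_toFinset]
    exact hR
  refine ⟨hfinite', fun Rs hRs => ?_⟩
  have hRs_eq : Rs = hfinite.toFinset.image (Place.down (k := k)) := by
    ext R
    rw [hRs, Finset.mem_image]
    constructor
    · intro hR
      refine ⟨Place.up R, ?_, Place.down_up R⟩
      rw [hfinite.mem_toFinset]
      exact hR
    · rintro ⟨R', hR', rfl⟩
      exact hfinite.mem_toFinset.mp hR'
  have h1 := hsum hfinite.toFinset (fun R' => hfinite.mem_toFinset)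
  rw [hRs_eq, Finset.sum_image (fun a _ b _ h => Place.down_injective h)]
  have h2 : ∀ R' ∈ hfinite.toFinset,
      ramIdx (Place.down (k := k) R') Q * (Place.down (k := k) R').deg =
        Module.finrank k (algebraicClosure k L) * (ramIdx R' (Place.up Q) * R'.deg) := by
    intro R' hR'
    have hov : IsOver R' (Place.up Q) := hfinite.mem_toFinset.mp hR'
    have h3 : ramIdx (Place.down (k := k) R') Q = ramIdx R' (Place.up Q) :=
      ramIdx_eq (show IsOverWith (Place.down (k := k) R') Q (ramIdx R' (Place.up Q)) from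
        isOverWith_ramIdx hov)
    rw [h3, Place.deg_down]
    ring
  rw [Finset.sum_congr rfl h2, ← Finset.mul_sum, h1]
  have h4 : Q.deg = Module.finrank k (algebraicClosure k L) * (Place.up (k' := algebraicClosure k L) Q).deg := by
    conv_lhs => rw [← Place.down_up (k' := algebraicClosure k L) Q]
    exact Place.deg_down _
  rw [h4]
  ring

end Weak

section Fiber

variable {k : Type u} {K : Type v} {L : Type w} {M : Type z} [Field k] [Field K] [Field L]
  [Field M] [Algebra k K] [Algebra K L] [Algebra k L] [IsScalarTower k K L]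
  [Algebra L M] [Algebra k M] [IsScalarTower k L M] [Algebra K M] [IsScalarTower K L M]
  [IsScalarTower k K M]

/-- Fibering the places of `M` above `P` over the places of `L` above `P`. -/
theorem sum_fiber (hK : Tate.WeakFF k K) (hL : Tate.WeakFF k L) [Algebra.IsAlgebraic K L]
    [Algebra.IsAlgebraic L M] (P : Place k K)
    (Qs : Finset (Place k L)) (hQs : ∀ Q, Q ∈ Qs ↔ IsOver Q P)
    (Rs : Finset (Place k M)) (hRs : ∀ R, R ∈ Rs ↔ IsOver R P)
    (RsQ : Place k L → Finset (Place k M)) (hRsQ : ∀ Q ∈ Qs, ∀ R, R ∈ RsQ Q ↔ IsOver R Q)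
    (g : Place k M → ℤ) :
    ∑ R ∈ Rs, g R = ∑ Q ∈ Qs, ∑ R ∈ RsQ Q, g R := by
  classical
  have hbelow : ∀ R : Place k M, ∃ Q : Place k L, IsOver R Q := fun R => by
    obtain ⟨Q, e, he⟩ := exists_isOverWith_w hL R
    exact ⟨Q, e, he⟩
  choose below hb using hbelow
  have hmaps : ∀ R ∈ Rs, below R ∈ Qs := by
    intro R hR
    obtain ⟨e, he⟩ := (hRs R).mp hR
    obtain ⟨e₂, he₂⟩ := hb R
    obtain ⟨P', e₁, he₁⟩ := exists_isOverWith_w hK (below R)
    have h1 := isOverWith_trans he₂ he₁
    obtain ⟨rfl, -⟩ := isOverWith_unique h1 he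
    exact (hQs _).mpr ⟨e₁, he₁⟩
  rw [← Finset.sum_fiberwise_of_maps_to hmaps]
  apply Finset.sum_congr rfl
  intro Q hQ
  apply Finset.sum_congr _ (fun _ _ => rfl)
  ext R
  rw [Finset.mem_filter, hRsQ Q hQ, hRs]
  constructor
  · rintro ⟨-, rfl⟩
    exact hb R
  · rintro ⟨e₂, he₂⟩
    obtain ⟨e₁, he₁⟩ := (hQs Q).mp hQ
    refine ⟨⟨_, isOverWith_trans he₂ he₁⟩, ?_⟩
    obtain ⟨e₂', he₂'⟩ := hb R
    exact (isOverWith_unique he₂' he₂).1

end Fiber

end Groth.Agent.Lib.Helper27.NormF
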