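import Mathlib
import Groth.Agent.Lib.Helper27.NormF1

/-! The norm formula (helper27), part 2: the Galois case. -/

set_option autoImplicit false

namespace Groth.Agent.Lib.Helper27.NormF

open FunFld Groth.Agent.Lib.Helper27.FF

universe u v w

section General

variable {k : Type u} {L : Type v} [Field k] [Field L] [Algebra k L]

theorem ord_prod (Q : Place k L) {ι : Type*} (s : Finset ι) (f : ι → L) (hf : ∀ i ∈ s, f i ≠ 0) :
    Q.ord (∏ i ∈ s, f i) = ∑ i ∈ s, Q.ord (f i) := by
  classical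
  induction s using Finset.induction_on with
  | empty => simp [FF.ord_one]
  | insert a s ha ih =>
    rw [Finset.prod_insert ha, Finset.sum_insert ha,
      FF.ord_mul Q (hf a (Finset.mem_insert_self _ _))
        (Finset.prod_ne_zero_iff.mpr (fun i hi => hf i (Finset.mem_insert_of_mem hi))),
      ih (fun i hi => hf i (Finset.mem_insert_of_mem hi))]

end General

variable {k : Type u} {K : Type v} {K' : Type w} [Field k] [Field K] [Field K'] [Algebra k K]
  [Algebra K K'] [Algebra k K'] [IsScalarTower k K K']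

open scoped Classical in
/-- fibres of `σ ↦ actP σ Q₀` all have the same size. -/
theorem card_fiber_actP [FiniteDimensional K K'] (Q₀ : Place k K') (τ : K' ≃ₐ[K] K') :
    (Finset.univ.filter (fun σ : K' ≃ₐ[K] K' => actP (k := k) σ Q₀ = actP τ Q₀)).card =
      (Finset.univ.filter (fun σ : K' ≃ₐ[K] K' => actP (k := k) σ Q₀ = Q₀)).card := by
  classical
  have : Finset.univ.filter (fun σ : K' ≃ₐ[K] K' => actP (k := k) σ Q₀ = actP τ Q₀) =
      (Finset.univ.filter (fun σ : K' ≃ₐ[K] K' => actP (k := k) σ Q₀ = Q₀)).image (· * τ) := by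
    ext σ
    simp only [Finset.mem_filter, Finset.mem_univ, true_and, Finset.mem_image]
    constructor
    · intro h
      refine ⟨σ * τ⁻¹, ?_, by group⟩
      rw [actP_mul, h, ← actP_mul, mul_inv_cancel, actP_one]
    · rintro ⟨ρ, hρ, rfl⟩
      rw [actP_mul, hρ]
  rw [this, Finset.card_image_of_injective _ (mul_left_injective τ)]

open scoped Classical in
/-- the size of the fibre over `Q₀` is the order of the decomposition group. -/
theorem card_stab_actP [FiniteDimensional K K'] (Q₀ : Place k K') :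
    (Finset.univ.filter (fun σ : K' ≃ₐ[K] K' => actP (k := k) σ Q₀ = Q₀)).card =
      Nat.card ((Q₀.O).decompositionSubgroup K) := by
  classical
  letI := placeAction (k := k) (K := K) (K' := K')
  rw [decompositionSubgroup_eq, Nat.card_eq_fintype_card, ← Fintype.card_subtype]
  apply Fintype.card_congr
  refine Equiv.subtypeEquivRight (fun σ => ?_)
  rw [MulAction.mem_stabilizer_iff]
  show actP σ Q₀ = Q₀ ↔ actP σ⁻¹ Q₀ = Q₀
  constructor
  · intro h
    conv_lhs => rw [← h]
    rw [← actP_mul, mul_inv_cancel, actP_one]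
  · intro h
    conv_lhs => rw [← h]
    rw [← actP_mul, inv_mul_cancel, actP_one]

/-- The norm formula for a Galois extension of a function field. -/
theorem formula_of_isGalois (hK : IsFunctionField k K) [FiniteDimensional K K'] [IsGalois K K'] :
    Formula k K K' := by
  classical
  intro P x Qs hQs
  by_cases hx : x = 0
  · subst hx
    rw [Algebra.norm_zero, FF.ord_zero, mul_zero]
    symm
    apply Finset.sum_eq_zero
    intro Q _
    rw [FF.ord_zero, mul_zero]
  obtain ⟨hfin, hsum⟩ := sum_ramIdx_mul_deg (K' := K') hK P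
  have hne : Qs.Nonempty := by
    by_contra hemp
    rw [Finset.not_nonempty_iff_eq_empty] at hemp
    have h1 := hsum Qs hQs
    rw [hemp, Finset.sum_empty] at h1
    have h2 : 0 < Module.finrank K K' * P.deg :=
      Nat.mul_pos Module.finrank_pos (Helper23.FF.deg_pos hK P)
    omega
  obtain ⟨Q₀, hQ₀⟩ := hne
  obtain ⟨e, he⟩ := (hQs Q₀).mp hQ₀
  have hepos := isOverWith_pos he
  -- step 1: compute `e · v_P(N x)` as a sum over the group
  have h1 : (e : ℤ) * P.ord (Algebra.norm K x) =
      ∑ σ : K' ≃ₐ[K] K', (actP (k := k) σ Q₀).ord x := by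
    rw [← isOverWith_ord_eq he, Algebra.norm_eq_prod_automorphisms,
      ord_prod Q₀ _ _ (fun σ _ => (map_ne_zero σ).mpr hx)]
    rfl
  -- step 2: fibre the sum over the places
  have hmaps : ∀ σ ∈ (Finset.univ : Finset (K' ≃ₐ[K] K')), actP (k := k) σ Q₀ ∈ Qs :=
    fun σ _ => (hQs _).mpr ⟨e, isOverWith_actP he σ⟩
  have h2 : ∑ σ : K' ≃ₐ[K] K', (actP (k := k) σ Q₀).ord x =
      ∑ Q ∈ Qs, (Nat.card ((Q₀.O).decompositionSubgroup K) : ℤ) * Q.ord x := by
    rw [← Finset.sum_fiberwise_of_maps_to hmaps]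
    apply Finset.sum_congr rfl
    intro Q hQ
    obtain ⟨τ, rfl⟩ := exists_actP_eq hK ((hQs Q₀).mp hQ₀) ((hQs Q).mp hQ)
    rw [Finset.sum_congr rfl (fun σ hσ => by rw [(Finset.mem_filter.mp hσ).2] :
      ∀ σ ∈ Finset.univ.filter (fun σ : K' ≃ₐ[K] K' => actP (k := k) σ Q₀ = actP τ Q₀),
        (actP (k := k) σ Q₀).ord x = (actP (k := k) τ Q₀).ord x)]
    rw [Finset.sum_const, nsmul_eq_mul, card_fiber_actP, card_stab_actP]
  have h3 := card_decomposition_mul_deg hK he
  have h4 : ∀ Q ∈ Qs, Q.deg = Q₀.deg := fun Q hQ =>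
    (isOverWith_and_deg_eq hK he ((hQs Q).mp hQ)).2
  have h5 : (e : ℤ) * ((P.deg : ℤ) * P.ord (Algebra.norm K x)) =
      (e : ℤ) * ∑ Q ∈ Qs, (Q.deg : ℤ) * Q.ord x := by
    have h3' : (Nat.card ((Q₀.O).decompositionSubgroup K) : ℤ) * P.deg = e * Q₀.deg := by
      exact_mod_cast h3
    calc (e : ℤ) * ((P.deg : ℤ) * P.ord (Algebra.norm K x))
        = (P.deg : ℤ) * ((e : ℤ) * P.ord (Algebra.norm K x)) := by ring
      _ = ∑ Q ∈ Qs, ((Nat.card ((Q₀.O).decompositionSubgroup K) : ℤ) * P.deg) * Q.ord x := by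
          rw [h1, h2, Finset.mul_sum]
          apply Finset.sum_congr rfl
          intro Q _
          ring
      _ = ∑ Q ∈ Qs, (e : ℤ) * ((Q.deg : ℤ) * Q.ord x) := by
          apply Finset.sum_congr rfl
          intro Q hQ
          rw [h3', h4 Q hQ]
          ring
      _ = (e : ℤ) * ∑ Q ∈ Qs, (Q.deg : ℤ) * Q.ord x := by rw [Finset.mul_sum]
  have he0 : (e : ℤ) ≠ 0 := by exact_mod_cast (by omega : e ≠ 0)
  exact mul_left_cancel₀ he0 h5

end Groth.Agent.Lib.Helper27.NormF
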