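import Mathlib
import Groth.Agent.Lib.Helper27.NormF2

/-! The norm formula (helper27), part 3: transitivity, descent along a tower, and purely
inseparable extensions. -/

set_option autoImplicit false

namespace Groth.Agent.Lib.Helper27.NormF

open FunFld Groth.Agent.Lib.Helper27.FF Polynomial IntermediateField

universe u v w z

theorem ord_pow' {k : Type u} {L : Type v} [Field k] [Field L] [Algebra k L] (Q : Place k L)
    (x : L) (n : ℕ) : Q.ord (x ^ n) = n * Q.ord x := by
  by_cases hx : x = 0
  · subst hx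
    rcases Nat.eq_zero_or_pos n with rfl | hn
    · simp [FF.ord_one]
    · rw [zero_pow (by omega), FF.ord_zero, mul_zero]
  · induction n with
    | zero => rw [pow_zero, FF.ord_one]; simp
    | succ n ih =>
      rw [pow_succ, FF.ord_mul Q (pow_ne_zero _ hx) hx, ih]
      push_cast
      ring

theorem norm_eq_pow_of_isPurelyInseparable {L M : Type*} [Field L] [Field M] [Algebra L M]
    [FiniteDimensional L M] [IsPurelyInseparable L M] (x : M) :
    algebraMap L M (Algebra.norm L x) = x ^ Module.finrank L M := by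
  obtain ⟨q, hq⟩ := ExpChar.exists L
  haveI := hq
  obtain ⟨m, hm⟩ := IsPurelyInseparable.minpoly_eq_X_sub_C_pow L q x
  have hsplit : ((minpoly L x).map (algebraMap L M)).Splits := by
    rw [hm]
    exact (Splits.X_sub_C x).pow _
  rw [Algebra.norm_eq_prod_roots M hsplit]
  have hroots : (minpoly L x).aroots M = (q ^ m) • ({x} : Multiset M) := by
    show ((minpoly L x).map (algebraMap L M)).roots = _
    rw [hm, roots_pow, roots_X_sub_C]
  have hint : IsIntegral L x := Algebra.IsIntegral.isIntegral x
  have hdeg : Module.finrank L L⟮x⟯ = q ^ m := by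
    rw [adjoin.finrank hint, ← natDegree_map (algebraMap L M), hm, natDegree_pow,
      natDegree_X_sub_C, mul_one]
  rw [hroots, Multiset.prod_nsmul, Multiset.prod_singleton, ← pow_mul, ← hdeg,
    Module.finrank_mul_finrank]

section Tower

variable {k : Type u} {K : Type v} {L : Type w} {M : Type z} [Field k] [Field K] [Field L]
  [Field M] [Algebra k K] [Algebra K L] [Algebra k L] [IsScalarTower k K L]
  [Algebra L M] [Algebra k M] [IsScalarTower k L M] [Algebra K M] [IsScalarTower K L M]
  [IsScalarTower k K M]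

/-- transitivity of the norm formula. -/
theorem formula_trans (hK : IsFunctionField k K) [FiniteDimensional K L] [FiniteDimensional L M]
    (h₁ : Formula k K L) (h₂ : Formula k L M) : Formula k K M := by
  classical
  intro P x Rs hRs
  obtain ⟨hfinP, -⟩ := sum_ramIdx_mul_deg (K' := L) hK P
  have hfinQ : ∀ Q : Place k L, {R : Place k M | IsOver R Q}.Finite :=
    fun Q => (sum_ramIdx_mul_deg_w (M := M) hK Q).1
  rw [← Algebra.norm_norm (S := L), h₁ P _ hfinP.toFinset (fun Q => hfinP.mem_toFinset),
    sum_fiber (Tate.WeakFF.of_isFunctionField hK) (Tate.WeakFF.of_finite hK) P hfinP.toFinset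
      (fun Q => hfinP.mem_toFinset) Rs hRs (fun Q => (hfinQ Q).toFinset)
      (fun Q _ R => (hfinQ Q).mem_toFinset)]
  apply Finset.sum_congr rfl
  intro Q _
  exact h₂ Q x _ (fun R => (hfinQ Q).mem_toFinset)

/-- descent of the norm formula from `M/K` to `L/K`. -/
theorem formula_descent (hK : IsFunctionField k K) [FiniteDimensional K L] [FiniteDimensional L M]
    (h : Formula k K M) : Formula k K L := by
  classical
  intro P x Qs hQs
  haveI : FiniteDimensional K M := Module.Finite.trans L M
  obtain ⟨hfinP, -⟩ := sum_ramIdx_mul_deg (K' := M) hK P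
  have hfinQ : ∀ Q : Place k L, {R : Place k M | IsOver R Q}.Finite :=
    fun Q => (sum_ramIdx_mul_deg_w (M := M) hK Q).1
  have h1 := h P (algebraMap L M x) hfinP.toFinset (fun R => hfinP.mem_toFinset)
  rw [← Algebra.norm_norm (S := L), Algebra.norm_algebraMap, map_pow, ord_pow',
    sum_fiber (Tate.WeakFF.of_isFunctionField hK) (Tate.WeakFF.of_finite hK) P Qs hQs
      hfinP.toFinset (fun R => hfinP.mem_toFinset) (fun Q => (hfinQ Q).toFinset)
      (fun Q _ R => (hfinQ Q).mem_toFinset)] at h1
  have h2 : ∀ Q ∈ Qs, ∑ R ∈ (hfinQ Q).toFinset, (R.deg : ℤ) * R.ord (algebraMap L M x) =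
      (Module.finrank L M : ℤ) * ((Q.deg : ℤ) * Q.ord x) := by
    intro Q _
    have h3 := (sum_ramIdx_mul_deg_w (M := M) hK Q).2 (hfinQ Q).toFinset
      (fun R => (hfinQ Q).mem_toFinset)
    have h4 : ∀ R ∈ (hfinQ Q).toFinset, (R.deg : ℤ) * R.ord (algebraMap L M x) =
        ((ramIdx R Q * R.deg : ℕ) : ℤ) * Q.ord x := by
      intro R hR
      rw [isOverWith_ord_eq (isOverWith_ramIdx ((hfinQ Q).mem_toFinset.mp hR))]
      push_cast
      ring
    rw [Finset.sum_congr rfl h4, ← Finset.sum_mul, ← Nat.cast_sum, h3]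
    push_cast
    ring
  rw [Finset.sum_congr rfl h2, ← Finset.mul_sum] at h1
  have hn : (Module.finrank L M : ℤ) ≠ 0 := by
    exact_mod_cast (Module.finrank_pos (R := L) (M := M)).ne'
  refine mul_left_cancel₀ hn ?_
  rw [← h1]
  ring

/-- a purely inseparable extension has at most one place above a given place. -/
theorem place_unique_of_isPurelyInseparable [FiniteDimensional L M] [IsPurelyInseparable L M]
    {Q : Place k L} {R R' : Place k M} (hR : IsOver R Q) (hR' : IsOver R' Q) : R = R' := by
  obtain ⟨e, he⟩ := hR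
  obtain ⟨e', he'⟩ := hR'
  have hn : Module.finrank L M ≠ 0 := (Module.finrank_pos (R := L) (M := M)).ne'
  have key : ∀ (R₁ : Place k M) (e₁ : ℕ), IsOverWith R₁ Q e₁ → ∀ y : M,
      R₁.1 y ≤ 1 ↔ Q.1 (Algebra.norm L y) ≤ 1 := by
    intro R₁ e₁ h₁ y
    rw [← isOverWith_val_le_one_iff h₁, norm_eq_pow_of_isPurelyInseparable, map_pow,
      pow_le_one_iff hn]
  apply place_eq_of_le_one_iff
  intro y
  rw [key R e he, key R' e' he']

/-- the norm formula for a purely inseparable extension. -/
theorem formula_of_isPurelyInseparable (hK : IsFunctionField k K) [FiniteDimensional K L]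
    [FiniteDimensional L M] [IsPurelyInseparable L M] : Formula k L M := by
  classical
  intro Q x Rs hRs
  obtain ⟨-, hsum⟩ := sum_ramIdx_mul_deg_w (M := M) hK Q
  have h1 := hsum Rs hRs
  have hQpos : 0 < Q.deg := by
    obtain ⟨hL, hfin⟩ := isFunctionField_algebraicClosure (K' := L) hK
    haveI := hfin
    have h2 := Place.deg_down (k := k) (Place.up (k' := algebraicClosure k L) Q)
    rw [Place.down_up] at h2
    rw [h2]
    exact Nat.mul_pos Module.finrank_pos (Helper23.FF.deg_pos hL _)
  have hne : Rs.Nonempty := by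
    by_contra hemp
    rw [Finset.not_nonempty_iff_eq_empty] at hemp
    rw [hemp, Finset.sum_empty] at h1
    have h2 : 0 < Module.finrank L M * Q.deg := Nat.mul_pos Module.finrank_pos hQpos
    omega
  obtain ⟨R₀, hR₀⟩ := hne
  have hRs_eq : Rs = {R₀} := by
    ext R
    rw [Finset.mem_singleton]
    constructor
    · intro hR
      exact place_unique_of_isPurelyInseparable ((hRs R).mp hR) ((hRs R₀).mp hR₀)
    · rintro rfl
      exact hR₀
  rw [hRs_eq, Finset.sum_singleton] at h1 ⊢
  have he := isOverWith_ramIdx ((hRs R₀).mp hR₀)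
  have hepos := isOverWith_pos he
  have h2 : (ramIdx R₀ Q : ℤ) * Q.ord (Algebra.norm L x) =
      (Module.finrank L M : ℤ) * R₀.ord x := by
    rw [← isOverWith_ord_eq he, norm_eq_pow_of_isPurelyInseparable, ord_pow']
  have he0 : (ramIdx R₀ Q : ℤ) ≠ 0 := by exact_mod_cast (by omega : ramIdx R₀ Q ≠ 0)
  refine mul_left_cancel₀ he0 ?_
  have h1' : (ramIdx R₀ Q : ℤ) * R₀.deg = Module.finrank L M * Q.deg := by exact_mod_cast h1
  calc (ramIdx R₀ Q : ℤ) * ((Q.deg : ℤ) * Q.ord (Algebra.norm L x))
      = (Q.deg : ℤ) * ((ramIdx R₀ Q : ℤ) * Q.ord (Algebra.norm L x)) := by ring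
    _ = ((Module.finrank L M : ℤ) * Q.deg) * R₀.ord x := by rw [h2]; ring
    _ = (ramIdx R₀ Q : ℤ) * ((R₀.deg : ℤ) * R₀.ord x) := by rw [← h1']; ring

end Tower

end Groth.Agent.Lib.Helper27.NormF
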