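import Mathlib
import Groth.Agent.Lib.Helper27.NormF3

/-! The norm formula (helper27), part 4: the separable case via a Galois closure, and the
general case. -/

set_option autoImplicit false

namespace Groth.Agent.Lib.Helper27.NormF

open FunFld Groth.Agent.Lib.Helper27.FF IntermediateField

universe u v w z

variable {k : Type u} {K : Type v} {L : Type w} [Field k] [Field K] [Field L]
  [Algebra k K] [Algebra K L] [Algebra k L] [IsScalarTower k K L]

/-- the norm formula for `L/K` when `L` embeds in a finite Galois extension `M/K`. -/
theorem formula_of_galois_closure (hK : IsFunctionField k K) [FiniteDimensional K L]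
    (M : Type z) [Field M] [Algebra K M] [Algebra L M] [IsScalarTower K L M]
    [FiniteDimensional K M] [IsGalois K M] : Formula k K L := by
  letI : Algebra k M := ((algebraMap K M).comp (algebraMap k K)).toAlgebra
  haveI : IsScalarTower k K M := IsScalarTower.of_algebraMap_eq (fun _ => rfl)
  haveI : IsScalarTower k L M := IsScalarTower.of_algebraMap_eq (fun c => by
    show algebraMap K M (algebraMap k K c) = algebraMap L M (algebraMap k L c)
    rw [IsScalarTower.algebraMap_apply k K L, ← IsScalarTower.algebraMap_apply K L M])
  haveI : FiniteDimensional L M := Module.Finite.of_restrictScalars_finite K L M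
  exact formula_descent (M := M) hK (formula_of_isGalois hK)

/-- the norm formula for a finite separable extension. -/
theorem formula_of_isSeparable (hK : IsFunctionField k K) [FiniteDimensional K L]
    [Algebra.IsSeparable K L] : Formula k K L := by
  haveI : ∀ f : L →ₐ[K] AlgebraicClosure L, Algebra.IsSeparable K f.fieldRange := fun f =>
    AlgEquiv.Algebra.isSeparable (AlgEquiv.ofInjectiveField f)
  haveI : Algebra.IsSeparable K (normalClosure K L (AlgebraicClosure L)) := by
    rw [normalClosure_def]; infer_instance
  haveI : IsGalois K (normalClosure K L (AlgebraicClosure L)) := ⟨⟩
  exact formula_of_galois_closure hK (normalClosure K L (AlgebraicClosure L))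

/-- the norm formula for a finite extension of a function field. -/
theorem formula (hK : IsFunctionField k K) [FiniteDimensional K L] : Formula k K L := by
  haveI : IsPurelyInseparable (separableClosure K L) L := separableClosure.isPurelyInseparable K L
  haveI : Algebra.IsSeparable K (separableClosure K L) := separableClosure.isSeparable K L
  haveI : IsScalarTower k (separableClosure K L) L :=
    IsScalarTower.of_algebraMap_eq (fun _ => rfl)
  exact formula_trans (L := separableClosure K L) hK (formula_of_isSeparable hK)
    (formula_of_isPurelyInseparable hK)

end Groth.Agent.Lib.Helper27.NormF
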