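import Mathlib

/-!
# p-bases and the degree `[K : K^p]` (part 1)

`PB p b` : the family `b : ι → O` is a "p-basis" of the ring `O` over its `p`-th powers, i.e.
`a ↦ ∑ i, a i ^ p * b i` is a bijection `(ι → O) → O`.

* `PB.powerSeries`, `PB.polynomial` : p-bases of `R⟦X⟧`, `R[X]` from one of `R`.
* `finrank_of_PB` : a p-basis of `O` gives `[L : L^p] = card ι` for `L = Frac O`.
* `exists_PB_of_finrank` : a field with `[K : K^p] = n ≠ 0` has a p-basis indexed by `Fin n`.
-/

set_option autoImplicit false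

namespace Groth.Agent.Lib.Helper27.PD

open Polynomial PowerSeries

variable (p : ℕ) [hp : Fact p.Prime]

/-- `b` is a p-basis of `O` over the `p`-th powers. -/
def PB {O : Type*} [CommSemiring O] {ι : Type*} [Fintype ι] (b : ι → O) : Prop :=
  Function.Bijective (fun a : ι → O => ∑ i, a i ^ p * b i)

section series

variable {R : Type*} [CommRing R] [CharP R p]

theorem coeff_pow_char (f : PowerSeries R) (n : ℕ) :
    PowerSeries.coeff n (f ^ p) = if p ∣ n then (PowerSeries.coeff (n / p) f) ^ p else 0 := by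
  have hp0 : p ≠ 0 := hp.out.ne_zero
  have h : f ^ p = PowerSeries.map (frobenius R p) (PowerSeries.expand p hp0 f) :=
    (MvPowerSeries.map_frobenius_expand p hp0).symm
  rw [h, PowerSeries.coeff_map, PowerSeries.coeff_expand]
  split_ifs
  · rfl
  · simp

variable {ι : Type*} [Fintype ι]

theorem coeff_sum_formula (β : ι → R) (a : ι × Fin p → PowerSeries R) (n : ℕ) (j : Fin p) :
    PowerSeries.coeff (p * n + j)
        (∑ ij : ι × Fin p, a ij ^ p * (PowerSeries.C (β ij.1) * PowerSeries.X ^ (ij.2 : ℕ)))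
      = ∑ i, (PowerSeries.coeff n (a (i, j))) ^ p * β i := by
  classical
  have hp0 : 0 < p := hp.out.pos
  rw [map_sum, Fintype.sum_prod_type]
  refine Finset.sum_congr rfl fun i _ => ?_
  rw [Finset.sum_eq_single j]
  · show PowerSeries.coeff (p * n + j) (a (i, j) ^ p * (PowerSeries.C (β i) * PowerSeries.X ^ (j : ℕ))) = _
    rw [← mul_assoc, PowerSeries.coeff_mul_X_pow', if_pos (Nat.le_add_left _ _),
      Nat.add_sub_cancel, PowerSeries.coeff_mul_C, coeff_pow_char, if_pos (dvd_mul_right p n),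
      Nat.mul_div_cancel_left n hp0]
  · intro j' _ hj'
    show PowerSeries.coeff (p * n + j)
      (a (i, j') ^ p * (PowerSeries.C (β i) * PowerSeries.X ^ (j' : ℕ))) = 0
    rw [← mul_assoc, PowerSeries.coeff_mul_X_pow']
    split_ifs with h1
    · rw [PowerSeries.coeff_mul_C, coeff_pow_char]
      split_ifs with h2
      · exfalso
        obtain ⟨q, hq⟩ := h2
        have e : p * n + j = p * q + j' := by omega
        have e' := congrArg (· % p) e
        simp only [Nat.mul_add_mod, Nat.mod_eq_of_lt j.2, Nat.mod_eq_of_lt j'.2] at e'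
        exact hj' (Fin.ext e'.symm)
      · simp
    · rfl
  · intro h; exact absurd (Finset.mem_univ _) h

theorem PB.powerSeries {β : ι → R} (hβ : PB p β) :
    PB p (fun ij : ι × Fin p =>
      (PowerSeries.C (β ij.1) * PowerSeries.X ^ (ij.2 : ℕ) : PowerSeries R)) := by
  have hp0 : 0 < p := hp.out.pos
  constructor
  · intro a a' h
    funext ⟨i, j⟩
    ext n
    have h1 := congrArg (PowerSeries.coeff (p * n + j)) h
    simp only [] at h1
    rw [coeff_sum_formula, coeff_sum_formula] at h1
    exact congrFun (hβ.1 h1) i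
  · intro f
    have hc : ∀ m, ∃ c : ι → R, ∑ i, c i ^ p * β i = PowerSeries.coeff m f := fun m => hβ.2 _
    choose c hc using hc
    refine ⟨fun ij => PowerSeries.mk fun n => c (p * n + ij.2) ij.1, ?_⟩
    ext m
    obtain ⟨n, j, rfl⟩ : ∃ n, ∃ j : Fin p, m = p * n + j :=
      ⟨m / p, ⟨m % p, Nat.mod_lt _ hp0⟩, (Nat.div_add_mod m p).symm⟩
    show PowerSeries.coeff _ (∑ ij : ι × Fin p, _) = _
    rw [coeff_sum_formula]
    simp only [PowerSeries.coeff_mk]
    exact hc _

theorem PB.polynomial {β : ι → R} (hβ : PB p β) :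
    PB p (fun ij : ι × Fin p =>
      (Polynomial.C (β ij.1) * Polynomial.X ^ (ij.2 : ℕ) : Polynomial R)) := by
  have hp0 : 0 < p := hp.out.pos
  have hS := hβ.powerSeries (p := p)
  have hcoe : ∀ a : ι × Fin p → R[X],
      ((∑ ij, a ij ^ p * (Polynomial.C (β ij.1) * Polynomial.X ^ (ij.2 : ℕ)) : R[X]) : R⟦X⟧)
        = ∑ ij, (a ij : R⟦X⟧) ^ p * (PowerSeries.C (β ij.1) * PowerSeries.X ^ (ij.2 : ℕ)) := by
    intro a
    rw [← Polynomial.coeToPowerSeries.ringHom_apply, map_sum]
    refine Finset.sum_congr rfl fun ij _ => ?_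
    simp [Polynomial.coeToPowerSeries.ringHom_apply]
  constructor
  · intro a a' h
    have h2 : (fun a : ι × Fin p → R⟦X⟧ => ∑ ij, a ij ^ p *
          (PowerSeries.C (β ij.1) * PowerSeries.X ^ (ij.2 : ℕ))) (fun ij => (a ij : R⟦X⟧))
        = (fun a : ι × Fin p → R⟦X⟧ => ∑ ij, a ij ^ p *
          (PowerSeries.C (β ij.1) * PowerSeries.X ^ (ij.2 : ℕ))) (fun ij => (a' ij : R⟦X⟧)) := by
      show _ = _
      simp only []
      rw [← hcoe, ← hcoe]
      exact congrArg _ h
    have h3 := hS.1 h2
    funext ij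
    exact Polynomial.coe_injective R (congrFun h3 ij)
  · intro f
    obtain ⟨a', ha'⟩ := hS.2 (f : R⟦X⟧)
    simp only [] at ha'
    have hvan : ∀ ij n, f.natDegree < n → PowerSeries.coeff n (a' ij) = 0 := by
      rintro ⟨i, j⟩ n hn
      have h1 := congrArg (PowerSeries.coeff (p * n + j)) ha'
      have hle : n ≤ p * n := Nat.le_mul_of_pos_left n hp0
      rw [coeff_sum_formula, Polynomial.coeff_coe,
        Polynomial.coeff_eq_zero_of_natDegree_lt (by omega)] at h1
      have h0 : (fun c : ι → R => ∑ i, c i ^ p * β i) (fun i => PowerSeries.coeff n (a' (i, j)))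
          = (fun c : ι → R => ∑ i, c i ^ p * β i) 0 := by
        simp only [Pi.zero_apply, zero_pow hp.out.ne_zero, zero_mul, Finset.sum_const_zero]
        exact h1
      exact congrFun (hβ.1 h0) i
    refine ⟨fun ij => PowerSeries.trunc (f.natDegree + 1) (a' ij), ?_⟩
    apply Polynomial.coe_injective R
    show ((∑ ij : ι × Fin p, _ : R[X]) : R⟦X⟧) = _
    rw [hcoe, ← ha']
    refine Finset.sum_congr rfl fun ij _ => ?_
    congr 2
    ext n
    rw [Polynomial.coeff_coe, PowerSeries.coeff_trunc]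
    split_ifs with hn
    · rfl
    · exact (hvan ij n (by omega)).symm

end series

end Groth.Agent.Lib.Helper27.PD
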