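import Groth.Agent.Lib.Helper27.PD1

/-!
# p-bases and the degree `[K : K^p]` (part 2)
-/

set_option autoImplicit false

namespace Groth.Agent.Lib.Helper27.PD

open Polynomial

variable (p : ℕ) [hp : Fact p.Prime]

/-- A p-basis of `O` gives `[L : L^p] = card ι` for the fraction field `L` of `O`. -/
theorem finrank_of_PB {O L : Type*} [CommRing O] [Field L] [CharP L p] [Algebra O L]
    [IsFractionRing O L] {ι : Type*} [Fintype ι] {b : ι → O} (hb : PB p b) :
    Module.finrank (frobenius L p).fieldRange L = Fintype.card ι := by
  classical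
  have hp0 : p ≠ 0 := hp.out.ne_zero
  have hmem : ∀ c : L, c ^ p ∈ (frobenius L p).fieldRange := fun c => ⟨c, rfl⟩
  have hinj : Function.Injective (algebraMap O L) := IsFractionRing.injective O L
  have : Nontrivial O := by
    by_contra h
    rw [not_nontrivial_iff_subsingleton] at h
    exact one_ne_zero (α := L)
      (by rw [← map_one (algebraMap O L), Subsingleton.elim (1 : O) 0, map_zero])
  let v : ι → L := fun i => algebraMap O L (b i)
  have hli : LinearIndependent (frobenius L p).fieldRange v := by
    rw [Fintype.linearIndependent_iff]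
    intro g hg
    have hc : ∀ i, ∃ c : L, c ^ p = (g i : L) := fun i => (g i).2
    choose c hc using hc
    obtain ⟨d, hd⟩ := IsLocalization.exist_integer_multiples_of_finite (nonZeroDivisors O) c
    choose a ha using hd
    have hd0 : algebraMap O L (d : O) ≠ 0 :=
      IsFractionRing.to_map_ne_zero_of_mem_nonZeroDivisors d.2
    have h0 : (fun a : ι → O => ∑ i, a i ^ p * b i) a
        = (fun a : ι → O => ∑ i, a i ^ p * b i) 0 := by
      apply hinj
      simp only [map_sum, map_mul, map_pow, ha, Pi.zero_apply, zero_pow hp0, zero_mul,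
        Finset.sum_const_zero, map_zero, Algebra.smul_def, mul_pow]
      have : ∑ i, algebraMap O L d ^ p * c i ^ p * algebraMap O L (b i)
          = algebraMap O L d ^ p * ∑ i, g i • v i := by
        rw [Finset.mul_sum]
        refine Finset.sum_congr rfl fun i _ => ?_
        rw [hc i, mul_assoc]; rfl
      rw [this, hg, mul_zero]
    have ha0 := hb.1 h0
    intro i
    have h1 : algebraMap O L (a i) = 0 := by rw [congrFun ha0 i]; simp
    rw [ha i, Algebra.smul_def, mul_eq_zero] at h1
    have hci : c i = 0 := h1.resolve_left hd0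
    apply Subtype.ext
    rw [← hc i, hci, zero_pow hp0]; rfl
  have hsp : ⊤ ≤ Submodule.span (frobenius L p).fieldRange (Set.range v) := by
    intro l _
    obtain ⟨f, g, hg, rfl⟩ := IsFractionRing.div_surjective (A := O) l
    obtain ⟨a, ha⟩ := hb.2 (f * g ^ (p - 1))
    have hg0 : algebraMap O L g ≠ 0 := IsFractionRing.to_map_ne_zero_of_mem_nonZeroDivisors hg
    have key : algebraMap O L f / algebraMap O L g
        = ∑ i, (⟨(algebraMap O L (a i) / algebraMap O L g) ^ p, hmem _⟩ :
            (frobenius L p).fieldRange) • v i := by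
      have h2 := congrArg (algebraMap O L) ha
      simp only [map_sum, map_mul, map_pow] at h2
      have h3 : ∀ i, (⟨(algebraMap O L (a i) / algebraMap O L g) ^ p, hmem _⟩ :
            (frobenius L p).fieldRange) • v i
          = (algebraMap O L (a i) ^ p * algebraMap O L (b i)) / algebraMap O L g ^ p := by
        intro i
        show (algebraMap O L (a i) / algebraMap O L g) ^ p * algebraMap O L (b i) = _
        rw [div_pow]; ring
      simp only [h3]
      rw [← Finset.sum_div, h2]
      have h4 : algebraMap O L g ^ p = algebraMap O L g ^ (p - 1) * algebraMap O L g := by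
        rw [← pow_succ, Nat.sub_add_cancel hp.out.one_le]
      rw [h4]
      field_simp
    rw [key]
    exact Submodule.sum_mem _ fun i _ =>
      Submodule.smul_mem _ _ (Submodule.subset_span ⟨i, rfl⟩)
  rw [Module.finrank_eq_card_basis (Module.Basis.mk hli hsp)]

/-- A field with `[K : K^p] = n ≠ 0` has a p-basis indexed by `Fin n`. -/
theorem exists_PB_of_finrank {K : Type*} [Field K] [CharP K p] {n : ℕ} (hn : n ≠ 0)
    (h : Module.finrank (frobenius K p).fieldRange K = n) : ∃ β : Fin n → K, PB p β := by
  have : Module.Finite (frobenius K p).fieldRange K :=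
    Module.finite_of_finrank_pos (by omega)
  let B : Module.Basis (Fin n) (frobenius K p).fieldRange K := Module.finBasisOfFinrankEq _ _ h
  have key : ∀ a : Fin n → K, ∑ i, a i ^ p * B i
      = B.equivFun.symm (fun i => ⟨a i ^ p, a i, rfl⟩) := by
    intro a
    rw [Module.Basis.equivFun_symm_apply]
    rfl
  refine ⟨fun i => B i, ?_, ?_⟩
  · intro a a' haa
    have h1 := B.equivFun.symm.injective ((key a).symm.trans (haa.trans (key a')))
    funext i
    have hi := congrFun h1 i
    exact frobenius_inj K p (Subtype.ext_iff.mp hi)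
  · intro x
    have hx : ∀ i, ∃ c : K, c ^ p = (B.repr x i : K) := fun i => (B.repr x i).2
    choose c hc using hx
    refine ⟨c, ?_⟩
    show ∑ i, c i ^ p * B i = x
    conv_rhs => rw [← B.sum_repr x]
    refine Finset.sum_congr rfl fun i _ => ?_
    rw [hc]; rfl

/-- The degree `[K : K^p]` (zero if infinite). -/
noncomputable def pdeg (K : Type*) [Field K] [ExpChar K p] : ℕ :=
  Module.finrank (frobenius K p).fieldRange K

/-- The degree `[M : M^p]` for a subfield `M` of `E`. -/
noncomputable def pd {E : Type*} [Field E] [ExpChar E p] (M : Subfield E) : ℕ :=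
  Subfield.relfinrank (M.map (frobenius E p)) M

section pd

variable {E : Type*} [Field E] [ExpChar E p]

omit hp in
theorem pd_top : pd p (⊤ : Subfield E) = pdeg p E := by
  unfold pd pdeg
  rw [Subfield.relfinrank_top_right, ← RingHom.fieldRange_eq_map]

omit hp in
theorem pd_map {K : Type*} [Field K] [ExpChar K p] (φ : K →+* E) (M : Subfield K) :
    pd p (M.map φ) = pd p M := by
  unfold pd
  have : (M.map φ).map (frobenius E p) = (M.map (frobenius K p)).map φ := by
    rw [Subfield.map_map, Subfield.map_map]
    congr 1
    ext x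
    simp [frobenius_def]
  rw [this, Subfield.relfinrank_map_map]

theorem pd_eq_pdeg (M : Subfield E) : pd p M = pdeg p ↥M := by
  have h1 := pd_map p M.subtype ⊤
  rw [pd_top] at h1
  rw [← h1]
  congr 1
  rw [← RingHom.fieldRange_eq_map, Subfield.fieldRange_subtype]

omit hp in
theorem map_frobenius_le (M : Subfield E) : M.map (frobenius E p) ≤ M := by
  rintro _ ⟨y, hy, rfl⟩
  exact pow_mem hy p

theorem pd_eq_of_relfinrank_ne_zero {M N : Subfield E} (h : M ≤ N)
    (hf : Subfield.relfinrank M N ≠ 0) : pd p N = pd p M := by
  unfold pd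
  have h1 := Subfield.relfinrank_mul_relfinrank (A := M.map (frobenius E p)) (B := M) (C := N)
    (map_frobenius_le p M) h
  have h2 := Subfield.relfinrank_mul_relfinrank (A := M.map (frobenius E p))
    (B := N.map (frobenius E p)) (C := N) (by rintro _ ⟨y, hy, rfl⟩; exact ⟨y, h hy, rfl⟩) (map_frobenius_le p N)
  rw [Subfield.relfinrank_map_map] at h2
  have h3 := h1.trans h2.symm
  rw [mul_comm] at h3
  exact (Nat.eq_of_mul_eq_mul_left (Nat.pos_of_ne_zero hf) h3).symm

end pd

end Groth.Agent.Lib.Helper27.PD
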