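import Groth.Agent.Lib.Helper27.PD2

/-!
# p-bases and the degree `[K : K^p]` (part 3): finitely generated extensions
-/

set_option autoImplicit false

namespace Groth.Agent.Lib.Helper27.PD

open Polynomial IntermediateField

universe u

variable (p : ℕ) [hp : Fact p.Prime]

/-- Simple transcendental extension: the p-degree is multiplied by `p`, the transcendence degree
is one. -/
theorem step_transcendental {M E : Type u} [Field M] [Field E] [Algebra M E] [CharP M p]
    [CharP E p] (x : E) (hx : Transcendental M x) {n : ℕ} (hn : n ≠ 0) (h : pdeg p M = n) :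
    pdeg p ↥M⟮x⟯ = n * p ∧ Algebra.trdeg M ↥M⟮x⟯ = 1 := by
  obtain ⟨β, hβ⟩ := exists_PB_of_finrank p hn h
  let g : ↥M⟮x⟯ := AdjoinSimple.gen M x
  have hg : Transcendental M g := fun hg => hx
    ((IntermediateField.isAlgebraic_iff (S := M⟮x⟯) (x := g)).mp hg)
  let φ : M[X] →ₐ[M] ↥M⟮x⟯ := Polynomial.aeval g
  letI : Algebra M[X] ↥M⟮x⟯ := φ.toRingHom.toAlgebra
  have hinj : Function.Injective (algebraMap M[X] ↥M⟮x⟯) := transcendental_iff_injective.mp hg
  have : FaithfulSMul M[X] ↥M⟮x⟯ := (faithfulSMul_iff_algebraMap_injective _ _).mpr hinj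
  have : IsScalarTower M M[X] ↥M⟮x⟯ :=
    IsScalarTower.of_algebraMap_eq fun m => (φ.commutes m).symm
  have : IsFractionRing M[X] ↥M⟮x⟯ := IsFractionRing.of_field _ _ fun z => by
    obtain ⟨r, s, hrs⟩ := (IntermediateField.mem_adjoin_simple_iff M z.1).mp z.2
    refine ⟨r, s, Subtype.ext ?_⟩
    rw [hrs]
    show _ = ((φ r / φ s : ↥M⟮x⟯) : E)
    rw [IntermediateField.coe_div, AdjoinSimple.coe_aeval_gen_apply,
      AdjoinSimple.coe_aeval_gen_apply]
  refine ⟨?_, ?_⟩
  · have h1 := finrank_of_PB p (O := M[X]) (L := ↥M⟮x⟯) (hβ.polynomial (p := p))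
    rw [pdeg, h1]
    simp [Fintype.card_prod]
  · have : Algebra.IsAlgebraic M[X] ↥M⟮x⟯ := IsLocalization.isAlgebraic _ (nonZeroDivisors M[X])
    have h1 := _root_.trdeg_add_eq M M[X] (A := ↥M⟮x⟯)
    rw [Polynomial.trdeg_of_isDomain, trdeg_eq_zero (R := M[X]) (A := ↥M⟮x⟯), add_zero] at h1
    exact h1.symm

variable {F E : Type u} [Field F] [Field E] [Algebra F E] [CharP F p] [CharP E p]

theorem pdeg_intermediateField (K : IntermediateField F E) :
    pd p K.toSubfield = pdeg p ↥K := pd_eq_pdeg p K.toSubfield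

/-- The induction: for a finitely generated intermediate field `K` of transcendence degree `d`
over `F`, `[K : K^p] = [F : F^p] * p ^ d`. -/
theorem pd_of_fg {e : ℕ} (hF : pdeg p F = p ^ e) (K : IntermediateField F E) (hK : K.FG) :
    ∃ d : ℕ, Algebra.trdeg F ↥K = d ∧ pd p K.toSubfield = p ^ (e + d) := by
  have hp0 : p ≠ 0 := hp.out.ne_zero
  refine IntermediateField.induction_on_adjoin_fg
    (P := fun K : IntermediateField F E =>
      ∃ d : ℕ, Algebra.trdeg F ↥K = d ∧ pd p K.toSubfield = p ^ (e + d)) ?_ ?_ K hK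
  · refine ⟨0, ?_, ?_⟩
    · rw [(IntermediateField.botEquiv F E).trdeg_eq, trdeg_eq_zero]; simp
    · rw [IntermediateField.bot_toSubfield, RingHom.fieldRange_eq_map, pd_map, pd_top, hF,
        add_zero]
  · rintro K x ⟨d, hd, hpd⟩
    by_cases hx : IsAlgebraic ↥K x
    · have hint : IsIntegral ↥K x := hx.isIntegral
      have : FiniteDimensional ↥K ↥K⟮x⟯ := IntermediateField.adjoin.finiteDimensional hint
      have : Algebra.IsAlgebraic ↥K ↥K⟮x⟯ := IntermediateField.isAlgebraic_adjoin_simple hint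
      refine ⟨d, ?_, ?_⟩
      · have h1 := _root_.trdeg_add_eq F ↥K (A := ↥K⟮x⟯)
        rw [trdeg_eq_zero (R := ↥K) (A := ↥K⟮x⟯), add_zero, hd] at h1
        exact h1.symm
      · rw [IntermediateField.restrictScalars_toSubfield, ← hpd]
        have hle : K ≤ K⟮x⟯.restrictScalars F := fun y hy => K⟮x⟯.algebraMap_mem ⟨y, hy⟩
        refine pd_eq_of_relfinrank_ne_zero p hle ?_
        have h2 := IntermediateField.relfinrank_eq_finrank_of_le hle
        have h3 : IntermediateField.extendScalars hle = K⟮x⟯ :=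
          IntermediateField.ext fun y => Iff.rfl
        rw [h3] at h2
        have h4 : Subfield.relfinrank K.toSubfield K⟮x⟯.toSubfield
            = Module.finrank ↥K ↥K⟮x⟯ := h2
        rw [h4]
        exact Module.finrank_pos.ne'
    · have hn : p ^ (e + d) ≠ 0 := pow_ne_zero _ hp0
      have hK' : pdeg p ↥K = p ^ (e + d) := by rw [← pdeg_intermediateField, hpd]
      obtain ⟨h1, h2⟩ := step_transcendental p x hx hn hK'
      refine ⟨d + 1, ?_, ?_⟩
      · have h3 := _root_.trdeg_add_eq F ↥K (A := ↥K⟮x⟯)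
        rw [h2, hd] at h3
        rw [Nat.cast_succ]
        exact h3.symm
      · rw [IntermediateField.restrictScalars_toSubfield, pd_eq_pdeg]
        have h5 : pdeg p ↥K⟮x⟯.toSubfield = pdeg p ↥K⟮x⟯ := rfl
        rw [h5, h1, ← add_assoc, pow_succ]

/-- If `[F : F^p] = p ^ e` and `E / F` is a finitely generated field extension of transcendence
degree `d`, then `[E : E^p] = p ^ (e + d)`. -/
theorem pdeg_of_fg {e : ℕ} (hF : pdeg p F = p ^ e) (hfg : (⊤ : IntermediateField F E).FG)
    (d : ℕ) (hd : Algebra.trdeg F E = d) : pdeg p E = p ^ (e + d) := by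
  obtain ⟨d', hd', h⟩ := pd_of_fg p hF ⊤ hfg
  rw [(IntermediateField.topEquiv (F := F) (E := E)).trdeg_eq, hd] at hd'
  have : d = d' := by exact_mod_cast hd'
  rw [IntermediateField.top_toSubfield, pd_top] at h
  rw [h, this]

omit [CharP F p] [Algebra F E] [CharP E p] in
/-- A perfect ring has the trivial p-basis. -/
theorem PB_unit_of_perfect (k : Type*) [CommRing k] [CharP k p] [PerfectRing k p] :
    PB p (fun _ : Unit => (1 : k)) := by
  have hb := bijective_frobenius k p
  constructor
  · intro a a' h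
    simp only [Finset.univ_unique, Finset.sum_singleton, mul_one] at h
    funext i
    exact hb.1 h
  · intro y
    obtain ⟨x, hx⟩ := hb.2 y
    exact ⟨fun _ => x, by simpa [frobenius_def] using hx⟩

/-- `[k((t)) : k((t))^p] = p` for a perfect field `k` of characteristic `p`. -/
theorem pdeg_laurentSeries (k : Type*) [Field k] [CharP k p] [PerfectRing k p]
    [CharP (LaurentSeries k) p] : pdeg p (LaurentSeries k) = p := by
  have h1 := finrank_of_PB p (O := PowerSeries k) (L := LaurentSeries k)
    ((PB_unit_of_perfect p k).powerSeries (p := p))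
  rw [pdeg, h1]
  simp [Fintype.card_prod]

end Groth.Agent.Lib.Helper27.PD
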