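import Groth.Agent.Lib.Helper27.PD3

/-!
# p-bases and finiteness of the Frobenius (part 4)
-/

set_option autoImplicit false

namespace Groth.Agent.Lib.Helper27.PD

universe u

variable (p : ℕ) [hp : Fact p.Prime]

omit hp in
theorem PB.ringEquiv {O O' : Type*} [CommRing O] [CommRing O'] (e : O ≃+* O') {ι : Type*}
    [Fintype ι] {b : ι → O} (hb : PB p b) : PB p (fun i => e (b i)) := by
  constructor
  · intro a a' h
    simp only [] at h
    have h' : (fun a : ι → O => ∑ i, a i ^ p * b i) (fun i => e.symm (a i))
        = (fun a : ι → O => ∑ i, a i ^ p * b i) (fun i => e.symm (a' i)) := by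
      apply e.injective
      simp only [map_sum, map_mul, map_pow, RingEquiv.apply_symm_apply]
      exact h
    have h1 := hb.1 h'
    funext i
    exact e.symm.injective (congrFun h1 i)
  · intro y
    obtain ⟨a, ha⟩ := hb.2 (e.symm y)
    refine ⟨fun i => e (a i), ?_⟩
    simp only [] at ha ⊢
    rw [← e.apply_symm_apply y, ← ha]
    simp [map_sum]

omit hp in
theorem ringHom_finite_of_forall_exists {A B : Type*} [CommRing A] [CommRing B] (f : A →+* B)
    {ι : Type*} [Fintype ι] (b : ι → B)
    (h : ∀ x : B, ∃ a : ι → A, ∑ i, f (a i) * b i = x) : f.Finite := by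
  classical
  letI : Algebra A B := f.toAlgebra
  show Module.Finite A B
  refine ⟨⟨Finset.univ.image b, ?_⟩⟩
  rw [eq_top_iff]
  rintro x -
  obtain ⟨a, rfl⟩ := h x
  refine Submodule.sum_mem _ fun i _ => ?_
  have : f (a i) * b i = a i • b i := by rw [Algebra.smul_def]; rfl
  rw [this]
  exact Submodule.smul_mem _ _ (Submodule.subset_span (by simp))

theorem PB.finite_frobenius {O : Type*} [CommRing O] [CharP O p] {ι : Type*} [Fintype ι]
    {b : ι → O} (hb : PB p b) : (frobenius O p).Finite :=
  ringHom_finite_of_forall_exists _ b fun x => by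
    obtain ⟨a, ha⟩ := hb.2 x
    exact ⟨a, ha⟩

theorem exists_PB_mvPolynomial {R : Type u} [CommRing R] [CharP R p] {ι₀ : Type} [Fintype ι₀]
    {b₀ : ι₀ → R} (h₀ : PB p b₀) (n : ℕ) :
    ∃ (ι : Type) (_ : Fintype ι) (b : ι → MvPolynomial (Fin n) R), PB p b := by
  induction n with
  | zero =>
    exact ⟨ι₀, inferInstance, _, h₀.ringEquiv p (MvPolynomial.isEmptyRingEquiv R (Fin 0)).symm⟩
  | succ n ih =>
    obtain ⟨ι, _, b, hb⟩ := ih
    exact ⟨ι × Fin p, inferInstance, _,
      (hb.polynomial (p := p)).ringEquiv p (MvPolynomial.finSuccEquiv R n).symm.toRingEquiv⟩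

/-- A finite type algebra over `k⟦t⟧`, `k` perfect of characteristic `p`, has finite Frobenius. -/
theorem finite_frobenius_of_finiteType_powerSeries (k : Type u) [Field k] [CharP k p]
    [PerfectRing k p] (A : Type u) [CommRing A] [Algebra (PowerSeries k) A]
    [Algebra.FiniteType (PowerSeries k) A] [CharP A p] : (frobenius A p).Finite := by
  obtain ⟨n, f, hf⟩ := Algebra.FiniteType.iff_quotient_mvPolynomial''.mp
    (inferInstance : Algebra.FiniteType (PowerSeries k) A)
  haveI : CharP (PowerSeries k) p :=
    charP_of_injective_ringHom (f := (PowerSeries.C : k →+* PowerSeries k))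
      PowerSeries.C_injective p
  obtain ⟨ι, _, b, hb⟩ := exists_PB_mvPolynomial p
    ((PB_unit_of_perfect p k).powerSeries (p := p)) n
  have hB : (frobenius (MvPolynomial (Fin n) (PowerSeries k)) p).Finite := hb.finite_frobenius p
  have hcomp : (frobenius A p).comp (f : MvPolynomial (Fin n) (PowerSeries k) →+* A)
      = (f : MvPolynomial (Fin n) (PowerSeries k) →+* A).comp (frobenius _ p) := by
    ext x <;> simp [frobenius_def]
  have h1 : ((f : MvPolynomial (Fin n) (PowerSeries k) →+* A).comp (frobenius _ p)).Finite :=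
    RingHom.Finite.comp (RingHom.Finite.of_surjective _ hf) hB
  rw [← hcomp] at h1
  exact RingHom.Finite.of_comp_finite h1

end Groth.Agent.Lib.Helper27.PD
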