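import Groth.Agent.Lib.Helper27.VInt3
import Groth.Agent.Lib.Helper27.Abh3

/-!
# Prüfer domains with finitely generated fraction field have finite Krull dimension (part 1)

Preliminaries: elements of the prime field as quotients of coprime integers, values of integers,
the valuation subrings `Vm P` of a Prüfer domain, and a bound on the transcendence degree of a
finitely generated field over its prime field.
-/

set_option autoImplicit false

namespace Groth.Agent.Lib.Helper27.PDim

open Cardinal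

section primefield

variable {F : Type*} [Field F]

/-- Every element of the prime field is a quotient of two integers. -/
theorem exists_int_div (c : F) (hc : c ∈ (⊥ : Subfield F)) :
    ∃ m n : ℤ, (n : F) ≠ 0 ∧ c = (m : F) / (n : F) := by
  rw [← Subfield.closure_empty, Subfield.mem_closure_iff, Subring.closure_empty] at hc
  obtain ⟨y, hy, z, hz, rfl⟩ := hc
  obtain ⟨m, rfl⟩ := Subring.mem_bot.mp hy
  obtain ⟨n, rfl⟩ := Subring.mem_bot.mp hz
  by_cases hn : (n : F) = 0
  · exact ⟨0, 1, by simp, by simp [hn]⟩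
  · exact ⟨m, n, hn, rfl⟩

theorem exists_coprime_div (c : F) (hc : c ∈ (⊥ : Subfield F)) :
    ∃ m n : ℤ, IsCoprime m n ∧ (n : F) ≠ 0 ∧ c = (m : F) / (n : F) := by
  obtain ⟨m, n, hn, rfl⟩ := exists_int_div c hc
  have hn0 : n ≠ 0 := by
    rintro rfl
    exact hn (by simp)
  have hg : 0 < Int.gcd m n := Int.gcd_pos_of_ne_zero_right m hn0
  obtain ⟨m', n', h1, hm, hn'⟩ := Int.exists_gcd_one hg
  generalize (Int.gcd m n : ℤ) = g at hm hn'
  subst hm hn'
  have hn2 : (n' : F) * (g : F) ≠ 0 := by
    rw [← Int.cast_mul]; exact hn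
  have hgF : (g : F) ≠ 0 := right_ne_zero_of_mul hn2
  refine ⟨m', n', Int.isCoprime_iff_gcd_eq_one.mpr h1, left_ne_zero_of_mul hn2, ?_⟩
  rw [Int.cast_mul, Int.cast_mul, mul_div_mul_right _ _ hgF]

variable {Γ : Type*} [LinearOrderedCommGroupWithZero Γ] (v : Valuation F Γ)

theorem val_intCast_le_one (n : ℤ) : v (n : F) ≤ 1 :=
  (Valuation.mem_integer_iff v _).mp (intCast_mem v.integer n)

theorem val_eq_one_iff_of_coprime {m n : ℤ} (h : IsCoprime m n) (hn : (n : F) ≠ 0) :
    v ((m : F) / (n : F)) = 1 ↔ ¬ v (m : F) < 1 ∧ ¬ v (n : F) < 1 := by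
  have hm1 := val_intCast_le_one v m
  have hn1 := val_intCast_le_one v n
  have hvn : v (n : F) ≠ 0 := (Valuation.ne_zero_iff v).mpr hn
  rw [map_div₀, div_eq_one_iff_eq hvn]
  constructor
  · intro e
    obtain ⟨s, t, hst⟩ := h
    by_contra hcon
    have hlt : v (m : F) < 1 ∧ v (n : F) < 1 := by
      rw [not_and_or, not_not, not_not] at hcon
      rcases hcon with h | h
      · exact ⟨h, by rw [← e]; exact h⟩
      · exact ⟨by rw [e]; exact h, h⟩
    have h1 : v (1 : F) < 1 := by
      have h2 : (1 : F) = (s : F) * (m : F) + (t : F) * (n : F) := by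
        rw [← Int.cast_mul, ← Int.cast_mul, ← Int.cast_add, hst, Int.cast_one]
      rw [h2]
      refine lt_of_le_of_lt (v.map_add _ _) (max_lt ?_ ?_)
      · rw [map_mul]
        exact lt_of_le_of_lt (mul_le_of_le_one_left' (val_intCast_le_one v s)) hlt.1
      · rw [map_mul]
        exact lt_of_le_of_lt (mul_le_of_le_one_left' (val_intCast_le_one v t)) hlt.2
    rw [map_one] at h1
    exact lt_irrefl _ h1
  · rintro ⟨h1, h2⟩
    rw [le_antisymm hm1 (not_lt.mp h1), le_antisymm hn1 (not_lt.mp h2)]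

theorem val_eq_one_iff_of_forall_int {Γ' : Type*} [LinearOrderedCommGroupWithZero Γ']
    (v' : Valuation F Γ') (h : ∀ n : ℤ, v (n : F) < 1 ↔ v' (n : F) < 1)
    (c : F) (hc : c ∈ (⊥ : Subfield F)) : v c = 1 ↔ v' c = 1 := by
  obtain ⟨m, n, hmn, hn, rfl⟩ := exists_coprime_div c hc
  rw [val_eq_one_iff_of_coprime v hmn hn, val_eq_one_iff_of_coprime v' hmn hn, h m, h n]

theorem valuation_eq_one_of_le {V V' : ValuationSubring F} (h : V' ≤ V) (y : F)
    (hy : V'.valuation y = 1) : V.valuation y = 1 := by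
  have hy0 : y ≠ 0 := by
    rintro rfl
    rw [map_zero] at hy
    exact zero_ne_one hy
  have h1 : y ∈ V := h ((ValuationSubring.valuation_le_one_iff V' y).mp hy.le)
  have h2 : y⁻¹ ∈ V :=
    h ((ValuationSubring.valuation_le_one_iff V' _).mp (by rw [map_inv₀, hy, inv_one]))
  have h3 := (ValuationSubring.valuation_le_one_iff V y).mpr h1
  have h4 := (ValuationSubring.valuation_le_one_iff V _).mpr h2
  rw [map_inv₀] at h4
  have h5 : V.valuation y ≠ 0 := (Valuation.ne_zero_iff _).mpr hy0
  exact le_antisymm h3 ((inv_le_one₀ (zero_lt_iff.mpr h5)).mp h4)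

/-- A field generated (as a field) by a set `S'` has transcendence degree at most `#S'` over its
prime field. -/
theorem trdeg_le_of_closure (S' : Set F) (hS : Subfield.closure S' = ⊤) :
    Algebra.trdeg (↥(⊥ : Subfield F)) F ≤ Cardinal.mk S' := by
  haveI : Algebra.IsAlgebraic (Algebra.adjoin (↥(⊥ : Subfield F)) S') F := by
    refine ⟨fun x => ?_⟩
    have hx : x ∈ Subfield.closure S' := by rw [hS]; trivial
    rw [Subfield.mem_closure_iff] at hx
    obtain ⟨y, hy, z, hz, rfl⟩ := hx
    have hle : Subring.closure S' ≤ (Algebra.adjoin (↥(⊥ : Subfield F)) S').toSubring :=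
      Subring.closure_le.mpr Algebra.subset_adjoin
    have hy' : y ∈ Algebra.adjoin (↥(⊥ : Subfield F)) S' := hle hy
    have hz' : z ∈ Algebra.adjoin (↥(⊥ : Subfield F)) S' := hle hz
    by_cases hz0 : z = 0
    · rw [hz0, div_zero]; exact isAlgebraic_zero
    · refine ⟨Polynomial.C (⟨z, hz'⟩ : Algebra.adjoin (↥(⊥ : Subfield F)) S') * Polynomial.X
          - Polynomial.C ⟨y, hy'⟩, ?_, ?_⟩
      · intro h
        have h1 : (⟨z, hz'⟩ : Algebra.adjoin (↥(⊥ : Subfield F)) S') = 0 := by
          simpa using congrArg (fun p => Polynomial.coeff p 1) h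
        exact hz0 (congrArg Subtype.val h1)
      · rw [map_sub, map_mul, Polynomial.aeval_C, Polynomial.aeval_X, Polynomial.aeval_C]
        show z * (y / z) - y = 0
        field_simp
        ring
  exact Algebra.IsAlgebraic.trdeg_le_cardinalMk _ S'

theorem closure_subtype_eq_top (T : Set F) :
    Subfield.closure {x : ↥(Subfield.closure T) | (x : F) ∈ T} = ⊤ := by
  rw [eq_top_iff]
  rintro ⟨x, hx⟩ -
  induction hx using Subfield.closure_induction with
  | mem y hy => exact Subfield.subset_closure hy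
  | one => exact one_mem _
  | add x y hx hy hx' hy' => exact add_mem hx' hy'
  | neg x hx hx' => exact neg_mem hx'
  | inv x hx hx' => exact inv_mem hx'
  | mul x y hx hy hx' hy' => exact mul_mem hx' hy'

theorem exists_finset_closure_eq_top (T : Finset F) :
    ∃ S' : Finset ↥(Subfield.closure (T : Set F)),
      Subfield.closure (S' : Set ↥(Subfield.closure (T : Set F))) = ⊤ := by
  classical
  refine ⟨T.attach.image (fun t => ⟨t.1, Subfield.subset_closure t.2⟩), ?_⟩
  rw [eq_top_iff, ← closure_subtype_eq_top (T : Set F)]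
  apply Subfield.closure_mono
  rintro ⟨x, hx⟩ hxT
  rw [Finset.mem_coe, Finset.mem_image]
  exact ⟨⟨x, hxT⟩, Finset.mem_attach _ _, rfl⟩

end primefield

section vm

variable {B F : Type*} [CommRing B] [IsDomain B] [Field F] [Algebra B F] [IsFractionRing B F]
  (hB : ∀ (p : Ideal B) [p.IsPrime], ValuationRing (Localization.AtPrime p))

theorem algebraMap_mem_Vm (P : Ideal B) [P.IsPrime] (b : B) :
    algebraMap B F b ∈ VInt.Vm (L := F) P (hB P) :=
  ⟨b, 1, P.primeCompl.one_mem, by simp⟩

theorem val_Vm_le_one (P : Ideal B) [P.IsPrime] (b : B) :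
    (VInt.Vm (L := F) P (hB P)).valuation (algebraMap B F b) ≤ 1 :=
  (ValuationSubring.valuation_le_one_iff _ _).mpr (algebraMap_mem_Vm hB P b)

theorem val_lt_one_iff_aux (P : Ideal B) [P.IsPrime] (V : ValuationSubring F)
    (hV : ∀ x : F, x ∈ V ↔ ∃ (a s : B) (_ : s ∈ P.primeCompl),
      x = algebraMap B F a * (algebraMap B F s)⁻¹) (b : B) :
    V.valuation (algebraMap B F b) < 1 ↔ b ∈ P := by
  have hφ : Function.Injective (algebraMap B F) := IsFractionRing.injective B F
  have hle : V.valuation (algebraMap B F b) ≤ 1 :=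
    (ValuationSubring.valuation_le_one_iff _ _).mpr ((hV _).mpr ⟨b, 1, P.primeCompl.one_mem, by simp⟩)
  constructor
  · intro hlt
    by_contra hb
    have hb0 : algebraMap B F b ≠ 0 := by
      refine (map_ne_zero_iff _ hφ).mpr ?_
      rintro rfl
      exact hb P.zero_mem
    have hmem : (algebraMap B F b)⁻¹ ∈ V := (hV _).mpr ⟨1, b, hb, by rw [map_one, one_mul]⟩
    have h1 := (ValuationSubring.valuation_le_one_iff V _).mpr hmem
    rw [map_inv₀] at h1
    have h2 : V.valuation (algebraMap B F b) ≠ 0 := (Valuation.ne_zero_iff _).mpr hb0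
    have h3 : 1 ≤ V.valuation (algebraMap B F b) := (inv_le_one₀ (zero_lt_iff.mpr h2)).mp h1
    exact absurd hlt (not_lt.mpr h3)
  · intro hb
    by_contra hnlt
    have h1 : V.valuation (algebraMap B F b) = 1 := le_antisymm hle (not_lt.mp hnlt)
    have hb0 : algebraMap B F b ≠ 0 := by
      intro h0
      rw [h0, map_zero] at h1
      exact zero_ne_one h1
    have hmem : (algebraMap B F b)⁻¹ ∈ V := by
      rw [← ValuationSubring.valuation_le_one_iff, map_inv₀, h1, inv_one]
    obtain ⟨a, s, hs, hx⟩ := (hV _).mp hmem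
    have hs0 : algebraMap B F s ≠ 0 := by
      refine (map_ne_zero_iff _ hφ).mpr ?_
      rintro rfl
      exact hs P.zero_mem
    rw [← div_eq_mul_inv, eq_div_iff hs0] at hx
    have e : algebraMap B F s = algebraMap B F (a * b) := by
      rw [map_mul, ← hx]
      field_simp
    exact hs (by rw [hφ e]; exact P.mul_mem_left a hb)

theorem val_Vm_lt_one_iff (P : Ideal B) [P.IsPrime] (b : B) :
    (VInt.Vm (L := F) P (hB P)).valuation (algebraMap B F b) < 1 ↔ b ∈ P :=
  val_lt_one_iff_aux P _ (fun _ => Iff.rfl) b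

theorem Vm_mono {P P' : Ideal B} [P.IsPrime] [P'.IsPrime] (h : P ≤ P') :
    VInt.Vm (L := F) P' (hB P') ≤ VInt.Vm (L := F) P (hB P) := by
  intro x hx
  obtain ⟨a, s, hs, rfl⟩ := (VInt.mem_Vm_iff _ _ x).mp hx
  exact (VInt.mem_Vm_iff _ _ _).mpr ⟨a, s, fun hsP => hs (h hsP), rfl⟩

end vm

end Groth.Agent.Lib.Helper27.PDim
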