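import Groth.Agent.Lib.Helper27.PDim1

/-!
# Prüfer domains with finitely generated fraction field have finite Krull dimension (part 2)

If `B` is a Prüfer domain whose fraction field `F` is generated, as a field, by `N` elements, then
every chain of primes of `B` has length at most `N + 1`.  This uses the Abhyankar inequality for
the valuation ring at the top of the chain, over the prime field.
-/

set_option autoImplicit false

namespace Groth.Agent.Lib.Helper27.PDim

open Cardinal

universe u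

variable {B F : Type u} [CommRing B] [IsDomain B] [Field F] [Algebra B F] [IsFractionRing B F]
  (hB : ∀ (p : Ideal B) [p.IsPrime], ValuationRing (Localization.AtPrime p))

include hB in
theorem chain_bound_aux (S' : Finset F) (hS : Subfield.closure (S' : Set F) = ⊤) (r : ℕ)
    (P : Fin (r + 1) → Ideal B) [hP : ∀ j, (P j).IsPrime]
    (hPmono : ∀ j j', j ≤ j' → P j ≤ P j')
    (hPlt : ∀ i : Fin r, P i.castSucc < P i.succ) : r ≤ S'.card + 1 := by
  classical
  have hφ : Function.Injective (algebraMap B F) := IsFractionRing.injective B F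
  have hcs : ∀ i : Fin r, i.castSucc ≤ i.succ := fun i => by rw [Fin.le_def]; simp
  have hex : ∀ i : Fin r, ∃ a : B, a ∈ P i.succ ∧ a ∉ P i.castSucc := fun i =>
    SetLike.exists_of_lt (hPlt i)
  choose a haS haC using hex
  have ha0 : ∀ i, a i ≠ 0 := fun i h0 => haC i (by rw [h0]; exact (P i.castSucc).zero_mem)
  have hφa : ∀ i, algebraMap B F (a i) ≠ 0 := fun i => (map_ne_zero_iff _ hφ).mpr (ha0 i)
  let W : Fin (r + 1) → ValuationSubring F := fun j => VInt.Vm (L := F) (P j) (hB (P j))
  have hW1 : ∀ j (b : B), (W j).valuation (algebraMap B F b) ≤ 1 :=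
    fun j b => val_Vm_le_one hB (P j) b
  have hWlt : ∀ j (b : B), (W j).valuation (algebraMap B F b) < 1 ↔ b ∈ P j :=
    fun j b => val_Vm_lt_one_iff hB (P j) b
  have hWone : ∀ j j', j ≤ j' → ∀ y : F, (W j').valuation y = 1 → (W j).valuation y = 1 :=
    fun j j' h y hy => valuation_eq_one_of_le (Vm_mono hB (hPmono j j' h)) y hy
  have hval1 : ∀ (i : Fin r) (j : Fin (r + 1)), j ≤ i.castSucc →
      (W j).valuation (algebraMap B F (a i)) = 1 := by
    intro i j hj
    refine le_antisymm (hW1 j _) (not_lt.mp fun hlt => ?_)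
    exact haC i (hPmono j _ hj ((hWlt j _).mp hlt))
  have hvallt : ∀ (i : Fin r), (W i.succ).valuation (algebraMap B F (a i)) < 1 :=
    fun i => (hWlt _ _).mpr (haS i)
  -- the primes of `ℤ` below the chain
  let 𝔫 : Fin (r + 1) → Ideal ℤ := fun j => Ideal.comap (Int.castRingHom B) (P j)
  have h𝔫 : ∀ j (n : ℤ), n ∈ 𝔫 j ↔ (W j).valuation (n : F) < 1 := by
    intro j n
    have h1 : algebraMap B F ((n : ℤ) : B) = (n : F) := map_intCast _ n
    rw [← h1, hWlt]
    exact Iff.rfl
  have h𝔫mono : ∀ j j', j ≤ j' → 𝔫 j ≤ 𝔫 j' := fun j j' h => Ideal.comap_mono (hPmono j j' h)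
  have h𝔫prime : ∀ j, (𝔫 j).IsPrime := fun j => Ideal.comap_isPrime _ _
  have hJ : ∀ i i' : Fin r, i < i' → 𝔫 i.castSucc ≠ 𝔫 i.succ → 𝔫 i'.castSucc ≠ 𝔫 i'.succ →
      False := by
    intro i i' hii' h1 h2
    have hlt1 : 𝔫 i.castSucc < 𝔫 i.succ := lt_of_le_of_ne (h𝔫mono _ _ (hcs i)) h1
    have hlt2 : 𝔫 i'.castSucc < 𝔫 i'.succ := lt_of_le_of_ne (h𝔫mono _ _ (hcs i')) h2
    have hne : 𝔫 i.succ ≠ ⊥ := (bot_le.trans_lt hlt1).ne'
    have hmax : (𝔫 i.succ).IsMaximal := Ideal.IsPrime.isMaximal (h𝔫prime _) hne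
    have hle : 𝔫 i.succ ≤ 𝔫 i'.castSucc := h𝔫mono _ _ (Fin.succ_le_castSucc_iff.mpr hii')
    have hlt3 : 𝔫 i.succ < 𝔫 i'.succ := lt_of_le_of_lt hle hlt2
    exact hlt3.ne (hmax.eq_of_le (h𝔫prime _).ne_top hlt3.le)
  have hJcard : (Finset.univ.filter (fun i : Fin r => ¬ 𝔫 i.castSucc = 𝔫 i.succ)).card ≤ 1 := by
    rw [Finset.card_le_one]
    intro i hi i' hi'
    rw [Finset.mem_filter] at hi hi'
    by_contra hne
    rcases lt_or_gt_of_ne hne with h | h
    · exact hJ i i' h hi.2 hi'.2
    · exact hJ i' i h hi'.2 hi.2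
  have hsplit := Finset.card_filter_add_card_filter_not (s := (Finset.univ : Finset (Fin r)))
      (fun i : Fin r => 𝔫 i.castSucc = 𝔫 i.succ)
  rw [Finset.card_univ, Fintype.card_fin] at hsplit
  have hI : Fintype.card {i : Fin r // 𝔫 i.castSucc = 𝔫 i.succ} ≤ S'.card := by
    let vL : Valuation F (W (Fin.last r)).ValueGroup := (W (Fin.last r)).valuation
    let vK : Valuation (↥(⊥ : Subfield F)) (W (Fin.last r)).ValueGroup :=
      vL.comap (algebraMap (↥(⊥ : Subfield F)) F)
    haveI : vK.HasExtension vL := ⟨Valuation.IsEquiv.refl⟩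
    let H : AddSubgroup (Additive Fˣ) := Subgroup.toAddSubgroup
      (vL.valuationSubring.unitGroup ⊔
        (Units.map (algebraMap (↥(⊥ : Subfield F)) F).toMonoidHom).range)
    let au : Fin r → Fˣ := fun i => Units.mk0 (algebraMap B F (a i)) (hφa i)
    have hli : LinearIndependent ℤ (fun i : {i : Fin r // 𝔫 i.castSucc = 𝔫 i.succ} =>
        QuotientAddGroup.mk' H (Additive.ofMul (au i.1))) := by
      rw [Fintype.linearIndependent_iff]
      intro g hg
      by_contra hcon
      rw [not_forall] at hcon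
      let T : Finset {i : Fin r // 𝔫 i.castSucc = 𝔫 i.succ} :=
        Finset.univ.filter (fun i => g i ≠ 0)
      have hT : T.Nonempty := by
        obtain ⟨i, hi⟩ := hcon
        exact ⟨i, Finset.mem_filter.mpr ⟨Finset.mem_univ _, hi⟩⟩
      obtain ⟨i₀, hi₀T, hi₀min⟩ : ∃ i₀ ∈ T, ∀ i ∈ T, i₀ ≤ i :=
        ⟨T.min' hT, T.min'_mem hT, fun i hi => T.min'_le i hi⟩
      have hgi₀ : g i₀ ≠ 0 := (Finset.mem_filter.mp hi₀T).2
      have hmin : ∀ i, g i ≠ 0 → i₀ ≤ i :=
        fun i hi => hi₀min i (Finset.mem_filter.mpr ⟨Finset.mem_univ _, hi⟩)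
      have hx : QuotientAddGroup.mk' H (Additive.ofMul (∏ i, au i.1 ^ g i)) = 0 := by
        rw [← hg]
        simp only [ofMul_prod, ofMul_zpow, map_sum, map_zsmul]
      have hxH : (∏ i : {i : Fin r // 𝔫 i.castSucc = 𝔫 i.succ}, au i.1 ^ g i) ∈
          vL.valuationSubring.unitGroup ⊔
            (Units.map (algebraMap (↥(⊥ : Subfield F)) F).toMonoidHom).range :=
        (QuotientAddGroup.eq_zero_iff _).mp hx
      obtain ⟨u, hu, κ, ⟨c, rfl⟩, huκ⟩ := Subgroup.mem_sup.mp hxH
      have hu1 : (W (Fin.last r)).valuation (u : F) = 1 :=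
        (Valuation.mem_unitGroup_iff F vL u).mp hu
      have hprod : ∀ j : Fin (r + 1),
          (W j).valuation ((∏ i, au i.1 ^ g i : Fˣ) : F)
            = ∏ i, (W j).valuation (algebraMap B F (a i.1)) ^ g i := by
        intro j
        rw [Units.coe_prod, map_prod]
        refine Finset.prod_congr rfl fun i _ => ?_
        rw [Units.val_zpow_eq_zpow_val, map_zpow₀]
        rfl
      have hw : (W i₀.1.castSucc).valuation ((∏ i, au i.1 ^ g i : Fˣ) : F) = 1 := by
        rw [hprod]
        refine Finset.prod_eq_one fun i _ => ?_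
        by_cases hgi : g i = 0
        · rw [hgi, zpow_zero]
        · rw [hval1 i.1 _ (Fin.castSucc_le_castSucc_iff.mpr (hmin i hgi)), one_zpow]
      have hw' : (W i₀.1.succ).valuation ((∏ i, au i.1 ^ g i : Fˣ) : F)
          = (W i₀.1.succ).valuation (algebraMap B F (a i₀.1)) ^ g i₀ := by
        rw [hprod]
        refine Finset.prod_eq_single i₀ (fun i _ hne => ?_)
          (fun h => absurd (Finset.mem_univ _) h)
        by_cases hgi : g i = 0
        · rw [hgi, zpow_zero]
        · have hlt : i₀ < i := lt_of_le_of_ne (hmin i hgi) (Ne.symm hne)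
          rw [hval1 i.1 _ (Fin.succ_le_castSucc_iff.mpr hlt), one_zpow]
      have hne1 : (W i₀.1.succ).valuation (algebraMap B F (a i₀.1)) ^ g i₀ ≠ 1 := by
        intro h
        exact hgi₀ ((zpow_eq_one_iff_right₀ zero_le' (hvallt i₀.1).ne).mp h)
      have hxu : ((∏ i, au i.1 ^ g i : Fˣ) : F)
          = (u : F) * ((c : ↥(⊥ : Subfield F)) : F) := by
        rw [← huκ, Units.val_mul, Units.coe_map]
        rfl
      have hcmem : ((c : ↥(⊥ : Subfield F)) : F) ∈ (⊥ : Subfield F) := (c : ↥(⊥ : Subfield F)).2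
      have hu_w : (W i₀.1.castSucc).valuation (u : F) = 1 := hWone _ _ (Fin.le_last _) _ hu1
      have hu_w' : (W i₀.1.succ).valuation (u : F) = 1 := hWone _ _ (Fin.le_last _) _ hu1
      have hc_w : (W i₀.1.castSucc).valuation ((c : ↥(⊥ : Subfield F)) : F) = 1 := by
        have h := hw
        rw [hxu, map_mul, hu_w, one_mul] at h
        exact h
      have hc_w' : (W i₀.1.succ).valuation ((c : ↥(⊥ : Subfield F)) : F) ≠ 1 := by
        intro h
        apply hne1
        rw [← hw', hxu, map_mul, hu_w', one_mul, h]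
      have hiff := val_eq_one_iff_of_forall_int (W i₀.1.castSucc).valuation
        (W i₀.1.succ).valuation
        (fun n => (h𝔫 _ n).symm.trans
          ((by rw [i₀.2] : n ∈ 𝔫 i₀.1.castSucc ↔ n ∈ 𝔫 i₀.1.succ).trans (h𝔫 _ n)))
        _ hcmem
      exact hc_w' (hiff.mp hc_w)
    have h1 := hli.cardinal_lift_le_rank
    have h2 := (le_self_add.trans (Abh.abhyankar vK vL)).trans
      (trdeg_le_of_closure (S' : Set F) hS)
    have h3 : Cardinal.mk (↥(S' : Set F)) = (S'.card : Cardinal) := Cardinal.mk_coe_finset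
    rw [h3] at h2
    rw [Cardinal.mk_fintype, Cardinal.lift_natCast, Cardinal.lift_uzero] at h1
    exact_mod_cast h1.trans h2
  rw [Fintype.card_subtype] at hI
  omega

include hB in
theorem chain_bound (S' : Finset F) (hS : Subfield.closure (S' : Set F) = ⊤)
    (p : LTSeries (PrimeSpectrum B)) : p.length ≤ S'.card + 1 := by
  haveI : ∀ j, ((p j).asIdeal).IsPrime := fun j => (p j).isPrime
  exact chain_bound_aux hB S' hS p.length (fun j => (p j).asIdeal)
    (fun j j' h => (PrimeSpectrum.asIdeal_le_asIdeal _ _).mpr (p.monotone h))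
    (fun i => (PrimeSpectrum.asIdeal_lt_asIdeal _ _).mpr
      (p.strictMono (by rw [Fin.lt_def]; simp)))

include hB in
/-- A Prüfer domain whose fraction field is finitely generated as a field has finite Krull
dimension. -/
theorem krullDim_lt_top (S' : Finset F) (hS : Subfield.closure (S' : Set F) = ⊤) :
    ringKrullDim B < ⊤ := by
  have h1 : ringKrullDim B ≤ ((S'.card + 1 : ℕ) : WithBot ℕ∞) := by
    unfold ringKrullDim Order.krullDim
    exact iSup_le fun p => by exact_mod_cast chain_bound hB S' hS p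
  exact lt_of_le_of_lt h1 (WithBot.coe_lt_coe.mpr (ENat.coe_lt_top _))

end Groth.Agent.Lib.Helper27.PDim
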