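import Groth.Agent.Lib.Helper27.PDim2

/-!
# Semilocal Prüfer domains are directed unions of finite-dimensional semilocal Prüfer subrings

For a semilocal Prüfer domain `R` with fraction field `L` and a finite subset `s ⊆ R`, the subring
`R' = R ∩ K₀`, with `K₀` the subfield of `L` generated by `s`, is a semilocal Prüfer domain of
finite Krull dimension containing `s`.
-/

set_option autoImplicit false

namespace Groth.Agent.Lib.Helper27.PDim

universe u

/-- The intersection of a finite intersection of valuation rings with a finitely generated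
subfield has finite Krull dimension. -/
theorem inter_krullDim_lt_top {L : Type u} [Field L] {ι : Type*} [Finite ι] [Nonempty ι]
    (V : ι → ValuationSubring L) (A : Subring L) (hA : ∀ x, x ∈ A ↔ ∀ i, x ∈ V i)
    (K₀ : Subfield L) (S' : Finset ↥K₀) (hS : Subfield.closure (S' : Set ↥K₀) = ⊤) :
    ringKrullDim ↥(A ⊓ K₀.toSubring) < ⊤ := by
  classical
  let ι' : ↥(A ⊓ K₀.toSubring) →+* ↥K₀ :=
    (A ⊓ K₀.toSubring).subtype.codRestrict K₀ (fun x => (Subring.mem_inf.mp x.2).2)
  letI : Algebra ↥(A ⊓ K₀.toSubring) ↥K₀ := ι'.toAlgebra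
  have hinj : Function.Injective (algebraMap ↥(A ⊓ K₀.toSubring) ↥K₀) :=
    fun x y h => by
      have h' : ((algebraMap ↥(A ⊓ K₀.toSubring) ↥K₀ x : ↥K₀) : L)
          = ((algebraMap ↥(A ⊓ K₀.toSubring) ↥K₀ y : ↥K₀) : L) := congrArg Subtype.val h
      exact Subtype.ext h'
  haveI : FaithfulSMul ↥(A ⊓ K₀.toSubring) ↥K₀ :=
    (faithfulSMul_iff_algebraMap_injective _ _).mpr hinj
  haveI : IsFractionRing ↥(A ⊓ K₀.toSubring) ↥K₀ := IsFractionRing.of_field _ _ (fun z => by
    obtain ⟨a, b, ha, hb, hb0, hz⟩ := VInt.frac V A hA K₀ z.1 z.2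
    exact ⟨⟨a, ha⟩, ⟨b, hb⟩, Subtype.ext hz⟩)
  exact krullDim_lt_top (fun p _ => VInt.valRing V A hA K₀ p) S' hS

/-- The three properties pass to surjective images that are domains. -/
theorem transport {R' B : Type u} [CommRing R'] [IsDomain R'] [CommRing B] [IsDomain B]
    (f : B →+* R') (hf : Function.Surjective f)
    (hB : ∀ (p : Ideal B) [p.IsPrime], ValuationRing (Localization.AtPrime p))
    (hBfin : Finite (MaximalSpectrum B)) (hBdim : ringKrullDim B < ⊤) :
    (∀ (p : Ideal R') [p.IsPrime], ValuationRing (Localization.AtPrime p)) ∧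
      Finite (MaximalSpectrum R') ∧ ringKrullDim R' < ⊤ := by
  refine ⟨fun p _ => ?_, ?_, ?_⟩
  · haveI := hB (p.comap f)
    exact Function.Surjective.valuationRing (Localization.localRingHom (p.comap f) p f rfl)
      (RingHom.surjective_localRingHom_of_surjective f hf p)
  · haveI := hBfin
    refine Finite.of_injective (fun m : MaximalSpectrum R' =>
      (⟨Ideal.comap f m.asIdeal,
        Ideal.comap_isMaximal_of_surjective f hf (H := m.isMaximal)⟩ : MaximalSpectrum B)) ?_
    intro m m' h
    have h1 : Ideal.comap f m.asIdeal = Ideal.comap f m'.asIdeal :=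
      congrArg MaximalSpectrum.asIdeal h
    exact MaximalSpectrum.ext (Ideal.comap_injective_of_surjective f hf h1)
  · exact lt_of_le_of_lt (ringKrullDim_le_of_surjective f hf) hBdim

theorem main_aux {R L : Type u} [CommRing R] [IsDomain R] [Field L] [Algebra R L]
    [IsFractionRing R L] {ι : Type*} [Finite ι] [Nonempty ι] (V : ι → ValuationSubring L)
    (hA : ∀ x, x ∈ (algebraMap R L).range ↔ ∀ i, x ∈ V i) (s : Finset R) :
    ∃ R' : Subring R, (↑s : Set R) ⊆ R' ∧
      (∀ (p : Ideal R') [p.IsPrime], ValuationRing (Localization.AtPrime p)) ∧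
      Finite (MaximalSpectrum R') ∧ ringKrullDim R' < ⊤ := by
  classical
  have hφ : Function.Injective (algebraMap R L) := IsFractionRing.injective R L
  obtain ⟨K₀, hK₀⟩ : ∃ K₀ : Subfield L,
      K₀ = Subfield.closure (↑(s.image (algebraMap R L)) : Set L) := ⟨_, rfl⟩
  obtain ⟨S', hS'⟩ : ∃ S' : Finset ↥K₀, Subfield.closure (S' : Set ↥K₀) = ⊤ := by
    subst hK₀
    exact exists_finset_closure_eq_top _
  have hBdim : ringKrullDim ↥((algebraMap R L).range ⊓ K₀.toSubring) < ⊤ :=
    inter_krullDim_lt_top V _ hA K₀ S' hS'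
  have hBval : ∀ (p : Ideal ↥((algebraMap R L).range ⊓ K₀.toSubring)) [p.IsPrime],
      ValuationRing (Localization.AtPrime p) :=
    fun p _ => VInt.valRing V _ hA K₀ p
  have hBfin : Finite (MaximalSpectrum ↥((algebraMap R L).range ⊓ K₀.toSubring)) :=
    VInt.finiteMax V _ hA K₀
  let e₀ : ↥(K₀.toSubring.comap (algebraMap R L)) →+*
      ↥((algebraMap R L).range ⊓ K₀.toSubring) :=
    ((algebraMap R L).comp (K₀.toSubring.comap (algebraMap R L)).subtype).codRestrict _
      (fun x => Subring.mem_inf.mpr ⟨⟨x.1, rfl⟩, x.2⟩)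
  have he₀ : Function.Bijective e₀ := by
    constructor
    · intro x y hxy
      apply Subtype.ext
      apply hφ
      have h' : ((e₀ x : ↥((algebraMap R L).range ⊓ K₀.toSubring)) : L) = (e₀ y : L) :=
        congrArg Subtype.val hxy
      exact h'
    · rintro ⟨y, hy⟩
      obtain ⟨⟨r, rfl⟩, hyK⟩ := Subring.mem_inf.mp hy
      exact ⟨⟨r, hyK⟩, Subtype.ext rfl⟩
  have key := transport (RingEquiv.ofBijective e₀ he₀).symm.toRingHom
    (RingEquiv.ofBijective e₀ he₀).symm.surjective hBval hBfin hBdim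
  refine ⟨K₀.toSubring.comap (algebraMap R L), ?_, key⟩
  intro r hr
  show algebraMap R L r ∈ K₀
  rw [hK₀]
  exact Subfield.subset_closure (by rw [Finset.coe_image]; exact ⟨r, hr, rfl⟩)

/-- A semilocal Prüfer domain is the directed union of its semilocal Prüfer subrings of finite
Krull dimension. -/
theorem main (R : Type u) [CommRing R] [IsDomain R]
    (hR : ∀ (p : Ideal R) [p.IsPrime], ValuationRing (Localization.AtPrime p))
    (hfin : Finite (MaximalSpectrum R)) (s : Finset R) :
    ∃ R' : Subring R, (↑s : Set R) ⊆ R' ∧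
      (∀ (p : Ideal R') [p.IsPrime], ValuationRing (Localization.AtPrime p)) ∧
      Finite (MaximalSpectrum R') ∧ ringKrullDim R' < ⊤ := by
  haveI := hfin
  haveI : Nonempty (MaximalSpectrum R) := by
    obtain ⟨M, hM⟩ := Ideal.exists_maximal R
    exact ⟨⟨M, hM⟩⟩
  exact main_aux (L := FractionRing R) (VInt.VM (L := FractionRing R) hR)
    (VInt.mem_range_iff hR) s

end Groth.Agent.Lib.Helper27.PDim
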