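import Groth.Agent.Lib.Helper27.PDim3
import Groth.Agent.Lib.Helper22.PruferFinite

/-!
# Valuation rings are directed unions of valuation subrings of finite height
-/

set_option autoImplicit false

namespace Groth.Agent.Lib.Helper27.PDim

universe u

/-- For a finite intersection `R` of valuation rings of `L = Frac R` and a finitely generated
subfield `K₀` of `L`, the subring `R ∩ K₀` of `R` is a semilocal Prüfer domain of finite Krull
dimension. -/
theorem comap_props {R L : Type u} [CommRing R] [IsDomain R] [Field L] [Algebra R L]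
    [IsFractionRing R L] {ι : Type*} [Finite ι] [Nonempty ι] (V : ι → ValuationSubring L)
    (hA : ∀ x, x ∈ (algebraMap R L).range ↔ ∀ i, x ∈ V i) (K₀ : Subfield L)
    (S' : Finset ↥K₀) (hS' : Subfield.closure (S' : Set ↥K₀) = ⊤) :
    (∀ (p : Ideal ↥(K₀.toSubring.comap (algebraMap R L))) [p.IsPrime],
        ValuationRing (Localization.AtPrime p)) ∧
      Finite (MaximalSpectrum ↥(K₀.toSubring.comap (algebraMap R L))) ∧
      ringKrullDim ↥(K₀.toSubring.comap (algebraMap R L)) < ⊤ := by
  classical
  have hφ : Function.Injective (algebraMap R L) := IsFractionRing.injective R L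
  have hBdim : ringKrullDim ↥((algebraMap R L).range ⊓ K₀.toSubring) < ⊤ :=
    inter_krullDim_lt_top V _ hA K₀ S' hS'
  have hBval : ∀ (p : Ideal ↥((algebraMap R L).range ⊓ K₀.toSubring)) [p.IsPrime],
      ValuationRing (Localization.AtPrime p) :=
    fun p _ => VInt.valRing V _ hA K₀ p
  have hBfin : Finite (MaximalSpectrum ↥((algebraMap R L).range ⊓ K₀.toSubring)) :=
    VInt.finiteMax V _ hA K₀
  let e₀ : ↥(K₀.toSubring.comap (algebraMap R L)) →+*
      ↥((algebraMap R L).range ⊓ K₀.toSubring) :=
    ((algebraMap R L).comp (K₀.toSubring.comap (algebraMap R L)).subtype).codRestrict _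
      (fun x => Subring.mem_inf.mpr ⟨⟨x.1, rfl⟩, x.2⟩)
  have he₀ : Function.Bijective e₀ := by
    constructor
    · intro x y hxy
      apply Subtype.ext
      apply hφ
      have h' : ((e₀ x : ↥((algebraMap R L).range ⊓ K₀.toSubring)) : L) = (e₀ y : L) :=
        congrArg Subtype.val hxy
      exact h'
    · rintro ⟨y, hy⟩
      obtain ⟨⟨r, rfl⟩, hyK⟩ := Subring.mem_inf.mp hy
      exact ⟨⟨r, hyK⟩, Subtype.ext rfl⟩
  exact transport (RingEquiv.ofBijective e₀ he₀).symm.toRingHom
    (RingEquiv.ofBijective e₀ he₀).symm.surjective hBval hBfin hBdim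

theorem valuationRing_comap {R L : Type*} [CommRing R] [IsDomain R] [ValuationRing R] [Field L]
    [Algebra R L] [IsFractionRing R L] (K₀ : Subfield L) :
    ValuationRing ↥(K₀.toSubring.comap (algebraMap R L)) := by
  have hφ : Function.Injective (algebraMap R L) := IsFractionRing.injective R L
  refine @ValuationRing.mk _ _ _ ⟨fun a b => ?_⟩
  have key : ∀ a b : ↥(K₀.toSubring.comap (algebraMap R L)), ∀ c : R, (a : R) * c = (b : R) →
      ∃ c' : ↥(K₀.toSubring.comap (algebraMap R L)), a * c' = b := by
    intro a b c hc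
    by_cases ha : (a : R) = 0
    · refine ⟨0, Subtype.ext ?_⟩
      rw [mul_zero, ← hc, ha, zero_mul]
      rfl
    · have hc' : c ∈ K₀.toSubring.comap (algebraMap R L) := by
        show algebraMap R L c ∈ K₀
        have h1 : algebraMap R L c = algebraMap R L b / algebraMap R L a := by
          rw [eq_div_iff ((map_ne_zero_iff _ hφ).mpr ha), ← map_mul, mul_comm, hc]
        rw [h1]
        exact K₀.div_mem b.2 a.2
      exact ⟨⟨c, hc'⟩, Subtype.ext hc⟩
  obtain ⟨c, hc⟩ := ValuationRing.cond (a : R) (b : R)
  rcases hc with hc | hc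
  · obtain ⟨c', hc'⟩ := key a b c hc
    exact ⟨c', Or.inl hc'⟩
  · obtain ⟨c', hc'⟩ := key b a c hc
    exact ⟨c', Or.inr hc'⟩

/-- The image of a valuation ring in its fraction field, as a valuation subring. -/
noncomputable def rangeVS (R L : Type*) [CommRing R] [IsDomain R] [ValuationRing R] [Field L]
    [Algebra R L] [IsFractionRing R L] : ValuationSubring L :=
  { (algebraMap R L).range with
    mem_or_inv_mem' := fun x =>
      (ValuationRing.isInteger_or_isInteger R x).imp (fun ⟨a, ha⟩ => ⟨a, ha⟩)
        (fun ⟨a, ha⟩ => ⟨a, ha⟩) }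

theorem mem_rangeVS {R L : Type*} [CommRing R] [IsDomain R] [ValuationRing R] [Field L]
    [Algebra R L] [IsFractionRing R L] (x : L) :
    x ∈ rangeVS R L ↔ x ∈ (algebraMap R L).range :=
  Iff.rfl

/-- `R ∩ k(s)`: the elements of `R` lying in the subfield of `Frac R` generated by `s`. -/
noncomputable def subringOf (R : Type u) [CommRing R] [IsDomain R] (s : Finset R) : Subring R :=
  (Subfield.closure ((algebraMap R (FractionRing R)) '' (s : Set R))).toSubring.comap
    (algebraMap R (FractionRing R))

theorem mem_subringOf (R : Type u) [CommRing R] [IsDomain R] (s : Finset R) (r : R) :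
    r ∈ subringOf R s ↔ algebraMap R (FractionRing R) r ∈
      Subfield.closure ((algebraMap R (FractionRing R)) '' (s : Set R)) :=
  Iff.rfl

theorem subringOf_props (R : Type u) [CommRing R] [IsDomain R] [ValuationRing R] (s : Finset R) :
    ValuationRing (subringOf R s) ∧ Finite (PrimeSpectrum (subringOf R s)) := by
  classical
  have hA : ∀ x, x ∈ (algebraMap R (FractionRing R)).range ↔
      ∀ _ : Unit, x ∈ rangeVS R (FractionRing R) :=
    fun x => ⟨fun h _ => h, fun h => h ()⟩
  refine ⟨valuationRing_comap _, ?_⟩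
  obtain ⟨K₀, hK₀⟩ : ∃ K₀ : Subfield (FractionRing R),
      K₀ = Subfield.closure ((algebraMap R (FractionRing R)) '' (s : Set R)) := ⟨_, rfl⟩
  obtain ⟨S', hS'⟩ : ∃ S' : Finset ↥K₀, Subfield.closure (S' : Set ↥K₀) = ⊤ := by
    subst hK₀
    rw [← Finset.coe_image]
    exact exists_finset_closure_eq_top _
  obtain ⟨h1, h2, h3⟩ := comap_props (fun _ : Unit => rangeVS R (FractionRing R)) hA K₀ S' hS'
  have h4 := Groth.Agent.Lib.Helper22.finite_primeSpectrum_of_semilocal_prufer _ h1 h2 h3
  rw [hK₀] at h4
  exact h4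

/-- Every valuation ring is a directed union of valuation subrings with finite spectrum. -/
theorem valuationRing_directed_union (R : Type u) [CommRing R] [IsDomain R] [ValuationRing R] :
    ∃ (ι : Type u) (_ : Preorder ι) (_ : IsDirected ι (fun a b ↦ a ≤ b)) (_ : Nonempty ι)
      (F : ι → Subring R), Monotone F ∧ (⨆ i, F i) = ⊤ ∧
        ∀ i, ValuationRing (F i) ∧ Finite (PrimeSpectrum (F i)) := by
  classical
  refine ⟨Finset R, (inferInstance : Preorder (Finset R)),
    ⟨fun a b => ⟨a ∪ b, Finset.subset_union_left, Finset.subset_union_right⟩⟩, ⟨∅⟩,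
    subringOf R, ?_, ?_, fun s => subringOf_props R s⟩
  · intro s t hst r hr
    rw [mem_subringOf] at hr ⊢
    exact Subfield.closure_mono (Set.image_mono (Finset.coe_subset.mpr hst)) hr
  · rw [eq_top_iff]
    intro r _
    refine (le_iSup (subringOf R) ({r} : Finset R)) ?_
    rw [mem_subringOf]
    exact Subfield.subset_closure ⟨r, by simp, rfl⟩

end Groth.Agent.Lib.Helper27.PDim
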