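import Mathlib
import Groth.Agent.Lib.Helper27.EN1
import Groth.Agent.Lib.Helper27.InvU6

/-! Subalgebras `A` of `k[[t]]` over which `k[[t]]` is finite (helper27): every `A`-submodule of
`k[[t]]` is `t`-adically closed (Eakin–Nagata + Krull's intersection theorem). -/

set_option autoImplicit false

namespace Groth.Agent.Lib.Helper27.PSClosed

open PowerSeries

universe u

variable {k : Type u} [Field k]

/-- `A` contains an element of positive finite order. -/
theorem exists_order_pos (A : Subalgebra k (PowerSeries k)) [Module.Finite A (PowerSeries k)] :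
    ∃ s ∈ A, ∃ e : ℕ, 0 < e ∧ PowerSeries.order s = e := by
  classical
  by_contra hcon
  push Not at hcon
  haveI : Algebra.IsIntegral A (PowerSeries k) := Algebra.IsIntegral.of_finite A (PowerSeries k)
  obtain ⟨p, hmonic, hp⟩ := Algebra.IsIntegral.isIntegral (R := A) (X : PowerSeries k)
  have hp0 : p ≠ 0 := hmonic.ne_zero
  set j := p.natTrailingDegree with hj
  have hcj : p.coeff j ≠ 0 := by
    have := Polynomial.trailingCoeff_nonzero_iff_nonzero.mpr hp0
    exact this
  -- the coefficient `a_j` has order zero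
  have hcoeff0 : coeff 0 ((p.coeff j : A) : PowerSeries k) ≠ 0 := by
    intro h0
    have hne : ((p.coeff j : A) : PowerSeries k) ≠ 0 := fun h => hcj (Subtype.ext h)
    obtain ⟨e, he⟩ : ∃ e : ℕ, PowerSeries.order ((p.coeff j : A) : PowerSeries k) = e := by
      have := (PowerSeries.order_finite_iff_ne_zero).mpr hne
      exact ⟨_, (ENat.coe_toNat (ne_of_lt this)).symm⟩
    rcases Nat.eq_zero_or_pos e with rfl | hpos
    · have := PowerSeries.coeff_order hne
      rw [he] at this
      exact this h0
    · exact hcon _ (p.coeff j).2 e hpos he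
  rw [Polynomial.eval₂_eq_sum_range] at hp
  have h1 := congrArg (coeff j) hp
  rw [map_sum, map_zero, Finset.sum_eq_single j] at h1
  · rw [PowerSeries.coeff_mul_X_pow', if_pos le_rfl, Nat.sub_self] at h1
    exact hcoeff0 h1
  · intro i _ hij
    rw [PowerSeries.coeff_mul_X_pow']
    split_ifs with hle
    · have hlt : i < j := lt_of_le_of_ne hle hij
      rw [Polynomial.coeff_eq_zero_of_lt_natTrailingDegree hlt]
      simp
    · rfl
  · intro hnot
    exfalso
    apply hnot
    rw [Finset.mem_range]
    exact Nat.lt_succ_of_le (Polynomial.natTrailingDegree_le_natDegree p)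

/-- `A`-submodules of `k[[t]]` are `t`-adically closed. -/
theorem mem_of_forall_approx (A : Subalgebra k (PowerSeries k)) [Module.Finite A (PowerSeries k)]
    (N : Submodule A (PowerSeries k)) (f : PowerSeries k)
    (hf : ∀ n : ℕ, ∃ g ∈ N, (n : ℕ∞) ≤ PowerSeries.order (f - g)) : f ∈ N := by
  have hinj : Function.Injective (algebraMap A (PowerSeries k)) := Subtype.val_injective
  haveI : IsNoetherianRing A := EN.isNoetherianRing_of_finite_of_injective A (PowerSeries k) hinj
  haveI : Algebra.IsIntegral A (PowerSeries k) := Algebra.IsIntegral.of_finite A (PowerSeries k)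
  haveI : IsLocalRing A := InvU.isLocalRing_of_isIntegral A (PowerSeries k) hinj
  obtain ⟨s, hs, e, he, hse⟩ := exists_order_pos A
  have hs0 : s ≠ 0 := by
    intro h0
    rw [h0, order_zero] at hse
    exact ENat.top_ne_coe _ hse
  set I : Ideal A := Ideal.span {(⟨s, hs⟩ : A)} with hIdef
  have hI : I ≠ ⊤ := by
    rw [Ne, Ideal.span_singleton_eq_top]
    intro hu
    have hu' : IsUnit s := hu.map (algebraMap A (PowerSeries k))
    have h1 : coeff 0 s = 0 := coeff_of_lt_order 0 (by rw [hse]; exact_mod_cast he)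
    rw [PowerSeries.isUnit_iff_constantCoeff, ← coeff_zero_eq_constantCoeff_apply, h1] at hu'
    exact not_isUnit_zero hu'
  have hK := Ideal.iInf_pow_smul_eq_bot_of_isLocalRing (R := A) (M := PowerSeries k ⧸ N) I hI
  -- `s = X ^ e * w` with `w` a unit
  obtain ⟨w, hw⟩ : (X : PowerSeries k) ^ e ∣ s := by
    have := X_pow_order_dvd (φ := s)
    rwa [hse, ENat.toNat_coe] at this
  have hwu : IsUnit w := by
    rw [PowerSeries.isUnit_iff_constantCoeff, ← coeff_zero_eq_constantCoeff_apply]
    have h1 := PowerSeries.coeff_order hs0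
    rw [hse, ENat.toNat_coe, hw, PowerSeries.coeff_X_pow_mul', if_pos le_rfl, Nat.sub_self] at h1
    exact isUnit_iff_ne_zero.mpr h1
  obtain ⟨w', hw'⟩ := hwu.exists_right_inv
  have hXe : (X : PowerSeries k) ^ e = s * w' := by rw [hw, mul_assoc, hw', mul_one]
  have hmem : N.mkQ f ∈ (⨅ i : ℕ, I ^ i • ⊤ : Submodule A (PowerSeries k ⧸ N)) := by
    rw [Submodule.mem_iInf]
    intro q
    obtain ⟨g, hg, hgo⟩ := hf (e * q)
    obtain ⟨h, hh⟩ : (X : PowerSeries k) ^ (e * q) ∣ f - g :=
      X_pow_dvd_iff.mpr (fun m hm => coeff_of_lt_order m (lt_of_lt_of_le (by exact_mod_cast hm) hgo))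
    have h2 : f - g = s ^ q * (w' ^ q * h) := by
      rw [hh, pow_mul, hXe, mul_pow]; ring
    have h1 : N.mkQ f = ((⟨s, hs⟩ : A) ^ q) • N.mkQ (w' ^ q * h) := by
      rw [← map_smul, ← sub_eq_zero, ← map_sub, Submodule.mkQ_apply,
        Submodule.Quotient.mk_eq_zero]
      have h3 : ((⟨s, hs⟩ : A) ^ q) • (w' ^ q * h) = s ^ q * (w' ^ q * h) := rfl
      rw [h3, ← h2]
      simpa using hg
    rw [h1]
    exact Submodule.smul_mem_smul (Ideal.pow_mem_pow (Ideal.mem_span_singleton_self _) q)
      Submodule.mem_top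
  rw [hK] at hmem
  exact (Submodule.Quotient.mk_eq_zero N).mp ((Submodule.mem_bot A).mp hmem)

/-- if every `n ≥ c` is the order of an element of `N`, then `N ⊇ t ^ c k[[t]]`. -/
theorem mem_of_le_order (A : Subalgebra k (PowerSeries k)) [Module.Finite A (PowerSeries k)]
    (N : Submodule A (PowerSeries k)) (c : ℕ)
    (hc : ∀ n : ℕ, c ≤ n → ∃ a ∈ N, PowerSeries.order a = n)
    (h : PowerSeries k) (hh : (c : ℕ∞) ≤ PowerSeries.order h) : h ∈ N := by
  apply mem_of_forall_approx A N
  intro n
  induction n with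
  | zero => exact ⟨0, N.zero_mem, by simp⟩
  | succ n ih =>
    obtain ⟨g, hg, hgn⟩ := ih
    rcases Nat.lt_or_ge n c with hlt | hge
    · refine ⟨0, N.zero_mem, ?_⟩
      rw [sub_zero]
      exact le_trans (by exact_mod_cast hlt) hh
    · obtain ⟨a, ha, han⟩ := hc n hge
      have ha0 : a ≠ 0 := by
        intro h0; rw [h0, order_zero] at han; exact ENat.top_ne_coe _ han
      have hcoeff : coeff n a ≠ 0 := by
        have := coeff_order ha0
        rwa [han, ENat.toNat_coe] at this
      refine ⟨g + (algebraMap k A (coeff n (h - g) / coeff n a)) • a,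
        N.add_mem hg (N.smul_mem _ ha), ?_⟩
      apply nat_le_order
      intro i hi
      have hsm : (algebraMap k A (coeff n (h - g) / coeff n a)) • a =
          (coeff n (h - g) / coeff n a) • a := by
        rw [algebraMap_smul]
      have hsub : h - (g + (algebraMap k A (coeff n (h - g) / coeff n a)) • a) =
          (h - g) - (coeff n (h - g) / coeff n a) • a := by rw [hsm]; ring
      rw [hsub, map_sub, PowerSeries.coeff_smul]
      rcases Nat.lt_succ_iff_lt_or_eq.mp hi with hlt | heq
      · have h1 : coeff i (h - g) = 0 :=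
          coeff_of_lt_order i (lt_of_lt_of_le (by exact_mod_cast hlt) hgn)
        have h2 : coeff i a = 0 := coeff_of_lt_order i (by rw [han]; exact_mod_cast hlt)
        rw [h1, h2, smul_zero, sub_zero]
      · rw [heq, smul_eq_mul, div_mul_cancel₀ _ hcoeff, sub_self]

end Groth.Agent.Lib.Helper27.PSClosed
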