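import Mathlib

/-!
# Adjoining a `p`-th root of a unit whose residue class is not a `p`-th power (DVR case)

`N` a DVR with uniformizer `π`, `y : N` with `z ^ p - y ∉ (π)` for all `z`.  Then
`T = N[X]/(X^p - y)` is local with maximal ideal `(π)`, every nonzero element of `T` is `π ^ n`
times a unit, and `T` is free of rank `p` over `N`.
-/

namespace Groth.Agent.Lib.Helper27.PfA

open Polynomial IsLocalRing

variable {N : Type*} [CommRing N] [IsDomain N] [IsDiscreteValuationRing N]

/-- the polynomial `X ^ p - y`. -/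
noncomputable abbrev gp (p : ℕ) (y : N) : N[X] := X ^ p - C y

theorem monic_gp {p : ℕ} (hp : p.Prime) (y : N) : (gp p y).Monic :=
  monic_X_pow_sub_C y hp.ne_zero

theorem isMaximal_span {π : N} (hπ : Irreducible π) {p : ℕ} (hp : p.Prime) (y : N)
    (hy : ∀ z : N, ¬ π ∣ z ^ p - y) :
    (Ideal.span {AdjoinRoot.of (gp p y) π}).IsMaximal := by
  set I : Ideal N := Ideal.span {π} with hI
  have hImax : I.IsMaximal := by
    rw [hI, ← hπ.maximalIdeal_eq]; infer_instance
  letI : Field (N ⧸ I) := Ideal.Quotient.field I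
  have hirr : Irreducible ((gp p y).map (Ideal.Quotient.mk I)) := by
    have h1 : (gp p y).map (Ideal.Quotient.mk I) = X ^ p - C (Ideal.Quotient.mk I y) := by
      simp [gp]
    rw [h1]
    apply X_pow_sub_C_irreducible_of_prime hp
    intro b hb
    obtain ⟨z, rfl⟩ := Ideal.Quotient.mk_surjective b
    rw [← map_pow, Ideal.Quotient.eq, hI, Ideal.mem_span_singleton] at hb
    exact hy z hb
  have hmax : (Ideal.span {(gp p y).map (Ideal.Quotient.mk I)}).IsMaximal :=
    PrincipalIdealRing.isMaximal_of_irreducible hirr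
  have e := AdjoinRoot.quotAdjoinRootEquivQuotPolynomialQuot I (gp p y)
  have h2 : (I.map (AdjoinRoot.of (gp p y))).IsMaximal := by
    rw [Ideal.Quotient.maximal_ideal_iff_isField_quotient]
    exact MulEquiv.isField ((Ideal.Quotient.maximal_ideal_iff_isField_quotient _).1 hmax)
      e.toMulEquiv
  rwa [hI, Ideal.map_span, Set.image_singleton] at h2

theorem finite_adjoinRoot {p : ℕ} (hp : p.Prime) (y : N) :
    Module.Finite N (AdjoinRoot (gp p y)) :=
  (AdjoinRoot.powerBasis' (monic_gp hp y)).finite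

theorem isMaximal_eq {π : N} (hπ : Irreducible π) {p : ℕ} (hp : p.Prime) (y : N)
    (hy : ∀ z : N, ¬ π ∣ z ^ p - y) (M : Ideal (AdjoinRoot (gp p y))) (hM : M.IsMaximal) :
    M = Ideal.span {AdjoinRoot.of (gp p y) π} := by
  have hmax := isMaximal_span hπ hp y hy
  haveI : Module.Finite N (AdjoinRoot (gp p y)) := finite_adjoinRoot hp y
  haveI : Algebra.IsIntegral N (AdjoinRoot (gp p y)) := Algebra.IsIntegral.of_finite N _
  have h1 : (M.comap (algebraMap N (AdjoinRoot (gp p y)))).IsMaximal :=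
    Ideal.isMaximal_comap_of_isIntegral_of_isMaximal M
  have h2 : M.comap (algebraMap N (AdjoinRoot (gp p y))) = maximalIdeal N :=
    IsLocalRing.eq_maximalIdeal h1
  have h3 : π ∈ M.comap (algebraMap N (AdjoinRoot (gp p y))) := by
    rw [h2, hπ.maximalIdeal_eq]
    exact Ideal.mem_span_singleton_self π
  have h4 : Ideal.span {AdjoinRoot.of (gp p y) π} ≤ M := by
    rw [Ideal.span_le, Set.singleton_subset_iff]
    exact h3
  exact (hmax.eq_of_le hM.ne_top h4).symm

theorem isLocalRing_adjoinRoot {π : N} (hπ : Irreducible π) {p : ℕ} (hp : p.Prime) (y : N)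
    (hy : ∀ z : N, ¬ π ∣ z ^ p - y) : IsLocalRing (AdjoinRoot (gp p y)) :=
  IsLocalRing.of_unique_max_ideal
    ⟨_, isMaximal_span hπ hp y hy, fun M hM => isMaximal_eq hπ hp y hy M hM⟩

/-- every nonzero element of `T` is `π ^ n` times a unit. -/
theorem exists_pow_mul_unit {π : N} (hπ : Irreducible π) {p : ℕ} (hp : p.Prime) (y : N)
    (hy : ∀ z : N, ¬ π ∣ z ^ p - y) (t : AdjoinRoot (gp p y)) (ht : t ≠ 0) :
    ∃ (n : ℕ) (u : (AdjoinRoot (gp p y))ˣ),
      t = AdjoinRoot.of (gp p y) π ^ n * (u : AdjoinRoot (gp p y)) := by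
  haveI hloc := isLocalRing_adjoinRoot hπ hp y hy
  have hmaxeq : maximalIdeal (AdjoinRoot (gp p y)) = Ideal.span {AdjoinRoot.of (gp p y) π} :=
    isMaximal_eq hπ hp y hy _ (maximalIdeal.isMaximal _)
  haveI : Module.Finite N (AdjoinRoot (gp p y)) := finite_adjoinRoot hp y
  haveI : IsNoetherianRing (AdjoinRoot (gp p y)) :=
    isNoetherianRing_of_surjective N[X] _ (AdjoinRoot.mk (gp p y)) AdjoinRoot.mk_surjective
  have hinf : ⨅ n, maximalIdeal (AdjoinRoot (gp p y)) ^ n = ⊥ :=
    Ideal.iInf_pow_eq_bot_of_isLocalRing _ (maximalIdeal.isMaximal _).ne_top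
  have h1 : ∃ n, t ∉ maximalIdeal (AdjoinRoot (gp p y)) ^ n := by
    by_contra hcon
    push Not at hcon
    apply ht
    have : t ∈ ⨅ n, maximalIdeal (AdjoinRoot (gp p y)) ^ n := by
      rw [Ideal.mem_iInf]; exact hcon
    rwa [hinf] at this
  classical
  have hn : t ∉ maximalIdeal (AdjoinRoot (gp p y)) ^ (Nat.find h1) := Nat.find_spec h1
  have hn0 : Nat.find h1 ≠ 0 := by
    intro h0
    rw [h0, pow_zero, Ideal.one_eq_top] at hn
    exact hn (Submodule.mem_top)
  obtain ⟨m, hm⟩ := Nat.exists_eq_succ_of_ne_zero hn0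
  have hm1 : t ∈ maximalIdeal (AdjoinRoot (gp p y)) ^ m := by
    by_contra hcon
    have := Nat.find_min' h1 hcon
    omega
  rw [hmaxeq, Ideal.span_singleton_pow, Ideal.mem_span_singleton] at hm1
  obtain ⟨u, hu⟩ := hm1
  have hunit : IsUnit u := by
    by_contra hnu
    have h2 : u ∈ maximalIdeal (AdjoinRoot (gp p y)) := hnu
    rw [hmaxeq, Ideal.mem_span_singleton] at h2
    obtain ⟨v, hv⟩ := h2
    apply hn
    rw [hm, hmaxeq, Ideal.span_singleton_pow, Ideal.mem_span_singleton]
    exact ⟨v, by rw [hu, hv, pow_succ]; ring⟩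
  exact ⟨m, hunit.unit, by rw [hu]; rfl⟩

theorem not_isUnit_of_pi {π : N} (hπ : Irreducible π) {p : ℕ} (hp : p.Prime) (y : N)
    (hy : ∀ z : N, ¬ π ∣ z ^ p - y) :
    ¬ IsUnit (AdjoinRoot.of (gp p y) π) := by
  intro hu
  have hmax := isMaximal_span hπ hp y hy
  exact hmax.ne_top (Ideal.eq_top_of_isUnit_mem _ (Ideal.mem_span_singleton_self _) hu)

theorem finrank_adjoinRoot {p : ℕ} (hp : p.Prime) (y : N) :
    Module.finrank N (AdjoinRoot (gp p y)) = p := by
  rw [(AdjoinRoot.powerBasis' (monic_gp hp y)).finrank, AdjoinRoot.powerBasis'_dim]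
  exact natDegree_X_pow_sub_C

theorem free_adjoinRoot {p : ℕ} (hp : p.Prime) (y : N) :
    Module.Free N (AdjoinRoot (gp p y)) :=
  Module.Free.of_basis (AdjoinRoot.powerBasis' (monic_gp hp y)).basis

end Groth.Agent.Lib.Helper27.PfA
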