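import Mathlib
import Groth.Agent.Lib.Helper27.PfA

/-!
# Subalgebras of a field that are DVRs with a fixed uniformizer; adjoining a `p`-th root
-/

namespace Groth.Agent.Lib.Helper27.PfB

open Polynomial IsLocalRing Groth.Agent.Lib.Helper27.PfA

universe u

variable {R : Type u} [CommRing R] [IsDomain R]
  {L : Type u} [Field L] [Algebra R L] [FaithfulSMul R L]

/-- `S` is "a discrete valuation ring with uniformizer `π`", stated elementwise inside `L`. -/
def PiVal (π : R) (S : Subalgebra R L) : Prop :=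
  (algebraMap R L π)⁻¹ ∉ S ∧ ∀ x ∈ S, x ≠ 0 →
    ∃ (n : ℕ) (u : L), u ∈ S ∧ u⁻¹ ∈ S ∧ x = algebraMap R L π ^ n * u

variable {π : R}

theorem pi_ne_zero (hπ0 : π ≠ 0) : algebraMap R L π ≠ 0 := by
  intro h
  apply hπ0
  apply FaithfulSMul.algebraMap_injective R L
  rw [h, map_zero]

theorem PiVal.irreducible (hπ0 : π ≠ 0) {S : Subalgebra R L} (hS : PiVal π S) :
    Irreducible (algebraMap R S π) := by
  have hπL := pi_ne_zero (L := L) hπ0
  refine ⟨?_, ?_⟩
  · intro hu
    obtain ⟨v, hv⟩ := hu.exists_right_inv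
    apply hS.1
    have h1 : algebraMap R L π * (v : L) = 1 := by
      have := congrArg (fun z : S => (z : L)) hv
      simpa using this
    have h2 : (algebraMap R L π)⁻¹ = (v : L) := by
      rw [inv_eq_iff_eq_inv, ← mul_eq_one_iff_eq_inv₀ (fun h => by simp [h] at h1)]
      exact h1
    rw [h2]
    exact v.2
  · intro a b hab
    have habL : algebraMap R L π = (a : L) * (b : L) := by
      have := congrArg (fun z : S => (z : L)) hab
      simpa using this
    have ha0 : (a : L) ≠ 0 := by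
      intro h; rw [h, zero_mul] at habL; exact hπL habL
    have hb0 : (b : L) ≠ 0 := by
      intro h; rw [h, mul_zero] at habL; exact hπL habL
    obtain ⟨i, u, hu, hu', hau⟩ := hS.2 a a.2 ha0
    obtain ⟨j, v, hv, hv', hbv⟩ := hS.2 b b.2 hb0
    have hu0 : u ≠ 0 := by
      intro h; rw [h, mul_zero] at hau; exact ha0 hau
    have hv0 : v ≠ 0 := by
      intro h; rw [h, mul_zero] at hbv; exact hb0 hbv
    rcases Nat.eq_zero_or_pos i with hi | hi
    · left
      rw [hi, pow_zero, one_mul] at hau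
      refine ⟨⟨a, ⟨u⁻¹, hu'⟩, ?_, ?_⟩, rfl⟩
      · ext; simp [hau, mul_inv_cancel₀ hu0]
      · ext; simp [hau, inv_mul_cancel₀ hu0]
    rcases Nat.eq_zero_or_pos j with hj | hj
    · right
      rw [hj, pow_zero, one_mul] at hbv
      refine ⟨⟨b, ⟨v⁻¹, hv'⟩, ?_, ?_⟩, rfl⟩
      · ext; simp [hbv, mul_inv_cancel₀ hv0]
      · ext; simp [hbv, inv_mul_cancel₀ hv0]
    exfalso
    apply hS.1
    obtain ⟨i', rfl⟩ := Nat.exists_eq_succ_of_ne_zero hi.ne'
    obtain ⟨j', rfl⟩ := Nat.exists_eq_succ_of_ne_zero hj.ne'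
    have h3 : (algebraMap R L π)⁻¹ = algebraMap R L π ^ (i' + j') * (u * v) := by
      rw [inv_eq_iff_eq_inv, ← mul_eq_one_iff_eq_inv₀ (by
        exact mul_ne_zero (pow_ne_zero _ hπL) (mul_ne_zero hu0 hv0))]
      have h4 : algebraMap R L π * (algebraMap R L π * (algebraMap R L π ^ (i' + j') * (u * v))) =
          algebraMap R L π * 1 := by
        rw [mul_one]
        conv_rhs => rw [habL, hau, hbv]
        rw [Nat.succ_eq_add_one, Nat.succ_eq_add_one]
        ring
      have h5 := mul_left_cancel₀ hπL h4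
      rw [← h5]
    rw [h3]
    exact S.mul_mem (S.pow_mem (S.algebraMap_mem π) _) (S.mul_mem hu hv)

theorem PiVal.hasFactorization (hπ0 : π ≠ 0) {S : Subalgebra R L} (hS : PiVal π S) :
    IsDiscreteValuationRing.HasUnitMulPowIrreducibleFactorization S := by
  refine ⟨algebraMap R S π, hS.irreducible hπ0, ?_⟩
  intro x hx
  have hx0 : (x : L) ≠ 0 := fun h => hx (Subtype.ext h)
  obtain ⟨n, u, hu, hu', hxu⟩ := hS.2 x x.2 hx0
  have hu0 : u ≠ 0 := by
    intro h; rw [h, mul_zero] at hxu; exact hx0 hxu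
  refine ⟨n, ⟨⟨u, hu⟩, ⟨u⁻¹, hu'⟩, ?_, ?_⟩, ?_⟩
  · ext; simp [mul_inv_cancel₀ hu0]
  · ext; simp [inv_mul_cancel₀ hu0]
  · ext; simp [hxu]

theorem PiVal.isDVR (hπ0 : π ≠ 0) {S : Subalgebra R L} (hS : PiVal π S) :
    IsDiscreteValuationRing S :=
  IsDiscreteValuationRing.ofHasUnitMulPowIrreducibleFactorization (hS.hasFactorization hπ0)

end Groth.Agent.Lib.Helper27.PfB
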