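import Mathlib
import Groth.Agent.Lib.Helper27.PfB

/-!
# Adjoining a `p`-th root to a finite "π-valued" subalgebra
-/

namespace Groth.Agent.Lib.Helper27.PfC

open Polynomial IsLocalRing Groth.Agent.Lib.Helper27.PfA Groth.Agent.Lib.Helper27.PfB

universe u

variable {R : Type u} [CommRing R] [IsDomain R] [IsDiscreteValuationRing R]
  {L : Type u} [Field L] [Algebra R L] [FaithfulSMul R L] {π : R}

section

variable (N : Subalgebra R L) {p : ℕ} {y γ : L} (hyN : y ∈ N) (hγ : γ ^ p = y)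

/-- the map `N[X]/(X^p - y) → L`, `X ↦ γ`. -/
noncomputable def phi : AdjoinRoot (gp p (⟨y, hyN⟩ : N)) →ₐ[R] L :=
  AdjoinRoot.liftAlgHom (gp p (⟨y, hyN⟩ : N)) N.val γ (by
    simp [gp, eval₂_sub, eval₂_pow, eval₂_X, eval₂_C, hγ])

theorem phi_of (a : N) : phi N hyN hγ (AdjoinRoot.of _ a) = (a : L) := by
  simp [phi]

theorem phi_root : phi N hyN hγ (AdjoinRoot.root _) = γ := by
  simp [phi]

theorem phi_mk (f : (N)[X]) : phi N hyN hγ (AdjoinRoot.mk _ f) = eval₂ N.val γ f := by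
  simp [phi]

theorem range_phi : (phi N hyN hγ).range = Algebra.adjoin R ((N : Set L) ∪ {γ}) := by
  apply le_antisymm
  · intro x hx
    obtain ⟨t, rfl⟩ := (AlgHom.mem_range _).1 hx
    obtain ⟨f, rfl⟩ := AdjoinRoot.mk_surjective t
    rw [phi_mk, eval₂_eq_sum_range]
    refine Subalgebra.sum_mem _ (fun i _ => ?_)
    refine Subalgebra.mul_mem _ ?_ (Subalgebra.pow_mem _ ?_ _)
    · exact Algebra.subset_adjoin (Or.inl (f.coeff i).2)
    · exact Algebra.subset_adjoin (Or.inr rfl)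
  · rw [Algebra.adjoin_le_iff]
    rintro x (hx | hx)
    · exact ⟨AdjoinRoot.of _ ⟨x, hx⟩, phi_of N hyN hγ ⟨x, hx⟩⟩
    · rw [Set.mem_singleton_iff] at hx
      rw [hx]
      exact ⟨AdjoinRoot.root _, phi_root N hyN hγ⟩

end

variable (hπ : Irreducible π) {p : ℕ} (hp : p.Prime)

include hπ hp in
theorem step (N : Subalgebra R L) (hN : PiVal π N) [Module.Finite R N] {y γ : L} (hyN : y ∈ N)
    (hγ : γ ^ p = y) (hnp : ∀ z ∈ N, ∀ w ∈ N, z ^ p - y ≠ algebraMap R L π * w) :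
    PiVal π (Algebra.adjoin R ((N : Set L) ∪ {γ})) ∧
    Module.Finite R (Algebra.adjoin R ((N : Set L) ∪ {γ})) ∧
    Module.finrank R (Algebra.adjoin R ((N : Set L) ∪ {γ})) = Module.finrank R N * p := by
  haveI : IsDiscreteValuationRing N := hN.isDVR hπ.ne_zero
  have hπN : Irreducible (algebraMap R N π) := hN.irreducible hπ.ne_zero
  have hπL := pi_ne_zero (L := L) hπ.ne_zero
  have hy : ∀ z : N, ¬ (algebraMap R N π) ∣ z ^ p - (⟨y, hyN⟩ : N) := by
    rintro z ⟨w, hw⟩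
    apply hnp z z.2 w w.2
    have := congrArg (fun t : N => (t : L)) hw
    simpa using this
  have hφπ : phi N hyN hγ (AdjoinRoot.of _ (algebraMap R N π)) = algebraMap R L π := by
    rw [phi_of]; rfl
  -- injectivity
  have hφne : ∀ t : AdjoinRoot (gp p (⟨y, hyN⟩ : N)), t ≠ 0 → phi N hyN hγ t ≠ 0 := by
    intro t ht
    obtain ⟨n, u, hu⟩ := exists_pow_mul_unit hπN hp _ hy t ht
    rw [hu, map_mul, map_pow, hφπ]
    exact mul_ne_zero (pow_ne_zero _ hπL) ((u.isUnit.map (phi N hyN hγ)).ne_zero)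
  have hφinj : Function.Injective (phi N hyN hγ) := by
    rw [injective_iff_map_eq_zero]
    intro t ht
    by_contra h
    exact hφne t h ht
  rw [← range_phi N hyN hγ]
  refine ⟨⟨?_, ?_⟩, ?_, ?_⟩
  · intro hmem
    obtain ⟨t, ht⟩ := (AlgHom.mem_range _).1 hmem
    apply not_isUnit_of_pi hπN hp _ hy
    have h1 : phi N hyN hγ (AdjoinRoot.of _ (algebraMap R N π) * t) = phi N hyN hγ 1 := by
      rw [map_mul, hφπ, ht, map_one, mul_inv_cancel₀ hπL]
    exact IsUnit.of_mul_eq_one _ (hφinj h1)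
  · intro x hmem hx
    obtain ⟨t, rfl⟩ := (AlgHom.mem_range _).1 hmem
    have ht : t ≠ 0 := by
      rintro rfl; exact hx (map_zero _)
    obtain ⟨n, u, hu⟩ := exists_pow_mul_unit hπN hp _ hy t ht
    refine ⟨n, phi N hyN hγ u, (AlgHom.mem_range _).2 ⟨_, rfl⟩,
      (AlgHom.mem_range _).2 ⟨((u⁻¹ : (AdjoinRoot _)ˣ) : AdjoinRoot _), ?_⟩, ?_⟩
    · apply eq_inv_of_mul_eq_one_left
      rw [← map_mul, Units.inv_mul, map_one]
    · rw [hu, map_mul, map_pow, hφπ]
  · haveI : Module.Finite N (AdjoinRoot (gp p (⟨y, hyN⟩ : N))) := finite_adjoinRoot hp _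
    haveI : Module.Finite R (AdjoinRoot (gp p (⟨y, hyN⟩ : N))) := Module.Finite.trans N _
    exact Module.Finite.of_surjective (phi N hyN hγ).rangeRestrict.toLinearMap
      (phi N hyN hγ).rangeRestrict_surjective
  · haveI : Module.Free N (AdjoinRoot (gp p (⟨y, hyN⟩ : N))) := free_adjoinRoot hp _
    have e : AdjoinRoot (gp p (⟨y, hyN⟩ : N)) ≃ₐ[R] (phi N hyN hγ).range :=
      AlgEquiv.ofInjective (phi N hyN hγ) hφinj
    rw [← e.toLinearEquiv.finrank_eq, ← Module.finrank_mul_finrank R N, finrank_adjoinRoot hp]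

end Groth.Agent.Lib.Helper27.PfC
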