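import Mathlib
import Groth.Agent.Lib.Helper27.PfC

/-!
# "Purely inseparable modulo ϖ" elements form a subalgebra
-/

namespace Groth.Agent.Lib.Helper27.PfD

universe u

section PI

variable {R : Type*} [CommRing R] {A : Type*} [CommRing A] [Algebra R A] (ϖ : A) (p : ℕ)

/-- `x` has a `p`-power power congruent mod `ϖ` to an element of `R`. -/
def PI (x : A) : Prop := ∃ (m : ℕ) (z : R), ϖ ∣ x ^ (p ^ m) - algebraMap R A z

variable {ϖ p}

theorem raise {x : A} {m : ℕ} {z : R} (h : ϖ ∣ x ^ (p ^ m) - algebraMap R A z) (k : ℕ) :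
    ϖ ∣ x ^ (p ^ (m + k)) - algebraMap R A (z ^ (p ^ k)) := by
  rw [pow_add, pow_mul, map_pow]
  exact h.trans (sub_dvd_pow_sub_pow _ _ _)

theorem PI.of_algebraMap (r : R) : PI (R := R) ϖ p (algebraMap R A r) :=
  ⟨0, r, by simp⟩

theorem PI.mul {x x' : A} (hx : PI (R := R) ϖ p x) (hx' : PI (R := R) ϖ p x') :
    PI (R := R) ϖ p (x * x') := by
  obtain ⟨m, z, h⟩ := hx
  obtain ⟨m', z', h'⟩ := hx'
  have h1 := raise h m'
  have h2 := raise h' m
  rw [add_comm m' m] at h2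
  refine ⟨m + m', z ^ (p ^ m') * z' ^ (p ^ m), ?_⟩
  have : (x * x') ^ p ^ (m + m') - algebraMap R A (z ^ p ^ m' * z' ^ p ^ m) =
      x ^ p ^ (m + m') * (x' ^ p ^ (m + m') - algebraMap R A (z' ^ p ^ m)) +
        algebraMap R A (z' ^ p ^ m) * (x ^ p ^ (m + m') - algebraMap R A (z ^ p ^ m')) := by
    rw [mul_pow, map_mul]; ring
  rw [this]
  exact dvd_add (Dvd.dvd.mul_left h2 _) (Dvd.dvd.mul_left h1 _)

theorem PI.add (hp : p.Prime) (hϖp : ϖ ∣ (p : A)) {x x' : A} (hx : PI (R := R) ϖ p x)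
    (hx' : PI (R := R) ϖ p x') : PI (R := R) ϖ p (x + x') := by
  obtain ⟨m, z, h⟩ := hx
  obtain ⟨m', z', h'⟩ := hx'
  have h1 := raise h m'
  have h2 := raise h' m
  rw [add_comm m' m] at h2
  refine ⟨m + m', z ^ (p ^ m') + z' ^ (p ^ m), ?_⟩
  obtain ⟨r, hr⟩ := exists_add_pow_prime_pow_eq hp x x' (m + m')
  have : (x + x') ^ p ^ (m + m') - algebraMap R A (z ^ p ^ m' + z' ^ p ^ m) =
      (x ^ p ^ (m + m') - algebraMap R A (z ^ p ^ m')) +
        (x' ^ p ^ (m + m') - algebraMap R A (z' ^ p ^ m)) + (p : A) * (x * x' * r) := by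
    rw [hr, map_add]; ring
  rw [this]
  exact dvd_add (dvd_add h1 h2) (Dvd.dvd.mul_right hϖp _)

theorem PI.map {B : Type*} [CommRing B] [Algebra R B] (f : A →ₐ[R] B) {x : A}
    (hx : PI (R := R) ϖ p x) : PI (R := R) (f ϖ) p (f x) := by
  obtain ⟨m, z, h⟩ := hx
  refine ⟨m, z, ?_⟩
  have := map_dvd f h
  rwa [map_sub, map_pow, AlgHom.commutes] at this

theorem PI.of_pow {x : A} (hx : PI (R := R) ϖ p (x ^ p)) : PI (R := R) ϖ p x := by
  obtain ⟨m, z, h⟩ := hx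
  refine ⟨m + 1, z, ?_⟩
  rwa [pow_succ', pow_mul]

end PI

end Groth.Agent.Lib.Helper27.PfD
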