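import Mathlib
import Groth.Agent.Lib.Helper27.PfD

/-!
# Good subalgebras: directed unions of finite free π-valued subalgebras of `p`-power rank,
with purely inseparable residue extension
-/

namespace Groth.Agent.Lib.Helper27.PfE

open Groth.Agent.Lib.Helper27.PfB Groth.Agent.Lib.Helper27.PfC Groth.Agent.Lib.Helper27.PfD

universe u

variable {R : Type u} [CommRing R] [IsDomain R] [IsDiscreteValuationRing R]
  {L : Type u} [Field L] [Algebra R L] [FaithfulSMul R L] (π : R) (p : ℕ)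

/-- finite level. -/
def Nice (N : Subalgebra R L) : Prop :=
  Module.Finite R N ∧ PiVal π N ∧ ∃ m : ℕ, Module.finrank R N = p ^ m

/-- directed union of nice subalgebras, purely inseparable residue extension. -/
def Good (S : Subalgebra R L) : Prop :=
  (∀ s : Finset L, (s : Set L) ⊆ S →
    ∃ N : Subalgebra R L, N ≤ S ∧ (s : Set L) ⊆ N ∧ Nice π p N) ∧
  (∀ y : S, PI (R := R) (algebraMap R S π) p y)

variable {π p}

theorem Good.piVal {S : Subalgebra R L} (hS : Good π p S) : PiVal π S := by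
  refine ⟨?_, ?_⟩
  · intro h
    obtain ⟨N, hNS, hsN, hfin, hpv, _⟩ := hS.1 {(algebraMap R L π)⁻¹} (by simpa using h)
    exact hpv.1 (hsN (by simp))
  · intro x hx hx0
    obtain ⟨N, hNS, hsN, hfin, hpv, _⟩ := hS.1 {x} (by simpa using hx)
    obtain ⟨n, u, hu, hu', hxu⟩ := hpv.2 x (hsN (by simp)) hx0
    exact ⟨n, u, hNS hu, hNS hu', hxu⟩

theorem piVal_bot (hπ : Irreducible π) : PiVal π (⊥ : Subalgebra R L) := by
  have hinj := FaithfulSMul.algebraMap_injective R L
  refine ⟨?_, ?_⟩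
  · intro h
    obtain ⟨r, hr⟩ := Algebra.mem_bot.1 h
    have h1 : algebraMap R L (π * r) = algebraMap R L 1 := by
      rw [map_mul, hr, map_one, mul_inv_cancel₀ (pi_ne_zero hπ.ne_zero)]
    exact hπ.not_isUnit (IsUnit.of_mul_eq_one _ (hinj h1))
  · intro x hx hx0
    obtain ⟨r, rfl⟩ := Algebra.mem_bot.1 hx
    have hr0 : r ≠ 0 := by
      rintro rfl; exact hx0 (map_zero _)
    obtain ⟨n, u, hu⟩ := IsDiscreteValuationRing.eq_unit_mul_pow_irreducible hr0 hπ
    refine ⟨n, algebraMap R L u, Subalgebra.algebraMap_mem _ _, ?_, ?_⟩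
    · have : (algebraMap R L u)⁻¹ = algebraMap R L ((u⁻¹ : Rˣ) : R) := by
        apply inv_eq_of_mul_eq_one_left
        rw [← map_mul, Units.inv_mul, map_one]
      rw [this]
      exact Subalgebra.algebraMap_mem _ _
    · rw [hu, map_mul, map_pow, mul_comm]

theorem nice_bot (hπ : Irreducible π) : Nice π p (⊥ : Subalgebra R L) :=
  ⟨inferInstance, piVal_bot hπ, 0, by rw [pow_zero]; exact Subalgebra.finrank_bot⟩

theorem good_bot (hπ : Irreducible π) : Good π p (⊥ : Subalgebra R L) := by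
  refine ⟨fun s hs => ⟨⊥, le_rfl, hs, nice_bot hπ⟩, ?_⟩
  rintro ⟨y, hy⟩
  obtain ⟨r, rfl⟩ := Algebra.mem_bot.1 hy
  exact PI.of_algebraMap (A := (⊥ : Subalgebra R L)) r

theorem good_sSup {c : Set (Subalgebra R L)} (hc : IsChain (· ≤ ·) c) {S₀ : Subalgebra R L}
    (hS₀ : S₀ ∈ c) (hgood : ∀ S ∈ c, Good π p S) : Good π p (sSup c) := by
  classical
  haveI : Nonempty c := ⟨⟨S₀, hS₀⟩⟩
  have hdir : Directed (· ≤ ·) (fun i : c => (i : Subalgebra R L)) :=
    hc.directedOn.directed_val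
  have hmem : ∀ x : L, x ∈ sSup c → ∃ S ∈ c, x ∈ S := by
    intro x hx
    rw [sSup_eq_iSup', ← SetLike.mem_coe, Subalgebra.coe_iSup_of_directed hdir] at hx
    obtain ⟨i, hi⟩ := Set.mem_iUnion.1 hx
    exact ⟨i.1, i.2, hi⟩
  refine ⟨?_, ?_⟩
  · intro s hs
    have key : ∃ S ∈ c, (s : Set L) ⊆ S := by
      induction s using Finset.induction_on with
      | empty => exact ⟨S₀, hS₀, by simp⟩
      | insert a s' _ ih =>
        rw [Finset.coe_insert, Set.insert_subset_iff] at hs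
        obtain ⟨S', hS', hs'⟩ := ih hs.2
        obtain ⟨Sa, hSa, haSa⟩ := hmem a hs.1
        rcases hc.total hS' hSa with h | h
        · refine ⟨Sa, hSa, ?_⟩
          rw [Finset.coe_insert, Set.insert_subset_iff]
          exact ⟨haSa, hs'.trans h⟩
        · refine ⟨S', hS', ?_⟩
          rw [Finset.coe_insert, Set.insert_subset_iff]
          exact ⟨h haSa, hs'⟩
    obtain ⟨S, hSc, hsS⟩ := key
    obtain ⟨N, hNS, hsN, hnice⟩ := (hgood S hSc).1 s hsS
    exact ⟨N, hNS.trans (le_sSup hSc), hsN, hnice⟩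
  · rintro ⟨y, hy⟩
    obtain ⟨S, hSc, hyS⟩ := hmem y hy
    have h1 := (hgood S hSc).2 ⟨y, hyS⟩
    have h2 := h1.map (Subalgebra.inclusion (le_sSup hSc))
    rw [AlgHom.commutes] at h2
    exact h2

end Groth.Agent.Lib.Helper27.PfE
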