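import Mathlib
import Groth.Agent.Lib.Helper27.PfE

/-!
# Extending a good subalgebra by a `p`-th root; maximal good subalgebras
-/

namespace Groth.Agent.Lib.Helper27.PfF

open Groth.Agent.Lib.Helper27.PfB Groth.Agent.Lib.Helper27.PfC Groth.Agent.Lib.Helper27.PfD
  Groth.Agent.Lib.Helper27.PfE

universe u

variable {R : Type u} [CommRing R] [IsDomain R] [IsDiscreteValuationRing R]
  {L : Type u} [Field L] [Algebra R L] [FaithfulSMul R L] {π : R} {p : ℕ}

omit [IsDomain R] [IsDiscreteValuationRing R] [FaithfulSMul R L] in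
theorem exists_finset_of_mem_adjoin (S : Subalgebra R L) (γ : L) {x : L}
    (hx : x ∈ Algebra.adjoin R ((S : Set L) ∪ {γ})) :
    ∃ s : Finset L, (s : Set L) ⊆ S ∧ x ∈ Algebra.adjoin R ((s : Set L) ∪ {γ}) := by
  classical
  induction hx using Algebra.adjoin_induction with
  | mem x hx =>
    rcases hx with hx | hx
    · exact ⟨{x}, by simpa using hx, Algebra.subset_adjoin (Or.inl (by simp))⟩
    · exact ⟨∅, by simp, Algebra.subset_adjoin (Or.inr hx)⟩
  | algebraMap r => exact ⟨∅, by simp, Subalgebra.algebraMap_mem _ r⟩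
  | add x y _ _ hx hy =>
    obtain ⟨s, hs, hxs⟩ := hx
    obtain ⟨t, ht, hyt⟩ := hy
    refine ⟨s ∪ t, by rw [Finset.coe_union]; exact Set.union_subset hs ht, ?_⟩
    refine add_mem (Algebra.adjoin_mono ?_ hxs) (Algebra.adjoin_mono ?_ hyt)
    · rw [Finset.coe_union]
      exact Set.union_subset_union_left _ Set.subset_union_left
    · rw [Finset.coe_union]
      exact Set.union_subset_union_left _ Set.subset_union_right
  | mul x y _ _ hx hy =>
    obtain ⟨s, hs, hxs⟩ := hx
    obtain ⟨t, ht, hyt⟩ := hy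
    refine ⟨s ∪ t, by rw [Finset.coe_union]; exact Set.union_subset hs ht, ?_⟩
    refine mul_mem (Algebra.adjoin_mono ?_ hxs) (Algebra.adjoin_mono ?_ hyt)
    · rw [Finset.coe_union]
      exact Set.union_subset_union_left _ Set.subset_union_left
    · rw [Finset.coe_union]
      exact Set.union_subset_union_left _ Set.subset_union_right

omit [IsDomain R] [IsDiscreteValuationRing R] [FaithfulSMul R L] in
theorem exists_finset_of_subset_adjoin (S : Subalgebra R L) (γ : L) (s : Finset L)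
    (hs : (s : Set L) ⊆ Algebra.adjoin R ((S : Set L) ∪ {γ})) :
    ∃ s' : Finset L, (s' : Set L) ⊆ S ∧
      (s : Set L) ⊆ Algebra.adjoin R ((s' : Set L) ∪ {γ}) := by
  classical
  induction s using Finset.induction_on with
  | empty => exact ⟨∅, by simp, by simp⟩
  | insert a s _ ih =>
    rw [Finset.coe_insert, Set.insert_subset_iff] at hs
    obtain ⟨s₁, hs₁, h₁⟩ := ih hs.2
    obtain ⟨s₂, hs₂, h₂⟩ := exists_finset_of_mem_adjoin S γ hs.1
    refine ⟨s₁ ∪ s₂, by rw [Finset.coe_union]; exact Set.union_subset hs₁ hs₂, ?_⟩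
    rw [Finset.coe_insert, Set.insert_subset_iff, Finset.coe_union]
    refine ⟨Algebra.adjoin_mono ?_ h₂, h₁.trans (Algebra.adjoin_mono ?_)⟩
    · exact Set.union_subset_union_left _ Set.subset_union_right
    · exact Set.union_subset_union_left _ Set.subset_union_left

theorem good_adjoin (hπ : Irreducible π) (hp : p.Prime) (hπp : π ∣ (p : R))
    {S : Subalgebra R L} (hS : Good π p S) {y γ : L} (hyS : y ∈ S) (hγ : γ ^ p = y)
    (hnp : ∀ z ∈ S, ∀ w ∈ S, z ^ p - y ≠ algebraMap R L π * w) :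
    Good π p (Algebra.adjoin R ((S : Set L) ∪ {γ})) := by
  classical
  refine ⟨?_, ?_⟩
  · intro s hs
    obtain ⟨s', hs'S, hss'⟩ := exists_finset_of_subset_adjoin S γ s hs
    obtain ⟨N, hNS, hs'N, hfin, hpv, m, hm⟩ := hS.1 (insert y s') (by
      rw [Finset.coe_insert, Set.insert_subset_iff]; exact ⟨hyS, hs'S⟩)
    rw [Finset.coe_insert, Set.insert_subset_iff] at hs'N
    haveI := hfin
    obtain ⟨h1, h2, h3⟩ := step hπ hp N hpv hs'N.1 hγ
      (fun z hz w hw => hnp z (hNS hz) w (hNS hw))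
    refine ⟨Algebra.adjoin R ((N : Set L) ∪ {γ}),
      Algebra.adjoin_mono (Set.union_subset_union_left _ hNS), ?_, h2, h1, m + 1, ?_⟩
    · exact hss'.trans (Algebra.adjoin_mono (Set.union_subset_union_left _ hs'N.2))
    · rw [h3, hm, pow_succ]
  · have hST : S ≤ Algebra.adjoin R ((S : Set L) ∪ {γ}) :=
      fun x hx => Algebra.subset_adjoin (Or.inl hx)
    have hϖp : algebraMap R (Algebra.adjoin R ((S : Set L) ∪ {γ})) π ∣
        (p : Algebra.adjoin R ((S : Set L) ∪ {γ})) := by
      obtain ⟨c, hc⟩ := hπp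
      exact ⟨algebraMap R _ c, by rw [← map_mul, ← hc, map_natCast]⟩
    rintro ⟨x, hx⟩
    induction hx using Algebra.adjoin_induction with
    | mem x hx =>
      rcases hx with hx | hx
      · have h1 := (hS.2 ⟨x, hx⟩).map (Subalgebra.inclusion hST)
        rw [AlgHom.commutes] at h1
        exact h1
      · rw [Set.mem_singleton_iff] at hx
        subst hx
        apply PI.of_pow
        have h1 := (hS.2 ⟨y, hyS⟩).map (Subalgebra.inclusion hST)
        rw [AlgHom.commutes] at h1
        convert h1 using 1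
        exact Subtype.ext hγ
    | algebraMap r => exact PI.of_algebraMap (A := Algebra.adjoin R ((S : Set L) ∪ {γ})) r
    | add x y hx hy ihx ihy => exact PI.add hp hϖp ihx ihy
    | mul x y hx hy ihx ihy => exact PI.mul ihx ihy

theorem exists_maximal_good (hπ : Irreducible π) (hp : p.Prime) (hπp : π ∣ (p : R))
    (hroots : ∀ y : L, ∃ γ : L, γ ^ p = y) :
    ∃ S : Subalgebra R L, Good π p S ∧
      ∀ y ∈ S, ∃ z ∈ S, ∃ w ∈ S, z ^ p - y = algebraMap R L π * w := by
  obtain ⟨S, -, hSmax⟩ := zorn_le_nonempty₀ {S : Subalgebra R L | Good π p S}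
    (fun c hcs hc y hy => ⟨sSup c, good_sSup hc hy (fun S hS => hcs hS),
      fun z hz => le_sSup hz⟩) ⊥ (good_bot hπ)
  refine ⟨S, hSmax.prop, ?_⟩
  intro y hy
  by_contra hcon
  push Not at hcon
  obtain ⟨γ, hγ⟩ := hroots y
  have hT := good_adjoin hπ hp hπp hSmax.prop hy hγ hcon
  have hST : S ≤ Algebra.adjoin R ((S : Set L) ∪ {γ}) :=
    fun x hx => Algebra.subset_adjoin (Or.inl hx)
  have hTS := hSmax.le_of_ge hT hST
  have hγS : γ ∈ S := hTS (Algebra.subset_adjoin (Or.inr rfl))
  exact hcon γ hγS 0 (zero_mem _) (by rw [hγ, sub_self, mul_zero])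

end Groth.Agent.Lib.Helper27.PfF
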