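import Mathlib

/-! Abstract "order functions" on vector spaces with one-dimensional graded pieces, the
filtration they induce on finite-dimensional subspaces, attained orders, and weight sums.
(helper27; used for the Plücker inequality in genus zero.) -/

set_option autoImplicit false

namespace Groth.Agent.Lib.Helper27.Plucker

open Finset

universe u v

variable {k : Type u} {M : Type v} [Field k] [AddCommGroup M] [Module k M]

/-- An order function: like a discrete valuation with residue field `k`. -/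
structure OrdFn (k : Type u) (M : Type v) [Field k] [AddCommGroup M] [Module k M] where
  ν : M → ℕ
  smul : ∀ (c : k), c ≠ 0 → ∀ v : M, ν (c • v) = ν v
  add : ∀ v w : M, v ≠ 0 → w ≠ 0 → v + w ≠ 0 → min (ν v) (ν w) ≤ ν (v + w)
  res : ∀ v w : M, v ≠ 0 → w ≠ 0 → ν v = ν w → ∃ c : k, v - c • w = 0 ∨ ν v < ν (v - c • w)

variable (o : OrdFn k M)

/-- The filtration step `F^n V = {v ∈ V : v = 0 ∨ n ≤ ν v}`. -/
def Fil (V : Submodule k M) (n : ℕ) : Submodule k M where
  carrier := {v | v ∈ V ∧ (v = 0 ∨ n ≤ o.ν v)}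
  zero_mem' := ⟨V.zero_mem, Or.inl rfl⟩
  add_mem' := by
    rintro v w ⟨hv, hv'⟩ ⟨hw, hw'⟩
    refine ⟨V.add_mem hv hw, ?_⟩
    by_cases h0 : v + w = 0
    · exact Or.inl h0
    right
    by_cases hv0 : v = 0
    · subst hv0; rw [zero_add] at h0 ⊢; exact hw'.resolve_left h0
    by_cases hw0 : w = 0
    · subst hw0; rw [add_zero] at h0 ⊢; exact hv'.resolve_left h0
    exact (le_min (hv'.resolve_left hv0) (hw'.resolve_left hw0)).trans (o.add v w hv0 hw0 h0)
  smul_mem' := by
    rintro c v ⟨hv, hv'⟩
    refine ⟨V.smul_mem c hv, ?_⟩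
    by_cases hc : c = 0
    · left; rw [hc, zero_smul]
    rcases hv' with h | h
    · left; rw [h, smul_zero]
    · right; rw [o.smul c hc]; exact h

theorem mem_Fil {V : Submodule k M} {n : ℕ} {v : M} :
    v ∈ Fil o V n ↔ v ∈ V ∧ (v = 0 ∨ n ≤ o.ν v) := Iff.rfl

theorem Fil_le (V : Submodule k M) (n : ℕ) : Fil o V n ≤ V := fun _ h => h.1

theorem Fil_zero (V : Submodule k M) : Fil o V 0 = V :=
  le_antisymm (Fil_le o V 0) (fun v hv => ⟨hv, Or.inr (Nat.zero_le _)⟩)

theorem Fil_anti (V : Submodule k M) {n m : ℕ} (h : n ≤ m) : Fil o V m ≤ Fil o V n := by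
  rintro v ⟨hv, hv'⟩
  exact ⟨hv, hv'.imp id (fun h' => h.trans h')⟩

/-- `n` is an attained order of `V`. -/
def Att (V : Submodule k M) (n : ℕ) : Prop := ∃ v ∈ V, v ≠ 0 ∧ o.ν v = n

theorem Fil_succ_lt_of_att {V : Submodule k M} {n : ℕ} (h : Att o V n) :
    Fil o V (n + 1) < Fil o V n := by
  obtain ⟨v, hv, hv0, hvn⟩ := h
  refine lt_of_le_of_ne (Fil_anti o V (Nat.le_succ n)) ?_
  intro heq
  have h1 : v ∈ Fil o V n := ⟨hv, Or.inr hvn.ge⟩
  rw [← heq] at h1
  rcases h1.2 with h2 | h2
  · exact hv0 h2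
  · omega

theorem Fil_succ_eq_of_not_att {V : Submodule k M} {n : ℕ} (h : ¬ Att o V n) :
    Fil o V (n + 1) = Fil o V n := by
  apply le_antisymm (Fil_anti o V (Nat.le_succ n))
  rintro v ⟨hv, hv'⟩
  refine ⟨hv, ?_⟩
  rcases hv' with h0 | hn
  · exact Or.inl h0
  · by_cases h0 : v = 0
    · exact Or.inl h0
    right
    rcases Nat.lt_or_ge n (o.ν v) with h1 | h1
    · exact h1
    · exact absurd ⟨v, hv, h0, le_antisymm h1 hn⟩ h


/-- step: `dim F^n ≤ dim F^(n+1) + 1`. -/
theorem finrank_Fil_le (V : Submodule k M) [FiniteDimensional k V] (n : ℕ) :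
    Module.finrank k (Fil o V n) ≤ Module.finrank k (Fil o V (n + 1)) + 1 := by
  haveI : FiniteDimensional k (Fil o V n) := Submodule.finiteDimensional_of_le (Fil_le o V n)
  by_cases hatt : Att o V n
  · obtain ⟨w, hw, hw0, hwn⟩ := hatt
    have hle : Fil o V n ≤ Fil o V (n + 1) ⊔ Submodule.span k {w} := by
      rintro v ⟨hv, hv'⟩
      by_cases hv1 : v ∈ Fil o V (n + 1)
      · exact Submodule.mem_sup_left hv1
      have hv0 : v ≠ 0 := fun h => hv1 (h ▸ Submodule.zero_mem _)
      have hvn : o.ν v = n := by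
        have h1 := hv'.resolve_left hv0
        by_contra hne
        exact hv1 ⟨hv, Or.inr (by omega)⟩
      obtain ⟨c, hc⟩ := o.res v w hv0 hw0 (hvn.trans hwn.symm)
      have hmem : v - c • w ∈ Fil o V (n + 1) := by
        refine ⟨V.sub_mem hv (V.smul_mem c hw), ?_⟩
        rcases hc with h | h
        · exact Or.inl h
        · right; omega
      have : v = (v - c • w) + c • w := by abel
      rw [this]
      exact Submodule.add_mem_sup hmem (Submodule.smul_mem _ c (Submodule.mem_span_singleton_self w))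
    haveI : FiniteDimensional k (Fil o V (n + 1)) :=
      Submodule.finiteDimensional_of_le (Fil_le o V (n + 1))
    have h1 := Submodule.finrank_mono hle
    have h2 := Submodule.finrank_add_le_finrank_add_finrank (Fil o V (n + 1)) (Submodule.span k {w})
    have h3 : Module.finrank k (Submodule.span k {w}) = 1 := finrank_span_singleton hw0
    omega
  · rw [Fil_succ_eq_of_not_att o hatt]; omega

open Classical in
/-- the exact step formula. -/
theorem finrank_Fil_eq (V : Submodule k M) [FiniteDimensional k V] (n : ℕ) :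
    Module.finrank k (Fil o V n) =
      Module.finrank k (Fil o V (n + 1)) + (if Att o V n then 1 else 0) := by
  haveI : FiniteDimensional k (Fil o V n) := Submodule.finiteDimensional_of_le (Fil_le o V n)
  split_ifs with hatt
  · have h1 := Submodule.finrank_lt_finrank_of_lt (Fil_succ_lt_of_att o hatt)
    have h2 := finrank_Fil_le o V n
    omega
  · rw [Fil_succ_eq_of_not_att o hatt]; rfl

theorem Fil_eq_bot {V : Submodule k M} {B : ℕ} (hB : ∀ v ∈ V, v ≠ 0 → o.ν v ≤ B) {n : ℕ}
    (hn : B < n) : Fil o V n = ⊥ := by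
  rw [eq_bot_iff]
  rintro v ⟨hv, hv'⟩
  rw [Submodule.mem_bot]
  by_contra h0
  have := hB v hv h0
  have := hv'.resolve_left h0
  omega

open Classical in
/-- the finite set of attained orders. -/
noncomputable def attSet (V : Submodule k M) (B : ℕ) : Finset ℕ :=
  (range (B + 1)).filter (fun n => Att o V n)

open Classical in
theorem mem_attSet {V : Submodule k M} {B : ℕ} (hB : ∀ v ∈ V, v ≠ 0 → o.ν v ≤ B) {n : ℕ} :
    n ∈ attSet o V B ↔ Att o V n := by
  unfold attSet
  rw [mem_filter, mem_range]
  constructor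
  · exact fun h => h.2
  · intro h
    refine ⟨?_, h⟩
    obtain ⟨v, hv, hv0, rfl⟩ := h
    exact Nat.lt_succ_of_le (hB v hv hv0)

open Classical in
/-- `dim F^n = #{attained orders ≥ n}`. -/
theorem finrank_Fil_eq_card (V : Submodule k M) [FiniteDimensional k V] {B : ℕ}
    (hB : ∀ v ∈ V, v ≠ 0 → o.ν v ≤ B) :
    ∀ t n : ℕ, n + t = B + 1 →
      Module.finrank k (Fil o V n) = ((attSet o V B).filter (fun j => n ≤ j)).card := by
  intro t
  induction t with
  | zero =>
    intro n hn
    rw [Fil_eq_bot o hB (by omega), finrank_bot]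
    symm
    rw [card_eq_zero, filter_eq_empty_iff]
    intro j hj
    unfold attSet at hj
    rw [mem_filter, mem_range] at hj
    omega
  | succ t ih =>
    intro n hn
    rw [finrank_Fil_eq o V n, ih (n + 1) (by omega)]
    have hsplit : (attSet o V B).filter (fun j => n ≤ j) =
        (attSet o V B).filter (fun j => n + 1 ≤ j) ∪ (attSet o V B).filter (fun j => j = n) := by
      ext j
      simp only [mem_filter, mem_union]
      constructor
      · rintro ⟨h1, h2⟩
        rcases Nat.eq_or_lt_of_le h2 with h | h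
        · exact Or.inr ⟨h1, h.symm⟩
        · exact Or.inl ⟨h1, h⟩
      · rintro (⟨h1, h2⟩ | ⟨h1, h2⟩)
        · exact ⟨h1, by omega⟩
        · exact ⟨h1, by omega⟩
    rw [hsplit, card_union_of_disjoint]
    · congr 1
      rw [filter_eq']
      split_ifs with h1 h2 h2
      · simp
      · exact absurd ((mem_attSet o hB).mpr h1) h2
      · exact absurd ((mem_attSet o hB).mp h2) h1
      · simp
    · rw [disjoint_filter]
      intro j _ h1 h2
      omega

/-- the weight sum `∑_{n=1}^{B} dim F^n V`. -/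
noncomputable def wt (V : Submodule k M) (B : ℕ) : ℕ :=
  ∑ n ∈ range B, Module.finrank k (Fil o V (n + 1))

open Classical in
/-- `∑_{n=1}^B dim F^n = ∑ attained orders`. -/
theorem wt_eq_sum (V : Submodule k M) [FiniteDimensional k V] {B : ℕ}
    (hB : ∀ v ∈ V, v ≠ 0 → o.ν v ≤ B) :
    wt o V B = ∑ j ∈ attSet o V B, j := by
  unfold wt
  have h1 : ∀ n ∈ range B, Module.finrank k (Fil o V (n + 1)) =
      ((attSet o V B).bipartiteAbove (fun a b : ℕ => a + 1 ≤ b) n).card := by
    intro n hn
    rw [mem_range] at hn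
    rw [finrank_Fil_eq_card o V hB (B - n) (n + 1) (by omega)]
    rfl
  rw [sum_congr rfl h1, sum_card_bipartiteAbove_eq_sum_card_bipartiteBelow]
  apply sum_congr rfl
  intro j hj
  unfold attSet at hj
  rw [mem_filter, mem_range] at hj
  have : (range B).bipartiteBelow (fun a b : ℕ => a + 1 ≤ b) j = range j := by
    ext a
    simp only [bipartiteBelow, mem_filter, mem_range]
    omega
  rw [this, card_range]

open Classical in
theorem card_attSet (V : Submodule k M) [FiniteDimensional k V] {B : ℕ}
    (hB : ∀ v ∈ V, v ≠ 0 → o.ν v ≤ B) : (attSet o V B).card = Module.finrank k V := by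
  have := finrank_Fil_eq_card o V hB (B + 1) 0 (by omega)
  rw [Fil_zero] at this
  rw [this]
  congr 1
  symm
  rw [filter_eq_self]
  intro j _
  exact Nat.zero_le j

end Groth.Agent.Lib.Helper27.Plucker
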