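import Groth.Agent.Lib.Helper27.Plucker1

/-! Transfer of weight sums along a "Wronskian-type" linear map (helper27). -/

set_option autoImplicit false

namespace Groth.Agent.Lib.Helper27.Plucker

open Finset

universe u v w

variable {k : Type u} {M : Type v} {M' : Type w} [Field k] [AddCommGroup M] [Module k M]
  [AddCommGroup M'] [Module k M']

variable (o : OrdFn k M) (o' : OrdFn k M') (φ : M →ₗ[k] M') (f₀ : M)

/-- the hypothesis on `φ`. -/
def Shifts : Prop :=
  f₀ ≠ 0 ∧ φ f₀ = 0 ∧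
    ∀ g : M, g ≠ 0 → o.ν g ≠ o.ν f₀ → φ g ≠ 0 ∧ o'.ν (φ g) + 1 = o.ν g + o.ν f₀

variable {o o' φ f₀}

theorem Shifts.ker (h : Shifts o o' φ f₀) {g : M} (hg : φ g = 0) : ∃ c : k, g = c • f₀ := by
  obtain ⟨hf0, hφf, H⟩ := h
  by_cases hg0 : g = 0
  · exact ⟨0, by rw [hg0, zero_smul]⟩
  by_cases hν : o.ν g = o.ν f₀
  · obtain ⟨c, hc⟩ := o.res g f₀ hg0 hf0 hν
    refine ⟨c, ?_⟩
    by_contra hne
    have hne' : g - c • f₀ ≠ 0 := fun h0 => hne (sub_eq_zero.mp h0)
    have hlt := hc.resolve_left hne'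
    have := (H (g - c • f₀) hne' (by omega)).1
    apply this
    rw [map_sub, map_smul, hg, hφf, smul_zero, sub_zero]
  · exact absurd hg (H g hg0 hν).1

theorem Shifts.finrank_map (h : Shifts o o' φ f₀) (V : Submodule k M) [FiniteDimensional k V]
    (hf : f₀ ∈ V) : Module.finrank k (V.map φ) + 1 = Module.finrank k V := by
  have hker : LinearMap.ker (φ.domRestrict V) = Submodule.span k {(⟨f₀, hf⟩ : V)} := by
    ext ⟨g, hg⟩
    rw [LinearMap.mem_ker, Submodule.mem_span_singleton]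
    constructor
    · intro h0
      obtain ⟨c, hc⟩ := h.ker (g := g) h0
      exact ⟨c, Subtype.ext hc.symm⟩
    · rintro ⟨c, hc⟩
      have : g = c • f₀ := (congrArg Subtype.val hc).symm
      show φ g = 0
      rw [this, map_smul, h.2.1, smul_zero]
  have h1 := LinearMap.finrank_range_add_finrank_ker (φ.domRestrict V)
  rw [hker, finrank_span_singleton (by
    intro h0
    exact h.1 (congrArg Subtype.val h0))] at h1
  have h2 : LinearMap.range (φ.domRestrict V) = V.map φ := by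
    ext x
    constructor
    · rintro ⟨⟨g, hg⟩, rfl⟩
      exact ⟨g, hg, rfl⟩
    · rintro ⟨g, hg, rfl⟩
      exact ⟨⟨g, hg⟩, rfl⟩
  rw [h2] at h1
  exact h1

theorem Shifts.att_iff (h : Shifts o o' φ f₀) (V : Submodule k M) (hf : f₀ ∈ V) (n : ℕ) :
    Att o' (V.map φ) n ↔ ∃ j, Att o V j ∧ j ≠ o.ν f₀ ∧ n + 1 = j + o.ν f₀ := by
  obtain ⟨hf0, hφf, H⟩ := h
  constructor
  · rintro ⟨u, ⟨g, hg, rfl⟩, hu0, hun⟩
    have hg0 : g ≠ 0 := by
      rintro rfl
      exact hu0 (map_zero φ)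
    by_cases hν : o.ν g = o.ν f₀
    · obtain ⟨c, hc⟩ := o.res g f₀ hg0 hf0 hν
      have hφ' : φ (g - c • f₀) = φ g := by rw [map_sub, map_smul, hφf, smul_zero, sub_zero]
      have hne' : g - c • f₀ ≠ 0 := by
        intro h0
        apply hu0
        rw [← hφ', h0, map_zero]
      have hlt := hc.resolve_left hne'
      have hH := H (g - c • f₀) hne' (by omega)
      refine ⟨o.ν (g - c • f₀), ⟨g - c • f₀, V.sub_mem hg (V.smul_mem c hf), hne', rfl⟩, by omega, ?_⟩
      rw [← hun, ← hφ']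
      exact hH.2
    · have hH := H g hg0 hν
      exact ⟨o.ν g, ⟨g, hg, hg0, rfl⟩, hν, by rw [← hun]; exact hH.2⟩
  · rintro ⟨j, ⟨g, hg, hg0, rfl⟩, hjμ, hn⟩
    have hH := H g hg0 hjμ
    exact ⟨φ g, ⟨g, hg, rfl⟩, hH.1, by omega⟩

open Classical in
/-- the weight formula. -/
theorem Shifts.wt_map (h : Shifts o o' φ f₀) (V : Submodule k M) [FiniteDimensional k V]
    (hf : f₀ ∈ V) {B B' r : ℕ} (hB : ∀ v ∈ V, v ≠ 0 → o.ν v ≤ B)
    (hB' : ∀ v ∈ V.map φ, v ≠ 0 → o'.ν v ≤ B') (hr : Module.finrank k V = r + 1) :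
    wt o' (V.map φ) B' + o.ν f₀ + r = wt o V B + r * o.ν f₀ := by
  haveI : FiniteDimensional k (V.map φ) := by
    have : V.map φ = LinearMap.range (φ.domRestrict V) := by
      ext x
      constructor
      · rintro ⟨g, hg, rfl⟩
        exact ⟨⟨g, hg⟩, rfl⟩
      · rintro ⟨⟨g, hg⟩, rfl⟩
        exact ⟨g, hg, rfl⟩
    rw [this]
    infer_instance
  set μ := o.ν f₀ with hμ
  rw [wt_eq_sum o' (V.map φ) hB', wt_eq_sum o V hB]
  have hμatt : μ ∈ attSet o V B := (mem_attSet o hB).mpr ⟨f₀, hf, h.1, rfl⟩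
  have himg : attSet o' (V.map φ) B' = ((attSet o V B).erase μ).image (fun j => j + μ - 1) := by
    ext n
    rw [mem_attSet o' hB', h.att_iff V hf n, mem_image]
    constructor
    · rintro ⟨j, hj, hjμ, hn⟩
      exact ⟨j, mem_erase.mpr ⟨hjμ, (mem_attSet o hB).mpr hj⟩, by omega⟩
    · rintro ⟨j, hj, hn⟩
      rw [mem_erase] at hj
      refine ⟨j, (mem_attSet o hB).mp hj.2, hj.1, ?_⟩
      have : j ≠ μ := hj.1
      omega
  have hinj : Set.InjOn (fun j => j + μ - 1) (((attSet o V B).erase μ : Finset ℕ) : Set ℕ) := by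
    intro a ha b hb hab
    have ha' : a ≠ μ := (mem_erase.mp ha).1
    have hb' : b ≠ μ := (mem_erase.mp hb).1
    simp only at hab
    omega
  rw [himg, sum_image hinj]
  have hcard : ((attSet o V B).erase μ).card = r := by
    rw [card_erase_of_mem hμatt, card_attSet o V hB, hr]; rfl
  have h1 : ∑ j ∈ (attSet o V B).erase μ, (j + μ - 1) + r =
      ∑ j ∈ (attSet o V B).erase μ, (j + μ) := by
    rw [← hcard, card_eq_sum_ones, ← sum_add_distrib]
    apply sum_congr rfl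
    intro j hj
    have : j ≠ μ := (mem_erase.mp hj).1
    omega
  have h2 : ∑ j ∈ (attSet o V B).erase μ, (j + μ) =
      ∑ j ∈ (attSet o V B).erase μ, j + r * μ := by
    rw [sum_add_distrib, sum_const, hcard, smul_eq_mul]
  have h3 : ∑ j ∈ (attSet o V B).erase μ, j + μ = ∑ j ∈ attSet o V B, j :=
    sum_erase_add _ _ hμatt
  omega

end Groth.Agent.Lib.Helper27.Plucker
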