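import Groth.Agent.Lib.Helper27.Plucker2

/-! The order function `rootMultiplicity a` on `k[X]` and the map `g ↦ g' f - g f'`. (helper27) -/

set_option autoImplicit false

namespace Groth.Agent.Lib.Helper27.Plucker

open Finset Polynomial

universe u

variable {k : Type u} [Field k]

/-- the order function `p ↦ rootMultiplicity a p`. -/
noncomputable def ordAt (a : k) : OrdFn k k[X] where
  ν p := p.rootMultiplicity a
  smul c hc p := by
    by_cases hp : p = 0
    · rw [hp, smul_zero]
    rw [smul_eq_C_mul, rootMultiplicity_mul (mul_ne_zero (C_ne_zero.mpr hc) hp),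
      rootMultiplicity_C, zero_add]
  add p q _ _ hpq := rootMultiplicity_add a hpq
  res p q hp hq h := by
    obtain ⟨p₁, hp₁, hp₁'⟩ := exists_eq_pow_rootMultiplicity_mul_and_not_dvd p hp a
    obtain ⟨q₁, hq₁, hq₁'⟩ := exists_eq_pow_rootMultiplicity_mul_and_not_dvd q hq a
    rw [dvd_iff_isRoot, IsRoot.def] at hp₁' hq₁'
    refine ⟨p₁.eval a / q₁.eval a, ?_⟩
    by_cases h0 : p - (p₁.eval a / q₁.eval a) • q = 0
    · exact Or.inl h0
    right
    show p.rootMultiplicity a < _
    rw [Nat.lt_iff_add_one_le, le_rootMultiplicity_iff h0]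
    have e : p - (p₁.eval a / q₁.eval a) • q =
        (X - C a) ^ p.rootMultiplicity a * (p₁ - C (p₁.eval a / q₁.eval a) * q₁) := by
      conv_lhs => rw [hp₁, hq₁, ← h, smul_eq_C_mul]
      ring
    rw [e, pow_succ]
    apply mul_dvd_mul_left
    rw [dvd_iff_isRoot, IsRoot.def, eval_sub, eval_mul, eval_C, div_mul_cancel₀ _ hq₁', sub_self]

@[simp] theorem ordAt_ν (a : k) (p : k[X]) : (ordAt a).ν p = p.rootMultiplicity a := rfl

/-- the map `g ↦ g' f - g f'`. -/
noncomputable def wr (f : k[X]) : k[X] →ₗ[k] k[X] :=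
  (LinearMap.mulRight k f) ∘ₗ (derivative : k[X] →ₗ[k] k[X]) -
    LinearMap.mulRight k (derivative f)

@[simp] theorem wr_apply (f g : k[X]) :
    wr f g = derivative g * f - g * derivative f := rfl

theorem wr_self (f : k[X]) : wr f f = 0 := by
  rw [wr_apply, mul_comm, sub_self]

theorem T_mul_derivative_pow (a : k) (m : ℕ) :
    (X - C a) * derivative ((X - C a) ^ m) = C (m : k) * (X - C a) ^ m := by
  rw [derivative_X_sub_C_pow]
  cases m with
  | zero => simp
  | succ m =>
    simp only [Nat.add_sub_cancel]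
    rw [pow_succ]; ring

/-- the key identity. -/
theorem T_mul_wr (a : k) (m μ : ℕ) (g₁ f₁ : k[X]) :
    (X - C a) * wr ((X - C a) ^ μ * f₁) ((X - C a) ^ m * g₁) =
      (X - C a) ^ (m + μ) * ((C (m : k) - C (μ : k)) * (g₁ * f₁) +
        (X - C a) * (derivative g₁ * f₁ - g₁ * derivative f₁)) := by
  rw [wr_apply, derivative_mul, derivative_mul]
  have h1 := T_mul_derivative_pow a m
  have h2 := T_mul_derivative_pow a μ
  rw [pow_add]
  linear_combination ((X - C a) ^ μ * f₁ * g₁) * h1 - ((X - C a) ^ m * g₁ * f₁) * h2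

variable [CharZero k]

theorem wr_shifts (a : k) {f : k[X]} (hf : f ≠ 0) : Shifts (ordAt a) (ordAt a) (wr f) f := by
  refine ⟨hf, wr_self f, ?_⟩
  intro g hg hne
  simp only [ordAt_ν] at hne ⊢
  obtain ⟨g₁, hg₁, hg₁'⟩ := exists_eq_pow_rootMultiplicity_mul_and_not_dvd g hg a
  obtain ⟨f₁, hf₁, hf₁'⟩ := exists_eq_pow_rootMultiplicity_mul_and_not_dvd f hf a
  rw [dvd_iff_isRoot, IsRoot.def] at hg₁' hf₁'
  set m := g.rootMultiplicity a with hm
  set μ := f.rootMultiplicity a with hμ
  have key := T_mul_wr a m μ g₁ f₁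
  rw [← hg₁, ← hf₁] at key
  set B : k[X] := (C (m : k) - C (μ : k)) * (g₁ * f₁) +
    (X - C a) * (derivative g₁ * f₁ - g₁ * derivative f₁) with hB
  have hBa : B.eval a ≠ 0 := by
    rw [hB]
    simp only [eval_add, eval_mul, eval_sub, eval_C, eval_X, sub_self, zero_mul, add_zero]
    refine mul_ne_zero ?_ (mul_ne_zero hg₁' hf₁')
    rw [sub_ne_zero]
    exact fun h => hne (Nat.cast_injective h)
  have hB0 : B ≠ 0 := by
    rintro h0
    rw [h0, eval_zero] at hBa
    exact hBa rfl
  have hT : (X - C a : k[X]) ≠ 0 := X_sub_C_ne_zero a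
  have hrhs : (X - C a) ^ (m + μ) * B ≠ 0 := mul_ne_zero (pow_ne_zero _ hT) hB0
  have hw0 : wr f g ≠ 0 := by
    intro h0
    rw [h0, mul_zero] at key
    exact hrhs key.symm
  refine ⟨hw0, ?_⟩
  have h1 : ((X - C a) * wr f g).rootMultiplicity a = 1 + (wr f g).rootMultiplicity a := by
    rw [rootMultiplicity_mul (mul_ne_zero hT hw0), rootMultiplicity_X_sub_C_self]
  have h2 : ((X - C a) ^ (m + μ) * B).rootMultiplicity a = m + μ := by
    rw [rootMultiplicity_mul hrhs, rootMultiplicity_X_sub_C_pow,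
      rootMultiplicity_eq_zero (by rwa [IsRoot.def]), add_zero]
  rw [key, h2] at h1
  omega

end Groth.Agent.Lib.Helper27.Plucker
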