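import Groth.Agent.Lib.Helper27.Plucker3
import Groth.Agent.Lib.Helper27.FunFld19

/-! The Plücker inequality for finite-dimensional spaces of polynomials in characteristic zero
(helper27). -/

set_option autoImplicit false

namespace Groth.Agent.Lib.Helper27.Plucker

open Finset Polynomial

universe u

variable {k : Type u} [Field k]

theorem nu_le {p : k[X]} (hp : p ≠ 0) (a : k) : p.rootMultiplicity a ≤ p.natDegree := by
  have h1 := pow_rootMultiplicity_dvd p a
  have h2 := natDegree_le_of_dvd h1 hp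
  rwa [natDegree_pow, natDegree_X_sub_C, mul_one] at h2

theorem bound_of_deg {V : Submodule k k[X]} {d : ℕ} (hV : ∀ p ∈ V, p.natDegree ≤ d) (a : k) :
    ∀ v ∈ V, v ≠ 0 → (ordAt a).ν v ≤ d := fun v hv hv0 => (nu_le hv0 a).trans (hV v hv)

theorem sum_rootMultiplicity_le {f : k[X]} (hf : f ≠ 0) (S : Finset k) :
    ∑ a ∈ S, f.rootMultiplicity a ≤ f.natDegree := by
  classical
  calc ∑ a ∈ S, f.rootMultiplicity a = ∑ a ∈ S, f.roots.count a := by
        apply sum_congr rfl; intro a _; rw [count_roots]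
    _ = ∑ a ∈ S ∩ f.roots.toFinset, f.roots.count a := by
        symm
        apply sum_subset inter_subset_left
        intro a ha ha'
        rw [Multiset.count_eq_zero]
        intro hmem
        exact ha' (mem_inter.mpr ⟨ha, Multiset.mem_toFinset.mpr hmem⟩)
    _ ≤ ∑ a ∈ f.roots.toFinset, f.roots.count a :=
        sum_le_sum_of_subset inter_subset_right
    _ = Multiset.card f.roots := Multiset.toFinset_sum_count_eq _
    _ ≤ f.natDegree := card_roots' f

open Classical in
theorem sum_rootMultiplicity_eq [IsAlgClosed k] {f : k[X]} (S : Finset k)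
    (hS : f.roots.toFinset ⊆ S) : ∑ a ∈ S, f.rootMultiplicity a = f.natDegree := by
  classical
  calc ∑ a ∈ S, f.rootMultiplicity a = ∑ a ∈ S, f.roots.count a := by
        apply sum_congr rfl; intro a _; rw [count_roots]
    _ = ∑ a ∈ f.roots.toFinset, f.roots.count a := by
        symm
        apply sum_subset hS
        intro a _ ha'
        rw [Multiset.count_eq_zero]
        intro hmem
        exact ha' (Multiset.mem_toFinset.mpr hmem)
    _ = Multiset.card f.roots := Multiset.toFinset_sum_count_eq _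
    _ = f.natDegree := ((IsAlgClosed.splits f).natDegree_eq_card_roots).symm

/-- weights are nonnegative. -/
theorem wt_ge (o : OrdFn k k[X]) (V : Submodule k k[X]) [FiniteDimensional k V] {d r : ℕ}
    (hB : ∀ v ∈ V, v ≠ 0 → o.ν v ≤ d) (hr : Module.finrank k V = r + 1) :
    r * (r + 1) / 2 ≤ wt o V d := by
  have h : (Module.finrank k (Fil o V 0)).choose 2 ≤
      ∑ n ∈ range d, Module.finrank k (Fil o V (1 + n)) :=
    Groth.Agent.Lib.Helper27.FF.tail_sum_ge
    (fun n => Module.finrank k (Fil o V n)) d (fun n => finrank_Fil_le o V n)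
    (by show Module.finrank k (Fil o V (d + 1)) = 0
        rw [Fil_eq_bot o hB (Nat.lt_succ_self d), finrank_bot]) d 0 (by omega)
  rw [Fil_zero, hr, Nat.choose_two_right, Nat.add_sub_cancel, mul_comm] at h
  refine h.trans (le_of_eq ?_)
  unfold wt
  apply sum_congr rfl
  intro n _
  rw [add_comm]

theorem finrank_le_of_deg {V : Submodule k k[X]} {e : ℕ} (hV : ∀ p ∈ V, p.natDegree ≤ e) :
    Module.finrank k V ≤ e + 1 := by
  have hle : V ≤ degreeLT k (e + 1) := by
    intro p hp
    rw [mem_degreeLT]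
    exact lt_of_le_of_lt degree_le_natDegree (by exact_mod_cast Nat.lt_succ_of_le (hV p hp))
  have h1 := Submodule.finrank_mono hle
  have h2 : Module.finrank k (degreeLT k (e + 1)) = e + 1 := by
    rw [(degreeLTEquiv k (e + 1)).finrank_eq]; simp
  omega

/-- degree bound for the Wronskian-type map when `f₀` has maximal degree. -/
theorem natDegree_wr_le {f₀ g : k[X]} {e : ℕ} (he : 1 ≤ e) (hf₀ : f₀.natDegree = e)
    (hg : g.natDegree ≤ e) : (wr f₀ g).natDegree ≤ 2 * e - 2 := by
  have hf0 : f₀ ≠ 0 := by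
    rintro rfl
    rw [natDegree_zero] at hf₀; omega
  set c : k := g.coeff e / f₀.leadingCoeff with hc
  set g₂ : k[X] := g - C c * f₀ with hg₂
  have hlc : f₀.leadingCoeff ≠ 0 := leadingCoeff_ne_zero.mpr hf0
  have hg₂deg : g₂.natDegree ≤ e - 1 := by
    rw [natDegree_le_iff_coeff_eq_zero]
    intro N hN
    rw [hg₂, coeff_sub, coeff_C_mul]
    rcases Nat.lt_or_ge e N with h | h
    · rw [coeff_eq_zero_of_natDegree_lt (lt_of_le_of_lt hg h),
        coeff_eq_zero_of_natDegree_lt (by omega), mul_zero, sub_zero]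
    · have hN' : N = e := by omega
      subst hN'
      have : f₀.coeff N = f₀.leadingCoeff := by rw [leadingCoeff, hf₀]
      rw [this, hc, div_mul_cancel₀ _ hlc, sub_self]
  have hw : wr f₀ g = wr f₀ g₂ := by
    rw [hg₂, map_sub, ← smul_eq_C_mul, map_smul, wr_self, smul_zero, sub_zero]
  rw [hw, wr_apply]
  refine (natDegree_sub_le _ _).trans (max_le ?_ ?_)
  · by_cases hd : derivative g₂ = 0
    · rw [hd, zero_mul, natDegree_zero]; exact Nat.zero_le _
    have h1 : 1 ≤ g₂.natDegree := by
      by_contra hlt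
      have h0 : g₂.natDegree = 0 := by omega
      rw [eq_C_of_natDegree_eq_zero h0, derivative_C] at hd
      exact hd rfl
    refine natDegree_mul_le.trans ?_
    have := natDegree_derivative_le g₂
    omega
  · refine natDegree_mul_le.trans ?_
    have := natDegree_derivative_le f₀
    omega

open Classical in
theorem exists_max_degree {V : Submodule k k[X]} {d : ℕ} (hV : ∀ p ∈ V, p.natDegree ≤ d)
    (hne : ∃ p ∈ V, p ≠ 0) :
    ∃ f₀ ∈ V, f₀ ≠ 0 ∧ ∀ p ∈ V, p.natDegree ≤ f₀.natDegree := by
  obtain ⟨p₀, hp₀, hp₀0⟩ := hne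
  let P : ℕ → Prop := fun n => ∃ p ∈ V, p ≠ 0 ∧ p.natDegree = n
  have h1 : P (Nat.findGreatest P d) :=
    Nat.findGreatest_spec (hV p₀ hp₀) ⟨p₀, hp₀, hp₀0, rfl⟩
  obtain ⟨f₀, hf₀, hf₀0, hdeg⟩ := h1
  refine ⟨f₀, hf₀, hf₀0, ?_⟩
  intro p hp
  by_cases hp0 : p = 0
  · rw [hp0, natDegree_zero]; exact Nat.zero_le _
  rw [hdeg]
  exact Nat.le_findGreatest (hV p hp) ⟨p, hp, hp0, rfl⟩

end Groth.Agent.Lib.Helper27.Plucker
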