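import Mathlib
import Groth.Prelude
import Groth.Agent.S4815
import Groth.Agent.S4818
import Groth.Agent.Lib.Helper12.ChowQcqs
import Groth.Agent.Lib.Helper1.ProjSpaceFT

/-!
# Descent of a projective scheme to a member of a directed family of subrings (B for S7943)
-/

set_option autoImplicit false
set_option backward.isDefEq.respectTransparency false
universe u
open CategoryTheory CategoryTheory.Limits AlgebraicGeometry Opposite

namespace Groth.Agent.Lib.Helper27.ProjDescB

open Groth.Agent.Lib.Helper1.ProjSpaceFT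

section Ring

variable {A : Type u} [CommRing A] {ι : Type u} [Preorder ι]
  (R : ι → Type u) [∀ i, CommRing (R i)] (φ : ∀ i, R i →+* A)
  (hφ : ∀ i, Function.Injective (φ i))
  (hmono : ∀ i j, i ≤ j → ∃ ψ : R i →+* R j, (φ j).comp ψ = φ i)

/-- the transition maps -/
noncomputable def tr {i j : ι} (h : i ≤ j) : R i →+* R j := (hmono i j h).choose

lemma φ_tr {i j : ι} (h : i ≤ j) (x : R i) : φ j (tr R φ hmono h x) = φ i x :=
  congr($((hmono i j h).choose_spec) x)

/-- the diagram of rings -/
noncomputable def ringDiag (hφ : ∀ i, Function.Injective (φ i)) : ι ⥤ CommRingCat.{u} where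
  obj i := CommRingCat.of (R i)
  map {i j} f := CommRingCat.ofHom (tr R φ hmono (leOfHom f))
  map_id i := by
    ext x
    apply hφ i
    simp [φ_tr]
  map_comp f g := by
    ext x
    apply hφ _
    simp [φ_tr]

/-- the cocone with vertex `A` -/
noncomputable def ringCocone : Cocone (ringDiag R φ hmono hφ) where
  pt := CommRingCat.of A
  ι :=
    { app := fun i => CommRingCat.ofHom (φ i)
      naturality := fun i j f => by
        ext x
        simp [ringDiag, φ_tr] }

/-- `A` is the colimit. -/
noncomputable def isColimitRingCocone [IsDirected ι (· ≤ ·)] [Nonempty ι]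
    (hcov : ∀ a : A, ∃ i, a ∈ (φ i).range) : IsColimit (ringCocone R φ hφ hmono) := by
  haveI : ReflectsColimit (ringDiag R φ hmono hφ) (forget CommRingCat.{u}) :=
    reflectsColimit_of_reflectsIsomorphisms _ _
  apply isColimitOfReflects (forget CommRingCat.{u})
  apply Types.FilteredColimit.isColimitOf
  · intro x
    obtain ⟨i, y, rfl⟩ := hcov x
    exact ⟨i, y, rfl⟩
  · intro i j b c h
    obtain ⟨k, hik, hjk⟩ := exists_ge_ge i j
    refine ⟨k, homOfLE hik, homOfLE hjk, ?_⟩
    apply hφ k
    show φ k (tr R φ hmono hik b) = φ k (tr R φ hmono hjk c)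
    rw [φ_tr, φ_tr]
    exact h

/-- The diagram of spectra. -/
noncomputable def specDiag : ιᵒᵖ ⥤ Scheme.{u} := (ringDiag R φ hmono hφ).op ⋙ Scheme.Spec

/-- The cone with vertex `Spec A`. -/
noncomputable def specCone : Cone (specDiag R φ hφ hmono) :=
  Scheme.Spec.mapCone (ringCocone R φ hφ hmono).op

/-- `Spec A` is the limit. -/
noncomputable def isLimitSpecCone [IsDirected ι (· ≤ ·)] [Nonempty ι]
    (hcov : ∀ a : A, ∃ i, a ∈ (φ i).range) : IsLimit (specCone R φ hφ hmono) :=
  isLimitOfPreserves Scheme.Spec (isColimitRingCocone R φ hφ hmono hcov).op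

lemma specDiag_obj (i : ιᵒᵖ) :
    (specDiag R φ hφ hmono).obj i = Spec (CommRingCat.of (R i.unop)) := rfl

lemma specCone_pt : (specCone R φ hφ hmono).pt = Spec (CommRingCat.of A) := rfl

lemma specCone_π_app (i : ιᵒᵖ) :
    (specCone R φ hφ hmono).π.app i = Spec.map (CommRingCat.ofHom (φ i.unop)) := rfl

instance (i : ιᵒᵖ) : IsAffine ((specDiag R φ hφ hmono).obj i) := by
  rw [specDiag_obj]; infer_instance

instance (i j : ιᵒᵖ) (f : i ⟶ j) : IsAffineHom ((specDiag R φ hφ hmono).map f) :=
  isAffineHom_of_isAffine _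

end Ring

section Pn

open Groth.Agent.Lib.Helper12.ChowQcqs

variable (n : ℕ) {I : Type u} [Category.{u} I] (D : I ⥤ Scheme.{u})

lemma projMap_fst {T S : Scheme.{u}} (g : T ⟶ S) :
    FGA.projMap n g ≫ pullback.fst (CohB1.ProjSpace.toSpec n (ULift.{u} ℤ))
      (specULiftZIsTerminal.from S) = pullback.fst _ _ := by
  simp [FGA.projMap]

lemma projMap_snd {T S : Scheme.{u}} (g : T ⟶ S) :
    FGA.projMap n g ≫ CohB1.ProjSpaceOver.toBase n S = CohB1.ProjSpaceOver.toBase n T ≫ g := by
  simp [FGA.projMap, CohB1.ProjSpaceOver.toBase]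

lemma projMap_id (S : Scheme.{u}) : FGA.projMap n (𝟙 S) = 𝟙 _ := by
  unfold CohB1.ProjSpaceOver
  apply pullback.hom_ext
  · rw [projMap_fst]
    exact (Category.id_comp _).symm
  · have := projMap_snd n (𝟙 S)
    simp only [CohB1.ProjSpaceOver.toBase] at this
    rw [this, Category.comp_id]
    exact (Category.id_comp _).symm

lemma projMap_comp {T S V : Scheme.{u}} (g : T ⟶ S) (h : S ⟶ V) :
    FGA.projMap n (g ≫ h) = FGA.projMap n g ≫ FGA.projMap n h := by
  unfold CohB1.ProjSpaceOver
  apply pullback.hom_ext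
  · rw [projMap_fst, Category.assoc, projMap_fst, projMap_fst]
  · have h1 := projMap_snd n (g ≫ h)
    have h2 := projMap_snd n g
    have h3 := projMap_snd n h
    simp only [CohB1.ProjSpaceOver.toBase] at h1 h2 h3
    rw [h1, Category.assoc, h3, reassoc_of% h2]

/-- the diagram of projective spaces -/
noncomputable def pnDiag : I ⥤ Scheme.{u} where
  obj i := CohB1.ProjSpaceOver n (D.obj i)
  map f := FGA.projMap n (D.map f)
  map_id i := by rw [D.map_id, projMap_id]
  map_comp f g := by rw [D.map_comp, projMap_comp]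

/-- the structure maps -/
noncomputable def pnDiagToBase : pnDiag n D ⟶ D where
  app i := CohB1.ProjSpaceOver.toBase n (D.obj i)
  naturality _ _ f := projMap_snd n (D.map f)

/-- the cone of projective spaces -/
noncomputable def pnCone (c : Cone D) : Cone (pnDiag n D) where
  pt := CohB1.ProjSpaceOver n c.pt
  π :=
    { app := fun i => FGA.projMap n (c.π.app i)
      naturality := fun i j f => by
        show 𝟙 _ ≫ FGA.projMap n (c.π.app j) = FGA.projMap n (c.π.app i) ≫ FGA.projMap n (D.map f)
        rw [Category.id_comp, ← projMap_comp, c.w] }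

/-- the cone of projective spaces is limiting -/
noncomputable def isLimitPnCone [IsConnected I] (c : Cone D) (hc : IsLimit c) :
    IsLimit (pnCone n D c) :=
  isLimitOfIsPullbackOfIsConnected (pnDiagToBase n D) (pnCone n D c) c
    { hom := CohB1.ProjSpaceOver.toBase n c.pt
      w := fun i => (projMap_snd n (c.π.app i)).symm }
    (fun i => isPullback_projMap n (c.π.app i)) hc

instance isProper_toSpec' (R : Type u) [CommRing R] :
    IsProper (CohB1.ProjSpace.toSpec n R) := by
  haveI : IsClosedImmersion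
      (Spec.map (CommRingCat.ofHom (algebraMap R ↥(CohB1.polyGrading n R 0)))) :=
    IsClosedImmersion.spec_of_surjective _ (algebraMap_polyGrading_zero_surjective n R)
  change IsProper (Proj.toSpecZero (CohB1.polyGrading n R) ≫
    Spec.map (CommRingCat.ofHom (algebraMap R ↥(CohB1.polyGrading n R 0))))
  infer_instance

instance isProper_toBase' (S : Scheme.{u}) : IsProper (CohB1.ProjSpaceOver.toBase n S) :=
  MorphismProperty.pullback_snd _ _ (isProper_toSpec' n (ULift.{u} ℤ))

instance isAffineHom_pnDiag_map [∀ (i j : I) (f : i ⟶ j), IsAffineHom (D.map f)]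
    (i j : I) (f : i ⟶ j) : IsAffineHom ((pnDiag n D).map f) :=
  MorphismProperty.of_isPullback (P := @IsAffineHom) (isPullback_projMap n (D.map f)).flip
    inferInstance

instance compactSpace_pnDiag_obj (i : I) [CompactSpace (D.obj i)] :
    CompactSpace ((pnDiag n D).obj i) :=
  QuasiCompact.compactSpace_of_compactSpace (CohB1.ProjSpaceOver.toBase n (D.obj i))

instance quasiSeparatedSpace_pnDiag_obj (i : I) [QuasiSeparatedSpace (D.obj i)] :
    QuasiSeparatedSpace ((pnDiag n D).obj i) :=
  quasiSeparatedSpace_of_quasiSeparated (CohB1.ProjSpaceOver.toBase n (D.obj i))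

end Pn

/-- A morphism locally of finite type to a locally Noetherian scheme is locally of finite
presentation. -/
theorem lfp_of_noeth {X Y : Scheme.{u}} (f : X ⟶ Y)
    [IsLocallyNoetherian Y] [LocallyOfFiniteType f] : LocallyOfFinitePresentation f := by
  rw [HasRingHomProperty.iff_appLE (P := @LocallyOfFinitePresentation)]
  intro V U e
  haveI : IsNoetherianRing Γ(Y, V.1) := IsLocallyNoetherian.component_noetherian V
  exact RingHom.FinitePresentation.of_finiteType.mp
    (HasRingHomProperty.appLE (P := @LocallyOfFiniteType) f inferInstance V U e)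

/-- (B) geometric descent of a projective scheme to a member of a directed family of subrings. -/
theorem exists_projective_descent {A : Type u} [CommRing A] [IsNoetherianRing A]
    {ι : Type u} [Preorder ι] [IsDirected ι (· ≤ ·)] [Nonempty ι]
    (R : ι → Type u) [∀ i, CommRing (R i)] (φ : ∀ i, R i →+* A)
    (hφ : ∀ i, Function.Injective (φ i))
    (hmono : ∀ i j, i ≤ j → ∃ ψ : R i →+* R j, (φ j).comp ψ = φ i)
    (hcov : ∀ a : A, ∃ i, a ∈ (φ i).range)
    {X : Scheme.{u}} (p : X ⟶ Spec (CommRingCat.of A)) (hp : Neron.IsProjectiveOver A (Over.mk p)) :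
    ∃ (i : ι) (X' : Scheme.{u}) (p' : X' ⟶ Spec (CommRingCat.of (R i)))
      (_ : Neron.IsProjectiveOver (R i) (Over.mk p'))
      (e : X ≅ pullback p' (Spec.map (CommRingCat.ofHom (φ i)))),
      e.hom ≫ pullback.snd p' (Spec.map (CommRingCat.ofHom (φ i))) = p := by
  obtain ⟨n, i, hi, hip⟩ := hp
  change X ⟶ CohB1.ProjSpaceOver n (Spec (CommRingCat.of A)) at i
  change i ≫ CohB1.ProjSpaceOver.toBase n (Spec (CommRingCat.of A)) = p at hip
  let D := specDiag R φ hφ hmono
  let c := specCone R φ hφ hmono
  have hc : IsLimit c := isLimitSpecCone R φ hφ hmono hcov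
  haveI : IsConnected ιᵒᵖ := IsCofiltered.isConnected _
  let D' := pnDiag n D
  let c' := pnCone n D c
  have hc' : IsLimit c' := isLimitPnCone n D c hc
  let i₀ : ιᵒᵖ := op (Classical.arbitrary ι)
  haveI : IsLocallyNoetherian (CohB1.ProjSpaceOver n (Spec (CommRingCat.of A))) :=
    LocallyOfFiniteType.isLocallyNoetherian (CohB1.ProjSpaceOver.toBase n _)
  haveI : LocallyOfFinitePresentation i := lfp_of_noeth i
  obtain ⟨j, _, Zj, ιj, q, h1, h2, h3, hpb⟩ := Groth.Agent.S4815.result D' c' hc' i₀ (ι := i)
  haveI := h1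
  haveI := h2
  haveI := h3
  have hcl : IsClosedImmersion (pullback.snd ιj (c'.π.app j)) := by
    have e : pullback.snd ιj (c'.π.app j) = hpb.isoPullback.inv ≫ i := by simp
    rw [e]
    infer_instance
  obtain ⟨j', f, hcl'⟩ := (Groth.Agent.S4818.result D' c' hc' j ιj).mp hcl
  let Z' := pullback ιj (D'.map f)
  have hw : c'.π.app j' ≫ D'.map f = c'.π.app j := c'.w f
  let q' : X ⟶ Z' := pullback.lift q (i ≫ c'.π.app j')
    (by rw [Category.assoc, hw]; exact hpb.w)
  have hq'1 : q' ≫ pullback.fst ιj (D'.map f) = q := pullback.lift_fst _ _ _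
  have hq'2 : q' ≫ pullback.snd ιj (D'.map f) = i ≫ c'.π.app j' := pullback.lift_snd _ _ _
  have sq1 : IsPullback q' i (pullback.snd ιj (D'.map f)) (c'.π.app j') := by
    refine IsPullback.of_right ?_ hq'2 (IsPullback.of_hasPullback ιj (D'.map f))
    rw [hq'1, hw]
    exact hpb
  have sq2 : IsPullback (c'.π.app j')
      (CohB1.ProjSpaceOver.toBase n (Spec (CommRingCat.of A)))
      (CohB1.ProjSpaceOver.toBase n (Spec (CommRingCat.of (R j'.unop))))
      (Spec.map (CommRingCat.ofHom (φ j'.unop))) :=
    Groth.Agent.Lib.Helper12.ChowQcqs.isPullback_projMap n (c.π.app j')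
  have sq3 := sq1.paste_vert sq2
  rw [hip] at sq3
  exact ⟨j'.unop, Z', pullback.snd ιj (D'.map f) ≫ CohB1.ProjSpaceOver.toBase n _,
    ⟨n, pullback.snd ιj (D'.map f), hcl', rfl⟩, sq3.isoPullback, sq3.isoPullback_hom_snd⟩

end Groth.Agent.Lib.Helper27.ProjDescB
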