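import Mathlib
import Groth.Prelude.Def_Smoothing
import Groth.Agent.Lib.Helper27.PopG
import Groth.Agent.Lib.Helper27.DvrA

/-!
# The top case: if the singular ideal of `A` generates the unit ideal of `Λ`, then `A → Λ`
factors through a smooth algebra (no locality assumption on `Λ`)
-/

namespace Groth.Agent.Lib.Helper27.PtA

open Smoothing
open Groth.Agent.Lib.Helper27 Groth.Agent.Lib.Helper27.DvrA

universe u

theorem smooth_Bs_one {R A : Type u} [CommRing R] [CommRing A] [Algebra R A]
    [Algebra.FinitePresentation R A] {r : ℕ} (a : Fin r → A)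
    (ha : ∀ j, a j ∈ singularIdeal R A) : Algebra.Smooth R (Bs (1 : A) a) := by
  refine ⟨?_, inferInstance⟩
  rw [← Algebra.smoothLocus_eq_univ_iff]
  rw [Set.eq_univ_iff_forall]
  intro Q
  have hex : ∃ j, algebraMap A (Bs (1 : A) a) (a j) ∉ Q.asIdeal := by
    by_contra hcon
    push Not at hcon
    have h1 : algebraMap A (Bs (1 : A) a) 1 ∈ Q.asIdeal := by
      rw [rel_eq]
      exact Ideal.sum_mem _ fun j _ => Ideal.mul_mem_right _ _ (hcon j)
    rw [map_one] at h1
    exact Q.isPrime.ne_top ((Ideal.eq_top_iff_one _).mpr h1)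
  obtain ⟨j, hj⟩ := hex
  haveI hsm : Algebra.Smooth R (Localization.Away (a j)) :=
    (PopG.mem_singularIdeal_iff (a j)).mp (ha j)
  haveI : Algebra.FormallySmooth R (Localization.Away (a j)) := hsm.1
  have hsm' : Algebra.Smooth R (Localization.Away (algebraMap A (Bs (1 : A) a) (a j))) :=
    smooth_chart (R := R) (1 : A) a j
  have hsub := Algebra.basicOpen_subset_smoothLocus_iff_smooth.mpr hsm'
  exact hsub hj

theorem factor_of_map_eq_top {R A Λ : Type u} [CommRing R] [CommRing A] [Algebra R A]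
    [Algebra.FinitePresentation R A] [CommRing Λ] [Algebra R Λ] (φ : A →ₐ[R] Λ)
    (htop : (singularIdeal R A).map φ = ⊤) :
    ∃ (B : Type u) (_ : CommRing B) (_ : Algebra R B), Algebra.Smooth R B ∧
      ∃ (g : A →ₐ[R] B) (h : B →ₐ[R] Λ), h.comp g = φ := by
  classical
  have h1 : (1 : Λ) ∈ (singularIdeal R A).map φ := by rw [htop]; trivial
  -- write `1` as a finite combination
  have h2 : (1 : Λ) ∈ Ideal.span (φ '' (singularIdeal R A : Set A)) := h1
  obtain ⟨n, f, g, hfg⟩ := Submodule.mem_span_set'.mp h2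
  have hg : ∀ i : Fin n, ∃ x : A, x ∈ singularIdeal R A ∧ φ x = (g i : Λ) := by
    intro i
    obtain ⟨x, hx, hxe⟩ := (g i).2
    exact ⟨x, hx, hxe⟩
  choose a ha hφa using hg
  have hrel : φ (1 : A) = ∑ j, φ (a j) * f j := by
    rw [map_one, ← hfg]
    refine Finset.sum_congr rfl fun j _ => ?_
    rw [hφa, smul_eq_mul, mul_comm]
  haveI := smooth_Bs_one (R := R) a ha
  refine ⟨Bs (1 : A) a, inferInstance, inferInstance, inferInstance,
    IsScalarTower.toAlgHom R A (Bs (1 : A) a), liftS (1 : A) a φ f hrel, ?_⟩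
  ext x
  exact liftS_algebraMap_A (1 : A) a φ f hrel x

theorem factor_of_singRad_eq_top {R A Λ : Type u} [CommRing R] [CommRing A] [Algebra R A]
    [Algebra.FinitePresentation R A] [CommRing Λ] [Algebra R Λ] (φ : A →ₐ[R] Λ)
    (htop : singRad R φ = ⊤) :
    ∃ (B : Type u) (_ : CommRing B) (_ : Algebra R B), Algebra.Smooth R B ∧
      ∃ (g : A →ₐ[R] B) (h : B →ₐ[R] Λ), h.comp g = φ := by
  apply factor_of_map_eq_top φ
  rw [← Ideal.radical_eq_top]
  exact htop

end Groth.Agent.Lib.Helper27.PtA
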