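import Mathlib
import Groth.Prelude.Def_Smoothing
import Groth.Agent.Lib.Helper27.PtA

/-!
# Noetherian induction: if all local problems can be resolved, `Λ` is ind-smooth
(no locality assumption on `Λ`)
-/

namespace Groth.Agent.Lib.Helper27.PtB

open Smoothing

universe u

theorem indSmooth_of_forall_resolvable {R Λ : Type u} [CommRing R] [CommRing Λ] [Algebra R Λ]
    [IsNoetherianRing Λ]
    (H : ∀ (A : Type u) [CommRing A] [Algebra R A], Algebra.FinitePresentation R A →
      ∀ (φ : A →ₐ[R] Λ) (𝔮 : Ideal Λ) [𝔮.IsPrime], 𝔮 ∈ (singRad R φ).minimalPrimes →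
        Resolvable R φ 𝔮) : IndSmooth R Λ := by
  have key : ∀ J : Ideal Λ, ∀ (A : Type u) [CommRing A] [Algebra R A],
      Algebra.FinitePresentation R A → ∀ φ : A →ₐ[R] Λ, singRad R φ = J →
      ∃ (B : Type u) (_ : CommRing B) (_ : Algebra R B), Algebra.Smooth R B ∧
        ∃ (g : A →ₐ[R] B) (h : B →ₐ[R] Λ), h.comp g = φ := by
    intro J
    induction J using WellFoundedGT.induction with
    | ind J ih =>
      intro A _ _ hfp φ hJ
      haveI := hfp
      by_cases htop : J = ⊤
      · exact PtA.factor_of_singRad_eq_top φ (hJ.trans htop)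
      · obtain ⟨M, hM, hJM⟩ := Ideal.exists_le_maximal J htop
        haveI := hM.isPrime
        obtain ⟨𝔮, h𝔮, -⟩ := Ideal.exists_minimalPrimes_le hJM
        haveI : 𝔮.IsPrime := h𝔮.1.1
        obtain ⟨B, _, _, hfpB, g, h, hgh, hle, hnot⟩ := H A hfp φ 𝔮 (by rw [hJ]; exact h𝔮)
        have hlt : J < singRad R h := by
          refine lt_of_le_of_ne (by rw [← hJ]; exact hle) ?_
          intro heq
          apply hnot
          rw [← heq]
          exact h𝔮.1.2
        obtain ⟨B', _, _, hsm, g', h', hgh'⟩ := ih (singRad R h) hlt B hfpB h rfl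
        exact ⟨B', inferInstance, inferInstance, hsm, g'.comp g, h', by
          rw [← AlgHom.comp_assoc, hgh', hgh]⟩
  intro A _ _ hfp φ
  exact key _ A hfp φ rfl

end Groth.Agent.Lib.Helper27.PtB
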