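import Mathlib
import Groth.Agent.Lib.Helper8.LocalCriterion

/-!
# Flatness over a ring with a nilpotent "regular system of parameters"
-/

namespace Groth.Agent.Lib.Helper27.SepD

open TensorProduct

universe u

section onestep

variable {R' : Type u} [CommRing R'] {M : Type u} [AddCommGroup M] [Module R' M]

theorem flat_of_principal_nilpotent (x : R') (e : ℕ) (he : x ^ e = 0) (he1 : 1 ≤ e)
    (hker : ∀ m : M, x • m = 0 → ∃ m', m = x ^ (e - 1) • m')
    (H1 : Module.Flat (R' ⧸ Ideal.span {x}) ((R' ⧸ Ideal.span {x}) ⊗[R'] M)) :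
    Module.Flat R' M := by
  let I : Ideal R' := Ideal.span {x}
  have hI : IsNilpotent I := ⟨e, by
    show Ideal.span {x} ^ e = 0
    rw [Ideal.span_singleton_pow, he]
    exact Ideal.span_singleton_eq_bot.mpr rfl⟩
  refine Groth.Agent.Lib.Helper8.flat_of_isNilpotent I hI H1 ?_
  let X0 : I := ⟨x, Ideal.mem_span_singleton_self x⟩
  have hform : ∀ z : I ⊗[R'] M, ∃ m : M, z = X0 ⊗ₜ[R'] m := by
    intro z
    induction z using TensorProduct.induction_on with
    | zero => exact ⟨0, (TensorProduct.tmul_zero _ _).symm⟩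
    | tmul y m =>
      obtain ⟨y, hy⟩ := y
      obtain ⟨c, rfl⟩ := Ideal.mem_span_singleton'.mp hy
      refine ⟨c • m, ?_⟩
      have : (⟨c * x, hy⟩ : I) = c • X0 := Subtype.ext (by simp [X0])
      rw [this, TensorProduct.smul_tmul]
    | add z w hz hw =>
      obtain ⟨m, rfl⟩ := hz
      obtain ⟨m', rfl⟩ := hw
      exact ⟨m + m', (TensorProduct.tmul_add _ _ _).symm⟩
  rw [injective_iff_map_eq_zero]
  intro z hz
  obtain ⟨m, rfl⟩ := hform z
  rw [LinearMap.rTensor_tmul] at hz
  have h1 : x • m = 0 := by
    have := congrArg (TensorProduct.lid R' M) hz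
    simpa using this
  obtain ⟨m', rfl⟩ := hker m h1
  rw [← TensorProduct.smul_tmul]
  have : x ^ (e - 1) • X0 = 0 := by
    apply Subtype.ext
    show x ^ (e - 1) * x = 0
    rw [← pow_succ, Nat.sub_add_cancel he1, he]
  rw [this, TensorProduct.zero_tmul]

end onestep

section translate

variable {R' : Type u} [CommRing R'] {M : Type u} [AddCommGroup M] [Module R' M] (I : Ideal R')

/-- translation of ideal-times-top membership between `M` and `M ⧸ I M`. -/
theorem mk_mem_map_smul_top_iff (𝔞 : Ideal R') (m : M) :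
    (Submodule.Quotient.mk m : M ⧸ (I • (⊤ : Submodule R' M))) ∈
        (𝔞.map (Ideal.Quotient.mk I)) • (⊤ : Submodule (R' ⧸ I) (M ⧸ (I • (⊤ : Submodule R' M)))) ↔
      m ∈ (I ⊔ 𝔞) • (⊤ : Submodule R' M) := by
  let q : M →ₗ[R'] M ⧸ (I • (⊤ : Submodule R' M)) := (I • (⊤ : Submodule R' M)).mkQ
  constructor
  · intro h
    have key : ∀ y ∈ (𝔞.map (Ideal.Quotient.mk I)) •
        (⊤ : Submodule (R' ⧸ I) (M ⧸ (I • (⊤ : Submodule R' M)))),
        ∃ m' ∈ 𝔞 • (⊤ : Submodule R' M), q m' = y := by
      intro y hy
      refine Submodule.smul_induction_on hy ?_ ?_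
      · intro rb hrb yb _
        obtain ⟨r, hr, rfl⟩ := (Ideal.mem_map_iff_of_surjective _ Ideal.Quotient.mk_surjective).mp hrb
        obtain ⟨y', rfl⟩ := Submodule.Quotient.mk_surjective _ yb
        exact ⟨r • y', Submodule.smul_mem_smul hr Submodule.mem_top, rfl⟩
      · rintro y₁ y₂ ⟨m₁, hm₁, rfl⟩ ⟨m₂, hm₂, rfl⟩
        exact ⟨m₁ + m₂, add_mem hm₁ hm₂, map_add _ _ _⟩
    obtain ⟨m', hm', hq⟩ := key _ h
    have h2 : m - m' ∈ I • (⊤ : Submodule R' M) := by
      have : q (m - m') = 0 := by
        rw [map_sub, hq]; exact sub_self _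
      exact (Submodule.Quotient.mk_eq_zero _).mp this
    have : m = (m - m') + m' := by abel
    rw [this, Submodule.sup_smul]
    exact Submodule.add_mem_sup h2 hm'
  · intro h
    rw [Submodule.sup_smul] at h
    obtain ⟨m₁, hm₁, m₂, hm₂, rfl⟩ := Submodule.mem_sup.mp h
    have h1 : (Submodule.Quotient.mk (m₁ + m₂) : M ⧸ (I • (⊤ : Submodule R' M))) =
        Submodule.Quotient.mk m₂ := by
      rw [Submodule.Quotient.mk_add, (Submodule.Quotient.mk_eq_zero _).mpr hm₁, zero_add]
    rw [h1]
    refine Submodule.smul_induction_on hm₂ ?_ ?_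
    · intro r hr y _
      have : (Submodule.Quotient.mk (r • y) : M ⧸ (I • (⊤ : Submodule R' M))) =
          (Ideal.Quotient.mk I r) • (Submodule.Quotient.mk y : M ⧸ (I • (⊤ : Submodule R' M))) := rfl
      rw [this]
      exact Submodule.smul_mem_smul (Ideal.mem_map_of_mem _ hr) Submodule.mem_top
    · intro y₁ y₂ h₁ h₂
      rw [Submodule.Quotient.mk_add]
      exact add_mem h₁ h₂

/-- `(R'/I) ⊗ M ≃ M/IM` as `R'/I`-modules. -/
noncomputable def quotTensorEquiv :
    ((R' ⧸ I) ⊗[R'] M) ≃ₗ[R' ⧸ I] (M ⧸ (I • (⊤ : Submodule R' M))) :=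
  { TensorProduct.quotTensorEquivQuotSMul M I with
    map_smul' := by
      intro rb z
      obtain ⟨r, rfl⟩ := Ideal.Quotient.mk_surjective rb
      show TensorProduct.quotTensorEquivQuotSMul M I (Ideal.Quotient.mk I r • z) =
        Ideal.Quotient.mk I r • TensorProduct.quotTensorEquivQuotSMul M I z
      have h1 : Ideal.Quotient.mk I r • z = r • z := by
        rw [← Ideal.Quotient.algebraMap_eq, algebraMap_smul]
      have h2 : ∀ y : M ⧸ (I • (⊤ : Submodule R' M)), Ideal.Quotient.mk I r • y = r • y := by
        intro y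
        rw [← Ideal.Quotient.algebraMap_eq, algebraMap_smul]
      rw [h1, h2, map_smul] }

end translate

theorem flat_of_regular : ∀ (d : ℕ) (R' : Type u) [CommRing R'] (M : Type u) [AddCommGroup M]
    [Module R' M] (x : Fin d → R') (e : ℕ), 1 ≤ e → (∀ i, x i ^ e = 0) →
    (Ideal.span (Set.range x)).IsMaximal →
    (∀ i : Fin d, ∀ m : M, x i • m ∈ (Ideal.span (x '' {j | j < i})) • (⊤ : Submodule R' M) →
        m ∈ (Ideal.span (x '' {j | j < i}) ⊔ Ideal.span {x i ^ (e - 1)}) •
          (⊤ : Submodule R' M)) →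
    Module.Flat R' M := by
  intro d
  induction d with
  | zero =>
    intro R' _ M _ _ x e _ _ hmax _
    have hbot : Ideal.span (Set.range x) = ⊥ := by
      rw [Ideal.span_eq_bot]
      rintro _ ⟨i, rfl⟩
      exact Fin.elim0 i
    rw [hbot] at hmax
    rw [Module.Flat.iff_rTensor_injective']
    intro J
    by_cases hJ : J = ⊤
    · subst hJ
      exact Groth.Agent.Lib.Helper8.rInj_top M
    · have hJ0 : J = ⊥ := (hmax.eq_of_le hJ bot_le).symm
      subst hJ0
      intro z w _
      have : Subsingleton ((⊥ : Ideal R') ⊗[R'] M) := by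
        have h0 : ∀ y : (⊥ : Ideal R'), y = 0 := fun y => Subtype.ext ((Submodule.mem_bot R').mp y.2)
        refine ⟨fun z w => ?_⟩
        have hz : ∀ z : (⊥ : Ideal R') ⊗[R'] M, z = 0 := by
          intro z
          induction z using TensorProduct.induction_on with
          | zero => rfl
          | tmul y m => rw [h0 y, TensorProduct.zero_tmul]
          | add a b ha hb => rw [ha, hb, add_zero]
        rw [hz z, hz w]
      exact Subsingleton.elim _ _
  | succ d ih =>
    intro R' _ M _ _ x e he1 he hmax hreg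
    let x₀ : R' := x 0
    let I : Ideal R' := Ideal.span {x₀}
    have hset0 : {j : Fin (d + 1) | j < 0} = ∅ := by
      ext j; simp
    refine flat_of_principal_nilpotent x₀ e (he 0) he1 ?_ ?_
    · intro m hm
      have h1 := hreg 0 m (by
        rw [hset0, Set.image_empty, Ideal.span_empty, Submodule.bot_smul]
        exact (Submodule.mem_bot R').mpr hm)
      rw [hset0, Set.image_empty, Ideal.span_empty, bot_sup_eq,
        Submodule.ideal_span_singleton_smul] at h1
      obtain ⟨m', -, hm'⟩ := (Submodule.mem_smul_pointwise_iff_exists _ _ _).mp h1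
      exact ⟨m', hm'.symm⟩
    · -- the quotient situation
      let R'' := R' ⧸ I
      let M'' := M ⧸ (I • (⊤ : Submodule R' M))
      let x'' : Fin d → R'' := fun i => Ideal.Quotient.mk I (x i.succ)
      have hrange : Set.range x = insert x₀ (Set.range fun i : Fin d => x i.succ) := by
        ext y
        constructor
        · rintro ⟨i, rfl⟩
          refine Fin.cases ?_ (fun j => ?_) i
          · exact Set.mem_insert _ _
          · exact Set.mem_insert_of_mem _ ⟨j, rfl⟩
        · rintro (rfl | ⟨j, rfl⟩)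
          · exact ⟨0, rfl⟩
          · exact ⟨j.succ, rfl⟩
      have hmax'' : (Ideal.span (Set.range x'')).IsMaximal := by
        have h1 : Ideal.span (Set.range x'') =
            (Ideal.span (Set.range x)).map (Ideal.Quotient.mk I) := by
          rw [Ideal.map_span, hrange, Set.image_insert_eq]
          have h0 : Ideal.Quotient.mk I x₀ = 0 :=
            Ideal.Quotient.eq_zero_iff_mem.mpr (Ideal.mem_span_singleton_self x₀)
          rw [h0]
          have h2 : (Ideal.Quotient.mk I) '' (Set.range fun i : Fin d => x i.succ) =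
              Set.range x'' := by
            ext y; constructor
            · rintro ⟨_, ⟨i, rfl⟩, rfl⟩; exact ⟨i, rfl⟩
            · rintro ⟨i, rfl⟩; exact ⟨_, ⟨i, rfl⟩, rfl⟩
          rw [h2, Ideal.span_insert_zero]
        rw [h1]
        haveI := hmax
        refine Ideal.IsMaximal.map_of_surjective_of_ker_le Ideal.Quotient.mk_surjective ?_
        rw [Ideal.mk_ker]
        show Ideal.span {x₀} ≤ _
        rw [Ideal.span_singleton_le_iff_mem]
        exact Ideal.subset_span ⟨0, rfl⟩
      -- ideals J_{i+1}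
      have hJ : ∀ i : Fin d, Ideal.span (x '' {j | j < i.succ}) =
          I ⊔ Ideal.span ((fun j : Fin d => x j.succ) '' {j | j < i}) := by
        intro i
        have : x '' {j | j < i.succ} = insert x₀ ((fun j : Fin d => x j.succ) '' {j | j < i}) := by
          ext y
          constructor
          · rintro ⟨j, hj, rfl⟩
            refine Fin.cases (motive := fun j => j < i.succ → x j ∈ _) ?_ (fun j' hj' => ?_) j hj
            · intro _; exact Set.mem_insert _ _
            · exact Set.mem_insert_of_mem _ ⟨j', Fin.succ_lt_succ_iff.mp hj', rfl⟩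
          · rintro (rfl | ⟨j, hj, rfl⟩)
            · exact ⟨0, Fin.succ_pos i, rfl⟩
            · exact ⟨j.succ, Fin.succ_lt_succ_iff.mpr hj, rfl⟩
        rw [this, Ideal.span_insert]
      have hJ'' : ∀ i : Fin d, Ideal.span (x'' '' {j | j < i}) =
          (Ideal.span ((fun j : Fin d => x j.succ) '' {j | j < i})).map (Ideal.Quotient.mk I) := by
        intro i
        rw [Ideal.map_span]
        congr 1
        ext y; constructor
        · rintro ⟨j, hj, rfl⟩; exact ⟨_, ⟨j, hj, rfl⟩, rfl⟩
        · rintro ⟨_, ⟨j, hj, rfl⟩, rfl⟩; exact ⟨j, hj, rfl⟩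
      have hflat'' : Module.Flat R'' M'' := by
        refine ih R'' M'' x'' e he1 ?_ hmax'' ?_
        · intro i
          show Ideal.Quotient.mk I (x i.succ) ^ e = 0
          rw [← map_pow, he, map_zero]
        · intro i mb hmb
          obtain ⟨m, rfl⟩ := Submodule.Quotient.mk_surjective _ mb
          have h1 : x'' i • (Submodule.Quotient.mk m : M'') =
              Submodule.Quotient.mk (x i.succ • m) := rfl
          rw [h1, hJ'', mk_mem_map_smul_top_iff, ← hJ] at hmb
          have h2 := hreg i.succ m hmb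
          have h3 : Ideal.span (x'' '' {j | j < i}) ⊔ Ideal.span {x'' i ^ (e - 1)} =
              (Ideal.span ((fun j : Fin d => x j.succ) '' {j | j < i}) ⊔
                Ideal.span {x i.succ ^ (e - 1)}).map (Ideal.Quotient.mk I) := by
            rw [Ideal.map_sup, ← hJ'' i]
            congr 1
            rw [Ideal.map_span, Set.image_singleton, map_pow]
          rw [h3, mk_mem_map_smul_top_iff, ← sup_assoc, ← hJ]
          exact h2
      exact Module.Flat.of_linearEquiv (quotTensorEquiv (M := M) I)

end Groth.Agent.Lib.Helper27.SepD
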