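import Mathlib
import Groth.Prelude.Def_Smoothing
import Groth.Agent.Lib.Helper27.SepD
import Groth.Agent.Lib.Helper27.SepE
import Groth.Agent.Lib.Helper27.SepF

/-!
# The reduced problem modulo `(x_i^{8c})` can be resolved
-/

namespace Groth.Agent.Lib.Helper27.SepG

open MvPolynomial Smoothing

universe u

set_option maxHeartbeats 1600000 in
theorem reduced_resolvable {k : Type u} [Field k] {d : ℕ} {C Λ : Type u}
    [CommRing C] [Algebra (MvPolynomial (Fin d) k) C]
    [Algebra.FinitePresentation (MvPolynomial (Fin d) k) C]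
    [CommRing Λ] [Algebra k Λ] [Algebra (MvPolynomial (Fin d) k) Λ]
    [IsScalarTower k (MvPolynomial (Fin d) k) Λ] [IsNoetherianRing Λ]
    (𝔮 : Ideal Λ) [𝔮.IsPrime]
    [IsRegularLocalRing (Localization.AtPrime 𝔮)]
    (hd : ringKrullDim (Localization.AtPrime 𝔮) = d)
    [Algebra.IsGeometricallyReduced k 𝔮.ResidueField]
    (hgen : Ideal.span (Set.range fun i => algebraMap Λ (Localization.AtPrime 𝔮)
        (algebraMap (MvPolynomial (Fin d) k) Λ (X i))) =
      IsLocalRing.maximalIdeal (Localization.AtPrime 𝔮))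
    (hπ𝔮 : ∀ i, algebraMap (MvPolynomial (Fin d) k) Λ (X i) ∈ 𝔮)
    (c : ℕ) (hc : 1 ≤ c)
    (K : Ideal (MvPolynomial (Fin d) k))
    (hK : K = Ideal.span (Set.range fun i => ((X i : MvPolynomial (Fin d) k) ^ c) ^ 8))
    (φK : (C ⧸ K.map (algebraMap (MvPolynomial (Fin d) k) C)) →ₐ[MvPolynomial (Fin d) k ⧸ K]
      (Λ ⧸ K.map (algebraMap (MvPolynomial (Fin d) k) Λ))) :
    Resolvable (MvPolynomial (Fin d) k ⧸ K) φK
      (𝔮.map (Ideal.Quotient.mk (K.map (algebraMap (MvPolynomial (Fin d) k) Λ)))) := by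
  classical
  let R := MvPolynomial (Fin d) k
  let KΛ : Ideal Λ := K.map (algebraMap R Λ)
  let S := Localization.AtPrime 𝔮
  let JS : Ideal S := KΛ.map (algebraMap Λ S)
  let π' : Fin d → Λ := fun i => algebraMap R Λ (X i)
  let p : Fin d → S := fun i => algebraMap Λ S (π' i)
  let e : ℕ := c * 8
  have he1 : 1 ≤ e := by show 1 ≤ c * 8; omega
  have hXK : ∀ i, (X i : R) ^ e ∈ K := by
    intro i
    rw [hK, show (X i : R) ^ e = ((X i : R) ^ c) ^ 8 from pow_mul _ _ _]
    exact Ideal.subset_span ⟨i, rfl⟩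
  -- 1
  have hKΛ𝔮 : KΛ ≤ 𝔮 := by
    show K.map (algebraMap R Λ) ≤ 𝔮
    rw [hK, Ideal.map_span, Ideal.span_le]
    rintro _ ⟨_, ⟨i, rfl⟩, rfl⟩
    show algebraMap R Λ (((X i : R) ^ c) ^ 8) ∈ 𝔮
    rw [map_pow, map_pow]
    exact Ideal.pow_mem_of_mem 𝔮 (Ideal.pow_mem_of_mem 𝔮 (hπ𝔮 i) c (by omega)) 8 (by norm_num)
  -- 2
  haveI h𝔮₀ : (𝔮.map (Ideal.Quotient.mk KΛ)).IsPrime :=
    Ideal.map_isPrime_of_surjective Ideal.Quotient.mk_surjective
      (by rw [Ideal.mk_ker]; exact hKΛ𝔮)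
  -- 3
  have hsub : Algebra.algebraMapSubmonoid (Λ ⧸ KΛ) 𝔮.primeCompl =
      (𝔮.map (Ideal.Quotient.mk KΛ)).primeCompl := by
    ext x
    constructor
    · rintro ⟨y, hy, rfl⟩ hmem
      exact hy ((Ideal.mem_quotient_iff_mem hKΛ𝔮).mp hmem)
    · intro hx
      obtain ⟨y, rfl⟩ := Ideal.Quotient.mk_surjective x
      exact ⟨y, fun hy => hx (Ideal.mem_map_of_mem _ hy), rfl⟩
  haveI hloc : IsLocalization.AtPrime (S ⧸ JS) (𝔮.map (Ideal.Quotient.mk KΛ)) := by
    show IsLocalization (𝔮.map (Ideal.Quotient.mk KΛ)).primeCompl (S ⧸ JS)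
    rw [← hsub]
    infer_instance
  -- 4
  letI algR₀ : Algebra (R ⧸ K) (S ⧸ JS) :=
    ((algebraMap (Λ ⧸ KΛ) (S ⧸ JS)).comp (algebraMap (R ⧸ K) (Λ ⧸ KΛ))).toAlgebra
  haveI : IsScalarTower (R ⧸ K) (Λ ⧸ KΛ) (S ⧸ JS) := IsScalarTower.of_algebraMap_eq fun _ => rfl
  -- 5
  haveI : Algebra.FinitePresentation R (C ⧸ K.map (algebraMap R C)) :=
    Algebra.FinitePresentation.quotient (by
      rw [hK, Ideal.map_span]
      exact Submodule.fg_span ((Set.finite_range _).image _))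
  haveI : Algebra.FinitePresentation (R ⧸ K) (C ⧸ K.map (algebraMap R C)) :=
    Algebra.FinitePresentation.of_restrict_scalars_finitePresentation R (R ⧸ K)
      (C ⧸ K.map (algebraMap R C))
  -- 6
  have hJSmax : JS ≤ IsLocalRing.maximalIdeal S := by
    have h1 : JS ≤ 𝔮.map (algebraMap Λ S) := Ideal.map_mono hKΛ𝔮
    rwa [IsLocalization.AtPrime.map_eq_maximalIdeal 𝔮 S] at h1
  have hJS_eq : JS = Ideal.span (Set.range fun l => p l ^ e) := by
    show (K.map (algebraMap R Λ)).map (algebraMap Λ S) = _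
    rw [hK, Ideal.map_span, Ideal.map_span, ← Set.range_comp, ← Set.range_comp]
    congr 2
    funext l
    show algebraMap Λ S (algebraMap R Λ (((X l : R) ^ c) ^ 8)) = p l ^ (c * 8)
    rw [map_pow, map_pow, map_pow, map_pow, ← pow_mul]
  have hpow : ∀ l, p l ^ e ∈ JS := by
    intro l
    rw [hJS_eq]
    exact Ideal.subset_span ⟨l, rfl⟩
  have hdim : ringKrullDim (S ⧸ JS) = 0 :=
    Groth.Agent.Lib.Helper27.SepF.ringKrullDim_quotient_eq_zero p hgen e JS hJSmax hpow
  -- nilpotency of the classes of the variables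
  let xb : Fin d → R ⧸ K := fun i => Ideal.Quotient.mk K (X i)
  have hxbpow : ∀ i, xb i ^ e = 0 := by
    intro i
    show Ideal.Quotient.mk K (X i) ^ e = 0
    rw [← map_pow]
    exact Ideal.Quotient.eq_zero_iff_mem.mpr (hXK i)
  let m : Ideal (R ⧸ K) := Ideal.span (Set.range xb)
  have hm_eq : m = (Ideal.span (Set.range (X : Fin d → R))).map (Ideal.Quotient.mk K) := by
    show Ideal.span (Set.range xb) = _
    rw [Ideal.map_span, ← Set.range_comp]
    rfl
  have hm_nil : m ≤ nilradical (R ⧸ K) := by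
    show Ideal.span (Set.range xb) ≤ _
    rw [Ideal.span_le]
    rintro _ ⟨i, rfl⟩
    exact ⟨e, hxbpow i⟩
  have hKX : K ≤ Ideal.span (Set.range (X : Fin d → R)) := by
    rw [hK, Ideal.span_le]
    rintro _ ⟨i, rfl⟩
    show ((X i : R) ^ c) ^ 8 ∈ _
    rw [← pow_mul]
    obtain ⟨e', he'⟩ : ∃ e', c * 8 = e' + 1 := ⟨c * 8 - 1, by omega⟩
    rw [he', pow_succ]
    exact Ideal.mul_mem_left _ _ (Ideal.subset_span ⟨i, rfl⟩)
  haveI hm_max : m.IsMaximal := by
    rw [hm_eq]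
    haveI := Groth.Agent.Lib.Helper27.SepF.span_range_X_isMaximal (k := k) (d := d)
    exact Ideal.IsMaximal.map_of_surjective_of_ker_le Ideal.Quotient.mk_surjective
      (by rw [Ideal.mk_ker]; exact hKX)
  have hsubC : ∀ q : R, Ideal.Quotient.mk K (q - MvPolynomial.C (constantCoeff q)) ∈ m := by
    intro q
    rw [hm_eq]
    exact Ideal.mem_map_of_mem _ (Groth.Agent.Lib.Helper27.SepF.sub_C_constantCoeff_mem q)
  have hXle𝔮 : Ideal.span (Set.range (X : Fin d → R)) ≤ 𝔮.comap (algebraMap R Λ) := by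
    rw [Ideal.span_le]
    rintro _ ⟨i, rfl⟩
    exact hπ𝔮 i
  -- 7
  have hunits : ∀ r : R ⧸ K, algebraMap (R ⧸ K) (Λ ⧸ KΛ) r ∉ 𝔮.map (Ideal.Quotient.mk KΛ) →
      IsUnit r := by
    intro rb hrb
    obtain ⟨q, rfl⟩ := Ideal.Quotient.mk_surjective rb
    have h1 : algebraMap R Λ q ∉ 𝔮 := fun h => hrb (Ideal.mem_map_of_mem _ h)
    have h2 := Groth.Agent.Lib.Helper27.SepF.sub_C_constantCoeff_mem q
    have h4 : constantCoeff q ≠ 0 := by
      intro h0
      rw [h0, map_zero, sub_zero] at h2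
      exact h1 (hXle𝔮 h2)
    have hu : IsUnit (Ideal.Quotient.mk K (MvPolynomial.C (constantCoeff q))) :=
      ((IsUnit.mk0 _ h4).map (MvPolynomial.C (σ := Fin d) (R := k))).map (Ideal.Quotient.mk K)
    have hn : IsNilpotent (Ideal.Quotient.mk K (q - MvPolynomial.C (constantCoeff q))) :=
      hm_nil (hsubC q)
    have : Ideal.Quotient.mk K q =
        Ideal.Quotient.mk K (MvPolynomial.C (constantCoeff q)) + Ideal.Quotient.mk K (q - MvPolynomial.C (constantCoeff q)) := by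
      rw [← map_add]; congr 1; ring
    rw [this]
    exact hn.isUnit_add_left_of_commute hu (Commute.all _ _)
  -- 8a
  haveI htower := IsScalarTower.of_algebraMap_eq (R := k) (S := R ⧸ K) (A := S ⧸ JS) fun c' => by
    show Ideal.Quotient.mk JS (algebraMap k S c') =
      Ideal.Quotient.mk JS (algebraMap Λ S (algebraMap R Λ (algebraMap k R c')))
    rw [← IsScalarTower.algebraMap_apply k R Λ, ← IsScalarTower.algebraMap_apply k Λ S]
  -- 8b
  have halg : ∀ q : R, algebraMap (R ⧸ K) (S ⧸ JS) (Ideal.Quotient.mk K q) =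
      Ideal.Quotient.mk JS (algebraMap Λ S (algebraMap R Λ q)) := fun q => rfl
  -- conversion between ideal-times-top and ideals of `S`
  have hconv : ∀ (𝔞 : Ideal R) (s : S),
      Ideal.Quotient.mk JS s ∈ (𝔞.map (Ideal.Quotient.mk K)) • (⊤ : Submodule (R ⧸ K) (S ⧸ JS)) ↔
        s ∈ (𝔞.map (algebraMap R Λ)).map (algebraMap Λ S) ⊔ JS := by
    intro 𝔞 s
    rw [Ideal.smul_top_eq_map, Submodule.restrictScalars_mem, Ideal.map_map,
      ← Ideal.mem_quotient_iff_mem_sup, Ideal.map_map, Ideal.map_map]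
    rfl
  have hmapX : ∀ t : Set (Fin d),
      ((Ideal.span ((X : Fin d → R) '' t)).map (algebraMap R Λ)).map (algebraMap Λ S) =
        Ideal.span (p '' t) := by
    intro t
    rw [Ideal.map_span, Ideal.map_span, Set.image_image, Set.image_image]
  have hmapXpow : ∀ (i : Fin d) (n' : ℕ),
      ((Ideal.span {(X i : R) ^ n'}).map (algebraMap R Λ)).map (algebraMap Λ S) =
        Ideal.span {p i ^ n'} := by
    intro i n'
    rw [Ideal.map_span, Ideal.map_span, Set.image_singleton, Set.image_singleton, map_pow,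
      map_pow]
  have hspanxb : ∀ t : Set (Fin d), Ideal.span (xb '' t) =
      (Ideal.span ((X : Fin d → R) '' t)).map (Ideal.Quotient.mk K) := by
    intro t
    rw [Ideal.map_span, Set.image_image]
  -- 8c flatness
  haveI hflat : Module.Flat (R ⧸ K) (S ⧸ JS) := by
    refine Groth.Agent.Lib.Helper27.SepD.flat_of_regular d (R ⧸ K) (S ⧸ JS) xb e he1 hxbpow
      hm_max ?_
    intro i mm hmm
    obtain ⟨s, rfl⟩ := Ideal.Quotient.mk_surjective mm
    have h1 : xb i • (Ideal.Quotient.mk JS s) = Ideal.Quotient.mk JS (p i * s) := by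
      rw [Algebra.smul_def, halg, ← map_mul]
    rw [h1, hspanxb, hconv, hmapX, hJS_eq] at hmm
    have h2 := Groth.Agent.Lib.Helper27.SepF.reg_core hd p hgen e he1 i s hmm
    have h3 : Ideal.span (xb '' {j | j < i}) ⊔ Ideal.span {xb i ^ (e - 1)} =
        (Ideal.span ((X : Fin d → R) '' {j | j < i}) ⊔ Ideal.span {(X i : R) ^ (e - 1)}).map
          (Ideal.Quotient.mk K) := by
      rw [Ideal.map_sup, ← hspanxb]
      congr 1
      rw [Ideal.map_span, Set.image_singleton, map_pow]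
    rw [h3, hconv, Ideal.map_sup, Ideal.map_sup, hmapX, hmapXpow, hJS_eq]
    exact h2
  -- 8d
  have hm_nilp : IsNilpotent m :=
    (Ideal.FG.isNilpotent_iff_le_nilradical (IsNoetherian.noetherian m)).mpr hm_nil
  -- 8e
  have hkm : Function.Bijective ((Ideal.Quotient.mk m).comp (algebraMap k (R ⧸ K))) := by
    haveI : Nontrivial ((R ⧸ K) ⧸ m) := Ideal.Quotient.nontrivial_iff.mpr hm_max.ne_top
    refine ⟨RingHom.injective _, ?_⟩
    intro y
    obtain ⟨y', rfl⟩ := Ideal.Quotient.mk_surjective y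
    obtain ⟨q, rfl⟩ := Ideal.Quotient.mk_surjective y'
    refine ⟨constantCoeff q, ?_⟩
    show Ideal.Quotient.mk m (Ideal.Quotient.mk K (algebraMap k R (constantCoeff q))) = _
    rw [MvPolynomial.algebraMap_eq]
    symm
    rw [← sub_eq_zero, ← map_sub, ← map_sub]
    exact Ideal.Quotient.eq_zero_iff_mem.mpr (hsubC q)
  -- 8f
  have hp_max : ∀ i, p i ∈ IsLocalRing.maximalIdeal S := by
    intro i
    rw [← hgen]
    exact Ideal.subset_span ⟨i, rfl⟩
  let ι₁ : (S ⧸ JS) →ₐ[k] IsLocalRing.ResidueField S :=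
    Ideal.Quotient.liftₐ JS (IsScalarTower.toAlgHom k S (IsLocalRing.ResidueField S))
      (fun a ha => by
        show IsLocalRing.residue S a = 0
        rw [IsLocalRing.residue_eq_zero_iff]
        exact hJSmax ha)
  have hι₁ : ∀ s : S, ι₁ (Ideal.Quotient.mk JS s) = IsLocalRing.residue S s := fun s => rfl
  have hmle : m.map (algebraMap (R ⧸ K) (S ⧸ JS)) ≤ RingHom.ker ι₁.toRingHom := by
    rw [Ideal.map_le_iff_le_comap]
    show Ideal.span (Set.range xb) ≤ _
    rw [Ideal.span_le]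
    rintro _ ⟨i, rfl⟩
    show ι₁ (algebraMap (R ⧸ K) (S ⧸ JS) (xb i)) = 0
    rw [halg, hι₁, IsLocalRing.residue_eq_zero_iff]
    exact hp_max i
  let ι : ((S ⧸ JS) ⧸ m.map (algebraMap (R ⧸ K) (S ⧸ JS))) →ₐ[k] IsLocalRing.ResidueField S :=
    Ideal.Quotient.liftₐ _ ι₁ (fun a ha => hmle ha)
  have hι : ∀ s : S, ι (Ideal.Quotient.mk _ (Ideal.Quotient.mk JS s)) = IsLocalRing.residue S s :=
    fun s => rfl
  have hιinj : Function.Injective ι := by
    rw [injective_iff_map_eq_zero]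
    intro y hy
    obtain ⟨y', rfl⟩ := Ideal.Quotient.mk_surjective y
    obtain ⟨s, rfl⟩ := Ideal.Quotient.mk_surjective y'
    rw [hι, IsLocalRing.residue_eq_zero_iff, ← hgen] at hy
    rw [Ideal.Quotient.eq_zero_iff_mem]
    have hle : Ideal.span (Set.range p) ≤
        (m.map (algebraMap (R ⧸ K) (S ⧸ JS))).comap (Ideal.Quotient.mk JS) := by
      rw [Ideal.span_le]
      rintro _ ⟨i, rfl⟩
      show Ideal.Quotient.mk JS (p i) ∈ m.map (algebraMap (R ⧸ K) (S ⧸ JS))
      have : Ideal.Quotient.mk JS (p i) = algebraMap (R ⧸ K) (S ⧸ JS) (xb i) := rfl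
      rw [this]
      exact Ideal.mem_map_of_mem _ (Ideal.subset_span ⟨i, rfl⟩)
    exact hle hy
  have hιsurj : Function.Surjective ι := by
    intro z
    obtain ⟨s, rfl⟩ := IsLocalRing.residue_surjective z
    exact ⟨_, hι s⟩
  have hfield : IsField ((S ⧸ JS) ⧸ m.map (algebraMap (R ⧸ K) (S ⧸ JS))) :=
    MulEquiv.isField (Field.toIsField (IsLocalRing.ResidueField S))
      (RingEquiv.ofBijective ι ⟨hιinj, hιsurj⟩).toMulEquiv
  haveI hgr : Algebra.IsGeometricallyReduced k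
      ((S ⧸ JS) ⧸ m.map (algebraMap (R ⧸ K) (S ⧸ JS))) :=
    Algebra.IsGeometricallyReduced.of_injective (B := 𝔮.ResidueField) ι hιinj
  have hind : IndSmooth (R ⧸ K) (S ⧸ JS) :=
    Groth.Agent.Lib.Helper27.SepE.indSmooth_of_flat_of_residue (k := k) m hm_nilp hkm hfield
  exact Groth.Agent.Lib.Helper27.SepE.resolvable_of_indSmooth_loc (Λq := S ⧸ JS) φK
    (𝔮.map (Ideal.Quotient.mk KΛ)) hdim hunits hind

end Groth.Agent.Lib.Helper27.SepG
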