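import Mathlib
import Groth.Prelude.Def_Smoothing
import Groth.Agent.Lib.Helper27.PopG
import Groth.Agent.Lib.Helper27.SepF
import Groth.Agent.Lib.Helper27.SepG
import Groth.Agent.Lib.Helper27.SepH
import Groth.Agent.Lib.Helper27.SepI
import Groth.Agent.Lib.Helper6.AnnStable2
import Groth.Agent.S6822

/-!
# Resolvability in the separable residue field case (Stacks 07F1)
-/

namespace Groth.Agent.Lib.Helper27.SepJ

open MvPolynomial Smoothing
open Groth.Agent.Lib.Helper27 Groth.Agent.Lib.Helper27.SepB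
open Groth.Agent.Lib.Helper6.AnnStable

universe u

theorem zero_case {k A Λ : Type u} [Field k] [CommRing A] [Algebra k A]
    [Algebra.FinitePresentation k A] [CommRing Λ] [Algebra k Λ] [IsNoetherianRing Λ]
    (φ : A →ₐ[k] Λ) (𝔮 : Ideal Λ) [𝔮.IsPrime]
    [IsRegularLocalRing (Localization.AtPrime 𝔮)]
    [Algebra.IsGeometricallyReduced k 𝔮.ResidueField]
    (hd : ringKrullDim (Localization.AtPrime 𝔮) = 0) : Resolvable k φ 𝔮 := by
  let S := Localization.AtPrime 𝔮
  have hfin : (Submodule.spanFinrank (IsLocalRing.maximalIdeal S) : WithBot ℕ∞) = 0 := by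
    rw [IsRegularLocalRing.spanFinrank_maximalIdeal]
    exact hd
  have hbot : IsLocalRing.maximalIdeal S = ⊥ := by
    rw [← Submodule.spanFinrank_eq_zero_iff_eq_bot (IsNoetherian.noetherian _)]
    exact_mod_cast hfin
  have hfield : IsField S := IsLocalRing.isField_iff_maximalIdeal_eq.mpr hbot
  have hinj : Function.Injective (IsScalarTower.toAlgHom k S (IsLocalRing.ResidueField S)) := by
    rw [injective_iff_map_eq_zero]
    intro s hs
    have h1 : IsLocalRing.residue S s = 0 := hs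
    rw [IsLocalRing.residue_eq_zero_iff, hbot] at h1
    exact h1
  haveI : Algebra.IsGeometricallyReduced k S :=
    Algebra.IsGeometricallyReduced.of_injective (B := 𝔮.ResidueField)
      (IsScalarTower.toAlgHom k S (IsLocalRing.ResidueField S)) hinj
  have hind : IndSmooth k S := SepE.indSmooth_of_isField hfield
  refine SepE.resolvable_of_indSmooth_loc (Λq := S) φ 𝔮 hd ?_ hind
  intro r hr
  refine IsUnit.mk0 _ ?_
  rintro rfl
  exact hr (by rw [map_zero]; exact 𝔮.zero_mem)

set_option maxHeartbeats 1600000 in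
theorem pos_case {k A Λ : Type u} [Field k] [CommRing A] [Algebra k A]
    [Algebra.FinitePresentation k A] [CommRing Λ] [Algebra k Λ] [IsNoetherianRing Λ]
    (φ : A →ₐ[k] Λ) (𝔮 : Ideal Λ) [𝔮.IsPrime]
    [IsRegularLocalRing (Localization.AtPrime 𝔮)]
    [Algebra.IsGeometricallyReduced k 𝔮.ResidueField]
    {r : ℕ} (a : Fin r → A) (ha : Ideal.span (Set.range a) = singularIdeal k A)
    (d : ℕ) (hd0 : 0 < d) (hd : ringKrullDim (Localization.AtPrime 𝔮) = d)
    (n : ℕ) (hn : 0 < n)
    (hpow : (𝔮 ^ n).map (algebraMap Λ (Localization.AtPrime 𝔮)) ≤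
      (Ideal.span (Set.range fun j => φ (a j))).map (algebraMap Λ (Localization.AtPrime 𝔮))) :
    Resolvable k φ 𝔮 := by
  classical
  let R := MvPolynomial (Fin d) k
  let B := Bq d n a
  let S := Localization.AtPrime 𝔮
  have hsm : ∀ j, Algebra.Smooth k (Localization.Away (a j)) := by
    intro j
    rw [← PopG.mem_singularIdeal_iff, ← ha]
    exact Ideal.subset_span ⟨j, rfl⟩
  obtain ⟨C, iC, iBC, iRC, iT, hfp, ⟨ρ⟩, hCsing, c, hc, hstd⟩ := SepI.exists_C a hsm d n
  haveI := hfp
  let I : Ideal Λ := Ideal.span (Set.range fun j => φ (a j))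
  obtain ⟨π, hgen, hI, hgood⟩ := exists_good I 𝔮 hd n (c * 8) hn (by omega) hpow d le_rfl
  have hl : ∀ i, ∃ l : Fin r → Λ, ∑ j, l j * φ (a j) = π i ^ n :=
    fun i => Ideal.mem_span_range_iff_exists_fun.mp (hI i)
  choose l hl using hl
  letI algRΛ : Algebra R Λ := (aeval π : R →ₐ[k] Λ).toRingHom.toAlgebra
  haveI : IsScalarTower k R Λ := IsScalarTower.of_algebraMap_eq fun c' =>
    ((aeval π : R →ₐ[k] Λ).commutes c').symm
  have hX : ∀ i, algebraMap R Λ (X i) = π i := fun i => aeval_X π i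
  have hrel : ∀ i, algebraMap R Λ (X i) ^ n =
      ∑ j, φ (a j) * (fun p : Fin d × Fin r => l p.1 p.2) (i, j) := by
    intro i
    rw [hX, ← hl i]
    exact Finset.sum_congr rfl fun j _ => mul_comm _ _
  let hB : B →ₐ[R] Λ := liftB n a φ (fun p => l p.1 p.2) hrel
  let φC : C →ₐ[R] Λ := hB.comp (ρ.restrictScalars R)
  let ι : A →+* C := (algebraMap B C).comp (algebraMap A B)
  have hι : ∀ c' : k, ι (algebraMap k A c') = algebraMap R C (algebraMap k R c') := by
    intro c'
    show algebraMap B C (algebraMap A B (algebraMap k A c')) = _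
    rw [← IsScalarTower.algebraMap_apply k A B, IsScalarTower.algebraMap_apply k R B,
      ← IsScalarTower.algebraMap_apply R B C]
  have hcomp : ∀ x, φC (ι x) = φ x := by
    intro x
    show hB (ρ (algebraMap B C (algebraMap A B x))) = φ x
    rw [AlgHom.commutes]
    exact lift₁_algebraMap_A n a φ _ hrel x
  have hsing : ∀ x ∈ singularIdeal k A, ι x ∈ singularIdeal R C := by
    intro x hx
    rw [← ha] at hx
    have hle : Ideal.span (Set.range a) ≤ (singularIdeal R C).comap ι := by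
      rw [Ideal.span_le]
      rintro _ ⟨j, rfl⟩
      exact hCsing j
    exact hle hx
  haveI : Algebra.Smooth k R := ⟨inferInstance, inferInstance⟩
  refine SepH.resolvable_descend (R := R) φ ι hι φC hcomp 𝔮 hsing ?_
  have hπ𝔮' : ∀ i, algebraMap R Λ (X i) ∈ 𝔮 := by
    intro i
    rw [hX, ← IsLocalization.AtPrime.to_map_mem_maximal_iff S 𝔮 (π i), ← hgen]
    exact Ideal.subset_span ⟨i, rfl⟩
  have hgen' : Ideal.span (Set.range fun i => algebraMap Λ S (algebraMap R Λ (X i))) =
      IsLocalRing.maximalIdeal S := by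
    rw [← hgen]
    congr 2
    funext i
    rw [hX]
  obtain ⟨φK, hφK⟩ := SepH.exists_quotient_map φC
    (Ideal.span (Set.range fun i => ((X i : R) ^ c) ^ 8))
  refine Groth.Agent.S6822.result φC 𝔮 hd0 (fun i => (X i : R) ^ c) ?_ ?_ ?_ hstd _ rfl φK hφK ?_
  · intro i
    rw [map_pow]
    exact Ideal.pow_mem_of_mem 𝔮 (hπ𝔮' i) c (by omega)
  · intro i x hx
    obtain ⟨y, rfl⟩ := Ideal.Quotient.mk_surjective x
    rw [← map_pow, ← map_mul, Ideal.Quotient.eq_zero_iff_mem] at hx
    rw [← map_mul, Ideal.Quotient.eq_zero_iff_mem]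
    apply SepF.reg_X_pow c i
    have h1 : ((X i : R) ^ c) ^ 2 * y = X i ^ c * (X i ^ c * y) := by ring
    rw [← h1]
    exact hx
  · intro i x hx
    obtain ⟨y, rfl⟩ := Ideal.Quotient.mk_surjective x
    rw [← map_pow, ← map_mul, Ideal.Quotient.eq_zero_iff_mem] at hx
    rw [← map_mul, Ideal.Quotient.eq_zero_iff_mem]
    have hJ : Ideal.span (Set.range fun j : {j : Fin d // (j : ℕ) < (i : ℕ)} =>
        algebraMap R Λ ((X (j : Fin d) : R) ^ c) ^ 8) = Jt (c * 8) π i := by
      unfold Jt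
      congr 2
      funext j
      rw [map_pow, hX, ← pow_mul]
    rw [hJ] at hx ⊢
    rw [map_pow, hX] at hx ⊢
    exact SepF.ann_pow' _ (π i) (hgood i i.2) c hc y hx
  · exact SepG.reduced_resolvable 𝔮 hd hgen' hπ𝔮' c hc _ rfl φK

theorem main {k A Λ : Type u} [Field k] [CommRing A] [Algebra k A]
    [Algebra.FinitePresentation k A] [CommRing Λ] [Algebra k Λ] [IsNoetherianRing Λ]
    (φ : A →ₐ[k] Λ) (𝔮 : Ideal Λ) [𝔮.IsPrime] (hmin : 𝔮 ∈ (singRad k φ).minimalPrimes)
    [IsRegularLocalRing (Localization.AtPrime 𝔮)]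
    [Algebra.IsGeometricallyReduced k 𝔮.ResidueField] : Resolvable k φ 𝔮 := by
  haveI : IsNoetherianRing A := Algebra.FiniteType.isNoetherianRing k A
  obtain ⟨r, a, ha⟩ := Submodule.fg_iff_exists_fin_generating_family.mp
    (IsNoetherian.noetherian (singularIdeal k A))
  let S := Localization.AtPrime 𝔮
  obtain ⟨d, hd⟩ : ∃ d : ℕ, ringKrullDim S = d :=
    ⟨_, (IsRegularLocalRing.spanFinrank_maximalIdeal (R := S)).symm⟩
  rcases Nat.eq_zero_or_pos d with rfl | hd0
  · exact zero_case φ 𝔮 (by rw [hd]; rfl)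
  · have hI : (singularIdeal k A).map φ = Ideal.span (Set.range fun j => φ (a j)) := by
      rw [← ha]
      show Ideal.map φ (Ideal.span (Set.range a)) = _
      rw [Ideal.map_span, ← Set.range_comp]
      rfl
    have hmin' : 𝔮 ∈ (Ideal.span (Set.range fun j => φ (a j))).minimalPrimes := by
      rw [← hI, ← Ideal.radical_minimalPrimes]
      exact hmin
    obtain ⟨n, hn, hpow⟩ := SepH.exists_pow_le _ 𝔮 hmin'
    exact pos_case φ 𝔮 a ha d hd0 hd n hn hpow

end Groth.Agent.Lib.Helper27.SepJ
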