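import Mathlib
import Groth.Prelude.Def_Smoothing
import Groth.Prelude.Def_Found
import Groth.Agent.Lib.Helper27.PtB
import Groth.Agent.Lib.Helper14.PerfectGeomRed
import Groth.Agent.S6823

/-!
# The field case of Popescu's theorem, assuming the characteristic `p` local resolution
-/

namespace Groth.Agent.Lib.Helper27.PtC

open Smoothing TensorProduct

universe u

/-- the statement of the characteristic `p` local resolution (Stacks 07F3) -/
def CharPCase : Prop :=
  ∀ {k A Λ : Type u} [Field k] (p : ℕ) [Fact p.Prime]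
    [CharP k p] [CommRing A] [Algebra k A] [Algebra.FinitePresentation k A] [CommRing Λ]
    [Algebra k Λ] [IsNoetherianRing Λ] (_ : CAlg.IsGeometricallyRegular k Λ) (φ : A →ₐ[k] Λ)
    (𝔮 : Ideal Λ) [𝔮.IsPrime] (_ : 𝔮 ∈ (Smoothing.singRad k φ).minimalPrimes),
    Smoothing.Resolvable k φ 𝔮

theorem isRegularRing_of_isGeometricallyRegular {k Λ : Type u} [Field k] [CommRing Λ]
    [Algebra k Λ] (hreg : CAlg.IsGeometricallyRegular k Λ) : IsRegularRing Λ := by
  haveI : IsRegularRing (k ⊗[k] Λ) := hreg k inferInstance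
  exact IsRegularRing.of_ringEquiv (Algebra.TensorProduct.lid k Λ).toRingEquiv

theorem indSmooth_of_field (H : CharPCase.{u}) {k Λ : Type u} [Field k] [CommRing Λ]
    [Algebra k Λ] [IsNoetherianRing Λ] (hreg : CAlg.IsGeometricallyRegular k Λ) :
    IndSmooth k Λ := by
  apply PtB.indSmooth_of_forall_resolvable
  intro A _ _ hfp φ 𝔮 h𝔮 hmin
  haveI := hfp
  obtain ⟨p, hp⟩ := CharP.exists k
  rcases CharP.char_is_prime_or_zero k p with hpp | hp0
  · haveI : Fact p.Prime := ⟨hpp⟩
    exact H p hreg φ 𝔮 hmin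
  · subst hp0
    haveI : CharZero k := CharP.charP_to_charZero k
    haveI : IsRegularRing Λ := isRegularRing_of_isGeometricallyRegular hreg
    haveI : Algebra.IsGeometricallyReduced k 𝔮.ResidueField :=
      Groth.Agent.Lib.Helper14.PerfectGeomRed.isGeometricallyReduced_of_perfectField
    exact Groth.Agent.S6823.result φ 𝔮 hmin

end Groth.Agent.Lib.Helper27.PtC
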