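import Mathlib
import Groth.Prelude.Def_Smoothing
import Groth.Agent.Lib.Helper27.PtA
import Groth.Agent.Lib.Helper27.DesG
import Groth.Agent.Lib.Helper27.SepE
import Groth.Agent.Lib.Helper27.SepH
import Groth.Agent.S19959

/-!
# Lifting a smooth factorization modulo `π⁸` to a smooth factorization
-/

namespace Groth.Agent.Lib.Helper27.PtD

open Smoothing

universe u

/-- annihilator condition in a flat algebra -/
theorem ann_flat {R Λ : Type u} [CommRing R] [CommRing Λ] [Algebra R Λ] [Module.Flat R Λ]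
    (π : R) (hR : ∀ r : R, π ^ 2 * r = 0 → π * r = 0) (x : Λ) (hx : π ^ 2 • x = 0) :
    π • x = 0 := by
  have h0 : ∑ _i : Unit, (fun _ : Unit => π ^ 2) _i • (fun _ : Unit => x) _i = 0 := by
    simpa using hx
  obtain ⟨κ, a, y, hxy, hay⟩ := Module.Flat.isTrivialRelation_of_sum_smul_eq_zero
    (R := R) (M := Λ) (f := fun _ : Unit => π ^ 2) (x := fun _ : Unit => x) h0
  have h1 : x = ∑ j, a () j • y j := hxy ()
  have h2 : ∀ j, π ^ 2 * a () j = 0 := by
    intro j
    simpa using hay j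
  rw [h1, Finset.smul_sum]
  refine Finset.sum_eq_zero fun j _ => ?_
  rw [smul_smul, hR _ (h2 j), zero_smul]

theorem lift_smooth {R A Λ : Type u} [CommRing R] [IsNoetherianRing R] [CommRing A]
    [Algebra R A] [Algebra.FinitePresentation R A] [CommRing Λ] [Algebra R Λ]
    (φ : A →ₐ[R] Λ) (π : R)
    (hR : ∀ r : R, π ^ 2 * r = 0 → π * r = 0) (hΛ : ∀ x : Λ, π ^ 2 • x = 0 → π • x = 0)
    (hstd : IsStrictlyStandard R A (algebraMap R A π))
    {R' A' Λ' : Type u} [CommRing R'] [CommRing A'] [CommRing Λ'] [Algebra R' A'] [Algebra R' Λ']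
    (φ' : A' →ₐ[R'] Λ')
    (pR : R →+* R') (pA : A →+* A') (pΛ : Λ →+* Λ') (hpR : Function.Surjective pR)
    (hpΛ : Function.Surjective pΛ)
    (hcA : ∀ r, pA (algebraMap R A r) = algebraMap R' A' (pR r))
    (hcΛ : ∀ r, pΛ (algebraMap R Λ r) = algebraMap R' Λ' (pR r))
    (hcφ : ∀ a, φ' (pA a) = pΛ (φ a))
    (hkR : RingHom.ker pR = Ideal.span {π ^ 8})
    (hkΛ : RingHom.ker pΛ = (Ideal.span {π ^ 8}).map (algebraMap R Λ))
    (hfac : ∃ (B' : Type u) (_ : CommRing B') (_ : Algebra R' B'), Algebra.Smooth R' B' ∧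
      ∃ (g' : A' →ₐ[R'] B') (h' : B' →ₐ[R'] Λ'), h'.comp g' = φ') :
    ∃ (B : Type u) (_ : CommRing B) (_ : Algebra R B), Algebra.Smooth R B ∧
      ∃ (g : A →ₐ[R] B) (h : B →ₐ[R] Λ), h.comp g = φ := by
  classical
  obtain ⟨B', instB', instRB', hsmB', g', h', hcomp'⟩ := hfac
  have hcomp'' : ∀ x, h' (g' x) = φ' x := fun x => DFunLike.congr_fun hcomp' x
  -- the base ring `R / π⁸`
  have hkR' : Ideal.span {π ^ 8} ≤ RingHom.ker pR := le_of_eq hkR.symm
  let e : R ⧸ Ideal.span {π ^ 8} →+* R' :=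
    Ideal.Quotient.lift (Ideal.span {π ^ 8}) pR (fun x hx => hkR' hx)
  have he : ∀ r, e (Ideal.Quotient.mk _ r) = pR r := fun r => rfl
  have hebij : Function.Bijective e := by
    constructor
    · rw [injective_iff_map_eq_zero]
      intro x hx
      obtain ⟨r, rfl⟩ := Ideal.Quotient.mk_surjective x
      rw [he] at hx
      have : r ∈ RingHom.ker pR := hx
      rw [hkR] at this
      exact Ideal.Quotient.eq_zero_iff_mem.mpr this
    · intro y
      obtain ⟨r, rfl⟩ := hpR y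
      exact ⟨Ideal.Quotient.mk _ r, rfl⟩
  letI : Algebra (R ⧸ Ideal.span {π ^ 8}) R' := e.toAlgebra
  letI : Algebra (R ⧸ Ideal.span {π ^ 8}) B' := ((algebraMap R' B').comp e).toAlgebra
  haveI : IsScalarTower (R ⧸ Ideal.span {π ^ 8}) R' B' :=
    IsScalarTower.of_algebraMap_eq fun _ => rfl
  letI : Algebra R B' := ((algebraMap R' B').comp pR).toAlgebra
  haveI : IsScalarTower R (R ⧸ Ideal.span {π ^ 8}) B' :=
    IsScalarTower.of_algebraMap_eq fun _ => rfl
  have hRB' : ∀ r : R, algebraMap R B' r = algebraMap R' B' (pR r) := fun r => rfl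
  haveI : Algebra.FinitePresentation (R ⧸ Ideal.span {π ^ 8}) R' :=
    Algebra.FinitePresentation.equiv
      (AlgEquiv.ofBijective (Algebra.ofId (R ⧸ Ideal.span {π ^ 8}) R') hebij)
  haveI : Algebra.FinitePresentation R' B' := hsmB'.2
  haveI : Algebra.FinitePresentation (R ⧸ Ideal.span {π ^ 8}) B' :=
    Algebra.FinitePresentation.trans (R ⧸ Ideal.span {π ^ 8}) R' B'
  -- the target `Λ / π⁸ Λ`
  have hkΛ2 : RingHom.ker pΛ = Ideal.span {algebraMap R Λ (π ^ 8)} := by
    rw [hkΛ, Ideal.map_span, Set.image_singleton]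
  have hkΛ' : Ideal.span {algebraMap R Λ (π ^ 8)} ≤ RingHom.ker pΛ := le_of_eq hkΛ2.symm
  let eΛ : Λ ⧸ Ideal.span {algebraMap R Λ (π ^ 8)} →+* Λ' :=
    Ideal.Quotient.lift _ pΛ (fun x hx => hkΛ' hx)
  have heΛ : ∀ l, eΛ (Ideal.Quotient.mk _ l) = pΛ l := fun l => rfl
  have heΛbij : Function.Bijective eΛ := by
    constructor
    · rw [injective_iff_map_eq_zero]
      intro x hx
      obtain ⟨l, rfl⟩ := Ideal.Quotient.mk_surjective x
      rw [heΛ] at hx
      have : l ∈ RingHom.ker pΛ := hx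
      rw [hkΛ2] at this
      exact Ideal.Quotient.eq_zero_iff_mem.mpr this
    · intro y
      obtain ⟨l, rfl⟩ := hpΛ y
      exact ⟨Ideal.Quotient.mk _ l, rfl⟩
  let EΛ : Λ ⧸ Ideal.span {algebraMap R Λ (π ^ 8)} ≃+* Λ' := RingEquiv.ofBijective eΛ heΛbij
  have hEΛ : ∀ l, EΛ.symm (pΛ l) = Ideal.Quotient.mk _ l := by
    intro l
    rw [RingEquiv.symm_apply_eq]
    rfl
  let g : B' →ₐ[R] Λ ⧸ Ideal.span {algebraMap R Λ (π ^ 8)} :=
    { toRingHom := EΛ.symm.toRingHom.comp h'.toRingHom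
      commutes' := by
        intro r
        show EΛ.symm (h' (algebraMap R B' r)) = _
        rw [hRB', AlgHom.commutes, ← hcΛ, hEΛ]
        rfl }
  have hg : ∀ x, g x = EΛ.symm (h' x) := fun x => rfl
  let γ : A →ₐ[R] B' :=
    { toRingHom := g'.toRingHom.comp pA
      commutes' := by
        intro r
        show g' (pA (algebraMap R A r)) = _
        rw [hcA, AlgHom.commutes, hRB'] }
  have hγ : ∀ a, γ a = g' (pA a) := fun a => rfl
  have hfac : ∀ a : A, g (γ a) =
      Ideal.Quotient.mk (Ideal.span {algebraMap R Λ (π ^ 8)}) (φ a) := by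
    intro a
    rw [hg, hγ, hcomp'', hcφ, hEΛ]
  obtain ⟨B, instB, instRB, hfpB, α, β, hαβ, hsm, hsing⟩ :=
    Groth.Agent.S19959.result π hR hΛ φ hstd γ g hfac
  haveI := hfpB
  -- facts
  set HΛ : Ideal Λ := (singularIdeal R B).map β with hHΛ
  have hF1 : singularIdeal R' B' ≤ singularIdeal (R ⧸ Ideal.span {π ^ 8}) B' :=
    DesG.singularIdeal_le_of_bijective hebij
  have hF3 : algebraMap R Λ π ∈ HΛ := by
    have h1 : algebraMap R B π ∈ singularIdeal R B := by
      unfold singularIdeal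
      rw [PrimeSpectrum.mem_vanishingIdeal]
      intro Q hQ
      by_contra hn
      exact hQ (hsm Q.asIdeal hn)
    have h2 : algebraMap R Λ π = β (algebraMap R B π) := by rw [AlgHom.commutes]
    rw [h2]
    exact Ideal.mem_map_of_mem _ h1
  have htopB' : singularIdeal (R ⧸ Ideal.span {π ^ 8}) B' = ⊤ := by
    rw [eq_top_iff]
    refine le_trans ?_ hF1
    haveI := hsmB'
    rw [SepE.singularIdeal_eq_top]
  have h1mem : (1 : Λ ⧸ Ideal.span {algebraMap R Λ (π ^ 8)}) ∈ HΛ.radical.map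
      (Ideal.Quotient.mk (Ideal.span {algebraMap R Λ (π ^ 8)})) := by
    apply hsing
    rw [htopB', Ideal.map_top]
    trivial
  rw [Ideal.mem_map_iff_of_surjective _ Ideal.Quotient.mk_surjective] at h1mem
  obtain ⟨l, hl, hl1⟩ := h1mem
  have h5 : 1 - l ∈ Ideal.span {algebraMap R Λ (π ^ 8)} := by
    rw [← Ideal.Quotient.eq_zero_iff_mem, map_sub, hl1, map_one, sub_self]
  have h6 : Ideal.span {algebraMap R Λ (π ^ 8)} ≤ HΛ.radical := by
    rw [Ideal.span_le]
    rintro _ rfl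
    rw [map_pow]
    exact Ideal.le_radical (Ideal.pow_mem_of_mem _ hF3 8 (by norm_num))
  have h7 : (1 : Λ) ∈ HΛ.radical := by
    have h8 : (1 : Λ) = (1 - l) + l := by ring
    rw [h8]
    exact add_mem (h6 h5) hl
  have htop : singRad R β = ⊤ := (Ideal.eq_top_iff_one _).mpr h7
  obtain ⟨B₂, _, _, hsm₂, g₂, h₂, hgh₂⟩ := PtA.factor_of_singRad_eq_top β htop
  exact ⟨B₂, inferInstance, inferInstance, hsm₂, g₂.comp α, h₂, by
    rw [← AlgHom.comp_assoc, hgh₂, hαβ]⟩

end Groth.Agent.Lib.Helper27.PtD
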