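import Mathlib
import Groth.Prelude.Def_Smoothing
import Groth.Prelude.Def_Found
import Groth.Agent.Lib.Helper27.PtD
import Groth.Agent.Lib.Helper19.ElemStdPerm
import Groth.Agent.S2022
import Groth.Agent.S2029

/-!
# The induction step in the reduction of Popescu's theorem to the field case (Stacks 07F4)
-/

namespace Groth.Agent.Lib.Helper27.PtE

open Smoothing TensorProduct

universe u

/-- the field case of Popescu's theorem, as a proposition -/
def FieldCase : Prop :=
  ∀ (k L : Type u) [Field k] [CommRing L] [Algebra k L] [IsNoetherianRing L],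
    CAlg.IsGeometricallyRegular k L → IndSmooth k L

theorem isLocalization_residueField {R : Type u} [CommRing R] [IsReduced R] (p : Ideal R)
    [p.IsPrime] (hp : p ∈ minimalPrimes R) : IsLocalization.AtPrime p.ResidueField p := by
  haveI : Ring.KrullDimLE 0 (Localization.AtPrime p) :=
    Ring.KrullDimLE.of_isLocalization p hp _
  have hF : IsField (Localization.AtPrime p) := Ring.KrullDimLE.isField_of_isReduced
  have hmax : IsLocalRing.maximalIdeal (Localization.AtPrime p) = ⊥ :=
    IsLocalRing.isField_iff_maximalIdeal_eq.mp hF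
  have hbij : Function.Bijective
      (IsScalarTower.toAlgHom R (Localization.AtPrime p) p.ResidueField) := by
    constructor
    · rw [injective_iff_map_eq_zero]
      intro x hx
      have h1 : x ∈ IsLocalRing.maximalIdeal (Localization.AtPrime p) := by
        rw [← IsLocalRing.ker_residue]
        exact hx
      rw [hmax] at h1
      exact h1
    · exact IsLocalRing.residue_surjective
  exact IsLocalization.isLocalization_of_algEquiv p.primeCompl (AlgEquiv.ofBijective _ hbij)

theorem step (HF : FieldCase.{u}) {R Λ : Type u} [CommRing R] [IsNoetherianRing R] [CommRing Λ]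
    [Algebra R Λ] (hreg : CAlg.IsRegularHom R Λ)
    (IH : ∀ K : Ideal R, K ≠ ⊥ → IndSmooth (R ⧸ K) (Λ ⧸ K.map (algebraMap R Λ))) :
    IndSmooth R Λ := by
  haveI : Module.Flat R Λ := hreg.1
  by_cases hred : IsReduced R
  swap
  · -- the nilradical is nonzero
    have hne : nilradical R ≠ ⊥ := fun h => hred (nilradical_eq_bot_iff.mp h)
    exact Groth.Agent.S2022.result (nilradical R) (IsNoetherianRing.isNilpotent_nilradical R)
      (IH _ hne)
  rcases subsingleton_or_nontrivial R with hsub | hnt
  · intro A _ _ hfp φ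
    haveI := hfp
    haveI : Subsingleton Λ := Module.subsingleton R Λ
    exact PtA.factor_of_map_eq_top φ
      (Ideal.eq_top_of_isUnit_mem _ (Submodule.zero_mem _) (isUnit_of_subsingleton 0))
  -- a minimal prime
  obtain ⟨⟨p, hp⟩⟩ := Ideal.nonempty_minimalPrimes (I := (⊥ : Ideal R)) bot_ne_top
  haveI : p.IsPrime := hp.1.1
  haveI : IsLocalization p.primeCompl p.ResidueField := isLocalization_residueField p hp
  obtain ⟨hnoeth, hgeom⟩ := hreg.2 p
  have HFp : IndSmooth p.ResidueField (p.ResidueField ⊗[R] Λ) :=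
    HF p.ResidueField (p.ResidueField ⊗[R] Λ) hgeom
  intro A _ _ hfp φ
  haveI := hfp
  obtain ⟨B', _, _, hsm, g, h, hgh⟩ := HFp (p.ResidueField ⊗[R] A) inferInstance
    (Algebra.TensorProduct.map (AlgHom.id p.ResidueField p.ResidueField) φ)
  haveI := hsm
  obtain ⟨B, _, _, α, β, hβα, s, hs, hstd⟩ :=
    Groth.Agent.S2029.result φ p.primeCompl g h hgh
  haveI : Algebra.FinitePresentation R B := PopG.finitePresentation_of_isElementaryStandard hstd
  have hstd' : IsStrictlyStandard R B (algebraMap R B s) :=
    Groth.Agent.Lib.Helper19.ElemStdPerm.isStrictlyStandard_of_isElementaryStandard hstd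
  have hs0 : s ^ 8 ≠ 0 := by
    intro h0
    have : s = 0 := IsReduced.eq_zero s ⟨8, h0⟩
    apply hs
    rw [this]
    exact Ideal.zero_mem p
  have hR : ∀ r : R, s ^ 2 * r = 0 → s * r = 0 := by
    intro r hr
    apply IsReduced.eq_zero
    refine ⟨2, ?_⟩
    have : (s * r) ^ 2 = (s ^ 2 * r) * r := by ring
    rw [this, hr, zero_mul]
  have hΛ : ∀ x : Λ, s ^ 2 • x = 0 → s • x = 0 := fun x hx => PtD.ann_flat s hR x hx
  let K : Ideal R := Ideal.span {s ^ 8}
  have hK : K ≠ ⊥ := by
    intro h0
    apply hs0
    rw [← Ideal.span_singleton_eq_bot]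
    exact h0
  obtain ⟨φK, hφK⟩ := SepH.exists_quotient_map β K
  haveI : Algebra.FinitePresentation R (B ⧸ K.map (algebraMap R B)) :=
    Algebra.FinitePresentation.quotient (by
      rw [Ideal.map_span]
      exact Submodule.fg_span ((Set.finite_singleton _).image _))
  haveI : Algebra.FinitePresentation (R ⧸ K) (B ⧸ K.map (algebraMap R B)) :=
    Algebra.FinitePresentation.of_restrict_scalars_finitePresentation R (R ⧸ K) _
  have hfac := IH K hK (B ⧸ K.map (algebraMap R B)) inferInstance φK
  obtain ⟨B₂, _, _, hsm₂, g₂, h₂, hgh₂⟩ :=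
    PtD.lift_smooth β s hR hΛ hstd' φK (Ideal.Quotient.mk K)
      (Ideal.Quotient.mk (K.map (algebraMap R B))) (Ideal.Quotient.mk (K.map (algebraMap R Λ)))
      Ideal.Quotient.mk_surjective Ideal.Quotient.mk_surjective (fun r => rfl) (fun r => rfl)
      hφK Ideal.mk_ker Ideal.mk_ker hfac
  exact ⟨B₂, inferInstance, inferInstance, hsm₂, g₂.comp α, h₂, by
    rw [← AlgHom.comp_assoc, hgh₂, hβα]⟩

end Groth.Agent.Lib.Helper27.PtE
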