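import Mathlib
import Groth.Prelude.Def_Smoothing
import Groth.Prelude.Def_Found
import Groth.Agent.Lib.Helper27.PtC
import Groth.Agent.Lib.Helper27.PtE
import Groth.Agent.Lib.Helper26.RegularHom
import Groth.Agent.S9293

/-!
# Popescu's theorem: reduction to the field case (Stacks 07F4) and the main theorem (07GC),
assuming the characteristic `p` local resolution
-/

namespace Groth.Agent.Lib.Helper27.PtF

open Smoothing TensorProduct

universe u

theorem isRegularHom_quotient {R Λ : Type u} [CommRing R] [CommRing Λ] [Algebra R Λ]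
    (hreg : CAlg.IsRegularHom R Λ) (K : Ideal R) :
    CAlg.IsRegularHom (R ⧸ K) (Λ ⧸ K.map (algebraMap R Λ)) :=
  Groth.Agent.Lib.Helper26.RegularHom.isRegularHom_of_algEquiv
    (Algebra.TensorProduct.quotIdealMapEquivQuotTensor Λ K).symm
    (Groth.Agent.S9293.result R Λ (R ⧸ K) hreg)

theorem indSmooth_of_quotient (HF : PtE.FieldCase.{u}) {R : Type u} [CommRing R]
    [IsNoetherianRing R] (I : Ideal R) :
    ∀ (R' : Type u) [CommRing R'] [Algebra R R'], Function.Surjective (algebraMap R R') →
      RingHom.ker (algebraMap R R') = I →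
      ∀ (Λ' : Type u) [CommRing Λ'] [Algebra R' Λ'], CAlg.IsRegularHom R' Λ' →
        IndSmooth R' Λ' := by
  induction I using WellFoundedGT.induction with
  | ind I ih =>
    intro R' _ _ hsurj hker Λ' _ _ hreg
    haveI : IsNoetherianRing R' := isNoetherianRing_of_surjective R R' _ hsurj
    apply PtE.step HF hreg
    intro K hK
    letI : Algebra R (R' ⧸ K) := ((Ideal.Quotient.mk K).comp (algebraMap R R')).toAlgebra
    have hsurj' : Function.Surjective (algebraMap R (R' ⧸ K)) :=
      Ideal.Quotient.mk_surjective.comp hsurj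
    have hlt : I < RingHom.ker (algebraMap R (R' ⧸ K)) := by
      have hle : I ≤ RingHom.ker (algebraMap R (R' ⧸ K)) := by
        intro x hx
        rw [← hker, RingHom.mem_ker] at hx
        rw [RingHom.mem_ker]
        show Ideal.Quotient.mk K (algebraMap R R' x) = 0
        rw [hx, map_zero]
      refine lt_of_le_of_ne hle ?_
      intro heq
      apply hK
      rw [eq_bot_iff]
      intro y hy
      obtain ⟨x, rfl⟩ := hsurj y
      have hx : x ∈ RingHom.ker (algebraMap R (R' ⧸ K)) := by
        rw [RingHom.mem_ker]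
        show Ideal.Quotient.mk K (algebraMap R R' x) = 0
        exact Ideal.Quotient.eq_zero_iff_mem.mpr hy
      rw [← heq, ← hker, RingHom.mem_ker] at hx
      rw [hx]
      exact Ideal.zero_mem _
    exact ih _ hlt (R' ⧸ K) hsurj' rfl (Λ' ⧸ K.map (algebraMap R' Λ'))
      (isRegularHom_quotient hreg K)

/-- Popescu's theorem, assuming the field case. -/
theorem indSmooth_of_isRegularHom (HF : PtE.FieldCase.{u}) {R Λ : Type u} [CommRing R]
    [IsNoetherianRing R] [CommRing Λ] [Algebra R Λ] (hreg : CAlg.IsRegularHom R Λ) :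
    IndSmooth R Λ :=
  indSmooth_of_quotient HF (⊥ : Ideal R) R Function.surjective_id
    ((RingHom.injective_iff_ker_eq_bot _).mp Function.injective_id) Λ hreg

theorem fieldCase_of_charPCase (H : PtC.CharPCase.{u}) : PtE.FieldCase.{u} := by
  intro k L _ _ _ _ hgeom
  exact PtC.indSmooth_of_field H hgeom

/-- Popescu's theorem, assuming the local resolution in characteristic `p`. -/
theorem popescu (H : PtC.CharPCase.{u}) {R Λ : Type u} [CommRing R]
    [IsNoetherianRing R] [CommRing Λ] [Algebra R Λ] (hreg : CAlg.IsRegularHom R Λ) :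
    IndSmooth R Λ :=
  indSmooth_of_isRegularHom (fieldCase_of_charPCase H) hreg

end Groth.Agent.Lib.Helper27.PtF
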