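import Mathlib
import Groth.Prelude.Def_Smoothing
import Groth.Prelude.Def_Found
import Groth.Agent.Lib.Helper27.PtF
import Groth.Agent.Lib.Helper14.ExcellentLoc

/-!
# The completion of a local G-ring is ind-smooth (assuming the characteristic `p` case)
-/

namespace Groth.Agent.Lib.Helper27.PtG

open Smoothing IsLocalRing

universe u

theorem isRegularHom_cpl_of_isGRing {R : Type u} [CommRing R] [IsLocalRing R]
    (hG : CAlg.IsGRing R) :
    CAlg.IsRegularHom R (AdicCompletion (maximalIdeal R) R) := by
  haveI : IsNoetherianRing R := hG.1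
  have h := hG.2 (maximalIdeal R)
  let e : R ≃ₐ[R] (Localization.AtPrime (maximalIdeal R)) :=
    IsLocalization.atUnits R (maximalIdeal R).primeCompl (fun x ↦ by simpa using! fun a ↦ a)
  exact Groth.Agent.Lib.Helper14.ExcellentLoc.isRegularHom_cpl_of_ringEquiv e.toRingEquiv h

theorem indSmooth_cpl_of_isGRing (H : PtC.CharPCase.{u}) {R : Type u} [CommRing R]
    [IsLocalRing R] (hG : CAlg.IsGRing R) :
    IndSmooth R (AdicCompletion (maximalIdeal R) R) := by
  haveI : IsNoetherianRing R := hG.1
  exact PtF.popescu H (isRegularHom_cpl_of_isGRing hG)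

end Groth.Agent.Lib.Helper27.PtG
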