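import Mathlib
import Groth.Prelude.Def_Smoothing
import Groth.Agent.Lib.Helper27.HfpSmooth
import Groth.Agent.Lib.Helper3.HenselPair
import Groth.Agent.Lib.Helper11.GenColim

/-!
# Approximation of algebra maps to the completion of a Henselian pair, and the completion as a
filtered colimit of finitely presented algebras in `CommAlgCat`
-/

set_option autoImplicit false

namespace Groth.Agent.Lib.Helper27.PtH

open Smoothing CategoryTheory Limits
open Groth.Agent.Lib.Helper11

universe u

/-- algebra maps from finitely presented algebras to the completion can be approximated by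
algebra maps to the ring itself -/
theorem exists_algHom_approx (A : Type u) [CommRing A] (I : Ideal A) [HenselianRing A I]
    (hP : IndSmooth A (AdicCompletion I A)) (N : ℕ) (hN : 1 ≤ N) (C : Type u) [CommRing C]
    [Algebra A C] (hC : Algebra.FinitePresentation A C) (f : C →ₐ[A] AdicCompletion I A) :
    ∃ h : C →ₐ[A] A, ∀ x, Ideal.Quotient.mk (I ^ N) (h x) = AdicCompletion.evalₐ I N (f x) := by
  obtain ⟨B, _, _, hB, g, h, hgh⟩ := hP C hC f
  haveI := hB
  let σ' : B →ₐ[A] A ⧸ I ^ N := (AdicCompletion.evalₐ I N).comp h
  haveI : HenselianRing A (I ^ N) :=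
    Groth.Agent.Lib.Helper3.henselianRing_of_le inferInstance
      (Ideal.pow_le_self (by omega))
  obtain ⟨φ₀, hφ₀⟩ :=
    Groth.Agent.Lib.Helper27.HfpSmooth.exists_algHom_lift_quot_smooth (A := A) (E := B) A (I ^ N) σ'
  refine ⟨φ₀.comp g, fun x => ?_⟩
  rw [AlgHom.comp_apply, hφ₀]
  show AdicCompletion.evalₐ I N (h (g x)) = _
  rw [← AlgHom.comp_apply h g, hgh]

section colim

variable (A B : Type u) [CommRing A] [CommRing B] [Algebra A B]

/-- the trivial property -/
abbrev PT : ∀ (C : Type u) [CommRing C] [Algebra A C], Prop := fun _ _ _ => True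

theorem hyp : GenColim.Hyp A B (PT A) :=
  { iso := fun _ _ _ _ _ _ _ _ => trivial
    tensor := fun _ _ _ _ _ _ _ _ _ _ => trivial
    quot := fun _ _ _ _ _ _ _ _ => trivial
    claim := fun b => ⟨MvPolynomial (Fin 1) A, inferInstance, inferInstance,
      MvPolynomial.aeval (fun _ => b), inferInstance, trivial, MvPolynomial.X 0, by simp⟩ }

/-- the diagram in `CommAlgCat` -/
noncomputable def D : GenColim.Idx A B (PT A) ⥤ CommAlgCat.{u} A where
  obj s := CommAlgCat.of A s.Q
  map f := CommAlgCat.ofHom f.1
  map_id s := rfl
  map_comp f g := rfl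

/-- the cocone with point `B` -/
noncomputable def coconeD : Cocone (D A B) where
  pt := CommAlgCat.of A B
  ι :=
    { app := fun s => CommAlgCat.ofHom s.g
      naturality := by
        intro s t f
        ext x
        exact AlgHom.congr_fun f.2 x }

theorem isColimitD : Nonempty (IsColimit (coconeD A B)) := by
  obtain ⟨hc⟩ := GenColim.isColimit (hyp A B)
  have h1 : IsColimit ((commAlgCatEquivUnder (CommRingCat.of A)).functor.mapCocone
      (coconeD A B)) := hc
  exact ⟨isColimitOfReflects (commAlgCatEquivUnder (CommRingCat.of A)).functor h1⟩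

end colim

end Groth.Agent.Lib.Helper27.PtH
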