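import Mathlib

/-!
# (L3) for S5309: factorisation of the infinitesimal neighbourhood of a point through a subscheme
which becomes an isomorphism over the thickened fibre
-/

set_option autoImplicit false
universe u
open CategoryTheory CategoryTheory.Limits AlgebraicGeometry

namespace Groth.Agent.Lib.Helper27.QfFiltL3

/-- (L3) factorization -/
theorem exists_factor_of_isIso_thickening {S X Xi : Scheme.{u}} (f : X ⟶ S) (xi : Xi ⟶ X)
    (p : X) (n : ℕ)
    (h : IsIso (pullback.snd xi (pullback.fst f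
        (Spec.map (CommRingCat.ofHom (Ideal.Quotient.mk
          (IsLocalRing.maximalIdeal (S.presheaf.stalk (f p)) ^ (n + 1)))) ≫
            S.fromSpecStalk (f p))))) :
    ∃ μ : Spec (CommRingCat.of (X.presheaf.stalk p ⧸
        IsLocalRing.maximalIdeal (X.presheaf.stalk p) ^ (n + 1))) ⟶ Xi,
      μ ≫ xi = Spec.map (CommRingCat.ofHom (Ideal.Quotient.mk
        (IsLocalRing.maximalIdeal (X.presheaf.stalk p) ^ (n + 1)))) ≫ X.fromSpecStalk p := by
  set c : Spec (CommRingCat.of (S.presheaf.stalk (f p) ⧸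
      IsLocalRing.maximalIdeal (S.presheaf.stalk (f p)) ^ (n + 1))) ⟶ S :=
    Spec.map (CommRingCat.ofHom (Ideal.Quotient.mk
      (IsLocalRing.maximalIdeal (S.presheaf.stalk (f p)) ^ (n + 1)))) ≫ S.fromSpecStalk (f p)
    with hc
  let φ : (S.presheaf.stalk (f p) : Type u) →+* (X.presheaf.stalk p : Type u) :=
    (f.stalkMap p).hom
  haveI : IsLocalHom φ := inferInstanceAs (IsLocalHom (f.stalkMap p).hom)
  have hle : IsLocalRing.maximalIdeal (S.presheaf.stalk (f p)) ^ (n + 1) ≤
      (IsLocalRing.maximalIdeal (X.presheaf.stalk p) ^ (n + 1)).comap φ := by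
    rw [← Ideal.map_le_iff_le_comap, Ideal.map_pow]
    have h02 := (IsLocalRing.local_hom_TFAE φ).out 0 2
    exact Ideal.pow_right_mono (h02.mp ‹IsLocalHom φ›) _
  let τ := Ideal.quotientMap (IsLocalRing.maximalIdeal (X.presheaf.stalk p) ^ (n + 1)) φ hle
  let σ := Spec.map (CommRingCat.ofHom (Ideal.Quotient.mk
        (IsLocalRing.maximalIdeal (X.presheaf.stalk p) ^ (n + 1)))) ≫ X.fromSpecStalk p
  have hτ : f.stalkMap p ≫ CommRingCat.ofHom (Ideal.Quotient.mk
        (IsLocalRing.maximalIdeal (X.presheaf.stalk p) ^ (n + 1))) =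
      CommRingCat.ofHom (Ideal.Quotient.mk
        (IsLocalRing.maximalIdeal (S.presheaf.stalk (f p)) ^ (n + 1))) ≫ CommRingCat.ofHom τ := by
    ext a
    rfl
  have hσ : σ ≫ f = Spec.map (CommRingCat.ofHom τ) ≫ c := by
    rw [hc, ← Spec.map_comp_assoc, ← hτ, Spec.map_comp_assoc,
      Scheme.SpecMap_stalkMap_fromSpecStalk]
    exact Category.assoc _ _ _
  let lam := pullback.lift σ (Spec.map (CommRingCat.ofHom τ)) hσ
  refine ⟨lam ≫ inv (pullback.snd xi (pullback.fst f c)) ≫ pullback.fst xi (pullback.fst f c), ?_⟩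
  rw [Category.assoc, Category.assoc, pullback.condition, IsIso.inv_hom_id_assoc,
    pullback.lift_fst]

end Groth.Agent.Lib.Helper27.QfFiltL3
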