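import Mathlib
import Groth.Agent.Lib.Helper17.QfFiltL1
import Groth.Agent.Lib.Helper13.QfFiltL5
import Groth.Agent.Lib.Helper14.QfFiltL4
import Groth.Agent.Lib.Helper4.QfFiltA
import Groth.Agent.Lib.Helper20.QfFiltL3p
import Groth.Agent.Lib.Helper27.QfFiltL3

/-!
# Assembly for S5309: a directed family of subschemes which is an isomorphism on all
infinitesimal neighbourhoods of fibres contains an isomorphism
-/

set_option autoImplicit false
universe u
open CategoryTheory CategoryTheory.Limits AlgebraicGeometry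

namespace Groth.Agent.Lib.Helper27.QfFiltMain

open Groth.Agent.Lib.Helper17.QfFiltL1 Groth.Agent.Lib.Helper13.QfFiltL5
  Groth.Agent.Lib.Helper14.QfFiltL4 Groth.Agent.Lib.Helper4.QfFiltA
  Groth.Agent.Lib.Helper20.QfFiltL3p Groth.Agent.Lib.Helper27.QfFiltL3

lemma app_eq_zero_of_comp {A B C : Scheme.{u}} (t : A ⟶ B) (g : B ⟶ C) (fg : A ⟶ C)
    (h : t ≫ g = fg) (W : C.Opens) (b : Γ(C, W)) (hb : g.app W b = 0) : fg.app W b = 0 := by
  subst h
  rw [Scheme.Hom.comp_app]
  show (Scheme.Hom.app t (g ⁻¹ᵁ W)) ((Scheme.Hom.app g W) b) = 0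
  rw [hb, map_zero]

theorem main {S X : Scheme.{u}} [IsNoetherian S] (f : X ⟶ S)
    [LocallyOfFiniteType f] [QuasiCompact f]
    {D : Type u} [Preorder D] [IsDirected D (fun a b => a ≤ b)] [Nonempty D]
    (Xi : D → Scheme.{u}) (x : ∀ i, Xi i ⟶ X) (hx : ∀ i, IsImmersion (x i))
    (hmono : ∀ i j, i ≤ j → ∃ t : Xi i ⟶ Xi j, t ≫ x j = x i)
    (h : ∀ (s : S) (n : ℕ), ∃ i : D,
      IsIso (pullback.snd (x i) (pullback.fst f
        (Spec.map (CommRingCat.ofHom (Ideal.Quotient.mk (IsLocalRing.maximalIdeal (S.presheaf.stalk s) ^ (n + 1)))) ≫ S.fromSpecStalk s)))) :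
    ∃ i : D, IsIso (x i) := by
  haveI : IsLocallyNoetherian X := LocallyOfFiniteType.isLocallyNoetherian f
  haveI : CompactSpace X := QuasiCompact.compactSpace_of_compactSpace f
  haveI : IsNoetherian X := {}
  -- factorisation through the members of the family
  have hfac : ∀ (p : X) (n : ℕ), ∃ (i : D) (μ : Spec (CommRingCat.of (X.presheaf.stalk p ⧸
      IsLocalRing.maximalIdeal (X.presheaf.stalk p) ^ (n + 1))) ⟶ Xi i),
      μ ≫ x i = Spec.map (CommRingCat.ofHom (Ideal.Quotient.mk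
        (IsLocalRing.maximalIdeal (X.presheaf.stalk p) ^ (n + 1)))) ≫ X.fromSpecStalk p := by
    intro p n
    obtain ⟨i, hi⟩ := h (f p) n
    exact ⟨i, exists_factor_of_isIso_thickening f (x i) p n hi⟩
  -- monotonicity of ranges
  have hrange : ∀ i j, i ≤ j → Set.range (x i) ⊆ Set.range (x j) := by
    intro i j hij
    obtain ⟨t, ht⟩ := hmono i j hij
    rintro _ ⟨z, rfl⟩
    exact ⟨t z, by rw [← Scheme.Hom.comp_apply, ht]⟩
  -- step 1: some member is surjective
  obtain ⟨i0, hi0⟩ := exists_eq_univ_of_directed_isLocallyClosed (fun i => Set.range (x i))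
    (fun i => haveI := hx i; (x i).isLocallyClosed_range) hrange
    (fun p => by
      obtain ⟨i, μ, hμ⟩ := hfac p 0
      exact ⟨i, mem_range_of_factor (x i) p 0 μ hμ⟩)
  have hcl : ∀ i, i0 ≤ i → IsClosedImmersion (x i) := by
    intro i hi
    haveI := hx i
    have hr : Set.range (x i) = Set.univ :=
      Set.eq_univ_of_univ_subset (hi0 ▸ hrange i0 i hi)
    exact IsClosedImmersion.of_isPreimmersion (x i) (hr ▸ isClosed_univ)
  -- finite affine cover
  let 𝒰 := X.affineCover.finiteSubcover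
  let W : 𝒰.I₀ → X.Opens := fun k => (𝒰.f k).opensRange
  have hW : ∀ k, IsAffineOpen (W k) := fun k => isAffineOpen_opensRange (𝒰.f k)
  have hcov : ⨆ k, W k = ⊤ := 𝒰.iSup_opensRange
  -- antitone kernels
  have hanti : ∀ (k : 𝒰.I₀) (i j : D), i ≤ j →
      RingHom.ker ((x j).app (W k)).hom ≤ RingHom.ker ((x i).app (W k)).hom := by
    intro k i j hij b hb
    obtain ⟨t, ht⟩ := hmono i j hij
    exact app_eq_zero_of_comp t (x j) (x i) ht (W k) b hb
  have key : ∀ k, ∃ i, RingHom.ker ((x i).app (W k)).hom = ⊥ := by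
    intro k
    haveI : IsNoetherianRing Γ(X, W k) := IsLocallyNoetherian.component_noetherian ⟨W k, hW k⟩
    refine exists_eq_bot_of_directed_ideals (fun i => RingHom.ker ((x i).app (W k)).hom)
      (hanti k) ?_
    intro q n
    have hpW : (hW k).fromSpec q ∈ W k := by
      have : (hW k).fromSpec q ∈ Set.range (hW k).fromSpec := ⟨q, rfl⟩
      rwa [(hW k).range_fromSpec] at this
    have hq : (hW k).primeIdealOf ⟨(hW k).fromSpec q, hpW⟩ = q :=
      (hW k).fromSpec.isOpenEmbedding.injective ((hW k).fromSpec_primeIdealOf _)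
    obtain ⟨i, μ, hμ⟩ := hfac ((hW k).fromSpec q) n
    refine ⟨i, fun b hb => ?_⟩
    have := exists_mul_mem_pow_of_factor (x i) (hW k) ((hW k).fromSpec q) hpW n μ hμ b hb
    rwa [hq] at this
  choose ik hik using key
  obtain ⟨i, hi⟩ : ∃ i, i0 ≤ i ∧ ∀ k, ik k ≤ i := by
    haveI : Finite 𝒰.I₀ := inferInstance
    obtain ⟨M, hM⟩ := Finite.exists_le ik
    obtain ⟨i, h1, h2⟩ := exists_ge_ge i0 M
    exact ⟨i, h1, fun k => (hM k).trans h2⟩
  refine ⟨i, ?_⟩
  haveI := hcl i hi.1
  refine isIso_of_isClosedImmersion_of_app_injective (x i) W hW hcov (fun k => ?_)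
  rw [injective_iff_map_eq_zero]
  intro b hb
  have : b ∈ RingHom.ker ((x (ik k)).app (W k)).hom := hanti k (ik k) i (hi.2 k) hb
  rw [hik k] at this
  exact this

end Groth.Agent.Lib.Helper27.QfFiltMain
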