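import Mathlib
import Groth.Prelude.Def_W4bk4goldsch23FF
import Groth.Prelude.Def_W4bk4goldsch23Ext
import Groth.Agent.Lib.Helper27.FFExt1
import Groth.Agent.Lib.Helper27.FunFld3

/-! Riemann–Hurwitz, part 2: places and divisors of `K'` over `k` and over a finite extension
`k'` of `k` inside `K'`. -/

set_option autoImplicit false

namespace Groth.Agent.Lib.Helper27.RH

open FunFld
open Groth.Agent.Lib.Helper27.FF

universe u v

variable {k k' : Type u} {K' : Type v} [Field k] [Field k'] [Field K']
  [Algebra k k'] [Algebra k' K'] [Algebra k K'] [IsScalarTower k k' K']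

/-- A place over `k'` is a place over `k`. -/
def downPlace (Q : Place k' K') : Place k K' :=
  ⟨Q.1, fun c => by rw [IsScalarTower.algebraMap_apply k k' K']; exact Q.2.1 _, Q.2.2⟩

/-- A place over `k` is a place over the algebraic extension `k'`. -/
def upPlace [Algebra.IsAlgebraic k k'] (Q₀ : Place k K') : Place k' K' :=
  ⟨Q₀.1, fun c => val_le_one_of_isIntegral (R := k) Q₀.1 Q₀.2.1
    ((Algebra.IsIntegral.isIntegral (R := k) c).map (IsScalarTower.toAlgHom k k' K')), Q₀.2.2⟩

/-- Places of `K'` over `k'` and over `k` are the same. -/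
def placeEquiv [Algebra.IsAlgebraic k k'] : Place k' K' ≃ Place k K' where
  toFun := downPlace
  invFun := upPlace
  left_inv _ := rfl
  right_inv _ := rfl

@[simp] theorem downPlace_val (Q : Place k' K') : (downPlace (k := k) Q).1 = Q.1 := rfl

theorem deg_downPlace (Q : Place k' K') :
    (downPlace (k := k) Q).deg = Module.finrank k k' * Q.deg := by
  letI : Algebra k' (downPlace (k := k) Q).O := Place.algO Q
  haveI : IsScalarTower k k' (downPlace (k := k) Q).O :=
    IsScalarTower.of_algebraMap_eq
      (fun c => Subtype.ext (IsScalarTower.algebraMap_apply k k' K' c))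
  exact (Module.finrank_mul_finrank k k' (IsLocalRing.ResidueField (downPlace (k := k) Q).O)).symm

/-- Transport of a divisor over `k` to a divisor over `k'`. -/
noncomputable def upDiv [Algebra.IsAlgebraic k k'] (D₀ : Divisor k K') : Divisor k' K' :=
  Finsupp.equivMapDomain (placeEquiv (k := k) (k' := k')).symm D₀

theorem upDiv_apply [Algebra.IsAlgebraic k k'] (D₀ : Divisor k K') (Q : Place k' K') :
    upDiv D₀ Q = D₀ (downPlace Q) := rfl

theorem deg_upDiv [Algebra.IsAlgebraic k k'] (D₀ : Divisor k K') :
    (Module.finrank k k' : ℤ) * (upDiv (k' := k') D₀).deg = D₀.deg := by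
  unfold Divisor.deg upDiv
  rw [Finsupp.sum_equivMapDomain, Finsupp.mul_sum]
  refine Finsupp.sum_congr (fun Q₀ _ => ?_)
  have h := deg_downPlace (k := k) (upPlace (k' := k') Q₀)
  have h' : (Q₀.deg : ℤ) = (Module.finrank k k' : ℤ) * ((upPlace (k' := k') Q₀).deg : ℤ) := by
    exact_mod_cast h
  show (Module.finrank k k' : ℤ) * (D₀ Q₀ * ((upPlace (k' := k') Q₀).deg : ℤ)) = _
  rw [h']
  ring

end Groth.Agent.Lib.Helper27.RH
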