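import Mathlib
import Groth.Agent.Lib.Helper9.RegLocal

/-!
# Local homomorphisms and embedding dimension (helper27)

For a local homomorphism `A → B` of Noetherian local rings with closed fibre `B₀ = B/𝔪_A B`:
`edim B ≤ edim A + edim B₀`, `dim B ≤ dim A + dim B₀`, and in case of equality of embedding
dimensions the images of a minimal generating system of `𝔪_A` are linearly independent in
`𝔫/𝔫²`.
-/

set_option autoImplicit false
universe u

namespace Groth.Agent.Lib.Helper27.RegHom

open IsLocalRing Groth.Agent.Lib.Helper9

lemma exists_fin_gens {R : Type*} [CommRing R] (I : Ideal R) (hI : I.FG) :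
    ∃ f : Fin I.spanFinrank → I, Ideal.span (Set.range fun i => (f i : R)) = I := by
  classical
  obtain ⟨s, hs, hspan⟩ := Submodule.FG.exists_span_finset_card_eq_spanFinrank hI
  let e : s ≃ Fin I.spanFinrank := Finset.equivFinOfCardEq hs
  have hmem : ∀ a : s, (a : R) ∈ I := fun a => by
    rw [← hspan]; exact Submodule.subset_span a.2
  refine ⟨fun i => ⟨(e.symm i : R), hmem _⟩, ?_⟩
  have hrange : (Set.range fun i : Fin I.spanFinrank => ((e.symm i : s) : R)) = (s : Set R) := by
    ext a
    constructor
    · rintro ⟨i, rfl⟩; exact (e.symm i).2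
    · intro ha; exact ⟨e ⟨a, ha⟩, by simp⟩
  change Ideal.span (Set.range fun i : Fin I.spanFinrank => ((e.symm i : s) : R)) = I
  rw [hrange]; exact hspan

variable {A B : Type u} [CommRing A] [IsLocalRing A] [IsNoetherianRing A] [CommRing B]
  [IsLocalRing B] [IsNoetherianRing B] [Algebra A B] [IsLocalHom (algebraMap A B)]
  [IsLocalRing (B ⧸ (maximalIdeal A).map (algebraMap A B))]

lemma exists_gens :
    ∃ (y : Fin (maximalIdeal A).spanFinrank → maximalIdeal B)
      (z : Fin (maximalIdeal (B ⧸ (maximalIdeal A).map (algebraMap A B))).spanFinrank →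
        maximalIdeal B),
      Ideal.span (Set.range fun i => (y i : B)) = (maximalIdeal A).map (algebraMap A B) ∧
      Ideal.span (Set.range fun i => (y i : B)) ⊔ Ideal.span (Set.range fun j => (z j : B)) =
        maximalIdeal B := by
  classical
  have hJle : (maximalIdeal A).map (algebraMap A B) ≤ maximalIdeal B :=
    Ideal.map_le_iff_le_comap.mpr (fun x hx => map_nonunit (algebraMap A B) x hx)
  obtain ⟨x, hx⟩ := exists_fin_gens (maximalIdeal A) (maximalIdeal A).fg_of_isNoetherianRing
  obtain ⟨zb, hzb⟩ := exists_fin_gens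
    (maximalIdeal (B ⧸ (maximalIdeal A).map (algebraMap A B)))
    (maximalIdeal (B ⧸ (maximalIdeal A).map (algebraMap A B))).fg_of_isNoetherianRing
  have hlift : ∀ j, ∃ b : B, Ideal.Quotient.mk ((maximalIdeal A).map (algebraMap A B)) b =
      (zb j : B ⧸ (maximalIdeal A).map (algebraMap A B)) :=
    fun j => Ideal.Quotient.mk_surjective _
  choose b hb using hlift
  haveI : IsLocalHom (Ideal.Quotient.mk ((maximalIdeal A).map (algebraMap A B))) :=
    IsLocalHom.of_surjective _ Ideal.Quotient.mk_surjective
  have hbmem : ∀ j, b j ∈ maximalIdeal B := by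
    intro j
    rw [← IsLocalRing.maximalIdeal_comap
      (Ideal.Quotient.mk ((maximalIdeal A).map (algebraMap A B))), Ideal.mem_comap, hb]
    exact (zb j).2
  have hy : Ideal.span (Set.range fun i : Fin (maximalIdeal A).spanFinrank =>
      algebraMap A B (x i : A)) = (maximalIdeal A).map (algebraMap A B) := by
    have h1 : (maximalIdeal A).map (algebraMap A B) =
        Ideal.map (algebraMap A B) (Ideal.span (Set.range fun i => (x i : A))) := by rw [hx]
    rw [h1, Ideal.map_span, ← Set.range_comp]
    rfl
  refine ⟨fun i => ⟨algebraMap A B (x i), hJle (Ideal.mem_map_of_mem _ (x i).2)⟩,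
    fun j => ⟨b j, hbmem j⟩, hy, ?_⟩
  change Ideal.span (Set.range fun i : Fin (maximalIdeal A).spanFinrank =>
      algebraMap A B (x i : A)) ⊔ Ideal.span (Set.range fun j => b j) = maximalIdeal B
  rw [hy]
  apply RegLocal.sup_span_eq_maximalIdeal_of_quotient ((maximalIdeal A).map (algebraMap A B)) b
  have hfun : (fun j => Ideal.Quotient.mk ((maximalIdeal A).map (algebraMap A B)) (b j)) =
      fun j => (zb j : B ⧸ (maximalIdeal A).map (algebraMap A B)) := funext hb
  rw [hfun]
  exact hzb.symm

lemma spanFinrank_le :
    (maximalIdeal B).spanFinrank ≤ (maximalIdeal A).spanFinrank +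
      (maximalIdeal (B ⧸ (maximalIdeal A).map (algebraMap A B))).spanFinrank := by
  obtain ⟨y, z, -, hsup⟩ := exists_gens (A := A) (B := B)
  have hp : Submodule.FG (Ideal.span (Set.range fun i => (y i : B)) : Submodule B B) :=
    IsNoetherian.noetherian _
  have hq : Submodule.FG (Ideal.span (Set.range fun j => (z j : B)) : Submodule B B) :=
    IsNoetherian.noetherian _
  have h := Submodule.spanRank_sup_le_sum_spanRank
    (p := Ideal.span (Set.range fun i => (y i : B)))
    (q := Ideal.span (Set.range fun j => (z j : B)))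
  rw [Submodule.FG.spanRank_eq_spanFinrank (Submodule.FG.sup hp hq),
    Submodule.FG.spanRank_eq_spanFinrank hp, Submodule.FG.spanRank_eq_spanFinrank hq] at h
  have h' : (Ideal.span (Set.range fun i => (y i : B)) ⊔
      Ideal.span (Set.range fun j => (z j : B))).spanFinrank ≤
      (Ideal.span (Set.range fun i => (y i : B))).spanFinrank +
        (Ideal.span (Set.range fun j => (z j : B))).spanFinrank := by exact_mod_cast h
  rw [hsup] at h'
  exact h'.trans (add_le_add (RegLocal.spanFinrank_span_range_le _)
    (RegLocal.spanFinrank_span_range_le _))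

lemma linearIndependent_of_eq
    (h : (maximalIdeal B).spanFinrank = (maximalIdeal A).spanFinrank +
      (maximalIdeal (B ⧸ (maximalIdeal A).map (algebraMap A B))).spanFinrank) :
    ∃ y : Fin (maximalIdeal A).spanFinrank → maximalIdeal B,
      Ideal.span (Set.range fun i => (y i : B)) = (maximalIdeal A).map (algebraMap A B) ∧
      LinearIndependent (ResidueField B) (fun i => (maximalIdeal B).toCotangent (y i)) := by
  classical
  obtain ⟨y, z, hy, hsup⟩ := exists_gens (A := A) (B := B)
  refine ⟨y, hy, ?_⟩
  have hspan := (RegLocal.span_cotangent_sup_eq_top_iff y z).mpr hsup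
  have hli : LinearIndependent (ResidueField B)
      (Sum.elim (fun i => (maximalIdeal B).toCotangent (y i))
        (fun j => (maximalIdeal B).toCotangent (z j))) := by
    apply linearIndependent_of_top_le_span_of_card_eq_finrank
    · rw [Set.Sum.elim_range, Submodule.span_union, hspan]
    · rw [Fintype.card_sum, Fintype.card_fin, Fintype.card_fin, ← h,
        spanFinrank_maximalIdeal_eq_finrank_cotangentSpace]
  have h2 := hli.comp Sum.inl Sum.inl_injective
  rwa [Sum.elim_comp_inl] at h2

lemma dim_le : ringKrullDim B ≤ ringKrullDim A +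
    ringKrullDim (B ⧸ (maximalIdeal A).map (algebraMap A B)) := by
  haveI : (maximalIdeal B).LiesOver (maximalIdeal A) :=
    ⟨(IsLocalRing.maximalIdeal_comap (algebraMap A B)).symm⟩
  have h := Ideal.height_le_height_add_of_liesOver (maximalIdeal A) (maximalIdeal B)
  rw [IsLocalRing.map_maximalIdeal_of_surjective _ Ideal.Quotient.mk_surjective] at h
  rw [← IsLocalRing.maximalIdeal_height_eq_ringKrullDim,
    ← IsLocalRing.maximalIdeal_height_eq_ringKrullDim (R := A),
    ← IsLocalRing.maximalIdeal_height_eq_ringKrullDim
      (R := B ⧸ (maximalIdeal A).map (algebraMap A B))]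
  exact_mod_cast h

end Groth.Agent.Lib.Helper27.RegHom
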