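import Groth.Agent.Lib.Helper27.FunFld10

/-! Riemann's inequality `g ≤ (n-1)(m-1)` for `K = k(x, y)`. -/

set_option autoImplicit false

namespace Groth.Agent.Lib.Helper27.FF

open FunFld Polynomial IntermediateField

universe u v
variable {k : Type u} {K : Type v} [Field k] [Field K] [Algebra k K]

theorem genus_le_of_two_gen (hK : IsFunctionField k K) {x y : K} (hx : Transcendental k x)
    (hxy : k⟮x, y⟯ = ⊤) :
    (genus k K : ℤ) ≤ ((Module.finrank k⟮x⟯ K : ℤ) - 1) * ((poleDiv k y).deg - 1) := by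
  classical
  haveI := finiteDimensional_adjoin hK hx
  set n := Module.finrank k⟮x⟯ K with hn
  have hnpos : 0 < n := Module.finrank_pos
  have htop : k⟮x⟯⟮y⟯ = ⊤ := by
    apply IntermediateField.restrictScalars_injective k
    rw [adjoin_simple_adjoin_simple, hxy, restrictScalars_top]
  have hyint : IsIntegral k⟮x⟯ y := .of_finite _ y
  have hdeg : (minpoly k⟮x⟯ y).natDegree = n := by
    rw [← adjoin.finrank hyint, htop, finrank_top']
  have hli := linearIndependent_pow (K := k⟮x⟯) y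
  set N := (minpoly k⟮x⟯ y).natDegree with hN
  let C₀ : Divisor k K := ((n - 1 : ℕ) : ℤ) • poleDiv k y
  have hu : ∀ j : Fin N, y ^ (j : ℕ) ∈ L C₀ := by
    intro j
    have h1 := mul_pow_mem_L hK y (1 : K) (C₀ := 0) (one_mem_L_of_nonneg le_rfl)
      (i := (j : ℕ)) (l := n - 1) (by have := j.2; omega)
    rwa [mul_one, add_zero] at h1
  have hcount : ∀ l : ℕ, (l + 1) * N ≤ ell ((l : ℤ) • poleDiv k x + C₀) := by
    intro l
    have hb := linearIndependent_pow_gen hx l
    have hF := linearIndependent_smul hb hli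
    have hmem : ∀ p : Fin (l + 1) × Fin N,
        (AdjoinSimple.gen k x) ^ (p.1 : ℕ) • y ^ (p.2 : ℕ) ∈ L ((l : ℤ) • poleDiv k x + C₀) := by
      intro p
      have : (AdjoinSimple.gen k x) ^ (p.1 : ℕ) • y ^ (p.2 : ℕ) = x ^ (p.1 : ℕ) * y ^ (p.2 : ℕ) := by
        rw [Algebra.smul_def]
        simp
      rw [this]
      exact mul_pow_mem_L hK x (y ^ (p.2 : ℕ)) (hu p.2) (Nat.lt_succ_iff.mp p.1.2)
    let F' : Fin (l + 1) × Fin N → ↥(L ((l : ℤ) • poleDiv k x + C₀)) := fun p => ⟨_, hmem p⟩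
    have hF' : LinearIndependent k F' :=
      LinearIndependent.of_comp (L ((l : ℤ) • poleDiv k x + C₀)).subtype hF
    haveI := finiteDimensional_L hK ((l : ℤ) • poleDiv k x + C₀)
    have hcard := hF'.fintype_card_le_finrank
    rw [Fintype.card_prod, Fintype.card_fin, Fintype.card_fin] at hcard
    exact hcard
  set g := genus k K with hg
  have hdx := deg_poleDiv_eq hK hx
  have hm0 : 0 ≤ (poleDiv k y).deg := deg_nonneg_of_nonneg (poleDiv_nonneg y)
  have hDdeg : ∀ l : ℕ, ((l : ℤ) • poleDiv k x + C₀).deg =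
      l * n + ((n - 1 : ℕ) : ℤ) * (poleDiv k y).deg := by
    intro l
    rw [deg_add, deg_int_smul, deg_int_smul, hdx]
  have h1 := hcount (2 * g)
  have h2 := (core_of hK).ell_eq_of_deg_ge (D := ((2 * g : ℕ) : ℤ) • poleDiv k x + C₀) (by
    rw [hDdeg]
    have : (0 : ℤ) ≤ ((n - 1 : ℕ) : ℤ) * (poleDiv k y).deg := mul_nonneg (Int.natCast_nonneg _) hm0
    have hn1 : (1 : ℤ) ≤ n := by exact_mod_cast hnpos
    push_cast
    nlinarith)
  rw [hDdeg] at h2
  rw [hdeg] at h1
  have h1' : (((2 * g + 1) * n : ℕ) : ℤ) ≤ ell (((2 * g : ℕ) : ℤ) • poleDiv k x + C₀) := by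
    exact_mod_cast h1
  rw [h2] at h1'
  have hn1 : ((n - 1 : ℕ) : ℤ) = (n : ℤ) - 1 := by
    rw [Nat.cast_sub hnpos]; simp
  rw [hn1] at h1'
  push_cast at h1'
  nlinarith

end Groth.Agent.Lib.Helper27.FF

namespace Groth.Agent.Lib.Helper27.FF

open FunFld Polynomial IntermediateField

universe u v
variable {k : Type u} {K : Type v} [Field k] [Field K] [Algebra k K]

theorem transcendental_of_finrank_adjoin (hK : IsFunctionField k K) {z : K} {n : ℕ} (hn : 0 < n)
    (hz : Module.finrank k⟮z⟯ K = n) : Transcendental k z := by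
  intro halg
  obtain ⟨c, rfl⟩ := hK.2 z halg
  have hbot : k⟮algebraMap k K c⟯ = ⊥ :=
    adjoin_simple_eq_bot_iff.mpr (IntermediateField.algebraMap_mem ⊥ c)
  rw [hbot, IntermediateField.finrank_bot'] at hz
  haveI : FiniteDimensional k K := Module.finite_of_finrank_pos (by omega)
  obtain ⟨⟨x₀, hx₀, -⟩, -⟩ := hK
  exact hx₀ (Algebra.IsAlgebraic.isAlgebraic x₀)

/-- If the genus is at least `2`, there is at most one rational subfield of index `2`. -/
theorem adjoin_eq_of_finrank_two (hK : IsFunctionField k K) (hg : 2 ≤ genus k K) (x x' : K)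
    (hx : Module.finrank k⟮x⟯ K = 2) (hx' : Module.finrank k⟮x'⟯ K = 2) : k⟮x⟯ = k⟮x'⟯ := by
  by_contra hne
  have hxt := transcendental_of_finrank_adjoin hK (by norm_num) hx
  have hx't := transcendental_of_finrank_adjoin hK (by norm_num) hx'
  haveI := finiteDimensional_adjoin hK hxt
  haveI := finiteDimensional_adjoin hK hx't
  have hnot : x' ∉ k⟮x⟯ := by
    intro hmem
    have hle : k⟮x'⟯ ≤ k⟮x⟯ := adjoin_simple_le_iff.mpr hmem
    exact hne (eq_of_le_of_finrank_eq' hle (by rw [hx, hx'])).symm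
  have hxy : k⟮x, x'⟯ = ⊤ := by
    have h1 : Module.finrank k⟮x⟯ k⟮x⟯⟮x'⟯ * Module.finrank k⟮x⟯⟮x'⟯ K = 2 := by
      rw [Module.finrank_mul_finrank, hx]
    have h2 : Module.finrank k⟮x⟯ k⟮x⟯⟮x'⟯ ≠ 1 := by
      rw [Ne, finrank_adjoin_simple_eq_one_iff]
      intro hbot
      obtain ⟨z, hz⟩ := IntermediateField.mem_bot.mp hbot
      exact hnot (by rw [← hz]; exact z.2)
    have h3 : Module.finrank k⟮x⟯⟮x'⟯ K = 1 := by
      have ha : Module.finrank k⟮x⟯ k⟮x⟯⟮x'⟯ ∣ 2 := ⟨_, h1.symm⟩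
      rcases (Nat.dvd_prime Nat.prime_two).mp ha with h | h
      · exact absurd h h2
      · rw [h] at h1; omega
    have h4 : k⟮x⟯⟮x'⟯ = ⊤ :=
      eq_of_le_of_finrank_eq' le_top (by rw [h3, IntermediateField.finrank_top])
    rw [← adjoin_simple_adjoin_simple, h4, restrictScalars_top]
  have h5 := genus_le_of_two_gen hK hxt hxy
  rw [hx, deg_poleDiv_eq hK hx't, hx'] at h5
  norm_num at h5
  omega

end Groth.Agent.Lib.Helper27.FF
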