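import Mathlib
import Groth.Agent.S0543
import Groth.Agent.Lib.Helper27.CLocBasic

/-!
Completed principal localizations `C⟨g⁻¹⟩ = CLoc J g` of a Noetherian ring `C` (as an algebra over
itself): Noetherian, flat over `C`, reduction of finite type over `C`.
-/

set_option autoImplicit false
universe u

namespace Groth.Agent.Lib.Helper27.RigCL

open AdicRing
open Groth.Agent.Lib.Helper27 Groth.Agent.Lib.Helper27.CLocBasic

variable {C : Type u} [CommRing C] [IsNoetherianRing C] (J : Ideal C) (g : C)

instance isNoetherianRing_away : IsNoetherianRing (Localization.Away g) :=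
  IsLocalization.isNoetherianRing (Submonoid.powers g) _ inferInstance

theorem isNoetherianRing_cLoc : IsNoetherianRing (CLoc (R := C) J g) :=
  Groth.Agent.S0543.result _ _

theorem isAdicComplete_cLoc' :
    IsAdicComplete (J.map (algebraMap C (CLoc (R := C) J g))) (CLoc (R := C) J g) :=
  isAdicComplete_cLoc J (IsNoetherian.noetherian J) g

theorem le_jacobson_cLoc :
    J.map (algebraMap C (CLoc (R := C) J g)) ≤ Ideal.jacobson ⊥ := by
  haveI := isAdicComplete_cLoc' J g
  exact IsAdicComplete.le_jacobson_bot _

theorem flat_cLoc : Module.Flat C (CLoc (R := C) J g) := by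
  haveI : Module.Flat C (Localization.Away g) := IsLocalization.flat _ (Submonoid.powers g)
  haveI : Module.Flat (Localization.Away g) (CLoc (R := C) J g) :=
    AdicCompletion.flat_of_isNoetherian _
  exact Module.Flat.trans C (Localization.Away g) (CLoc (R := C) J g)

theorem isUnit_algebraMap_cLoc : IsUnit (algebraMap C (CLoc (R := C) J g) g) := by
  have : algebraMap C (CLoc (R := C) J g) g = algebraMap (Localization.Away g) (CLoc (R := C) J g)
      (algebraMap C (Localization.Away g) g) := rfl
  rw [this]
  exact (IsLocalization.Away.algebraMap_isUnit g).map _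

theorem finiteType_quot :
    Algebra.FiniteType C
      (CLoc (R := C) J g ⧸ J.map (algebraMap C (CLoc (R := C) J g))) := by
  haveI : Algebra.FiniteType C (Localization.Away g) :=
    IsLocalization.finiteType_of_monoid_fg (Submonoid.powers g) _
  let φ : Localization.Away g →ₐ[C]
      (CLoc (R := C) J g ⧸ J.map (algebraMap C (CLoc (R := C) J g))) :=
    (Ideal.Quotient.mkₐ C _).comp (IsScalarTower.toAlgHom C (Localization.Away g) _)
  refine Algebra.FiniteType.of_surjective φ ?_
  intro z
  obtain ⟨b, rfl⟩ := Ideal.Quotient.mk_surjective z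
  obtain ⟨s, hs⟩ := exists_sub_mem J (IsNoetherian.noetherian J) g 1 b
  refine ⟨s, ?_⟩
  rw [pow_one] at hs
  show Ideal.Quotient.mk _ (algebraMap (Localization.Away g) (CLoc (R := C) J g) s) =
    Ideal.Quotient.mk _ b
  rw [Ideal.Quotient.eq]
  have := Ideal.neg_mem_iff _ |>.mpr hs
  rwa [neg_sub] at this

end Groth.Agent.Lib.Helper27.RigCL
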