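import Mathlib
import Groth.Agent.Lib.Helper27.RigCL

/-!
The canonical map `ψ : A⟨f⁻¹⟩ → B⟨f⁻¹⟩` of completed principal localizations: it is again adic
and topologically of finite type.
-/

set_option autoImplicit false
universe u

namespace Groth.Agent.Lib.Helper27.RigCL3

open AdicRing
open Groth.Agent.Lib.Helper27 Groth.Agent.Lib.Helper27.CLocBasic

variable {A : Type u} [CommRing A] [IsNoetherianRing A] (I : Ideal A) {B : Type u} [CommRing B]
  [Algebra A B] [IsNoetherianRing B] (f : A)
  (ψ : CLoc (R := A) I f →+* CLoc (R := B) (I.map (algebraMap A B)) (algebraMap A B f))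

/-- compatibility on `A` from compatibility on `A_f`. -/
theorem compat_of_comp
    (hψ : ψ.comp (algebraMap (Localization.Away f) (CLoc (R := A) I f)) =
      (algebraMap (Localization.Away (algebraMap A B f))
        (CLoc (R := B) (I.map (algebraMap A B)) (algebraMap A B f))).comp
        (Localization.awayMap (algebraMap A B) f)) (a : A) :
    ψ (algebraMap A (CLoc (R := A) I f) a) =
      algebraMap B (CLoc (R := B) (I.map (algebraMap A B)) (algebraMap A B f))
        (algebraMap A B a) := by
  have h1 := RingHom.congr_fun hψ (algebraMap A (Localization.Away f) a)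
  rw [RingHom.comp_apply, RingHom.comp_apply] at h1
  have h2 : Localization.awayMap (algebraMap A B) f (algebraMap A (Localization.Away f) a) =
      algebraMap B (Localization.Away (algebraMap A B f)) (algebraMap A B a) :=
    IsLocalization.map_eq _ _
  rw [h2] at h1
  exact h1

variable (hψ : ∀ a : A, ψ (algebraMap A (CLoc (R := A) I f) a) =
      algebraMap B (CLoc (R := B) (I.map (algebraMap A B)) (algebraMap A B f))
        (algebraMap A B a))

include hψ in
theorem map_map_psi (K : Ideal A) : (K.map (algebraMap A (CLoc (R := A) I f))).map ψ =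
    (K.map (algebraMap A B)).map
      (algebraMap B (CLoc (R := B) (I.map (algebraMap A B)) (algebraMap A B f))) := by
  have e : ψ.comp (algebraMap A (CLoc (R := A) I f)) =
      (algebraMap B (CLoc (R := B) (I.map (algebraMap A B)) (algebraMap A B f))).comp
        (algebraMap A B) := RingHom.ext (fun a => hψ a)
  calc (K.map (algebraMap A (CLoc (R := A) I f))).map ψ
      = K.map (ψ.comp (algebraMap A (CLoc (R := A) I f))) := Ideal.map_map _ _
    _ = K.map ((algebraMap B (CLoc (R := B) (I.map (algebraMap A B)) (algebraMap A B f))).comp
        (algebraMap A B)) := by rw [e]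
    _ = _ := (Ideal.map_map _ _).symm

include hψ in
theorem isScalarTower_psi :
    letI := ψ.toAlgebra
    IsScalarTower A (CLoc (R := A) I f)
      (CLoc (R := B) (I.map (algebraMap A B)) (algebraMap A B f)) := by
  letI := ψ.toAlgebra
  refine IsScalarTower.of_algebraMap_eq (fun a => ?_)
  rw [IsScalarTower.algebraMap_apply A B
    (CLoc (R := B) (I.map (algebraMap A B)) (algebraMap A B f))]
  exact (hψ a).symm

include hψ in
theorem isAdicComplete_psi :
    IsAdicComplete ((I.map (algebraMap A (CLoc (R := A) I f))).map ψ)
      (CLoc (R := B) (I.map (algebraMap A B)) (algebraMap A B f)) := by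
  rw [map_map_psi I f ψ hψ]
  exact RigCL.isAdicComplete_cLoc' _ _

include hψ in
theorem finiteType_quot_psi (hft : Algebra.FiniteType A (B ⧸ I.map (algebraMap A B))) :
    letI := ψ.toAlgebra
    Algebra.FiniteType (CLoc (R := A) I f)
      (CLoc (R := B) (I.map (algebraMap A B)) (algebraMap A B f) ⧸
        (I.map (algebraMap A (CLoc (R := A) I f))).map ψ) := by
  letI := ψ.toAlgebra
  haveI := isScalarTower_psi I f ψ hψ
  rw [map_map_psi I f ψ hψ]
  have h1 : Algebra.FiniteType B
      (CLoc (R := B) (I.map (algebraMap A B)) (algebraMap A B f) ⧸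
        (I.map (algebraMap A B)).map
          (algebraMap B (CLoc (R := B) (I.map (algebraMap A B)) (algebraMap A B f)))) :=
    RigCL.finiteType_quot _ _
  haveI : Algebra.FiniteType (B ⧸ I.map (algebraMap A B))
      (CLoc (R := B) (I.map (algebraMap A B)) (algebraMap A B f) ⧸
        (I.map (algebraMap A B)).map
          (algebraMap B (CLoc (R := B) (I.map (algebraMap A B)) (algebraMap A B f)))) :=
    Algebra.FiniteType.of_restrictScalars_finiteType B _ _
  haveI : IsScalarTower A (B ⧸ I.map (algebraMap A B))
      (CLoc (R := B) (I.map (algebraMap A B)) (algebraMap A B f) ⧸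
        (I.map (algebraMap A B)).map
          (algebraMap B (CLoc (R := B) (I.map (algebraMap A B)) (algebraMap A B f)))) := by
    refine IsScalarTower.of_algebraMap_eq (fun a => ?_)
    show Ideal.Quotient.mk _ (algebraMap A
      (CLoc (R := B) (I.map (algebraMap A B)) (algebraMap A B f)) a) =
      Ideal.Quotient.mk _ (algebraMap B _ (algebraMap A B a))
    rw [IsScalarTower.algebraMap_apply A B
      (CLoc (R := B) (I.map (algebraMap A B)) (algebraMap A B f))]
  haveI := hft
  haveI : Algebra.FiniteType A
      (CLoc (R := B) (I.map (algebraMap A B)) (algebraMap A B f) ⧸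
        (I.map (algebraMap A B)).map
          (algebraMap B (CLoc (R := B) (I.map (algebraMap A B)) (algebraMap A B f)))) :=
    Algebra.FiniteType.trans (S := B ⧸ I.map (algebraMap A B)) inferInstance inferInstance
  exact Algebra.FiniteType.of_restrictScalars_finiteType A _ _

end Groth.Agent.Lib.Helper27.RigCL3
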