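import Mathlib
import Groth.Agent.Lib.Helper8.FlatCompl2

/-!
Flatness transfer along an "approximable" change of base ring.

If `R → R' → S'` with `S'` flat over `R`, `R'` and `S'` Noetherian, `𝔫 R' S'` in the Jacobson
radical of `S'`, and every element of `R'` is congruent to an element of `R` modulo `𝔫 R'`,
then `S'` is flat over `R'`.
-/

set_option autoImplicit false
universe u

namespace Groth.Agent.Lib.Helper27.RigFlatF

open TensorProduct

section alg

variable {R R' S' : Type u} [CommRing R] [CommRing R'] [CommRing S'] [Algebra R R']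
  [Algebra R' S'] [Algebra R S'] [IsScalarTower R R' S']

/-- approximability modulo `𝔫 R'` implies approximability modulo all powers. -/
theorem approx_pow (𝔫 : Ideal R)
    (h : ∀ r' : R', ∃ r : R, r' - algebraMap R R' r ∈ 𝔫.map (algebraMap R R')) (n : ℕ) (r' : R') :
    ∃ r : R, r' - algebraMap R R' r ∈ (𝔫 ^ n).map (algebraMap R R') := by
  induction n generalizing r' with
  | zero =>
    refine ⟨0, ?_⟩
    rw [pow_zero, Ideal.one_eq_top, Ideal.map_top]
    exact Submodule.mem_top
  | succ n ih =>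
    obtain ⟨r₀, hr₀⟩ := ih r'
    have key : ∀ d ∈ (𝔫 ^ n).map (algebraMap R R'),
        ∃ r : R, d - algebraMap R R' r ∈ (𝔫 ^ (n + 1)).map (algebraMap R R') := by
      intro d hd
      unfold Ideal.map at hd
      induction hd using Submodule.span_induction with
      | mem x hx =>
        obtain ⟨c, _, rfl⟩ := hx
        exact ⟨c, by rw [sub_self]; exact Ideal.zero_mem _⟩
      | zero => exact ⟨0, by rw [map_zero, sub_self]; exact Ideal.zero_mem _⟩
      | add x y _ _ hx hy =>
        obtain ⟨r₁, h₁⟩ := hx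
        obtain ⟨r₂, h₂⟩ := hy
        refine ⟨r₁ + r₂, ?_⟩
        have : x + y - algebraMap R R' (r₁ + r₂) =
            (x - algebraMap R R' r₁) + (y - algebraMap R R' r₂) := by rw [map_add]; ring
        rw [this]
        exact Ideal.add_mem _ h₁ h₂
      | smul b x hxmem hx =>
        obtain ⟨rx, hrx⟩ := hx
        obtain ⟨rb, hrb⟩ := h b
        refine ⟨rb * rx, ?_⟩
        have hxmem' : x ∈ (𝔫 ^ n).map (algebraMap R R') := hxmem
        have e : b • x - algebraMap R R' (rb * rx) =
            (b - algebraMap R R' rb) * x + algebraMap R R' rb * (x - algebraMap R R' rx) := by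
          rw [map_mul, smul_eq_mul]; ring
        rw [e]
        refine Ideal.add_mem _ ?_ (Ideal.mul_mem_left _ _ hrx)
        rw [pow_succ', Ideal.map_mul]
        exact Ideal.mul_mem_mul hrb hxmem'
    obtain ⟨r₁, hr₁⟩ := key _ hr₀
    refine ⟨r₀ + r₁, ?_⟩
    have : r' - algebraMap R R' (r₀ + r₁) = (r' - algebraMap R R' r₀) - algebraMap R R' r₁ := by
      rw [map_add]; ring
    rw [this]
    exact hr₁

/-- **Flatness transfer**: module form. -/
theorem flat_of_flat_of_approx [IsNoetherianRing R'] [IsNoetherianRing S'] [Module.Flat R S']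
    (𝔫 : Ideal R) (h1 : (𝔫.map (algebraMap R R')).map (algebraMap R' S') ≤ Ideal.jacobson ⊥)
    (happ : ∀ (n : ℕ) (r' : R'), ∃ r : R,
      r' - algebraMap R R' r ∈ (𝔫 ^ n).map (algebraMap R R')) :
    Module.Flat R' S' := by
  let μ : R' ⊗[R] S' →ₐ[R'] S' :=
    Algebra.TensorProduct.lift (Algebra.ofId R' S') (AlgHom.id R S') (fun _ _ => Commute.all _ _)
  have hμ : ∀ (r' : R') (s : S'), μ (r' ⊗ₜ[R] s) = algebraMap R' S' r' * s := fun r' s => by
    simp [μ, Algebra.ofId_apply]
  letI : Algebra (R' ⊗[R] S') S' := μ.toRingHom.toAlgebra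
  have halg : ∀ x, algebraMap (R' ⊗[R] S') S' x = μ x := fun _ => rfl
  haveI : IsScalarTower R' (R' ⊗[R] S') S' := IsScalarTower.of_algebraMap_eq (fun x => by
    rw [halg, Algebra.TensorProduct.algebraMap_apply, hμ, Algebra.algebraMap_self_apply, mul_one])
  set I : Ideal R' := 𝔫.map (algebraMap R R') with hI
  have hIn : ∀ n, I ^ n = (𝔫 ^ n).map (algebraMap R R') := fun n => by rw [hI, Ideal.map_pow]
  refine Groth.Agent.Lib.Helper8.flat_of_approx' (A := R') (S := R' ⊗[R] S') (T := S') I h1 ?_ ?_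
  · intro n t
    refine ⟨1 ⊗ₜ[R] t, ?_⟩
    rw [halg, hμ, map_one, one_mul, sub_self]
    exact Ideal.zero_mem _
  · intro n s hs
    -- Step (i)
    have step1 : ∀ s : R' ⊗[R] S', ∃ t : S',
        s - 1 ⊗ₜ[R] t ∈ (I ^ n).map (algebraMap R' (R' ⊗[R] S')) := by
      intro s
      induction s using TensorProduct.induction_on with
      | zero => exact ⟨0, by rw [tmul_zero, sub_self]; exact Ideal.zero_mem _⟩
      | tmul r' t₀ =>
        obtain ⟨r, hr⟩ := happ n r'
        refine ⟨r • t₀, ?_⟩
        have e : r' ⊗ₜ[R] t₀ - (1 : R') ⊗ₜ[R] (r • t₀) =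
            algebraMap R' (R' ⊗[R] S') (r' - algebraMap R R' r) * ((1 : R') ⊗ₜ[R] t₀) := by
          rw [Algebra.TensorProduct.algebraMap_apply, Algebra.TensorProduct.tmul_mul_tmul,
            Algebra.algebraMap_self_apply, mul_one, one_mul, sub_tmul, ← smul_tmul,
            Algebra.smul_def, mul_one]
        rw [e]
        refine Ideal.mul_mem_right _ _ (Ideal.mem_map_of_mem _ ?_)
        rw [hIn]
        exact hr
      | add x y hx hy =>
        obtain ⟨t₁, h₁⟩ := hx
        obtain ⟨t₂, h₂⟩ := hy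
        refine ⟨t₁ + t₂, ?_⟩
        have : x + y - (1 : R') ⊗ₜ[R] (t₁ + t₂) =
            (x - (1 : R') ⊗ₜ[R] t₁) + (y - (1 : R') ⊗ₜ[R] t₂) := by rw [tmul_add]; ring
        rw [this]
        exact Ideal.add_mem _ h₁ h₂
    have step2 : ∀ t ∈ (𝔫 ^ n).map (algebraMap R S'),
        (1 : R') ⊗ₜ[R] t ∈ (I ^ n).map (algebraMap R' (R' ⊗[R] S')) := by
      intro t ht'
      unfold Ideal.map at ht'
      induction ht' using Submodule.span_induction with
      | mem x hx =>
        obtain ⟨c, hc, rfl⟩ := hx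
        have e : (1 : R') ⊗ₜ[R] (algebraMap R S' c) =
            algebraMap R' (R' ⊗[R] S') (algebraMap R R' c) := by
          rw [Algebra.TensorProduct.algebraMap_apply, Algebra.algebraMap_self_apply,
            Algebra.algebraMap_eq_smul_one, Algebra.algebraMap_eq_smul_one, smul_tmul]
        rw [e]
        refine Ideal.mem_map_of_mem _ ?_
        rw [hIn]
        exact Ideal.mem_map_of_mem _ hc
      | zero => rw [tmul_zero]; exact Ideal.zero_mem _
      | add x y _ _ hx hy => rw [tmul_add]; exact Ideal.add_mem _ hx hy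
      | smul b x _ hx =>
        have e : (1 : R') ⊗ₜ[R] (b • x) = ((1 : R') ⊗ₜ[R] b) * ((1 : R') ⊗ₜ[R] x) := by
          rw [Algebra.TensorProduct.tmul_mul_tmul, one_mul, smul_eq_mul]
        rw [e]
        exact Ideal.mul_mem_left _ _ hx
    obtain ⟨t, ht⟩ := step1 s
    -- `μ` maps `Iⁿ T` into `Iⁿ S'`
    have hμmap : ∀ x ∈ (I ^ n).map (algebraMap R' (R' ⊗[R] S')),
        μ x ∈ (I ^ n).map (algebraMap R' S') := by
      intro x hx
      have h2 := Ideal.mem_map_of_mem (algebraMap (R' ⊗[R] S') S') hx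
      rw [Ideal.map_map, ← IsScalarTower.algebraMap_eq] at h2
      exact h2
    have ht' : t ∈ (I ^ n).map (algebraMap R' S') := by
      have h3 := hμmap _ ht
      rw [map_sub, hμ, map_one, one_mul] at h3
      have h4 : t = μ s - (μ s - t) := by ring
      rw [h4]
      exact Ideal.sub_mem _ hs h3
    -- `1 ⊗ t ∈ Iⁿ T`
    have ht'' : (1 : R') ⊗ₜ[R] t ∈ (I ^ n).map (algebraMap R' (R' ⊗[R] S')) := by
      rw [hIn, Ideal.map_map, ← IsScalarTower.algebraMap_eq] at ht'
      exact step2 t ht'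
    have : s = (s - (1 : R') ⊗ₜ[R] t) + (1 : R') ⊗ₜ[R] t := by ring
    rw [this]
    exact Ideal.add_mem _ ht ht''

end alg

/-- **Flatness transfer**: ring hom form. -/
theorem flat_of_comp_flat_of_approx {R R' S' : Type u} [CommRing R] [CommRing R'] [CommRing S']
    [IsNoetherianRing R'] [IsNoetherianRing S'] (α : R →+* R') (β : R' →+* S') (𝔫 : Ideal R)
    (h1 : (𝔫.map α).map β ≤ Ideal.jacobson ⊥)
    (happ : ∀ r' : R', ∃ r : R, r' - α r ∈ 𝔫.map α) (hflat : (β.comp α).Flat) : β.Flat := by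
  algebraize [α, β, β.comp α]
  exact flat_of_flat_of_approx 𝔫 h1 (approx_pow 𝔫 happ)

end Groth.Agent.Lib.Helper27.RigFlatF
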