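import Mathlib
import Groth.Agent.Lib.Helper27.RigCL
import Groth.Agent.Lib.Helper27.RigFlatF

/-!
The universal property of completed principal localizations `C⟨g⁻¹⟩ = CLoc K g`, and consequences:
flatness / faithful flatness of the induced maps between completed localizations.
-/

set_option autoImplicit false
universe u

namespace Groth.Agent.Lib.Helper27.RigUP

open AdicRing
open Groth.Agent.Lib.Helper27 Groth.Agent.Lib.Helper27.CLocBasic

variable {B : Type u} [CommRing B] [IsNoetherianRing B] (K : Ideal B) (g : B)

section UP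

variable {T : Type u} [CommRing T] (L : Ideal T)

/-- existence part of the universal property. -/
theorem exists_lift [IsAdicComplete L T] (ρ : B →+* T) (hK : K.map ρ ≤ L) (hg : IsUnit (ρ g)) :
    ∃ χ : CLoc (R := B) K g →+* T, ∀ b : B, χ (algebraMap B (CLoc (R := B) K g) b) = ρ b := by
  classical
  let ρ₁ : Localization.Away g →+* T := IsLocalization.Away.lift g hg
  have hρ₁ : ∀ b, ρ₁ (algebraMap B (Localization.Away g) b) = ρ b :=
    IsLocalization.Away.lift_eq g hg
  have hK₁ : (K.map (algebraMap B (Localization.Away g))).map ρ₁ ≤ L := by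
    rw [Ideal.map_map, IsLocalization.Away.lift_comp]; exact hK
  have hn : ∀ n, (K.map (algebraMap B (Localization.Away g))) ^ n ≤ (L ^ n).comap ρ₁ := by
    intro n
    rw [← Ideal.map_le_iff_le_comap, Ideal.map_pow]
    exact Ideal.pow_right_mono hK₁ n
  let f : (n : ℕ) → CLoc (R := B) K g →+* T ⧸ L ^ n := fun n =>
    (Ideal.quotientMap (L ^ n) ρ₁ (hn n)).comp
      (AdicCompletion.evalₐ (K.map (algebraMap B (Localization.Away g))) n).toRingHom
  have hfapp : ∀ n (c : AdicCompletion.AdicCauchySequence
      (K.map (algebraMap B (Localization.Away g))) (Localization.Away g)),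
      f n (AdicCompletion.mk _ _ c) = Ideal.Quotient.mk (L ^ n) (ρ₁ (c.val n)) := by
    intro n c
    show Ideal.quotientMap (L ^ n) ρ₁ (hn n) (AdicCompletion.evalₐ _ n (AdicCompletion.mk _ _ c)) = _
    rw [AdicCompletion.evalₐ_mk, Ideal.quotientMap_mk]
  have hf : ∀ {m n : ℕ} (hle : m ≤ n), (Ideal.Quotient.factorPow L hle).comp (f n) = f m := by
    intro m n hle
    apply RingHom.ext
    intro x
    obtain ⟨c, rfl⟩ := AdicCompletion.mk_surjective _ _ x
    rw [RingHom.comp_apply, hfapp, hfapp, Ideal.Quotient.factor_mk, Ideal.Quotient.eq, ← map_sub]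
    have h1 : c.val n - c.val m ∈ (K.map (algebraMap B (Localization.Away g))) ^ m := by
      have h := c.2 hle
      rw [SModEq.sub_mem] at h
      have h' : c.val m - c.val n ∈ (K.map (algebraMap B (Localization.Away g))) ^ m := by
        simpa using h
      have := neg_mem h'
      simpa using this
    exact hn m h1
  refine ⟨IsAdicComplete.liftRingHom L f hf, fun b => ?_⟩
  have key : ∀ n (r : B), Ideal.Quotient.mk (L ^ n)
      (IsAdicComplete.liftRingHom L f hf (algebraMap B (CLoc (R := B) K g) r)) =
      Ideal.Quotient.mk (L ^ n) (ρ r) := by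
    intro n r
    rw [IsAdicComplete.mk_liftRingHom]
    show Ideal.quotientMap (L ^ n) ρ₁ (hn n) (AdicCompletion.evalₐ _ n
      (AdicCompletion.of _ _ (algebraMap B (Localization.Away g) r))) = _
    rw [AdicCompletion.evalₐ_of, Ideal.quotientMap_mk, hρ₁]
  exact congrFun (IsHausdorff.funext' L (f := fun r : B =>
    IsAdicComplete.liftRingHom L f hf (algebraMap B (CLoc (R := B) K g) r))
    (g := fun r => ρ r) key) b

/-- uniqueness part of the universal property. -/
theorem lift_unique [IsHausdorff L T] (χ₁ χ₂ : CLoc (R := B) K g →+* T)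
    (h : ∀ b : B, χ₁ (algebraMap B (CLoc (R := B) K g) b) =
      χ₂ (algebraMap B (CLoc (R := B) K g) b))
    (hK : K.map (χ₁.comp (algebraMap B (CLoc (R := B) K g))) ≤ L) : χ₁ = χ₂ := by
  classical
  have hcomp : χ₁.comp (algebraMap B (CLoc (R := B) K g)) =
      χ₂.comp (algebraMap B (CLoc (R := B) K g)) := RingHom.ext h
  -- agreement on `B_g`
  have hloc : χ₁.comp (algebraMap (Localization.Away g) (CLoc (R := B) K g)) =
      χ₂.comp (algebraMap (Localization.Away g) (CLoc (R := B) K g)) := by
    apply IsLocalization.ringHom_ext (Submonoid.powers g)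
    apply RingHom.ext
    intro b
    exact h b
  have hmem : ∀ (χ : CLoc (R := B) K g →+* T), χ.comp (algebraMap B (CLoc (R := B) K g)) =
      χ₁.comp (algebraMap B (CLoc (R := B) K g)) → ∀ n, ∀ e ∈ (K ^ n).map (algebraMap B (CLoc (R := B) K g)),
      χ e ∈ L ^ n := by
    intro χ hχ n e he
    have h1 : χ e ∈ ((K ^ n).map (algebraMap B (CLoc (R := B) K g))).map χ :=
      Ideal.mem_map_of_mem _ he
    rw [Ideal.map_map, hχ, Ideal.map_pow] at h1
    exact Ideal.pow_right_mono hK n h1
  apply DFunLike.coe_injective
  apply IsHausdorff.funext' L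
  intro n x
  obtain ⟨s, hs⟩ := exists_sub_mem K (IsNoetherian.noetherian K) g n x
  have e1 : ∀ χ : CLoc (R := B) K g →+* T, χ x = χ (algebraMap (Localization.Away g) _ s) +
      χ (x - algebraMap (Localization.Away g) _ s) := by
    intro χ
    rw [← map_add]
    congr 1
    ring
  rw [e1 χ₁, e1 χ₂, map_add, map_add,
    Ideal.Quotient.eq_zero_iff_mem.mpr (hmem χ₁ rfl n _ hs),
    Ideal.Quotient.eq_zero_iff_mem.mpr (hmem χ₂ hcomp.symm n _ hs)]
  congr 2
  exact RingHom.congr_fun hloc s

end UP

/-- a compatible map in the `comp` form used in the statements. -/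
theorem comp_form {B' : Type u} [CommRing B'] [Algebra B B'] (K' : Ideal B')
    (χ : CLoc (R := B) K g →+* CLoc (R := B') K' (algebraMap B B' g))
    (h : ∀ b : B, χ (algebraMap B (CLoc (R := B) K g) b) =
      algebraMap B' (CLoc (R := B') K' (algebraMap B B' g)) (algebraMap B B' b)) :
    χ.comp (algebraMap (Localization.Away g) (CLoc (R := B) K g)) =
      (algebraMap (Localization.Away (algebraMap B B' g))
        (CLoc (R := B') K' (algebraMap B B' g))).comp (Localization.awayMap (algebraMap B B') g) := by
  apply IsLocalization.ringHom_ext (Submonoid.powers g)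
  apply RingHom.ext
  intro b
  rw [RingHom.comp_apply, RingHom.comp_apply, RingHom.comp_apply, RingHom.comp_apply]
  have h2 : Localization.awayMap (algebraMap B B') g (algebraMap B (Localization.Away g) b) =
      algebraMap B' (Localization.Away (algebraMap B B' g)) (algebraMap B B' b) :=
    IsLocalization.map_eq _ _
  rw [h2]
  exact h b

/-- ideals of `C⟨g⁻¹⟩` containing `K` are determined by their contraction to `C`. -/
theorem le_of_comap_le (P₁ P₂ : Ideal (CLoc (R := B) K g))
    (h₂ : K.map (algebraMap B (CLoc (R := B) K g)) ≤ P₂)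
    (h : P₁.comap (algebraMap B (CLoc (R := B) K g)) ≤
      P₂.comap (algebraMap B (CLoc (R := B) K g))) (h₁ : K.map (algebraMap B (CLoc (R := B) K g)) ≤ P₁) :
    P₁ ≤ P₂ := by
  intro x hx
  obtain ⟨s, hs⟩ := exists_sub_mem K (IsNoetherian.noetherian K) g 1 x
  rw [pow_one] at hs
  obtain ⟨⟨b, t⟩, hbt⟩ := IsLocalization.surj (Submonoid.powers g) s
  dsimp only at hbt
  -- `alg b = alg s * alg t`
  have e1 : algebraMap B (CLoc (R := B) K g) b =
      algebraMap (Localization.Away g) (CLoc (R := B) K g) s *
        algebraMap B (CLoc (R := B) K g) (t : B) := by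
    rw [IsScalarTower.algebraMap_apply B (Localization.Away g) (CLoc (R := B) K g), ← hbt, map_mul,
      ← IsScalarTower.algebraMap_apply B (Localization.Away g) (CLoc (R := B) K g)]
  have hs1 : algebraMap (Localization.Away g) (CLoc (R := B) K g) s ∈ P₁ := by
    have h3 := Ideal.sub_mem _ hx (h₁ hs)
    have e : x - (x - algebraMap (Localization.Away g) (CLoc (R := B) K g) s) =
        algebraMap (Localization.Away g) (CLoc (R := B) K g) s := by ring
    rw [e] at h3
    exact h3
  have hb1 : b ∈ P₁.comap (algebraMap B (CLoc (R := B) K g)) := by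
    rw [Ideal.mem_comap, e1]
    exact Ideal.mul_mem_right _ _ hs1
  have hb2 : algebraMap B (CLoc (R := B) K g) b ∈ P₂ := h hb1
  have htu : IsUnit (algebraMap B (CLoc (R := B) K g) (t : B)) := by
    obtain ⟨k, hk⟩ := (Submonoid.mem_powers_iff _ _).mp t.2
    rw [← hk, map_pow]
    exact (RigCL.isUnit_algebraMap_cLoc K g).pow k
  have hs2 : algebraMap (Localization.Away g) (CLoc (R := B) K g) s ∈ P₂ := by
    rw [e1, mul_comm] at hb2
    exact (Ideal.unit_mul_mem_iff_mem _ htu).mp hb2
  have h4 := Ideal.add_mem _ (h₂ hs) hs2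
  have e : x - algebraMap (Localization.Away g) (CLoc (R := B) K g) s +
      algebraMap (Localization.Away g) (CLoc (R := B) K g) s = x := by ring
  rw [e] at h4
  exact h4

/-- a ring map out of `C⟨g⁻¹⟩` into a Noetherian ring in which `K` lands in the radical is flat as
soon as its restriction to `C` is flat. -/
theorem flat_of_flat_base {T : Type u} [CommRing T] [IsNoetherianRing T]
    (χ : CLoc (R := B) K g →+* T)
    (hjac : (K.map (algebraMap B (CLoc (R := B) K g))).map χ ≤ Ideal.jacobson ⊥)
    (hflat : (χ.comp (algebraMap B (CLoc (R := B) K g))).Flat) : χ.Flat := by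
  haveI := RigCL.isNoetherianRing_cLoc K g
  refine RigFlatF.flat_of_comp_flat_of_approx
    (algebraMap (Localization.Away g) (CLoc (R := B) K g)) χ
    (K.map (algebraMap B (Localization.Away g))) ?_ ?_ ?_
  · rw [map_map_cLoc]
    exact hjac
  · intro r'
    obtain ⟨s, hs⟩ := exists_sub_mem K (IsNoetherian.noetherian K) g 1 r'
    refine ⟨s, ?_⟩
    rw [pow_one] at hs
    rw [map_map_cLoc]
    exact hs
  · letI : Algebra (Localization.Away g) T :=
      (χ.comp (algebraMap (Localization.Away g) (CLoc (R := B) K g))).toAlgebra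
    letI : Algebra B T := (χ.comp (algebraMap B (CLoc (R := B) K g))).toAlgebra
    haveI : IsScalarTower B (Localization.Away g) T := IsScalarTower.of_algebraMap_eq (fun b => by
      show χ (algebraMap B (CLoc (R := B) K g) b) =
        χ (algebraMap (Localization.Away g) (CLoc (R := B) K g)
          (algebraMap B (Localization.Away g) b))
      rw [← IsScalarTower.algebraMap_apply B (Localization.Away g) (CLoc (R := B) K g)])
    haveI : Module.Flat B T := hflat
    show Module.Flat (Localization.Away g) T
    exact (Module.flat_iff_of_isLocalization (Localization.Away g) (Submonoid.powers g) T).mpr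
      inferInstance

end Groth.Agent.Lib.Helper27.RigUP
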