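import Mathlib
import Groth.Agent.Lib.Helper27.RigUP
import Groth.Agent.Lib.Helper3.FlatDescent

/-!
Rig-closed primes (abstractly), lifting them along faithfully flat maps, faithful flatness of maps of
completed localizations, and the core of faithfully flat descent of rig-flatness.
-/

set_option autoImplicit false
universe u

namespace Groth.Agent.Lib.Helper27.RigDesc

open AdicRing
open Groth.Agent.Lib.Helper27 Groth.Agent.Lib.Helper27.CLocBasic

/-- `q` is rig-closed with respect to the ideal `J`. -/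
def RigClosed {R : Type*} [CommRing R] (J : Ideal R) (q : PrimeSpectrum R) : Prop :=
  ¬ J ≤ q.asIdeal ∧ ∀ y : PrimeSpectrum R, q ≤ y → ¬ J ≤ y.asIdeal → y = q

theorem rigClosed_iff {R : Type*} [CommRing R] (J : Ideal R) (q : PrimeSpectrum R) :
    RigClosed J q ↔
      (¬ J ≤ q.asIdeal ∧ ∀ y : PrimeSpectrum R, q ≤ y → ¬ J ≤ y.asIdeal → y = q) := Iff.rfl

/-- rig-closed primes lift along faithfully flat maps to Noetherian rings. -/
theorem exists_rigClosed_over {R R' : Type u} [CommRing R] [CommRing R'] [IsNoetherianRing R']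
    (φ : R →+* R') (hφ : φ.FaithfullyFlat) (J : Ideal R) (q : PrimeSpectrum R)
    (hq : RigClosed J q) :
    ∃ q' : PrimeSpectrum R', RigClosed (J.map φ) q' ∧ q'.asIdeal.comap φ = q.asIdeal := by
  classical
  obtain ⟨q₀, hq₀⟩ := (RingHom.FaithfullyFlat.iff_flat_and_comap_surjective.mp hφ).2 q
  have hq₀' : q₀.asIdeal.comap φ = q.asIdeal := by rw [← hq₀]; rfl
  let S : Set (Ideal R') := {p | p.IsPrime ∧ q₀.asIdeal ≤ p ∧ ¬ J.map φ ≤ p}
  have hne : S.Nonempty := by
    refine ⟨q₀.asIdeal, q₀.isPrime, le_refl _, fun hle => hq.1 ?_⟩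
    rw [← hq₀', ← Ideal.map_le_iff_le_comap]
    exact hle
  obtain ⟨M, hMS, hmax⟩ := (set_has_maximal_iff_noetherian.mpr
    (inferInstance : IsNoetherian R' R')) S hne
  obtain ⟨hMp, hq₀M, hJM⟩ := hMS
  refine ⟨⟨M, hMp⟩, ⟨hJM, ?_⟩, ?_⟩
  · intro y hy hJy
    have hyS : y.asIdeal ∈ S := ⟨y.isPrime, hq₀M.trans hy, hJy⟩
    have h1 : ¬ M < y.asIdeal := hmax _ hyS
    have h2 : M = y.asIdeal := by
      by_contra hne
      exact h1 (lt_of_le_of_ne hy hne)
    exact PrimeSpectrum.ext h2.symm
  · have h1 : q.asIdeal ≤ Ideal.comap φ M := by rw [← hq₀']; exact Ideal.comap_mono hq₀M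
    haveI := hMp
    have h2 : ¬ J ≤ Ideal.comap φ M := by
      intro hle
      exact hJM (Ideal.map_le_iff_le_comap.mpr hle)
    have h3 := hq.2 ⟨Ideal.comap φ M, inferInstance⟩ h1 h2
    rw [← h3]

section FF

variable {B : Type u} [CommRing B] [IsNoetherianRing B] (K : Ideal B) (g : B)
  {B' : Type u} [CommRing B'] [IsNoetherianRing B'] [Algebra B B']

/-- the ideal of definition is preserved by compatible maps. -/
theorem map_map_cmap (K' : Ideal B') (g' : B') (hK' : K' = K.map (algebraMap B B'))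
    (χ : CLoc (R := B) K g →+* CLoc (R := B') K' g')
    (hχ : ∀ b : B, χ (algebraMap B (CLoc (R := B) K g) b) =
      algebraMap B' (CLoc (R := B') K' g') (algebraMap B B' b)) :
    (K.map (algebraMap B (CLoc (R := B) K g))).map χ =
      K'.map (algebraMap B' (CLoc (R := B') K' g')) := by
  subst hK'
  have e : χ.comp (algebraMap B (CLoc (R := B) K g)) =
      (algebraMap B' (CLoc (R := B') (K.map (algebraMap B B')) g')).comp (algebraMap B B') :=
    RingHom.ext hχ
  calc (K.map (algebraMap B (CLoc (R := B) K g))).map χ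
      = K.map (χ.comp (algebraMap B (CLoc (R := B) K g))) := Ideal.map_map _ _
    _ = K.map ((algebraMap B' (CLoc (R := B') (K.map (algebraMap B B')) g')).comp
        (algebraMap B B')) := by rw [e]
    _ = _ := (Ideal.map_map _ _).symm

/-- compatible maps of completed localizations are flat when the base map is. -/
theorem flat_cmap [Module.Flat B B'] (K' : Ideal B') (g' : B')
    (hK' : K' = K.map (algebraMap B B'))
    (χ : CLoc (R := B) K g →+* CLoc (R := B') K' g')
    (hχ : ∀ b : B, χ (algebraMap B (CLoc (R := B) K g) b) =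
      algebraMap B' (CLoc (R := B') K' g') (algebraMap B B' b)) : χ.Flat := by
  haveI := RigCL.isNoetherianRing_cLoc K' g'
  refine RigUP.flat_of_flat_base K g χ ?_ ?_
  · rw [map_map_cmap K g K' g' hK' χ hχ]
    exact RigCL.le_jacobson_cLoc K' g'
  · have e : χ.comp (algebraMap B (CLoc (R := B) K g)) =
        (algebraMap B' (CLoc (R := B') K' g')).comp (algebraMap B B') := RingHom.ext hχ
    rw [e]
    refine RingHom.Flat.comp ?_ ?_
    · rw [RingHom.flat_algebraMap_iff]; infer_instance
    · rw [RingHom.flat_algebraMap_iff]; exact RigCL.flat_cLoc K' g'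

/-- compatible maps of completed localizations are faithfully flat when the base map is. -/
theorem faithfullyFlat_cmap [Module.FaithfullyFlat B B'] (K' : Ideal B') (g' : B')
    (hK' : K' = K.map (algebraMap B B')) (hg' : g' = algebraMap B B' g)
    (χ : CLoc (R := B) K g →+* CLoc (R := B') K' g')
    (hχ : ∀ b : B, χ (algebraMap B (CLoc (R := B) K g) b) =
      algebraMap B' (CLoc (R := B') K' g') (algebraMap B B' b)) : χ.FaithfullyFlat := by
  classical
  have hflat : χ.Flat := flat_cmap K g K' g' hK' χ hχ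
  subst hK' hg'
  show letI := χ.toAlgebra
    Module.FaithfullyFlat (CLoc (R := B) K g)
      (CLoc (R := B') (K.map (algebraMap B B')) (algebraMap B B' g))
  letI := χ.toAlgebra
  haveI : Module.Flat (CLoc (R := B) K g)
      (CLoc (R := B') (K.map (algebraMap B B')) (algebraMap B B' g)) := hflat
  refine ⟨fun m hm htop => ?_⟩
  rw [Ideal.smul_top_eq_map, Submodule.restrictScalars_eq_top_iff] at htop
  have htop' : m.map χ = ⊤ := htop
  haveI := hm.isPrime
  -- the contraction `n` of `m` to `B`
  have hKm : K.map (algebraMap B (CLoc (R := B) K g)) ≤ m :=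
    (RigCL.le_jacobson_cLoc K g).trans (sInf_le ⟨bot_le, hm⟩)
  have hgm : algebraMap B (CLoc (R := B) K g) g ∉ m := fun h =>
    hm.ne_top (Ideal.eq_top_of_isUnit_mem _ h (RigCL.isUnit_algebraMap_cLoc K g))
  obtain ⟨n', hn'⟩ := PrimeSpectrum.comap_surjective_of_faithfullyFlat (A := B) (B := B')
    ⟨m.comap (algebraMap B (CLoc (R := B) K g)), inferInstance⟩
  have hn'' : ∀ b : B, algebraMap B B' b ∈ n'.asIdeal ↔
      algebraMap B (CLoc (R := B) K g) b ∈ m := by
    intro b
    have := congrArg (fun p : PrimeSpectrum B => b ∈ p.asIdeal) hn'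
    simpa using this
  -- the residue field at `n'`
  let ρ' : B' →+* FractionRing (B' ⧸ n'.asIdeal) :=
    (algebraMap (B' ⧸ n'.asIdeal) (FractionRing (B' ⧸ n'.asIdeal))).comp
      (Ideal.Quotient.mk n'.asIdeal)
  have hρ' : ∀ x : B', ρ' x = 0 ↔ x ∈ n'.asIdeal := by
    intro x
    show algebraMap (B' ⧸ n'.asIdeal) (FractionRing (B' ⧸ n'.asIdeal))
      (Ideal.Quotient.mk n'.asIdeal x) = 0 ↔ _
    rw [map_eq_zero_iff _ (IsFractionRing.injective (B' ⧸ n'.asIdeal)
      (FractionRing (B' ⧸ n'.asIdeal))), Ideal.Quotient.eq_zero_iff_mem]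
  have h1 : (K.map (algebraMap B B')).map ρ' ≤ ⊥ := by
    rw [Ideal.map_le_iff_le_comap, Ideal.map_le_iff_le_comap]
    intro b hb
    rw [Ideal.mem_comap, Ideal.mem_comap, Ideal.mem_bot, hρ', hn'']
    exact hKm (Ideal.mem_map_of_mem _ hb)
  have h2 : IsUnit (ρ' (algebraMap B B' g)) := by
    rw [isUnit_iff_ne_zero, Ne, hρ', hn'']
    exact hgm
  obtain ⟨θ', hθ'⟩ := RigUP.exists_lift (K.map (algebraMap B B')) (algebraMap B B' g)
    (⊥ : Ideal (FractionRing (B' ⧸ n'.asIdeal))) ρ' h1 h2
  have hker : ∀ b : B, algebraMap B (CLoc (R := B) K g) b ∈ m →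
      (θ'.comp χ) (algebraMap B (CLoc (R := B) K g) b) = 0 := by
    intro b hb
    rw [RingHom.comp_apply, hχ, hθ', hρ', hn'']
    exact hb
  have hmP : m ≤ RingHom.ker (θ'.comp χ) := by
    refine RigUP.le_of_comap_le K g m (RingHom.ker (θ'.comp χ)) ?_ ?_ hKm
    · rw [Ideal.map_le_iff_le_comap]
      intro b hb
      rw [Ideal.mem_comap, RingHom.mem_ker]
      exact hker b (hKm (Ideal.mem_map_of_mem _ hb))
    · intro b hb
      rw [Ideal.mem_comap] at hb
      rw [Ideal.mem_comap, RingHom.mem_ker]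
      exact hker b hb
  have hle : m.map χ ≤ RingHom.ker θ' := by
    rw [Ideal.map_le_iff_le_comap]
    intro x hx
    rw [Ideal.mem_comap, RingHom.mem_ker]
    exact RingHom.mem_ker.mp (hmP hx)
  rw [htop'] at hle
  exact RingHom.ker_ne_top θ' (top_le_iff.mp hle)

end FF

/-- core of faithfully flat descent of rig-flatness. -/
theorem flat_descent_core {A₁ B₁ A₂ B₂ : Type u} [CommRing A₁] [CommRing B₁] [CommRing A₂]
    [CommRing B₂] [IsNoetherianRing B₂]
    (ψ : A₁ →+* B₁) (χA : A₁ →+* A₂) (χB : B₁ →+* B₂) (ψ' : A₂ →+* B₂)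
    (hcomm : ψ'.comp χA = χB.comp ψ) (hA : χA.Flat) (hB : χB.FaithfullyFlat)
    (J : Ideal B₁) (q : PrimeSpectrum B₁) (hq : RigClosed J q)
    (H : ∀ q' : PrimeSpectrum B₂, RigClosed (J.map χB) q' →
      ((algebraMap B₂ (Localization.AtPrime q'.asIdeal)).comp ψ').Flat) :
    ((algebraMap B₁ (Localization.AtPrime q.asIdeal)).comp ψ).Flat := by
  classical
  obtain ⟨q', hq', hcomap⟩ := exists_rigClosed_over χB hB J q hq
  haveI := q.isPrime
  haveI := q'.isPrime
  have h1 := H q' hq'
  have h2 : (((algebraMap B₂ (Localization.AtPrime q'.asIdeal)).comp ψ').comp χA).Flat :=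
    RingHom.Flat.comp hA h1
  have e : ((algebraMap B₂ (Localization.AtPrime q'.asIdeal)).comp ψ').comp χA =
      (Localization.localRingHom q.asIdeal q'.asIdeal χB hcomap.symm).comp
        ((algebraMap B₁ (Localization.AtPrime q.asIdeal)).comp ψ) := by
    apply RingHom.ext
    intro a
    simp only [RingHom.comp_apply]
    rw [Localization.localRingHom_to_map]
    have := RingHom.congr_fun hcomm a
    simp only [RingHom.comp_apply] at this
    rw [this]
  rw [e] at h2
  have hlflat : (Localization.localRingHom q.asIdeal q'.asIdeal χB hcomap.symm).Flat :=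
    RingHom.Flat.localRingHom hB.flat _ _ hcomap.symm
  letI alg1 : Algebra A₁ (Localization.AtPrime q.asIdeal) :=
    ((algebraMap B₁ (Localization.AtPrime q.asIdeal)).comp ψ).toAlgebra
  letI alg2 : Algebra (Localization.AtPrime q.asIdeal) (Localization.AtPrime q'.asIdeal) :=
    (Localization.localRingHom q.asIdeal q'.asIdeal χB hcomap.symm).toAlgebra
  letI alg3 : Algebra A₁ (Localization.AtPrime q'.asIdeal) :=
    ((Localization.localRingHom q.asIdeal q'.asIdeal χB hcomap.symm).comp
        ((algebraMap B₁ (Localization.AtPrime q.asIdeal)).comp ψ)).toAlgebra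
  haveI : IsScalarTower A₁ (Localization.AtPrime q.asIdeal) (Localization.AtPrime q'.asIdeal) :=
    IsScalarTower.of_algebraMap_eq (fun _ => rfl)
  haveI : Module.Flat (Localization.AtPrime q.asIdeal) (Localization.AtPrime q'.asIdeal) := hlflat
  haveI : IsLocalHom (algebraMap (Localization.AtPrime q.asIdeal)
      (Localization.AtPrime q'.asIdeal)) :=
    Localization.isLocalHom_localRingHom q.asIdeal q'.asIdeal χB hcomap.symm
  haveI : Module.FaithfullyFlat (Localization.AtPrime q.asIdeal)
      (Localization.AtPrime q'.asIdeal) := Module.FaithfullyFlat.of_flat_of_isLocalHom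
  haveI : Module.Flat A₁ (Localization.AtPrime q'.asIdeal) := h2
  exact Groth.Agent.Lib.Helper3.flat_of_faithfullyFlat_of_flat_comp A₁
    (Localization.AtPrime q.asIdeal) (Localization.AtPrime q'.asIdeal)

end Groth.Agent.Lib.Helper27.RigDesc
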