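import Mathlib
import Groth.Agent.S8804
import Groth.Agent.Lib.Helper15.ComplSemilocal

/-!
Auxiliary results for rig-closed primes and étale reductions.
-/

set_option autoImplicit false
universe u

namespace Groth.Agent.Lib.Helper27.RigEt

open TensorProduct

/-- for a rig-closed prime `p`, the ring `A / (p + I)` is Artinian. -/
theorem isArtinianRing_quot_sup {A : Type u} [CommRing A] [IsNoetherianRing A] (I : Ideal A)
    [IsAdicComplete I A] (p : PrimeSpectrum A)
    (hp : ¬ I ≤ p.asIdeal ∧ ∀ y : PrimeSpectrum A, p ≤ y → ¬ I ≤ y.asIdeal → y = p) :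
    IsArtinianRing (A ⧸ (p.asIdeal ⊔ I)) := by
  haveI := p.isPrime
  have h21 := ((Groth.Agent.S8804.result A I p).out 0 1).mp hp
  haveI : Ring.KrullDimLE 0 (A ⧸ (p.asIdeal ⊔ I)) := by
    rw [Ring.krullDimLE_zero_iff]
    intro P hP
    haveI := hP
    have hcP : (P.comap (Ideal.Quotient.mk (p.asIdeal ⊔ I))).IsPrime := inferInstance
    have hle : p.asIdeal ⊔ I ≤ P.comap (Ideal.Quotient.mk (p.asIdeal ⊔ I)) := by
      intro x hx
      rw [Ideal.mem_comap, Ideal.Quotient.eq_zero_iff_mem.mpr hx]
      exact P.zero_mem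
    have hne : P.comap (Ideal.Quotient.mk (p.asIdeal ⊔ I)) ≠ p.asIdeal := fun h =>
      h21.2 (h ▸ (le_sup_right.trans hle))
    have hcmax : (P.comap (Ideal.Quotient.mk (p.asIdeal ⊔ I))).IsMaximal :=
      Groth.Agent.Lib.Helper15.ComplSemilocal.isMaximal_of_ne_of_dim_one p.asIdeal _ h21.1
        (le_sup_left.trans hle) hne
    have hmap : (P.comap (Ideal.Quotient.mk (p.asIdeal ⊔ I))).map
        (Ideal.Quotient.mk (p.asIdeal ⊔ I)) = P :=
      Ideal.map_comap_of_surjective _ Ideal.Quotient.mk_surjective P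
    rcases Ideal.map_eq_top_or_isMaximal_of_surjective (Ideal.Quotient.mk (p.asIdeal ⊔ I))
      Ideal.Quotient.mk_surjective hcmax with h | h
    · exfalso
      rw [hmap] at h
      exact hP.ne_top h
    · rwa [hmap] at h
  exact IsNoetherianRing.isArtinianRing_of_krullDimLE_zero

/-- Nakayama for Kähler differentials: if `S / I S` is unramified over `A`, `S` of finite type over
`A` and `I S` lies in the Jacobson radical, then `S` is unramified over `A`. -/
theorem formallyUnramified_of_quotient {A S : Type u} [CommRing A] [CommRing S] [Algebra A S]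
    [Algebra.FiniteType A S] (I : Ideal A)
    (hJ : I.map (algebraMap A S) ≤ Ideal.jacobson ⊥)
    [Algebra.FormallyUnramified A (S ⧸ I.map (algebraMap A S))] :
    Algebra.FormallyUnramified A S := by
  constructor
  set J : Ideal S := I.map (algebraMap A S) with hJdef
  have hgen : ∀ x ∈ J, KaehlerDifferential.D A S x ∈ J • (⊤ : Submodule S Ω[S⁄A]) := by
    intro x hx
    rw [hJdef] at hx
    unfold Ideal.map at hx
    induction hx using Submodule.span_induction with
    | mem x hx =>
      obtain ⟨a, _, rfl⟩ := hx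
      rw [Derivation.map_algebraMap]
      exact Submodule.zero_mem _
    | zero => rw [map_zero]; exact Submodule.zero_mem _
    | add x y _ _ hx hy => rw [map_add]; exact Submodule.add_mem _ hx hy
    | smul s x hxmem hx =>
      rw [smul_eq_mul, Derivation.leibniz]
      refine Submodule.add_mem _ (Submodule.smul_mem _ _ hx) ?_
      exact Submodule.smul_mem_smul hxmem Submodule.mem_top
  have hex := KaehlerDifferential.exact_kerCotangentToTensor_mapBaseChange A S (S ⧸ J)
    Ideal.Quotient.mk_surjective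
  have htmul : ∀ ω ∈ J • (⊤ : Submodule S Ω[S⁄A]), (1 : S ⧸ J) ⊗ₜ[S] ω = 0 := by
    intro ω hω
    refine Submodule.smul_induction_on hω ?_ ?_
    · intro j hj ω' _
      rw [← smul_tmul, Algebra.smul_def, mul_one, Ideal.Quotient.algebraMap_eq,
        Ideal.Quotient.eq_zero_iff_mem.mpr hj, zero_tmul]
    · intro a b ha hb
      rw [tmul_add, ha, hb, add_zero]
  have hzero : ∀ y : (S ⧸ J) ⊗[S] Ω[S⁄A], y = 0 := by
    intro y
    have h0 : KaehlerDifferential.mapBaseChange A S (S ⧸ J) y = 0 := Subsingleton.elim _ _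
    obtain ⟨c, rfl⟩ := (hex y).mp h0
    obtain ⟨x, rfl⟩ := Ideal.toCotangent_surjective _ c
    rw [KaehlerDifferential.kerCotangentToTensor_toCotangent]
    apply htmul
    apply hgen
    have h1 : algebraMap S (S ⧸ J) (x : S) = 0 := RingHom.mem_ker.mp x.2
    exact Ideal.Quotient.eq_zero_iff_mem.mp h1
  haveI : Subsingleton ((S ⧸ J) ⊗[S] Ω[S⁄A]) := ⟨fun a b => by rw [hzero a, hzero b]⟩
  haveI : Subsingleton (Ω[S⁄A] ⧸ J • (⊤ : Submodule S Ω[S⁄A])) :=
    (TensorProduct.quotTensorEquivQuotSMul Ω[S⁄A] J).symm.toEquiv.subsingleton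
  have htop : J • (⊤ : Submodule S Ω[S⁄A]) = ⊤ :=
    Submodule.Quotient.subsingleton_iff.mp inferInstance
  have hbot : (⊤ : Submodule S Ω[S⁄A]) = ⊥ :=
    Submodule.eq_bot_of_le_smul_of_le_jacobson_bot J ⊤ Module.Finite.fg_top htop.ge hJ
  exact subsingleton_of_forall_eq 0 (fun x => by
    have : x ∈ (⊤ : Submodule S Ω[S⁄A]) := Submodule.mem_top
    rw [hbot] at this
    exact (Submodule.mem_bot S).mp this)

end Groth.Agent.Lib.Helper27.RigEt
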