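import Mathlib
import Groth.Agent.S8804
import Groth.Agent.S8829
import Groth.Agent.Lib.Helper27.RigEt
import Groth.Agent.Lib.Helper27.RigDesc
import Groth.Agent.Lib.Helper1.FibreFlat

/-!
Tools for the étale-localization permanence of rig-flatness: transitivity of finite type modulo an
ideal, the fibre criterion of flatness with a field as closed fibre, formal unramifiedness of
reductions of completed localizations, `p B_q = q B_q` for unramified reductions, and the naive
core of the permanence statement.
-/

set_option autoImplicit false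
universe u

namespace Groth.Agent.Lib.Helper27.RigEtC

open AdicRing
open Groth.Agent.Lib.Helper27 Groth.Agent.Lib.Helper27.CLocBasic
open Groth.Agent.Lib.Helper27.RigDesc

/-- transitivity of finite type for reductions. -/
theorem finiteType_trans_quot {A B C : Type u} [CommRing A] [CommRing B] [CommRing C]
    [Algebra A B] [Algebra B C] [Algebra A C] [IsScalarTower A B C] (JB : Ideal B) (JC : Ideal C)
    (h : JB.map (algebraMap B C) ≤ JC) (h1 : Algebra.FiniteType A (B ⧸ JB))
    (h2 : Algebra.FiniteType B (C ⧸ JC)) : Algebra.FiniteType A (C ⧸ JC) := by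
  have h' : JB ≤ JC.comap (algebraMap B C) := Ideal.map_le_iff_le_comap.mp h
  letI : Algebra (B ⧸ JB) (C ⧸ JC) := (Ideal.quotientMap JC (algebraMap B C) h').toAlgebra
  haveI : IsScalarTower B (B ⧸ JB) (C ⧸ JC) := IsScalarTower.of_algebraMap_eq (fun _ => rfl)
  haveI : IsScalarTower A (B ⧸ JB) (C ⧸ JC) := IsScalarTower.of_algebraMap_eq (fun a => by
    show Ideal.Quotient.mk JC (algebraMap A C a) =
      Ideal.quotientMap JC (algebraMap B C) h' (Ideal.Quotient.mk JB (algebraMap A B a))
    rw [Ideal.quotientMap_mk, ← IsScalarTower.algebraMap_apply A B C])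
  haveI := h1
  haveI := h2
  haveI : Algebra.FiniteType (B ⧸ JB) (C ⧸ JC) :=
    Algebra.FiniteType.of_restrictScalars_finiteType B _ _
  exact Algebra.FiniteType.trans (S := B ⧸ JB) inferInstance inferInstance

/-- fibre criterion of flatness when the closed fibre is a field. -/
theorem flat_of_fibre_field {R S T : Type u} [CommRing R] [CommRing S] [CommRing T] [Algebra R S]
    [Algebra S T] [Algebra R T] [IsScalarTower R S T] [IsNoetherianRing S] [IsNoetherianRing T]
    (𝔪 : Ideal R) (hmax : (𝔪.map (algebraMap R S)).IsMaximal)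
    (hjac : (𝔪.map (algebraMap R S)).map (algebraMap S T) ≤ Ideal.jacobson ⊥)
    [Module.Flat R T] : Module.Flat S T := by
  letI : Field (S ⧸ 𝔪.map (algebraMap R S)) := Ideal.Quotient.field _
  refine Groth.Agent.Lib.Helper8.flat_of_local_criterion_of_finite (A := S) (B := T)
    (𝔪.map (algebraMap R S)) hjac T ?_ ?_
  · infer_instance
  · exact Groth.Agent.Lib.Helper1.FibreFlat.rTensor_subtype_map_injective (R := R) (S := S)
      (M := T) 𝔪

/-- formal unramifiedness passes to algebras generated, up to units, by an unramified one. -/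
theorem formallyUnramified_of_dense {A A' X : Type u} [CommRing A] [CommRing A'] [CommRing X]
    [Algebra A A'] [Algebra A' X] [Algebra A X] [IsScalarTower A A' X] (J : Ideal A')
    (hJ : ∀ j ∈ J, algebraMap A' X j = 0) [Algebra.FormallyUnramified A (A' ⧸ J)]
    (hdense : ∀ x : X, ∃ a' u' : A', IsUnit (algebraMap A' X u') ∧
      algebraMap A' X u' * x = algebraMap A' X a') : Algebra.FormallyUnramified A X := by
  letI : Algebra (A' ⧸ J) X := (Ideal.Quotient.lift J (algebraMap A' X) hJ).toAlgebra
  haveI : IsScalarTower A' (A' ⧸ J) X := IsScalarTower.of_algebraMap_eq (fun _ => rfl)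
  haveI : IsScalarTower A (A' ⧸ J) X := IsScalarTower.of_algebraMap_eq (fun a => by
    show algebraMap A X a = Ideal.Quotient.lift J (algebraMap A' X) hJ
      (Ideal.Quotient.mk J (algebraMap A A' a))
    rw [Ideal.Quotient.lift_mk, ← IsScalarTower.algebraMap_apply A A' X])
  have hD0 : ∀ a' : A', KaehlerDifferential.D A X (algebraMap A' X a') = 0 := by
    intro a'
    have h1 := KaehlerDifferential.map_D A A (A' ⧸ J) X (Ideal.Quotient.mk J a')
    have h2 : KaehlerDifferential.D A (A' ⧸ J) (Ideal.Quotient.mk J a') = 0 :=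
      Subsingleton.elim _ _
    rw [h2, map_zero] at h1
    have h3 : algebraMap (A' ⧸ J) X (Ideal.Quotient.mk J a') = algebraMap A' X a' := rfl
    rw [h3] at h1
    exact h1.symm
  have hD : ∀ x : X, KaehlerDifferential.D A X x = 0 := by
    intro x
    obtain ⟨a', u', hu, hux⟩ := hdense x
    have h1 := congrArg (KaehlerDifferential.D A X) hux
    rw [Derivation.leibniz, hD0, hD0, smul_zero, add_zero] at h1
    exact (hu.smul_eq_zero).mp h1
  constructor
  rw [← Submodule.subsingleton_iff (R := X), ← subsingleton_iff_bot_eq_top,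
    ← KaehlerDifferential.span_range_derivation, eq_comm, Submodule.span_eq_bot]
  rintro _ ⟨x, rfl⟩
  exact hD x

section Dense

variable {C : Type u} [CommRing C] [IsNoetherianRing C] (J : Ideal C) (g : C)

/-- `C → C⟨g⁻¹⟩/N` is dense up to units for `N ⊇ J`. -/
theorem dense_quot (N : Ideal (CLoc (R := C) J g))
    (hN : J.map (algebraMap C (CLoc (R := C) J g)) ≤ N) (x : CLoc (R := C) J g ⧸ N) :
    ∃ a u : C, IsUnit (algebraMap C (CLoc (R := C) J g ⧸ N) u) ∧
      algebraMap C (CLoc (R := C) J g ⧸ N) u * x = algebraMap C (CLoc (R := C) J g ⧸ N) a := by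
  obtain ⟨y, rfl⟩ := Ideal.Quotient.mk_surjective x
  obtain ⟨s, hs⟩ := exists_sub_mem J (IsNoetherian.noetherian J) g 1 y
  rw [pow_one] at hs
  obtain ⟨⟨b, t⟩, hbt⟩ := IsLocalization.surj (Submonoid.powers g) s
  dsimp only at hbt
  have htu : IsUnit (algebraMap C (CLoc (R := C) J g) (t : C)) := by
    obtain ⟨k, hk⟩ := (Submonoid.mem_powers_iff _ _).mp t.2
    rw [← hk, map_pow]
    exact (RigCL.isUnit_algebraMap_cLoc J g).pow k
  have e1 : algebraMap C (CLoc (R := C) J g) b =
      algebraMap (Localization.Away g) (CLoc (R := C) J g) s *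
        algebraMap C (CLoc (R := C) J g) (t : C) := by
    rw [IsScalarTower.algebraMap_apply C (Localization.Away g) (CLoc (R := C) J g), ← hbt, map_mul,
      ← IsScalarTower.algebraMap_apply C (Localization.Away g) (CLoc (R := C) J g)]
  refine ⟨b, t, ?_, ?_⟩
  · exact htu.map (Ideal.Quotient.mk N)
  · show Ideal.Quotient.mk N (algebraMap C _ (t : C)) * Ideal.Quotient.mk N y =
      Ideal.Quotient.mk N (algebraMap C _ b)
    rw [← map_mul, Ideal.Quotient.eq, e1]
    have e : algebraMap C (CLoc (R := C) J g) (t : C) * y -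
        algebraMap (Localization.Away g) (CLoc (R := C) J g) s *
        algebraMap C (CLoc (R := C) J g) (t : C) =
        algebraMap C (CLoc (R := C) J g) (t : C) *
          (y - algebraMap (Localization.Away g) (CLoc (R := C) J g) s) := by ring
    rw [e]
    exact Ideal.mul_mem_left _ _ (hN hs)

end Dense

end Groth.Agent.Lib.Helper27.RigEtC
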