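import Mathlib
import Groth.Agent.Lib.Helper27.RigEtC

/-!
`p B_q = q B_q` for unramified reductions, and the naive core of the étale-localization permanence
of rig-flatness.
-/

set_option autoImplicit false
universe u

namespace Groth.Agent.Lib.Helper27.RigEtN

open AdicRing
open Groth.Agent.Lib.Helper27 Groth.Agent.Lib.Helper27.CLocBasic
open Groth.Agent.Lib.Helper27.RigDesc

/-- generalization of S8838: only unramifiedness of the reduction is needed. -/
theorem map_eq_maximalIdeal_of_unramified (A : Type u) [CommRing A] [IsNoetherianRing A]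
    (I : Ideal A) [IsAdicComplete I A] (B : Type u) [CommRing B] [Algebra A B] [IsNoetherianRing B]
    (hjacB : I.map (algebraMap A B) ≤ Ideal.jacobson ⊥)
    (hft : Algebra.FiniteType A (B ⧸ (I.map (algebraMap A B))))
    [Algebra.FormallyUnramified A (B ⧸ (I.map (algebraMap A B)))] (q : PrimeSpectrum B)
    (hp : (¬ I ≤ (PrimeSpectrum.comap (algebraMap A B) q).asIdeal ∧ ∀ y : PrimeSpectrum A,
      (PrimeSpectrum.comap (algebraMap A B) q) ≤ y → ¬ I ≤ y.asIdeal →
        y = (PrimeSpectrum.comap (algebraMap A B) q))) :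
    ((PrimeSpectrum.comap (algebraMap A B) q).asIdeal.map (algebraMap A B)).map
      (algebraMap B (Localization.AtPrime q.asIdeal)) =
      IsLocalRing.maximalIdeal (Localization.AtPrime q.asIdeal) := by
  classical
  haveI := q.isPrime
  obtain ⟨p, hpdef⟩ : ∃ p : PrimeSpectrum A, p = PrimeSpectrum.comap (algebraMap A B) q := ⟨_, rfl⟩
  rw [← hpdef] at hp ⊢
  haveI := p.isPrime
  have hpq : p.asIdeal = q.asIdeal.comap (algebraMap A B) := by rw [hpdef]; rfl
  have hpBq : p.asIdeal.map (algebraMap A B) ≤ q.asIdeal := by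
    rw [Ideal.map_le_iff_le_comap, hpq]
  haveI hArt := RigEt.isArtinianRing_quot_sup I p hp
  have hIJ : I.map (algebraMap A B) ≤ (p.asIdeal ⊔ I).map (algebraMap A B) :=
    Ideal.map_mono le_sup_right
  haveI hT0unr : Algebra.FormallyUnramified A (B ⧸ (p.asIdeal ⊔ I).map (algebraMap A B)) :=
    Algebra.FormallyUnramified.of_surjective (Ideal.Quotient.factorₐ A hIJ)
      (Ideal.Quotient.factor_surjective hIJ)
  haveI := hft
  haveI hT0ft : Algebra.FiniteType A (B ⧸ (p.asIdeal ⊔ I).map (algebraMap A B)) :=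
    Algebra.FiniteType.of_surjective (Ideal.Quotient.factorₐ A hIJ)
      (Ideal.Quotient.factor_surjective hIJ)
  haveI : Algebra.QuasiFinite A (B ⧸ (p.asIdeal ⊔ I).map (algebraMap A B)) := inferInstance
  haveI : Algebra.QuasiFinite (A ⧸ (p.asIdeal ⊔ I))
      (B ⧸ (p.asIdeal ⊔ I).map (algebraMap A B)) := Algebra.QuasiFinite.of_restrictScalars A _ _
  haveI : Module.Finite (A ⧸ (p.asIdeal ⊔ I)) (B ⧸ (p.asIdeal ⊔ I).map (algebraMap A B)) :=
    Module.Finite.of_quasiFinite
  haveI hT0fin : Module.Finite A (B ⧸ (p.asIdeal ⊔ I).map (algebraMap A B)) :=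
    Module.Finite.trans (A ⧸ (p.asIdeal ⊔ I)) _
  -- the ring `S = B / pB`
  have hAS : ∀ a : A, algebraMap A (B ⧸ p.asIdeal.map (algebraMap A B)) a =
      Ideal.Quotient.mk _ (algebraMap A B a) := fun a => rfl
  have hker0 : ∀ x ∈ (p.asIdeal ⊔ I).map (algebraMap A B),
      ((Ideal.Quotient.mkₐ A (I.map (algebraMap A (B ⧸ p.asIdeal.map (algebraMap A B))))).comp
        (Ideal.Quotient.mkₐ A (p.asIdeal.map (algebraMap A B)))) x = 0 := by
    intro x hx
    have hle : (p.asIdeal ⊔ I).map (algebraMap A B) ≤ RingHom.ker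
        (((Ideal.Quotient.mkₐ A (I.map (algebraMap A (B ⧸ p.asIdeal.map (algebraMap A B))))).comp
        (Ideal.Quotient.mkₐ A (p.asIdeal.map (algebraMap A B)))).toRingHom) := by
      rw [Ideal.map_le_iff_le_comap]
      intro a ha
      rw [Ideal.mem_comap, RingHom.mem_ker]
      obtain ⟨a₁, ha₁, a₂, ha₂, rfl⟩ := Submodule.mem_sup.mp ha
      rw [map_add, map_add]
      have e1 : (Ideal.Quotient.mkₐ A (p.asIdeal.map (algebraMap A B))) (algebraMap A B a₁) = 0 :=
        Ideal.Quotient.eq_zero_iff_mem.mpr (Ideal.mem_map_of_mem _ ha₁)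
      have e2 : ((Ideal.Quotient.mkₐ A
          (I.map (algebraMap A (B ⧸ p.asIdeal.map (algebraMap A B))))).comp
          (Ideal.Quotient.mkₐ A (p.asIdeal.map (algebraMap A B)))) (algebraMap A B a₂) = 0 := by
        show Ideal.Quotient.mk _ (Ideal.Quotient.mk _ (algebraMap A B a₂)) = 0
        rw [← hAS]
        exact Ideal.Quotient.eq_zero_iff_mem.mpr (Ideal.mem_map_of_mem _ ha₂)
      have e1' : ((Ideal.Quotient.mkₐ A
          (I.map (algebraMap A (B ⧸ p.asIdeal.map (algebraMap A B))))).comp
          (Ideal.Quotient.mkₐ A (p.asIdeal.map (algebraMap A B)))) (algebraMap A B a₁) = 0 := by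
        rw [AlgHom.comp_apply, e1, map_zero]
      show _ + _ = 0
      erw [e1', e2, add_zero]
    exact RingHom.mem_ker.mp (hle hx)
  let g : (B ⧸ (p.asIdeal ⊔ I).map (algebraMap A B)) →ₐ[A]
      ((B ⧸ p.asIdeal.map (algebraMap A B)) ⧸
        I.map (algebraMap A (B ⧸ p.asIdeal.map (algebraMap A B)))) :=
    Ideal.Quotient.liftₐ _ _ hker0
  have hg : Function.Surjective g := by
    intro z
    obtain ⟨y, rfl⟩ := Ideal.Quotient.mk_surjective z
    obtain ⟨b, rfl⟩ := Ideal.Quotient.mk_surjective y
    exact ⟨Ideal.Quotient.mk _ b, rfl⟩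
  haveI : Module.Finite A ((B ⧸ p.asIdeal.map (algebraMap A B)) ⧸
      I.map (algebraMap A (B ⧸ p.asIdeal.map (algebraMap A B)))) :=
    Module.Finite.of_surjective g.toLinearMap hg
  haveI : Algebra.FormallyUnramified A ((B ⧸ p.asIdeal.map (algebraMap A B)) ⧸
      I.map (algebraMap A (B ⧸ p.asIdeal.map (algebraMap A B)))) :=
    Algebra.FormallyUnramified.of_surjective g hg
  have hjacS : I.map (algebraMap A (B ⧸ p.asIdeal.map (algebraMap A B))) ≤ Ideal.jacobson ⊥ := by
    rw [Ideal.map_le_iff_le_comap]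
    intro a ha
    rw [Ideal.mem_comap, hAS, Ideal.jacobson, Ideal.mem_sInf]
    rintro M ⟨-, hM⟩
    haveI := hM
    have hcM : (M.comap (Ideal.Quotient.mk (p.asIdeal.map (algebraMap A B)))).IsMaximal :=
      Ideal.comap_isMaximal_of_surjective _ Ideal.Quotient.mk_surjective
    have : algebraMap A B a ∈ M.comap (Ideal.Quotient.mk (p.asIdeal.map (algebraMap A B))) :=
      (hjacB.trans (sInf_le ⟨bot_le, hcM⟩)) (Ideal.mem_map_of_mem _ ha)
    exact this
  haveI : IsHausdorff (I.map (algebraMap A (B ⧸ p.asIdeal.map (algebraMap A B))))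
      (B ⧸ p.asIdeal.map (algebraMap A B)) := IsHausdorff.of_le_jacobson _ _ hjacS
  haveI hSfin : Module.Finite A (B ⧸ p.asIdeal.map (algebraMap A B)) :=
    Groth.Agent.Lib.Helper15.ComplSemilocal.finite_of_quot_finite I _
  haveI hSunr : Algebra.FormallyUnramified A (B ⧸ p.asIdeal.map (algebraMap A B)) :=
    RigEt.formallyUnramified_of_quotient I hjacS
  -- the prime `q̄`
  have hkerq : RingHom.ker (Ideal.Quotient.mk (p.asIdeal.map (algebraMap A B))) ≤ q.asIdeal := by
    rw [Ideal.mk_ker]; exact hpBq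
  haveI hqbar : (q.asIdeal.map (Ideal.Quotient.mk (p.asIdeal.map (algebraMap A B)))).IsPrime :=
    Ideal.map_isPrime_of_surjective Ideal.Quotient.mk_surjective hkerq
  have hcomap : (q.asIdeal.map (Ideal.Quotient.mk (p.asIdeal.map (algebraMap A B)))).comap
      (Ideal.Quotient.mk (p.asIdeal.map (algebraMap A B))) = q.asIdeal := by
    rw [Ideal.comap_map_of_surjective _ Ideal.Quotient.mk_surjective, ← RingHom.ker_eq_comap_bot]
    exact sup_eq_left.mpr hkerq
  haveI : (q.asIdeal.map (Ideal.Quotient.mk (p.asIdeal.map (algebraMap A B)))).LiesOver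
      p.asIdeal := ⟨by
    apply Ideal.ext
    intro a
    rw [Ideal.under, Ideal.mem_comap, hAS,
      ← Ideal.mem_comap (f := Ideal.Quotient.mk (p.asIdeal.map (algebraMap A B))), hcomap, hpq,
      Ideal.mem_comap]⟩
  let _ := Localization.AtPrime.algebraOfLiesOver p.asIdeal
    (q.asIdeal.map (Ideal.Quotient.mk (p.asIdeal.map (algebraMap A B))))
  haveI hunr : Algebra.IsUnramifiedAt A
      (q.asIdeal.map (Ideal.Quotient.mk (p.asIdeal.map (algebraMap A B)))) :=
    Algebra.FormallyUnramified.comp A (B ⧸ p.asIdeal.map (algebraMap A B)) _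
  have h := ((Algebra.isUnramifiedAt_iff_map_eq A p.asIdeal
    (q.asIdeal.map (Ideal.Quotient.mk (p.asIdeal.map (algebraMap A B))))).mp hunr).2
  have hbot : IsLocalRing.maximalIdeal (Localization.AtPrime
      (q.asIdeal.map (Ideal.Quotient.mk (p.asIdeal.map (algebraMap A B))))) = ⊥ := by
    rw [← h, Ideal.map_eq_bot_iff_le_ker]
    intro a ha
    rw [RingHom.mem_ker, IsScalarTower.algebraMap_apply A (B ⧸ p.asIdeal.map (algebraMap A B)), hAS,
      Ideal.Quotient.eq_zero_iff_mem.mpr (Ideal.mem_map_of_mem _ ha), map_zero]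
  have key : ∀ x ∈ q.asIdeal, ∃ s ∉ q.asIdeal, s * x ∈ p.asIdeal.map (algebraMap A B) := by
    intro x hx
    have h1 : algebraMap (B ⧸ p.asIdeal.map (algebraMap A B)) (Localization.AtPrime
        (q.asIdeal.map (Ideal.Quotient.mk (p.asIdeal.map (algebraMap A B)))))
        (Ideal.Quotient.mk _ x) ∈ IsLocalRing.maximalIdeal _ :=
      (IsLocalization.AtPrime.to_map_mem_maximal_iff _
        (q.asIdeal.map (Ideal.Quotient.mk (p.asIdeal.map (algebraMap A B)))) _).mpr
        (Ideal.mem_map_of_mem _ hx)
    rw [hbot, Ideal.mem_bot] at h1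
    obtain ⟨⟨c, hc⟩, hcx⟩ := (IsLocalization.map_eq_zero_iff
      (q.asIdeal.map (Ideal.Quotient.mk (p.asIdeal.map (algebraMap A B)))).primeCompl _ _).mp h1
    obtain ⟨s, rfl⟩ := Ideal.Quotient.mk_surjective c
    refine ⟨s, fun hs => hc (Ideal.mem_map_of_mem _ hs), ?_⟩
    rw [← map_mul, Ideal.Quotient.eq_zero_iff_mem] at hcx
    exact hcx
  rw [← Localization.AtPrime.map_eq_maximalIdeal]
  apply le_antisymm
  · exact Ideal.map_mono hpBq
  · rw [Ideal.map_le_iff_le_comap]
    intro x hx
    obtain ⟨s, hs, hsx⟩ := key x hx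
    rw [Ideal.mem_comap]
    have hu : IsUnit (algebraMap B (Localization.AtPrime q.asIdeal) s) :=
      IsLocalization.map_units _ (⟨s, hs⟩ : q.asIdeal.primeCompl)
    have h2 : algebraMap B (Localization.AtPrime q.asIdeal) s *
        algebraMap B (Localization.AtPrime q.asIdeal) x ∈
        (p.asIdeal.map (algebraMap A B)).map (algebraMap B (Localization.AtPrime q.asIdeal)) := by
      rw [← map_mul]
      exact Ideal.mem_map_of_mem _ hsx
    exact (Ideal.unit_mul_mem_iff_mem _ hu).mp h2


/-- naive core: in a square of adic, topologically finite type maps with `B → B'` flat and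
`A → A'` unramified modulo `I`, if `B_r` is `A`-flat at rig-closed `r`, then `B'_{q'}` is
`A'`-flat for every rig-closed `q'` lying over a rig-closed prime of `A`. -/
theorem flat_naive_core (A : Type u) [CommRing A] [IsNoetherianRing A] (I : Ideal A)
    [IsAdicComplete I A]
    (B : Type u) [CommRing B] [Algebra A B] [IsNoetherianRing B]
    [IsAdicComplete (I.map (algebraMap A B)) B]
    (A' : Type u) [CommRing A'] [Algebra A A'] [IsNoetherianRing A']
    [IsAdicComplete (I.map (algebraMap A A')) A']
    (B' : Type u) [CommRing B'] [Algebra A B'] [Algebra B B'] [Algebra A' B']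
    [IsScalarTower A B B'] [IsScalarTower A A' B'] [IsNoetherianRing B']
    [IsAdicComplete (I.map (algebraMap A B')) B']
    (hftB' : Algebra.FiniteType A (B' ⧸ I.map (algebraMap A B')))
    (hftA' : Algebra.FiniteType A (A' ⧸ I.map (algebraMap A A')))
    [Module.Flat B B'] [Algebra.FormallyUnramified A (A' ⧸ I.map (algebraMap A A'))]
    (q' : PrimeSpectrum B') (hq' : RigClosed (I.map (algebraMap A B')) q')
    (hp : RigClosed I (PrimeSpectrum.comap (algebraMap A B') q'))
    (hnaive : ∀ r : PrimeSpectrum B, RigClosed (I.map (algebraMap A B)) r →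
      (algebraMap A (Localization.AtPrime r.asIdeal)).Flat) :
    (algebraMap A' (Localization.AtPrime q'.asIdeal)).Flat := by
  classical
  haveI := q'.isPrime
  have h29 := Groth.Agent.S8829.result A I B' hftB' q' hq'
  have hfinA : Module.Finite A (B' ⧸ q'.asIdeal) := (h29.out 1 2).mp hp
  haveI := hftB'
  -- the `B` side
  have eB : (I.map (algebraMap A B)).map (algebraMap B B') = I.map (algebraMap A B') := by
    rw [Ideal.map_map, ← IsScalarTower.algebraMap_eq]
  haveI : IsAdicComplete ((I.map (algebraMap A B)).map (algebraMap B B')) B' := by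
    rw [eB]; infer_instance
  have hftBB' : Algebra.FiniteType B (B' ⧸ (I.map (algebraMap A B)).map (algebraMap B B')) := by
    rw [eB]; exact Algebra.FiniteType.of_restrictScalars_finiteType A B _
  have hq'B : ¬ (I.map (algebraMap A B)).map (algebraMap B B') ≤ q'.asIdeal ∧
      ∀ y : PrimeSpectrum B', q' ≤ y →
        ¬ (I.map (algebraMap A B)).map (algebraMap B B') ≤ y.asIdeal → y = q' := by
    rw [eB]; exact hq'
  haveI hfinB : Module.Finite B (B' ⧸ q'.asIdeal) := Module.Finite.of_restrictScalars_finite A B _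
  have h29B := Groth.Agent.S8829.result B (I.map (algebraMap A B)) B' hftBB' q' hq'B
  have hr : RigClosed (I.map (algebraMap A B)) (PrimeSpectrum.comap (algebraMap B B') q') :=
    (h29B.out 2 1).mp hfinB
  -- the `A'` side
  have eA' : (I.map (algebraMap A A')).map (algebraMap A' B') = I.map (algebraMap A B') := by
    rw [Ideal.map_map, ← IsScalarTower.algebraMap_eq]
  haveI : IsAdicComplete ((I.map (algebraMap A A')).map (algebraMap A' B')) B' := by
    rw [eA']; infer_instance
  have hftA'B' : Algebra.FiniteType A' (B' ⧸ (I.map (algebraMap A A')).map (algebraMap A' B')) := by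
    rw [eA']; exact Algebra.FiniteType.of_restrictScalars_finiteType A A' _
  have hq'A' : ¬ (I.map (algebraMap A A')).map (algebraMap A' B') ≤ q'.asIdeal ∧
      ∀ y : PrimeSpectrum B', q' ≤ y →
        ¬ (I.map (algebraMap A A')).map (algebraMap A' B') ≤ y.asIdeal → y = q' := by
    rw [eA']; exact hq'
  haveI hfinA' : Module.Finite A' (B' ⧸ q'.asIdeal) :=
    Module.Finite.of_restrictScalars_finite A A' _
  have h29A' := Groth.Agent.S8829.result A' (I.map (algebraMap A A')) B' hftA'B' q' hq'A'
  have hp' : RigClosed (I.map (algebraMap A A')) (PrimeSpectrum.comap (algebraMap A' B') q') :=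
    (h29A'.out 2 1).mp hfinA'
  -- names
  obtain ⟨r, hrdef⟩ : ∃ r : PrimeSpectrum B, r = PrimeSpectrum.comap (algebraMap B B') q' :=
    ⟨_, rfl⟩
  obtain ⟨p', hp'def⟩ : ∃ p' : PrimeSpectrum A', p' = PrimeSpectrum.comap (algebraMap A' B') q' :=
    ⟨_, rfl⟩
  rw [← hrdef] at hr
  rw [← hp'def] at hp'
  haveI := r.isPrime
  haveI := p'.isPrime
  have hrq : r.asIdeal = q'.asIdeal.comap (algebraMap B B') := by rw [hrdef]; rfl
  have hpq : p'.asIdeal = q'.asIdeal.comap (algebraMap A' B') := by rw [hp'def]; rfl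
  -- flatness over `A`
  have hflat_r := hnaive r hr
  have hflatA : (algebraMap A (Localization.AtPrime q'.asIdeal)).Flat := by
    have e : algebraMap A (Localization.AtPrime q'.asIdeal) =
        (Localization.localRingHom r.asIdeal q'.asIdeal (algebraMap B B') hrq).comp
          (algebraMap A (Localization.AtPrime r.asIdeal)) := by
      apply RingHom.ext
      intro a
      rw [RingHom.comp_apply, IsScalarTower.algebraMap_apply A B (Localization.AtPrime r.asIdeal),
        Localization.localRingHom_to_map, ← IsScalarTower.algebraMap_apply A B B',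
        ← IsScalarTower.algebraMap_apply A B' (Localization.AtPrime q'.asIdeal)]
    rw [e]
    refine RingHom.Flat.comp hflat_r (RingHom.Flat.localRingHom ?_ _ _ hrq)
    rw [RingHom.flat_algebraMap_iff]
    infer_instance
  -- `p A'_{p'}` is the maximal ideal
  have hcomapp : PrimeSpectrum.comap (algebraMap A A') p' =
      PrimeSpectrum.comap (algebraMap A B') q' := by
    apply PrimeSpectrum.ext
    show p'.asIdeal.comap (algebraMap A A') = q'.asIdeal.comap (algebraMap A B')
    rw [hpq, Ideal.comap_comap, ← IsScalarTower.algebraMap_eq]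
  have hpA : RigClosed I (PrimeSpectrum.comap (algebraMap A A') p') := by rw [hcomapp]; exact hp
  have hmaxeq := map_eq_maximalIdeal_of_unramified A I A' (IsAdicComplete.le_jacobson_bot _) hftA'
    p' hpA
  obtain ⟨p, hpdef⟩ : ∃ p : Ideal A, p = (PrimeSpectrum.comap (algebraMap A A') p').asIdeal :=
    ⟨_, rfl⟩
  rw [← hpdef] at hmaxeq
  have hpq' : ∀ a ∈ p, algebraMap A B' a ∈ q'.asIdeal := by
    intro a ha
    rw [hpdef, hcomapp] at ha
    exact ha
  -- the fibre criterion
  haveI : IsNoetherianRing (Localization.AtPrime p'.asIdeal) :=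
    IsLocalization.isNoetherianRing p'.asIdeal.primeCompl _ inferInstance
  haveI : IsNoetherianRing (Localization.AtPrime q'.asIdeal) :=
    IsLocalization.isNoetherianRing q'.asIdeal.primeCompl _ inferInstance
  letI algST : Algebra (Localization.AtPrime p'.asIdeal) (Localization.AtPrime q'.asIdeal) :=
    (Localization.localRingHom p'.asIdeal q'.asIdeal (algebraMap A' B') hpq).toAlgebra
  have hST : ∀ x, algebraMap (Localization.AtPrime p'.asIdeal) (Localization.AtPrime q'.asIdeal) x =
      Localization.localRingHom p'.asIdeal q'.asIdeal (algebraMap A' B') hpq x := fun _ => rfl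
  haveI towA' : IsScalarTower A' (Localization.AtPrime p'.asIdeal)
      (Localization.AtPrime q'.asIdeal) := IsScalarTower.of_algebraMap_eq (fun a' => by
    rw [hST, Localization.localRingHom_to_map,
      IsScalarTower.algebraMap_apply A' B' (Localization.AtPrime q'.asIdeal)])
  haveI towA : IsScalarTower A (Localization.AtPrime p'.asIdeal)
      (Localization.AtPrime q'.asIdeal) := IsScalarTower.of_algebraMap_eq (fun a => by
    rw [IsScalarTower.algebraMap_apply A A' (Localization.AtPrime p'.asIdeal), hST,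
      Localization.localRingHom_to_map, ← IsScalarTower.algebraMap_apply A A' B',
      IsScalarTower.algebraMap_apply A B' (Localization.AtPrime q'.asIdeal)])
  haveI : Module.Flat A (Localization.AtPrime q'.asIdeal) := RingHom.flat_algebraMap_iff.mp hflatA
  have hmap : p.map (algebraMap A (Localization.AtPrime p'.asIdeal)) =
      IsLocalRing.maximalIdeal (Localization.AtPrime p'.asIdeal) := by
    rw [← hmaxeq, Ideal.map_map, ← IsScalarTower.algebraMap_eq]
  haveI : IsLocalHom (algebraMap (Localization.AtPrime p'.asIdeal)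
      (Localization.AtPrime q'.asIdeal)) :=
    Localization.isLocalHom_localRingHom p'.asIdeal q'.asIdeal (algebraMap A' B') hpq
  haveI hflatST : Module.Flat (Localization.AtPrime p'.asIdeal)
      (Localization.AtPrime q'.asIdeal) := by
    refine RigEtC.flat_of_fibre_field (R := A) p ?_ ?_
    · rw [hmap]; exact IsLocalRing.maximalIdeal.isMaximal _
    · rw [hmap, IsLocalRing.jacobson_eq_maximalIdeal ⊥ bot_ne_top]
      exact IsLocalRing.map_maximalIdeal_le _
  haveI : Module.Flat A' (Localization.AtPrime p'.asIdeal) :=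
    IsLocalization.flat _ p'.asIdeal.primeCompl
  rw [RingHom.flat_algebraMap_iff]
  exact Module.Flat.trans A' (Localization.AtPrime p'.asIdeal) (Localization.AtPrime q'.asIdeal)

end Groth.Agent.Lib.Helper27.RigEtN
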