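import Mathlib
import Groth.Agent.S8804
import Groth.Agent.S8837
import Groth.Agent.Lib.Helper27.RigDesc

/-!
Extension of rig-closed primes to completed localizations at elements which are units modulo the
prime, and descent of flatness at a given pair of primes.
-/

set_option autoImplicit false
universe u

namespace Groth.Agent.Lib.Helper27.RigExt

open AdicRing
open Groth.Agent.Lib.Helper27 Groth.Agent.Lib.Helper27.CLocBasic
open Groth.Agent.Lib.Helper27.RigDesc

/-- if `f` is a unit modulo the rig-closed prime `q`, then `q B⟨f⁻¹⟩` is a rig-closed prime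
contracting to `q`. -/
theorem rigClosed_map_cLoc (B : Type u) [CommRing B] [IsNoetherianRing B] (J : Ideal B)
    [IsAdicComplete J B] (q : PrimeSpectrum B) (hq : RigClosed J q) (f : B)
    (hfu : IsUnit (Ideal.Quotient.mk q.asIdeal f)) :
    ∃ q₂ : PrimeSpectrum (CLoc (R := B) J f),
      q₂.asIdeal = q.asIdeal.map (algebraMap B (CLoc (R := B) J f)) ∧
      RigClosed (J.map (algebraMap B (CLoc (R := B) J f))) q₂ ∧
      q₂.asIdeal.comap (algebraMap B (CLoc (R := B) J f)) = q.asIdeal := by
  classical
  haveI := q.isPrime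
  haveI hNB := RigCL.isNoetherianRing_cLoc J f
  haveI hCB := RigCL.isAdicComplete_cLoc' J f
  have h04 := Groth.Agent.S8804.result B J q
  have h01 := (h04.out 0 1).mp hq
  have hdim : ringKrullDim (B ⧸ q.asIdeal) = 1 := h01.1
  obtain ⟨hq''prime, hbij⟩ := Groth.Agent.S8837.result B J q.asIdeal f hfu
  have hcomapq : (q.asIdeal.map (algebraMap B (CLoc (R := B) J f))).comap
      (algebraMap B (CLoc (R := B) J f)) = q.asIdeal := by
    apply le_antisymm
    · intro x hx
      rw [Ideal.mem_comap] at hx
      have h1 : Ideal.quotientMap (q.asIdeal.map (algebraMap B (CLoc (R := B) J f)))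
          (algebraMap B (CLoc (R := B) J f))
          Ideal.le_comap_map (Ideal.Quotient.mk q.asIdeal x) = 0 := by
        rw [Ideal.quotientMap_mk]
        exact Ideal.Quotient.eq_zero_iff_mem.mpr hx
      rw [← map_zero (Ideal.quotientMap (q.asIdeal.map (algebraMap B (CLoc (R := B) J f)))
          (algebraMap B (CLoc (R := B) J f)) Ideal.le_comap_map)] at h1
      exact Ideal.Quotient.eq_zero_iff_mem.mp (hbij.1 h1)
    · exact Ideal.le_comap_map
  obtain ⟨q'', hq''def⟩ : ∃ q'' : PrimeSpectrum (CLoc (R := B) J f),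
      q'' = ⟨q.asIdeal.map (algebraMap B (CLoc (R := B) J f)), hq''prime⟩ := ⟨_, rfl⟩
  have hq''as : q''.asIdeal = q.asIdeal.map (algebraMap B (CLoc (R := B) J f)) := by rw [hq''def]
  refine ⟨q'', hq''as, ?_, ?_⟩
  · have h04' := Groth.Agent.S8804.result (CLoc (R := B) J f)
      (J.map (algebraMap B (CLoc (R := B) J f))) q''
    have h10 := (h04'.out 1 0).mp
    refine h10 ⟨?_, ?_⟩
    · rw [hq''as, ← hdim]
      exact (ringKrullDim_eq_of_ringEquiv (RingEquiv.ofBijective _ hbij)).symm
    · intro hle
      apply hq.1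
      rw [← hcomapq, ← Ideal.map_le_iff_le_comap, ← hq''as]
      exact hle
  · rw [hq''as]; exact hcomapq

/-- descent of flatness at a given pair of primes. -/
theorem flat_descent_at {A₁ B₁ A₂ B₂ : Type u} [CommRing A₁] [CommRing B₁] [CommRing A₂]
    [CommRing B₂]
    (ψ : A₁ →+* B₁) (χA : A₁ →+* A₂) (χB : B₁ →+* B₂) (ψ' : A₂ →+* B₂)
    (hcomm : ψ'.comp χA = χB.comp ψ) (hA : χA.Flat) (hB : χB.Flat)
    (q : PrimeSpectrum B₁) (q' : PrimeSpectrum B₂) (hcomap : q'.asIdeal.comap χB = q.asIdeal)
    (h1 : ((algebraMap B₂ (Localization.AtPrime q'.asIdeal)).comp ψ').Flat) :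
    ((algebraMap B₁ (Localization.AtPrime q.asIdeal)).comp ψ).Flat := by
  classical
  haveI := q.isPrime
  haveI := q'.isPrime
  have h2 : (((algebraMap B₂ (Localization.AtPrime q'.asIdeal)).comp ψ').comp χA).Flat :=
    RingHom.Flat.comp hA h1
  have e : ((algebraMap B₂ (Localization.AtPrime q'.asIdeal)).comp ψ').comp χA =
      (Localization.localRingHom q.asIdeal q'.asIdeal χB hcomap.symm).comp
        ((algebraMap B₁ (Localization.AtPrime q.asIdeal)).comp ψ) := by
    apply RingHom.ext
    intro a
    simp only [RingHom.comp_apply]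
    rw [Localization.localRingHom_to_map]
    have := RingHom.congr_fun hcomm a
    simp only [RingHom.comp_apply] at this
    rw [this]
  rw [e] at h2
  have hlflat : (Localization.localRingHom q.asIdeal q'.asIdeal χB hcomap.symm).Flat :=
    RingHom.Flat.localRingHom hB _ _ hcomap.symm
  letI alg1 : Algebra A₁ (Localization.AtPrime q.asIdeal) :=
    ((algebraMap B₁ (Localization.AtPrime q.asIdeal)).comp ψ).toAlgebra
  letI alg2 : Algebra (Localization.AtPrime q.asIdeal) (Localization.AtPrime q'.asIdeal) :=
    (Localization.localRingHom q.asIdeal q'.asIdeal χB hcomap.symm).toAlgebra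
  letI alg3 : Algebra A₁ (Localization.AtPrime q'.asIdeal) :=
    ((Localization.localRingHom q.asIdeal q'.asIdeal χB hcomap.symm).comp
        ((algebraMap B₁ (Localization.AtPrime q.asIdeal)).comp ψ)).toAlgebra
  haveI : IsScalarTower A₁ (Localization.AtPrime q.asIdeal) (Localization.AtPrime q'.asIdeal) :=
    IsScalarTower.of_algebraMap_eq (fun _ => rfl)
  haveI : Module.Flat (Localization.AtPrime q.asIdeal) (Localization.AtPrime q'.asIdeal) := hlflat
  haveI : IsLocalHom (algebraMap (Localization.AtPrime q.asIdeal)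
      (Localization.AtPrime q'.asIdeal)) :=
    Localization.isLocalHom_localRingHom q.asIdeal q'.asIdeal χB hcomap.symm
  haveI : Module.FaithfullyFlat (Localization.AtPrime q.asIdeal)
      (Localization.AtPrime q'.asIdeal) := Module.FaithfullyFlat.of_flat_of_isLocalHom
  haveI : Module.Flat A₁ (Localization.AtPrime q'.asIdeal) := h2
  exact Groth.Agent.Lib.Helper3.flat_of_faithfullyFlat_of_flat_comp A₁
    (Localization.AtPrime q.asIdeal) (Localization.AtPrime q'.asIdeal)

section FT

variable {B : Type u} [CommRing B] [IsNoetherianRing B] (K : Ideal B) (g : B)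
  {B' : Type u} [CommRing B'] [IsNoetherianRing B'] [Algebra B B']

/-- the target of a compatible map of completed localizations is complete for the image ideal. -/
theorem isAdicComplete_cmap (K' : Ideal B') (g' : B') (hK' : K' = K.map (algebraMap B B'))
    (χ : CLoc (R := B) K g →+* CLoc (R := B') K' g')
    (hχ : ∀ b : B, χ (algebraMap B (CLoc (R := B) K g) b) =
      algebraMap B' (CLoc (R := B') K' g') (algebraMap B B' b)) :
    IsAdicComplete ((K.map (algebraMap B (CLoc (R := B) K g))).map χ) (CLoc (R := B') K' g') := by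
  rw [RigDesc.map_map_cmap K g K' g' hK' χ hχ]
  exact RigCL.isAdicComplete_cLoc' K' g'

end FT

end Groth.Agent.Lib.Helper27.RigExt
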