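import Mathlib

/-!
Finite-type field extensions of a ring become finite after inverting one element.
-/

set_option autoImplicit false

namespace Groth.Agent.Lib.Helper27.RigFin

/-- A field `κ` of finite type over a ring `A`: there are `f ∈ A` nonzero in `κ` and finitely many
generators `x` of `κ` over `A` with `f • x` integral over `A`. -/
theorem exists_integral_gens (A κ : Type*) [CommRing A] [Field κ] [Algebra A κ]
    [Algebra.FiniteType A κ] :
    ∃ f : A, algebraMap A κ f ≠ 0 ∧ ∃ s : Finset κ, Algebra.adjoin A (s : Set κ) = ⊤ ∧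
      ∀ x ∈ s, IsIntegral A (f • x) := by
  classical
  obtain ⟨s, hs⟩ := (Algebra.FiniteType.out : (⊤ : Subalgebra A κ).FG)
  letI : Algebra (A ⧸ RingHom.ker (algebraMap A κ)) κ :=
    (RingHom.kerLift (algebraMap A κ)).toAlgebra
  haveI : IsScalarTower A (A ⧸ RingHom.ker (algebraMap A κ)) κ :=
    IsScalarTower.of_algebraMap_eq (fun _ => rfl)
  have hinj : Function.Injective (algebraMap (A ⧸ RingHom.ker (algebraMap A κ)) κ) :=
    RingHom.kerLift_injective _
  haveI : FaithfulSMul (A ⧸ RingHom.ker (algebraMap A κ)) κ :=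
    (faithfulSMul_iff_algebraMap_injective _ _).mpr hinj
  haveI : IsDomain (A ⧸ RingHom.ker (algebraMap A κ)) := IsDomain.of_faithfulSMul _ κ
  letI := FractionRing.liftAlgebra (A ⧸ RingHom.ker (algebraMap A κ)) κ
  haveI := FractionRing.isScalarTower_liftAlgebra (A ⧸ RingHom.ker (algebraMap A κ)) κ
  haveI : Algebra.FiniteType (A ⧸ RingHom.ker (algebraMap A κ)) κ :=
    Algebra.FiniteType.of_restrictScalars_finiteType A _ κ
  haveI : Algebra.FiniteType (FractionRing (A ⧸ RingHom.ker (algebraMap A κ))) κ :=
    Algebra.FiniteType.of_restrictScalars_finiteType (A ⧸ RingHom.ker (algebraMap A κ)) _ κ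
  haveI : Module.Finite (FractionRing (A ⧸ RingHom.ker (algebraMap A κ))) κ :=
    finite_of_finite_type_of_isJacobsonRing _ _
  haveI : Algebra.IsAlgebraic (FractionRing (A ⧸ RingHom.ker (algebraMap A κ))) κ :=
    Algebra.IsAlgebraic.of_finite _ _
  haveI : Algebra.IsAlgebraic (A ⧸ RingHom.ker (algebraMap A κ)) κ :=
    (IsFractionRing.comap_isAlgebraic_iff (A := A ⧸ RingHom.ker (algebraMap A κ))
      (K := FractionRing (A ⧸ RingHom.ker (algebraMap A κ)))).mpr inferInstance
  obtain ⟨y, hy0, hy⟩ := Algebra.IsAlgebraic.exists_integral_multiples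
    (A ⧸ RingHom.ker (algebraMap A κ)) s
  obtain ⟨f, rfl⟩ := Ideal.Quotient.mk_surjective y
  haveI : Algebra.IsIntegral A (A ⧸ RingHom.ker (algebraMap A κ)) :=
    Algebra.isIntegral_of_surjective Ideal.Quotient.mk_surjective
  refine ⟨f, ?_, s, hs, ?_⟩
  · intro h0
    apply hy0
    apply hinj
    rw [map_zero]
    exact h0
  · intro x hx
    have h1 := hy x hx
    have h2 : (Ideal.Quotient.mk (RingHom.ker (algebraMap A κ)) f) • x = f • x := by
      rw [Algebra.smul_def, Algebra.smul_def]
      rfl
    rw [h2] at h1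
    exact isIntegral_trans (A := A ⧸ RingHom.ker (algebraMap A κ)) _ h1

/-- Transfer of finiteness: if `κ'` is a quotient of `κ`, generated over `A` by elements with
`f`-multiples integral, and `f` is invertible in `A'`, then `κ'` is finite over `A'`. -/
theorem finite_of_integral_gens {A A' κ κ' : Type*} [CommRing A] [CommRing A'] [CommRing κ]
    [CommRing κ'] [Algebra A A'] [Algebra A κ] [Algebra A κ'] [Algebra A' κ']
    [IsScalarTower A A' κ'] (e : κ →ₐ[A] κ') (he : Function.Surjective e) (f : A)
    (hf : IsUnit (algebraMap A A' f)) (s : Finset κ) (hs : Algebra.adjoin A (s : Set κ) = ⊤)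
    (hint : ∀ x ∈ s, IsIntegral A (f • x)) : Module.Finite A' κ' := by
  classical
  have h1 : ∀ x' ∈ ((s.image e : Finset κ') : Set κ'), IsIntegral A' x' := by
    intro x' hx'
    rw [Finset.coe_image] at hx'
    obtain ⟨x, hx, rfl⟩ := hx'
    have h2 : IsIntegral A (f • e x) := by
      rw [← map_smul]
      exact (hint x hx).map e
    have h3 : IsIntegral A' (f • e x) := h2.tower_top
    obtain ⟨u, hu⟩ := hf
    have h4 : e x = ((u⁻¹ : A'ˣ) : A') • (f • e x) := by
      rw [← algebraMap_smul A' f (e x), smul_smul, ← hu, Units.inv_mul, one_smul]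
    rw [h4]
    exact h3.smul _
  have h2 : Algebra.adjoin A' ((s.image e : Finset κ') : Set κ') = ⊤ := by
    rw [eq_top_iff]
    intro y' _
    obtain ⟨y, rfl⟩ := he y'
    have hy : y ∈ Algebra.adjoin A (s : Set κ) := by rw [hs]; trivial
    induction hy using Algebra.adjoin_induction with
    | mem x hx =>
      apply Algebra.subset_adjoin
      rw [Finset.coe_image]
      exact ⟨x, hx, rfl⟩
    | algebraMap r =>
      rw [AlgHom.commutes, IsScalarTower.algebraMap_apply A A' κ']
      exact Subalgebra.algebraMap_mem _ _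
    | add x y _ _ hx hy => rw [map_add]; exact Subalgebra.add_mem _ (hx trivial) (hy trivial)
    | mul x y _ _ hx hy => rw [map_mul]; exact Subalgebra.mul_mem _ (hx trivial) (hy trivial)
  have h3 := fg_adjoin_of_finite (Finset.finite_toSet (s.image e)) h1
  rw [h2, Algebra.top_toSubmodule] at h3
  exact ⟨h3⟩

end Groth.Agent.Lib.Helper27.RigFin
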