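import Mathlib
import Groth.Agent.S8840
import Groth.Agent.Lib.Helper27.RigEtN
import Groth.Agent.Lib.Helper27.RigExt
import Groth.Agent.Lib.Helper27.RigCL3

/-!
Main reduction for the étale-localization permanence of rig-flatness: a rig-flat `A → B`, a flat
`B → B₁` and an `A → A₁` unramified modulo `I`, with a compatible `ψ₁ : A₁ → B₁`, give naive
rig-flatness of `ψ₁`.
-/

set_option autoImplicit false
universe u

namespace Groth.Agent.Lib.Helper27.RigMain

open AdicRing
open Groth.Agent.Lib.Helper27 Groth.Agent.Lib.Helper27.CLocBasic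
open Groth.Agent.Lib.Helper27.RigDesc

theorem naive_of_rigFlat (A : Type u) [CommRing A] [IsNoetherianRing A] (I : Ideal A)
    [IsAdicComplete I A]
    (B : Type u) [CommRing B] [Algebra A B] [IsNoetherianRing B]
    [IsAdicComplete (I.map (algebraMap A B)) B]
    (A₁ : Type u) [CommRing A₁] [Algebra A A₁] [IsNoetherianRing A₁]
    [IsAdicComplete (I.map (algebraMap A A₁)) A₁]
    (B₁ : Type u) [CommRing B₁] [Algebra A B₁] [Algebra B B₁] [IsScalarTower A B B₁]
    [IsNoetherianRing B₁] [IsAdicComplete (I.map (algebraMap A B₁)) B₁]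
    (ψ₁ : A₁ →+* B₁) (hψ₁ : ∀ a, ψ₁ (algebraMap A A₁ a) = algebraMap A B₁ a)
    (hftB₁ : Algebra.FiniteType A (B₁ ⧸ I.map (algebraMap A B₁)))
    (hftA₁ : Algebra.FiniteType A (A₁ ⧸ I.map (algebraMap A A₁)))
    [Module.Flat B B₁] [Algebra.FormallyUnramified A (A₁ ⧸ I.map (algebraMap A A₁))]
    (hAB : ∀ (f : A) (ψf : CLoc (R := A) I f →+*
        CLoc (R := B) (I.map (algebraMap A B)) (algebraMap A B f)),
      (∀ a, ψf (algebraMap A (CLoc (R := A) I f) a) =
        algebraMap B (CLoc (R := B) (I.map (algebraMap A B)) (algebraMap A B f))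
          (algebraMap A B a)) →
      ∀ qf : PrimeSpectrum (CLoc (R := B) (I.map (algebraMap A B)) (algebraMap A B f)),
      RigClosed ((I.map (algebraMap A B)).map
        (algebraMap B (CLoc (R := B) (I.map (algebraMap A B)) (algebraMap A B f)))) qf →
      ((algebraMap (CLoc (R := B) (I.map (algebraMap A B)) (algebraMap A B f))
        (Localization.AtPrime qf.asIdeal)).comp ψf).Flat)
    (q₁ : PrimeSpectrum B₁) (hq₁ : RigClosed (I.map (algebraMap A B₁)) q₁) :
    ((algebraMap B₁ (Localization.AtPrime q₁.asIdeal)).comp ψ₁).Flat := by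
  classical
  haveI := q₁.isPrime
  obtain ⟨f, hfu, hS⟩ := Groth.Agent.S8840.result A I B₁ hftB₁ q₁ hq₁
  -- the four completed localizations
  haveI hNA := RigCL.isNoetherianRing_cLoc I f
  haveI hNB := RigCL.isNoetherianRing_cLoc (I.map (algebraMap A B)) (algebraMap A B f)
  haveI hNA₂ := RigCL.isNoetherianRing_cLoc (I.map (algebraMap A A₁)) (algebraMap A A₁ f)
  haveI hNB₂ := RigCL.isNoetherianRing_cLoc (I.map (algebraMap A B₁)) (algebraMap A B₁ f)
  haveI hCA := RigCL.isAdicComplete_cLoc' I f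
  haveI hCB := RigCL.isAdicComplete_cLoc' (I.map (algebraMap A B)) (algebraMap A B f)
  haveI hCA₂ := RigCL.isAdicComplete_cLoc' (I.map (algebraMap A A₁)) (algebraMap A A₁ f)
  haveI hCB₂ := RigCL.isAdicComplete_cLoc' (I.map (algebraMap A B₁)) (algebraMap A B₁ f)
  have hIB₁ : (I.map (algebraMap A B)).map (algebraMap B B₁) = I.map (algebraMap A B₁) := by
    rw [Ideal.map_map, ← IsScalarTower.algebraMap_eq]
  have hfB₁ : algebraMap B B₁ (algebraMap A B f) = algebraMap A B₁ f :=
    (IsScalarTower.algebraMap_apply A B B₁ f).symm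
  -- the maps
  obtain ⟨ψf, hψf⟩ := RigUP.exists_lift I f
    ((I.map (algebraMap A B)).map (algebraMap B (CLoc (R := B) (I.map (algebraMap A B))
      (algebraMap A B f))))
    ((algebraMap B (CLoc (R := B) (I.map (algebraMap A B)) (algebraMap A B f))).comp
      (algebraMap A B)) (Ideal.map_map _ _).symm.le
    (RigCL.isUnit_algebraMap_cLoc (I.map (algebraMap A B)) (algebraMap A B f))
  obtain ⟨α, hα⟩ := RigUP.exists_lift I f
    ((I.map (algebraMap A A₁)).map (algebraMap A₁ (CLoc (R := A₁) (I.map (algebraMap A A₁))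
      (algebraMap A A₁ f))))
    ((algebraMap A₁ (CLoc (R := A₁) (I.map (algebraMap A A₁)) (algebraMap A A₁ f))).comp
      (algebraMap A A₁)) (Ideal.map_map _ _).symm.le
    (RigCL.isUnit_algebraMap_cLoc (I.map (algebraMap A A₁)) (algebraMap A A₁ f))
  obtain ⟨β, hβ⟩ := RigUP.exists_lift (I.map (algebraMap A B)) (algebraMap A B f)
    ((I.map (algebraMap A B₁)).map (algebraMap B₁ (CLoc (R := B₁) (I.map (algebraMap A B₁))
      (algebraMap A B₁ f))))
    ((algebraMap B₁ (CLoc (R := B₁) (I.map (algebraMap A B₁)) (algebraMap A B₁ f))).comp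
      (algebraMap B B₁))
    (by rw [← Ideal.map_map, hIB₁])
    (by
      rw [RingHom.comp_apply, hfB₁]
      exact RigCL.isUnit_algebraMap_cLoc (I.map (algebraMap A B₁)) (algebraMap A B₁ f))
  have hψ₁comp : ψ₁.comp (algebraMap A A₁) = algebraMap A B₁ := RingHom.ext hψ₁
  obtain ⟨ψ₂, hψ₂⟩ := RigUP.exists_lift (I.map (algebraMap A A₁)) (algebraMap A A₁ f)
    ((I.map (algebraMap A B₁)).map (algebraMap B₁ (CLoc (R := B₁) (I.map (algebraMap A B₁))
      (algebraMap A B₁ f))))
    ((algebraMap B₁ (CLoc (R := B₁) (I.map (algebraMap A B₁)) (algebraMap A B₁ f))).comp ψ₁)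
    (by
      rw [← Ideal.map_map, Ideal.map_map (algebraMap A A₁) ψ₁, hψ₁comp])
    (by
      rw [RingHom.comp_apply, hψ₁]
      exact RigCL.isUnit_algebraMap_cLoc (I.map (algebraMap A B₁)) (algebraMap A B₁ f))
  -- the diagonal
  obtain ⟨δ, hδdef⟩ : ∃ δ : CLoc (R := A) I f →+*
      CLoc (R := B₁) (I.map (algebraMap A B₁)) (algebraMap A B₁ f), δ = ψ₂.comp α := ⟨_, rfl⟩
  have hδ : ∀ a, δ (algebraMap A (CLoc (R := A) I f) a) =
      algebraMap B₁ (CLoc (R := B₁) (I.map (algebraMap A B₁)) (algebraMap A B₁ f))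
        (algebraMap A B₁ a) := by
    intro a
    rw [hδdef, RingHom.comp_apply, hα]
    show ψ₂ (algebraMap A₁ _ (algebraMap A A₁ a)) = _
    rw [hψ₂]
    show algebraMap B₁ _ (ψ₁ (algebraMap A A₁ a)) = _
    rw [hψ₁]
  have hcomm : δ = β.comp ψf := by
    refine RigUP.lift_unique I f
      ((I.map (algebraMap A B₁)).map (algebraMap B₁ (CLoc (R := B₁) (I.map (algebraMap A B₁))
        (algebraMap A B₁ f)))) _ _ ?_ ?_
    · intro a
      rw [hδ, RingHom.comp_apply, hψf]
      show _ = β (algebraMap B _ (algebraMap A B a))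
      rw [hβ]
      show _ = algebraMap B₁ _ (algebraMap B B₁ (algebraMap A B a))
      rw [← IsScalarTower.algebraMap_apply A B B₁ a]
    · have e : δ.comp (algebraMap A (CLoc (R := A) I f)) =
          (algebraMap B₁ (CLoc (R := B₁) (I.map (algebraMap A B₁)) (algebraMap A B₁ f))).comp
            (algebraMap A B₁) := RingHom.ext hδ
      rw [e, ← Ideal.map_map]
  -- the prime `q₂`
  obtain ⟨q₂, hq₂as, hq₂rig, hq₂comap⟩ := RigExt.rigClosed_map_cLoc B₁ (I.map (algebraMap A B₁))
    q₁ hq₁ (algebraMap A B₁ f) hfu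
  haveI := q₂.isPrime
  have hSδ := hS δ (RigUP.comp_form I f (I.map (algebraMap A B₁)) δ hδ)
  -- local algebra structures
  letI algAB : Algebra (CLoc (R := A) I f)
      (CLoc (R := B) (I.map (algebraMap A B)) (algebraMap A B f)) := ψf.toAlgebra
  letI algAA₂ : Algebra (CLoc (R := A) I f)
      (CLoc (R := A₁) (I.map (algebraMap A A₁)) (algebraMap A A₁ f)) := α.toAlgebra
  letI algAB₂ : Algebra (CLoc (R := A) I f)
      (CLoc (R := B₁) (I.map (algebraMap A B₁)) (algebraMap A B₁ f)) := δ.toAlgebra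
  letI algBB₂ : Algebra (CLoc (R := B) (I.map (algebraMap A B)) (algebraMap A B f))
      (CLoc (R := B₁) (I.map (algebraMap A B₁)) (algebraMap A B₁ f)) := β.toAlgebra
  letI algA₂B₂ : Algebra (CLoc (R := A₁) (I.map (algebraMap A A₁)) (algebraMap A A₁ f))
      (CLoc (R := B₁) (I.map (algebraMap A B₁)) (algebraMap A B₁ f)) := ψ₂.toAlgebra
  haveI tow1 : IsScalarTower (CLoc (R := A) I f)
      (CLoc (R := B) (I.map (algebraMap A B)) (algebraMap A B f))
      (CLoc (R := B₁) (I.map (algebraMap A B₁)) (algebraMap A B₁ f)) :=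
    IsScalarTower.of_algebraMap_eq (fun x => RingHom.congr_fun hcomm x)
  haveI tow2 : IsScalarTower (CLoc (R := A) I f)
      (CLoc (R := A₁) (I.map (algebraMap A A₁)) (algebraMap A A₁ f))
      (CLoc (R := B₁) (I.map (algebraMap A B₁)) (algebraMap A B₁ f)) :=
    IsScalarTower.of_algebraMap_eq (fun x => RingHom.congr_fun hδdef x)
  haveI cB : IsAdicComplete ((I.map (algebraMap A (CLoc (R := A) I f))).map
      (algebraMap (CLoc (R := A) I f) (CLoc (R := B) (I.map (algebraMap A B)) (algebraMap A B f))))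
      (CLoc (R := B) (I.map (algebraMap A B)) (algebraMap A B f)) :=
    RigCL3.isAdicComplete_psi I f ψf hψf
  haveI cA₂ : IsAdicComplete ((I.map (algebraMap A (CLoc (R := A) I f))).map
      (algebraMap (CLoc (R := A) I f)
        (CLoc (R := A₁) (I.map (algebraMap A A₁)) (algebraMap A A₁ f))))
      (CLoc (R := A₁) (I.map (algebraMap A A₁)) (algebraMap A A₁ f)) :=
    RigCL3.isAdicComplete_psi I f α hα
  haveI cB₂ : IsAdicComplete ((I.map (algebraMap A (CLoc (R := A) I f))).map
      (algebraMap (CLoc (R := A) I f)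
        (CLoc (R := B₁) (I.map (algebraMap A B₁)) (algebraMap A B₁ f))))
      (CLoc (R := B₁) (I.map (algebraMap A B₁)) (algebraMap A B₁ f)) :=
    RigCL3.isAdicComplete_psi I f δ hδ
  have hftB₂ : Algebra.FiniteType (CLoc (R := A) I f)
      (CLoc (R := B₁) (I.map (algebraMap A B₁)) (algebraMap A B₁ f) ⧸
        (I.map (algebraMap A (CLoc (R := A) I f))).map (algebraMap (CLoc (R := A) I f)
        (CLoc (R := B₁) (I.map (algebraMap A B₁)) (algebraMap A B₁ f)))) :=
    RigCL3.finiteType_quot_psi I f δ hδ hftB₁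
  have hftA₂ : Algebra.FiniteType (CLoc (R := A) I f)
      (CLoc (R := A₁) (I.map (algebraMap A A₁)) (algebraMap A A₁ f) ⧸
        (I.map (algebraMap A (CLoc (R := A) I f))).map (algebraMap (CLoc (R := A) I f)
        (CLoc (R := A₁) (I.map (algebraMap A A₁)) (algebraMap A A₁ f)))) :=
    RigCL3.finiteType_quot_psi I f α hα hftA₁
  haveI flatβ : Module.Flat (CLoc (R := B) (I.map (algebraMap A B)) (algebraMap A B f))
      (CLoc (R := B₁) (I.map (algebraMap A B₁)) (algebraMap A B₁ f)) :=
    RigDesc.flat_cmap (I.map (algebraMap A B)) (algebraMap A B f) (I.map (algebraMap A B₁))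
      (algebraMap A B₁ f) hIB₁.symm β hβ
  -- ideal identities
  have hmA₂ : (I.map (algebraMap A (CLoc (R := A) I f))).map (algebraMap (CLoc (R := A) I f)
      (CLoc (R := A₁) (I.map (algebraMap A A₁)) (algebraMap A A₁ f))) =
      (I.map (algebraMap A A₁)).map (algebraMap A₁
        (CLoc (R := A₁) (I.map (algebraMap A A₁)) (algebraMap A A₁ f))) :=
    RigCL3.map_map_psi I f α hα I
  have hmB₂ : (I.map (algebraMap A (CLoc (R := A) I f))).map (algebraMap (CLoc (R := A) I f)
      (CLoc (R := B₁) (I.map (algebraMap A B₁)) (algebraMap A B₁ f))) =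
      (I.map (algebraMap A B₁)).map (algebraMap B₁
        (CLoc (R := B₁) (I.map (algebraMap A B₁)) (algebraMap A B₁ f))) :=
    RigCL3.map_map_psi I f δ hδ I
  have hmB : (I.map (algebraMap A (CLoc (R := A) I f))).map (algebraMap (CLoc (R := A) I f)
      (CLoc (R := B) (I.map (algebraMap A B)) (algebraMap A B f))) =
      (I.map (algebraMap A B)).map (algebraMap B
        (CLoc (R := B) (I.map (algebraMap A B)) (algebraMap A B f))) :=
    RigCL3.map_map_psi I f ψf hψf I
  -- unramifiedness of the reduction of `α`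
  haveI unrA : Algebra.FormallyUnramified A
      (CLoc (R := A₁) (I.map (algebraMap A A₁)) (algebraMap A A₁ f) ⧸
        (I.map (algebraMap A (CLoc (R := A) I f))).map (algebraMap (CLoc (R := A) I f)
        (CLoc (R := A₁) (I.map (algebraMap A A₁)) (algebraMap A A₁ f)))) := by
    refine RigEtC.formallyUnramified_of_dense (A := A) (A' := A₁) (I.map (algebraMap A A₁)) ?_ ?_
    · intro j hj
      show Ideal.Quotient.mk _ (algebraMap A₁ _ j) = 0
      rw [Ideal.Quotient.eq_zero_iff_mem, hmA₂]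
      exact Ideal.mem_map_of_mem _ hj
    · intro x
      obtain ⟨a, u, hu, hux⟩ := RigEtC.dense_quot (I.map (algebraMap A A₁)) (algebraMap A A₁ f)
        ((I.map (algebraMap A (CLoc (R := A) I f))).map (algebraMap (CLoc (R := A) I f)
        (CLoc (R := A₁) (I.map (algebraMap A A₁)) (algebraMap A A₁ f)))) hmA₂.ge x
      exact ⟨a, u, hu, hux⟩
  haveI towAX : IsScalarTower A (CLoc (R := A) I f)
      (CLoc (R := A₁) (I.map (algebraMap A A₁)) (algebraMap A A₁ f) ⧸
        (I.map (algebraMap A (CLoc (R := A) I f))).map (algebraMap (CLoc (R := A) I f)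
        (CLoc (R := A₁) (I.map (algebraMap A A₁)) (algebraMap A A₁ f)))) :=
    IsScalarTower.of_algebraMap_eq (fun a => by
      show Ideal.Quotient.mk _ (algebraMap A _ a) = Ideal.Quotient.mk _ (α (algebraMap A _ a))
      rw [hα]
      rfl)
  haveI unrÂ : Algebra.FormallyUnramified (CLoc (R := A) I f)
      (CLoc (R := A₁) (I.map (algebraMap A A₁)) (algebraMap A A₁ f) ⧸
        (I.map (algebraMap A (CLoc (R := A) I f))).map (algebraMap (CLoc (R := A) I f)
        (CLoc (R := A₁) (I.map (algebraMap A A₁)) (algebraMap A A₁ f)))) :=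
    Algebra.FormallyUnramified.of_restrictScalars A (CLoc (R := A) I f) _
  -- rig-closedness in the required forms
  have hq₂' : RigClosed ((I.map (algebraMap A (CLoc (R := A) I f))).map
      (algebraMap (CLoc (R := A) I f)
        (CLoc (R := B₁) (I.map (algebraMap A B₁)) (algebraMap A B₁ f)))) q₂ := by
    rw [hmB₂]; exact hq₂rig
  have hcm : (PrimeSpectrum.comap (algebraMap (CLoc (R := A) I f)
      (CLoc (R := B₁) (I.map (algebraMap A B₁)) (algebraMap A B₁ f))) q₂).asIdeal =
      (q₁.asIdeal.map (algebraMap B₁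
        (CLoc (R := B₁) (I.map (algebraMap A B₁)) (algebraMap A B₁ f)))).comap δ := by
    rw [← hq₂as]
    rfl
  have hp₂ : RigClosed (I.map (algebraMap A (CLoc (R := A) I f)))
      (PrimeSpectrum.comap (algebraMap (CLoc (R := A) I f)
      (CLoc (R := B₁) (I.map (algebraMap A B₁)) (algebraMap A B₁ f))) q₂) := by
    refine ⟨?_, ?_⟩
    · rw [hcm]; exact hSδ.2.1
    · intro y hy hIy
      apply PrimeSpectrum.ext
      rw [hcm]
      refine hSδ.2.2 y ?_ hIy
      rw [← hcm]
      exact hy
  -- naive rig-flatness of `ψf`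
  have hnaive : ∀ r : PrimeSpectrum (CLoc (R := B) (I.map (algebraMap A B)) (algebraMap A B f)),
      RigClosed ((I.map (algebraMap A (CLoc (R := A) I f))).map
        (algebraMap (CLoc (R := A) I f)
          (CLoc (R := B) (I.map (algebraMap A B)) (algebraMap A B f)))) r →
      (algebraMap (CLoc (R := A) I f) (Localization.AtPrime r.asIdeal)).Flat := by
    intro r hr
    rw [hmB] at hr
    have h := hAB f ψf hψf r hr
    have e : algebraMap (CLoc (R := A) I f) (Localization.AtPrime r.asIdeal) =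
        (algebraMap (CLoc (R := B) (I.map (algebraMap A B)) (algebraMap A B f))
          (Localization.AtPrime r.asIdeal)).comp ψf :=
      IsScalarTower.algebraMap_eq _ _ _
    rw [e]
    exact h
  have hcore := RigEtN.flat_naive_core (CLoc (R := A) I f) (I.map (algebraMap A (CLoc (R := A) I f)))
    (CLoc (R := B) (I.map (algebraMap A B)) (algebraMap A B f))
    (CLoc (R := A₁) (I.map (algebraMap A A₁)) (algebraMap A A₁ f))
    (CLoc (R := B₁) (I.map (algebraMap A B₁)) (algebraMap A B₁ f))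
    hftB₂ hftA₂ q₂ hq₂' hp₂ hnaive
  have e₂ : algebraMap (CLoc (R := A₁) (I.map (algebraMap A A₁)) (algebraMap A A₁ f))
      (Localization.AtPrime q₂.asIdeal) =
      (algebraMap (CLoc (R := B₁) (I.map (algebraMap A B₁)) (algebraMap A B₁ f))
        (Localization.AtPrime q₂.asIdeal)).comp ψ₂ := IsScalarTower.algebraMap_eq _ _ _
  rw [e₂] at hcore
  -- descend
  refine RigExt.flat_descent_at ψ₁
    (algebraMap A₁ (CLoc (R := A₁) (I.map (algebraMap A A₁)) (algebraMap A A₁ f)))
    (algebraMap B₁ (CLoc (R := B₁) (I.map (algebraMap A B₁)) (algebraMap A B₁ f))) ψ₂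
    (RingHom.ext hψ₂) ?_ ?_ q₁ q₂ hq₂comap hcore
  · rw [RingHom.flat_algebraMap_iff]
    exact RigCL.flat_cLoc _ _
  · rw [RingHom.flat_algebraMap_iff]
    exact RigCL.flat_cLoc _ _

end Groth.Agent.Lib.Helper27.RigMain
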