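import Mathlib
import Groth.Agent.Lib.Helper27.RigMain

/-!
Composition of rig-flat maps: the core statement (with the completed localization of `C` written in
`B`-form).
-/

set_option autoImplicit false
universe u

namespace Groth.Agent.Lib.Helper27.RigComp

open AdicRing
open Groth.Agent.Lib.Helper27 Groth.Agent.Lib.Helper27.CLocBasic
open Groth.Agent.Lib.Helper27.RigDesc

/-- clean form of rig-flatness of `A → B`. -/
def RigFlat (A : Type u) [CommRing A] (I : Ideal A) (B : Type u) [CommRing B] [Algebra A B] :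
    Prop :=
  ∀ (f : A) (ψf : CLoc (R := A) I f →+*
      CLoc (R := B) (I.map (algebraMap A B)) (algebraMap A B f)),
    (∀ a, ψf (algebraMap A (CLoc (R := A) I f) a) =
      algebraMap B (CLoc (R := B) (I.map (algebraMap A B)) (algebraMap A B f))
        (algebraMap A B a)) →
    ∀ qf : PrimeSpectrum (CLoc (R := B) (I.map (algebraMap A B)) (algebraMap A B f)),
    RigClosed ((I.map (algebraMap A B)).map
      (algebraMap B (CLoc (R := B) (I.map (algebraMap A B)) (algebraMap A B f)))) qf →
    ((algebraMap (CLoc (R := B) (I.map (algebraMap A B)) (algebraMap A B f))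
      (Localization.AtPrime qf.asIdeal)).comp ψf).Flat

/-- the form used in the statements implies the clean form. -/
theorem rigFlat_of_statement (A : Type u) [CommRing A] [IsNoetherianRing A] (I : Ideal A)
    (B : Type u) [CommRing B] [Algebra A B]
    (hAB : ∀ f : A, ∀ ψf : (AdicCompletion (I.map (algebraMap A (Localization.Away f)))
      (Localization.Away f)) →+* (AdicCompletion ((I.map (algebraMap A B)).map
      (algebraMap B (Localization.Away (algebraMap A B f))))
      (Localization.Away (algebraMap A B f))),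
      ψf.comp (algebraMap (Localization.Away f) (AdicCompletion
        (I.map (algebraMap A (Localization.Away f))) (Localization.Away f))) =
      (algebraMap (Localization.Away (algebraMap A B f)) (AdicCompletion
        ((I.map (algebraMap A B)).map (algebraMap B (Localization.Away (algebraMap A B f))))
        (Localization.Away (algebraMap A B f)))).comp (Localization.awayMap (algebraMap A B) f) →
      ∀ qf : PrimeSpectrum (AdicCompletion ((I.map (algebraMap A B)).map
        (algebraMap B (Localization.Away (algebraMap A B f))))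
        (Localization.Away (algebraMap A B f))),
      (¬ (((I.map (algebraMap A B)).map (algebraMap B (Localization.Away (algebraMap A B f)))).map
        (algebraMap (Localization.Away (algebraMap A B f)) (AdicCompletion
        ((I.map (algebraMap A B)).map (algebraMap B (Localization.Away (algebraMap A B f))))
        (Localization.Away (algebraMap A B f))))) ≤ qf.asIdeal ∧
        ∀ y : PrimeSpectrum (AdicCompletion ((I.map (algebraMap A B)).map
        (algebraMap B (Localization.Away (algebraMap A B f))))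
        (Localization.Away (algebraMap A B f))), qf ≤ y →
        ¬ (((I.map (algebraMap A B)).map (algebraMap B (Localization.Away (algebraMap A B f)))).map
        (algebraMap (Localization.Away (algebraMap A B f)) (AdicCompletion
        ((I.map (algebraMap A B)).map (algebraMap B (Localization.Away (algebraMap A B f))))
        (Localization.Away (algebraMap A B f))))) ≤ y.asIdeal → y = qf) →
      ((algebraMap (AdicCompletion ((I.map (algebraMap A B)).map
        (algebraMap B (Localization.Away (algebraMap A B f))))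
        (Localization.Away (algebraMap A B f))) (Localization.AtPrime qf.asIdeal)).comp ψf).Flat) :
    RigFlat A I B := by
  intro f ψf hψf qf hqf
  refine hAB f ψf (RigUP.comp_form I f (I.map (algebraMap A B)) ψf hψf) qf ?_
  rw [CLocBasic.map_map_cLoc]
  exact hqf

/-- reductions of completed localizations are formally unramified over the base. -/
theorem formallyUnramified_quot_cLoc {C : Type u} [CommRing C] [IsNoetherianRing C] (J : Ideal C)
    (g : C) : Algebra.FormallyUnramified C
      (CLoc (R := C) J g ⧸ J.map (algebraMap C (CLoc (R := C) J g))) := by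
  refine RigEtC.formallyUnramified_of_dense (A := C) (A' := C) J ?_ ?_
  · intro j hj
    show Ideal.Quotient.mk _ (algebraMap C _ j) = 0
    rw [Ideal.Quotient.eq_zero_iff_mem]
    exact Ideal.mem_map_of_mem _ hj
  · intro x
    obtain ⟨a, u, hu, hux⟩ := RigEtC.dense_quot J g
      (J.map (algebraMap C (CLoc (R := C) J g))) le_rfl x
    exact ⟨a, u, hu, hux⟩

section OneLayer

variable (A : Type u) [CommRing A] (I : Ideal A) (B₁ : Type u) [CommRing B₁] [Algebra A B₁]
  [IsNoetherianRing B₁] (K₁ : Ideal B₁) (hK₁ : K₁ = I.map (algebraMap A B₁)) (g : B₁)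

include hK₁ in
theorem map_layer : K₁.map (algebraMap B₁ (CLoc (R := B₁) K₁ g)) =
    I.map (algebraMap A (CLoc (R := B₁) K₁ g)) := by
  subst hK₁
  exact Ideal.map_map _ _

include hK₁ in
theorem isAdicComplete_layer :
    IsAdicComplete (I.map (algebraMap A (CLoc (R := B₁) K₁ g))) (CLoc (R := B₁) K₁ g) := by
  rw [← map_layer A I B₁ K₁ hK₁ g]
  exact RigCL.isAdicComplete_cLoc' K₁ g

include hK₁ in
theorem finiteType_layer (h : Algebra.FiniteType A (B₁ ⧸ I.map (algebraMap A B₁))) :
    Algebra.FiniteType A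
      (CLoc (R := B₁) K₁ g ⧸ I.map (algebraMap A (CLoc (R := B₁) K₁ g))) := by
  refine RigEtC.finiteType_trans_quot (A := A) (B := B₁) (C := CLoc (R := B₁) K₁ g)
    (I.map (algebraMap A B₁)) _ (Ideal.map_map _ _).le h ?_
  rw [← map_layer A I B₁ K₁ hK₁ g]
  exact RigCL.finiteType_quot K₁ g

include hK₁ in
theorem formallyUnramified_layer [Algebra.FormallyUnramified A (B₁ ⧸ I.map (algebraMap A B₁))] :
    Algebra.FormallyUnramified A
      (CLoc (R := B₁) K₁ g ⧸ I.map (algebraMap A (CLoc (R := B₁) K₁ g))) := by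
  refine RigEtC.formallyUnramified_of_dense (A := A) (A' := B₁) (I.map (algebraMap A B₁)) ?_ ?_
  · intro j hj
    show Ideal.Quotient.mk _ (algebraMap B₁ _ j) = 0
    rw [Ideal.Quotient.eq_zero_iff_mem]
    exact (Ideal.map_map (algebraMap A B₁) (algebraMap B₁ (CLoc (R := B₁) K₁ g))).le
      (Ideal.mem_map_of_mem _ hj)
  · intro x
    obtain ⟨a, u, hu, hux⟩ := RigEtC.dense_quot K₁ g
      (I.map (algebraMap A (CLoc (R := B₁) K₁ g))) (map_layer A I B₁ K₁ hK₁ g).le x
    exact ⟨a, u, hu, hux⟩

end OneLayer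

/-- naive composition: if `A₁ → B₁` is naively rig-flat after every completed localization of
`B₁`, and `B₁ → C₁` is rig-flat, then `A₁ → C₁` is naively rig-flat. -/
theorem naive_comp (A₁ B₁ C₁ : Type u) [CommRing A₁] [CommRing B₁] [CommRing C₁]
    [IsNoetherianRing B₁] (K₁ : Ideal B₁) [IsAdicComplete K₁ B₁] [Algebra B₁ C₁]
    [IsNoetherianRing C₁] [IsAdicComplete (K₁.map (algebraMap B₁ C₁)) C₁]
    (hft₁ : Algebra.FiniteType B₁ (C₁ ⧸ K₁.map (algebraMap B₁ C₁))) (ψAB : A₁ →+* B₁)
    (P1 : ∀ (g : B₁) (r₂ : PrimeSpectrum (CLoc (R := B₁) K₁ g)),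
      RigClosed (K₁.map (algebraMap B₁ (CLoc (R := B₁) K₁ g))) r₂ →
      ((algebraMap (CLoc (R := B₁) K₁ g) (Localization.AtPrime r₂.asIdeal)).comp
        ((algebraMap B₁ (CLoc (R := B₁) K₁ g)).comp ψAB)).Flat)
    (P2 : RigFlat B₁ K₁ C₁)
    (qe : PrimeSpectrum C₁) (hqe : RigClosed (K₁.map (algebraMap B₁ C₁)) qe) :
    ((algebraMap C₁ (Localization.AtPrime qe.asIdeal)).comp
      ((algebraMap B₁ C₁).comp ψAB)).Flat := by
  classical
  haveI := qe.isPrime
  obtain ⟨g, hgu, hS⟩ := Groth.Agent.S8840.result B₁ K₁ C₁ hft₁ qe hqe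
  haveI hNB₂ := RigCL.isNoetherianRing_cLoc K₁ g
  haveI hNC₂ := RigCL.isNoetherianRing_cLoc (K₁.map (algebraMap B₁ C₁)) (algebraMap B₁ C₁ g)
  haveI hCC₂ := RigCL.isAdicComplete_cLoc' (K₁.map (algebraMap B₁ C₁)) (algebraMap B₁ C₁ g)
  obtain ⟨ψ₂, hψ₂⟩ := RigUP.exists_lift K₁ g
    ((K₁.map (algebraMap B₁ C₁)).map (algebraMap C₁
      (CLoc (R := C₁) (K₁.map (algebraMap B₁ C₁)) (algebraMap B₁ C₁ g))))
    ((algebraMap C₁ (CLoc (R := C₁) (K₁.map (algebraMap B₁ C₁)) (algebraMap B₁ C₁ g))).comp
      (algebraMap B₁ C₁)) (Ideal.map_map _ _).symm.le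
    (RigCL.isUnit_algebraMap_cLoc (K₁.map (algebraMap B₁ C₁)) (algebraMap B₁ C₁ g))
  have hSψ := hS ψ₂ (RigUP.comp_form K₁ g (K₁.map (algebraMap B₁ C₁)) ψ₂ hψ₂)
  obtain ⟨q₂, hq₂as, hq₂rig, hq₂comap⟩ := RigExt.rigClosed_map_cLoc C₁
    (K₁.map (algebraMap B₁ C₁)) qe hqe (algebraMap B₁ C₁ g) hgu
  haveI := q₂.isPrime
  have hcm : (PrimeSpectrum.comap ψ₂ q₂).asIdeal =
      (qe.asIdeal.map (algebraMap C₁
        (CLoc (R := C₁) (K₁.map (algebraMap B₁ C₁)) (algebraMap B₁ C₁ g)))).comap ψ₂ := by
    rw [← hq₂as]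
    rfl
  have hr₂ : RigClosed (K₁.map (algebraMap B₁ (CLoc (R := B₁) K₁ g)))
      (PrimeSpectrum.comap ψ₂ q₂) := by
    refine ⟨?_, ?_⟩
    · rw [hcm]; exact hSψ.2.1
    · intro y hy hIy
      apply PrimeSpectrum.ext
      rw [hcm]
      refine hSψ.2.2 y ?_ hIy
      rw [← hcm]
      exact hy
  obtain ⟨r₂, hr₂def⟩ : ∃ r₂ : PrimeSpectrum (CLoc (R := B₁) K₁ g),
      r₂ = PrimeSpectrum.comap ψ₂ q₂ := ⟨_, rfl⟩
  rw [← hr₂def] at hr₂
  haveI := r₂.isPrime
  have h_i := P1 g r₂ hr₂
  have h_ii := P2 g ψ₂ hψ₂ q₂ hq₂rig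
  have hr₂q₂ : r₂.asIdeal = q₂.asIdeal.comap ψ₂ := by rw [hr₂def]; rfl
  have hlam : (Localization.localRingHom r₂.asIdeal q₂.asIdeal ψ₂ hr₂q₂).Flat := by
    letI alg1 : Algebra (CLoc (R := B₁) K₁ g) (Localization.AtPrime q₂.asIdeal) :=
      ((algebraMap (CLoc (R := C₁) (K₁.map (algebraMap B₁ C₁)) (algebraMap B₁ C₁ g))
        (Localization.AtPrime q₂.asIdeal)).comp ψ₂).toAlgebra
    letI alg2 : Algebra (Localization.AtPrime r₂.asIdeal) (Localization.AtPrime q₂.asIdeal) :=
      (Localization.localRingHom r₂.asIdeal q₂.asIdeal ψ₂ hr₂q₂).toAlgebra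
    haveI : IsScalarTower (CLoc (R := B₁) K₁ g) (Localization.AtPrime r₂.asIdeal)
        (Localization.AtPrime q₂.asIdeal) := IsScalarTower.of_algebraMap_eq (fun x =>
      (Localization.localRingHom_to_map _ _ _ hr₂q₂ x).symm)
    haveI : Module.Flat (CLoc (R := B₁) K₁ g) (Localization.AtPrime q₂.asIdeal) := h_ii
    exact (Module.flat_iff_of_isLocalization (Localization.AtPrime r₂.asIdeal)
      r₂.asIdeal.primeCompl (Localization.AtPrime q₂.asIdeal)).mpr inferInstance
  have h_iii : ((algebraMap (CLoc (R := C₁) (K₁.map (algebraMap B₁ C₁)) (algebraMap B₁ C₁ g))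
      (Localization.AtPrime q₂.asIdeal)).comp
      (ψ₂.comp ((algebraMap B₁ (CLoc (R := B₁) K₁ g)).comp ψAB))).Flat := by
    have e : (algebraMap (CLoc (R := C₁) (K₁.map (algebraMap B₁ C₁)) (algebraMap B₁ C₁ g))
        (Localization.AtPrime q₂.asIdeal)).comp
        (ψ₂.comp ((algebraMap B₁ (CLoc (R := B₁) K₁ g)).comp ψAB)) =
        (Localization.localRingHom r₂.asIdeal q₂.asIdeal ψ₂ hr₂q₂).comp
          ((algebraMap (CLoc (R := B₁) K₁ g) (Localization.AtPrime r₂.asIdeal)).comp
            ((algebraMap B₁ (CLoc (R := B₁) K₁ g)).comp ψAB)) := by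
      apply RingHom.ext
      intro x
      simp only [RingHom.comp_apply]
      rw [Localization.localRingHom_to_map]
    rw [e]
    exact RingHom.Flat.comp h_i hlam
  refine RigExt.flat_descent_at ((algebraMap B₁ C₁).comp ψAB) (RingHom.id A₁)
    (algebraMap C₁ (CLoc (R := C₁) (K₁.map (algebraMap B₁ C₁)) (algebraMap B₁ C₁ g)))
    (ψ₂.comp ((algebraMap B₁ (CLoc (R := B₁) K₁ g)).comp ψAB)) ?_ (RingHom.Flat.id A₁) ?_
    qe q₂ hq₂comap h_iii
  · apply RingHom.ext
    intro x
    simp only [RingHom.comp_apply, RingHom.id_apply]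
    rw [hψ₂]
    rfl
  · rw [RingHom.flat_algebraMap_iff]
    exact RigCL.flat_cLoc _ _

/-- generic first ingredient: a rig-flat `A → B`, an `A₁` unramified mod `I` over `A`, and a flat
`B`-algebra `B₁` receiving `A₁`: then `A₁ → B₁⟨g⁻¹⟩` is naively rig-flat for every `g`. -/
theorem naive_layer (A : Type u) [CommRing A] [IsNoetherianRing A] (I : Ideal A)
    [IsAdicComplete I A]
    (B : Type u) [CommRing B] [Algebra A B] [IsNoetherianRing B]
    [IsAdicComplete (I.map (algebraMap A B)) B]
    (hAB : RigFlat A I B)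
    (A₁ : Type u) [CommRing A₁] [Algebra A A₁] [IsNoetherianRing A₁]
    [IsAdicComplete (I.map (algebraMap A A₁)) A₁]
    (hftA₁ : Algebra.FiniteType A (A₁ ⧸ I.map (algebraMap A A₁)))
    [Algebra.FormallyUnramified A (A₁ ⧸ I.map (algebraMap A A₁))]
    (B₁ : Type u) [CommRing B₁] [Algebra A B₁] [Algebra B B₁] [IsScalarTower A B B₁]
    [IsNoetherianRing B₁] [Module.Flat B B₁]
    (hftB₁ : Algebra.FiniteType A (B₁ ⧸ I.map (algebraMap A B₁)))
    (K₁ : Ideal B₁) (hK₁ : K₁ = I.map (algebraMap A B₁))
    (ψAB : A₁ →+* B₁) (hψAB : ∀ a, ψAB (algebraMap A A₁ a) = algebraMap A B₁ a)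
    (g : B₁) (r₂ : PrimeSpectrum (CLoc (R := B₁) K₁ g))
    (hr₂ : RigClosed (K₁.map (algebraMap B₁ (CLoc (R := B₁) K₁ g))) r₂) :
    ((algebraMap (CLoc (R := B₁) K₁ g) (Localization.AtPrime r₂.asIdeal)).comp
      ((algebraMap B₁ (CLoc (R := B₁) K₁ g)).comp ψAB)).Flat := by
  haveI := RigCL.isNoetherianRing_cLoc K₁ g
  haveI := isAdicComplete_layer A I B₁ K₁ hK₁ g
  haveI : Module.Flat B₁ (CLoc (R := B₁) K₁ g) := RigCL.flat_cLoc K₁ g
  haveI : Module.Flat B (CLoc (R := B₁) K₁ g) := Module.Flat.trans B B₁ _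
  refine RigMain.naive_of_rigFlat A I B A₁ (CLoc (R := B₁) K₁ g)
    ((algebraMap B₁ (CLoc (R := B₁) K₁ g)).comp ψAB) ?_
    (finiteType_layer A I B₁ K₁ hK₁ g hftB₁) hftA₁ hAB r₂ ?_
  · intro a
    rw [RingHom.comp_apply, hψAB, ← IsScalarTower.algebraMap_apply A B₁ (CLoc (R := B₁) K₁ g) a]
  · rw [← map_layer A I B₁ K₁ hK₁ g]
    exact hr₂

/-- generic second ingredient: rig-flatness of `B → C` passes to `B₁ → C₁` for `B₁` unramified mod
`K` over `B` and `C₁` flat over `C`. -/
theorem rigFlat_layer (B : Type u) [CommRing B] [IsNoetherianRing B] (KB : Ideal B)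
    [IsAdicComplete KB B]
    (C : Type u) [CommRing C] [Algebra B C] [IsNoetherianRing C]
    [IsAdicComplete (KB.map (algebraMap B C)) C]
    (hBC : RigFlat B KB C)
    (B₁ : Type u) [CommRing B₁] [Algebra B B₁] [IsNoetherianRing B₁]
    (hftB₁ : Algebra.FiniteType B (B₁ ⧸ KB.map (algebraMap B B₁)))
    [Algebra.FormallyUnramified B (B₁ ⧸ KB.map (algebraMap B B₁))]
    (C₁ : Type u) [CommRing C₁] [Algebra B C₁] [Algebra C C₁] [IsScalarTower B C C₁]
    [IsNoetherianRing C₁] [Module.Flat C C₁]
    (hftC₁ : Algebra.FiniteType B (C₁ ⧸ KB.map (algebraMap B C₁)))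
    [Algebra B₁ C₁] [IsScalarTower B B₁ C₁]
    (K₁ : Ideal B₁) (hK₁ : K₁ = KB.map (algebraMap B B₁)) :
    RigFlat B₁ K₁ C₁ := by
  intro g ψg hψg q hq
  have hKC₁ : K₁.map (algebraMap B₁ C₁) = KB.map (algebraMap B C₁) := by
    rw [hK₁, Ideal.map_map, ← IsScalarTower.algebraMap_eq]
  haveI := RigCL.isNoetherianRing_cLoc K₁ g
  haveI := RigCL.isNoetherianRing_cLoc (K₁.map (algebraMap B₁ C₁)) (algebraMap B₁ C₁ g)
  haveI := isAdicComplete_layer B KB B₁ K₁ hK₁ g
  haveI := isAdicComplete_layer B KB C₁ (K₁.map (algebraMap B₁ C₁)) hKC₁ (algebraMap B₁ C₁ g)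
  haveI := formallyUnramified_layer B KB B₁ K₁ hK₁ g
  haveI : Module.Flat C₁ (CLoc (R := C₁) (K₁.map (algebraMap B₁ C₁)) (algebraMap B₁ C₁ g)) :=
    RigCL.flat_cLoc _ _
  haveI : Module.Flat C (CLoc (R := C₁) (K₁.map (algebraMap B₁ C₁)) (algebraMap B₁ C₁ g)) :=
    Module.Flat.trans C C₁ _
  refine RigMain.naive_of_rigFlat B KB C (CLoc (R := B₁) K₁ g)
    (CLoc (R := C₁) (K₁.map (algebraMap B₁ C₁)) (algebraMap B₁ C₁ g)) ψg ?_
    (finiteType_layer B KB C₁ _ hKC₁ _ hftC₁) (finiteType_layer B KB B₁ K₁ hK₁ g hftB₁) hBC q ?_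
  · intro b
    rw [IsScalarTower.algebraMap_apply B B₁ (CLoc (R := B₁) K₁ g) b, hψg,
      ← IsScalarTower.algebraMap_apply B B₁ C₁ b,
      ← IsScalarTower.algebraMap_apply B C₁
        (CLoc (R := C₁) (K₁.map (algebraMap B₁ C₁)) (algebraMap B₁ C₁ g)) b]
  · rw [← map_layer B KB C₁ _ hKC₁ _]
    exact hq

/-- composition of rig-flat maps, with the completed localization of `C` written in `B`-form. -/
theorem comp_core (A : Type u) [CommRing A] [IsNoetherianRing A] (I : Ideal A)
    [IsAdicComplete I A]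
    (B : Type u) [CommRing B] [Algebra A B] [IsNoetherianRing B]
    [IsAdicComplete (I.map (algebraMap A B)) B]
    (hftB : Algebra.FiniteType A (B ⧸ I.map (algebraMap A B)))
    (C : Type u) [CommRing C] [Algebra B C] [IsNoetherianRing C]
    [IsAdicComplete ((I.map (algebraMap A B)).map (algebraMap B C)) C]
    (hftC : Algebra.FiniteType B (C ⧸ (I.map (algebraMap A B)).map (algebraMap B C)))
    (hAB : RigFlat A I B) (hBC : RigFlat B (I.map (algebraMap A B)) C) (e : A)
    (ψe : CLoc (R := A) I e →+* CLoc (R := C) ((I.map (algebraMap A B)).map (algebraMap B C))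
      (algebraMap B C (algebraMap A B e)))
    (hψe : ∀ a, ψe (algebraMap A (CLoc (R := A) I e) a) =
      algebraMap C (CLoc (R := C) ((I.map (algebraMap A B)).map (algebraMap B C))
        (algebraMap B C (algebraMap A B e))) (algebraMap B C (algebraMap A B a)))
    (qe : PrimeSpectrum (CLoc (R := C) ((I.map (algebraMap A B)).map (algebraMap B C))
      (algebraMap B C (algebraMap A B e))))
    (hqe : RigClosed (((I.map (algebraMap A B)).map (algebraMap B C)).map
      (algebraMap C (CLoc (R := C) ((I.map (algebraMap A B)).map (algebraMap B C))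
        (algebraMap B C (algebraMap A B e))))) qe) :
    ((algebraMap (CLoc (R := C) ((I.map (algebraMap A B)).map (algebraMap B C))
      (algebraMap B C (algebraMap A B e))) (Localization.AtPrime qe.asIdeal)).comp ψe).Flat := by
  classical
  haveI hNA₁ := RigCL.isNoetherianRing_cLoc I e
  haveI hNB₁ := RigCL.isNoetherianRing_cLoc (I.map (algebraMap A B)) (algebraMap A B e)
  haveI hNC₁ := RigCL.isNoetherianRing_cLoc ((I.map (algebraMap A B)).map (algebraMap B C))
    (algebraMap B C (algebraMap A B e))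
  haveI hCA₁ := RigCL.isAdicComplete_cLoc' I e
  haveI hCB₁ := RigCL.isAdicComplete_cLoc' (I.map (algebraMap A B)) (algebraMap A B e)
  haveI hCC₁ := RigCL.isAdicComplete_cLoc' ((I.map (algebraMap A B)).map (algebraMap B C))
    (algebraMap B C (algebraMap A B e))
  -- the two canonical maps
  obtain ⟨ψAB, hψAB⟩ := RigUP.exists_lift I e
    ((I.map (algebraMap A B)).map (algebraMap B (CLoc (R := B) (I.map (algebraMap A B))
      (algebraMap A B e))))
    ((algebraMap B (CLoc (R := B) (I.map (algebraMap A B)) (algebraMap A B e))).comp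
      (algebraMap A B)) (Ideal.map_map _ _).symm.le
    (RigCL.isUnit_algebraMap_cLoc (I.map (algebraMap A B)) (algebraMap A B e))
  obtain ⟨ψBC, hψBC⟩ := RigUP.exists_lift (I.map (algebraMap A B)) (algebraMap A B e)
    (((I.map (algebraMap A B)).map (algebraMap B C)).map
      (algebraMap C (CLoc (R := C) ((I.map (algebraMap A B)).map (algebraMap B C))
        (algebraMap B C (algebraMap A B e)))))
    ((algebraMap C (CLoc (R := C) ((I.map (algebraMap A B)).map (algebraMap B C))
        (algebraMap B C (algebraMap A B e)))).comp (algebraMap B C)) (Ideal.map_map _ _).symm.le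
    (RigCL.isUnit_algebraMap_cLoc ((I.map (algebraMap A B)).map (algebraMap B C))
      (algebraMap B C (algebraMap A B e)))
  have hψAB' : ∀ a, ψAB (algebraMap A (CLoc (R := A) I e) a) =
      algebraMap B (CLoc (R := B) (I.map (algebraMap A B)) (algebraMap A B e))
        (algebraMap A B a) := fun a => hψAB a
  have hψBC' : ∀ b, ψBC (algebraMap B (CLoc (R := B) (I.map (algebraMap A B))
      (algebraMap A B e)) b) =
      algebraMap C (CLoc (R := C) ((I.map (algebraMap A B)).map (algebraMap B C))
        (algebraMap B C (algebraMap A B e))) (algebraMap B C b) := fun b => hψBC b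
  -- `ψe` is the composite
  have hcomp : ψe = ψBC.comp ψAB := by
    refine RigUP.lift_unique I e (((I.map (algebraMap A B)).map (algebraMap B C)).map
      (algebraMap C (CLoc (R := C) ((I.map (algebraMap A B)).map (algebraMap B C))
        (algebraMap B C (algebraMap A B e))))) ψe (ψBC.comp ψAB) ?_ ?_
    · intro a
      rw [hψe, RingHom.comp_apply, hψAB', hψBC']
    · have e1 : ψe.comp (algebraMap A (CLoc (R := A) I e)) =
          (algebraMap C (CLoc (R := C) ((I.map (algebraMap A B)).map (algebraMap B C))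
            (algebraMap B C (algebraMap A B e)))).comp
            ((algebraMap B C).comp (algebraMap A B)) := RingHom.ext (fun a => hψe a)
      rw [e1]
      exact ((Ideal.map_map _ _).symm.trans
        (congrArg (Ideal.map _) (Ideal.map_map _ _).symm)).le
  letI algBC : Algebra (CLoc (R := B) (I.map (algebraMap A B)) (algebraMap A B e))
      (CLoc (R := C) ((I.map (algebraMap A B)).map (algebraMap B C))
        (algebraMap B C (algebraMap A B e))) := ψBC.toAlgebra
  haveI hST := RigCL3.isScalarTower_psi (I.map (algebraMap A B)) (algebraMap A B e) ψBC hψBC'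
  haveI hCψ := RigCL3.isAdicComplete_psi (I.map (algebraMap A B)) (algebraMap A B e) ψBC hψBC'
  have hft₁ := RigCL3.finiteType_quot_psi (I.map (algebraMap A B)) (algebraMap A B e) ψBC hψBC' hftC
  have hmm := RigCL3.map_map_psi (I.map (algebraMap A B)) (algebraMap A B e) ψBC hψBC'
    (I.map (algebraMap A B))
  haveI hFC₁ : Module.Flat C (CLoc (R := C) ((I.map (algebraMap A B)).map (algebraMap B C))
      (algebraMap B C (algebraMap A B e))) := RigCL.flat_cLoc _ _
  haveI hFB₁ : Module.Flat B (CLoc (R := B) (I.map (algebraMap A B)) (algebraMap A B e)) :=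
    RigCL.flat_cLoc _ _
  haveI hUA₁ := formallyUnramified_quot_cLoc I e
  haveI hUB₁ := formallyUnramified_quot_cLoc (I.map (algebraMap A B)) (algebraMap A B e)
  have hftB₁ := finiteType_layer A I B (I.map (algebraMap A B)) rfl (algebraMap A B e) hftB
  have hftC₁ := finiteType_layer B (I.map (algebraMap A B)) C
    ((I.map (algebraMap A B)).map (algebraMap B C)) rfl (algebraMap B C (algebraMap A B e)) hftC
  have hK₁ := map_layer A I B (I.map (algebraMap A B)) rfl (algebraMap A B e)
  have P2 : RigFlat (CLoc (R := B) (I.map (algebraMap A B)) (algebraMap A B e))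
      ((I.map (algebraMap A B)).map (algebraMap B (CLoc (R := B) (I.map (algebraMap A B))
        (algebraMap A B e))))
      (CLoc (R := C) ((I.map (algebraMap A B)).map (algebraMap B C))
        (algebraMap B C (algebraMap A B e))) :=
    rigFlat_layer B (I.map (algebraMap A B)) C hBC
      (CLoc (R := B) (I.map (algebraMap A B)) (algebraMap A B e))
      (RigCL.finiteType_quot (I.map (algebraMap A B)) (algebraMap A B e))
      (CLoc (R := C) ((I.map (algebraMap A B)).map (algebraMap B C))
        (algebraMap B C (algebraMap A B e))) hftC₁ _ rfl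
  have hres := naive_comp (CLoc (R := A) I e)
    (CLoc (R := B) (I.map (algebraMap A B)) (algebraMap A B e))
    (CLoc (R := C) ((I.map (algebraMap A B)).map (algebraMap B C))
      (algebraMap B C (algebraMap A B e)))
    ((I.map (algebraMap A B)).map (algebraMap B (CLoc (R := B) (I.map (algebraMap A B))
      (algebraMap A B e)))) hft₁ ψAB
    (fun g r₂ hr₂ => naive_layer A I B hAB (CLoc (R := A) I e) (RigCL.finiteType_quot I e)
      (CLoc (R := B) (I.map (algebraMap A B)) (algebraMap A B e)) hftB₁ _ hK₁ ψAB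
      (fun a => hψAB' a) g r₂ hr₂)
    P2 qe (by
      have : ((I.map (algebraMap A B)).map (algebraMap B (CLoc (R := B) (I.map (algebraMap A B))
          (algebraMap A B e)))).map (algebraMap (CLoc (R := B) (I.map (algebraMap A B))
          (algebraMap A B e)) (CLoc (R := C) ((I.map (algebraMap A B)).map (algebraMap B C))
          (algebraMap B C (algebraMap A B e)))) = _ := hmm
      rw [this]
      exact hqe)
  rw [hcomp]
  exact hres

/-- composition of rig-flat maps, with the ideal of definition of `C` and the element of `C`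
given up to equality. -/
theorem comp_general (A : Type u) [CommRing A] [IsNoetherianRing A] (I : Ideal A)
    [IsAdicComplete I A]
    (B : Type u) [CommRing B] [Algebra A B] [IsNoetherianRing B]
    [IsAdicComplete (I.map (algebraMap A B)) B]
    (hftB : Algebra.FiniteType A (B ⧸ I.map (algebraMap A B)))
    (C : Type u) [CommRing C] [Algebra A C] [Algebra B C] [IsScalarTower A B C]
    [IsNoetherianRing C]
    (KC : Ideal C) [IsAdicComplete KC C]
    (hftC : Algebra.FiniteType B (C ⧸ KC))
    (hAB : RigFlat A I B) (hBC : RigFlat B (I.map (algebraMap A B)) C) (e : A)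
    (c : C) (hKC : KC = (I.map (algebraMap A B)).map (algebraMap B C))
    (hc : c = algebraMap B C (algebraMap A B e))
    (ψe : CLoc (R := A) I e →+* CLoc (R := C) KC c)
    (hψe : ∀ a, ψe (algebraMap A (CLoc (R := A) I e) a) =
      algebraMap C (CLoc (R := C) KC c) (algebraMap A C a))
    (qe : PrimeSpectrum (CLoc (R := C) KC c))
    (hqe : RigClosed (KC.map (algebraMap C (CLoc (R := C) KC c))) qe) :
    ((algebraMap (CLoc (R := C) KC c) (Localization.AtPrime qe.asIdeal)).comp ψe).Flat := by
  subst hKC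
  subst hc
  refine comp_core A I B hftB C hftC hAB hBC e ψe (fun a => ?_) qe hqe
  rw [hψe, IsScalarTower.algebraMap_apply A B C a]

end Groth.Agent.Lib.Helper27.RigComp
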