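import Mathlib
import Groth.Agent.Lib.Helper27.RigComp

/-!
Generic algebra lemmas for the base change of rig-flat maps.
-/

set_option autoImplicit false
universe u

namespace Groth.Agent.Lib.Helper27.RigBC1

open TensorProduct AdicRing
open Groth.Agent.Lib.Helper27 Groth.Agent.Lib.Helper27.RigDesc

/-- a ring is adically complete for a nilpotent ideal. -/
theorem isAdicComplete_of_pow_eq_bot {R : Type*} [CommRing R] (L : Ideal R) (m : ℕ)
    (h : L ^ m = ⊥) : IsAdicComplete L R := by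
  haveI : IsHausdorff L R := ⟨fun x hx => by
    have h1 := hx m
    rw [h, Submodule.bot_smul, SModEq.bot] at h1
    exact h1⟩
  haveI : IsPrecomplete L R := ⟨fun f hf => ⟨f m, fun n => by
    rcases le_total n m with hnm | hmn
    · exact hf hnm
    · have h1 := hf hmn
      rw [h, Submodule.bot_smul, SModEq.bot] at h1
      rw [h1]⟩⟩
  exact { }

section Fin

variable {A R : Type*} [CommRing A] [CommRing R] [Algebra A R]

theorem exists_span_lift (𝔠 : Ideal R) [Module.Finite A (R ⧸ 𝔠)] :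
    ∃ G : Finset R, ∀ y : R, ∃ y₁ ∈ Submodule.span A (G : Set R), y - y₁ ∈ 𝔠 := by
  classical
  obtain ⟨s, hs⟩ := Module.finite_def.mp (inferInstance : Module.Finite A (R ⧸ 𝔠))
  choose l hl using fun z : R ⧸ 𝔠 => Ideal.Quotient.mk_surjective z
  refine ⟨s.image l, fun y => ?_⟩
  have hy : Ideal.Quotient.mk 𝔠 y ∈ Submodule.span A (s : Set (R ⧸ 𝔠)) := by
    rw [hs]; trivial
  have hmap : Submodule.map (Ideal.Quotient.mkₐ A 𝔠).toLinearMap
      (Submodule.span A ((s.image l : Finset R) : Set R)) =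
      Submodule.span A (s : Set (R ⧸ 𝔠)) := by
    rw [Submodule.map_span]
    congr 1
    ext z
    constructor
    · rintro ⟨x, hx, rfl⟩
      rw [Finset.mem_coe, Finset.mem_image] at hx
      obtain ⟨w, hw, rfl⟩ := hx
      have : (Ideal.Quotient.mkₐ A 𝔠).toLinearMap (l w) = w := hl w
      rw [this]
      exact hw
    · intro hz
      refine ⟨l z, ?_, hl z⟩
      rw [Finset.mem_coe, Finset.mem_image]
      exact ⟨z, hz, rfl⟩
  rw [← hmap] at hy
  obtain ⟨y₁, hy₁, hy₁'⟩ := hy
  refine ⟨y₁, hy₁, ?_⟩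
  have : Ideal.Quotient.mk 𝔠 y₁ = Ideal.Quotient.mk 𝔠 y := hy₁'
  exact Ideal.Quotient.eq.mp this.symm

theorem finite_quot_mul (𝔞 𝔟 : Ideal R) (h𝔞 : 𝔞.FG) [Module.Finite A (R ⧸ 𝔞)]
    [Module.Finite A (R ⧸ 𝔟)] : Module.Finite A (R ⧸ 𝔞 * 𝔟) := by
  classical
  obtain ⟨G₁, hG₁⟩ := exists_span_lift (A := A) 𝔞
  obtain ⟨G₂, hG₂⟩ := exists_span_lift (A := A) 𝔟
  obtain ⟨X, hX⟩ := h𝔞
  choose hfun hmem hsub using hG₂
  let Gen : Finset R := G₁ ∪ (X ×ˢ G₂).image (fun p => p.2 * p.1)
  let N : Submodule A R := Submodule.span A (Gen : Set R)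
  have hG₁N : Submodule.span A (G₁ : Set R) ≤ N := by
    apply Submodule.span_mono
    intro z hz
    rw [Finset.mem_coe] at hz ⊢
    exact Finset.mem_union_left _ hz
  have hmulN : ∀ x ∈ X, ∀ g ∈ Submodule.span A (G₂ : Set R), g * x ∈ N := by
    intro x hx g hg
    have h1 : Submodule.map (LinearMap.mulRight A x) (Submodule.span A (G₂ : Set R)) ≤ N := by
      rw [Submodule.map_span]
      apply Submodule.span_mono
      rintro z ⟨g', hg', rfl⟩
      rw [Finset.mem_coe] at hg' ⊢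
      apply Finset.mem_union_right
      rw [Finset.mem_image]
      exact ⟨(x, g'), Finset.mem_product.mpr ⟨hx, hg'⟩, rfl⟩
    exact h1 ⟨g, hg, rfl⟩
  have key : ∀ y : R, ∃ y' ∈ N, y - y' ∈ 𝔞 * 𝔟 := by
    intro y
    obtain ⟨y₁, hy₁, hy₁'⟩ := hG₁ y
    have hz : y - y₁ ∈ Submodule.span R (X : Set R) := by
      have : y - y₁ ∈ Ideal.span (X : Set R) := by rw [hX]; exact hy₁'
      exact this
    rw [Submodule.mem_span_finset] at hz
    obtain ⟨f, -, hf⟩ := hz
    refine ⟨y₁ + ∑ x ∈ X, hfun (f x) * x, ?_, ?_⟩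
    · refine Submodule.add_mem _ (hG₁N hy₁) (Submodule.sum_mem _ (fun x hx => ?_))
      exact hmulN x hx _ (hmem (f x))
    · have e : y - (y₁ + ∑ x ∈ X, hfun (f x) * x) = ∑ x ∈ X, (f x - hfun (f x)) * x := by
        have : y - y₁ = ∑ x ∈ X, f x * x := by
          rw [← hf]
          simp only [smul_eq_mul]
        rw [sub_add_eq_sub_sub, this, ← Finset.sum_sub_distrib]
        apply Finset.sum_congr rfl
        intro x _
        ring
      rw [e]
      refine Ideal.sum_mem _ (fun x hx => ?_)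
      refine Ideal.mul_mem_mul_rev ?_ (hsub (f x))
      rw [← hX]
      exact Ideal.subset_span hx
  haveI : Module.Finite A N := Module.Finite.span_of_finite A (Finset.finite_toSet Gen)
  let φ : N →ₗ[A] R ⧸ 𝔞 * 𝔟 := (Ideal.Quotient.mkₐ A (𝔞 * 𝔟)).toLinearMap ∘ₗ N.subtype
  refine Module.Finite.of_surjective φ ?_
  intro z
  obtain ⟨y, rfl⟩ := Ideal.Quotient.mk_surjective z
  obtain ⟨y', hy', hyy'⟩ := key y
  refine ⟨⟨y', hy'⟩, ?_⟩
  show Ideal.Quotient.mk (𝔞 * 𝔟) y' = Ideal.Quotient.mk (𝔞 * 𝔟) y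
  exact (Ideal.Quotient.eq.mpr hyy').symm

theorem finite_quot_pow (𝔞 : Ideal R) (h𝔞 : 𝔞.FG) [Module.Finite A (R ⧸ 𝔞)] (n : ℕ) :
    Module.Finite A (R ⧸ 𝔞 ^ n) := by
  induction n with
  | zero =>
    haveI : Subsingleton (R ⧸ 𝔞 ^ 0) := by
      rw [pow_zero]
      exact Ideal.Quotient.subsingleton_iff.mpr Ideal.one_eq_top
    infer_instance
  | succ n ih =>
    haveI := ih
    rw [pow_succ]
    exact finite_quot_mul (𝔞 ^ n) 𝔞 (Ideal.FG.pow h𝔞)

end Fin

/-- a prime not containing `J` lies in a rig-closed prime. -/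
theorem exists_rigClosed_ge {R : Type*} [CommRing R] [IsNoetherianRing R] (J : Ideal R)
    (p : PrimeSpectrum R) (hp : ¬ J ≤ p.asIdeal) :
    ∃ q : PrimeSpectrum R, p.asIdeal ≤ q.asIdeal ∧ RigClosed J q := by
  let S : Set (Ideal R) := {y | y.IsPrime ∧ p.asIdeal ≤ y ∧ ¬ J ≤ y}
  have hne : S.Nonempty := ⟨p.asIdeal, p.isPrime, le_rfl, hp⟩
  obtain ⟨M, hM, hmax⟩ :=
    set_has_maximal_iff_noetherian.mpr (inferInstance : IsNoetherian R R) S hne
  refine ⟨⟨M, hM.1⟩, hM.2.1, hM.2.2, fun y hqy hy => ?_⟩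
  have hyS : y.asIdeal ∈ S := ⟨y.isPrime, hM.2.1.trans hqy, hy⟩
  have h1 : ¬ M < y.asIdeal := hmax _ hyS
  have h2 : M ≤ y.asIdeal := hqy
  apply PrimeSpectrum.ext
  exact (eq_of_le_of_not_lt h2 h1).symm

/-- flatness at a prime implies flatness at every smaller prime. -/
theorem flat_of_le_prime {A R : Type u} [CommRing A] [CommRing R] (φ : A →+* R) (p q : Ideal R)
    [p.IsPrime] [q.IsPrime] (hpq : p ≤ q)
    (h : ((algebraMap R (Localization.AtPrime q)).comp φ).Flat) :
    ((algebraMap R (Localization.AtPrime p)).comp φ).Flat := by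
  have hu : ∀ y : q.primeCompl, IsUnit (algebraMap R (Localization.AtPrime p) y) := fun y =>
    IsLocalization.map_units (Localization.AtPrime p)
      (⟨y.1, fun hy => y.2 (hpq hy)⟩ : p.primeCompl)
  let lam : Localization.AtPrime q →+* Localization.AtPrime p := IsLocalization.lift hu
  have hlam : ∀ x, lam (algebraMap R _ x) = algebraMap R _ x := IsLocalization.lift_eq hu
  letI := lam.toAlgebra
  haveI : IsScalarTower R (Localization.AtPrime q) (Localization.AtPrime p) :=
    IsScalarTower.of_algebraMap_eq (fun x => (hlam x).symm)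
  haveI : IsLocalization (p.primeCompl.map (algebraMap R (Localization.AtPrime q)))
      (Localization.AtPrime p) :=
    IsLocalization.isLocalization_of_submonoid_le (Localization.AtPrime q)
      (Localization.AtPrime p) q.primeCompl p.primeCompl (fun x hx hxp => hx (hpq hxp))
  have hflat : lam.Flat := by
    show Module.Flat (Localization.AtPrime q) (Localization.AtPrime p)
    exact IsLocalization.flat _ (p.primeCompl.map (algebraMap R (Localization.AtPrime q)))
  have e : (algebraMap R (Localization.AtPrime p)).comp φ =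
      lam.comp ((algebraMap R (Localization.AtPrime q)).comp φ) := by
    apply RingHom.ext
    intro a
    simp only [RingHom.comp_apply]
    rw [hlam]
  rw [e]
  exact RingHom.Flat.comp h hflat

section Right

variable (k : Type u) [CommRing k] (E L : Type u) [CommRing E] [CommRing L] [Algebra k E]
  [Algebra k L]

attribute [local instance] Algebra.TensorProduct.rightAlgebra

theorem finite_right [Module.Finite k E] : Module.Finite L (E ⊗[k] L) := by
  have h1 : (algebraMap L (L ⊗[k] E)).Finite := RingHom.finite_algebraMap.mpr inferInstance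
  have h2 : ((Algebra.TensorProduct.comm k L E : L ⊗[k] E →+* E ⊗[k] L)).Finite :=
    RingHom.Finite.of_surjective _ (Algebra.TensorProduct.comm k L E).surjective
  have h3 := h2.comp h1
  have h4 : ((Algebra.TensorProduct.comm k L E : L ⊗[k] E →+* E ⊗[k] L)).comp
      (algebraMap L (L ⊗[k] E)) = algebraMap L (E ⊗[k] L) := by
    ext a
    simp [Algebra.TensorProduct.algebraMap_apply, Algebra.TensorProduct.right_algebraMap_apply]
  rw [h4] at h3
  exact RingHom.finite_algebraMap.mp h3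

end Right

section Denom

variable {A C B B' : Type u} [CommRing A] [CommRing C] [CommRing B] [CommRing B'] [Algebra A C]
  [Algebra A B] [Algebra B B'] [Algebra A B'] [IsScalarTower A B B'] (M : Submonoid B)
  [IsLocalization M B']

/-- clearing denominators in `C ⊗ M⁻¹B`. -/
theorem exists_mul_eq_map (w : C ⊗[A] B') : ∃ (b : M) (x : C ⊗[A] B),
    w * ((1 : C) ⊗ₜ[A] algebraMap B B' b) =
      Algebra.TensorProduct.map (AlgHom.id A C) (IsScalarTower.toAlgHom A B B') x := by
  induction w using TensorProduct.induction_on with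
  | zero => exact ⟨1, 0, by simp⟩
  | tmul c β =>
    obtain ⟨⟨b₀, s⟩, hs⟩ := IsLocalization.surj M β
    refine ⟨s, c ⊗ₜ b₀, ?_⟩
    rw [Algebra.TensorProduct.tmul_mul_tmul, mul_one, Algebra.TensorProduct.map_tmul]
    simp only [AlgHom.id_apply, IsScalarTower.coe_toAlgHom']
    rw [← hs]
  | add w₁ w₂ h₁ h₂ =>
    obtain ⟨b₁, x₁, e₁⟩ := h₁
    obtain ⟨b₂, x₂, e₂⟩ := h₂
    refine ⟨b₁ * b₂, x₁ * ((1 : C) ⊗ₜ[A] (b₂ : B)) + x₂ * ((1 : C) ⊗ₜ[A] (b₁ : B)), ?_⟩
    rw [map_add, map_mul, map_mul, ← e₁, ← e₂, Algebra.TensorProduct.map_tmul,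
      Algebra.TensorProduct.map_tmul]
    simp only [AlgHom.id_apply, IsScalarTower.coe_toAlgHom', map_one]
    have e3 : ((1 : C) ⊗ₜ[A] algebraMap B B' ((b₁ * b₂ : M) : B)) =
        ((1 : C) ⊗ₜ[A] algebraMap B B' (b₁ : B)) * ((1 : C) ⊗ₜ[A] algebraMap B B' (b₂ : B)) := by
      rw [Algebra.TensorProduct.tmul_mul_tmul, mul_one, Submonoid.coe_mul, map_mul]
    rw [e3]
    ring

end Denom

end Groth.Agent.Lib.Helper27.RigBC1
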