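import Mathlib
import Groth.Agent.Lib.Helper27.RigBC1
import Groth.Agent.Lib.Helper27.CplAlg

/-!
Completed tensor products, characterised by density and retractions onto the truncations; the
base case and stability under completed localization and under change of the base pair.
-/

set_option autoImplicit false
universe u

namespace Groth.Agent.Lib.Helper27.RigBC2

open TensorProduct AdicRing
open Groth.Agent.Lib.Helper27 Groth.Agent.Lib.Helper27.CLocBasic

/-- `D` is a completed tensor product of `C` and `B` over `(A, I)`: the image of `C ⊗ B` is dense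
and `D` retracts onto the truncations `(C ⧸ 𝔠) ⊗ B`. -/
def IsCT (A : Type u) [CommRing A] (I : Ideal A) (B C D : Type u) [CommRing B] [CommRing C]
    [CommRing D] [Algebra A B] [Algebra A C] [Algebra A D] [Algebra B D] [Algebra C D]
    [IsScalarTower A B D] [IsScalarTower A C D] : Prop :=
  (∀ d : D, ∃ t : C ⊗[A] B,
    d - Algebra.TensorProduct.productMap (IsScalarTower.toAlgHom A C D)
      (IsScalarTower.toAlgHom A B D) t ∈ I.map (algebraMap A D)) ∧
  (∀ (𝔠 : Ideal C) (m : ℕ), (I ^ m).map (algebraMap A C) ≤ 𝔠 →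
    ∃ ρ : D →+* (C ⧸ 𝔠) ⊗[A] B,
      (∀ c : C, ρ (algebraMap C D c) = (Ideal.Quotient.mk 𝔠 c) ⊗ₜ[A] (1 : B)) ∧
      (∀ b : B, ρ (algebraMap B D b) = (1 : C ⧸ 𝔠) ⊗ₜ[A] b))

section Base

variable (A : Type u) [CommRing A] (I : Ideal A) (B C : Type u) [CommRing B] [CommRing C]
  [Algebra A B] [Algebra A C]

/-- the completed tensor product as in the statements. -/
abbrev CT : Type u :=
  AdicCompletion ((I.map (algebraMap A C)).map (algebraMap C (TensorProduct A C B)))
    (TensorProduct A C B)

/-- the `B`-algebra structure of the completed tensor product. -/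
noncomputable def algBCT : Algebra B (CT A I B C) :=
  ((algebraMap (C ⊗[A] B) (CT A I B C)).comp
    (Algebra.TensorProduct.includeRight : B →ₐ[A] C ⊗[A] B).toRingHom).toAlgebra

attribute [local instance] algBCT

lemma algebraMap_B_apply (b : B) : algebraMap B (CT A I B C) b =
    algebraMap (C ⊗[A] B) (CT A I B C) ((1 : C) ⊗ₜ[A] b) := rfl

lemma algebraMap_C_apply (c : C) : algebraMap C (CT A I B C) c =
    algebraMap (C ⊗[A] B) (CT A I B C) (c ⊗ₜ[A] (1 : B)) := by
  rw [IsScalarTower.algebraMap_apply C (C ⊗[A] B) (CT A I B C),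
    Algebra.TensorProduct.algebraMap_apply, Algebra.algebraMap_self_apply]

theorem isScalarTower_ABCT : IsScalarTower A B (CT A I B C) :=
  IsScalarTower.of_algebraMap_eq (fun a => by
    rw [algebraMap_B_apply, IsScalarTower.algebraMap_apply A (C ⊗[A] B) (CT A I B C)]
    congr 1
    exact ((Algebra.TensorProduct.includeRight : B →ₐ[A] C ⊗[A] B).commutes a).symm)

attribute [local instance] isScalarTower_ABCT

theorem mu_eq (t : C ⊗[A] B) :
    Algebra.TensorProduct.productMap (IsScalarTower.toAlgHom A C (CT A I B C))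
      (IsScalarTower.toAlgHom A B (CT A I B C)) t = algebraMap (C ⊗[A] B) (CT A I B C) t := by
  induction t using TensorProduct.induction_on with
  | zero => simp
  | tmul c b =>
    rw [Algebra.TensorProduct.productMap_apply_tmul]
    simp only [IsScalarTower.coe_toAlgHom']
    rw [algebraMap_B_apply, algebraMap_C_apply, ← map_mul, Algebra.TensorProduct.tmul_mul_tmul,
      mul_one, one_mul]
  | add x y hx hy => rw [map_add, map_add, hx, hy]

theorem map_map_CT : (I.map (algebraMap A C)).map (algebraMap C (CT A I B C)) =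
    I.map (algebraMap A (CT A I B C)) :=
  (Ideal.map_map (algebraMap A C) (algebraMap C (CT A I B C))).trans
    (by rw [← IsScalarTower.algebraMap_eq])

theorem isCT_base (hI : I.FG) : IsCT A I B C (CT A I B C) := by
  refine ⟨fun d => ?_, fun 𝔠 m hle => ?_⟩
  · obtain ⟨t, ht⟩ := CplAlg.exists_sub_mem (R := C) (I.map (algebraMap A C)) (hI.map _)
      (TensorProduct A C B) 1 d
    refine ⟨t, ?_⟩
    rw [mu_eq]
    rw [pow_one] at ht
    exact (map_map_CT A I B C) ▸ ht
  · let g : C ⊗[A] B →ₐ[A] (C ⧸ 𝔠) ⊗[A] B :=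
      Algebra.TensorProduct.map (Ideal.Quotient.mkₐ A 𝔠) (AlgHom.id A B)
    let J : Ideal (C ⊗[A] B) := (I.map (algebraMap A C)).map (algebraMap C (C ⊗[A] B))
    have hker : ∀ x ∈ J ^ m, g.toRingHom x = 0 := by
      have h1 : J ^ m ≤ RingHom.ker g.toRingHom := by
        show ((I.map (algebraMap A C)).map (algebraMap C (C ⊗[A] B))) ^ m ≤ _
        rw [← Ideal.map_pow, ← Ideal.map_pow, Ideal.map_le_iff_le_comap]
        intro c hc
        rw [Ideal.mem_comap, RingHom.mem_ker]
        show g (algebraMap C (C ⊗[A] B) c) = 0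
        rw [Algebra.TensorProduct.algebraMap_apply, Algebra.algebraMap_self_apply,
          Algebra.TensorProduct.map_tmul]
        have : Ideal.Quotient.mkₐ A 𝔠 c = 0 := Ideal.Quotient.eq_zero_iff_mem.mpr (hle hc)
        rw [this, TensorProduct.zero_tmul]
      exact fun x hx => h1 hx
    let ρ : CT A I B C →+* (C ⧸ 𝔠) ⊗[A] B :=
      (Ideal.Quotient.lift (J ^ m) g.toRingHom hker).comp
        (AdicCompletion.evalₐ J m).toRingHom
    have hρ : ∀ t : C ⊗[A] B, ρ (algebraMap (C ⊗[A] B) (CT A I B C) t) = g t := by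
      intro t
      show (Ideal.Quotient.lift (J ^ m) g.toRingHom hker)
        ((AdicCompletion.evalₐ J m) (algebraMap (C ⊗[A] B) (AdicCompletion J (C ⊗[A] B)) t)) = _
      rw [AlgHom.commutes]
      rfl
    refine ⟨ρ, fun c => ?_, fun b => ?_⟩
    · rw [algebraMap_C_apply, hρ, Algebra.TensorProduct.map_tmul]
      rfl
    · rw [algebraMap_B_apply, hρ, Algebra.TensorProduct.map_tmul, map_one]
      rfl

end Base

section Loc

variable (A : Type u) [CommRing A] (I : Ideal A) (B C D : Type u) [CommRing B] [CommRing C]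
  [CommRing D] [IsNoetherianRing C] [IsNoetherianRing D]
  [Algebra A B] [Algebra A C] [Algebra A D] [Algebra B D] [Algebra C D]
  [IsScalarTower A B D] [IsScalarTower A C D]
  (K : Ideal C) (hK : K = I.map (algebraMap A C)) (KD : Ideal D)
  (hKD : KD = I.map (algebraMap A D)) (h : C) (hD : D) (hh : hD = algebraMap C D h)
  [Algebra (CLoc (R := C) K h) (CLoc (R := D) KD hD)]
  [IsScalarTower A (CLoc (R := C) K h) (CLoc (R := D) KD hD)]
  (hψ : ∀ c : C, algebraMap (CLoc (R := C) K h) (CLoc (R := D) KD hD)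
      (algebraMap C (CLoc (R := C) K h) c) =
      algebraMap D (CLoc (R := D) KD hD) (algebraMap C D c))

include hK hKD hh hψ in
/-- completed tensor products are stable under completed localization on the `C`-side. -/
theorem isCT_cLoc (hCT : IsCT A I B C D) :
    IsCT A I B (CLoc (R := C) K h) (CLoc (R := D) KD hD) := by
  classical
  have hu : IsUnit (algebraMap C (CLoc (R := C) K h) h) := RigCL.isUnit_algebraMap_cLoc K h
  have hID : (I.map (algebraMap A D)).map (algebraMap D (CLoc (R := D) KD hD)) =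
      I.map (algebraMap A (CLoc (R := D) KD hD)) :=
    (Ideal.map_map (algebraMap A D) (algebraMap D (CLoc (R := D) KD hD))).trans
      (by rw [← IsScalarTower.algebraMap_eq])
  refine ⟨fun d' => ?_, fun 𝔠' m hle => ?_⟩
  · -- density
    obtain ⟨s, hs⟩ := CLocBasic.exists_sub_mem KD (IsNoetherian.noetherian KD) hD 1 d'
    obtain ⟨⟨d, ⟨_, k, rfl⟩⟩, hds⟩ := IsLocalization.surj (Submonoid.powers hD) s
    obtain ⟨t, ht⟩ := hCT.1 d
    obtain ⟨v, hv⟩ : ∃ v : CLoc (R := C) K h, algebraMap C (CLoc (R := C) K h) h * v = 1 :=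
      ⟨↑(hu.unit⁻¹), IsUnit.mul_val_inv hu⟩
    let τ : C ⊗[A] B →ₐ[A] (CLoc (R := C) K h) ⊗[A] B :=
      Algebra.TensorProduct.map (IsScalarTower.toAlgHom A C (CLoc (R := C) K h)) (AlgHom.id A B)
    have hμτ : ∀ t : C ⊗[A] B,
        Algebra.TensorProduct.productMap
          (IsScalarTower.toAlgHom A (CLoc (R := C) K h) (CLoc (R := D) KD hD))
          (IsScalarTower.toAlgHom A B (CLoc (R := D) KD hD)) (τ t) =
        algebraMap D (CLoc (R := D) KD hD)
          (Algebra.TensorProduct.productMap (IsScalarTower.toAlgHom A C D)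
            (IsScalarTower.toAlgHom A B D) t) := by
      intro t
      induction t using TensorProduct.induction_on with
      | zero => simp
      | tmul c b =>
        simp only [τ, Algebra.TensorProduct.map_tmul, Algebra.TensorProduct.productMap_apply_tmul,
          IsScalarTower.coe_toAlgHom', AlgHom.id_apply]
        rw [hψ, IsScalarTower.algebraMap_apply B D (CLoc (R := D) KD hD) b, map_mul]
      | add x y hx hy => rw [map_add, map_add, map_add, map_add, hx, hy]
    refine ⟨τ t * ((v ^ k) ⊗ₜ[A] (1 : B)), ?_⟩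
    rw [map_mul, hμτ, Algebra.TensorProduct.productMap_apply_tmul]
    simp only [IsScalarTower.coe_toAlgHom', map_one, mul_one, map_pow]
    -- notation
    obtain ⟨V, hV⟩ : ∃ V : CLoc (R := D) KD hD,
        V = algebraMap (CLoc (R := C) K h) (CLoc (R := D) KD hD) v := ⟨_, rfl⟩
    rw [← hV]
    have e1 : algebraMap D (CLoc (R := D) KD hD) hD =
        algebraMap (CLoc (R := C) K h) (CLoc (R := D) KD hD)
          (algebraMap C (CLoc (R := C) K h) h) :=
      (congrArg (algebraMap D (CLoc (R := D) KD hD)) hh).trans (hψ h).symm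
    have hwV : algebraMap D (CLoc (R := D) KD hD) hD * V = 1 := by
      rw [e1, hV, ← map_mul, hv, map_one]
    have has : algebraMap (Localization.Away hD) (CLoc (R := D) KD hD) s *
        (algebraMap D (CLoc (R := D) KD hD) hD) ^ k = algebraMap D (CLoc (R := D) KD hD) d := by
      have h1 := congrArg (algebraMap (Localization.Away hD) (CLoc (R := D) KD hD)) hds
      rw [map_mul, ← IsScalarTower.algebraMap_apply D (Localization.Away hD),
        ← IsScalarTower.algebraMap_apply D (Localization.Away hD), map_pow] at h1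
      exact h1
    have has' : algebraMap (Localization.Away hD) (CLoc (R := D) KD hD) s =
        algebraMap D (CLoc (R := D) KD hD) d * V ^ k := by
      rw [← has, mul_assoc, ← mul_pow, hwV, one_pow, mul_one]
    have e : d' - algebraMap D (CLoc (R := D) KD hD)
        (Algebra.TensorProduct.productMap (IsScalarTower.toAlgHom A C D)
          (IsScalarTower.toAlgHom A B D) t) * V ^ k =
        (d' - algebraMap (Localization.Away hD) (CLoc (R := D) KD hD) s) +
        algebraMap D (CLoc (R := D) KD hD) (d - Algebra.TensorProduct.productMap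
          (IsScalarTower.toAlgHom A C D) (IsScalarTower.toAlgHom A B D) t) * V ^ k := by
      rw [has', map_sub]
      ring
    rw [e]
    refine Ideal.add_mem _ ?_ (Ideal.mul_mem_right _ _ ?_)
    · have hKD' : KD.map (algebraMap D (CLoc (R := D) KD hD)) =
          I.map (algebraMap A (CLoc (R := D) KD hD)) :=
        (congrArg (Ideal.map (algebraMap D (CLoc (R := D) KD hD))) hKD).trans hID
      rw [pow_one, hKD'] at hs
      exact hs
    · exact hID ▸ Ideal.mem_map_of_mem _ ht
  · -- retractions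
    obtain ⟨𝔠, h𝔠⟩ : ∃ 𝔠 : Ideal C, 𝔠 = 𝔠'.comap (algebraMap C (CLoc (R := C) K h)) := ⟨_, rfl⟩
    have hle𝔠 : (I ^ m).map (algebraMap A C) ≤ 𝔠 := by
      rw [Ideal.map_le_iff_le_comap, h𝔠, Ideal.comap_comap,
        ← IsScalarTower.algebraMap_eq A C (CLoc (R := C) K h), ← Ideal.map_le_iff_le_comap]
      exact hle
    obtain ⟨ρ, hρC, hρB⟩ := hCT.2 𝔠 m hle𝔠
    let qm : (C ⧸ 𝔠) →ₐ[A] (CLoc (R := C) K h ⧸ 𝔠') :=
      Ideal.quotientMapₐ 𝔠' (IsScalarTower.toAlgHom A C (CLoc (R := C) K h))
        (fun x hx => by rw [h𝔠] at hx; exact hx)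
    have hqm : ∀ c : C, qm (Ideal.Quotient.mk 𝔠 c) =
        Ideal.Quotient.mk 𝔠' (algebraMap C (CLoc (R := C) K h) c) := fun c => rfl
    let τ' : (C ⧸ 𝔠) ⊗[A] B →ₐ[A] (CLoc (R := C) K h ⧸ 𝔠') ⊗[A] B :=
      Algebra.TensorProduct.map qm (AlgHom.id A B)
    let σ : D →+* (CLoc (R := C) K h ⧸ 𝔠') ⊗[A] B := τ'.toRingHom.comp ρ
    have hσC : ∀ c : C, σ (algebraMap C D c) =
        (Ideal.Quotient.mk 𝔠' (algebraMap C (CLoc (R := C) K h) c)) ⊗ₜ[A] (1 : B) := by
      intro c
      show τ' (ρ (algebraMap C D c)) = _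
      rw [hρC, Algebra.TensorProduct.map_tmul, hqm]
      rfl
    have hσB : ∀ b : B, σ (algebraMap B D b) = (1 : CLoc (R := C) K h ⧸ 𝔠') ⊗ₜ[A] b := by
      intro b
      show τ' (ρ (algebraMap B D b)) = _
      rw [hρB, Algebra.TensorProduct.map_tmul, map_one]
      rfl
    obtain ⟨L, hL⟩ : ∃ L : Ideal ((CLoc (R := C) K h ⧸ 𝔠') ⊗[A] B),
        L = I.map (algebraMap A ((CLoc (R := C) K h ⧸ 𝔠') ⊗[A] B)) := ⟨_, rfl⟩
    have hLm : L ^ m = ⊥ := by
      rw [hL, ← Ideal.map_pow, eq_bot_iff, Ideal.map_le_iff_le_comap]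
      intro i hi
      rw [Ideal.mem_comap, Ideal.mem_bot, Algebra.TensorProduct.algebraMap_apply]
      have : algebraMap A (CLoc (R := C) K h ⧸ 𝔠') i = 0 := by
        rw [IsScalarTower.algebraMap_apply A (CLoc (R := C) K h) (CLoc (R := C) K h ⧸ 𝔠')]
        exact Ideal.Quotient.eq_zero_iff_mem.mpr (hle (Ideal.mem_map_of_mem _ hi))
      rw [this, TensorProduct.zero_tmul]
    haveI := RigBC1.isAdicComplete_of_pow_eq_bot L m hLm
    have hσA : ∀ a : A, σ (algebraMap A D a) =
        algebraMap A ((CLoc (R := C) K h ⧸ 𝔠') ⊗[A] B) a := by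
      intro a
      rw [IsScalarTower.algebraMap_apply A C D, hσC, Algebra.TensorProduct.algebraMap_apply,
        ← IsScalarTower.algebraMap_apply A C (CLoc (R := C) K h),
        IsScalarTower.algebraMap_apply A (CLoc (R := C) K h) (CLoc (R := C) K h ⧸ 𝔠')]
      rfl
    have hKσ : KD.map σ ≤ L := by
      rw [hKD, Ideal.map_map, hL]
      apply le_of_eq
      congr 1
      exact RingHom.ext hσA
    have hunit : IsUnit (σ hD) := by
      rw [hh, hσC]
      exact (hu.map (Ideal.Quotient.mk 𝔠')).map
        (Algebra.TensorProduct.includeLeftRingHom :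
          (CLoc (R := C) K h ⧸ 𝔠') →+* (CLoc (R := C) K h ⧸ 𝔠') ⊗[A] B)
    obtain ⟨ρ', hρ'⟩ := RigUP.exists_lift KD hD L σ hKσ hunit
    refine ⟨ρ', fun c' => ?_, fun b => ?_⟩
    · have heq : ρ'.comp (algebraMap (CLoc (R := C) K h) (CLoc (R := D) KD hD)) =
          (Algebra.TensorProduct.includeLeftRingHom :
            (CLoc (R := C) K h ⧸ 𝔠') →+* (CLoc (R := C) K h ⧸ 𝔠') ⊗[A] B).comp
            (Ideal.Quotient.mk 𝔠') := by
        refine RigUP.lift_unique K h L _ _ ?_ ?_
        · intro c
          simp only [RingHom.comp_apply]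
          rw [hψ, hρ', hσC]
          rfl
        · refine (congrArg (Ideal.map _) hK).le.trans ?_
          rw [Ideal.map_map, hL]
          apply le_of_eq
          congr 1
          apply RingHom.ext
          intro a
          simp only [RingHom.comp_apply]
          rw [hψ, hρ', ← IsScalarTower.algebraMap_apply A C D, hσA]
      exact RingHom.congr_fun heq c'
    · rw [IsScalarTower.algebraMap_apply B D (CLoc (R := D) KD hD), hρ', hσB]

end Loc

section BaseChange

variable (A : Type u) [CommRing A] [IsNoetherianRing A] (I : Ideal A) (B C D : Type u)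
  [CommRing B] [IsNoetherianRing B] [CommRing C] [CommRing D]
  [Algebra A B] [Algebra A C] [Algebra A D] [Algebra B D] [Algebra C D]
  [IsScalarTower A B D] [IsScalarTower A C D] (f : A)
  [Algebra (CLoc (R := A) I f) (CLoc (R := B) (I.map (algebraMap A B)) (algebraMap A B f))]
  [Algebra (CLoc (R := A) I f) C] [Algebra (CLoc (R := A) I f) D]
  [Algebra (CLoc (R := B) (I.map (algebraMap A B)) (algebraMap A B f)) D]
  [IsScalarTower A (CLoc (R := A) I f) C]
  [IsScalarTower A (CLoc (R := A) I f)
    (CLoc (R := B) (I.map (algebraMap A B)) (algebraMap A B f))]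
  [IsScalarTower B (CLoc (R := B) (I.map (algebraMap A B)) (algebraMap A B f)) D]
  [IsScalarTower (CLoc (R := A) I f)
    (CLoc (R := B) (I.map (algebraMap A B)) (algebraMap A B f)) D]
  [IsScalarTower (CLoc (R := A) I f) C D]

/-- completed tensor products are stable under replacing `(A, B)` by `(A⟨f⁻¹⟩, B⟨f⁻¹⟩)` when
`C` is already an `A⟨f⁻¹⟩`-algebra. -/
theorem isCT_baseChange (hCT : IsCT A I B C D) :
    IsCT (CLoc (R := A) I f) (I.map (algebraMap A (CLoc (R := A) I f)))
      (CLoc (R := B) (I.map (algebraMap A B)) (algebraMap A B f)) C D := by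
  classical
  haveI hAA₁D : IsScalarTower A (CLoc (R := A) I f) D := IsScalarTower.of_algebraMap_eq (fun a => by
    rw [IsScalarTower.algebraMap_apply A C D, IsScalarTower.algebraMap_apply A (CLoc (R := A) I f) C,
      ← IsScalarTower.algebraMap_apply (CLoc (R := A) I f) C D])
  have hID : (I.map (algebraMap A (CLoc (R := A) I f))).map (algebraMap (CLoc (R := A) I f) D) =
      I.map (algebraMap A D) :=
    (Ideal.map_map _ _).trans (by rw [← IsScalarTower.algebraMap_eq])
  refine ⟨fun d => ?_, fun 𝔠 m hle => ?_⟩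
  · obtain ⟨t, ht⟩ := hCT.1 d
    have key : ∀ t : C ⊗[A] B, ∃ t₁ : C ⊗[CLoc (R := A) I f]
        (CLoc (R := B) (I.map (algebraMap A B)) (algebraMap A B f)),
        Algebra.TensorProduct.productMap (IsScalarTower.toAlgHom (CLoc (R := A) I f) C D)
          (IsScalarTower.toAlgHom (CLoc (R := A) I f)
            (CLoc (R := B) (I.map (algebraMap A B)) (algebraMap A B f)) D) t₁ =
        Algebra.TensorProduct.productMap (IsScalarTower.toAlgHom A C D)
          (IsScalarTower.toAlgHom A B D) t := by
      intro t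
      induction t using TensorProduct.induction_on with
      | zero => exact ⟨0, by simp⟩
      | tmul c b =>
        refine ⟨c ⊗ₜ (algebraMap B (CLoc (R := B) (I.map (algebraMap A B)) (algebraMap A B f)) b), ?_⟩
        simp only [Algebra.TensorProduct.productMap_apply_tmul, IsScalarTower.coe_toAlgHom']
        rw [← IsScalarTower.algebraMap_apply B
          (CLoc (R := B) (I.map (algebraMap A B)) (algebraMap A B f)) D]
      | add x y hx hy =>
        obtain ⟨x₁, hx₁⟩ := hx
        obtain ⟨y₁, hy₁⟩ := hy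
        exact ⟨x₁ + y₁, by rw [map_add, map_add, hx₁, hy₁]⟩
    obtain ⟨t₁, ht₁⟩ := key t
    refine ⟨t₁, ?_⟩
    rw [ht₁, hID]
    exact ht
  · have hle' : (I ^ m).map (algebraMap A C) ≤ 𝔠 := by
      refine le_trans (le_of_eq ?_) hle
      rw [← Ideal.map_pow, Ideal.map_map, ← IsScalarTower.algebraMap_eq]
    obtain ⟨ρ, hρC, hρB⟩ := hCT.2 𝔠 m hle'
    -- the change of base ring on the truncation
    letI algAS : Algebra A ((C ⧸ 𝔠) ⊗[CLoc (R := A) I f]
        (CLoc (R := B) (I.map (algebraMap A B)) (algebraMap A B f))) :=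
      ((algebraMap (CLoc (R := A) I f) ((C ⧸ 𝔠) ⊗[CLoc (R := A) I f]
        (CLoc (R := B) (I.map (algebraMap A B)) (algebraMap A B f)))).comp
        (algebraMap A (CLoc (R := A) I f))).toAlgebra
    have halgAS : ∀ a : A, algebraMap A ((C ⧸ 𝔠) ⊗[CLoc (R := A) I f]
        (CLoc (R := B) (I.map (algebraMap A B)) (algebraMap A B f))) a =
        (Ideal.Quotient.mk 𝔠 (algebraMap A C a)) ⊗ₜ 1 := by
      intro a
      rw [RingHom.algebraMap_toAlgebra, RingHom.comp_apply, Algebra.TensorProduct.algebraMap_apply,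
        IsScalarTower.algebraMap_apply (CLoc (R := A) I f) C (C ⧸ 𝔠),
        ← IsScalarTower.algebraMap_apply A (CLoc (R := A) I f) C]
      rfl
    let fL : (C ⧸ 𝔠) →ₐ[A] (C ⧸ 𝔠) ⊗[CLoc (R := A) I f]
        (CLoc (R := B) (I.map (algebraMap A B)) (algebraMap A B f)) :=
      { (Algebra.TensorProduct.includeLeftRingHom : (C ⧸ 𝔠) →+* (C ⧸ 𝔠) ⊗[CLoc (R := A) I f]
          (CLoc (R := B) (I.map (algebraMap A B)) (algebraMap A B f))) with
        commutes' := fun a => by
          rw [halgAS, IsScalarTower.algebraMap_apply A C (C ⧸ 𝔠)]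
          rfl }
    let gR : B →ₐ[A] (C ⧸ 𝔠) ⊗[CLoc (R := A) I f]
        (CLoc (R := B) (I.map (algebraMap A B)) (algebraMap A B f)) :=
      { ((Algebra.TensorProduct.includeRight : (CLoc (R := B) (I.map (algebraMap A B))
            (algebraMap A B f)) →ₐ[CLoc (R := A) I f] (C ⧸ 𝔠) ⊗[CLoc (R := A) I f]
            (CLoc (R := B) (I.map (algebraMap A B)) (algebraMap A B f))).toRingHom.comp
          (algebraMap B (CLoc (R := B) (I.map (algebraMap A B)) (algebraMap A B f)))) with
        commutes' := fun a => by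
          show (Algebra.TensorProduct.includeRight : (CLoc (R := B) (I.map (algebraMap A B))
            (algebraMap A B f)) →ₐ[CLoc (R := A) I f] (C ⧸ 𝔠) ⊗[CLoc (R := A) I f]
            (CLoc (R := B) (I.map (algebraMap A B)) (algebraMap A B f)))
            (algebraMap B _ (algebraMap A B a)) = _
          rw [← IsScalarTower.algebraMap_apply A B,
            IsScalarTower.algebraMap_apply A (CLoc (R := A) I f)
              (CLoc (R := B) (I.map (algebraMap A B)) (algebraMap A B f)), AlgHom.commutes]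
          rfl }
    let θ := Algebra.TensorProduct.productMap fL gR
    have hθ : ∀ (e : C ⧸ 𝔠) (b : B), θ (e ⊗ₜ b) = e ⊗ₜ
        (algebraMap B (CLoc (R := B) (I.map (algebraMap A B)) (algebraMap A B f)) b) := by
      intro e b
      have h1 : fL e = e ⊗ₜ 1 := rfl
      have h2 : gR b = 1 ⊗ₜ
          (algebraMap B (CLoc (R := B) (I.map (algebraMap A B)) (algebraMap A B f)) b) := rfl
      rw [show θ (e ⊗ₜ b) = fL e * gR b from rfl, h1, h2, Algebra.TensorProduct.tmul_mul_tmul,
        mul_one, one_mul]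
    let ρ₁ : D →+* (C ⧸ 𝔠) ⊗[CLoc (R := A) I f]
        (CLoc (R := B) (I.map (algebraMap A B)) (algebraMap A B f)) := θ.toRingHom.comp ρ
    have hρ₁C : ∀ c : C, ρ₁ (algebraMap C D c) = (Ideal.Quotient.mk 𝔠 c) ⊗ₜ 1 := by
      intro c
      show θ (ρ (algebraMap C D c)) = _
      rw [hρC, hθ, map_one]
    have hρ₁B : ∀ b : B, ρ₁ (algebraMap B D b) = 1 ⊗ₜ
        (algebraMap B (CLoc (R := B) (I.map (algebraMap A B)) (algebraMap A B f)) b) := by
      intro b
      show θ (ρ (algebraMap B D b)) = _
      rw [hρB, hθ]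
    obtain ⟨L, hL⟩ : ∃ L : Ideal ((C ⧸ 𝔠) ⊗[CLoc (R := A) I f]
        (CLoc (R := B) (I.map (algebraMap A B)) (algebraMap A B f))),
        L = (I.map (algebraMap A (CLoc (R := A) I f))).map (algebraMap (CLoc (R := A) I f) _) :=
      ⟨_, rfl⟩
    have hLm : L ^ m = ⊥ := by
      rw [hL, ← Ideal.map_pow, eq_bot_iff, Ideal.map_le_iff_le_comap]
      intro x hx
      rw [Ideal.mem_comap, Ideal.mem_bot, Algebra.TensorProduct.algebraMap_apply]
      have : algebraMap (CLoc (R := A) I f) (C ⧸ 𝔠) x = 0 := by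
        rw [IsScalarTower.algebraMap_apply (CLoc (R := A) I f) C (C ⧸ 𝔠)]
        exact Ideal.Quotient.eq_zero_iff_mem.mpr (hle (Ideal.mem_map_of_mem _ hx))
      rw [this, TensorProduct.zero_tmul]
    haveI := RigBC1.isAdicComplete_of_pow_eq_bot L m hLm
    refine ⟨ρ₁, hρ₁C, fun b₁ => ?_⟩
    have heq : ρ₁.comp (algebraMap (CLoc (R := B) (I.map (algebraMap A B)) (algebraMap A B f)) D) =
        (Algebra.TensorProduct.includeRight : (CLoc (R := B) (I.map (algebraMap A B))
            (algebraMap A B f)) →ₐ[CLoc (R := A) I f] (C ⧸ 𝔠) ⊗[CLoc (R := A) I f]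
            (CLoc (R := B) (I.map (algebraMap A B)) (algebraMap A B f))).toRingHom := by
      refine RigUP.lift_unique (I.map (algebraMap A B)) (algebraMap A B f) L _ _ ?_ ?_
      · intro b
        simp only [RingHom.comp_apply]
        rw [← IsScalarTower.algebraMap_apply B
          (CLoc (R := B) (I.map (algebraMap A B)) (algebraMap A B f)) D, hρ₁B]
        rfl
      · refine (Ideal.map_map (algebraMap A B) _).le.trans ?_
        rw [hL]
        refine le_trans ?_ (Ideal.map_map _ _).ge
        apply le_of_eq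
        congr 1
        apply RingHom.ext
        intro a
        simp only [RingHom.comp_apply]
        rw [← IsScalarTower.algebraMap_apply B
          (CLoc (R := B) (I.map (algebraMap A B)) (algebraMap A B f)) D,
          ← IsScalarTower.algebraMap_apply A B D, IsScalarTower.algebraMap_apply A C D, hρ₁C,
          Algebra.TensorProduct.algebraMap_apply,
          IsScalarTower.algebraMap_apply (CLoc (R := A) I f) C (C ⧸ 𝔠),
          ← IsScalarTower.algebraMap_apply A (CLoc (R := A) I f) C]
        rfl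
    exact RingHom.congr_fun heq b₁

end BaseChange

end Groth.Agent.Lib.Helper27.RigBC2
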