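import Mathlib
import Groth.Agent.Lib.Helper27.RigBC2
import Groth.Agent.Lib.Helper8.FlatCompl2
import Groth.Agent.Lib.Helper15.ComplSemilocal

/-!
The core of the base change of rig-flat maps: flatness of a completed tensor product `D` of `C` and
`B` over `A` at a prime `q` over which `C ⧸ (q ∩ C)` is finite over `A` and `B` is flat over `A`.
-/

set_option autoImplicit false
universe u

namespace Groth.Agent.Lib.Helper27.RigBC3

open TensorProduct AdicRing
open Groth.Agent.Lib.Helper27 Groth.Agent.Lib.Helper27.RigBC2 Groth.Agent.Lib.Helper15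

attribute [local instance] Algebra.TensorProduct.rightAlgebra

section Core

variable (A : Type u) [CommRing A] (I : Ideal A) (B : Type u) [CommRing B] [IsNoetherianRing B]
  [Algebra A B] [IsAdicComplete (I.map (algebraMap A B)) B]
  (C : Type u) [CommRing C] [IsNoetherianRing C] [Algebra A C]
  (D : Type u) [CommRing D] [IsNoetherianRing D] [Algebra A D] [Algebra B D] [Algebra C D]
  [IsScalarTower A B D] [IsScalarTower A C D]
  (hjac : I.map (algebraMap A D) ≤ Ideal.jacobson ⊥) (hCT : IsCT A I B C D)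

local notation "μ" => Algebra.TensorProduct.productMap (IsScalarTower.toAlgHom A C D)
  (IsScalarTower.toAlgHom A B D)

omit [IsNoetherianRing B] [IsAdicComplete (I.map (algebraMap A B)) B] [IsNoetherianRing C]
  [IsNoetherianRing D] in
lemma mu_tmul (c : C) (b : B) : μ (c ⊗ₜ[A] b) = algebraMap C D c * algebraMap B D b := rfl

include hjac hCT in
/-- surjectivity of `(C ⧸ 𝔞) ⊗ B → D ⧸ 𝔞 D` when `C ⧸ 𝔞` is finite over `A`. -/
theorem surj_mod (𝔞 : Ideal C) [Module.Finite A (C ⧸ 𝔞)] (d : D) :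
    ∃ x : C ⊗[A] B, d - μ x ∈ 𝔞.map (algebraMap C D) := by
  classical
  have hIB : (I.map (algebraMap A B)).map (algebraMap B D) = I.map (algebraMap A D) :=
    (Ideal.map_map _ _).trans (by rw [← IsScalarTower.algebraMap_eq])
  have eIB : (I.map (algebraMap A B)).map (algebraMap B (D ⧸ 𝔞.map (algebraMap C D))) =
      (I.map (algebraMap A D)).map (Ideal.Quotient.mk (𝔞.map (algebraMap C D))) := by
    show Ideal.map ((Ideal.Quotient.mk (𝔞.map (algebraMap C D))).comp (algebraMap B D)) _ = _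
    rw [← hIB]
    exact (Ideal.map_map (algebraMap B D) (Ideal.Quotient.mk (𝔞.map (algebraMap C D)))).symm
  have hjacD : (I.map (algebraMap A B)).map (algebraMap B (D ⧸ 𝔞.map (algebraMap C D))) ≤
      Ideal.jacobson ⊥ := by
    rw [eIB]
    exact (Ideal.map_mono hjac).trans
      (CplTensorC.map_jacobson_le (Ideal.Quotient.mk (𝔞.map (algebraMap C D)))
        Ideal.Quotient.mk_surjective)
  haveI : IsHausdorff ((I.map (algebraMap A B)).map
      (algebraMap B (D ⧸ 𝔞.map (algebraMap C D)))) (D ⧸ 𝔞.map (algebraMap C D)) :=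
    IsHausdorff.of_le_jacobson _ _ hjacD
  have hmemI : ∀ e ∈ I.map (algebraMap A D), Ideal.Quotient.mk (𝔞.map (algebraMap C D)) e ∈
      (I.map (algebraMap A B)).map (algebraMap B (D ⧸ 𝔞.map (algebraMap C D))) := by
    intro e he
    rw [eIB]
    exact Ideal.mem_map_of_mem _ he
  -- finiteness of the reduction
  let gE₀ : C →ₐ[A] ((D ⧸ 𝔞.map (algebraMap C D)) ⧸
      (I.map (algebraMap A B)).map (algebraMap B (D ⧸ 𝔞.map (algebraMap C D)))) :=
    (Ideal.Quotient.mkₐ A _).comp
      ((Ideal.Quotient.mkₐ A (𝔞.map (algebraMap C D))).comp (IsScalarTower.toAlgHom A C D))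
  have hgE₀ : ∀ x ∈ 𝔞, gE₀ x = 0 := by
    intro x hx
    show Ideal.Quotient.mk _ (Ideal.Quotient.mk (𝔞.map (algebraMap C D)) (algebraMap C D x)) = 0
    rw [Ideal.Quotient.eq_zero_iff_mem.mpr (Ideal.mem_map_of_mem _ hx), map_zero]
  let gE : (C ⧸ 𝔞) →ₐ[A] ((D ⧸ 𝔞.map (algebraMap C D)) ⧸
      (I.map (algebraMap A B)).map (algebraMap B (D ⧸ 𝔞.map (algebraMap C D)))) :=
    Ideal.Quotient.liftₐ 𝔞 gE₀ hgE₀
  let Φ : B ⊗[A] (C ⧸ 𝔞) →ₐ[B] ((D ⧸ 𝔞.map (algebraMap C D)) ⧸
      (I.map (algebraMap A B)).map (algebraMap B (D ⧸ 𝔞.map (algebraMap C D)))) :=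
    Algebra.TensorProduct.lift (Algebra.ofId B _) gE (fun _ _ => Commute.all _ _)
  have hΦ : ∀ (b : B) (c : C), Φ (b ⊗ₜ Ideal.Quotient.mk 𝔞 c) =
      Ideal.Quotient.mk _ (Ideal.Quotient.mk (𝔞.map (algebraMap C D))
        (algebraMap C D c * algebraMap B D b)) := by
    intro b c
    rw [Algebra.TensorProduct.lift_tmul, mul_comm, map_mul, map_mul]
    rfl
  have hΦμ : ∀ t : C ⊗[A] B, ∃ z, Φ z =
      Ideal.Quotient.mk _ (Ideal.Quotient.mk (𝔞.map (algebraMap C D)) (μ t)) := by
    intro t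
    induction t using TensorProduct.induction_on with
    | zero => exact ⟨0, by simp⟩
    | tmul c b => exact ⟨b ⊗ₜ Ideal.Quotient.mk 𝔞 c, hΦ b c⟩
    | add x y hx hy =>
      obtain ⟨zx, hzx⟩ := hx
      obtain ⟨zy, hzy⟩ := hy
      exact ⟨zx + zy, by rw [map_add, map_add, map_add, map_add, hzx, hzy]⟩
  have hΦsurj : Function.Surjective Φ := by
    intro z
    obtain ⟨z', rfl⟩ := Ideal.Quotient.mk_surjective z
    obtain ⟨d', rfl⟩ := Ideal.Quotient.mk_surjective z'
    obtain ⟨t, ht⟩ := hCT.1 d'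
    obtain ⟨w, hw⟩ := hΦμ t
    refine ⟨w, ?_⟩
    rw [hw]
    symm
    apply Ideal.Quotient.eq.mpr
    rw [← map_sub]
    exact hmemI _ ht
  haveI : Module.Finite B ((D ⧸ 𝔞.map (algebraMap C D)) ⧸
      (I.map (algebraMap A B)).map (algebraMap B (D ⧸ 𝔞.map (algebraMap C D)))) :=
    Module.Finite.of_surjective Φ.toLinearMap hΦsurj
  haveI hDfin : Module.Finite B (D ⧸ 𝔞.map (algebraMap C D)) :=
    ComplSemilocal.finite_of_quot_finite (I.map (algebraMap A B)) _
  -- Nakayama
  let N : Submodule B (D ⧸ 𝔞.map (algebraMap C D)) :=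
    Submodule.span B (Set.range (fun c : C =>
      Ideal.Quotient.mk (𝔞.map (algebraMap C D)) (algebraMap C D c)))
  have hμN : ∀ t : C ⊗[A] B, Ideal.Quotient.mk (𝔞.map (algebraMap C D)) (μ t) ∈ N := by
    intro t
    induction t using TensorProduct.induction_on with
    | zero => simp
    | tmul c b =>
      have e : Ideal.Quotient.mk (𝔞.map (algebraMap C D)) (μ (c ⊗ₜ[A] b)) =
          b • Ideal.Quotient.mk (𝔞.map (algebraMap C D)) (algebraMap C D c) := by
        rw [mu_tmul, Algebra.smul_def, mul_comm, map_mul]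
        rfl
      rw [e]
      exact N.smul_mem b (Submodule.subset_span ⟨c, rfl⟩)
    | add x y hx hy =>
      rw [map_add, map_add]
      exact N.add_mem hx hy
  have hNμ : ∀ z ∈ N, ∃ x : C ⊗[A] B,
      z = Ideal.Quotient.mk (𝔞.map (algebraMap C D)) (μ x) := by
    intro z hz
    induction hz using Submodule.span_induction with
    | mem z hz =>
      obtain ⟨c, rfl⟩ := hz
      exact ⟨c ⊗ₜ 1, by rw [mu_tmul, map_one, mul_one]⟩
    | zero => exact ⟨0, by simp⟩
    | add z₁ z₂ _ _ h₁ h₂ =>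
      obtain ⟨x₁, rfl⟩ := h₁
      obtain ⟨x₂, rfl⟩ := h₂
      exact ⟨x₁ + x₂, by rw [map_add, map_add]⟩
    | smul b z _ hz =>
      obtain ⟨x, rfl⟩ := hz
      refine ⟨x * ((1 : C) ⊗ₜ[A] b), ?_⟩
      rw [map_mul, mu_tmul, map_one, one_mul, Algebra.smul_def, mul_comm, map_mul]
      rfl
  have htop : (⊤ : Submodule B (D ⧸ 𝔞.map (algebraMap C D))) ≤ N := by
    apply Submodule.le_of_le_smul_of_le_jacobson_bot Module.Finite.fg_top
      (IsAdicComplete.le_jacobson_bot (I.map (algebraMap A B)))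
    intro z _
    obtain ⟨d', rfl⟩ := Ideal.Quotient.mk_surjective z
    obtain ⟨t, ht⟩ := hCT.1 d'
    rw [Submodule.mem_sup]
    refine ⟨Ideal.Quotient.mk _ (μ t), hμN t, Ideal.Quotient.mk _ (d' - μ t), ?_, ?_⟩
    · rw [Ideal.smul_top_eq_map]
      exact hmemI _ ht
    · rw [← map_add]
      congr 1
      ring
  obtain ⟨x, hx⟩ := hNμ (Ideal.Quotient.mk _ d) (htop Submodule.mem_top)
  exact ⟨x, Ideal.Quotient.eq.mp hx⟩

include hCT in
/-- injectivity of `(C ⧸ 𝔞) ⊗ B → D ⧸ 𝔞 D` when `C ⧸ 𝔞` is finite over `A`. -/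
theorem inj_mod (𝔞 : Ideal C) [Module.Finite A (C ⧸ 𝔞)] (x : C ⊗[A] B)
    (hx : μ x ∈ 𝔞.map (algebraMap C D)) : x ∈ 𝔞.map (algebraMap C (C ⊗[A] B)) := by
  classical
  have hker : ∀ 𝔠 : Ideal C, RingHom.ker (Algebra.TensorProduct.map (Ideal.Quotient.mkₐ A 𝔠)
      (AlgHom.id A B)) = 𝔠.map (algebraMap C (C ⊗[A] B)) := by
    intro 𝔠
    have h := Algebra.TensorProduct.rTensor_ker (R := A) (C := B) (Ideal.Quotient.mkₐ A 𝔠)
      (Ideal.Quotient.mkₐ_surjective A 𝔠)
    have hk : RingHom.ker (Ideal.Quotient.mkₐ A 𝔠) = 𝔠 := by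
      ext y
      rw [RingHom.mem_ker]
      exact Ideal.Quotient.eq_zero_iff_mem
    rw [hk] at h
    exact h
  rw [← hker 𝔞, RingHom.mem_ker]
  haveI : Module.Finite B ((C ⧸ 𝔞) ⊗[A] B) := RigBC1.finite_right A (C ⧸ 𝔞) B
  haveI hH : IsHausdorff (I.map (algebraMap A B)) ((C ⧸ 𝔞) ⊗[A] B) :=
    IsHausdorff.of_le_jacobson _ _ (IsAdicComplete.le_jacobson_bot _)
  apply hH.haus
  intro m
  rw [SModEq.zero, Ideal.smul_top_eq_map]
  show (Algebra.TensorProduct.map (Ideal.Quotient.mkₐ A 𝔞) (AlgHom.id A B)) x ∈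
    ((I.map (algebraMap A B)) ^ m).map (algebraMap B ((C ⧸ 𝔞) ⊗[A] B))
  -- the retraction
  obtain ⟨ρ, hρC, hρB⟩ := hCT.2 (𝔞 ⊔ (I ^ m).map (algebraMap A C)) m le_sup_right
  have hρμ : ∀ t : C ⊗[A] B, ρ (μ t) = Algebra.TensorProduct.map
      (Ideal.Quotient.mkₐ A (𝔞 ⊔ (I ^ m).map (algebraMap A C))) (AlgHom.id A B) t := by
    intro t
    induction t using TensorProduct.induction_on with
    | zero => simp
    | tmul c b =>
      rw [mu_tmul, map_mul, hρC, hρB, Algebra.TensorProduct.tmul_mul_tmul, mul_one, one_mul,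
        Algebra.TensorProduct.map_tmul]
      rfl
    | add t₁ t₂ h₁ h₂ => rw [map_add, map_add, map_add, h₁, h₂]
  have hρ𝔞 : 𝔞.map (algebraMap C D) ≤ RingHom.ker ρ := by
    rw [Ideal.map_le_iff_le_comap]
    intro a ha
    rw [Ideal.mem_comap, RingHom.mem_ker, hρC,
      Ideal.Quotient.eq_zero_iff_mem.mpr (Ideal.mem_sup_left ha), TensorProduct.zero_tmul]
  have h1 : x ∈ (𝔞 ⊔ (I ^ m).map (algebraMap A C)).map (algebraMap C (C ⊗[A] B)) := by
    rw [← hker, RingHom.mem_ker, ← hρμ]
    exact hρ𝔞 hx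
  rw [Ideal.map_sup] at h1
  obtain ⟨y, hy, z, hz, rfl⟩ := Submodule.mem_sup.mp h1
  have hy0 : (Algebra.TensorProduct.map (Ideal.Quotient.mkₐ A 𝔞) (AlgHom.id A B)) y = 0 := by
    rw [← RingHom.mem_ker, hker]
    exact hy
  rw [map_add, hy0, zero_add]
  have e : Ideal.map (Algebra.TensorProduct.map (Ideal.Quotient.mkₐ A 𝔞) (AlgHom.id A B)).toRingHom
      (((I ^ m).map (algebraMap A C)).map (algebraMap C (C ⊗[A] B))) =
      ((I.map (algebraMap A B)) ^ m).map (algebraMap B ((C ⧸ 𝔞) ⊗[A] B)) := by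
    rw [← Ideal.map_pow]
    calc _ = Ideal.map ((Algebra.TensorProduct.map (Ideal.Quotient.mkₐ A 𝔞)
            (AlgHom.id A B)).toRingHom.comp
            ((algebraMap C (C ⊗[A] B)).comp (algebraMap A C))) (I ^ m) := by
          rw [Ideal.map_map, Ideal.map_map]
          rfl
      _ = Ideal.map ((algebraMap B ((C ⧸ 𝔞) ⊗[A] B)).comp (algebraMap A B)) (I ^ m) := by
          congr 1
          apply RingHom.ext
          intro a
          simp only [RingHom.comp_apply]
          rw [Algebra.TensorProduct.algebraMap_apply, Algebra.algebraMap_self_apply]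
          show (Algebra.TensorProduct.map (Ideal.Quotient.mkₐ A 𝔞) (AlgHom.id A B))
            ((algebraMap A C a) ⊗ₜ[A] (1 : B)) = _
          rw [Algebra.TensorProduct.map_tmul,
            ← IsScalarTower.algebraMap_apply A B ((C ⧸ 𝔞) ⊗[A] B),
            Algebra.TensorProduct.algebraMap_apply]
          rfl
      _ = _ := (Ideal.map_map _ _).symm
  rw [← e]
  exact Ideal.mem_map_of_mem
    (Algebra.TensorProduct.map (Ideal.Quotient.mkₐ A 𝔞) (AlgHom.id A B)).toRingHom hz

variable (q : Ideal D) [q.IsPrime]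

local notation "Bq" => Localization.AtPrime (Ideal.comap (algebraMap B D) q)
local notation "Dq" => Localization.AtPrime q

include hjac hCT in
/-- **Core**: `D_q` is flat over `C` when `C ⧸ (q ∩ C)` is finite over `A` and `B` is flat over `A`
at `q ∩ B`. -/
theorem core (hfin : Module.Finite A (C ⧸ q.comap (algebraMap C D)))
    (hflat : Module.Flat A Bq) : Module.Flat C Dq := by
  classical
  haveI hND : IsNoetherianRing Dq := IsLocalization.isNoetherianRing q.primeCompl _ inferInstance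
  -- the map `B_q → D_q`
  let lB : Bq →ₐ[A] Dq :=
    { Localization.localRingHom (q.comap (algebraMap B D)) q (algebraMap B D) rfl with
      commutes' := fun a => by
        show Localization.localRingHom (q.comap (algebraMap B D)) q (algebraMap B D) rfl
          (algebraMap A Bq a) = algebraMap A Dq a
        rw [IsScalarTower.algebraMap_apply A B Bq, Localization.localRingHom_to_map,
          ← IsScalarTower.algebraMap_apply A B D, ← IsScalarTower.algebraMap_apply A D Dq] }
  have hlB : ∀ b : B, lB (algebraMap B Bq b) = algebraMap D Dq (algebraMap B D b) :=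
    fun b => Localization.localRingHom_to_map _ _ _ rfl b
  let lam : C ⊗[A] Bq →ₐ[A] Dq :=
    Algebra.TensorProduct.productMap (IsScalarTower.toAlgHom A C Dq) lB
  have hlam : ∀ (c : C) (β : Bq), lam (c ⊗ₜ β) = algebraMap C Dq c * lB β := fun c β => rfl
  let ι : C ⊗[A] B →ₐ[A] C ⊗[A] Bq :=
    Algebra.TensorProduct.map (AlgHom.id A C) (IsScalarTower.toAlgHom A B Bq)
  have hι : ∀ (c : C) (b : B), ι (c ⊗ₜ b) = c ⊗ₜ (algebraMap B Bq b) := fun c b => rfl
  have hlamι : ∀ t : C ⊗[A] B, lam (ι t) = algebraMap D Dq (μ t) := by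
    intro t
    induction t using TensorProduct.induction_on with
    | zero => simp
    | tmul c b =>
      rw [hι, hlam, hlB, mu_tmul, map_mul, ← IsScalarTower.algebraMap_apply C D Dq]
    | add t₁ t₂ h₁ h₂ => rw [map_add, map_add, map_add, map_add, h₁, h₂]
  -- the prime of `C ⊗ B_q`
  obtain ⟨QW, hQW⟩ : ∃ QW : Ideal (C ⊗[A] Bq),
      QW = (IsLocalRing.maximalIdeal Dq).comap lam.toRingHom := ⟨_, rfl⟩
  haveI hQWp : QW.IsPrime := by
    rw [hQW]
    exact Ideal.comap_isPrime _ _
  have hmemQW : ∀ w : C ⊗[A] Bq, w ∈ QW ↔ lam w ∈ IsLocalRing.maximalIdeal Dq := by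
    intro w
    rw [hQW]
    rfl
  have hunitW : ∀ w : C ⊗[A] Bq, w ∉ QW → IsUnit (lam w) := by
    intro w hw
    rw [hmemQW, IsLocalRing.mem_maximalIdeal, mem_nonunits_iff, not_not] at hw
    exact hw
  have hnotmem : ∀ d : D, d ∉ q → algebraMap D Dq d ∉ IsLocalRing.maximalIdeal Dq := by
    intro d hd hmem
    exact hd ((IsLocalization.AtPrime.to_map_mem_maximal_iff Dq q d).mp hmem)
  let lS : Localization.AtPrime QW →+* Dq :=
    IsLocalization.lift (M := QW.primeCompl) (g := lam.toRingHom) (fun y => hunitW y y.2)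
  have hlS : ∀ w : C ⊗[A] Bq, lS (algebraMap _ (Localization.AtPrime QW) w) = lam w :=
    fun w => IsLocalization.lift_eq _ w
  letI algSD : Algebra (Localization.AtPrime QW) Dq := lS.toAlgebra
  have halgSD : ∀ s, algebraMap (Localization.AtPrime QW) Dq s = lS s := fun _ => rfl
  haveI : IsScalarTower C (Localization.AtPrime QW) Dq := IsScalarTower.of_algebraMap_eq (fun c => by
    rw [halgSD, IsScalarTower.algebraMap_apply C (C ⊗[A] Bq) (Localization.AtPrime QW), hlS,
      Algebra.TensorProduct.algebraMap_apply, Algebra.algebraMap_self_apply, hlam, map_one,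
      mul_one])
  haveI : Module.Flat A Bq := hflat
  haveI : Module.Flat C (C ⊗[A] Bq) := inferInstance
  haveI : Module.Flat (C ⊗[A] Bq) (Localization.AtPrime QW) :=
    IsLocalization.flat _ QW.primeCompl
  haveI : Module.Flat C (Localization.AtPrime QW) :=
    Module.Flat.trans C (C ⊗[A] Bq) (Localization.AtPrime QW)
  have hrq : (q.comap (algebraMap C D)).map (algebraMap C D) ≤ q := Ideal.map_comap_le
  have hpowq : ∀ n : ℕ, 0 < n → ((q.comap (algebraMap C D)) ^ n).map (algebraMap C D) ≤ q :=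
    fun n hn => (Ideal.map_mono (Ideal.pow_le_self (Nat.pos_iff_ne_zero.mp hn))).trans hrq
  have h𝔞Dq : ∀ 𝔞 : Ideal C, (𝔞.map (algebraMap C D)).map (algebraMap D Dq) =
      𝔞.map (algebraMap C Dq) := fun 𝔞 =>
    (Ideal.map_map _ _).trans (by rw [← IsScalarTower.algebraMap_eq])
  refine Groth.Agent.Lib.Helper8.flat_of_approx' (A := C) (S := Localization.AtPrime QW)
    (T := Dq) (q.comap (algebraMap C D)) ?_ ?_ ?_
  · -- `r D_q` lies in the radical
    rw [IsLocalRing.jacobson_eq_maximalIdeal ⊥ bot_ne_top, Ideal.map_le_iff_le_comap]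
    intro c hc
    rw [Ideal.mem_comap, IsScalarTower.algebraMap_apply C D Dq]
    exact (IsLocalization.AtPrime.to_map_mem_maximal_iff Dq q _).mpr hc
  · -- surjectivity modulo powers
    intro n t
    rcases Nat.eq_zero_or_pos n with hn | hn
    · refine ⟨0, ?_⟩
      rw [hn, pow_zero, Ideal.one_eq_top, Ideal.map_top]
      trivial
    haveI : Module.Finite A (C ⧸ (q.comap (algebraMap C D)) ^ n) :=
      RigBC1.finite_quot_pow _ (IsNoetherian.noetherian _) n
    obtain ⟨⟨d, s'⟩, hds⟩ := IsLocalization.surj q.primeCompl t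
    obtain ⟨xd, hxd⟩ := surj_mod A I B C D hjac hCT ((q.comap (algebraMap C D)) ^ n) d
    obtain ⟨xs, hxs⟩ := surj_mod A I B C D hjac hCT ((q.comap (algebraMap C D)) ^ n) (s' : D)
    have hμxs : μ xs ∉ q := by
      intro hmem
      apply s'.2
      have : (s' : D) = ((s' : D) - μ xs) + μ xs := by ring
      rw [this]
      exact Ideal.add_mem _ (hpowq n hn hxs) hmem
    have hιxs : ι xs ∈ QW.primeCompl := by
      show ι xs ∉ QW
      rw [hmemQW, hlamι]
      exact hnotmem _ hμxs
    obtain ⟨s, hsdef⟩ : ∃ s : Localization.AtPrime QW,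
        s = IsLocalization.mk' (Localization.AtPrime QW) (ι xd) ⟨ι xs, hιxs⟩ := ⟨_, rfl⟩
    have hσ : lS s * algebraMap D Dq (μ xs) = algebraMap D Dq (μ xd) := by
      have h1 : s * algebraMap _ (Localization.AtPrime QW) (ι xs) =
          algebraMap _ (Localization.AtPrime QW) (ι xd) := by
        rw [hsdef]
        exact IsLocalization.mk'_spec (Localization.AtPrime QW) (ι xd) ⟨ι xs, hιxs⟩
      have h2 := congrArg lS h1
      rw [map_mul, hlS, hlS, hlamι, hlamι] at h2
      exact h2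
    refine ⟨s, ?_⟩
    rw [halgSD]
    have hu : IsUnit (algebraMap D Dq (s' : D) * algebraMap D Dq (μ xs)) :=
      (IsLocalization.map_units Dq s').mul
        (IsLocalization.map_units Dq (⟨μ xs, hμxs⟩ : q.primeCompl))
    rw [← Ideal.mul_unit_mem_iff_mem _ hu]
    have e : (t - lS s) * (algebraMap D Dq (s' : D) * algebraMap D Dq (μ xs)) =
        algebraMap D Dq ((d - μ xd) * μ xs + μ xd * (μ xs - (s' : D))) := by
      have h1 : (t - lS s) * (algebraMap D Dq (s' : D) * algebraMap D Dq (μ xs)) =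
          (t * algebraMap D Dq (s' : D)) * algebraMap D Dq (μ xs) -
          (lS s * algebraMap D Dq (μ xs)) * algebraMap D Dq (s' : D) := by ring
      rw [h1, hds, hσ, ← map_mul, ← map_mul, ← map_sub]
      congr 1
      ring
    rw [e, ← h𝔞Dq]
    apply Ideal.mem_map_of_mem
    refine Ideal.add_mem _ (Ideal.mul_mem_right _ _ hxd) (Ideal.mul_mem_left _ _ ?_)
    have : μ xs - (s' : D) = -((s' : D) - μ xs) := by ring
    rw [this]
    exact Ideal.neg_mem_iff _ |>.mpr hxs
  · -- injectivity modulo powers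
    intro n s hs
    rcases Nat.eq_zero_or_pos n with hn | hn
    · rw [hn, pow_zero, Ideal.one_eq_top, Ideal.map_top]
      trivial
    haveI : Module.Finite A (C ⧸ (q.comap (algebraMap C D)) ^ n) :=
      RigBC1.finite_quot_pow _ (IsNoetherian.noetherian _) n
    rw [halgSD] at hs
    obtain ⟨⟨w, u⟩, hwu⟩ := IsLocalization.surj QW.primeCompl s
    have hlamw : lam w ∈ ((q.comap (algebraMap C D)) ^ n).map (algebraMap C Dq) := by
      rw [← hlS, ← hwu, map_mul]
      exact Ideal.mul_mem_right _ _ hs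
    obtain ⟨b, x, hbx⟩ := RigBC1.exists_mul_eq_map (A := A) (C := C) (B := B) (B' := Bq)
      (q.comap (algebraMap B D)).primeCompl w
    have hιx : ι x = w * ((1 : C) ⊗ₜ[A] algebraMap B Bq b) := hbx.symm
    have h4 : algebraMap D Dq (μ x) ∈
        (((q.comap (algebraMap C D)) ^ n).map (algebraMap C D)).map (algebraMap D Dq) := by
      rw [h𝔞Dq, ← hlamι, hιx, map_mul]
      exact Ideal.mul_mem_right _ _ hlamw
    rw [IsLocalization.mem_map_algebraMap_iff q.primeCompl Dq] at h4
    obtain ⟨⟨p1, p2⟩, hp⟩ := h4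
    rw [← map_mul, IsLocalization.eq_iff_exists q.primeCompl Dq] at hp
    obtain ⟨c, hc⟩ := hp
    -- `s₁ = c * p2 ∉ q` and `s₁ * μ x ∈ 𝔞 D`
    have hs₁x : ((c * p2 : q.primeCompl) : D) * μ x ∈
        ((q.comap (algebraMap C D)) ^ n).map (algebraMap C D) := by
      have : ((c * p2 : q.primeCompl) : D) * μ x = (c : D) * (μ x * (p2 : D)) := by
        rw [Submonoid.coe_mul]
        ring
      rw [this, hc]
      exact Ideal.mul_mem_left _ _ p1.2
    obtain ⟨y, hy⟩ := surj_mod A I B C D hjac hCT ((q.comap (algebraMap C D)) ^ n)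
      ((c * p2 : q.primeCompl) : D)
    have hμy : μ y ∉ q := by
      intro hmem
      apply (c * p2).2
      have : ((c * p2 : q.primeCompl) : D) = (((c * p2 : q.primeCompl) : D) - μ y) + μ y := by ring
      rw [this]
      exact Ideal.add_mem _ (hpowq n hn hy) hmem
    have h5 : μ (y * x) ∈ ((q.comap (algebraMap C D)) ^ n).map (algebraMap C D) := by
      have : μ (y * x) = ((c * p2 : q.primeCompl) : D) * μ x -
          (((c * p2 : q.primeCompl) : D) - μ y) * μ x := by
        rw [map_mul]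
        ring
      rw [this]
      exact Ideal.sub_mem _ hs₁x (Ideal.mul_mem_right _ _ hy)
    have h6 := inj_mod A I B C D hCT ((q.comap (algebraMap C D)) ^ n) (y * x) h5
    have h7 : ι (y * x) ∈ ((q.comap (algebraMap C D)) ^ n).map (algebraMap C (C ⊗[A] Bq)) := by
      have h8 := Ideal.mem_map_of_mem ι.toRingHom h6
      rw [Ideal.map_map] at h8
      have e : ι.toRingHom.comp (algebraMap C (C ⊗[A] B)) = algebraMap C (C ⊗[A] Bq) := by
        apply RingHom.ext
        intro c'
        simp only [RingHom.comp_apply]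
        rw [Algebra.TensorProduct.algebraMap_apply, Algebra.algebraMap_self_apply,
          Algebra.TensorProduct.algebraMap_apply, Algebra.algebraMap_self_apply]
        show ι (c' ⊗ₜ[A] (1 : B)) = _
        rw [hι, map_one]
      rw [e] at h8
      exact h8
    -- the unit
    obtain ⟨u', hu'def⟩ : ∃ u' : C ⊗[A] Bq, u' = ι y * ((1 : C) ⊗ₜ[A] algebraMap B Bq b) :=
      ⟨_, rfl⟩
    have hu'w : u' * w = ι (y * x) := by
      rw [hu'def, map_mul, hιx]
      ring
    have hu' : u' ∉ QW := by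
      rw [hmemQW, hu'def, map_mul, hlamι, hlam, map_one, one_mul, hlB, ← map_mul]
      apply hnotmem
      intro hmem
      rcases (inferInstance : q.IsPrime).mem_or_mem hmem with h | h
      · exact hμy h
      · exact b.2 h
    have h9 : algebraMap _ (Localization.AtPrime QW) (u' * w) ∈
        ((q.comap (algebraMap C D)) ^ n).map (algebraMap C (Localization.AtPrime QW)) := by
      rw [hu'w]
      have h10 := Ideal.mem_map_of_mem (algebraMap (C ⊗[A] Bq) (Localization.AtPrime QW)) h7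
      rw [Ideal.map_map, ← IsScalarTower.algebraMap_eq] at h10
      exact h10
    rw [map_mul, Ideal.unit_mul_mem_iff_mem _
      (IsLocalization.map_units (Localization.AtPrime QW) (⟨u', hu'⟩ : QW.primeCompl)),
      ← hwu, Ideal.mul_unit_mem_iff_mem _ (IsLocalization.map_units (Localization.AtPrime QW) u)]
      at h9
    exact h9

end Core

end Groth.Agent.Lib.Helper27.RigBC3
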