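import Mathlib
import Groth.Agent.S0542
import Groth.Agent.S8829
import Groth.Agent.Lib.Helper27.RigBC3

/-!
Base change of rig-flat maps along completed tensor products: properties of the completed tensor
product `D = B ⊗̂_A C`, and the reduction to the core.
-/

set_option autoImplicit false
universe u

namespace Groth.Agent.Lib.Helper27.RigBC4

open TensorProduct AdicRing
open Groth.Agent.Lib.Helper27 Groth.Agent.Lib.Helper27.CLocBasic
open Groth.Agent.Lib.Helper27.RigDesc Groth.Agent.Lib.Helper27.RigBC2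
open Groth.Agent.Lib.Helper27.RigComp

attribute [local instance] RigBC2.algBCT RigBC2.isScalarTower_ABCT

section DFacts

variable (A : Type u) [CommRing A] (I : Ideal A) (B C : Type u) [CommRing B] [CommRing C]
  [Algebra A B] [Algebra A C]

/-- the reduction of `C ⊗ B` is of finite type over `C`. -/
theorem finiteType_tensor_quot (hft : Algebra.FiniteType A (B ⧸ I.map (algebraMap A B))) :
    Algebra.FiniteType C ((C ⊗[A] B) ⧸
      (I.map (algebraMap A C)).map (algebraMap C (C ⊗[A] B))) := by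
  classical
  haveI := hft
  let g₀ : B →ₐ[A] ((C ⊗[A] B) ⧸ (I.map (algebraMap A C)).map (algebraMap C (C ⊗[A] B))) :=
    (Ideal.Quotient.mkₐ A _).comp (Algebra.TensorProduct.includeRight : B →ₐ[A] C ⊗[A] B)
  have hg₀ : ∀ b ∈ I.map (algebraMap A B), g₀ b = 0 := by
    have h1 : I.map (algebraMap A B) ≤ RingHom.ker g₀.toRingHom := by
      rw [Ideal.map_le_iff_le_comap]
      intro i hi
      rw [Ideal.mem_comap, RingHom.mem_ker]
      show g₀ (algebraMap A B i) = 0
      rw [AlgHom.commutes, IsScalarTower.algebraMap_apply A (C ⊗[A] B),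
        IsScalarTower.algebraMap_apply A C (C ⊗[A] B)]
      exact Ideal.Quotient.eq_zero_iff_mem.mpr
        (Ideal.mem_map_of_mem _ (Ideal.mem_map_of_mem _ hi))
    exact fun b hb => h1 hb
  let g : (B ⧸ I.map (algebraMap A B)) →ₐ[A]
      ((C ⊗[A] B) ⧸ (I.map (algebraMap A C)).map (algebraMap C (C ⊗[A] B))) :=
    Ideal.Quotient.liftₐ _ g₀ hg₀
  let Ξ : C ⊗[A] (B ⧸ I.map (algebraMap A B)) →ₐ[C]
      ((C ⊗[A] B) ⧸ (I.map (algebraMap A C)).map (algebraMap C (C ⊗[A] B))) :=
    Algebra.TensorProduct.lift (Algebra.ofId C _) g (fun _ _ => Commute.all _ _)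
  have hΞ : ∀ (c : C) (b : B), Ξ (c ⊗ₜ Ideal.Quotient.mk _ b) =
      Ideal.Quotient.mk _ (c ⊗ₜ[A] b) := by
    intro c b
    rw [Algebra.TensorProduct.lift_tmul]
    show Ideal.Quotient.mk _ (algebraMap C (C ⊗[A] B) c) * Ideal.Quotient.mk _ ((1 : C) ⊗ₜ[A] b) = _
    rw [← map_mul, Algebra.TensorProduct.algebraMap_apply, Algebra.algebraMap_self_apply,
      Algebra.TensorProduct.tmul_mul_tmul, mul_one, one_mul]
  refine Algebra.FiniteType.of_surjective Ξ ?_
  intro z
  obtain ⟨t, rfl⟩ := Ideal.Quotient.mk_surjective z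
  induction t using TensorProduct.induction_on with
  | zero => exact ⟨0, by simp⟩
  | tmul c b => exact ⟨c ⊗ₜ Ideal.Quotient.mk _ b, hΞ c b⟩
  | add x y hx hy =>
    obtain ⟨zx, hzx⟩ := hx
    obtain ⟨zy, hzy⟩ := hy
    exact ⟨zx + zy, by rw [map_add, map_add, hzx, hzy]⟩

variable [IsNoetherianRing C]

theorem isNoetherianRing_CT (hI : I.FG)
    (hft : Algebra.FiniteType A (B ⧸ I.map (algebraMap A B))) :
    IsNoetherianRing (CT A I B C) := by
  haveI := finiteType_tensor_quot A I B C hft
  haveI : IsNoetherianRing ((C ⊗[A] B) ⧸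
      (I.map (algebraMap A C)).map (algebraMap C (C ⊗[A] B))) :=
    Algebra.FiniteType.isNoetherianRing C _
  exact Groth.Agent.S0542.result (C ⊗[A] B) _ ((hI.map _).map _)

theorem isAdicComplete_CT (hI : I.FG) :
    IsAdicComplete ((I.map (algebraMap A C)).map (algebraMap C (CT A I B C))) (CT A I B C) :=
  CplAlg.isAdicComplete_cpl (R := C) (I.map (algebraMap A C)) (hI.map _) (TensorProduct A C B)

theorem finiteType_CT_quot (hI : I.FG)
    (hft : Algebra.FiniteType A (B ⧸ I.map (algebraMap A B))) :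
    Algebra.FiniteType C (CT A I B C ⧸
      (I.map (algebraMap A C)).map (algebraMap C (CT A I B C))) := by
  haveI := finiteType_tensor_quot A I B C hft
  have hle : (I.map (algebraMap A C)).map (algebraMap C (C ⊗[A] B)) ≤
      ((I.map (algebraMap A C)).map (algebraMap C (CT A I B C))).comap
        (IsScalarTower.toAlgHom C (C ⊗[A] B) (CT A I B C)) := by
    rw [Ideal.map_le_iff_le_comap]
    intro c hc
    rw [Ideal.mem_comap, Ideal.mem_comap]
    show algebraMap (C ⊗[A] B) (CT A I B C) (algebraMap C (C ⊗[A] B) c) ∈ _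
    rw [← IsScalarTower.algebraMap_apply C (C ⊗[A] B) (CT A I B C)]
    exact Ideal.mem_map_of_mem _ hc
  let φ := Ideal.quotientMapₐ ((I.map (algebraMap A C)).map (algebraMap C (CT A I B C)))
    (IsScalarTower.toAlgHom C (C ⊗[A] B) (CT A I B C)) hle
  refine Algebra.FiniteType.of_surjective φ ?_
  intro z
  obtain ⟨d, rfl⟩ := Ideal.Quotient.mk_surjective z
  obtain ⟨t, ht⟩ := CplAlg.exists_sub_mem (R := C) (I.map (algebraMap A C)) (hI.map _)
    (TensorProduct A C B) 1 d
  refine ⟨Ideal.Quotient.mk _ t, ?_⟩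
  show Ideal.Quotient.mk _ (algebraMap (C ⊗[A] B) (CT A I B C) t) = Ideal.Quotient.mk _ d
  symm
  apply Ideal.Quotient.eq.mpr
  rw [pow_one] at ht
  exact ht

end DFacts

section L2

variable (A : Type u) [CommRing A] [IsNoetherianRing A] (I : Ideal A) [IsAdicComplete I A]
  (B : Type u) [CommRing B] [Algebra A B] [IsNoetherianRing B]
  [IsAdicComplete (I.map (algebraMap A B)) B]
  (hAB : RigFlat A I B)
  (C' D' : Type u) [CommRing C'] [CommRing D'] [IsNoetherianRing C'] [IsNoetherianRing D']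
  [Algebra A C'] [Algebra A D'] [Algebra B D'] [Algebra C' D']
  [IsScalarTower A B D'] [IsScalarTower A C' D']
  [IsAdicComplete (I.map (algebraMap A D')) D']
  (hftD' : Algebra.FiniteType A (D' ⧸ I.map (algebraMap A D')))
  (hCT : IsCT A I B C' D') (f : A)

local notation "A₁" => CLoc (R := A) I f
local notation "B₁" => CLoc (R := B) (Ideal.map (algebraMap A B) I) (algebraMap A B f)
local notation "C₂" => CLoc (R := C') (Ideal.map (algebraMap A C') I) (algebraMap A C' f)
local notation "D₂" => CLoc (R := D') (Ideal.map (algebraMap A D') I) (algebraMap A D' f)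

include hAB hftD' hCT in
/-- naive rig-flatness of `C₂ → D₂` at a rig-closed prime lying over a rig-closed prime of
`A⟨f⁻¹⟩`. -/
theorem naive_at (ψCD : C₂ →+* D₂)
    (hψCD : ∀ c' : C', ψCD (algebraMap C' C₂ c') = algebraMap D' D₂ (algebraMap C' D' c'))
    (q₂ : PrimeSpectrum D₂)
    (hq₂ : RigClosed ((I.map (algebraMap A D')).map (algebraMap D' D₂)) q₂)
    (hp : ∀ ψ₂ : A₁ →+* D₂,
      (∀ a, ψ₂ (algebraMap A A₁ a) = algebraMap D' D₂ (algebraMap A D' a)) →
      RigClosed (I.map (algebraMap A A₁)) (PrimeSpectrum.comap ψ₂ q₂)) :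
    ((algebraMap D₂ (Localization.AtPrime q₂.asIdeal)).comp ψCD).Flat := by
  classical
  haveI := q₂.isPrime
  haveI hNA₁ := RigCL.isNoetherianRing_cLoc I f
  haveI hNB₁ := RigCL.isNoetherianRing_cLoc (I.map (algebraMap A B)) (algebraMap A B f)
  haveI hNC₂ := RigCL.isNoetherianRing_cLoc (I.map (algebraMap A C')) (algebraMap A C' f)
  haveI hND₂ := RigCL.isNoetherianRing_cLoc (I.map (algebraMap A D')) (algebraMap A D' f)
  haveI hCA₁ := RigCL.isAdicComplete_cLoc' I f
  haveI hCB₁ := RigCL.isAdicComplete_cLoc' (I.map (algebraMap A B)) (algebraMap A B f)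
  haveI hCC₂ := RigCL.isAdicComplete_cLoc' (I.map (algebraMap A C')) (algebraMap A C' f)
  haveI hCD₂ := RigCL.isAdicComplete_cLoc' (I.map (algebraMap A D')) (algebraMap A D' f)
  -- the maps
  obtain ⟨ψAB, hψAB⟩ := RigUP.exists_lift I f
    ((I.map (algebraMap A B)).map (algebraMap B B₁))
    ((algebraMap B B₁).comp (algebraMap A B)) (Ideal.map_map _ _).symm.le
    (RigCL.isUnit_algebraMap_cLoc (I.map (algebraMap A B)) (algebraMap A B f))
  obtain ⟨α, hα⟩ := RigUP.exists_lift I f
    ((I.map (algebraMap A C')).map (algebraMap C' C₂))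
    ((algebraMap C' C₂).comp (algebraMap A C')) (Ideal.map_map _ _).symm.le
    (RigCL.isUnit_algebraMap_cLoc (I.map (algebraMap A C')) (algebraMap A C' f))
  have hKβ : (I.map (algebraMap A B)).map ((algebraMap D' D₂).comp (algebraMap B D')) ≤
      (I.map (algebraMap A D')).map (algebraMap D' D₂) := by
    apply le_of_eq
    refine (Ideal.map_map (algebraMap A B) _).trans ?_
    rw [RingHom.comp_assoc, ← IsScalarTower.algebraMap_eq A B D']
    exact (Ideal.map_map _ _).symm
  have hunitβ : IsUnit (((algebraMap D' D₂).comp (algebraMap B D')) (algebraMap A B f)) := by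
    rw [RingHom.comp_apply, ← IsScalarTower.algebraMap_apply A B D']
    exact RigCL.isUnit_algebraMap_cLoc _ _
  obtain ⟨β, hβ⟩ := RigUP.exists_lift (I.map (algebraMap A B)) (algebraMap A B f)
    ((I.map (algebraMap A D')).map (algebraMap D' D₂))
    ((algebraMap D' D₂).comp (algebraMap B D')) hKβ hunitβ
  have hψAB' : ∀ a, ψAB (algebraMap A A₁ a) = algebraMap B B₁ (algebraMap A B a) :=
    fun a => hψAB a
  have hα' : ∀ a, α (algebraMap A A₁ a) = algebraMap A C₂ a :=
    fun a => (hα a).trans (IsScalarTower.algebraMap_apply A C' C₂ a).symm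
  have hβ' : ∀ b, β (algebraMap B B₁ b) = algebraMap B D₂ b :=
    fun b => (hβ b).trans (IsScalarTower.algebraMap_apply B D' D₂ b).symm
  obtain ⟨ψ₂, hψ₂def⟩ : ∃ ψ₂ : A₁ →+* D₂, ψ₂ = ψCD.comp α := ⟨_, rfl⟩
  have hψ₂ : ∀ a, ψ₂ (algebraMap A A₁ a) = algebraMap D' D₂ (algebraMap A D' a) := by
    intro a
    rw [hψ₂def, RingHom.comp_apply, hα, RingHom.comp_apply, hψCD,
      ← IsScalarTower.algebraMap_apply A C' D']
  -- algebra instances
  letI algC₂D₂ : Algebra C₂ D₂ := ψCD.toAlgebra
  letI algA₁B₁ : Algebra A₁ B₁ := ψAB.toAlgebra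
  letI algA₁C₂ : Algebra A₁ C₂ := α.toAlgebra
  letI algB₁D₂ : Algebra B₁ D₂ := β.toAlgebra
  letI algA₁D₂ : Algebra A₁ D₂ := ψ₂.toAlgebra
  haveI tAC₂D₂ : IsScalarTower A C₂ D₂ := IsScalarTower.of_algebraMap_eq (fun a => by
    show algebraMap A D₂ a = ψCD (algebraMap A C₂ a)
    rw [IsScalarTower.algebraMap_apply A C' C₂, hψCD, ← IsScalarTower.algebraMap_apply A C' D',
      ← IsScalarTower.algebraMap_apply A D' D₂])
  haveI tAA₁C₂ : IsScalarTower A A₁ C₂ :=
    IsScalarTower.of_algebraMap_eq (fun a => (hα' a).symm)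
  haveI tAA₁B₁ : IsScalarTower A A₁ B₁ := IsScalarTower.of_algebraMap_eq (fun a => by
    show algebraMap A B₁ a = ψAB (algebraMap A A₁ a)
    rw [hψAB', ← IsScalarTower.algebraMap_apply A B B₁])
  haveI tBB₁D₂ : IsScalarTower B B₁ D₂ :=
    IsScalarTower.of_algebraMap_eq (fun b => (hβ' b).symm)
  haveI tA₁C₂D₂ : IsScalarTower A₁ C₂ D₂ := IsScalarTower.of_algebraMap_eq (fun x => by
    show ψ₂ x = ψCD (α x)
    rw [hψ₂def]
    rfl)
  have hβψ : ψ₂ = β.comp ψAB := by
    refine RigUP.lift_unique I f ((I.map (algebraMap A D')).map (algebraMap D' D₂)) ψ₂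
      (β.comp ψAB) (fun a => ?_) ?_
    · rw [hψ₂, RingHom.comp_apply, hψAB', hβ', ← IsScalarTower.algebraMap_apply A B D₂,
        IsScalarTower.algebraMap_apply A D' D₂]
    · have e1 : ψ₂.comp (algebraMap A A₁) = (algebraMap D' D₂).comp (algebraMap A D') :=
        RingHom.ext (fun a => hψ₂ a)
      rw [e1]
      exact (Ideal.map_map _ _).symm.le
  haveI tA₁B₁D₂ : IsScalarTower A₁ B₁ D₂ := IsScalarTower.of_algebraMap_eq (fun x => by
    show ψ₂ x = β (ψAB x)
    rw [hβψ]
    rfl)
  -- the completed tensor product structure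
  have hCT₂ : IsCT A I B C₂ D₂ :=
    RigBC2.isCT_cLoc A I B C' D' (I.map (algebraMap A C')) rfl (I.map (algebraMap A D')) rfl
      (algebraMap A C' f) (algebraMap A D' f) (IsScalarTower.algebraMap_apply A C' D' f) hψCD hCT
  have hCT₁ : IsCT A₁ (I.map (algebraMap A A₁)) B₁ C₂ D₂ :=
    RigBC2.isCT_baseChange A I B C₂ D₂ f hCT₂
  -- hypotheses of the core
  have hmm₂ := RigCL3.map_map_psi I f ψ₂ hψ₂ I
  have hmm₂' : (I.map (algebraMap A A₁)).map (algebraMap A₁ D₂) =
      (I.map (algebraMap A D')).map (algebraMap D' D₂) := hmm₂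
  have hjac : (I.map (algebraMap A A₁)).map (algebraMap A₁ D₂) ≤ Ideal.jacobson ⊥ := by
    rw [hmm₂']
    exact RigCL.le_jacobson_cLoc _ _
  haveI hCD₂' : IsAdicComplete ((I.map (algebraMap A A₁)).map (algebraMap A₁ D₂)) D₂ :=
    RigCL3.isAdicComplete_psi I f ψ₂ hψ₂
  haveI hCB₁' : IsAdicComplete ((I.map (algebraMap A A₁)).map (algebraMap A₁ B₁)) B₁ :=
    RigCL3.isAdicComplete_psi I f ψAB hψAB'
  have hftD₂ : Algebra.FiniteType A₁ (D₂ ⧸ (I.map (algebraMap A A₁)).map (algebraMap A₁ D₂)) :=
    RigCL3.finiteType_quot_psi I f ψ₂ hψ₂ hftD'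
  have hq₂' : ¬ (I.map (algebraMap A A₁)).map (algebraMap A₁ D₂) ≤ q₂.asIdeal ∧
      ∀ y : PrimeSpectrum D₂, q₂ ≤ y →
        ¬ (I.map (algebraMap A A₁)).map (algebraMap A₁ D₂) ≤ y.asIdeal → y = q₂ := by
    rw [hmm₂']
    exact hq₂
  have h29 := Groth.Agent.S8829.result A₁ (I.map (algebraMap A A₁)) D₂ hftD₂ q₂ hq₂'
  have hfinD : Module.Finite A₁ (D₂ ⧸ q₂.asIdeal) := (h29.out 1 2).mp (hp ψ₂ hψ₂)
  have hfin : Module.Finite A₁ (C₂ ⧸ q₂.asIdeal.comap (algebraMap C₂ D₂)) := by
    let ι : (C₂ ⧸ q₂.asIdeal.comap (algebraMap C₂ D₂)) →ₐ[A₁] (D₂ ⧸ q₂.asIdeal) :=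
      Ideal.quotientMapₐ q₂.asIdeal (IsScalarTower.toAlgHom A₁ C₂ D₂) (fun x hx => hx)
    have hι : Function.Injective ι := by
      rw [injective_iff_map_eq_zero]
      intro x hx
      obtain ⟨t, rfl⟩ := Ideal.Quotient.mk_surjective x
      have h1 : Ideal.Quotient.mk q₂.asIdeal (algebraMap C₂ D₂ t) = 0 := hx
      rw [Ideal.Quotient.eq_zero_iff_mem] at h1 ⊢
      exact h1
    exact Module.Finite.of_injective ι.toLinearMap hι
  have hflat : Module.Flat A₁
      (Localization.AtPrime (q₂.asIdeal.comap (algebraMap B₁ D₂))) := by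
    haveI h𝔮B : (q₂.asIdeal.comap (algebraMap B₁ D₂)).IsPrime := Ideal.comap_isPrime _ _
    have hnot : ¬ ((I.map (algebraMap A B)).map (algebraMap B B₁)) ≤
        q₂.asIdeal.comap (algebraMap B₁ D₂) := by
      intro hle
      apply hq₂.1
      have h1 : ((I.map (algebraMap A B)).map (algebraMap B B₁)).map (algebraMap B₁ D₂) ≤
          q₂.asIdeal := Ideal.map_le_iff_le_comap.mpr hle
      have h2 : ((I.map (algebraMap A B)).map (algebraMap B B₁)).map (algebraMap B₁ D₂) =
          (I.map (algebraMap A D')).map (algebraMap D' D₂) := by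
        calc _ = I.map (((algebraMap B₁ D₂).comp (algebraMap B B₁)).comp (algebraMap A B)) :=
              (Ideal.map_map (algebraMap B B₁) (algebraMap B₁ D₂)).trans
                (Ideal.map_map (algebraMap A B) ((algebraMap B₁ D₂).comp (algebraMap B B₁)))
          _ = I.map ((algebraMap D' D₂).comp (algebraMap A D')) := by
              congr 1
              apply RingHom.ext
              intro a
              simp only [RingHom.comp_apply]
              rw [← IsScalarTower.algebraMap_apply B B₁ D₂,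
                ← IsScalarTower.algebraMap_apply A B D₂, IsScalarTower.algebraMap_apply A D' D₂]
          _ = _ := (Ideal.map_map _ _).symm
      rw [← h2]
      exact h1
    obtain ⟨𝔮', hle', hrig⟩ := RigBC1.exists_rigClosed_ge
      ((I.map (algebraMap A B)).map (algebraMap B B₁))
      ⟨q₂.asIdeal.comap (algebraMap B₁ D₂), h𝔮B⟩ hnot
    haveI := 𝔮'.isPrime
    have h3 := hAB f ψAB hψAB' 𝔮' hrig
    have h4 := RigBC1.flat_of_le_prime ψAB (q₂.asIdeal.comap (algebraMap B₁ D₂)) 𝔮'.asIdeal
      hle' h3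
    have h5 : (algebraMap A₁
        (Localization.AtPrime (q₂.asIdeal.comap (algebraMap B₁ D₂)))).Flat := by
      rw [IsScalarTower.algebraMap_eq A₁ B₁
        (Localization.AtPrime (q₂.asIdeal.comap (algebraMap B₁ D₂)))]
      exact h4
    exact RingHom.flat_algebraMap_iff.mp h5
  have hcore := RigBC3.core A₁ (I.map (algebraMap A A₁)) B₁ C₂ D₂ hjac hCT₁ q₂.asIdeal hfin hflat
  have h6 : (algebraMap C₂ (Localization.AtPrime q₂.asIdeal)).Flat :=
    RingHom.flat_algebraMap_iff.mpr hcore
  rw [IsScalarTower.algebraMap_eq C₂ D₂ (Localization.AtPrime q₂.asIdeal)] at h6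
  exact h6

end L2

/-- flatness of `ψ` at the prime `q` of the target, packaged as a (non-reducible) predicate so that
the kernel compares its arguments instead of unfolding it. -/
def FlatAt {C₁ D₁ : Type u} [CommRing C₁] [CommRing D₁] (ψ : C₁ →+* D₁)
    (q : PrimeSpectrum D₁) : Prop :=
  ((algebraMap D₁ (Localization.AtPrime q.asIdeal)).comp ψ).Flat

theorem flatAt_iff {C₁ D₁ : Type u} [CommRing C₁] [CommRing D₁] (ψ : C₁ →+* D₁)
    (q : PrimeSpectrum D₁) :
    FlatAt ψ q ↔ ((algebraMap D₁ (Localization.AtPrime q.asIdeal)).comp ψ).Flat := Iff.rfl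

section L1

variable (A : Type u) [CommRing A] [IsNoetherianRing A] (I : Ideal A) [IsAdicComplete I A]
  (B : Type u) [CommRing B] [Algebra A B] [IsNoetherianRing B]
  [IsAdicComplete (I.map (algebraMap A B)) B]
  (hAB : RigFlat A I B)
  (C DD : Type u) [CommRing C] [CommRing DD] [IsNoetherianRing C] [IsNoetherianRing DD]
  [Algebra A C] [Algebra A DD] [Algebra B DD] [Algebra C DD]
  [IsScalarTower A B DD] [IsScalarTower A C DD]
  (KC : Ideal C) (hKC : KC = I.map (algebraMap A C))
  (KD : Ideal DD) (hKD : KD = I.map (algebraMap A DD))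
  (hftDA : Algebra.FiniteType A (DD ⧸ I.map (algebraMap A DD)))
  (hCT : IsCT A I B C DD) (h : C) (hD : DD) (hh : hD = algebraMap C DD h)

local notation "C₁" => CLoc (R := C) KC h
local notation "D₁" => CLoc (R := DD) KD hD

include hAB hKC hKD hftDA hCT hh in
/-- rig-flatness of `C → D` for a completed tensor product `D`, at a given `h`. -/
theorem rigFlat_at (ψh : C₁ →+* D₁)
    (hψh : ∀ c, ψh (algebraMap C C₁ c) = algebraMap DD D₁ (algebraMap C DD c))
    (q : PrimeSpectrum D₁) (hq : RigClosed (Ideal.map (algebraMap DD D₁) KD) q) :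
    ((algebraMap D₁ (Localization.AtPrime q.asIdeal)).comp ψh).Flat := by
  classical
  haveI := q.isPrime
  haveI hNC₁ := RigCL.isNoetherianRing_cLoc KC h
  haveI hND₁ := RigCL.isNoetherianRing_cLoc KD hD
  haveI hCD₁ := isAdicComplete_layer A I DD KD hKD hD
  have hftD₁ := finiteType_layer A I DD KD hKD hD hftDA
  have hq' : RigClosed (I.map (algebraMap A D₁)) q := by
    rw [← map_layer A I DD KD hKD hD]
    exact hq
  letI algC₁D₁ : Algebra C₁ D₁ := ψh.toAlgebra
  haveI tAC₁D₁ : IsScalarTower A C₁ D₁ := IsScalarTower.of_algebraMap_eq (fun a => by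
    show algebraMap A D₁ a = ψh (algebraMap A C₁ a)
    rw [IsScalarTower.algebraMap_apply A C C₁, hψh, ← IsScalarTower.algebraMap_apply A C DD,
      ← IsScalarTower.algebraMap_apply A DD D₁])
  have hCT₁ : IsCT A I B C₁ D₁ :=
    RigBC2.isCT_cLoc A I B C DD KC hKC KD hKD h hD hh hψh hCT
  obtain ⟨f, hfu, hS⟩ := Groth.Agent.S8840.result A I D₁ hftD₁ q hq'
  haveI hNC₂ := RigCL.isNoetherianRing_cLoc (I.map (algebraMap A C₁)) (algebraMap A C₁ f)
  haveI hND₂ := RigCL.isNoetherianRing_cLoc (I.map (algebraMap A D₁)) (algebraMap A D₁ f)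
  haveI hCD₂ := RigCL.isAdicComplete_cLoc' (I.map (algebraMap A D₁)) (algebraMap A D₁ f)
  have hKψ : (I.map (algebraMap A C₁)).map
      ((algebraMap D₁ (CLoc (R := D₁) (I.map (algebraMap A D₁)) (algebraMap A D₁ f))).comp
        (algebraMap C₁ D₁)) ≤
      (I.map (algebraMap A D₁)).map
        (algebraMap D₁ (CLoc (R := D₁) (I.map (algebraMap A D₁)) (algebraMap A D₁ f))) := by
    apply le_of_eq
    refine (Ideal.map_map (algebraMap A C₁) _).trans ?_
    rw [RingHom.comp_assoc, ← IsScalarTower.algebraMap_eq A C₁ D₁]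
    exact (Ideal.map_map _ _).symm
  have hunitψ : IsUnit (((algebraMap D₁
      (CLoc (R := D₁) (I.map (algebraMap A D₁)) (algebraMap A D₁ f))).comp
        (algebraMap C₁ D₁)) (algebraMap A C₁ f)) := by
    rw [RingHom.comp_apply, ← IsScalarTower.algebraMap_apply A C₁ D₁]
    exact RigCL.isUnit_algebraMap_cLoc _ _
  obtain ⟨ψCD, hψCD⟩ := RigUP.exists_lift (I.map (algebraMap A C₁)) (algebraMap A C₁ f)
    ((I.map (algebraMap A D₁)).map
      (algebraMap D₁ (CLoc (R := D₁) (I.map (algebraMap A D₁)) (algebraMap A D₁ f))))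
    ((algebraMap D₁ (CLoc (R := D₁) (I.map (algebraMap A D₁)) (algebraMap A D₁ f))).comp
      (algebraMap C₁ D₁)) hKψ hunitψ
  obtain ⟨q₂, hq₂as, hq₂rig, hq₂comap⟩ := RigExt.rigClosed_map_cLoc D₁
    (I.map (algebraMap A D₁)) q hq' (algebraMap A D₁ f) hfu
  haveI := q₂.isPrime
  have hp : ∀ ψ₂ : CLoc (R := A) I f →+*
      CLoc (R := D₁) (I.map (algebraMap A D₁)) (algebraMap A D₁ f),
      (∀ a, ψ₂ (algebraMap A (CLoc (R := A) I f) a) =
        algebraMap D₁ (CLoc (R := D₁) (I.map (algebraMap A D₁)) (algebraMap A D₁ f))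
          (algebraMap A D₁ a)) →
      RigClosed (I.map (algebraMap A (CLoc (R := A) I f))) (PrimeSpectrum.comap ψ₂ q₂) := by
    intro ψ₂ hψ₂
    have hSψ := hS ψ₂ (RigUP.comp_form I f (I.map (algebraMap A D₁)) ψ₂ hψ₂)
    have hcm : (PrimeSpectrum.comap ψ₂ q₂).asIdeal =
        (q.asIdeal.map (algebraMap D₁
          (CLoc (R := D₁) (I.map (algebraMap A D₁)) (algebraMap A D₁ f)))).comap ψ₂ := by
      rw [← hq₂as]
      rfl
    refine ⟨?_, ?_⟩
    · rw [hcm]; exact hSψ.2.1
    · intro y hy hIy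
      apply PrimeSpectrum.ext
      rw [hcm]
      refine hSψ.2.2 y ?_ hIy
      rw [← hcm]
      exact hy
  have h1 := naive_at A I B hAB C₁ D₁ hftD₁ hCT₁ f ψCD (fun c' => hψCD c') q₂ hq₂rig hp
  refine RigExt.flat_descent_at ψh
    (algebraMap C₁ (CLoc (R := C₁) (I.map (algebraMap A C₁)) (algebraMap A C₁ f)))
    (algebraMap D₁ (CLoc (R := D₁) (I.map (algebraMap A D₁)) (algebraMap A D₁ f)))
    ψCD ?_ ?_ ?_ q q₂ hq₂comap h1
  · apply RingHom.ext
    intro x
    simp only [RingHom.comp_apply]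
    rw [hψCD]
    rfl
  · rw [RingHom.flat_algebraMap_iff]
    exact RigCL.flat_cLoc _ _
  · rw [RingHom.flat_algebraMap_iff]
    exact RigCL.flat_cLoc _ _

include hAB hKC hKD hftDA hCT hh in
/-- the same, with the conclusion packaged as `FlatAt`. -/
theorem flatAt_at (ψh : C₁ →+* D₁)
    (hψh : ∀ c, ψh (algebraMap C C₁ c) = algebraMap DD D₁ (algebraMap C DD c))
    (q : PrimeSpectrum D₁) (hq : RigClosed (Ideal.map (algebraMap DD D₁) KD) q) :
    FlatAt ψh q :=
  (flatAt_iff ψh q).mpr (rigFlat_at A I B hAB C DD KC hKC KD hKD hftDA hCT h hD hh ψh hψh q hq)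

end L1

section Final

variable (A : Type u) [CommRing A] [IsNoetherianRing A] (I : Ideal A) [IsAdicComplete I A]
  (B : Type u) [CommRing B] [Algebra A B] [IsNoetherianRing B]
  [IsAdicComplete (I.map (algebraMap A B)) B]
  (hft : Algebra.FiniteType A (B ⧸ I.map (algebraMap A B)))
  (hAB : RigFlat A I B)
  (C : Type u) [CommRing C] [Algebra A C] [IsNoetherianRing C]
  (hftC : Algebra.FiniteType A (C ⧸ I.map (algebraMap A C)))

include hft hAB hftC in
/-- rig-flatness is stable under base change along completed tensor products. -/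
theorem rigFlat_CT : RigFlat C (I.map (algebraMap A C)) (CT A I B C) := by
  classical
  have hI : I.FG := IsNoetherian.noetherian I
  haveI := isNoetherianRing_CT A I B C hI hft
  have hftD := finiteType_CT_quot A I B C hI hft
  have hKDeq := RigBC2.map_map_CT A I B C
  have hftDA : Algebra.FiniteType A (CT A I B C ⧸ I.map (algebraMap A (CT A I B C))) := by
    rw [← hKDeq]
    exact RigEtC.finiteType_trans_quot (A := A) (B := C) (C := CT A I B C)
      (I.map (algebraMap A C)) _ le_rfl hftC hftD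
  intro h ψh hψh qh hqh
  exact rigFlat_at A I B hAB C (CT A I B C) (I.map (algebraMap A C)) rfl _ hKDeq hftDA
    (RigBC2.isCT_base A I B C hI) h _ rfl ψh hψh qh hqh

include hft hAB hftC in
/-- rig-flatness of `C → B ⊗̂_A C`, with the conclusion packaged as `FlatAt`. -/
theorem flatAt_CT (h : C)
    (ψh : CLoc (R := C) (I.map (algebraMap A C)) h →+*
      CLoc (R := CT A I B C) ((I.map (algebraMap A C)).map (algebraMap C (CT A I B C)))
        (algebraMap C (CT A I B C) h))
    (hψh : ∀ c, ψh (algebraMap C (CLoc (R := C) (I.map (algebraMap A C)) h) c) =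
      algebraMap (CT A I B C) (CLoc (R := CT A I B C)
        ((I.map (algebraMap A C)).map (algebraMap C (CT A I B C)))
        (algebraMap C (CT A I B C) h)) (algebraMap C (CT A I B C) c))
    (q : PrimeSpectrum (CLoc (R := CT A I B C)
      ((I.map (algebraMap A C)).map (algebraMap C (CT A I B C))) (algebraMap C (CT A I B C) h)))
    (hq : RigClosed (((I.map (algebraMap A C)).map (algebraMap C (CT A I B C))).map
      (algebraMap (CT A I B C) (CLoc (R := CT A I B C)
        ((I.map (algebraMap A C)).map (algebraMap C (CT A I B C)))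
        (algebraMap C (CT A I B C) h)))) q) :
    FlatAt ψh q := by
  classical
  have hI : I.FG := IsNoetherian.noetherian I
  haveI := isNoetherianRing_CT A I B C hI hft
  have hftD := finiteType_CT_quot A I B C hI hft
  have hKDeq := RigBC2.map_map_CT A I B C
  have hftDA : Algebra.FiniteType A (CT A I B C ⧸ I.map (algebraMap A (CT A I B C))) := by
    rw [← hKDeq]
    exact RigEtC.finiteType_trans_quot (A := A) (B := C) (C := CT A I B C)
      (I.map (algebraMap A C)) _ le_rfl hftC hftD
  exact flatAt_at A I B hAB C (CT A I B C) (I.map (algebraMap A C)) rfl _ hKDeq hftDA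
    (RigBC2.isCT_base A I B C hI) h _ rfl ψh hψh q hq

/-- conversion of the rig-closedness hypothesis from the form used in the statements. -/
theorem rigClosed_of_statement {D : Type u} [CommRing D] (K : Ideal D) (g : D)
    (q : PrimeSpectrum (CLoc (R := D) K g))
    (hq : ¬ ((K.map (algebraMap D (Localization.Away g))).map
        (algebraMap (Localization.Away g) (CLoc (R := D) K g))) ≤ q.asIdeal ∧
      ∀ y : PrimeSpectrum (CLoc (R := D) K g), q ≤ y →
        ¬ ((K.map (algebraMap D (Localization.Away g))).map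
          (algebraMap (Localization.Away g) (CLoc (R := D) K g))) ≤ y.asIdeal → y = q) :
    RigClosed (K.map (algebraMap D (CLoc (R := D) K g))) q := by
  rw [CLocBasic.map_map_cLoc] at hq
  exact hq

include hft hAB hftC in
/-- the final form, with the hypotheses as in the statement. -/
theorem final (h : C)
    (ψh : CLoc (R := C) (I.map (algebraMap A C)) h →+*
      CLoc (R := CT A I B C) ((I.map (algebraMap A C)).map (algebraMap C (CT A I B C)))
        (algebraMap C (CT A I B C) h))
    (hψh : ψh.comp (algebraMap (Localization.Away h) (CLoc (R := C) (I.map (algebraMap A C)) h)) =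
      (algebraMap (Localization.Away (algebraMap C (CT A I B C) h))
        (CLoc (R := CT A I B C) ((I.map (algebraMap A C)).map (algebraMap C (CT A I B C)))
          (algebraMap C (CT A I B C) h))).comp
        (Localization.awayMap (algebraMap C (CT A I B C)) h))
    (q : PrimeSpectrum (CLoc (R := CT A I B C)
      ((I.map (algebraMap A C)).map (algebraMap C (CT A I B C))) (algebraMap C (CT A I B C) h)))
    (hq : ¬ ((((I.map (algebraMap A C)).map (algebraMap C (CT A I B C))).map
        (algebraMap (CT A I B C) (Localization.Away (algebraMap C (CT A I B C) h)))).map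
        (algebraMap (Localization.Away (algebraMap C (CT A I B C) h))
          (CLoc (R := CT A I B C) ((I.map (algebraMap A C)).map (algebraMap C (CT A I B C)))
            (algebraMap C (CT A I B C) h)))) ≤ q.asIdeal ∧
      ∀ y : PrimeSpectrum (CLoc (R := CT A I B C)
        ((I.map (algebraMap A C)).map (algebraMap C (CT A I B C))) (algebraMap C (CT A I B C) h)),
        q ≤ y →
        ¬ ((((I.map (algebraMap A C)).map (algebraMap C (CT A I B C))).map
          (algebraMap (CT A I B C) (Localization.Away (algebraMap C (CT A I B C) h)))).map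
          (algebraMap (Localization.Away (algebraMap C (CT A I B C) h))
            (CLoc (R := CT A I B C) ((I.map (algebraMap A C)).map (algebraMap C (CT A I B C)))
              (algebraMap C (CT A I B C) h)))) ≤ y.asIdeal → y = q) :
    ((algebraMap (CLoc (R := CT A I B C)
      ((I.map (algebraMap A C)).map (algebraMap C (CT A I B C))) (algebraMap C (CT A I B C) h))
      (Localization.AtPrime q.asIdeal)).comp ψh).Flat := by
  have hI : I.FG := IsNoetherian.noetherian I
  haveI := isNoetherianRing_CT A I B C hI hft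
  have hmain := rigFlat_CT A I B hft hAB C hftC
  have hq' := rigClosed_of_statement
    ((I.map (algebraMap A C)).map (algebraMap C (CT A I B C))) (algebraMap C (CT A I B C) h) q hq
  have hc := RigCL3.compat_of_comp (I.map (algebraMap A C)) h ψh hψh
  exact hmain h ψh hc q hq'

end Final

/-- transport of flatness at a prime along ring isomorphisms (used with identity isomorphisms
between definitionally equal but syntactically different presentations of the same rings). -/
theorem transport {C₁ D₁ C₂ D₂ : Type u} [CommRing C₁] [CommRing D₁] [CommRing C₂] [CommRing D₂]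
    {ψ₁ : C₁ →+* D₁} {q₁ : PrimeSpectrum D₁}
    (h : ((algebraMap D₁ (Localization.AtPrime q₁.asIdeal)).comp ψ₁).Flat)
    (ψ₂ : C₂ →+* D₂) (q₂ : PrimeSpectrum D₂)
    (eC : C₂ ≃+* C₁) (eD : D₂ ≃+* D₁)
    (hcomm : ∀ x, ψ₁ (eC x) = eD (ψ₂ x))
    (hq : ∀ x, x ∈ q₂.asIdeal ↔ eD x ∈ q₁.asIdeal) :
    ((algebraMap D₂ (Localization.AtPrime q₂.asIdeal)).comp ψ₂).Flat := by
  refine RigExt.flat_descent_at ψ₂ eC.toRingHom eD.toRingHom ψ₁ ?_
    (RingHom.Flat.of_bijective eC.bijective) (RingHom.Flat.of_bijective eD.bijective) q₂ q₁ ?_ h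
  · ext x
    exact hcomm x
  · ext x
    exact (hq x).symm

end Groth.Agent.Lib.Helper27.RigBC4
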