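import Mathlib
import Groth.Agent.S8835
import Groth.Agent.S8837
import Groth.Agent.Lib.Helper27.RigCL

/-!
Rig-closed primes and completed principal localizations.
-/

set_option autoImplicit false
universe u

namespace Groth.Agent.Lib.Helper27.RigCL2

open AdicRing
open Groth.Agent.Lib.Helper27 Groth.Agent.Lib.Helper27.CLocBasic Groth.Agent.Lib.Helper27.RigCL

/-- `B / I B` is Jacobson if `A / I` is and `B / I B` is of finite type over `A`. -/
theorem isJacobsonRing_quot_map {A B : Type u} [CommRing A] [CommRing B] [Algebra A B] (I : Ideal A)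
    (hft : Algebra.FiniteType A (B ⧸ I.map (algebraMap A B))) (hJ : IsJacobsonRing (A ⧸ I)) :
    IsJacobsonRing (B ⧸ I.map (algebraMap A B)) := by
  have hIm : ∀ a ∈ I, algebraMap A (B ⧸ I.map (algebraMap A B)) a = 0 := by
    intro a ha
    show Ideal.Quotient.mk _ (algebraMap A B a) = 0
    exact Ideal.Quotient.eq_zero_iff_mem.mpr (Ideal.mem_map_of_mem _ ha)
  letI : Algebra (A ⧸ I) (B ⧸ I.map (algebraMap A B)) :=
    (Ideal.Quotient.lift I (algebraMap A _) hIm).toAlgebra
  haveI : IsScalarTower A (A ⧸ I) (B ⧸ I.map (algebraMap A B)) :=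
    IsScalarTower.of_algebraMap_eq (fun a => rfl)
  haveI := hft
  haveI : Algebra.FiniteType (A ⧸ I) (B ⧸ I.map (algebraMap A B)) :=
    Algebra.FiniteType.of_restrictScalars_finiteType A _ _
  exact isJacobsonRing_of_finiteType (A := A ⧸ I)

/-- Jacobson case: the inverse image in `B` of a rig-closed prime of `B⟨g⁻¹⟩` is rig-closed. -/
theorem rigClosed_comap_cLoc {B : Type u} [CommRing B] [IsNoetherianRing B] (K : Ideal B)
    [IsAdicComplete K B] (hJ : IsJacobsonRing (B ⧸ K)) (g : B)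
    (q' : PrimeSpectrum (CLoc (R := B) K g))
    (hq' : ¬ (K.map (algebraMap B (Localization.Away g))).map
        (algebraMap (Localization.Away g) (CLoc (R := B) K g)) ≤ q'.asIdeal ∧
      ∀ y : PrimeSpectrum (CLoc (R := B) K g), q' ≤ y →
        ¬ (K.map (algebraMap B (Localization.Away g))).map
          (algebraMap (Localization.Away g) (CLoc (R := B) K g)) ≤ y.asIdeal → y = q') :
    ¬ K ≤ (PrimeSpectrum.comap (algebraMap B (CLoc (R := B) K g)) q').asIdeal ∧
      ∀ y : PrimeSpectrum B, PrimeSpectrum.comap (algebraMap B (CLoc (R := B) K g)) q' ≤ y →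
        ¬ K ≤ y.asIdeal → y = PrimeSpectrum.comap (algebraMap B (CLoc (R := B) K g)) q' := by
  haveI := isNoetherianRing_cLoc K g
  haveI := isAdicComplete_cLoc' K g
  have hft := finiteType_quot K g
  rw [map_map_cLoc (R := B) K g K] at hq'
  exact Groth.Agent.S8835.result B K (CLoc (R := B) K g) hft q' hq' hJ

/-- an element becoming a unit in a ring where `I` lies in the radical is a unit modulo any
rig-closed prime lying under a prime of that ring. -/
theorem isUnit_mk_of_rigClosed {A : Type u} [CommRing A] [IsNoetherianRing A] (I : Ideal A)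
    [IsAdicComplete I A] (p : PrimeSpectrum A)
    (hp : ¬ I ≤ p.asIdeal ∧ ∀ y : PrimeSpectrum A, p ≤ y → ¬ I ≤ y.asIdeal → y = p)
    {E : Type*} [CommRing E] (γ : A →+* E) (Q : Ideal E) [Q.IsPrime]
    (hpQ : p.asIdeal ≤ Q.comap γ) (hjac : I.map γ ≤ Ideal.jacobson ⊥) (f : A)
    (hf : IsUnit (γ f)) : IsUnit (Ideal.Quotient.mk p.asIdeal f) := by
  by_contra hnu
  obtain ⟨M, hM, hfM⟩ := exists_max_ideal_of_mem_nonunits hnu
  have h3 := ((Groth.Agent.S8804.result A I p).out 0 2).mp hp
  have hMrad := h3.2.1 M hM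
  rw [hMrad] at hfM
  obtain ⟨k, hk⟩ := hfM
  rw [← map_pow] at hk
  obtain ⟨i, hi, hik⟩ := (Ideal.mem_map_iff_of_surjective _ Ideal.Quotient.mk_surjective).mp hk
  have hdiff : f ^ k - i ∈ p.asIdeal := Ideal.Quotient.eq.mp hik.symm
  have h1 : γ (f ^ k - i) ∈ Q := hpQ hdiff
  have h2 : γ i ∈ Ideal.jacobson (⊥ : Ideal E) := hjac (Ideal.mem_map_of_mem _ hi)
  have hu : IsUnit (γ (f ^ k)) := by rw [map_pow]; exact hf.pow k
  have hunit : IsUnit (γ (f ^ k - i)) := by
    rw [map_sub]
    obtain ⟨u, hu'⟩ := hu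
    have h4 := (Ideal.mem_jacobson_bot.mp h2) (-(↑u⁻¹ : E))
    have e : γ (f ^ k) - γ i = (u : E) * (γ i * (-(↑u⁻¹ : E)) + 1) := by
      rw [← hu']
      have : (u : E) * (↑u⁻¹ : E) = 1 := u.mul_inv
      linear_combination (γ i) * this
    rw [e]
    exact u.isUnit.mul h4
  exact (‹Q.IsPrime›.ne_top) (Ideal.eq_top_of_isUnit_mem _ h1 hunit)

end Groth.Agent.Lib.Helper27.RigCL2
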