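import Mathlib
import Groth.Agent.S0543
import Groth.Agent.S8829
import Groth.Agent.Lib.Helper27.CplTensorC
import Groth.Agent.Lib.Helper15.ComplSemilocal

/-!
`I`-adic completions `Cpl I P` of Noetherian algebras `P` over an adic Noetherian ring `(A, I)`
(e.g. restricted power series), rig-closed primes in them, and a local algebra lemma: a flat local
homomorphism with trivial closed fibre and trivial residue extension is bijective modulo powers of
the maximal ideals.
-/

set_option autoImplicit false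
universe u

namespace Groth.Agent.Lib.Helper27.RigRP

open Groth.Agent.Lib.Helper27 Groth.Agent.Lib.Helper15

section Local

theorem bijective_mod_pow {S S' : Type*} [CommRing S] [CommRing S'] [IsLocalRing S]
    [IsLocalRing S'] (φ : S →+* S') (hflat : φ.Flat)
    (hmap : (IsLocalRing.maximalIdeal S).map φ = IsLocalRing.maximalIdeal S')
    (hres : ∀ y : S', ∃ x : S, y - φ x ∈ IsLocalRing.maximalIdeal S') (k : ℕ) :
    (∀ x : S, φ x ∈ IsLocalRing.maximalIdeal S' ^ k → x ∈ IsLocalRing.maximalIdeal S ^ k) ∧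
    (∀ y : S', ∃ x : S, y - φ x ∈ IsLocalRing.maximalIdeal S' ^ k) := by
  letI := φ.toAlgebra
  haveI : Module.Flat S S' := hflat
  haveI : IsLocalHom (algebraMap S S') := by
    constructor
    intro a ha
    by_contra hna
    have h1 : a ∈ IsLocalRing.maximalIdeal S := (IsLocalRing.mem_maximalIdeal a).mpr hna
    have h2 : φ a ∈ IsLocalRing.maximalIdeal S' := by
      rw [← hmap]; exact Ideal.mem_map_of_mem _ h1
    exact (IsLocalRing.mem_maximalIdeal _).mp h2 ha
  haveI : Module.FaithfullyFlat S S' := Module.FaithfullyFlat.of_flat_of_isLocalHom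
  have hpow : ∀ j, (IsLocalRing.maximalIdeal S ^ j).map φ = IsLocalRing.maximalIdeal S' ^ j := by
    intro j; rw [Ideal.map_pow, hmap]
  constructor
  · intro x hx
    rw [← hpow] at hx
    have h := Ideal.comap_map_eq_self_of_faithfullyFlat (B := S') (IsLocalRing.maximalIdeal S ^ k)
    rw [← h]
    exact hx
  · induction k with
    | zero => intro y; exact ⟨0, by rw [pow_zero, Ideal.one_eq_top]; trivial⟩
    | succ k ih =>
      have key : ∀ d ∈ (IsLocalRing.maximalIdeal S ^ k).map φ,
          ∃ x : S, d - φ x ∈ IsLocalRing.maximalIdeal S' ^ (k + 1) := by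
        intro d hd
        induction hd using Submodule.span_induction with
        | mem d hd =>
          obtain ⟨a, -, rfl⟩ := hd
          exact ⟨a, by rw [sub_self]; exact Ideal.zero_mem _⟩
        | zero => exact ⟨0, by rw [map_zero, sub_self]; exact Ideal.zero_mem _⟩
        | add d₁ d₂ _ _ h₁ h₂ =>
          obtain ⟨x₁, h₁⟩ := h₁
          obtain ⟨x₂, h₂⟩ := h₂
          refine ⟨x₁ + x₂, ?_⟩
          have e : d₁ + d₂ - φ (x₁ + x₂) = (d₁ - φ x₁) + (d₂ - φ x₂) := by rw [map_add]; ring
          rw [e]; exact Ideal.add_mem _ h₁ h₂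
        | smul s d₀ hd₀ h₀ =>
          obtain ⟨x₀, h₀⟩ := h₀
          obtain ⟨t, ht⟩ := hres s
          refine ⟨t * x₀, ?_⟩
          have e : s • d₀ - φ (t * x₀) = φ t * (d₀ - φ x₀) + (s - φ t) * d₀ := by
            rw [map_mul, smul_eq_mul]; ring
          rw [e]
          refine Ideal.add_mem _ (Ideal.mul_mem_left _ _ h₀) ?_
          rw [pow_succ']
          refine Ideal.mul_mem_mul ht ?_
          rw [← hpow]; exact hd₀
      intro y
      obtain ⟨x, hx⟩ := ih y
      rw [← hpow] at hx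
      obtain ⟨x', hx'⟩ := key _ hx
      refine ⟨x + x', ?_⟩
      have e : y - φ (x + x') = (y - φ x) - φ x' := by rw [map_add]; ring
      rw [e]; exact hx'

end Local

variable {A : Type u} [CommRing A] [IsNoetherianRing A] (I : Ideal A) (P : Type u) [CommRing P]
  [Algebra A P] [IsNoetherianRing P]

/-- the `I`-adic completion of an `A`-algebra. -/
abbrev Cpl : Type u := AdicCompletion (I.map (algebraMap A P)) P

instance isScalarTower_cpl : IsScalarTower A P (Cpl I P) :=
  IsScalarTower.of_algebraMap_eq (fun _ => rfl)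

omit [IsNoetherianRing A] [IsNoetherianRing P] in
lemma map_map_cpl (K : Ideal A) :
    (K.map (algebraMap A P)).map (algebraMap P (Cpl I P)) = K.map (algebraMap A (Cpl I P)) := by
  rw [Ideal.map_map]
  rfl

omit [IsNoetherianRing A] in
theorem isNoetherianRing_cpl : IsNoetherianRing (Cpl I P) := Groth.Agent.S0543.result _ _

omit [IsNoetherianRing P] in
theorem isAdicComplete_cpl : IsAdicComplete (I.map (algebraMap A (Cpl I P))) (Cpl I P) := by
  have h := AdicCompletion.isAdicComplete_self (I.map (algebraMap A P))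
    (Ideal.FG.map (IsNoetherian.noetherian I) _)
  rw [map_map_cpl] at h
  exact h

omit [IsNoetherianRing P] in
theorem exists_sub_mem (r : Cpl I P) :
    ∃ t : P, r - algebraMap P (Cpl I P) t ∈ I.map (algebraMap A (Cpl I P)) := by
  obtain ⟨t, ht⟩ := CplTensorC.exists_sub_mem_pow (I.map (algebraMap A P))
    (Ideal.FG.map (IsNoetherian.noetherian I) _) 1 r
  refine ⟨t, ?_⟩
  rw [pow_one, map_map_cpl] at ht
  exact ht

omit [IsNoetherianRing P] in
theorem finiteType_quot [Algebra.FiniteType A P] :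
    Algebra.FiniteType A (Cpl I P ⧸ I.map (algebraMap A (Cpl I P))) := by
  let φ : P →ₐ[A] (Cpl I P ⧸ I.map (algebraMap A (Cpl I P))) :=
    (Ideal.Quotient.mkₐ A _).comp (IsScalarTower.toAlgHom A P (Cpl I P))
  refine Algebra.FiniteType.of_surjective φ ?_
  intro z
  obtain ⟨r, rfl⟩ := Ideal.Quotient.mk_surjective z
  obtain ⟨t, ht⟩ := exists_sub_mem I P r
  exact ⟨t, (Ideal.Quotient.eq.mpr ht).symm⟩

omit [IsNoetherianRing A] [IsNoetherianRing P] in
lemma map_quot_eq (Q : Ideal (Cpl I P)) :
    I.map (algebraMap A (Cpl I P ⧸ Q)) =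
      (I.map (algebraMap A (Cpl I P))).map (Ideal.Quotient.mk Q) := by
  rw [Ideal.map_map]
  rfl

theorem map_comap_eq_of_rigClosed [IsAdicComplete I A] [Algebra.FiniteType A P]
    (q : PrimeSpectrum (Cpl I P))
    (hq : ¬ I.map (algebraMap A (Cpl I P)) ≤ q.asIdeal ∧ ∀ y : PrimeSpectrum (Cpl I P), q ≤ y →
      ¬ I.map (algebraMap A (Cpl I P)) ≤ y.asIdeal → y = q)
    (hp : ¬ I ≤ (PrimeSpectrum.comap (algebraMap A (Cpl I P)) q).asIdeal ∧
      ∀ y : PrimeSpectrum A, PrimeSpectrum.comap (algebraMap A (Cpl I P)) q ≤ y →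
        ¬ I ≤ y.asIdeal → y = PrimeSpectrum.comap (algebraMap A (Cpl I P)) q) :
    (q.asIdeal.comap (algebraMap P (Cpl I P))).map (algebraMap P (Cpl I P)) = q.asIdeal ∧
    ∀ r : Cpl I P, ∃ t : P, r - algebraMap P (Cpl I P) t ∈ q.asIdeal := by
  classical
  haveI := q.isPrime
  haveI := isNoetherianRing_cpl I P
  haveI := isAdicComplete_cpl I P
  have hft := finiteType_quot I P
  have h29 := Groth.Agent.S8829.result A I (Cpl I P) hft q hq
  have hfinq : Module.Finite A (Cpl I P ⧸ q.asIdeal) := (h29.out 1 2).mp hp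
  obtain ⟨q', hq'⟩ : ∃ q' : Ideal P, q' = q.asIdeal.comap (algebraMap P (Cpl I P)) := ⟨_, rfl⟩
  obtain ⟨Q, hQ⟩ : ∃ Q : Ideal (Cpl I P), Q = q'.map (algebraMap P (Cpl I P)) := ⟨_, rfl⟩
  rw [← hq', ← hQ]
  have hQq : Q ≤ q.asIdeal := by rw [hQ, hq']; exact Ideal.map_comap_le
  -- `P ⧸ q'` is finite over `A`
  have hle : q' ≤ q.asIdeal.comap (IsScalarTower.toAlgHom A P (Cpl I P)) := by rw [hq']; rfl
  let ι : (P ⧸ q') →ₐ[A] (Cpl I P ⧸ q.asIdeal) :=
    Ideal.quotientMapₐ q.asIdeal (IsScalarTower.toAlgHom A P (Cpl I P)) hle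
  have hι : Function.Injective ι := by
    rw [injective_iff_map_eq_zero]
    intro x hx
    obtain ⟨t, rfl⟩ := Ideal.Quotient.mk_surjective x
    have h1 : Ideal.Quotient.mk q.asIdeal (algebraMap P (Cpl I P) t) = 0 := hx
    rw [Ideal.Quotient.eq_zero_iff_mem] at h1 ⊢
    rw [hq']
    exact h1
  haveI : Module.Finite A (P ⧸ q') := Module.Finite.of_injective ι.toLinearMap hι
  -- `D = R ⧸ Q`
  have hjacR : I.map (algebraMap A (Cpl I P)) ≤ Ideal.jacobson ⊥ :=
    IsAdicComplete.le_jacobson_bot _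
  have hjacD : I.map (algebraMap A (Cpl I P ⧸ Q)) ≤ Ideal.jacobson ⊥ := by
    rw [map_quot_eq]
    exact (Ideal.map_mono hjacR).trans
      (CplTensorC.map_jacobson_le (Ideal.Quotient.mk Q) Ideal.Quotient.mk_surjective)
  haveI : IsHausdorff (I.map (algebraMap A (Cpl I P ⧸ Q))) (Cpl I P ⧸ Q) :=
    IsHausdorff.of_le_jacobson _ _ hjacD
  have hmem : ∀ e ∈ I.map (algebraMap A (Cpl I P)),
      Ideal.Quotient.mk Q e ∈ I.map (algebraMap A (Cpl I P ⧸ Q)) := by
    intro e he
    rw [map_quot_eq]
    exact Ideal.mem_map_of_mem _ he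
  let g₀ : P →ₐ[A] ((Cpl I P ⧸ Q) ⧸ I.map (algebraMap A (Cpl I P ⧸ Q))) :=
    (Ideal.Quotient.mkₐ A _).comp
      ((Ideal.Quotient.mkₐ A Q).comp (IsScalarTower.toAlgHom A P (Cpl I P)))
  have hg₀ : ∀ x ∈ q', g₀ x = 0 := by
    intro x hx
    show Ideal.Quotient.mk _ (Ideal.Quotient.mk Q (algebraMap P _ x)) = 0
    have : algebraMap P (Cpl I P) x ∈ Q := by rw [hQ]; exact Ideal.mem_map_of_mem _ hx
    rw [Ideal.Quotient.eq_zero_iff_mem.mpr this, map_zero]
  let g : (P ⧸ q') →ₐ[A] ((Cpl I P ⧸ Q) ⧸ I.map (algebraMap A (Cpl I P ⧸ Q))) :=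
    Ideal.Quotient.liftₐ q' g₀ hg₀
  have hgsurj : Function.Surjective g := by
    intro z
    obtain ⟨d, rfl⟩ := Ideal.Quotient.mk_surjective z
    obtain ⟨r, rfl⟩ := Ideal.Quotient.mk_surjective d
    obtain ⟨t, ht⟩ := exists_sub_mem I P r
    refine ⟨Ideal.Quotient.mk q' t, ?_⟩
    show Ideal.Quotient.mk _ (Ideal.Quotient.mk Q (algebraMap P _ t)) = _
    symm
    apply Ideal.Quotient.eq.mpr
    rw [← map_sub]
    exact hmem _ ht
  haveI : Module.Finite A ((Cpl I P ⧸ Q) ⧸ I.map (algebraMap A (Cpl I P ⧸ Q))) :=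
    Module.Finite.of_surjective g.toLinearMap hgsurj
  haveI hDfin : Module.Finite A (Cpl I P ⧸ Q) := ComplSemilocal.finite_of_quot_finite I _
  -- surjectivity of `P → D` via Nakayama
  let h₀ : P →ₗ[A] (Cpl I P ⧸ Q) :=
    ((Ideal.Quotient.mkₐ A Q).comp (IsScalarTower.toAlgHom A P (Cpl I P))).toLinearMap
  have htop : (⊤ : Submodule A (Cpl I P ⧸ Q)) ≤ LinearMap.range h₀ := by
    apply Submodule.le_of_le_smul_of_le_jacobson_bot Module.Finite.fg_top
      (IsAdicComplete.le_jacobson_bot I)
    intro d _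
    obtain ⟨r, rfl⟩ := Ideal.Quotient.mk_surjective d
    obtain ⟨t, ht⟩ := exists_sub_mem I P r
    rw [Submodule.mem_sup]
    refine ⟨h₀ t, ⟨t, rfl⟩, Ideal.Quotient.mk Q (r - algebraMap P _ t), ?_, ?_⟩
    · rw [Ideal.smul_top_eq_map]
      exact hmem _ ht
    · show Ideal.Quotient.mk Q (algebraMap P _ t) + Ideal.Quotient.mk Q (r - algebraMap P _ t) =
        Ideal.Quotient.mk Q r
      rw [← map_add]
      congr 1
      ring
  have hsurj : ∀ r : Cpl I P, ∃ t : P, r - algebraMap P (Cpl I P) t ∈ Q := by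
    intro r
    obtain ⟨t, ht⟩ := htop (Submodule.mem_top : Ideal.Quotient.mk Q r ∈ ⊤)
    refine ⟨t, ?_⟩
    have h1 : Ideal.Quotient.mk Q (algebraMap P (Cpl I P) t) = Ideal.Quotient.mk Q r := ht
    exact Ideal.Quotient.eq.mp h1.symm
  have hqQ : q.asIdeal ≤ Q := by
    intro r hr
    obtain ⟨t, ht⟩ := hsurj r
    have h1 : algebraMap P (Cpl I P) t ∈ q.asIdeal := by
      have h := Ideal.sub_mem _ hr (hQq ht)
      have e : r - (r - algebraMap P (Cpl I P) t) = algebraMap P (Cpl I P) t := by ring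
      rw [e] at h
      exact h
    have h2 : t ∈ q' := by rw [hq']; exact h1
    have h3 : algebraMap P (Cpl I P) t ∈ Q := by rw [hQ]; exact Ideal.mem_map_of_mem _ h2
    have h := Ideal.add_mem _ ht h3
    have e : r - algebraMap P (Cpl I P) t + algebraMap P (Cpl I P) t = r := by ring
    rw [e] at h
    exact h
  have hEq : Q = q.asIdeal := le_antisymm hQq hqQ
  refine ⟨hEq, fun r => ?_⟩
  obtain ⟨t, ht⟩ := hsurj r
  exact ⟨t, hEq ▸ ht⟩

theorem localRingHom_facts (q : PrimeSpectrum (Cpl I P))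
    (h1 : (q.asIdeal.comap (algebraMap P (Cpl I P))).map (algebraMap P (Cpl I P)) = q.asIdeal)
    (h2 : ∀ r : Cpl I P, ∃ t : P, r - algebraMap P (Cpl I P) t ∈ q.asIdeal) :
    (Localization.localRingHom (q.asIdeal.comap (algebraMap P (Cpl I P))) q.asIdeal
      (algebraMap P (Cpl I P)) rfl).Flat ∧
    (IsLocalRing.maximalIdeal (Localization.AtPrime
      (q.asIdeal.comap (algebraMap P (Cpl I P))))).map
      (Localization.localRingHom (q.asIdeal.comap (algebraMap P (Cpl I P))) q.asIdeal
      (algebraMap P (Cpl I P)) rfl) = IsLocalRing.maximalIdeal (Localization.AtPrime q.asIdeal) ∧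
    ∀ y : Localization.AtPrime q.asIdeal,
      ∃ x : Localization.AtPrime (q.asIdeal.comap (algebraMap P (Cpl I P))),
      y - Localization.localRingHom (q.asIdeal.comap (algebraMap P (Cpl I P))) q.asIdeal
      (algebraMap P (Cpl I P)) rfl x ∈ IsLocalRing.maximalIdeal (Localization.AtPrime q.asIdeal) := by
  classical
  haveI := q.isPrime
  obtain ⟨q', hq'⟩ : ∃ q' : Ideal P, q' = q.asIdeal.comap (algebraMap P (Cpl I P)) := ⟨_, rfl⟩
  have hcomp : (Localization.localRingHom (q.asIdeal.comap (algebraMap P (Cpl I P))) q.asIdeal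
      (algebraMap P (Cpl I P)) rfl).comp (algebraMap P (Localization.AtPrime
      (q.asIdeal.comap (algebraMap P (Cpl I P))))) =
      (algebraMap (Cpl I P) (Localization.AtPrime q.asIdeal)).comp (algebraMap P (Cpl I P)) :=
    RingHom.ext (fun x => Localization.localRingHom_to_map _ _ _ rfl x)
  refine ⟨?_, ?_, ?_⟩
  · refine RingHom.Flat.localRingHom ?_ _ _ rfl
    rw [RingHom.flat_algebraMap_iff]
    exact AdicCompletion.flat_of_isNoetherian _
  · calc (IsLocalRing.maximalIdeal (Localization.AtPrime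
          (q.asIdeal.comap (algebraMap P (Cpl I P))))).map
          (Localization.localRingHom (q.asIdeal.comap (algebraMap P (Cpl I P))) q.asIdeal
          (algebraMap P (Cpl I P)) rfl)
        = ((q.asIdeal.comap (algebraMap P (Cpl I P))).map (algebraMap P (Localization.AtPrime
          (q.asIdeal.comap (algebraMap P (Cpl I P)))))).map
          (Localization.localRingHom (q.asIdeal.comap (algebraMap P (Cpl I P))) q.asIdeal
          (algebraMap P (Cpl I P)) rfl) := by
          rw [Localization.AtPrime.map_eq_maximalIdeal]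
      _ = (q.asIdeal.comap (algebraMap P (Cpl I P))).map
          ((Localization.localRingHom (q.asIdeal.comap (algebraMap P (Cpl I P))) q.asIdeal
          (algebraMap P (Cpl I P)) rfl).comp (algebraMap P (Localization.AtPrime
          (q.asIdeal.comap (algebraMap P (Cpl I P)))))) := Ideal.map_map _ _
      _ = (q.asIdeal.comap (algebraMap P (Cpl I P))).map
          ((algebraMap (Cpl I P) (Localization.AtPrime q.asIdeal)).comp
            (algebraMap P (Cpl I P))) := by rw [hcomp]
      _ = ((q.asIdeal.comap (algebraMap P (Cpl I P))).map (algebraMap P (Cpl I P))).map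
          (algebraMap (Cpl I P) (Localization.AtPrime q.asIdeal)) := (Ideal.map_map _ _).symm
      _ = q.asIdeal.map (algebraMap (Cpl I P) (Localization.AtPrime q.asIdeal)) := by rw [h1]
      _ = IsLocalRing.maximalIdeal (Localization.AtPrime q.asIdeal) :=
          Localization.AtPrime.map_eq_maximalIdeal
  · intro y
    obtain ⟨r, s, rfl⟩ := IsLocalization.exists_mk'_eq q.asIdeal.primeCompl y
    obtain ⟨a, ha⟩ := h2 r
    obtain ⟨b, hb⟩ := h2 s.1
    have hbq : b ∉ q.asIdeal.comap (algebraMap P (Cpl I P)) := by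
      intro hbm
      rw [Ideal.mem_comap] at hbm
      apply s.2
      have h := Ideal.add_mem _ hb hbm
      have e : (s : Cpl I P) - algebraMap P (Cpl I P) b + algebraMap P (Cpl I P) b = s := by ring
      rw [e] at h
      exact h
    refine ⟨IsLocalization.mk' _ a
      (⟨b, hbq⟩ : (q.asIdeal.comap (algebraMap P (Cpl I P))).primeCompl), ?_⟩
    rw [Localization.localRingHom_mk']
    have hbq' : algebraMap P (Cpl I P) b ∈ q.asIdeal.primeCompl := hbq
    have hu : IsUnit (algebraMap (Cpl I P) (Localization.AtPrime q.asIdeal) s) :=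
      IsLocalization.map_units _ s
    have hv : IsUnit (algebraMap (Cpl I P) (Localization.AtPrime q.asIdeal)
        (algebraMap P (Cpl I P) b)) :=
      IsLocalization.map_units _ (⟨_, hbq'⟩ : q.asIdeal.primeCompl)
    have e1 : algebraMap (Cpl I P) (Localization.AtPrime q.asIdeal) s *
        IsLocalization.mk' (Localization.AtPrime q.asIdeal) r s =
        algebraMap (Cpl I P) (Localization.AtPrime q.asIdeal) r :=
      IsLocalization.mk'_spec' _ _ _
    have e2 : algebraMap (Cpl I P) (Localization.AtPrime q.asIdeal) (algebraMap P (Cpl I P) b) *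
        IsLocalization.mk' (Localization.AtPrime q.asIdeal) (algebraMap P (Cpl I P) a)
          (⟨algebraMap P (Cpl I P) b, hbq'⟩ : q.asIdeal.primeCompl) =
        algebraMap (Cpl I P) (Localization.AtPrime q.asIdeal) (algebraMap P (Cpl I P) a) :=
      IsLocalization.mk'_spec' (Localization.AtPrime q.asIdeal) (algebraMap P (Cpl I P) a)
        (⟨algebraMap P (Cpl I P) b, hbq'⟩ : q.asIdeal.primeCompl)
    have hw : algebraMap P (Cpl I P) b * r - s * algebraMap P (Cpl I P) a ∈ q.asIdeal := by
      have e : algebraMap P (Cpl I P) b * r - s * algebraMap P (Cpl I P) a =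
          algebraMap P (Cpl I P) b * (r - algebraMap P (Cpl I P) a) -
          ((s : Cpl I P) - algebraMap P (Cpl I P) b) * algebraMap P (Cpl I P) a := by ring
      rw [e]
      exact Ideal.sub_mem _ (Ideal.mul_mem_left _ _ ha) (Ideal.mul_mem_right _ _ hb)
    have h3 : algebraMap (Cpl I P) (Localization.AtPrime q.asIdeal) s *
        algebraMap (Cpl I P) (Localization.AtPrime q.asIdeal) (algebraMap P (Cpl I P) b) *
        (IsLocalization.mk' (Localization.AtPrime q.asIdeal) r s -
          IsLocalization.mk' (Localization.AtPrime q.asIdeal) (algebraMap P (Cpl I P) a)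
          (⟨algebraMap P (Cpl I P) b, hbq'⟩ : q.asIdeal.primeCompl)) ∈
        IsLocalRing.maximalIdeal (Localization.AtPrime q.asIdeal) := by
      have e : algebraMap (Cpl I P) (Localization.AtPrime q.asIdeal) s *
        algebraMap (Cpl I P) (Localization.AtPrime q.asIdeal) (algebraMap P (Cpl I P) b) *
        (IsLocalization.mk' (Localization.AtPrime q.asIdeal) r s -
          IsLocalization.mk' (Localization.AtPrime q.asIdeal) (algebraMap P (Cpl I P) a)
          (⟨algebraMap P (Cpl I P) b, hbq'⟩ : q.asIdeal.primeCompl)) =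
        algebraMap (Cpl I P) (Localization.AtPrime q.asIdeal)
          (algebraMap P (Cpl I P) b * r - s * algebraMap P (Cpl I P) a) := by
        rw [map_sub, map_mul, map_mul, ← e1, ← e2]
        ring
      rw [e, IsLocalization.AtPrime.to_map_mem_maximal_iff _ q.asIdeal]
      exact hw
    exact (Ideal.unit_mul_mem_iff_mem _ (hu.mul hv)).mp h3

end Groth.Agent.Lib.Helper27.RigRP
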