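import Mathlib
import Groth.Agent.Lib.Helper27.PurB
import Groth.Prelude.Def_CInt

/-!
# A smooth morphism which is unramified over a dense open of the source is unramified
-/

set_option autoImplicit false
set_option linter.style.haveILetI false
universe u
open AlgebraicGeometry CategoryTheory CategoryTheory.Limits TopologicalSpace

namespace Groth.Agent.Lib.Helper27.SmEtA

/-- A smooth algebra which is unramified at a dense set of primes is unramified. -/
theorem formallyUnramified_of_smooth_of_dense {A B : Type u} [CommRing A] [CommRing B]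
    [Algebra A B] [Algebra.Smooth A B] (T : Set (PrimeSpectrum B)) (hT : Dense T)
    (hTu : T ⊆ Algebra.unramifiedLocus A B) : Algebra.FormallyUnramified A B := by
  rw [← Algebra.unramifiedLocus_eq_univ_iff, Algebra.unramifiedLocus_eq_compl_support]
  have hopen : IsOpen (Module.support B Ω[B⁄A]) := by
    have hlc := Module.isLocallyConstant_rankAtStalk (R := B) (M := Ω[B⁄A])
    have : Module.support B Ω[B⁄A] = (Module.rankAtStalk (R := B) Ω[B⁄A]) ⁻¹' {n | 0 < n} := by
      ext p
      exact (Module.rankAtStalk_pos_iff_mem_support p).symm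
    rw [this]
    exact hlc _
  rw [Set.compl_univ_iff]
  by_contra hne
  obtain ⟨p, hpT, hps⟩ := hT.inter_open_nonempty _ hopen (Set.nonempty_iff_ne_empty.mpr hne)
  have := hTu hps
  rw [Algebra.unramifiedLocus_eq_compl_support] at this
  exact this hpT

variable {X S : Scheme.{u}}

/-- Stalkwise unramified at `x` gives unramified at the prime of `x` for sections over affine
opens. -/
theorem mem_unramifiedLocus_of_stalkMap (f : X ⟶ S) {U : S.Opens} {V : X.Opens}
    (hU : IsAffineOpen U) (hV : IsAffineOpen V) (e : V ≤ f ⁻¹ᵁ U) (x : X) (hx : x ∈ V)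
    (h : (f.stalkMap x).hom.FormallyUnramified) :
    letI := (f.appLE U V e).hom.toAlgebra
    hV.primeIdealOf ⟨x, hx⟩ ∈ Algebra.unramifiedLocus Γ(S, U) Γ(X, V) := by
  letI := (f.appLE U V e).hom.toAlgebra
  show Algebra.FormallyUnramified Γ(S, U)
    (Localization.AtPrime (hV.primeIdealOf ⟨x, hx⟩).asIdeal)
  letI := X.presheaf.algebra_section_stalk (⟨x, hx⟩ : V)
  haveI hloc : IsLocalization.AtPrime (X.presheaf.stalk x)
      (hV.primeIdealOf ⟨x, hx⟩).asIdeal := hV.isLocalization_stalk ⟨x, hx⟩
  letI : Algebra Γ(S, U) (X.presheaf.stalk x) :=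
    ((algebraMap Γ(X, V) (X.presheaf.stalk x)).comp (algebraMap Γ(S, U) Γ(X, V))).toAlgebra
  haveI : IsScalarTower Γ(S, U) Γ(X, V) (X.presheaf.stalk x) :=
    IsScalarTower.of_algebraMap_eq (fun _ => rfl)
  let eqv : Localization.AtPrime (hV.primeIdealOf ⟨x, hx⟩).asIdeal ≃ₐ[Γ(X, V)]
      X.presheaf.stalk x :=
    IsLocalization.algEquiv (hV.primeIdealOf ⟨x, hx⟩).asIdeal.primeCompl _ _
  have hst : Algebra.FormallyUnramified Γ(S, U) (X.presheaf.stalk x) := by
    rw [← RingHom.formallyUnramified_algebraMap]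
    have hfx : f x ∈ U := e hx
    have heq : algebraMap Γ(S, U) (X.presheaf.stalk x) =
        (f.stalkMap x).hom.comp (S.presheaf.germ U (f x) hfx).hom := by
      ext a
      exact PurB.germ_appLE f e x hx a
    rw [heq]
    refine RingHom.FormallyUnramified.comp ?_ h
    letI := S.presheaf.algebra_section_stalk (⟨f x, hfx⟩ : U)
    haveI := hU.isLocalization_stalk ⟨f x, hfx⟩
    have : Algebra.FormallyUnramified Γ(S, U) (S.presheaf.stalk (f x)) :=
      Algebra.FormallyUnramified.of_isLocalization (hU.primeIdealOf ⟨f x, hfx⟩).asIdeal.primeCompl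
    rw [← RingHom.formallyUnramified_algebraMap] at this
    exact this
  exact Algebra.FormallyUnramified.of_equiv (eqv.restrictScalars Γ(S, U)).symm

/-- A smooth morphism which is stalkwise unramified on a dense open of the source is
unramified. -/
theorem formallyUnramified_of_smooth (f : X ⟶ S) [Smooth f] (W : X.Opens)
    (hd : Dense (W : Set X)) (hW : ∀ x ∈ W, (f.stalkMap x).hom.FormallyUnramified) :
    FormallyUnramified f := by
  rw [HasRingHomProperty.iff_appLE (P := @FormallyUnramified)]
  intro U V e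
  have hsm : (f.appLE U.1 V.1 e).hom.Smooth := HasRingHomProperty.appLE (P := @Smooth) f ‹_› U V e
  have hU : IsAffineOpen U.1 := U.2
  have hV : IsAffineOpen V.1 := V.2
  algebraize [(f.appLE U.1 V.1 e).hom]
  show Algebra.FormallyUnramified Γ(S, U.1) Γ(X, V.1)
  refine formallyUnramified_of_smooth_of_dense (hV.fromSpec ⁻¹' (W : Set X)) ?_ ?_
  · exact hd.preimage hV.fromSpec.isOpenEmbedding.isOpenMap
  · intro y hy
    have hyV : hV.fromSpec y ∈ V.1 := PurB.fromSpec_mem hV y
    have := mem_unramifiedLocus_of_stalkMap f hU hV e (hV.fromSpec y) hyV (hW _ hy)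
    rw [PurB.primeIdealOf_fromSpec hV y hyV] at this
    exact this

/-- A smooth morphism whose restriction over an open `U` of the base is unramified, with
`f ⁻¹ᵁ U` dense in the source, is unramified. -/
theorem formallyUnramified_of_smooth_of_restrict (f : X ⟶ S) [Smooth f] (U : S.Opens)
    (hd : Dense ((f ⁻¹ᵁ U : X.Opens) : Set X)) [FormallyUnramified (f ∣_ U)] :
    FormallyUnramified f := by
  refine formallyUnramified_of_smooth f (f ⁻¹ᵁ U) hd ?_
  intro x hx
  let x' : ↥((f ⁻¹ᵁ U : X.Opens) : Scheme.{u}) := ⟨x, hx⟩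
  have hg : FormallyUnramified ((f ⁻¹ᵁ U).ι ≫ f) := by
    rw [← morphismRestrict_ι]
    exact MorphismProperty.comp_mem (W := @FormallyUnramified) _ _ inferInstance inferInstance
  have h1 := FormallyUnramified.stalkMap ((f ⁻¹ᵁ U).ι ≫ f) x'
  rw [Scheme.Hom.stalkMap_comp] at h1
  have hxx : (f ⁻¹ᵁ U).ι x' = x := rfl
  have h2 : (f.stalkMap ((f ⁻¹ᵁ U).ι x')).hom =
      ((inv ((f ⁻¹ᵁ U).ι.stalkMap x')).hom).comp
        (f.stalkMap ((f ⁻¹ᵁ U).ι x') ≫ (f ⁻¹ᵁ U).ι.stalkMap x').hom := by
    rw [← CommRingCat.hom_comp, Category.assoc, IsIso.hom_inv_id, Category.comp_id]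
  rw [← hxx, h2]
  refine RingHom.FormallyUnramified.comp h1 (RingHom.FormallyUnramified.of_surjective ?_)
  exact ((ConcreteCategory.isIso_iff_bijective _).mp inferInstance).2

/-- A schematically dense open is dense. -/
theorem dense_of_isSchematicallyDense (U : X.Opens)
    (h : CInt.IsSchematicallyDense U) : Dense (U : Set X) := by
  rw [dense_iff_inter_open]
  intro O hO hne
  by_contra hcon
  rw [Set.not_nonempty_iff_eq_empty] at hcon
  let O' : X.Opens := ⟨O, hO⟩
  have hbot : O' ⊓ U = ⊥ := by
    ext x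
    simp only [Opens.coe_inf, Opens.coe_bot]
    exact Set.ext_iff.1 hcon x
  have hss : Subsingleton Γ(X, O' ⊓ U) := by rw [hbot]; infer_instance
  have h10 : (1 : Γ(X, O')) = 0 := h O' (Subsingleton.elim _ _)
  have h1 : X.basicOpen (1 : Γ(X, O')) = O' := X.basicOpen_of_isUnit isUnit_one
  rw [h10, Scheme.basicOpen_zero] at h1
  obtain ⟨x, hx⟩ := hne
  have : x ∈ (⊥ : X.Opens) := h1 ▸ (show x ∈ O' from hx)
  exact this

/-- The preimage of a dense open under a flat morphism locally of finite presentation is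
dense. -/
theorem dense_preimage_of_flat (f : X ⟶ S) [Flat f] [LocallyOfFinitePresentation f]
    (U : S.Opens) (hU : Dense (U : Set S)) : Dense ((f ⁻¹ᵁ U : X.Opens) : Set X) := by
  haveI : UniversallyOpen f := UniversallyOpen.of_flat f
  exact hU.preimage f.isOpenMap

/-- An étale separated morphism `g : M ⟶ N` which is a monomorphism on an open `O` of `M`
such that the locus of the self-product lying over `O × O` is dense, is a monomorphism. -/
theorem mono_of_etale_of_dense {M N : Scheme.{u}} (g : M ⟶ N) [FormallyUnramified g]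
    [LocallyOfFiniteType g] [IsSeparated g] (O : M.Opens) [Mono (O.ι ≫ g)]
    (hd : Dense ((pullback.fst g g) ⁻¹' (O : Set M) ∩ (pullback.snd g g) ⁻¹' (O : Set M))) :
    Mono g := by
  rw [← pullback.isIso_diagonal_iff]
  haveI : IsOpenImmersion (pullback.diagonal g) := inferInstance
  have hcl : IsClosed (Set.range (pullback.diagonal g)) :=
    (pullback.diagonal g).isClosedEmbedding.isClosed_range
  haveI : IsIso (pullback.diagonal (O.ι ≫ g)) := (pullback.isIso_diagonal_iff _).mpr inferInstance
  have hcomm : pullback.diagonal (O.ι ≫ g) ≫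
      pullback.map (O.ι ≫ g) (O.ι ≫ g) g g O.ι O.ι (𝟙 N) (by simp) (by simp) =
      O.ι ≫ pullback.diagonal g := by
    apply pullback.hom_ext
    · rw [Category.assoc, pullback.lift_fst, ← Category.assoc, pullback.diagonal_fst,
        Category.id_comp, Category.assoc, pullback.diagonal_fst, Category.comp_id]
    · rw [Category.assoc, pullback.lift_snd, ← Category.assoc, pullback.diagonal_snd,
        Category.id_comp, Category.assoc, pullback.diagonal_snd, Category.comp_id]
  have hsub : (pullback.fst g g) ⁻¹' (O : Set M) ∩ (pullback.snd g g) ⁻¹' (O : Set M) ⊆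
      Set.range (pullback.diagonal g) := by
    have hr := Scheme.Pullback.range_map (O.ι ≫ g) (O.ι ≫ g) g g O.ι O.ι (𝟙 N) (by simp) (by simp)
    rw [Scheme.Opens.range_ι] at hr
    rw [← hr]
    rintro _ ⟨t, rfl⟩
    obtain ⟨o, rfl⟩ : ∃ o, pullback.diagonal (O.ι ≫ g) o = t :=
      (pullback.diagonal (O.ι ≫ g)).surjective t
    refine ⟨O.ι o, ?_⟩
    rw [← Scheme.Hom.comp_apply, ← hcomm, Scheme.Hom.comp_apply]
  have huniv : Set.range (pullback.diagonal g) = Set.univ := by
    rw [← hcl.closure_eq, Set.eq_univ_iff_forall]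
    intro p
    exact closure_mono hsub (hd p)
  apply isIso_of_isOpenImmersion_of_opensRange_eq_top
  ext p
  simp [huniv]

end Groth.Agent.Lib.Helper27.SmEtA
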