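import Mathlib
import Groth.Agent.Lib.Helper27.SchDomImm
import Groth.Agent.Lib.Helper27.SmEtA

/-!
# Morphisms which are isomorphisms over a dense open: étale, flat and sections
-/

set_option autoImplicit false
set_option linter.style.haveILetI false
universe u
open AlgebraicGeometry CategoryTheory CategoryTheory.Limits TopologicalSpace

namespace Groth.Agent.Lib.Helper27.SecEtA

variable {X S : Scheme.{u}}

/-- If `f` is an isomorphism over `U`, two morphisms into `X` landing in `f ⁻¹ U` which agree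
after composing with `f` are equal. -/
theorem eq_of_comp_eq_of_isIso_restrict (f : X ⟶ S) (U : S.Opens) [IsIso (f ∣_ U)]
    {T : Scheme.{u}} (a b : T ⟶ X) (h : a ≫ f = b ≫ f) (ha : ∀ t, f (a t) ∈ U) : a = b := by
  have hb : ∀ t, f (b t) ∈ U := by
    intro t
    have e : f (b t) = f (a t) := by
      rw [← Scheme.Hom.comp_apply, ← Scheme.Hom.comp_apply, h]
    rw [e]
    exact ha t
  have hra : Set.range a ⊆ Set.range (f ⁻¹ᵁ U).ι := by
    rintro _ ⟨t, rfl⟩
    rw [Scheme.Opens.range_ι]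
    exact ha t
  have hrb : Set.range b ⊆ Set.range (f ⁻¹ᵁ U).ι := by
    rintro _ ⟨t, rfl⟩
    rw [Scheme.Opens.range_ι]
    exact hb t
  let a' := IsOpenImmersion.lift (f ⁻¹ᵁ U).ι a hra
  let b' := IsOpenImmersion.lift (f ⁻¹ᵁ U).ι b hrb
  have ha' : a' ≫ (f ⁻¹ᵁ U).ι = a := IsOpenImmersion.lift_fac _ _ _
  have hb' : b' ≫ (f ⁻¹ᵁ U).ι = b := IsOpenImmersion.lift_fac _ _ _
  have hab : a' = b' := by
    rw [← cancel_mono ((f ∣_ U) ≫ U.ι), morphismRestrict_ι, ← Category.assoc, ← Category.assoc,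
      ha', hb', h]
  rw [← ha', ← hb', hab]

/-- A flat morphism locally of finite type to a locally Noetherian scheme which is a monomorphism
over an open `U` whose preimage contains a schematically dense open is étale. -/
theorem etale_of_flat_of_mono_over {W : Scheme.{u}} [IsLocallyNoetherian S] (g : W ⟶ S)
    [LocallyOfFiniteType g] [Flat g] (U : S.Opens) (D : W.Opens)
    (hD : CInt.IsSchematicallyDense D) (hDU : D ≤ g ⁻¹ᵁ U)
    (hmono : ∀ {T : Scheme.{u}} (a b : T ⟶ W), a ≫ g = b ≫ g → (∀ t, g (a t) ∈ U) → a = b) :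
    Etale g := by
  haveI : IsLocallyNoetherian W := LocallyOfFiniteType.isLocallyNoetherian g
  let D' : (pullback g g).Opens := (pullback.fst g g) ⁻¹ᵁ D
  have hD' : CInt.IsSchematicallyDense D' :=
    SchDomImm.isSchematicallyDense_preimage_of_flat (pullback.fst g g) D hD
  have hfs : D'.ι ≫ pullback.fst g g = D'.ι ≫ pullback.snd g g := by
    apply hmono
    · rw [Category.assoc, Category.assoc, pullback.condition]
    · intro t
      exact hDU t.2
  have hs : (D'.ι ≫ pullback.fst g g) ≫ pullback.diagonal g = D'.ι := by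
    apply pullback.hom_ext
    · rw [Category.assoc, pullback.diagonal_fst, Category.comp_id]
    · rw [Category.assoc, pullback.diagonal_snd, Category.comp_id, hfs]
  haveI : IsOpenImmersion (pullback.diagonal g) :=
    SchDomImm.isOpenImmersion_of_factors (pullback.diagonal g) D' hD' _ hs
  haveI : FormallyUnramified g := inferInstance
  exact Etale.of_formallyUnramified_of_flat g

/-- An étale separated morphism which is a monomorphism over a dense open is an open
immersion. -/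
theorem isOpenImmersion_of_etale_of_mono_over {W : Scheme.{u}} (g : W ⟶ S) [Etale g]
    [IsSeparated g] (U : S.Opens) (hU : Dense (U : Set S))
    (hmono : ∀ {T : Scheme.{u}} (a b : T ⟶ W), a ≫ g = b ≫ g → (∀ t, g (a t) ∈ U) → a = b) :
    IsOpenImmersion g := by
  haveI : Mono ((g ⁻¹ᵁ U).ι ≫ g) := by
    constructor
    intro T a b hab
    have := hmono (a ≫ (g ⁻¹ᵁ U).ι) (b ≫ (g ⁻¹ᵁ U).ι)
      (by rw [Category.assoc, Category.assoc, hab]) (fun t => (a t).2)
    exact (cancel_mono _).mp this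
  have hdense : Dense ((pullback.fst g g) ⁻¹' ((g ⁻¹ᵁ U : W.Opens) : Set W) ∩
      (pullback.snd g g) ⁻¹' ((g ⁻¹ᵁ U : W.Opens) : Set W)) := by
    have hd := SmEtA.dense_preimage_of_flat (pullback.fst g g ≫ g) U hU
    refine hd.mono ?_
    intro p hp
    have hp1 : g (pullback.fst g g p) ∈ U := by
      have := hp
      rw [SetLike.mem_coe, Scheme.Hom.mem_preimage, Scheme.Hom.comp_apply] at this
      exact this
    refine ⟨hp1, ?_⟩
    show g (pullback.snd g g p) ∈ U
    have e1 : g (pullback.snd g g p) = g (pullback.fst g g p) := by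
      rw [← Scheme.Hom.comp_apply, ← Scheme.Hom.comp_apply, pullback.condition]
    rw [e1]
    exact hp1
  haveI : Mono g := SmEtA.mono_of_etale_of_dense g (g ⁻¹ᵁ U) hdense
  exact IsOpenImmersion.of_flat_of_mono g

/-- A local section of a morphism which is an isomorphism over `U` with schematically dense
preimage is an open immersion. -/
theorem isOpenImmersion_section [IsLocallyNoetherian X] (f : X ⟶ S) (U : S.Opens)
    [IsIso (f ∣_ U)] (hdense : CInt.IsSchematicallyDense (f ⁻¹ᵁ U)) (V : S.Opens)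
    (σ : (V : Scheme.{u}) ⟶ X) (hσ : σ ≫ f = V.ι) : IsOpenImmersion σ := by
  have hr : Set.range σ ⊆ Set.range (f ⁻¹ᵁ V).ι := by
    rintro _ ⟨t, rfl⟩
    rw [Scheme.Opens.range_ι]
    show f (σ t) ∈ V
    rw [← Scheme.Hom.comp_apply, hσ]
    exact t.2
  let σ' := IsOpenImmersion.lift (f ⁻¹ᵁ V).ι σ hr
  have hσ' : σ' ≫ (f ⁻¹ᵁ V).ι = σ := IsOpenImmersion.lift_fac _ _ _
  haveI : IsImmersion (σ' ≫ ((f ⁻¹ᵁ V).ι ≫ f)) := by
    rw [← Category.assoc, hσ', hσ]
    infer_instance
  haveI : IsImmersion σ' := IsImmersion.of_comp σ' ((f ⁻¹ᵁ V).ι ≫ f)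
  let D : (f ⁻¹ᵁ V).toScheme.Opens := (f ⁻¹ᵁ V).ι ⁻¹ᵁ (f ⁻¹ᵁ U)
  have hD : CInt.IsSchematicallyDense D :=
    SchDomImm.isSchematicallyDense_preimage_of_flat (f ⁻¹ᵁ V).ι (f ⁻¹ᵁ U) hdense
  have hrs : Set.range (D.ι ≫ (f ⁻¹ᵁ V).ι ≫ f) ⊆ Set.range V.ι := by
    rintro _ ⟨t, rfl⟩
    rw [Scheme.Opens.range_ι]
    exact (D.ι t).2
  let s : D.toScheme ⟶ V := IsOpenImmersion.lift V.ι (D.ι ≫ (f ⁻¹ᵁ V).ι ≫ f) hrs
  have hs : s ≫ V.ι = D.ι ≫ (f ⁻¹ᵁ V).ι ≫ f := IsOpenImmersion.lift_fac _ _ _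
  have hs' : s ≫ σ' = D.ι := by
    rw [← cancel_mono (f ⁻¹ᵁ V).ι, Category.assoc, hσ']
    symm
    apply eq_of_comp_eq_of_isIso_restrict f U
    · rw [Category.assoc, Category.assoc, hσ, hs]
    · intro t
      exact t.2
  haveI : IsOpenImmersion σ' := SchDomImm.isOpenImmersion_of_factors σ' D hD s hs'
  rw [← hσ']
  infer_instance

end Groth.Agent.Lib.Helper27.SecEtA
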