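import Mathlib

/-!
# Integral closure in a reduced Artinian ring: product decomposition
-/

set_option autoImplicit false

namespace Groth.Agent.Lib.Helper27.SevA

open Polynomial

theorem isIntegral_pi {R : Type*} [CommRing R] {ι : Type*} [Finite ι] {F : ι → Type*}
    [∀ i, CommRing (F i)] [∀ i, Algebra R (F i)] (x : ∀ i, F i)
    (h : ∀ i, IsIntegral R (x i)) : IsIntegral R x := by
  classical
  haveI := Fintype.ofFinite ι
  choose p hp hpx using h
  refine ⟨∏ i, p i, monic_prod_of_monic _ _ fun i _ => hp i, ?_⟩
  funext i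
  have h1 : (Polynomial.eval₂ (algebraMap R (∀ i, F i)) x (∏ i, p i)) i =
      Polynomial.eval₂ (algebraMap R (F i)) (x i) (∏ i, p i) := by
    have h0 := Polynomial.hom_eval₂ (∏ i, p i) (algebraMap R (∀ i, F i)) (Pi.evalRingHom F i) x
    have hc : (Pi.evalRingHom F i).comp (algebraMap R (∀ i, F i)) = algebraMap R (F i) := by
      ext r; rfl
    rw [hc] at h0
    exact h0
  rw [h1, Pi.zero_apply, ← Finset.mul_prod_erase Finset.univ p (Finset.mem_univ i), eval₂_mul,
    hpx i, zero_mul]

theorem isNoetherianRing_integralClosure_of_artinian (R L' : Type*) [CommRing R] [CommRing L']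
    [Algebra R L'] [IsArtinianRing L'] [IsReduced L']
    (h : ∀ m : MaximalSpectrum L', IsNoetherianRing (integralClosure R (L' ⧸ m.asIdeal))) :
    IsNoetherianRing (integralClosure R L') := by
  classical
  let ψ : ∀ m : MaximalSpectrum L',
      integralClosure R L' →ₐ[R] integralClosure R (L' ⧸ m.asIdeal) := fun m =>
    AlgHom.codRestrict ((Ideal.Quotient.mkₐ R m.asIdeal).comp (integralClosure R L').val) _
      (fun x => IsIntegral.map (Ideal.Quotient.mkₐ R m.asIdeal) x.2)
  let Ψ : integralClosure R L' →+* ∀ m : MaximalSpectrum L', integralClosure R (L' ⧸ m.asIdeal) :=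
    RingHom.pi fun m => (ψ m).toRingHom
  have hΨ : ∀ (x : integralClosure R L') (m : MaximalSpectrum L'),
      ((Ψ x m : integralClosure R (L' ⧸ m.asIdeal)) : L' ⧸ m.asIdeal) =
        Ideal.Quotient.mk m.asIdeal (x : L') := fun x m => rfl
  have hinj : Function.Injective Ψ := by
    intro x y hxy
    apply Subtype.ext
    apply (IsArtinianRing.equivPi L').injective
    funext m
    rw [IsArtinianRing.equivPi_apply, IsArtinianRing.equivPi_apply]
    have := congrArg (fun f => ((f m : integralClosure R (L' ⧸ m.asIdeal)) : L' ⧸ m.asIdeal)) hxy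
    simpa [hΨ] using this
  have hsurj : Function.Surjective Ψ := by
    intro y
    let z : ∀ m : MaximalSpectrum L', L' ⧸ m.asIdeal := fun m => (y m : L' ⧸ m.asIdeal)
    have hz : IsIntegral R z := isIntegral_pi z fun m => (y m).2
    let x : L' := (IsArtinianRing.equivPi L').symm z
    have hx : IsIntegral R x := by
      have := IsIntegral.map ((IsArtinianRing.equivPi L').symm.toAlgHom.restrictScalars R) hz
      exact this
    refine ⟨⟨x, hx⟩, ?_⟩
    funext m
    apply Subtype.ext
    rw [hΨ]
    have : IsArtinianRing.equivPi L' x = z := (IsArtinianRing.equivPi L').apply_symm_apply z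
    have h2 := congrFun this m
    rw [IsArtinianRing.equivPi_apply] at h2
    exact h2
  exact isNoetherianRing_of_ringEquiv _ (RingEquiv.ofBijective Ψ ⟨hinj, hsurj⟩).symm

end Groth.Agent.Lib.Helper27.SevA
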