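import Mathlib
import Groth.Agent.Lib.Helper12.KrullAkizuki

/-!
# Integral closure in a field which is the fraction field of a one-dimensional Noetherian domain
integral over the base
-/

set_option autoImplicit false

namespace Groth.Agent.Lib.Helper27.SevB

theorem isNoetherianRing_integralClosure_field (B D F : Type*) [CommRing B] [IsDomain B]
    [Ring.DimensionLEOne B] [CommRing D] [Field F] [Algebra B D] [Algebra D F] [Algebra B F]
    [IsScalarTower B D F]
    (hinj : Function.Injective (algebraMap D F)) [IsNoetherianRing D] [Algebra.IsIntegral B D]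
    (hfrac : ∀ y : F, ∃ d d' : D, d ≠ 0 ∧ algebraMap D F d * y = algebraMap D F d') :
    IsNoetherianRing (integralClosure B F) := by
  haveI : IsDomain D := hinj.isDomain (algebraMap D F)
  haveI : Ring.DimensionLEOne D := Ring.DimensionLEOne.of_isIntegral B D
  haveI : (⊥ : Ideal D).IsPrime := Ideal.isPrime_bot
  haveI : Ring.KrullDimLE 1 D := Ring.krullDimLE_one_iff_of_isPrime_bot.2 fun I hI hI' =>
    Ring.DimensionLEOne.maximalOfPrime hI hI'
  haveI : FaithfulSMul D F := (faithfulSMul_iff_algebraMap_injective D F).2 hinj
  haveI : IsFractionRing D F := IsFractionRing.of_field D F fun z => by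
    obtain ⟨d, d', hd, h⟩ := hfrac z
    refine ⟨d', d, ?_⟩
    rw [eq_div_iff ((map_ne_zero_iff _ hinj).2 hd), mul_comm]
    exact h
  have key := Groth.Agent.Lib.Helper12.KA.isNoetherianRing_of_le (A := D) (K := F)
    (integralClosure B F).toSubring (fun r => by
      show algebraMap D F r ∈ integralClosure B F
      have : IsIntegral B r := Algebra.IsIntegral.isIntegral r
      exact this.map (IsScalarTower.toAlgHom B D F))
  exact key

end Groth.Agent.Lib.Helper27.SevB
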