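import Mathlib
import Groth.Agent.Lib.Helper27.SevA
import Groth.Agent.Lib.Helper27.SevB

/-!
# S7165: integral closure of a DVR in `(L ⊗_K K')_red` is Noetherian
-/

set_option autoImplicit false

namespace Groth.Agent.Lib.Helper27.SevC

open TensorProduct

universe u

section

variable (A B K L : Type u) [CommRing A] [IsDomain A]
    [IsDiscreteValuationRing A] [CommRing B] [IsDomain B] [IsDiscreteValuationRing B] [Algebra A B]
    [Algebra.EssFiniteType A B]
    [Field K] [Field L] [Algebra A K] [IsFractionRing A K] [Algebra B L] [IsFractionRing B L]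
    [Algebra K L] [Algebra A L] [IsScalarTower A K L] [IsScalarTower A B L]
    (K' : Type u) [Field K'] [Algebra K K'] [Algebra A K'] [IsScalarTower A K K']
    [Algebra.IsAlgebraic K K']
    (L' : Type u) [CommRing L'] [IsReduced L'] [Algebra K L'] [Algebra L L'] [Algebra K' L']
    [Algebra B L']
    [IsScalarTower K L L'] [IsScalarTower K K' L'] [IsScalarTower B L L']
    [Algebra A L'] [IsScalarTower A K L']

include K L in
theorem tower_ABL' : IsScalarTower A B L' := by
  refine IsScalarTower.of_algebraMap_eq fun a => ?_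
  rw [IsScalarTower.algebraMap_apply A K L', IsScalarTower.algebraMap_apply K L L',
    ← IsScalarTower.algebraMap_apply A K L, IsScalarTower.algebraMap_apply A B L,
    ← IsScalarTower.algebraMap_apply B L L']

include K in
theorem tower_AK'L' : IsScalarTower A K' L' := by
  refine IsScalarTower.of_algebraMap_eq fun a => ?_
  rw [IsScalarTower.algebraMap_apply A K L', IsScalarTower.algebraMap_apply K K' L',
    ← IsScalarTower.algebraMap_apply A K K']

end

section

variable (A B K L : Type u) [CommRing A] [IsDomain A]
    [IsDiscreteValuationRing A] [CommRing B] [IsDomain B] [IsDiscreteValuationRing B] [Algebra A B]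
    [Algebra.EssFiniteType A B]
    [Field K] [Field L] [Algebra A K] [IsFractionRing A K] [Algebra B L] [IsFractionRing B L]
    [Algebra K L] [Algebra A L] [IsScalarTower A K L] [IsScalarTower A B L]
    (K' : Type u) [Field K'] [Algebra K K'] [Algebra A K'] [IsScalarTower A K K']
    [Algebra.IsAlgebraic K K']
    (L' : Type u) [CommRing L'] [IsReduced L'] [Algebra K L'] [Algebra L L'] [Algebra K' L']
    [Algebra B L']
    [IsScalarTower K L L'] [IsScalarTower K K' L'] [IsScalarTower B L L']
    [Algebra A L'] [IsScalarTower A K L'] [IsScalarTower A B L'] [IsScalarTower A K' L']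
    (q : L ⊗[K] K' →ₐ[K] L') (hq : Function.Surjective q)
    (hqL : ∀ y : L, q (y ⊗ₜ 1) = algebraMap L L' y)
    (hqK : ∀ z : K', q (1 ⊗ₜ z) = algebraMap K' L' z)

/-- the comparison map `B ⊗_A A' → L'`. -/
noncomputable def theta : B ⊗[A] (integralClosure A K') →ₐ[A] L' :=
  Algebra.TensorProduct.productMap (IsScalarTower.toAlgHom A B L')
    ((IsScalarTower.toAlgHom A K' L').comp (integralClosure A K').val)

theorem theta_tmul (b : B) (a' : integralClosure A K') :
    theta A B K' L' (b ⊗ₜ a') = algebraMap B L' b * algebraMap K' L' (a' : K') := by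
  simp [theta]

theorem theta_smul (b : B) (c : B ⊗[A] (integralClosure A K')) :
    theta A B K' L' (b • c) = algebraMap B L' b * theta A B K' L' c := by
  induction c using TensorProduct.induction_on with
  | zero => simp
  | tmul b' a' =>
    rw [TensorProduct.smul_tmul', smul_eq_mul, theta_tmul, theta_tmul, map_mul, mul_assoc]
  | add c₁ c₂ h₁ h₂ => rw [smul_add, map_add, map_add, h₁, h₂, mul_add]

include hqL hqK in
theorem q_tmul (l : L) (k : K') :
    q (l ⊗ₜ k) = algebraMap L L' l * algebraMap K' L' k := by
  rw [← hqL, ← hqK, ← map_mul, Algebra.TensorProduct.tmul_mul_tmul, mul_one, one_mul]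

include hq hqL hqK in
theorem exists_mul_eq_theta (y : L') :
    ∃ s : B, s ≠ 0 ∧ ∃ c : B ⊗[A] integralClosure A K',
      algebraMap B L' s * y = theta A B K' L' c := by
  obtain ⟨w, rfl⟩ := hq y
  induction w using TensorProduct.induction_on with
  | zero => exact ⟨1, one_ne_zero, 0, by simp⟩
  | tmul l k =>
    obtain ⟨b, s₁, hs₁, rfl⟩ := IsFractionRing.div_surjective (A := B) l
    have hs₁' : s₁ ≠ 0 := nonZeroDivisors.ne_zero hs₁
    have halg : IsAlgebraic A k :=
      (IsFractionRing.isAlgebraic_iff A K K').2 (Algebra.IsAlgebraic.isAlgebraic k)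
    obtain ⟨t, ht0, htint⟩ := halg.exists_integral_multiple
    have htB : algebraMap A B t ≠ 0 := by
      intro h
      have h1 : algebraMap A L t = 0 := by
        rw [IsScalarTower.algebraMap_apply A B L, h, map_zero]
      rw [IsScalarTower.algebraMap_apply A K L, map_eq_zero_iff _ (algebraMap K L).injective,
        map_eq_zero_iff _ (IsFractionRing.injective A K)] at h1
      exact ht0 h1
    refine ⟨s₁ * algebraMap A B t, mul_ne_zero hs₁' htB, b ⊗ₜ ⟨t • k, htint⟩, ?_⟩
    rw [theta_tmul, q_tmul K L K' L' q hqL hqK]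
    have e1 : algebraMap B L' s₁ * algebraMap L L' (algebraMap B L b / algebraMap B L s₁) =
        algebraMap B L' b := by
      rw [IsScalarTower.algebraMap_apply B L L' s₁, ← map_mul,
        mul_div_cancel₀ _ ((map_ne_zero_iff _ (IsFractionRing.injective B L)).2 hs₁'),
        ← IsScalarTower.algebraMap_apply]
    have e2 : algebraMap B L' (algebraMap A B t) * algebraMap K' L' k =
        algebraMap K' L' (t • k) := by
      rw [← IsScalarTower.algebraMap_apply A B L', IsScalarTower.algebraMap_apply A K' L',
        ← map_mul, Algebra.smul_def]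
    rw [map_mul]
    calc algebraMap B L' s₁ * algebraMap B L' (algebraMap A B t) *
          (algebraMap L L' (algebraMap B L b / algebraMap B L s₁) * algebraMap K' L' k)
        = (algebraMap B L' s₁ * algebraMap L L' (algebraMap B L b / algebraMap B L s₁)) *
          (algebraMap B L' (algebraMap A B t) * algebraMap K' L' k) := by ring
      _ = _ := by rw [e1, e2]
  | add w₁ w₂ h₁ h₂ =>
    obtain ⟨s₁, hs₁, c₁, hc₁⟩ := h₁
    obtain ⟨s₂, hs₂, c₂, hc₂⟩ := h₂
    refine ⟨s₁ * s₂, mul_ne_zero hs₁ hs₂, s₂ • c₁ + s₁ • c₂, ?_⟩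
    rw [map_add, map_add, theta_smul, theta_smul, ← hc₁, ← hc₂, map_mul]
    ring

end

end Groth.Agent.Lib.Helper27.SevC
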