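import Mathlib
import Groth.Agent.Lib.Helper27.SevC

/-!
# S7165: assembly
-/

set_option autoImplicit false

namespace Groth.Agent.Lib.Helper27.SevD

open TensorProduct Groth.Agent.Lib.Helper27.SevC

universe u

section

variable (A B K L : Type u) [CommRing A] [IsDomain A]
    [IsDiscreteValuationRing A] [CommRing B] [IsDomain B] [IsDiscreteValuationRing B] [Algebra A B]
    [Algebra.EssFiniteType A B]
    [Field K] [Field L] [Algebra A K] [IsFractionRing A K] [Algebra B L] [IsFractionRing B L]
    [Algebra K L] [Algebra A L] [IsScalarTower A K L] [IsScalarTower A B L]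
    (K' : Type u) [Field K'] [Algebra K K'] [Algebra A K'] [IsScalarTower A K K']
    [Algebra.IsAlgebraic K K']
    (L' : Type u) [CommRing L'] [IsReduced L'] [Algebra K L'] [Algebra L L'] [Algebra K' L']
    [Algebra B L']
    [IsScalarTower K L L'] [IsScalarTower K K' L'] [IsScalarTower B L L']
    [Algebra A L'] [IsScalarTower A K L'] [IsScalarTower A B L'] [IsScalarTower A K' L']
    (q : L ⊗[K] K' →ₐ[K] L') (hq : Function.Surjective q)
    (hqL : ∀ y : L, q (y ⊗ₜ 1) = algebraMap L L' y)
    (hqK : ∀ z : K', q (1 ⊗ₜ z) = algebraMap K' L' z)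

include L in
omit [IsDiscreteValuationRing B] in
theorem isUnit_algebraMap (s : B) (hs : s ≠ 0) : IsUnit (algebraMap B L' s) := by
  rw [IsScalarTower.algebraMap_apply B L L']
  have : IsUnit (algebraMap B L s) :=
    ((map_ne_zero_iff _ (IsFractionRing.injective B L)).2 hs).isUnit
  exact this.map _

theorem isNoetherianRing_tensor (hA' : IsNoetherianRing (integralClosure A K')) :
    IsNoetherianRing (B ⊗[A] integralClosure A K') := by
  haveI := hA'
  haveI : IsNoetherianRing (integralClosure A K' ⊗[A] B) :=
    Algebra.EssFiniteType.isNoetherianRing (integralClosure A K') _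
  exact isNoetherianRing_of_ringEquiv _
    (Algebra.TensorProduct.comm A (integralClosure A K') B).toRingEquiv

include B K L q hq hqL hqK in
theorem isNoetherianRing_L' (hA' : IsNoetherianRing (integralClosure A K')) :
    IsNoetherianRing L' := by
  haveI := isNoetherianRing_tensor A B K' hA'
  let f : Ideal L' → Ideal (B ⊗[A] integralClosure A K') :=
    fun I => I.comap (theta A B K' L').toRingHom
  have hmono : StrictMono f := by
    intro I J hIJ
    refine lt_of_le_of_ne (Ideal.comap_mono hIJ.le) fun heq => ?_
    apply hIJ.not_ge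
    intro y hy
    obtain ⟨s, hs, c, hc⟩ := exists_mul_eq_theta A B K L K' L' q hq hqL hqK y
    have hcJ : c ∈ f J := by
      show theta A B K' L' c ∈ J
      rw [← hc]
      exact J.mul_mem_left _ hy
    rw [← heq] at hcJ
    have hsy : algebraMap B L' s * y ∈ I := by
      rw [hc]
      exact hcJ
    obtain ⟨u, hu⟩ := isUnit_algebraMap B L L' s hs
    have : y = ((u⁻¹ : L'ˣ) : L') * (algebraMap B L' s * y) := by
      rw [← hu, ← mul_assoc, Units.inv_mul, one_mul]
    rw [this]
    exact I.mul_mem_left _ hsy
  haveI : WellFoundedGT (Ideal L') := hmono.wellFoundedGT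
  exact isNoetherianRing_iff.2 (isNoetherian_iff'.2 inferInstance)

end

end Groth.Agent.Lib.Helper27.SevD
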