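import Mathlib
import Groth.Agent.Lib.Helper27.SevD

/-!
# S7165: assembly, part 2
-/

set_option autoImplicit false

namespace Groth.Agent.Lib.Helper27.SevE

open TensorProduct Groth.Agent.Lib.Helper27.SevC Groth.Agent.Lib.Helper27.SevD

universe u

section

variable (A B K L : Type u) [CommRing A] [IsDomain A]
    [IsDiscreteValuationRing A] [CommRing B] [IsDomain B] [IsDiscreteValuationRing B] [Algebra A B]
    [Algebra.EssFiniteType A B]
    [Field K] [Field L] [Algebra A K] [IsFractionRing A K] [Algebra B L] [IsFractionRing B L]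
    [Algebra K L] [Algebra A L] [IsScalarTower A K L] [IsScalarTower A B L]
    (K' : Type u) [Field K'] [Algebra K K'] [Algebra A K'] [IsScalarTower A K K']
    [Algebra.IsAlgebraic K K']
    (L' : Type u) [CommRing L'] [IsReduced L'] [Algebra K L'] [Algebra L L'] [Algebra K' L']
    [Algebra B L']
    [IsScalarTower K L L'] [IsScalarTower K K' L'] [IsScalarTower B L L']
    [Algebra A L'] [IsScalarTower A K L'] [IsScalarTower A B L'] [IsScalarTower A K' L']
    (q : L ⊗[K] K' →ₐ[K] L') (hq : Function.Surjective q)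
    (hqL : ∀ y : L, q (y ⊗ₜ 1) = algebraMap L L' y)
    (hqK : ∀ z : K', q (1 ⊗ₜ z) = algebraMap K' L' z)

include K K' q hq hqL in
theorem isIntegral_L' : Algebra.IsIntegral L L' := by
  haveI : Algebra.IsIntegral K K' := Algebra.IsAlgebraic.isIntegral
  refine ⟨fun y => ?_⟩
  obtain ⟨w, rfl⟩ := hq y
  have hw : IsIntegral L w := Algebra.IsIntegral.isIntegral w
  refine hw.map_of_comp_eq (RingHom.id L) q.toRingHom ?_
  ext l
  simp only [RingHom.comp_id, RingHom.coe_comp, Function.comp_apply, AlgHom.toRingHom_eq_coe,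
    RingHom.coe_coe, Algebra.TensorProduct.algebraMap_apply, Algebra.algebraMap_self,
    RingHom.id_apply]
  exact (hqL l).symm

include K K' q hq hqL in
theorem krullDimLE_zero_L' : Ring.KrullDimLE 0 L' := by
  haveI := isIntegral_L' K L K' L' q hq hqL
  rw [Ring.krullDimLE_zero_iff]
  intro P hP
  haveI : Algebra.IsIntegral L (L' ⧸ P) :=
    ⟨fun y => by
      obtain ⟨z, rfl⟩ := Ideal.Quotient.mk_surjective y
      exact (Algebra.IsIntegral.isIntegral (R := L) z).map (Ideal.Quotient.mkₐ L P)⟩
  haveI : IsDomain (L' ⧸ P) := Ideal.Quotient.isDomain P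
  exact Ideal.Quotient.maximal_of_isField P
    (isField_of_isIntegral_of_isField' (R := L) (Field.toIsField L))

include A B K L q hq hqL hqK in
theorem isArtinianRing_L' (hA' : IsNoetherianRing (integralClosure A K')) :
    IsArtinianRing L' := by
  haveI := isNoetherianRing_L' A B K L K' L' q hq hqL hqK hA'
  haveI := krullDimLE_zero_L' K L K' L' q hq hqL
  exact IsNoetherianRing.isArtinianRing_of_krullDimLE_zero

end

end Groth.Agent.Lib.Helper27.SevE
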