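import Mathlib
import Groth.Agent.Lib.Helper27.SevE

/-!
# S7165: assembly, part 3
-/

set_option autoImplicit false

namespace Groth.Agent.Lib.Helper27.SevF

open TensorProduct Groth.Agent.Lib.Helper27.SevC Groth.Agent.Lib.Helper27.SevD
  Groth.Agent.Lib.Helper27.SevE

universe u

section

variable (A B K L : Type u) [CommRing A] [IsDomain A]
    [IsDiscreteValuationRing A] [CommRing B] [IsDomain B] [IsDiscreteValuationRing B] [Algebra A B]
    [Algebra.EssFiniteType A B]
    [Field K] [Field L] [Algebra A K] [IsFractionRing A K] [Algebra B L] [IsFractionRing B L]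
    [Algebra K L] [Algebra A L] [IsScalarTower A K L] [IsScalarTower A B L]
    (K' : Type u) [Field K'] [Algebra K K'] [Algebra A K'] [IsScalarTower A K K']
    [Algebra.IsAlgebraic K K']
    (L' : Type u) [CommRing L'] [IsReduced L'] [Algebra K L'] [Algebra L L'] [Algebra K' L']
    [Algebra B L']
    [IsScalarTower K L L'] [IsScalarTower K K' L'] [IsScalarTower B L L']
    [Algebra A L'] [IsScalarTower A K L'] [IsScalarTower A B L'] [IsScalarTower A K' L']
    (q : L ⊗[K] K' →ₐ[K] L') (hq : Function.Surjective q)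
    (hqL : ∀ y : L, q (y ⊗ₜ 1) = algebraMap L L' y)
    (hqK : ∀ z : K', q (1 ⊗ₜ z) = algebraMap K' L' z)

include A K L q hq hqL hqK in
theorem isNoetherianRing_quotient (hA' : IsNoetherianRing (integralClosure A K'))
    (m : Ideal L') [hm : m.IsMaximal] :
    IsNoetherianRing (integralClosure B (L' ⧸ m)) := by
  letI : Field (L' ⧸ m) := Ideal.Quotient.field m
  haveI := isNoetherianRing_tensor A B K' hA'
  let θm : B ⊗[A] integralClosure A K' →+* L' ⧸ m :=
    (Ideal.Quotient.mk m).comp (theta A B K' L').toRingHom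
  let D := (B ⊗[A] integralClosure A K') ⧸ RingHom.ker θm
  letI : Algebra D (L' ⧸ m) := (RingHom.kerLift θm).toAlgebra
  have hDF : ∀ c : B ⊗[A] integralClosure A K',
      algebraMap D (L' ⧸ m) (Ideal.Quotient.mk _ c) = Ideal.Quotient.mk m (theta A B K' L' c) :=
    fun c => by
      rw [RingHom.algebraMap_toAlgebra, RingHom.kerLift_mk]
      rfl
  haveI : IsScalarTower B D (L' ⧸ m) := by
    refine ⟨fun b d x => ?_⟩
    obtain ⟨c, rfl⟩ := Ideal.Quotient.mk_surjective d
    have h1 : b • (Ideal.Quotient.mk (RingHom.ker θm) c : D) =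
        Ideal.Quotient.mk (RingHom.ker θm) (b • c) := rfl
    have h2 : ∀ z : L' ⧸ m, b • z = Ideal.Quotient.mk m (algebraMap B L' b) * z := fun z => by
      rw [Algebra.smul_def]
      rfl
    have h3 : ∀ (d : D) (z : L' ⧸ m), d • z = algebraMap D (L' ⧸ m) d * z := fun d z =>
      Algebra.smul_def d z
    rw [h1, h3, h3, hDF, hDF, theta_smul, h2, map_mul, mul_assoc]
  haveI : Algebra.IsIntegral A (integralClosure A K') := inferInstance
  haveI : Algebra.IsIntegral B (B ⊗[A] integralClosure A K') := inferInstance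
  haveI : Algebra.IsIntegral B D :=
    ⟨fun d => by
      obtain ⟨c, rfl⟩ := Ideal.Quotient.mk_surjective d
      exact (Algebra.IsIntegral.isIntegral (R := B) c).map (Ideal.Quotient.mkₐ B _)⟩
  refine Groth.Agent.Lib.Helper27.SevB.isNoetherianRing_integralClosure_field B D (L' ⧸ m)
    (RingHom.kerLift_injective θm) ?_
  intro y
  obtain ⟨y₀, rfl⟩ := Ideal.Quotient.mk_surjective y
  obtain ⟨s, hs, c, hc⟩ := exists_mul_eq_theta A B K L K' L' q hq hqL hqK y₀
  have hunit : IsUnit (Ideal.Quotient.mk m (algebraMap B L' s)) :=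
    (isUnit_algebraMap B L L' s hs).map _
  refine ⟨Ideal.Quotient.mk _ (s ⊗ₜ (1 : integralClosure A K')), Ideal.Quotient.mk _ c, ?_, ?_⟩
  · intro h0
    have h1 := (hDF (s ⊗ₜ (1 : integralClosure A K'))).symm
    rw [h0, map_zero, theta_tmul] at h1
    simp only [OneMemClass.coe_one, map_one, mul_one] at h1
    rw [h1] at hunit
    exact not_isUnit_zero hunit
  · rw [hDF, hDF, theta_tmul, ← hc]
    simp

include A K L q hq hqL hqK in
theorem main (hA' : IsNoetherianRing (integralClosure A K')) :
    IsNoetherianRing (integralClosure B L') := by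
  haveI := isArtinianRing_L' A B K L K' L' q hq hqL hqK hA'
  refine Groth.Agent.Lib.Helper27.SevA.isNoetherianRing_integralClosure_of_artinian B L' fun m => ?_
  haveI := m.isMaximal
  exact isNoetherianRing_quotient A B K L K' L' q hq hqL hqK hA' m.asIdeal

end

end Groth.Agent.Lib.Helper27.SevF
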