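import Mathlib

/-!
# Artinian local algebras with finite type residue field are of finite type (helper27)
-/

set_option autoImplicit false
universe u

namespace Groth.Agent.Lib.Helper27.SmallExtA

open IsLocalRing

/-- A subalgebra `D` of a local ring `A'` with nilpotent finitely generated maximal ideal, containing
generators of the maximal ideal and surjecting onto the residue field, is everything. -/
theorem subalgebra_eq_top {R A' : Type u} [CommRing R] [CommRing A'] [IsLocalRing A'] [Algebra R A']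
    (D : Subalgebra R A') (T : Finset A') (hT : Ideal.span (T : Set A') = maximalIdeal A')
    (hTD : ∀ t ∈ T, t ∈ D) (hres : ∀ a : A', ∃ d ∈ D, a - d ∈ maximalIdeal A')
    (hnil : ∃ n : ℕ, maximalIdeal A' ^ n = ⊥) : D = ⊤ := by
  have key : ∀ n : ℕ, ∀ a : A', ∃ d ∈ D, a - d ∈ maximalIdeal A' ^ (n + 1) := by
    intro n
    induction n with
    | zero => intro a; simpa using hres a
    | succ n ih =>
      intro a
      obtain ⟨d₀, hd₀, hμ⟩ := hres a
      rw [← hT, Submodule.mem_span_finset] at hμ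
      obtain ⟨c, -, hc⟩ := hμ
      choose dd hdd hdν using fun t => ih (c t)
      refine ⟨d₀ + ∑ t ∈ T, dd t * t, D.add_mem hd₀ (D.sum_mem fun t ht => D.mul_mem (hdd t) (hTD t ht)), ?_⟩
      have h1 : a - (d₀ + ∑ t ∈ T, dd t * t) = ∑ t ∈ T, (c t - dd t) * t := by
        have : a - d₀ = ∑ t ∈ T, c t * t := by rw [← hc]; simp [smul_eq_mul]
        calc a - (d₀ + ∑ t ∈ T, dd t * t) = (a - d₀) - ∑ t ∈ T, dd t * t := by ring
          _ = ∑ t ∈ T, c t * t - ∑ t ∈ T, dd t * t := by rw [this]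
          _ = ∑ t ∈ T, (c t - dd t) * t := by rw [← Finset.sum_sub_distrib]; congr 1; ext t; ring
      rw [h1]
      refine Ideal.sum_mem _ fun t ht => ?_
      rw [pow_succ]
      refine Ideal.mul_mem_mul (hdν t) ?_
      rw [← hT]
      exact Ideal.subset_span ht
  obtain ⟨n, hn⟩ := hnil
  rw [eq_top_iff]
  intro a _
  obtain ⟨d, hd, hda⟩ := key n a
  have h0 : maximalIdeal A' ^ (n + 1) = ⊥ := by
    rw [pow_succ, hn, Ideal.bot_mul]
  rw [h0, Ideal.mem_bot, sub_eq_zero] at hda
  rw [hda]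
  exact hd

/-- An Artinian local `R`-algebra whose residue field is reached by a finite type `R`-algebra is of
finite type over `R`. -/
theorem finiteType_of_residue_surjective {R C A' : Type u} [CommRing R] [CommRing C] [CommRing A']
    [IsLocalRing A'] [IsArtinianRing A'] [Algebra R C] [Algebra R A'] [Algebra.FiniteType R C]
    (ψ : C →ₐ[R] A') (hψ : ∀ a' : A', ∃ c : C, a' - ψ c ∈ maximalIdeal A') :
    Algebra.FiniteType R A' := by
  classical
  haveI : IsNoetherianRing A' := inferInstance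
  obtain ⟨T, hT⟩ : (maximalIdeal A').FG := IsNoetherian.noetherian _
  have hnil : ∃ n : ℕ, maximalIdeal A' ^ n = ⊥ := by
    have h1 : IsNilpotent (Ideal.jacobson (⊥ : Ideal A')) := IsArtinianRing.isNilpotent_jacobson_bot
    rw [IsLocalRing.jacobson_eq_maximalIdeal ⊥ bot_ne_top] at h1
    obtain ⟨n, hn⟩ := h1
    exact ⟨n, hn⟩
  have hD : ψ.range ⊔ Algebra.adjoin R (T : Set A') = ⊤ := by
    refine subalgebra_eq_top _ T hT (fun t ht => ?_) (fun a => ?_) hnil
    · exact (le_sup_right : Algebra.adjoin R (T : Set A') ≤ _) (Algebra.subset_adjoin ht)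
    · obtain ⟨c, hc⟩ := hψ a
      exact ⟨ψ c, (le_sup_left : ψ.range ≤ _) ⟨c, rfl⟩, hc⟩
  refine ⟨?_⟩
  rw [← hD]
  refine Subalgebra.FG.sup ?_ (Subalgebra.fg_adjoin_finset T)
  rw [← Algebra.map_top]
  exact Subalgebra.FG.map ψ (Algebra.FiniteType.out)

/-- Same, with the finite type algebra only mapping to a quotient `A' ⧸ I`. -/
theorem finiteType_of_quotient_residue_surjective {R C A' : Type u} [CommRing R] [CommRing C]
    [CommRing A'] [IsLocalRing A'] [IsArtinianRing A'] [Algebra R C] [Algebra R A']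
    [Algebra.FiniteType R C] (I : Ideal A') (hI : I ≠ ⊤) (ψ₀ : C →ₐ[R] A' ⧸ I)
    (hres : ∀ a' : A', ∃ c : C,
      Ideal.Quotient.mk I a' - ψ₀ c ∈ (maximalIdeal A').map (Ideal.Quotient.mk I)) :
    Algebra.FiniteType R A' := by
  obtain ⟨n, χ, hχ⟩ := Algebra.FiniteType.iff_quotient_mvPolynomial''.mp
    (inferInstance : Algebra.FiniteType R C)
  have hlift : ∀ i : Fin n, ∃ a : A', Ideal.Quotient.mk I a = ψ₀ (χ (MvPolynomial.X i)) :=
    fun i => Ideal.Quotient.mk_surjective _
  choose a ha using hlift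
  obtain ⟨Ψ, hΨdef⟩ : ∃ Ψ : MvPolynomial (Fin n) R →ₐ[R] A', Ψ = MvPolynomial.aeval a := ⟨_, rfl⟩
  have hΨ : (Ideal.Quotient.mkₐ R I).comp Ψ = ψ₀.comp χ := by
    apply MvPolynomial.algHom_ext
    intro i
    rw [hΨdef]
    simp [ha]
  have hIm : I ≤ maximalIdeal A' := IsLocalRing.le_maximalIdeal hI
  refine finiteType_of_residue_surjective Ψ (fun a' => ?_)
  obtain ⟨c, hc⟩ := hres a'
  obtain ⟨P, rfl⟩ := hχ c
  refine ⟨P, ?_⟩
  have h2 : Ideal.Quotient.mk I (Ψ P) = ψ₀ (χ P) := DFunLike.congr_fun hΨ P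
  have h1 : Ideal.Quotient.mk I (a' - Ψ P) ∈ (maximalIdeal A').map (Ideal.Quotient.mk I) := by
    rw [map_sub, h2]
    exact hc
  rw [Ideal.mem_map_iff_of_surjective _ Ideal.Quotient.mk_surjective] at h1
  obtain ⟨y, hy, hyx⟩ := h1
  have h3 : y - (a' - Ψ P) ∈ I := by
    rw [← Ideal.Quotient.eq_zero_iff_mem, map_sub, hyx, sub_self]
  have h4 : a' - Ψ P = y - (y - (a' - Ψ P)) := by ring
  rw [h4]
  exact Ideal.sub_mem _ hy (hIm h3)

end Groth.Agent.Lib.Helper27.SmallExtA
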