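import Mathlib

/-!
# Lifting along extensions killed by the maximal ideal from lifting along small extensions
(helper27)

Pure algebra: an induction on the ideal `I` of an Artinian local ring `A'`.
-/

set_option autoImplicit false
universe u

namespace Groth.Agent.Lib.Helper27.SmallExtB

open IsLocalRing

theorem mem_map_of_factor_mem {A' : Type u} [CommRing A'] [IsLocalRing A'] {I₁ I : Ideal A'}
    (hle : I₁ ≤ I) (hI : I ≠ ⊤) (z : A' ⧸ I₁)
    (hz : Ideal.Quotient.factor hle z ∈ (maximalIdeal A').map (Ideal.Quotient.mk I)) :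
    z ∈ (maximalIdeal A').map (Ideal.Quotient.mk I₁) := by
  obtain ⟨w, rfl⟩ := Ideal.Quotient.mk_surjective z
  rw [Ideal.Quotient.factor_mk, Ideal.mem_map_iff_of_surjective _ Ideal.Quotient.mk_surjective] at hz
  obtain ⟨y, hy, hyw⟩ := hz
  have h1 : y - w ∈ I := by
    rw [← Ideal.Quotient.eq_zero_iff_mem, map_sub, hyw, sub_self]
  have h2 : w = y - (y - w) := by ring
  refine Ideal.mem_map_of_mem _ ?_
  rw [h2]
  exact Ideal.sub_mem _ hy (IsLocalRing.le_maximalIdeal hI h1)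

theorem exists_lift_of_step {O OS A' : Type u} [CommRing O] [CommRing OS] [CommRing A']
    [IsLocalRing O] [IsLocalRing A'] [IsArtinianRing A']
    (φ₀ : OS →+* O) (h : OS →+* A')
    (Hstep : ∀ (I₁ I : Ideal A') (hle : I₁ ≤ I), I ≠ ⊤ → ∀ ε : A', I = I₁ ⊔ Ideal.span {ε} →
      (∀ m ∈ maximalIdeal A', ε * m = 0) →
      ∀ g₀ : O →+* A' ⧸ I, g₀.comp φ₀ = (Ideal.Quotient.mk I).comp h →
        (∀ b ∈ maximalIdeal O, g₀ b ∈ (maximalIdeal A').map (Ideal.Quotient.mk I)) →
        (∀ a' : A', ∃ b : O,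
          g₀ b - Ideal.Quotient.mk I a' ∈ (maximalIdeal A').map (Ideal.Quotient.mk I)) →
        ∃ g₁ : O →+* A' ⧸ I₁, (Ideal.Quotient.factor hle).comp g₁ = g₀ ∧
          g₁.comp φ₀ = (Ideal.Quotient.mk I₁).comp h)
    (I : Ideal A') :
    I ≠ ⊤ → I * maximalIdeal A' = ⊥ → ∀ g₀ : O →+* A' ⧸ I,
      g₀.comp φ₀ = (Ideal.Quotient.mk I).comp h →
      (∀ b ∈ maximalIdeal O, g₀ b ∈ (maximalIdeal A').map (Ideal.Quotient.mk I)) →
      (∀ a' : A', ∃ b : O,
        g₀ b - Ideal.Quotient.mk I a' ∈ (maximalIdeal A').map (Ideal.Quotient.mk I)) →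
      ∃ g : O →+* A', g.comp φ₀ = h ∧ (Ideal.Quotient.mk I).comp g = g₀ := by
  haveI : IsNoetherianRing A' := inferInstance
  induction I using WellFoundedLT.induction with
  | ind I ih =>
    intro hI hIm g₀ hc hloc hres
    by_cases hbot : I = ⊥
    · subst hbot
      refine ⟨(RingEquiv.quotientBot A').toRingHom.comp g₀, ?_, ?_⟩
      · rw [RingHom.comp_assoc, hc]
        ext r
        simp
      · ext b
        obtain ⟨w, hw⟩ := Ideal.Quotient.mk_surjective (g₀ b)
        simp only [RingHom.comp_apply, RingEquiv.toRingHom_eq_coe, RingHom.coe_coe]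
        rw [← hw]
        simp
    · -- a maximal ideal strictly below `I`
      obtain ⟨I₁, hI₁, hmax⟩ := (wellFounded_gt : WellFounded
        ((· > ·) : Ideal A' → Ideal A' → Prop)).has_min {J | J < I}
        ⟨⊥, bot_lt_iff_ne_bot.mpr hbot⟩
      have hI₁' : I₁ < I := hI₁
      obtain ⟨ε, hεI, hεI₁⟩ := SetLike.exists_of_lt hI₁'
      have hsup : I = I₁ ⊔ Ideal.span {ε} := by
        have hle : I₁ ⊔ Ideal.span {ε} ≤ I :=
          sup_le hI₁'.le ((Ideal.span_singleton_le_iff_mem _).mpr hεI)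
        have hlt : I₁ < I₁ ⊔ Ideal.span {ε} := by
          refine lt_of_le_of_ne le_sup_left fun heq => hεI₁ ?_
          rw [heq]
          exact (le_sup_right : Ideal.span {ε} ≤ _) (Ideal.mem_span_singleton_self ε)
        by_contra hne
        exact hmax _ (lt_of_le_of_ne hle (Ne.symm hne)) hlt
      have hεm : ∀ m ∈ maximalIdeal A', ε * m = 0 := by
        intro m hm
        have : ε * m ∈ I * maximalIdeal A' := Ideal.mul_mem_mul hεI hm
        rwa [hIm] at this
      obtain ⟨g₁, hg₁, hc₁⟩ := Hstep I₁ I hI₁'.le hI ε hsup hεm g₀ hc hloc hres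
      have hI₁top : I₁ ≠ ⊤ := fun h => hI (top_le_iff.mp (h ▸ hI₁'.le))
      have hI₁m : I₁ * maximalIdeal A' = ⊥ := by
        rw [eq_bot_iff, ← hIm]
        exact Ideal.mul_mono_left hI₁'.le
      have hloc₁ : ∀ b ∈ maximalIdeal O, g₁ b ∈ (maximalIdeal A').map (Ideal.Quotient.mk I₁) := by
        intro b hb
        refine mem_map_of_factor_mem hI₁'.le hI _ ?_
        have := hloc b hb
        rw [← hg₁] at this
        exact this
      have hres₁ : ∀ a' : A', ∃ b : O,
          g₁ b - Ideal.Quotient.mk I₁ a' ∈ (maximalIdeal A').map (Ideal.Quotient.mk I₁) := by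
        intro a'
        obtain ⟨b, hb⟩ := hres a'
        refine ⟨b, mem_map_of_factor_mem hI₁'.le hI _ ?_⟩
        rw [map_sub, Ideal.Quotient.factor_mk]
        rw [← hg₁] at hb
        exact hb
      obtain ⟨g, hgφ, hgI₁⟩ := ih I₁ hI₁' hI₁top hI₁m g₁ hc₁ hloc₁ hres₁
      refine ⟨g, hgφ, ?_⟩
      rw [← hg₁, ← hgI₁, ← RingHom.comp_assoc, Ideal.Quotient.factor_comp_mk]

end Groth.Agent.Lib.Helper27.SmallExtB
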