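import Mathlib
import Groth.Agent.Lib.Helper27.SmallExtA
import Groth.Agent.Lib.Helper27.SmallExtB
import Groth.Agent.Lib.Helper8.LiftCritSch

/-!
# Smoothness from lifting along small extensions (helper27)
-/

set_option autoImplicit false
universe u
open IsLocalRing AlgebraicGeometry CategoryTheory
open Groth.Agent.Lib.Helper8

namespace Groth.Agent.Lib.Helper27.SmallExtC

/-- Residue surjectivity for the localization at a maximal ideal. -/
theorem exists_algebraMap_sub_mem {R Rₚ : Type*} [CommRing R] (p : Ideal R) [p.IsMaximal]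
    [CommRing Rₚ] [Algebra R Rₚ] [IsLocalization.AtPrime Rₚ p] [IsLocalRing Rₚ] (b : Rₚ) :
    ∃ c : R, algebraMap R Rₚ c - b ∈ maximalIdeal Rₚ := by
  obtain ⟨cbar, h⟩ := (IsLocalization.AtPrime.equivQuotMaximalIdeal p Rₚ).surjective
    (Ideal.Quotient.mk _ b)
  obtain ⟨c, rfl⟩ := Ideal.Quotient.mk_surjective cbar
  rw [IsLocalization.AtPrime.equivQuotMaximalIdeal_apply_mk] at h
  exact ⟨c, Ideal.Quotient.eq.mp h⟩

/-- The small extension lifting hypothesis. -/
def SmallLift {X S : Scheme.{u}} (f : X ⟶ S) : Prop :=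
  ∀ (B B' : Type u) [CommRing B] [CommRing B'] [IsArtinianRing B] [IsArtinianRing B']
    [IsLocalRing B] [IsLocalRing B']
    (φ : B' →+* B) (ε : B'), Function.Surjective φ → RingHom.ker φ = Ideal.span {ε} →
    (∀ m ∈ IsLocalRing.maximalIdeal B', ε * m = 0) →
    ∀ (α : Spec (CommRingCat.of B) ⟶ X) (β : Spec (CommRingCat.of B') ⟶ S),
      LocallyOfFiniteType β →
      Spec.map (CommRingCat.ofHom φ) ≫ β = α ≫ f →
      ∃ γ : Spec (CommRingCat.of B') ⟶ X, Spec.map (CommRingCat.ofHom φ) ≫ γ = α ∧ γ ≫ f = β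

set_option maxHeartbeats 1600000 in
theorem finiteType_test_ring {X S : Scheme.{u}} (f : X ⟶ S)
    [LocallyOfFiniteType f] (x : X) (U : X.Opens) (hU : IsAffineOpen U)
    (V : S.Opens) (hV : IsAffineOpen V) (hUV : U ≤ f ⁻¹ᵁ V) (hxU : x ∈ U)
    (hmax : (hU.primeIdealOf ⟨x, hxU⟩).asIdeal.IsMaximal)
    (A' : Type u) [CommRing A'] [IsLocalRing A'] [IsArtinianRing A']
    (h : S.presheaf.stalk (f x) →+* A')
    (I : Ideal A') (hI : I ≠ ⊤) (g₀ : X.presheaf.stalk x →+* A' ⧸ I)
    (hc : g₀.comp (f.stalkMap x).hom = (Ideal.Quotient.mk I).comp h)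
    (hloc : ∀ b ∈ maximalIdeal (X.presheaf.stalk x),
      g₀ b ∈ (maximalIdeal A').map (Ideal.Quotient.mk I))
    (hres : ∀ a' : A', ∃ b : X.presheaf.stalk x,
      g₀ b - Ideal.Quotient.mk I a' ∈ (maximalIdeal A').map (Ideal.Quotient.mk I)) :
    (h.comp (S.presheaf.germ V (f x) (hUV hxU)).hom).FiniteType := by
  have hsV : f x ∈ V := hUV hxU
  letI algRA : Algebra Γ(S, V) A' := (h.comp (S.presheaf.germ V (f x) hsV).hom).toAlgebra
  letI algRC : Algebra Γ(S, V) Γ(X, U) := (f.appLE V U hUV).hom.toAlgebra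
  haveI : Algebra.FiniteType Γ(S, V) Γ(X, U) := f.finiteType_appLE hV hU hUV
  have hcomm : S.presheaf.germ V (f x) hsV ≫ f.stalkMap x =
      f.appLE V U hUV ≫ X.presheaf.germ U x hxU := by
    rw [Scheme.Hom.germ_stalkMap, Scheme.Hom.appLE, Category.assoc, TopCat.Presheaf.germ_res]
  let ψ₀ : Γ(X, U) →ₐ[Γ(S, V)] A' ⧸ I :=
    { g₀.comp (X.presheaf.germ U x hxU).hom with
      commutes' := fun r => by
        have h1 : (X.presheaf.germ U x hxU).hom ((f.appLE V U hUV).hom r) =
            (f.stalkMap x).hom ((S.presheaf.germ V (f x) hsV).hom r) :=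
          (congrArg (fun ψ => ψ.hom r) hcomm).symm
        have h2 := congrArg (fun ψ => ψ ((S.presheaf.germ V (f x) hsV).hom r)) hc
        change g₀ ((X.presheaf.germ U x hxU).hom ((f.appLE V U hUV).hom r)) = _
        rw [h1]
        exact h2 }
  letI algCO : Algebra Γ(X, U) (X.presheaf.stalk x) := (X.presheaf.germ U x hxU).hom.toAlgebra
  haveI : IsLocalization.AtPrime (X.presheaf.stalk x) (hU.primeIdealOf ⟨x, hxU⟩).asIdeal :=
    hU.isLocalization_stalk ⟨x, hxU⟩
  haveI := hmax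
  refine SmallExtA.finiteType_of_quotient_residue_surjective I hI ψ₀ ?_
  intro a'
  obtain ⟨b, hb⟩ := hres a'
  obtain ⟨c, hcb⟩ := exists_algebraMap_sub_mem (hU.primeIdealOf ⟨x, hxU⟩).asIdeal
    (Rₚ := X.presheaf.stalk x) b
  refine ⟨c, ?_⟩
  have h3 := hloc _ hcb
  rw [map_sub] at h3
  have h4 : Ideal.Quotient.mk I a' - ψ₀ c =
      -((g₀ (algebraMap Γ(X, U) (X.presheaf.stalk x) c) - g₀ b) +
        (g₀ b - Ideal.Quotient.mk I a')) := by
    change Ideal.Quotient.mk I a' - g₀ ((X.presheaf.germ U x hxU).hom c) = _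
    change _ = -((g₀ ((X.presheaf.germ U x hxU).hom c) - g₀ b) + _)
    ring
  rw [h4]
  exact Ideal.neg_mem_iff _ |>.mpr (Ideal.add_mem _ h3 hb)

/-- A ring hom to a quotient of a local ring which maps the maximal ideal into the image of the
maximal ideal is a local hom. -/
theorem isLocalHom_of_map_mem {O A' : Type*} [CommRing O] [CommRing A'] [IsLocalRing O]
    [IsLocalRing A'] (I : Ideal A') (hI : I ≠ ⊤) (g₀ : O →+* A' ⧸ I)
    (hloc : ∀ b ∈ maximalIdeal O, g₀ b ∈ (maximalIdeal A').map (Ideal.Quotient.mk I)) :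
    IsLocalHom g₀ := by
  constructor
  intro b hb
  by_contra hnu
  have hbm : b ∈ maximalIdeal O := (IsLocalRing.mem_maximalIdeal b).mpr hnu
  have h1 := hloc b hbm
  rw [Ideal.mem_map_iff_of_surjective _ Ideal.Quotient.mk_surjective] at h1
  obtain ⟨y, hy, hyb⟩ := h1
  rw [← hyb] at hb
  -- `mk y` a unit with `y ∈ 𝔪`: then `1 ∈ 𝔪`
  obtain ⟨w, hw⟩ := hb.exists_right_inv
  obtain ⟨w', rfl⟩ := Ideal.Quotient.mk_surjective w
  rw [← map_mul, ← map_one (Ideal.Quotient.mk I), Ideal.Quotient.eq] at hw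
  have h2 : (1 : A') = y * w' - (y * w' - 1) := by ring
  have h3 : (1 : A') ∈ maximalIdeal A' := by
    rw [h2]
    exact Ideal.sub_mem _ (Ideal.mul_mem_right _ _ hy) (IsLocalRing.le_maximalIdeal hI hw)
  exact (Ideal.ne_top_iff_one _).mp (IsLocalRing.maximalIdeal.isMaximal A').ne_top h3

set_option maxHeartbeats 1600000 in
/-- The one-step lifting oracle coming from the small extension hypothesis. -/
theorem step_of_smallLift {X S : Scheme.{u}} (f : X ⟶ S)
    (H : SmallLift f) (x : X) (V : S.Opens) (hV : IsAffineOpen V) (hsV : f x ∈ V)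
    (A' : Type u) [CommRing A'] [IsLocalRing A'] [IsArtinianRing A']
    (h : S.presheaf.stalk (f x) →+* A')
    (hft : (h.comp (S.presheaf.germ V (f x) hsV).hom).FiniteType)
    (I₁ I : Ideal A') (hle : I₁ ≤ I) (hI : I ≠ ⊤) (ε : A') (hsup : I = I₁ ⊔ Ideal.span {ε})
    (hεm : ∀ m ∈ maximalIdeal A', ε * m = 0)
    (g₀ : X.presheaf.stalk x →+* A' ⧸ I)
    (hc : g₀.comp (f.stalkMap x).hom = (Ideal.Quotient.mk I).comp h)
    (hloc : ∀ b ∈ maximalIdeal (X.presheaf.stalk x),
      g₀ b ∈ (maximalIdeal A').map (Ideal.Quotient.mk I)) :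
    ∃ g₁ : X.presheaf.stalk x →+* A' ⧸ I₁, (Ideal.Quotient.factor hle).comp g₁ = g₀ ∧
      g₁.comp (f.stalkMap x).hom = (Ideal.Quotient.mk I₁).comp h := by
  have hI₁ : I₁ ≠ ⊤ := fun htop => hI (top_le_iff.mp (htop ▸ hle))
  haveI : IsLocalRing (A' ⧸ I) := LiftCrit.isLocalRing_quotient I hI
  haveI : IsLocalRing (A' ⧸ I₁) := LiftCrit.isLocalRing_quotient I₁ hI₁
  haveI hg₀loc : IsLocalHom g₀ := isLocalHom_of_map_mem I hI g₀ hloc
  obtain ⟨φ, hφdef⟩ : ∃ φ : A' ⧸ I₁ →+* A' ⧸ I, φ = Ideal.Quotient.factor hle := ⟨_, rfl⟩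
  have hφsurj : Function.Surjective φ := by
    rw [hφdef]; exact Ideal.Quotient.factor_surjective hle
  haveI : IsLocalHom φ := IsLocalHom.of_surjective φ hφsurj
  have hφmk : φ.comp (Ideal.Quotient.mk I₁) = Ideal.Quotient.mk I := by
    rw [hφdef]; exact Ideal.Quotient.factor_comp_mk hle
  have hker : RingHom.ker φ = Ideal.span {Ideal.Quotient.mk I₁ ε} := by
    rw [hφdef, Ideal.Quotient.factor_ker, hsup, Ideal.map_sup, Ideal.map_quotient_self,
      Ideal.map_span, Set.image_singleton, bot_sup_eq]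
  have hεm' : ∀ m ∈ maximalIdeal (A' ⧸ I₁), Ideal.Quotient.mk I₁ ε * m = 0 := by
    intro m hm
    obtain ⟨m', rfl⟩ := Ideal.Quotient.mk_surjective m
    have hm' : m' ∈ maximalIdeal A' := by
      rw [IsLocalRing.mem_maximalIdeal] at hm ⊢
      intro hu
      exact hm (hu.map _)
    rw [← map_mul, hεm m' hm', map_zero]
  let g₀C : X.presheaf.stalk x ⟶ CommRingCat.of (A' ⧸ I) := CommRingCat.ofHom g₀
  let α : Spec (CommRingCat.of (A' ⧸ I)) ⟶ X := Spec.map g₀C ≫ X.fromSpecStalk x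
  let hC : S.presheaf.stalk (f x) ⟶ CommRingCat.of (A' ⧸ I₁) :=
    CommRingCat.ofHom ((Ideal.Quotient.mk I₁).comp h)
  let β : Spec (CommRingCat.of (A' ⧸ I₁)) ⟶ S := Spec.map hC ≫ S.fromSpecStalk (f x)
  have hfs : S.fromSpecStalk (f x) = Spec.map (S.presheaf.germ V (f x) hsV) ≫ hV.fromSpec := by
    rw [← hV.fromSpecStalk_eq_fromSpecStalk hsV]; rfl
  have hβ : LocallyOfFiniteType β := by
    have h1 : β = Spec.map (S.presheaf.germ V (f x) hsV ≫ hC) ≫ hV.fromSpec := by
      simp only [β]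
      rw [hfs, Spec.map_comp, Category.assoc]
    rw [h1]
    haveI : LocallyOfFiniteType (Spec.map (S.presheaf.germ V (f x) hsV ≫ hC)) := by
      rw [HasRingHomProperty.Spec_iff (P := @LocallyOfFiniteType)]
      have h2 : (S.presheaf.germ V (f x) hsV ≫ hC).hom =
          (Ideal.Quotient.mk I₁).comp (h.comp (S.presheaf.germ V (f x) hsV).hom) := rfl
      rw [h2]
      exact (RingHom.FiniteType.of_surjective _ Ideal.Quotient.mk_surjective).comp hft
    infer_instance
  have hα : α (closedPoint (A' ⧸ I)) = x := by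
    have h1 : (Spec.map g₀C) (closedPoint (A' ⧸ I)) = closedPoint (X.presheaf.stalk x) :=
      IsLocalRing.comap_closedPoint g₀
    calc α (closedPoint (A' ⧸ I))
        = (X.fromSpecStalk x) ((Spec.map g₀C) (closedPoint (A' ⧸ I))) := rfl
      _ = (X.fromSpecStalk x) (closedPoint (X.presheaf.stalk x)) := congrArg _ h1
      _ = x := Scheme.fromSpecStalk_closedPoint
  have hsq : Spec.map (CommRingCat.ofHom φ) ≫ β = α ≫ f := by
    simp only [α, β]
    rw [Category.assoc, ← Scheme.SpecMap_stalkMap_fromSpecStalk, ← Category.assoc,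
      ← Spec.map_comp, ← Category.assoc (Spec.map g₀C), ← Spec.map_comp]
    congr 2
    ext a
    have e1 := congrArg (fun ψ => ψ a) hc
    have e2 := congrArg (fun ψ => ψ (h a)) hφmk
    exact e2.trans e1.symm
  obtain ⟨γ', hγ1, hγ2⟩ := H (A' ⧸ I) (A' ⧸ I₁) φ (Ideal.Quotient.mk I₁ ε) hφsurj hker hεm'
    α β hβ hsq
  have hγx : γ' (closedPoint (A' ⧸ I₁)) = x := by
    have h1 := LiftCritSch.spec_map_closedPoint φ
    calc γ' (closedPoint (A' ⧸ I₁))
        = γ' ((Spec.map (CommRingCat.ofHom φ)) (closedPoint (A' ⧸ I))) :=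
          congrArg γ' h1.symm
      _ = (Spec.map (CommRingCat.ofHom φ) ≫ γ') (closedPoint (A' ⧸ I)) := rfl
      _ = α (closedPoint (A' ⧸ I)) := by rw [hγ1]
      _ = x := hα
  obtain ⟨v, hv_loc, hv⟩ :=
    LiftCritSch.exists_stalk_hom_of_spec (R := CommRingCat.of (A' ⧸ I₁)) γ' x hγx
  refine ⟨v.hom, ?_, ?_⟩
  · have : v ≫ CommRingCat.ofHom φ = g₀C := by
      apply Spec.map_injective
      rw [← cancel_mono (X.fromSpecStalk x)]
      rw [Spec.map_comp, Category.assoc, hv, hγ1]
    rw [← hφdef]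
    ext b
    exact congrArg (fun ψ => ψ.hom b) this
  · have : f.stalkMap x ≫ v = hC := by
      apply Spec.map_injective
      rw [← cancel_mono (S.fromSpecStalk (f x))]
      rw [Spec.map_comp, Category.assoc, Scheme.SpecMap_stalkMap_fromSpecStalk, ← Category.assoc,
        hv, hγ2]
    ext b
    exact congrArg (fun ψ => ψ.hom b) this

set_option maxHeartbeats 1600000 in
/-- Under the small extension lifting hypothesis, `f` is smooth at every point which is closed
in an affine open neighbourhood mapping into an affine open of the base. -/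
theorem formallySmooth_stalkMap_of_smallLift {X S : Scheme.{u}} (f : X ⟶ S)
    [IsLocallyNoetherian S] [LocallyOfFiniteType f] (H : SmallLift f) (x : X) (U : X.Opens)
    (hU : IsAffineOpen U) (V : S.Opens) (hV : IsAffineOpen V) (hUV : U ≤ f ⁻¹ᵁ V) (hxU : x ∈ U)
    (hmax : (hU.primeIdealOf ⟨x, hxU⟩).asIdeal.IsMaximal) :
    (f.stalkMap x).hom.FormallySmooth := by
  refine (LiftCrit.formallySmooth_iff_artinian_lifting (f.stalkMap x).hom
    (LocallyOfFiniteType.stalkMap f x)).mpr ?_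
  intro A' _ _ _ h _ I hI hIm g₀ hc hloc hres
  have hft := finiteType_test_ring f x U hU V hV hUV hxU hmax A' h I hI g₀ hc hloc hres
  refine SmallExtB.exists_lift_of_step (f.stalkMap x).hom h ?_ I hI hIm g₀ hc hloc hres
  intro I₁ I' hle hI' ε hsup hεm g₀' hc' hloc' _
  exact step_of_smallLift f H x V hV (hUV hxU) A' h hft I₁ I' hle hI' ε hsup hεm g₀' hc' hloc'

/-- A point closed in an affine open corresponds to a maximal ideal. -/
theorem primeIdealOf_isMaximal_of_isClosed_subtype {X : Scheme.{u}} {U : X.Opens}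
    (hU : IsAffineOpen U) (x : U) (hx₀ : IsClosed ({x} : Set U)) :
    (hU.primeIdealOf x).asIdeal.IsMaximal := by
  apply (hU.primeIdealOf x).isClosed_singleton_iff_isMaximal.mp
  rw [IsAffineOpen.primeIdealOf, ← Set.image_singleton]
  refine (Topology.IsClosedEmbedding.isClosed_iff_image_isClosed <|
    IsHomeomorph.isClosedEmbedding ?_).mp hx₀
  apply (TopCat.isIso_iff_isHomeomorph _).mp
  infer_instance

set_option maxHeartbeats 1600000 in
theorem smooth_iff_smallLift {X S : Scheme.{u}} (f : X ⟶ S) [IsLocallyNoetherian S]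
    [LocallyOfFiniteType f] : Smooth f ↔ SmallLift f := by
  haveI : LocallyOfFinitePresentation f := inferInstance
  constructor
  · intro hsm B B' _ _ _ _ _ _ φ ε hφ hker hεm α β _ hsq
    have hkertop : RingHom.ker φ ≠ ⊤ := RingHom.ker_ne_top φ
    have hε : ε ∈ maximalIdeal B' := by
      apply IsLocalRing.le_maximalIdeal hkertop
      rw [hker]
      exact Ideal.mem_span_singleton_self ε
    have hker2 : RingHom.ker φ ^ 2 = ⊥ := by
      rw [hker, Ideal.span_singleton_pow, pow_two, hεm ε hε]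
      simp
    have hx : (f.stalkMap (α (closedPoint B))).hom.FormallySmooth := by
      have h1 : α (closedPoint B) ∈ f.smoothLocus := by
        rw [Scheme.Hom.smoothLocus_eq_top]; trivial
      exact h1
    exact LiftCritSch.lifting_of_mem_smoothLocus f _ hx B B' φ hφ hker2 α β rfl hsq
  · intro H
    rw [← Scheme.Hom.smoothLocus_eq_top_iff]
    by_contra hne
    obtain ⟨x₀, hx₀⟩ : ∃ x₀ : X, x₀ ∉ f.smoothLocus := by
      by_contra hall
      exact hne (eq_top_iff.mpr fun y _ => not_not.mp fun hy => hall ⟨y, hy⟩)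
    obtain ⟨_, ⟨V, hV, rfl⟩, hsV, -⟩ :=
      S.isBasis_affineOpens.exists_subset_of_mem_open (Set.mem_univ (f x₀)) isOpen_univ
    obtain ⟨_, ⟨U, hU, rfl⟩, hxU, hUV⟩ :=
      X.isBasis_affineOpens.exists_subset_of_mem_open hsV (V.2.preimage f.continuous)
    replace hUV : U ≤ f ⁻¹ᵁ V := hUV
    have hU : IsAffineOpen U := hU
    have hV : IsAffineOpen V := hV
    have hxU : x₀ ∈ U := hxU
    haveI : CompactSpace U := isCompact_iff_compactSpace.mp hU.isCompact
    let Z : Set U := {y | y.1 ∉ f.smoothLocus}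
    have hZc : IsClosed Z := by
      have : Z = (Subtype.val ⁻¹' (f.smoothLocus : Set X))ᶜ := rfl
      rw [this]
      exact (f.smoothLocus.2.preimage continuous_subtype_val).isClosed_compl
    have hZne : Z.Nonempty := ⟨⟨x₀, hxU⟩, hx₀⟩
    obtain ⟨y, hyZ, hyc⟩ := hZc.exists_closed_singleton hZne
    have hmax := primeIdealOf_isMaximal_of_isClosed_subtype hU y hyc
    exact hyZ (formallySmooth_stalkMap_of_smallLift f H y.1 U hU V hV hUV y.2 hmax)

end Groth.Agent.Lib.Helper27.SmallExtC
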