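import Mathlib
import Groth.Agent.Lib.Helper15.ComplSemilocal
import Groth.Agent.Lib.Helper21.TruncIsoB

/-!
Lifting a finite map of reductions of smooth algebras to a finite map of completions.
-/

set_option autoImplicit false
universe u

namespace Groth.Agent.Lib.Helper27.SmoothComplLift

open Groth.Agent.Lib.Helper21.TruncIso

section Lift

variable {V : Type u} [CommRing V] [IsNoetherianRing V] (I : Ideal V)
  (A C : Type u) [CommRing A] [Algebra V A] [Algebra.FormallySmooth V A] [Algebra.FiniteType V A]
  [CommRing C] [Algebra V C] [Algebra.FiniteType V C]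
  (IA : Ideal A) (hIA : IA = I.map (algebraMap V A)) (IC : Ideal C)
  (hIC : IC = I.map (algebraMap V C))

include hIA hIC in
theorem exists_finite_lift (φ₀ : (A ⧸ IA) →ₐ[V] (C ⧸ IC)) (hφ₀ : φ₀.toRingHom.Finite) :
    ∃ φ : AdicCompletion IA A →ₐ[V] AdicCompletion IC C,
      φ.toRingHom.Finite ∧
      (AdicCompletion.evalOneₐ IC).toRingHom.comp φ.toRingHom =
        φ₀.toRingHom.comp (AdicCompletion.evalOneₐ IA).toRingHom := by
  classical
  haveI : IsNoetherianRing A := Algebra.FiniteType.isNoetherianRing V A
  haveI : IsNoetherianRing C := Algebra.FiniteType.isNoetherianRing V C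
  have hIAfg : IA.FG := IsNoetherian.noetherian IA
  have hICfg : IC.FG := IsNoetherian.noetherian IC
  let f : A →ₐ[V] C ⧸ IC := φ₀.comp (Ideal.Quotient.mkₐ V IA)
  obtain ⟨g, hg⟩ := Algebra.FormallySmooth.exists_adicCompletionEvalOneₐ_comp_eq (I := IC) f
  have hg' : ∀ a : A, AdicCompletion.evalOneₐ IC (g a) = φ₀ (Ideal.Quotient.mk IA a) :=
    fun a => DFunLike.congr_fun hg a
  have hker : ∀ (n : ℕ) (a : A), a ∈ IA ^ n →
      (((AdicCompletion.evalₐ IC n).restrictScalars V).comp g) a = 0 := by
    intro n
    have hle : IA ^ n ≤ RingHom.ker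
        (((AdicCompletion.evalₐ IC n).restrictScalars V).comp g).toRingHom := by
      rw [hIA, ← Ideal.map_pow, Ideal.map_le_iff_le_comap]
      intro v hv
      rw [Ideal.mem_comap, RingHom.mem_ker]
      show (((AdicCompletion.evalₐ IC n).restrictScalars V).comp g) (algebraMap V A v) = 0
      rw [AlgHom.commutes]
      show Ideal.Quotient.mk (IC ^ n) (algebraMap V C v) = 0
      rw [Ideal.Quotient.eq_zero_iff_mem, hIC, ← Ideal.map_pow]
      exact Ideal.mem_map_of_mem _ hv
    intro a ha
    exact hle ha
  let κ : ∀ n : ℕ, (A ⧸ IA ^ n) →ₐ[V] (C ⧸ IC ^ n) := fun n =>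
    Ideal.Quotient.liftₐ (IA ^ n) (((AdicCompletion.evalₐ IC n).restrictScalars V).comp g) (hker n)
  have hκmk : ∀ (n : ℕ) (a : A), κ n (Ideal.Quotient.mk _ a) = AdicCompletion.evalₐ IC n (g a) :=
    fun n a => rfl
  have hκ : ∀ (m n : ℕ) (hmn : m ≤ n) (t : A ⧸ IA ^ n),
      κ m (Ideal.Quotient.factor (Ideal.pow_le_pow_right hmn) t) =
        Ideal.Quotient.factor (Ideal.pow_le_pow_right hmn) (κ n t) := by
    intro m n hmn t
    obtain ⟨a, rfl⟩ := Ideal.Quotient.mk_surjective t
    rw [Ideal.Quotient.factor_mk, hκmk, hκmk, factor_evalₐ IC hmn]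
  let φ : AdicCompletion IA A →ₐ[V] AdicCompletion IC C := complMap IA IC κ hκ
  have hcomp : (AdicCompletion.evalOneₐ IC).toRingHom.comp φ.toRingHom =
      φ₀.toRingHom.comp (AdicCompletion.evalOneₐ IA).toRingHom := by
    apply RingHom.ext
    intro x
    show AdicCompletion.evalOneₐ IC (φ x) = φ₀ (AdicCompletion.evalOneₐ IA x)
    obtain ⟨a, ha⟩ := Ideal.Quotient.mk_surjective (AdicCompletion.evalₐ IA 1 x)
    have h1 : AdicCompletion.evalₐ IC 1 (φ x) = κ 1 (AdicCompletion.evalₐ IA 1 x) :=
      evalₐ_complMap IA IC κ hκ 1 x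
    rw [← ha, hκmk] at h1
    rw [← AdicCompletion.factorₐ_evalₐ_one, ← AdicCompletion.factorₐ_evalₐ_one, h1, ← ha,
      AdicCompletion.factorₐ_evalₐ_one, hg', Ideal.Quotient.factor_mk]
  refine ⟨φ, ?_, hcomp⟩
  -- finiteness
  haveI hcA := AdicCompletion.isAdicComplete_self IA hIAfg
  haveI hcC := AdicCompletion.isAdicComplete_self IC hICfg
  have hkerE : RingHom.ker (AdicCompletion.evalOneₐ IC).toRingHom =
      IC.map (algebraMap C (AdicCompletion IC C)) := AdicCompletion.ker_evalOneₐ_eq_map IC hICfg
  have hmapφ : (IA.map (algebraMap A (AdicCompletion IA A))).map φ.toRingHom =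
      IC.map (algebraMap C (AdicCompletion IC C)) := by
    have hhom : (φ.toRingHom.comp (algebraMap A (AdicCompletion IA A))).comp (algebraMap V A) =
        (algebraMap C (AdicCompletion IC C)).comp (algebraMap V C) := by
      apply RingHom.ext
      intro v
      show φ (algebraMap V (AdicCompletion IA A) v) = _
      rw [AlgHom.commutes]
      rfl
    calc (IA.map (algebraMap A (AdicCompletion IA A))).map φ.toRingHom
        = IA.map (φ.toRingHom.comp (algebraMap A (AdicCompletion IA A))) := Ideal.map_map _ _
      _ = (I.map (algebraMap V A)).map (φ.toRingHom.comp (algebraMap A (AdicCompletion IA A))) :=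
          congrArg (Ideal.map _) hIA
      _ = I.map ((φ.toRingHom.comp (algebraMap A (AdicCompletion IA A))).comp (algebraMap V A)) :=
          Ideal.map_map _ _
      _ = I.map ((algebraMap C (AdicCompletion IC C)).comp (algebraMap V C)) := by rw [hhom]
      _ = (I.map (algebraMap V C)).map (algebraMap C (AdicCompletion IC C)) :=
          (Ideal.map_map _ _).symm
      _ = IC.map (algebraMap C (AdicCompletion IC C)) := (congrArg (Ideal.map _) hIC).symm
  letI algφ : Algebra (AdicCompletion IA A) (AdicCompletion IC C) := φ.toRingHom.toAlgebra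
  have halg : algebraMap (AdicCompletion IA A) (AdicCompletion IC C) = φ.toRingHom := rfl
  haveI : IsHausdorff ((IA.map (algebraMap A (AdicCompletion IA A))).map
      (algebraMap (AdicCompletion IA A) (AdicCompletion IC C))) (AdicCompletion IC C) := by
    rw [halg, hmapφ]
    exact hcC.toIsHausdorff
  haveI : Module.Finite (AdicCompletion IA A) (AdicCompletion IC C ⧸
      (IA.map (algebraMap A (AdicCompletion IA A))).map
        (algebraMap (AdicCompletion IA A) (AdicCompletion IC C))) := by
    rw [← RingHom.finite_algebraMap]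
    have hE : Function.Surjective (AdicCompletion.evalOneₐ IC).toRingHom :=
      AdicCompletion.evalOneₐ_surjective IC
    have hideq : (IA.map (algebraMap A (AdicCompletion IA A))).map
        (algebraMap (AdicCompletion IA A) (AdicCompletion IC C)) =
        RingHom.ker (AdicCompletion.evalOneₐ IC).toRingHom := by
      rw [halg, hmapφ, hkerE]
    let θ : (AdicCompletion IC C ⧸ (IA.map (algebraMap A (AdicCompletion IA A))).map
        (algebraMap (AdicCompletion IA A) (AdicCompletion IC C))) ≃+* (C ⧸ IC) :=
      (Ideal.quotEquivOfEq hideq).trans (RingHom.quotientKerEquivOfSurjective hE)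
    have hθ : θ.toRingHom.comp (algebraMap (AdicCompletion IA A) (AdicCompletion IC C ⧸
        (IA.map (algebraMap A (AdicCompletion IA A))).map
          (algebraMap (AdicCompletion IA A) (AdicCompletion IC C)))) =
        φ₀.toRingHom.comp (AdicCompletion.evalOneₐ IA).toRingHom := by
      rw [← hcomp]
      rfl
    have hρ : (φ₀.toRingHom.comp (AdicCompletion.evalOneₐ IA).toRingHom).Finite :=
      RingHom.Finite.comp hφ₀ (RingHom.Finite.of_surjective _ (AdicCompletion.evalOneₐ_surjective IA))
    have h2 : algebraMap (AdicCompletion IA A) (AdicCompletion IC C ⧸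
        (IA.map (algebraMap A (AdicCompletion IA A))).map
          (algebraMap (AdicCompletion IA A) (AdicCompletion IC C))) =
        θ.symm.toRingHom.comp (φ₀.toRingHom.comp (AdicCompletion.evalOneₐ IA).toRingHom) := by
      rw [← hθ, ← RingHom.comp_assoc]
      apply RingHom.ext
      intro x
      simp
    rw [h2]
    exact RingHom.Finite.comp (RingHom.Finite.of_surjective _ θ.symm.surjective) hρ
  exact Groth.Agent.Lib.Helper15.ComplSemilocal.finite_of_quot_finite
    (IA.map (algebraMap A (AdicCompletion IA A))) (AdicCompletion IC C)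

end Lift

end Groth.Agent.Lib.Helper27.SmoothComplLift
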