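import Mathlib
import Groth.Prelude.Def_EtRam
import Groth.Agent.Lib.Helper27.TameTower

/-! Compositum construction for descending (weak) solutions along a tower of DVRs. -/

set_option autoImplicit false

namespace Groth.Agent.Lib.Helper27.Sol
open TensorProduct

universe u

section ValDvd
variable {R S : Type*} [CommRing R] [CommRing S] [IsDomain S] [ValuationRing S]

/-- In a valuation ring, an element of an extended ideal is a multiple of a single generator. -/
theorem exists_dvd_of_mem_map (f : R →+* S) (I : Ideal R) {x : S} (hx : x ∈ I.map f) :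
    ∃ a ∈ I, f a ∣ x := by
  refine Submodule.span_induction (p := fun x _ => ∃ a ∈ I, f a ∣ x) ?_ ?_ ?_ ?_ hx
  · rintro _ ⟨a, ha, rfl⟩
    exact ⟨a, ha, dvd_rfl⟩
  · exact ⟨0, I.zero_mem, by simp⟩
  · rintro x y _ _ ⟨a, ha, hax⟩ ⟨b, hb, hby⟩
    rcases ValuationRing.dvd_total (f a) (f b) with h | h
    · exact ⟨a, ha, dvd_add hax (h.trans hby)⟩
    · exact ⟨b, hb, dvd_add (h.trans hax) hby⟩
  · rintro r x _ ⟨a, ha, hax⟩
    exact ⟨a, ha, Dvd.dvd.mul_left hax r⟩

end ValDvd

section TensorNZD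
variable {B C W : Type*} [CommRing B] [CommRing C] [CommRing W] [Algebra B C] [Algebra B W]

theorem tmul_one_mem_nzd [IsDomain C] [Module.Flat B W] {c : C} (hc : c ≠ 0) :
    (c ⊗ₜ[B] (1 : W)) ∈ nonZeroDivisors (C ⊗[B] W) := by
  have hinj : Function.Injective (LinearMap.rTensor W (LinearMap.mulLeft B c)) :=
    Module.Flat.rTensor_preserves_injective_linearMap _ (mul_right_injective₀ hc)
  have hmul : ∀ x : C ⊗[B] W,
      (c ⊗ₜ[B] (1 : W)) * x = LinearMap.rTensor W (LinearMap.mulLeft B c) x := by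
    intro x
    induction x using TensorProduct.induction_on with
    | zero => simp
    | tmul a w => simp [Algebra.TensorProduct.tmul_mul_tmul]
    | add x y hx hy => rw [mul_add, map_add, hx, hy]
  rw [mem_nonZeroDivisors_iff_left]
  intro x hx
  rw [hmul] at hx
  exact hinj (by rw [hx, map_zero])

theorem one_tmul_mem_nzd [IsDomain W] [Module.Flat B C] {w : W} (hw : w ≠ 0) :
    ((1 : C) ⊗ₜ[B] w) ∈ nonZeroDivisors (C ⊗[B] W) := by
  have hinj : Function.Injective (LinearMap.lTensor C (LinearMap.mulLeft B w)) :=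
    Module.Flat.lTensor_preserves_injective_linearMap _ (mul_right_injective₀ hw)
  have hmul : ∀ x : C ⊗[B] W,
      ((1 : C) ⊗ₜ[B] w) * x = LinearMap.lTensor C (LinearMap.mulLeft B w) x := by
    intro x
    induction x using TensorProduct.induction_on with
    | zero => simp
    | tmul a v => simp [Algebra.TensorProduct.tmul_mul_tmul]
    | add x y hx hy => rw [mul_add, map_add, hx, hy]
  rw [mem_nonZeroDivisors_iff_left]
  intro x hx
  rw [hmul] at hx
  exact hinj (by rw [hx, map_zero])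

end TensorNZD

section ResPrime
variable {B C W : Type u} [CommRing B] [CommRing C] [CommRing W] [IsLocalRing B] [IsLocalRing C]
  [IsLocalRing W] [Algebra B C] [Algebra B W] [IsLocalHom (algebraMap B C)]
  [IsLocalHom (algebraMap B W)]

/-- A prime of `C ⊗[B] W` containing both maximal ideals. -/
theorem exists_prime_tensor :
    ∃ 𝔮 : Ideal (C ⊗[B] W), 𝔮.IsPrime ∧
      (∀ c ∈ IsLocalRing.maximalIdeal C, (c ⊗ₜ[B] (1 : W)) ∈ 𝔮) ∧
      (∀ w ∈ IsLocalRing.maximalIdeal W, ((1 : C) ⊗ₜ[B] w) ∈ 𝔮) := by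
  classical
  let kB := IsLocalRing.ResidueField B
  let kC := IsLocalRing.ResidueField C
  let kW := IsLocalRing.ResidueField W
  let T := kC ⊗[kB] kW
  haveI : Nontrivial T :=
    Algebra.TensorProduct.nontrivial_of_algebraMap_injective_of_flat_left kB kC kW
      (algebraMap kB kW).injective
  obtain ⟨𝔪, h𝔪⟩ := Ideal.exists_maximal T
  letI : Field (T ⧸ 𝔪) := Ideal.Quotient.field 𝔪
  let α₀ : C →+* T ⧸ 𝔪 := (Ideal.Quotient.mk 𝔪).comp
    ((Algebra.TensorProduct.includeLeftRingHom).comp (IsLocalRing.residue C))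
  let β₀ : W →+* T ⧸ 𝔪 := (Ideal.Quotient.mk 𝔪).comp
    ((Algebra.TensorProduct.includeRight : kW →ₐ[kB] T).toRingHom.comp (IsLocalRing.residue W))
  have hαβ : ∀ b : B, α₀ (algebraMap B C b) = β₀ (algebraMap B W b) := by
    intro b
    show Ideal.Quotient.mk 𝔪 ((IsLocalRing.residue C (algebraMap B C b)) ⊗ₜ[kB] (1 : kW)) =
      Ideal.Quotient.mk 𝔪 ((1 : kC) ⊗ₜ[kB] (IsLocalRing.residue W (algebraMap B W b)))
    congr 1
    rw [← IsLocalRing.ResidueField.map_residue (algebraMap B C),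
      ← IsLocalRing.ResidueField.map_residue (algebraMap B W)]
    show (algebraMap kB kC (IsLocalRing.residue B b)) ⊗ₜ[kB] (1 : kW) =
      (1 : kC) ⊗ₜ[kB] (algebraMap kB kW (IsLocalRing.residue B b))
    rw [Algebra.algebraMap_eq_smul_one, Algebra.algebraMap_eq_smul_one, TensorProduct.smul_tmul]
  letI algBS : Algebra B (T ⧸ 𝔪) := (α₀.comp (algebraMap B C)).toAlgebra
  let fC : C →ₐ[B] T ⧸ 𝔪 := { α₀ with commutes' := fun b => rfl }
  let fW : W →ₐ[B] T ⧸ 𝔪 := { β₀ with commutes' := fun b => (hαβ b).symm }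
  let ψ : C ⊗[B] W →ₐ[B] T ⧸ 𝔪 := Algebra.TensorProduct.productMap fC fW
  refine ⟨RingHom.ker ψ, RingHom.ker_isPrime ψ, ?_, ?_⟩
  · intro c hc
    show ψ (c ⊗ₜ 1) = 0
    rw [Algebra.TensorProduct.productMap_apply_tmul, map_one, mul_one]
    show Ideal.Quotient.mk 𝔪 ((IsLocalRing.residue C c) ⊗ₜ[kB] (1 : kW)) = 0
    rw [(IsLocalRing.residue_eq_zero_iff c).mpr hc, TensorProduct.zero_tmul, map_zero]
  · intro w hw
    show ψ (1 ⊗ₜ w) = 0
    rw [Algebra.TensorProduct.productMap_apply_tmul, map_one, one_mul]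
    show Ideal.Quotient.mk 𝔪 ((1 : kC) ⊗ₜ[kB] (IsLocalRing.residue W w)) = 0
    rw [(IsLocalRing.residue_eq_zero_iff w).mpr hw, TensorProduct.tmul_zero, map_zero]

end ResPrime

end Groth.Agent.Lib.Helper27.Sol
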