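import Mathlib
import Groth.Prelude.Def_EtRam
import Groth.Agent.Lib.Helper27.Sol1

/-! Compositum construction for descending (weak) solutions along a tower of DVRs. -/

set_option autoImplicit false

namespace Groth.Agent.Lib.Helper27.Sol
open TensorProduct

universe u

section Compositum
variable {B C L M₀ M : Type u} [CommRing B] [IsDomain B] [IsDiscreteValuationRing B]
  [CommRing C] [IsDomain C] [IsDiscreteValuationRing C] [Algebra B C]
  [IsLocalHom (algebraMap B C)]
  [Field L] [Field M₀] [Field M] [Algebra B L] [IsFractionRing B L] [Algebra C M₀]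
  [IsFractionRing C M₀] [Algebra L M₀] [Algebra B M₀] [IsScalarTower B C M₀]
  [IsScalarTower B L M₀] [Algebra L M]

theorem exists_compositum (hinj : Function.Injective (algebraMap B C)) (W : ValuationSubring M)
    (hW : EtRam.Dominates B ((algebraMap L M).comp (algebraMap B L)) W) :
    ∃ (M' : Type u) (_ : Field M') (i₀ : M₀ →+* M') (i : M →+* M') (W' : ValuationSubring M'),
      i₀.comp (algebraMap L M₀) = i.comp (algebraMap L M) ∧
      EtRam.Dominates C (i₀.comp (algebraMap C M₀)) W' ∧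
      (∀ y : M, i y ∈ W' ↔ y ∈ W) ∧
      ∀ z : M', ∃ a b : M', b ≠ 0 ∧ z = a / b ∧
        a ∈ Subring.closure (Set.range i₀ ∪ Set.range i) ∧
        b ∈ Subring.closure (Set.range i₀ ∪ Set.range i) := by
  classical
  let g₀ : B →+* M := (algebraMap L M).comp (algebraMap B L)
  letI algBM : Algebra B M := g₀.toAlgebra
  letI algBW : Algebra B W := (RingHom.codRestrict g₀ W hW.1).toAlgebra
  have hBW : ∀ b : B, ((algebraMap B W b : W) : M) = g₀ b := fun b => rfl
  have hg₀inj : Function.Injective g₀ :=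
    (algebraMap L M).injective.comp (IsFractionRing.injective B L)
  have hBWinj : Function.Injective (algebraMap B W) := by
    intro x y hxy
    apply hg₀inj
    rw [← hBW, ← hBW, hxy]
  haveI : Module.IsTorsionFree B W := Module.isTorsionFree_iff_algebraMap_injective.mpr hBWinj
  haveI : Module.IsTorsionFree B C := Module.isTorsionFree_iff_algebraMap_injective.mpr hinj
  haveI : Module.Flat B W := inferInstance
  haveI : Module.Flat B C := inferInstance
  haveI hlocBW : IsLocalHom (algebraMap B W) :=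
    TT.isLocalHom_of_dominates (A := B) (L := M) (V := W) hW (fun b => rfl)
  obtain ⟨𝔮, h𝔮, h𝔮C, h𝔮W⟩ := exists_prime_tensor (B := B) (C := C) (W := W)
  obtain ⟨𝔮₀, h𝔮₀min, h𝔮₀le⟩ :=
    Ideal.exists_minimalPrimes_le (bot_le : (⊥ : Ideal (C ⊗[B] W)) ≤ 𝔮)
  haveI h𝔮₀ : 𝔮₀.IsPrime := h𝔮₀min.1.1
  have hdisj := Ideal.disjoint_nonZeroDivisors_of_mem_minimalPrimes h𝔮₀min
  have hC0 : ∀ c : C, c ≠ 0 → (c ⊗ₜ[B] (1 : W)) ∉ 𝔮₀ := fun c hc hmem =>
    Set.disjoint_left.mp hdisj hmem (tmul_one_mem_nzd hc)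
  have hW0 : ∀ w : W, w ≠ 0 → ((1 : C) ⊗ₜ[B] w) ∉ 𝔮₀ := fun w hw hmem =>
    Set.disjoint_left.mp hdisj hmem (one_tmul_mem_nzd hw)
  let D := (C ⊗[B] W) ⧸ 𝔮₀
  let M' := FractionRing D
  let ρ : C ⊗[B] W →+* M' := (algebraMap D M').comp (Ideal.Quotient.mk 𝔮₀)
  have hρ : ∀ p, ρ p = 0 ↔ p ∈ 𝔮₀ := by
    intro p
    show algebraMap D M' (Ideal.Quotient.mk 𝔮₀ p) = 0 ↔ _
    rw [map_eq_zero_iff _ (IsFractionRing.injective D M'), Ideal.Quotient.eq_zero_iff_mem]
  let γC : C →+* M' := ρ.comp Algebra.TensorProduct.includeLeftRingHom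
  let γW : W →+* M' := ρ.comp (Algebra.TensorProduct.includeRight : W →ₐ[B] C ⊗[B] W).toRingHom
  have hγC : Function.Injective γC := by
    rw [injective_iff_map_eq_zero]
    intro c hc
    by_contra h0
    exact hC0 c h0 ((hρ _).mp hc)
  have hγW : Function.Injective γW := by
    rw [injective_iff_map_eq_zero]
    intro w hw
    by_contra h0
    exact hW0 w h0 ((hρ _).mp hw)
  let i₀ : M₀ →+* M' := IsFractionRing.lift hγC
  let i : M →+* M' := IsFractionRing.lift hγW
  have hi₀ : ∀ c : C, i₀ (algebraMap C M₀ c) = γC c := IsFractionRing.lift_algebraMap hγC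
  have hi : ∀ w : W, i (w : M) = γW w := IsFractionRing.lift_algebraMap hγW
  have hcompat : i₀.comp (algebraMap L M₀) = i.comp (algebraMap L M) := by
    apply IsLocalization.ringHom_ext (nonZeroDivisors B)
    ext b
    simp only [RingHom.coe_comp, Function.comp_apply]
    rw [← IsScalarTower.algebraMap_apply B L M₀, IsScalarTower.algebraMap_apply B C M₀, hi₀]
    have : algebraMap L M (algebraMap B L b) = ((algebraMap B W b : W) : M) := rfl
    rw [this, hi]
    show ρ ((algebraMap B C b) ⊗ₜ 1) = ρ (1 ⊗ₜ (algebraMap B W b))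
    congr 1
    rw [Algebra.algebraMap_eq_smul_one, Algebra.algebraMap_eq_smul_one, TensorProduct.smul_tmul]
  have hunit : ∀ y : 𝔮.primeCompl, IsUnit (ρ y) := by
    intro y
    apply IsUnit.mk0
    intro h0
    exact y.2 (h𝔮₀le ((hρ _).mp h0))
  let φ : Localization.AtPrime 𝔮 →+* M' := IsLocalization.lift hunit
  have hφ : ∀ p, φ (algebraMap _ (Localization.AtPrime 𝔮) p) = ρ p := IsLocalization.lift_eq hunit
  obtain ⟨W', hW'mem, hW'loc⟩ := IsLocalRing.exists_factor_valuationRing φ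
  have hρW' : ∀ p, ρ p ∈ W' := fun p => by rw [← hφ]; exact hW'mem _
  have hρnon : ∀ p ∈ 𝔮, W'.valuation (ρ p) < 1 := by
    intro p hp
    have h1 : algebraMap _ (Localization.AtPrime 𝔮) p ∈
        IsLocalRing.maximalIdeal (Localization.AtPrime 𝔮) :=
      (IsLocalization.AtPrime.to_map_mem_maximal_iff _ 𝔮 p).mpr hp
    have h2 : ¬ IsUnit ((φ.codRestrict W'.toSubring hW'mem) (algebraMap _ _ p)) := fun hu =>
      h1 (hW'loc.map_nonunit _ hu)
    by_cases h0 : ρ p = 0
    · rw [h0, map_zero]; exact zero_lt_one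
    · rw [TT.val_lt_one_iff W' h0]
      intro hinv
      apply h2
      refine isUnit_iff_exists_inv.mpr ⟨⟨(ρ p)⁻¹, hinv⟩, Subtype.ext ?_⟩
      show φ (algebraMap _ _ p) * (ρ p)⁻¹ = 1
      rw [hφ, mul_inv_cancel₀ h0]
  have hdomC : EtRam.Dominates C (i₀.comp (algebraMap C M₀)) W' := by
    refine ⟨fun c => ?_, fun c hc => ?_⟩
    · show i₀ (algebraMap C M₀ c) ∈ W'
      rw [hi₀]; exact hρW' _
    · show W'.valuation (i₀ (algebraMap C M₀ c)) < 1
      rw [hi₀]; exact hρnon _ (h𝔮C c hc)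
  have hWW' : ∀ y : M, i y ∈ W' ↔ y ∈ W := by
    intro y
    constructor
    · intro hy
      by_contra hyW
      have hy0 : y ≠ 0 := fun h => hyW (h ▸ W.zero_mem)
      have hinv : y⁻¹ ∈ W := (W.mem_or_inv_mem y).resolve_left hyW
      have hnon : (⟨y⁻¹, hinv⟩ : W) ∈ IsLocalRing.maximalIdeal W := by
        rw [ValuationSubring.valuation_lt_one_iff]
        show W.valuation y⁻¹ < 1
        rw [TT.val_lt_one_iff W (inv_ne_zero hy0), inv_inv]; exact hyW
      have hlt : W'.valuation (i y⁻¹) < 1 := by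
        have := hρnon _ (h𝔮W _ hnon)
        rwa [show ρ ((1:C) ⊗ₜ[B] (⟨y⁻¹, hinv⟩ : W)) = i (y⁻¹) from (hi ⟨y⁻¹, hinv⟩).symm] at this
      rw [map_inv₀, TT.val_lt_one_iff W' (inv_ne_zero ((map_ne_zero i).mpr hy0)), inv_inv] at hlt
      exact hlt hy
    · intro hy
      rw [show i y = γW ⟨y, hy⟩ from hi ⟨y, hy⟩]
      exact hρW' _
  have hρcl : ∀ p, ρ p ∈ Subring.closure (Set.range i₀ ∪ Set.range i) := by
    intro p
    induction p using TensorProduct.induction_on with
    | zero => rw [map_zero]; exact Subring.zero_mem _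
    | tmul c w =>
      have : c ⊗ₜ[B] w = (c ⊗ₜ[B] (1:W)) * ((1:C) ⊗ₜ[B] w) := by
        rw [Algebra.TensorProduct.tmul_mul_tmul, mul_one, one_mul]
      rw [this, map_mul]
      exact Subring.mul_mem _ (Subring.subset_closure (Or.inl ⟨algebraMap C M₀ c, hi₀ c⟩))
        (Subring.subset_closure (Or.inr ⟨(w : M), hi w⟩))
    | add x y hx hy => rw [map_add]; exact Subring.add_mem _ hx hy
  refine ⟨M', inferInstance, i₀, i, W', hcompat, hdomC, hWW', ?_⟩
  intro z
  obtain ⟨x, y, hy, rfl⟩ := IsFractionRing.div_surjective D z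
  obtain ⟨px, rfl⟩ := Ideal.Quotient.mk_surjective x
  obtain ⟨py, rfl⟩ := Ideal.Quotient.mk_surjective y
  refine ⟨ρ px, ρ py, ?_, rfl, hρcl px, hρcl py⟩
  exact (map_ne_zero_iff _ (IsFractionRing.injective D M')).mpr (nonZeroDivisors.ne_zero hy)

end Compositum

end Groth.Agent.Lib.Helper27.Sol
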