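import Mathlib
import Groth.Prelude.Def_EtRam
import Groth.Agent.Lib.Helper27.Sol2

/-! Descending (weak) solutions along a tower of DVRs. -/

set_option autoImplicit false

namespace Groth.Agent.Lib.Helper27.Sol
open TensorProduct IsLocalRing

universe u

section Transfer
variable {K₁ M M' : Type u} [Field K₁] [Field M] [Field M']

theorem transfer_weak (i : M →+* M') (f : K₁ →+* M)
    (W' : ValuationSubring M') (W : ValuationSubring M) (hWW' : ∀ y, i y ∈ W' ↔ y ∈ W)
    (h : letI : Algebra (W'.comap (i.comp f)) W' := (EtRam.inclOfComap W' (i.comp f)).toAlgebra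
         EtRam.IsWeaklyUnramified (W'.comap (i.comp f)) W') :
    letI : Algebra (W.comap f) W := (EtRam.inclOfComap W f).toAlgebra
    EtRam.IsWeaklyUnramified (W.comap f) W := by
  letI alg' : Algebra (W'.comap (i.comp f)) W' := (EtRam.inclOfComap W' (i.comp f)).toAlgebra
  letI alg : Algebra (W.comap f) W := (EtRam.inclOfComap W f).toAlgebra
  show (maximalIdeal (W.comap f)).map (algebraMap (W.comap f) W) = maximalIdeal W
  have h' : (maximalIdeal (W'.comap (i.comp f))).map (algebraMap (W'.comap (i.comp f)) W') =
      maximalIdeal W' := h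
  apply le_antisymm
  · rw [Ideal.map_le_iff_le_comap]
    intro x hx
    rw [Ideal.mem_comap]
    exact fun hu => hx (isUnit_of_map_unit (EtRam.inclOfComap W f) x hu)
  · intro y hy
    by_cases hy0 : y = 0
    · rw [hy0]; exact Ideal.zero_mem _
    have hy0' : (y : M) ≠ 0 := fun h => hy0 (Subtype.ext h)
    have hiy : i (y : M) ∈ W' := (hWW' _).mpr y.2
    have hylt : W.valuation (y : M) < 1 := (ValuationSubring.valuation_lt_one_iff W y).mp hy
    have hiylt : W'.valuation (i (y : M)) < 1 := by
      rw [TT.val_lt_one_iff W' ((map_ne_zero i).mpr hy0'), ← map_inv₀, hWW']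
      rwa [TT.val_lt_one_iff W hy0'] at hylt
    have hmem : (⟨i (y:M), hiy⟩ : W') ∈ maximalIdeal W' :=
      (ValuationSubring.valuation_lt_one_iff W' _).mpr hiylt
    rw [← h'] at hmem
    obtain ⟨a, ha, w', hw'⟩ := exists_dvd_of_mem_map _ _ hmem
    have hval : i (y : M) = i (f (a : K₁)) * (w' : M') := congrArg Subtype.val hw'
    have ha0 : (a : K₁) ≠ 0 := by
      intro h0
      rw [h0, map_zero, map_zero, zero_mul] at hval
      exact hy0' ((map_eq_zero i).mp hval)
    have hfa0 : f (a : K₁) ≠ 0 := (map_ne_zero f).mpr ha0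
    have haW : f (a : K₁) ∈ W := (hWW' _).mp a.2
    have hq : (y : M) / f (a : K₁) ∈ W := by
      rw [← hWW', map_div₀, hval, mul_div_cancel_left₀ _ ((map_ne_zero i).mpr hfa0)]
      exact w'.2
    have ham : (⟨(a : K₁), haW⟩ : W.comap f) ∈ maximalIdeal (W.comap f) := by
      rw [ValuationSubring.valuation_lt_one_iff]
      show (W.comap f).valuation (a : K₁) < 1
      rw [TT.val_lt_one_iff _ ha0]
      have ha' : (W'.comap (i.comp f)).valuation (a : K₁) < 1 :=
        (ValuationSubring.valuation_lt_one_iff _ a).mp ha
      rw [TT.val_lt_one_iff _ ha0] at ha'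
      intro hmem
      apply ha'
      show i (f (a : K₁)⁻¹) ∈ W'
      exact (hWW' _).mpr hmem
    have : y = algebraMap (W.comap f) W ⟨(a : K₁), haW⟩ * ⟨(y : M) / f (a : K₁), hq⟩ := by
      apply Subtype.ext
      show (y : M) = f (a : K₁) * ((y : M) / f (a : K₁))
      field_simp
    rw [this]
    exact Ideal.mul_mem_right _ _ (Ideal.mem_map_of_mem _ ham)

theorem transfer_sol (i : M →+* M') (f : K₁ →+* M)
    (W' : ValuationSubring M') (W : ValuationSubring M) (hWW' : ∀ y, i y ∈ W' ↔ y ∈ W)
    (h : letI : Algebra (W'.comap (i.comp f)) W' := (EtRam.inclOfComap W' (i.comp f)).toAlgebra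
         EtRam.IsWeaklyUnramified (W'.comap (i.comp f)) W' ∧
          @Algebra.IsGeometricallyReduced (ResidueField (W'.comap (i.comp f))) (ResidueField W') _ _
            (ResidueField.map (EtRam.inclOfComap W' (i.comp f))).toAlgebra) :
    letI : Algebra (W.comap f) W := (EtRam.inclOfComap W f).toAlgebra
    EtRam.IsWeaklyUnramified (W.comap f) W ∧
      @Algebra.IsGeometricallyReduced (ResidueField (W.comap f)) (ResidueField W) _ _
        (ResidueField.map (EtRam.inclOfComap W f)).toAlgebra := by
  obtain rfl : W = W'.comap i := SetLike.ext (fun y => (hWW' y).symm)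
  refine ⟨transfer_weak i f W' _ (fun y => Iff.rfl) h.1, ?_⟩
  letI algk : Algebra (ResidueField ((W'.comap i).comap f)) (ResidueField (W'.comap i)) :=
    (ResidueField.map (EtRam.inclOfComap (W'.comap i) f)).toAlgebra
  letI algk' : Algebra (ResidueField ((W'.comap i).comap f)) (ResidueField W') :=
    (ResidueField.map (EtRam.inclOfComap W' (i.comp f))).toAlgebra
  haveI : Algebra.IsGeometricallyReduced (ResidueField ((W'.comap i).comap f))
    (ResidueField W') := h.2
  let F : ResidueField (W'.comap i) →ₐ[ResidueField ((W'.comap i).comap f)] ResidueField W' :=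
    { ResidueField.map (EtRam.inclOfComap W' i) with
      commutes' := by
        intro r
        obtain ⟨x, rfl⟩ := IsLocalRing.residue_surjective r
        show ResidueField.map (EtRam.inclOfComap W' i)
          (ResidueField.map (EtRam.inclOfComap (W'.comap i) f) (residue _ x)) =
          ResidueField.map (EtRam.inclOfComap W' (i.comp f)) (residue _ x)
        rw [ResidueField.map_residue, ResidueField.map_residue, ResidueField.map_residue]
        rfl }
  exact Algebra.IsGeometricallyReduced.of_injective F F.toRingHom.injective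

end Transfer

section Main
variable {B C K L M₀ K₁ : Type u}
  [CommRing B] [IsDomain B] [IsDiscreteValuationRing B]
  [CommRing C] [IsDomain C] [IsDiscreteValuationRing C] [Algebra B C]
  [IsLocalHom (algebraMap B C)]
  [Field K] [Field L] [Field M₀] [Field K₁] [Algebra K L] [Algebra K M₀] [Algebra L M₀]
  [IsScalarTower K L M₀] [Algebra K K₁] [FiniteDimensional K K₁]
  [Algebra B L] [IsFractionRing B L]
  [Algebra C M₀] [IsFractionRing C M₀] [Algebra B M₀]
  [IsScalarTower B C M₀] [IsScalarTower B L M₀]

theorem forall_transfer (hinj : Function.Injective (algebraMap B C))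
    (P : ∀ (M : Type u) [Field M], ValuationSubring M → (K₁ →+* M) → Prop)
    (hP : ∀ (M M' : Type u) [Field M] [Field M'] (i : M →+* M') (f : K₁ →+* M)
      (W' : ValuationSubring M') (W : ValuationSubring M), (∀ y, i y ∈ W' ↔ y ∈ W) →
       P M' W' (i.comp f) → P M W f) :
    EtRam.ForallLocalExt C K M₀ K₁ P → EtRam.ForallLocalExt B K L K₁ P := by
  intro hC M _ _ _ _ _ _ hadj W hW
  obtain ⟨M', instM', i₀, i, W', hcompat, hdomC, hWW', hgen⟩ :=
    exists_compositum (C := C) (M₀ := M₀) hinj W hW
  letI : Field M' := instM'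
  letI algM₀M' : Algebra M₀ M' := i₀.toAlgebra
  letI algK₁M' : Algebra K₁ M' := (i.comp (algebraMap K₁ M)).toAlgebra
  letI algKM' : Algebra K M' := (i₀.comp (algebraMap K M₀)).toAlgebra
  haveI : IsScalarTower K M₀ M' := IsScalarTower.of_algebraMap_eq (fun x => rfl)
  have hcompat' : ∀ l : L, i₀ (algebraMap L M₀ l) = i (algebraMap L M l) :=
    fun l => RingHom.congr_fun hcompat l
  haveI : IsScalarTower K K₁ M' := IsScalarTower.of_algebraMap_eq (fun x => by
    show i₀ (algebraMap K M₀ x) = i (algebraMap K₁ M (algebraMap K K₁ x))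
    rw [← IsScalarTower.algebraMap_apply K K₁ M, IsScalarTower.algebraMap_apply K L M,
      IsScalarTower.algebraMap_apply K L M₀, hcompat'])
  have hadj' : Algebra.adjoin M₀ (Set.range (algebraMap K₁ M')) = ⊤ := by
    have halg : ∀ x ∈ Set.range (algebraMap K₁ M'), IsAlgebraic M₀ x := by
      rintro _ ⟨x, rfl⟩
      have hx : IsIntegral K x := Algebra.IsIntegral.isIntegral x
      have hx' : IsIntegral K (algebraMap K₁ M' x) := hx.map (IsScalarTower.toAlgHom K K₁ M')
      exact (hx'.tower_top (A := M₀)).isAlgebraic
    have hSeq := IntermediateField.adjoin_toSubalgebra_of_isAlgebraic halg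
    have hiF : ∀ y : M, i y ∈ IntermediateField.adjoin M₀ (Set.range (algebraMap K₁ M')) := by
      intro y
      have hy : y ∈ Algebra.adjoin L (Set.range (algebraMap K₁ M)) := by rw [hadj]; trivial
      induction hy using Algebra.adjoin_induction with
      | mem y hy =>
        obtain ⟨x, rfl⟩ := hy
        exact IntermediateField.subset_adjoin _ _ ⟨x, rfl⟩
      | algebraMap l =>
        rw [← hcompat']
        exact IntermediateField.algebraMap_mem _ (algebraMap L M₀ l)
      | add y z _ _ hy hz => rw [map_add]; exact add_mem hy hz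
      | mul y z _ _ hy hz => rw [map_mul]; exact mul_mem hy hz
    have hcl : ∀ t ∈ Subring.closure (Set.range i₀ ∪ Set.range i),
        t ∈ IntermediateField.adjoin M₀ (Set.range (algebraMap K₁ M')) := by
      intro t ht
      induction ht using Subring.closure_induction with
      | mem t ht =>
        rcases ht with ⟨m, rfl⟩ | ⟨y, rfl⟩
        · exact IntermediateField.algebraMap_mem _ m
        · exact hiF y
      | zero => exact zero_mem _
      | one => exact one_mem _
      | add x y _ _ hx hy => exact add_mem hx hy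
      | neg x _ hx => exact neg_mem hx
      | mul x y _ _ hx hy => exact mul_mem hx hy
    rw [eq_top_iff]
    intro z _
    rw [← hSeq]
    obtain ⟨a, b, hb, rfl, ha, hb'⟩ := hgen z
    show a / b ∈ IntermediateField.adjoin M₀ (Set.range (algebraMap K₁ M'))
    exact div_mem (hcl a ha) (hcl b hb')
  have key := hC M' hadj' W' hdomC
  exact hP M M' i (algebraMap K₁ M) W' W hWW' key

theorem weak_of_weak (hinj : Function.Injective (algebraMap B C)) :
    EtRam.IsWeakSolution C K M₀ K₁ → EtRam.IsWeakSolution B K L K₁ :=
  forall_transfer hinj _ (fun M M' _ _ i f W' W hWW' h => transfer_weak i f W' W hWW' h)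

theorem sol_of_sol (hinj : Function.Injective (algebraMap B C)) :
    EtRam.IsSolution C K M₀ K₁ → EtRam.IsSolution B K L K₁ :=
  forall_transfer hinj _ (fun M M' _ _ i f W' W hWW' h => transfer_sol i f W' W hWW' h)

end Main

end Groth.Agent.Lib.Helper27.Sol
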