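import Mathlib
set_option autoImplicit false
universe u
open CategoryTheory CategoryTheory.Limits AlgebraicGeometry

namespace Groth.Agent.Lib.Helper27.StalkFacA

theorem fac_baseChange {X Y T : Scheme.{u}} (f : X ⟶ Y) (t : T ⟶ Y)
    (Y' : Scheme.{u}) (f' : X ⟶ Y') (u : Y' ⟶ Y) (hf' : IsImmersion f') (hu : IsFinite u)
    (h : f' ≫ u = f) :
    ∃ (Z : Scheme.{u}) (g : pullback f t ⟶ Z) (u' : Z ⟶ T),
      IsImmersion g ∧ IsFinite u' ∧ g ≫ u' = pullback.snd f t := by
  subst h
  -- big square
  have hbig : IsPullback (pullback.fst (f' ≫ u) t) (pullback.snd (f' ≫ u) t) (f' ≫ u) t :=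
    IsPullback.of_hasPullback _ _
  have hright : IsPullback (pullback.fst u t) (pullback.snd u t) u t :=
    IsPullback.of_hasPullback _ _
  have hw : (pullback.fst (f' ≫ u) t ≫ f') ≫ u = pullback.snd (f' ≫ u) t ≫ t := by
    rw [Category.assoc, pullback.condition]
  let g : pullback (f' ≫ u) t ⟶ pullback u t := hright.lift _ _ hw
  have hg1 : g ≫ pullback.fst u t = pullback.fst (f' ≫ u) t ≫ f' := hright.lift_fst _ _ hw
  have hg2 : g ≫ pullback.snd u t = pullback.snd (f' ≫ u) t := hright.lift_snd _ _ hw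
  -- left square is a pullback: vertical pasting
  have hleft : IsPullback (pullback.fst (f' ≫ u) t) g f' (pullback.fst u t) := by
    refine IsPullback.of_bot ?_ hg1.symm hright
    rw [hg2]
    exact hbig
  refine ⟨pullback u t, g, pullback.snd u t, ?_, ?_, hg2⟩
  · exact MorphismProperty.of_isPullback (P := @IsImmersion) hleft hf'
  · infer_instance

end Groth.Agent.Lib.Helper27.StalkFacA
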