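import Mathlib
set_option autoImplicit false
universe u
open CategoryTheory CategoryTheory.Limits AlgebraicGeometry

namespace Groth.Agent.Lib.Helper27.StalkFacB

theorem isSeparated_of_forall_stalk {X Y : Scheme.{u}} (f : X ⟶ Y) [QuasiSeparated f]
    (H : ∀ y : Y, IsSeparated (pullback.snd f (Y.fromSpecStalk y))) : IsSeparated f := by
  apply IsSeparated.of_valuativeCriterion
  intro S
  constructor
  rintro ⟨l₁, hl₁, hl₁'⟩ ⟨l₂, hl₂, hl₂'⟩
  ext : 1
  dsimp at *
  let y : Y := S.i₂ (IsLocalRing.closedPoint S.R)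
  let s : Spec (.of S.R) ⟶ Spec (Y.presheaf.stalk y) := Spec.map (Scheme.stalkClosedPointTo S.i₂)
  have hs : s ≫ Y.fromSpecStalk y = S.i₂ := Scheme.Spec_stalkClosedPointTo_fromSpecStalk S.i₂
  let m₁ : Spec (.of S.R) ⟶ pullback f (Y.fromSpecStalk y) :=
    pullback.lift l₁ s (hl₁'.trans hs.symm)
  let m₂ : Spec (.of S.R) ⟶ pullback f (Y.fromSpecStalk y) :=
    pullback.lift l₂ s (hl₂'.trans hs.symm)
  have key : m₁ = m₂ := by
    haveI := H y
    have huniq := IsSeparated.valuativeCriterion (pullback.snd f (Y.fromSpecStalk y))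
    let S' : ValuativeCommSq (pullback.snd f (Y.fromSpecStalk y)) :=
      { R := S.R, K := S.K,
        i₁ := Spec.map (CommRingCat.ofHom (algebraMap S.R S.K)) ≫ m₁
        i₂ := s
        commSq := ⟨by rw [Category.assoc, pullback.lift_snd]⟩ }
    have hsub := huniq S'
    have h21 : Spec.map (CommRingCat.ofHom (algebraMap S.R S.K)) ≫ m₂ =
        Spec.map (CommRingCat.ofHom (algebraMap S.R S.K)) ≫ m₁ := by
      apply pullback.hom_ext
      · simp only [Category.assoc, m₁, m₂, pullback.lift_fst]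
        rw [hl₁, hl₂]
      · simp only [Category.assoc, m₁, m₂, pullback.lift_snd]
    have e := @Subsingleton.elim _ hsub
      (⟨m₁, rfl, pullback.lift_snd _ _ _⟩ : S'.commSq.LiftStruct) ⟨m₂, h21, pullback.lift_snd _ _ _⟩
    exact congrArg CommSq.LiftStruct.l e
  calc l₁ = m₁ ≫ pullback.fst _ _ := (pullback.lift_fst _ _ _).symm
    _ = m₂ ≫ pullback.fst _ _ := by rw [key]
    _ = l₂ := pullback.lift_fst _ _ _

end Groth.Agent.Lib.Helper27.StalkFacB
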