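import Mathlib
import Groth.Agent.Lib.Helper27.StalkFacB
import Groth.Agent.Lib.Helper27.StalkFacC

/-!
# Stalkwise factorizations give the hypotheses of Zariski's main theorem (helper27, for S4825)
-/

set_option autoImplicit false
universe u
open CategoryTheory CategoryTheory.Limits AlgebraicGeometry

namespace Groth.Agent.Lib.Helper27.StalkFacD

/-- The properties needed for Zariski's main theorem, from the stalkwise factorizations. -/
theorem props_of_forall_stalk {X Y : Scheme.{u}} (f : X ⟶ Y) [IsNoetherian Y]
    [LocallyOfFiniteType f] [QuasiCompact f]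
    (H : ∀ y : Y, ∃ (Z : Scheme.{u}) (g : pullback f (Y.fromSpecStalk y) ⟶ Z)
        (u : Z ⟶ Spec (Y.presheaf.stalk y)),
        IsImmersion g ∧ IsFinite u ∧ g ≫ u = pullback.snd f (Y.fromSpecStalk y)) :
    IsSeparated f ∧ LocallyQuasiFinite f ∧ LocallyOfFinitePresentation f := by
  haveI : IsLocallyNoetherian X := LocallyOfFiniteType.isLocallyNoetherian f
  haveI : CompactSpace X := QuasiCompact.compactSpace_of_compactSpace f
  haveI : IsNoetherian X := {}
  haveI : QuasiSeparated f := inferInstance
  refine ⟨Groth.Agent.Lib.Helper27.StalkFacB.isSeparated_of_forall_stalk f fun y => ?_,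
    Groth.Agent.Lib.Helper27.StalkFacC.locallyQuasiFinite_of_forall_stalk f fun y => ?_, ?_⟩
  · obtain ⟨Z, g, u, hg, hu, h⟩ := H y
    rw [← h]
    infer_instance
  · obtain ⟨Z, g, u, hg, hu, h⟩ := H y
    rw [← h]
    infer_instance
  · infer_instance

end Groth.Agent.Lib.Helper27.StalkFacD
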