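import Mathlib
import Groth.Agent.Lib.Helper26.HenselLocal

/-!
# Tame ramification over a henselian DVR with algebraically closed residue field

Hensel-type lemmas in `O` (roots of units, roots of unity), Eisenstein irreducibility over the
fraction field, and the key lemma: a root `α` of a tame Eisenstein polynomial of degree `e`
generates the same field as an `e`-th root of a uniformizer.
-/

set_option autoImplicit false
universe u
open Polynomial IsLocalRing IntermediateField

namespace Groth.Agent.Lib.Helper27.Tame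

section HenselO

variable (O : Type u) [CommRing O] [HenselianLocalRing O]

theorem natCast_residue_ne_zero (p : ℕ) [CharP (ResidueField O) p] (n : ℕ)
    (hn1 : 1 ≤ n) (hnp : n < p) : (n : ResidueField O) ≠ 0 := by
  intro h
  rw [CharP.cast_eq_zero_iff (ResidueField O) p] at h
  exact absurd (Nat.le_of_dvd hn1 h) (by omega)

/-- Hensel lift of a root of `X^n - u` with prescribed residue. -/
theorem exists_pow_eq (n : ℕ) (hn : (n : ResidueField O) ≠ 0) (u : O) (hu : IsUnit u)
    (z : ResidueField O) (hz : z ^ n = residue O u) :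
    ∃ ν : O, ν ^ n = u ∧ residue O ν = z := by
  have hn0 : n ≠ 0 := by
    rintro rfl
    exact hn (by simp)
  obtain ⟨d, rfl⟩ := residue_surjective z
  have hu' : residue O u ≠ 0 := (residue_ne_zero_iff_isUnit u).mpr hu
  have hd : residue O d ≠ 0 := by
    intro h
    rw [h, zero_pow hn0] at hz
    exact hu' hz.symm
  have hdu : IsUnit d := (residue_ne_zero_iff_isUnit d).mp hd
  have h1 : eval d (X ^ n - C u : O[X]) ∈ maximalIdeal O := by
    rw [← residue_eq_zero_iff, eval_sub, eval_pow, eval_X, eval_C, map_sub, map_pow, hz, sub_self]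
  have h2 : IsUnit (eval d (derivative (X ^ n - C u : O[X]))) := by
    rw [derivative_sub, derivative_C, sub_zero, derivative_X_pow, eval_mul, eval_C, eval_pow,
      eval_X]
    refine IsUnit.mul ?_ (hdu.pow _)
    rw [← residue_ne_zero_iff_isUnit, map_natCast]
    exact hn
  obtain ⟨a, ha, had⟩ := HenselianLocalRing.is_henselian (X ^ n - C u : O[X])
    (monic_X_pow_sub_C u hn0) d h1 h2
  refine ⟨a, ?_, ?_⟩
  · have : eval a (X ^ n - C u : O[X]) = 0 := ha
    rw [eval_sub, eval_pow, eval_X, eval_C, sub_eq_zero] at this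
    exact this
  · rw [← sub_eq_zero, ← map_sub, residue_eq_zero_iff]
    exact had

variable [IsAlgClosed (ResidueField O)]

theorem exists_pow_eq_of_isUnit (n : ℕ) (hn : (n : ResidueField O) ≠ 0) (u : O) (hu : IsUnit u) :
    ∃ ν : O, ν ^ n = u := by
  have hn0 : 0 < n := Nat.pos_of_ne_zero (by rintro rfl; exact hn (by simp))
  obtain ⟨z, hz⟩ := IsAlgClosed.exists_pow_nat_eq (residue O u) hn0
  obtain ⟨ν, hν, -⟩ := exists_pow_eq O n hn u hu z hz
  exact ⟨ν, hν⟩

theorem exists_primitiveRoot (n : ℕ) (hn : (n : ResidueField O) ≠ 0) :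
    ∃ ζ : O, IsPrimitiveRoot ζ n := by
  haveI : NeZero (n : ResidueField O) := ⟨hn⟩
  obtain ⟨z, hz⟩ := HasEnoughRootsOfUnity.exists_primitiveRoot (ResidueField O) n
  obtain ⟨ζ, hζ, hζz⟩ := exists_pow_eq O n hn 1 isUnit_one z (by rw [hz.pow_eq_one, map_one])
  refine ⟨ζ, ⟨hζ, fun l hl => ?_⟩⟩
  apply hz.dvd_of_pow_eq_one
  rw [← hζz, ← map_pow, hl, map_one]

end HenselO

section Eis

variable (O : Type u) [CommRing O] [IsDomain O] [IsDiscreteValuationRing O]
  (K : Type*) [Field K] [Algebra O K] [IsFractionRing O K]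

theorem irreducible_map_of_eisenstein (f : O[X]) (hmon : f.Monic) (hdeg : 0 < f.natDegree)
    (hf : f.IsEisensteinAt (maximalIdeal O)) : Irreducible (f.map (algebraMap O K)) := by
  have h1 : Irreducible f :=
    hf.irreducible (maximalIdeal.isMaximal O).isPrime hmon.isPrimitive hdeg
  exact (hmon.irreducible_iff_irreducible_map_fraction_map (K := K)).mp h1

theorem eisenstein_X_pow_sub_C (n : ℕ) (hn : 1 ≤ n) (ϖ : O) (hϖ : Irreducible ϖ) :
    (X ^ n - C ϖ : O[X]).IsEisensteinAt (maximalIdeal O) := by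
  have hmon : (X ^ n - C ϖ : O[X]).Monic := monic_X_pow_sub_C ϖ (by omega)
  have hnd : (X ^ n - C ϖ : O[X]).natDegree = n := natDegree_X_pow_sub_C
  have hϖm : ϖ ∈ maximalIdeal O := (mem_maximalIdeal _).mpr hϖ.not_isUnit
  refine ⟨?_, ?_, ?_⟩
  · rw [hmon.leadingCoeff]
    exact fun h => (mem_maximalIdeal _).mp h isUnit_one
  · intro i hi
    rw [hnd] at hi
    rw [coeff_sub, coeff_X_pow, if_neg hi.ne, zero_sub, coeff_C]
    split_ifs with h0
    · exact neg_mem hϖm
    · rw [neg_zero]; exact zero_mem _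
  · rw [coeff_sub, coeff_X_pow, if_neg (by omega), zero_sub, coeff_C_zero, neg_mem_iff,
      hϖ.maximalIdeal_eq, Ideal.span_singleton_pow, Ideal.mem_span_singleton]
    rintro ⟨c, hc⟩
    have h0 : ϖ ≠ 0 := hϖ.ne_zero
    have h1 : ϖ * 1 = ϖ * (ϖ * c) := by
      rw [mul_one, ← mul_assoc, ← pow_two]
      exact hc
    have h2 := mul_left_cancel₀ h0 h1
    exact hϖ.not_isUnit (IsUnit.of_mul_eq_one c h2.symm)

theorem irreducible_X_pow_sub_C (n : ℕ) (hn : 1 ≤ n) (ϖ : O) (hϖ : Irreducible ϖ) :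
    Irreducible (X ^ n - C (algebraMap O K ϖ) : K[X]) := by
  have h := irreducible_map_of_eisenstein O K (X ^ n - C ϖ) (monic_X_pow_sub_C ϖ (by omega))
    (by rw [natDegree_X_pow_sub_C]; omega) (eisenstein_X_pow_sub_C O n hn ϖ hϖ)
  rwa [Polynomial.map_sub, Polynomial.map_pow, map_X, map_C] at h

end Eis

section Field

theorem finrank_adjoin_of_irreducible {K L : Type*} [Field K] [Field L] [Algebra K L]
    (g : K[X]) (hg : Irreducible g) (hm : g.Monic) (x : L) (hx : aeval x g = 0) :
    Module.finrank K K⟮x⟯ = g.natDegree := by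
  have hint : IsIntegral K x := ⟨g, hm, by rw [← aeval_def]; exact hx⟩
  rw [IntermediateField.adjoin.finrank hint, ← minpoly.eq_of_irreducible_of_monic hg hx hm]

theorem finiteDimensional_adjoin_of_root {K L : Type*} [Field K] [Field L] [Algebra K L]
    (g : K[X]) (hm : g.Monic) (x : L) (hx : aeval x g = 0) :
    FiniteDimensional K K⟮x⟯ :=
  IntermediateField.adjoin.finiteDimensional ⟨g, hm, by rw [← aeval_def]; exact hx⟩

theorem zpow_bezout {L : Type*} [Field L] (σ P : L) (hP : P ≠ 0) (r b : ℕ) (x y : ℤ)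
    (h : (b : ℤ) * x + r * y = 1) (hσ : σ ^ r = P ^ b) : (σ ^ x * P ^ y) ^ r = P := by
  have e1 : (σ ^ x) ^ r = P ^ ((b : ℤ) * x) := by
    rw [← zpow_natCast (σ ^ x) r, ← zpow_mul, mul_comm x (r : ℤ), zpow_mul, zpow_natCast, hσ,
      ← zpow_natCast P b, ← zpow_mul]
  have e2 : (P ^ y) ^ r = P ^ ((r : ℤ) * y) := by
    rw [← zpow_natCast (P ^ y) r, ← zpow_mul, mul_comm]
  rw [mul_pow, e1, e2, ← zpow_add₀ hP, h, zpow_one]

end Field

end Groth.Agent.Lib.Helper27.Tame
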