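import Mathlib
import Groth.Agent.Lib.Helper27.Tame1

/-!
# Splitting field of `∏ (X^{r_i} - V_i P^{b_i})` (field-level part of S16052)
-/

set_option autoImplicit false
universe u
open Polynomial IntermediateField

namespace Groth.Agent.Lib.Helper27.Tame

theorem finrank_splittingField_prod {K : Type u} [Field K] (P : K) (hP : P ≠ 0)
    (hirr : ∀ n : ℕ, 1 ≤ n → Irreducible (X ^ n - C P : K[X]))
    (m : ℕ) (r b : Fin m → ℕ) (V : Fin m → K)
    (hr : ∀ i, 1 ≤ r i) (hrb : ∀ i, Nat.Coprime (r i) (b i))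
    (hV : ∀ i, ∃ ν : K, ν ≠ 0 ∧ ν ^ (r i) = V i)
    (hζ : ∀ i, ∃ ζ : K, IsPrimitiveRoot ζ (r i)) :
    Module.finrank K (∏ i, (X ^ (r i) - C (V i * P ^ (b i)))).SplittingField =
      Finset.univ.lcm r := by
  classical
  obtain ⟨G, hG⟩ : ∃ G : K[X], G = ∏ i, (X ^ (r i) - C (V i * P ^ (b i))) := ⟨_, rfl⟩
  obtain ⟨N, hN⟩ : ∃ N : ℕ, N = Finset.univ.lcm r := ⟨_, rfl⟩
  rw [← hG, ← hN]
  have hrN : ∀ i, r i ∣ N := fun i => by rw [hN]; exact Finset.dvd_lcm (Finset.mem_univ i)
  have hgmon : ∀ i, (X ^ (r i) - C (V i * P ^ (b i)) : K[X]).Monic :=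
    fun i => monic_X_pow_sub_C _ (by have := hr i; omega)
  have hGmon : G.Monic := by rw [hG]; exact monic_prod_of_monic _ _ (fun i _ => hgmon i)
  have hsplit : (G.map (algebraMap K G.SplittingField)).Splits := SplittingField.splits G
  have hPS : algebraMap K G.SplittingField P ≠ 0 := by
    rw [Ne, map_eq_zero]; exact hP
  -- lower bound
  have hlow : ∀ i, r i ∣ Module.finrank K G.SplittingField := by
    intro i
    have hri : 0 < r i := hr i
    have hdvd : (X ^ (r i) - C (V i * P ^ (b i)) : K[X]) ∣ G := by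
      rw [hG]; exact Finset.dvd_prod_of_mem _ (Finset.mem_univ i)
    have hsp_i : ((X ^ (r i) - C (V i * P ^ (b i)) : K[X]).map
        (algebraMap K G.SplittingField)).Splits :=
      hsplit.of_dvd ((hGmon.map _).ne_zero) (Polynomial.map_dvd _ hdvd)
    obtain ⟨ρ, hρ⟩ := hsp_i.exists_eval_eq_zero (by
      rw [degree_map, degree_X_pow_sub_C hri]
      exact_mod_cast hri.ne')
    rw [Polynomial.map_sub, Polynomial.map_pow, map_X, map_C, eval_sub, eval_pow, eval_X, eval_C,
      sub_eq_zero] at hρ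
    obtain ⟨ν, hν0, hν⟩ := hV i
    have hφν : algebraMap K G.SplittingField ν ≠ 0 := by
      rw [Ne, map_eq_zero]; exact hν0
    have hσ : (ρ / algebraMap K G.SplittingField ν) ^ (r i) =
        (algebraMap K G.SplittingField P) ^ (b i) := by
      rw [div_pow, hρ, ← hν, map_mul, map_pow, map_pow,
        mul_div_cancel_left₀ _ (pow_ne_zero _ hφν)]
    have hbez := Nat.gcd_eq_gcd_ab (r i) (b i)
    rw [(hrb i : Nat.gcd (r i) (b i) = 1), Nat.cast_one] at hbez
    have hτ := zpow_bezout (ρ / algebraMap K G.SplittingField ν)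
      (algebraMap K G.SplittingField P) hPS (r i) (b i) ((r i).gcdB (b i)) ((r i).gcdA (b i))
      (by linarith) hσ
    obtain ⟨τ, hτdef⟩ : ∃ τ : G.SplittingField, τ = (ρ / algebraMap K G.SplittingField ν) ^
      ((r i).gcdB (b i)) * (algebraMap K G.SplittingField P) ^ ((r i).gcdA (b i)) := ⟨_, rfl⟩
    rw [← hτdef] at hτ
    have h2 : Module.finrank K K⟮τ⟯ = r i := by
      rw [finrank_adjoin_of_irreducible (X ^ (r i) - C P) (hirr (r i) (hr i))
        (monic_X_pow_sub_C _ hri.ne') τ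
        (by rw [map_sub, map_pow, aeval_X, aeval_C, hτ, sub_self]), natDegree_X_pow_sub_C]
    have h3 := Module.finrank_mul_finrank K K⟮τ⟯ G.SplittingField
    rw [h2] at h3
    exact Dvd.intro _ h3
  have hdvdN : N ∣ Module.finrank K G.SplittingField := by
    rw [hN]; exact Finset.lcm_dvd (fun i _ => hlow i)
  have hN1 : 1 ≤ N := Nat.pos_of_dvd_of_pos hdvdN Module.finrank_pos
  -- upper bound
  have hne : (X ^ N - C P : K[X]) ≠ 0 := (monic_X_pow_sub_C P (by omega)).ne_zero
  haveI : Fact (Irreducible (X ^ N - C P : K[X])) := ⟨hirr N hN1⟩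
  obtain ⟨t, ht⟩ : ∃ t : AdjoinRoot (X ^ N - C P : K[X]),
      t ^ N = algebraMap K (AdjoinRoot (X ^ N - C P : K[X])) P := by
    refine ⟨AdjoinRoot.root _, ?_⟩
    have : aeval (AdjoinRoot.root (X ^ N - C P : K[X])) (X ^ N - C P : K[X]) = 0 := by
      rw [AdjoinRoot.aeval_eq, AdjoinRoot.mk_self]
    rwa [map_sub, map_pow, aeval_X, aeval_C, sub_eq_zero] at this
  have hsplitM : (G.map (algebraMap K (AdjoinRoot (X ^ N - C P : K[X])))).Splits := by
    rw [hG, Polynomial.map_prod]
    refine Splits.prod (fun i _ => ?_)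
    obtain ⟨ν, hν0, hν⟩ := hV i
    obtain ⟨ζ, hζi⟩ := hζ i
    rw [Polynomial.map_sub, Polynomial.map_pow, map_X, map_C]
    refine X_pow_sub_C_splits_of_isPrimitiveRoot
      (hζi.map_of_injective (algebraMap K (AdjoinRoot (X ^ N - C P : K[X]))).injective)
      (α := algebraMap K _ ν * t ^ (N / r i * b i)) ?_
    rw [mul_pow, ← map_pow, hν, ← pow_mul, mul_right_comm (N / r i) (b i) (r i),
      Nat.div_mul_cancel (hrN i), pow_mul, ht, map_mul, map_pow]
  haveI : Module.Finite K (AdjoinRoot (X ^ N - C P : K[X])) := (AdjoinRoot.powerBasis hne).finite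
  have hM : Module.finrank K (AdjoinRoot (X ^ N - C P : K[X])) = N := by
    rw [(AdjoinRoot.powerBasis hne).finrank, AdjoinRoot.powerBasis_dim, natDegree_X_pow_sub_C]
  have hle : Module.finrank K G.SplittingField ≤
      Module.finrank K (AdjoinRoot (X ^ N - C P : K[X])) :=
    LinearMap.finrank_le_finrank_of_injective (f := (SplittingField.lift G hsplitM).toLinearMap)
      (SplittingField.lift G hsplitM).toRingHom.injective
  exact Nat.le_antisymm (hle.trans hM.le) (Nat.le_of_dvd Module.finrank_pos hdvdN)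

end Groth.Agent.Lib.Helper27.Tame
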