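import Mathlib
import Groth.Agent.Lib.Helper27.Tame1

/-!
# A root of a tame Eisenstein polynomial generates `K(ϖ^{1/e})`
-/

set_option autoImplicit false
universe u
open Polynomial IsLocalRing IntermediateField

namespace Groth.Agent.Lib.Helper27.Tame

section Core

variable (O : Type u) [CommRing O] [IsDomain O] [IsDiscreteValuationRing O] [HenselianLocalRing O]
  [IsAlgClosed (ResidueField O)]

theorem exists_root_uniformizer_aux (L : Type u) [Field L] [Algebra O L]
    (B : Subalgebra O L) [Algebra.IsIntegral O B]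
    (f : O[X]) (hmon : f.Monic) (e : ℕ) (hdeg : f.natDegree = e) (he : 1 ≤ e)
    (hen : (e : ResidueField O) ≠ 0)
    (hf : f.IsEisensteinAt (maximalIdeal O)) (ϖ : O) (hϖ : Irreducible ϖ)
    (α : L) (hαB : α ∈ B) (hα : aeval α f = 0) :
    ∃ τ ∈ B, τ ^ e = algebraMap O L ϖ := by
  have hmax : maximalIdeal O = Ideal.span {ϖ} := hϖ.maximalIdeal_eq
  have hϖm : ϖ ∈ maximalIdeal O := (mem_maximalIdeal _).mpr hϖ.not_isUnit
  have hdvd : C ϖ ∣ f - X ^ e := by
    rw [C_dvd_iff_dvd_coeff]
    intro i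
    rw [coeff_sub, coeff_X_pow]
    rcases lt_trichotomy i e with h | h | h
    · rw [if_neg h.ne, sub_zero, ← Ideal.mem_span_singleton, ← hmax]
      exact hf.mem (hdeg ▸ h)
    · rw [if_pos h, h, ← hdeg, hmon.coeff_natDegree, sub_self]; exact dvd_zero _
    · rw [if_neg h.ne', sub_zero, coeff_eq_zero_of_natDegree_lt (hdeg ▸ h)]; exact dvd_zero _
  obtain ⟨q, hq⟩ := hdvd
  have hfq : f = X ^ e + C ϖ * q := by rw [← hq]; ring
  have hq0 : IsUnit (q.coeff 0) := by
    by_contra hnu
    have hmem : q.coeff 0 ∈ maximalIdeal O := (mem_maximalIdeal _).mpr hnu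
    apply hf.notMem
    have : f.coeff 0 = ϖ * q.coeff 0 := by
      rw [hfq, coeff_add, coeff_X_pow, if_neg (by omega), zero_add, coeff_C_mul]
    rw [this, pow_two]
    exact Ideal.mul_mem_mul hϖm hmem
  haveI hB : HenselianLocalRing B :=
    Groth.Agent.Lib.Helper26.HenselLocal.henselianLocalRing_of_isIntegral O B
  haveI hloc : IsLocalHom (algebraMap O B) :=
    Groth.Agent.Lib.Helper26.HenselLocal.isLocalHom_of_isIntegral O B
  obtain ⟨a, ha'⟩ : ∃ a : B, (a : L) = α := ⟨⟨α, hαB⟩, rfl⟩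
  have ha : aeval a f = 0 := Subtype.ext (by rw [← Subalgebra.aeval_coe, ha']; exact hα)
  have hϖB : algebraMap O B ϖ ∈ maximalIdeal B := by
    rw [mem_maximalIdeal, mem_nonunits_iff]
    intro h
    exact hϖ.not_isUnit (isUnit_of_map_unit (algebraMap O B) ϖ h)
  have hev : a ^ e + algebraMap O B ϖ * aeval a q = 0 := by
    have := ha
    rw [hfq, map_add, map_pow, aeval_X, map_mul, aeval_C] at this
    exact this
  have haM : a ∈ maximalIdeal B := by
    have h1 : a ^ e ∈ maximalIdeal B := by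
      have : a ^ e = - (algebraMap O B ϖ * aeval a q) := eq_neg_of_add_eq_zero_left hev
      rw [this]
      exact neg_mem (Ideal.mul_mem_right _ _ hϖB)
    exact (maximalIdeal.isMaximal B).isPrime.mem_of_pow_mem e h1
  have hqdiv : aeval a q = aeval a q.divX * a + algebraMap O B (q.coeff 0) := by
    conv_lhs => rw [← divX_mul_X_add q]
    rw [map_add, map_mul, aeval_X, aeval_C]
  obtain ⟨d, hd⟩ := exists_pow_eq_of_isUnit O e hen (-q.coeff 0) hq0.neg
  have hdu : IsUnit d := by
    have : IsUnit (d ^ e) := hd ▸ hq0.neg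
    exact (isUnit_pow_iff (by omega)).mp this
  obtain ⟨w, hw⟩ : ∃ w : B, w = -aeval a q := ⟨_, rfl⟩
  have h1 : eval (algebraMap O B d) (X ^ e - C w : B[X]) ∈ maximalIdeal B := by
    rw [eval_sub, eval_pow, eval_X, eval_C, ← map_pow, hd, hw, hqdiv, map_neg]
    have : -(algebraMap O B) (q.coeff 0) - -(aeval a q.divX * a + algebraMap O B (q.coeff 0)) =
        aeval a q.divX * a := by ring
    rw [this]
    exact Ideal.mul_mem_left _ _ haM
  have h2 : IsUnit (eval (algebraMap O B d) (derivative (X ^ e - C w : B[X]))) := by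
    rw [derivative_sub, derivative_C, sub_zero, derivative_X_pow, eval_mul, eval_C, eval_pow,
      eval_X]
    refine IsUnit.mul ?_ ((hdu.map (algebraMap O B)).pow _)
    have : ((e : ℕ) : B) = algebraMap O B (e : O) := (map_natCast (algebraMap O B) e).symm
    rw [this]
    exact ((residue_ne_zero_iff_isUnit (e : O)).mp (by rw [map_natCast]; exact hen)).map _
  obtain ⟨ω, hω, -⟩ := HenselianLocalRing.is_henselian (X ^ e - C w : B[X])
    (monic_X_pow_sub_C w (by omega)) (algebraMap O B d) h1 h2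
  have hωe : ω ^ e = w := by
    have : eval ω (X ^ e - C w : B[X]) = 0 := hω
    rwa [eval_sub, eval_pow, eval_X, eval_C, sub_eq_zero] at this
  have hwu : IsUnit w := by
    by_contra hnu
    have hwm : w ∈ maximalIdeal B := (mem_maximalIdeal _).mpr hnu
    have : algebraMap O B (q.coeff 0) ∈ maximalIdeal B := by
      have e1 : algebraMap O B (q.coeff 0) = -w - aeval a q.divX * a := by rw [hw, hqdiv]; ring
      rw [e1]
      exact sub_mem (neg_mem hwm) (Ideal.mul_mem_left _ _ haM)
    exact (mem_maximalIdeal _).mp this (hq0.map _)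
  have hωu : IsUnit ω := (isUnit_pow_iff (by omega : e ≠ 0)).mp (hωe ▸ hwu)
  obtain ⟨ω', hω'⟩ := hωu.exists_right_inv
  have key : (a * ω') ^ e = algebraMap O B ϖ := by
    have h3 : a ^ e = algebraMap O B ϖ * w := by rw [hw]; linear_combination hev
    calc (a * ω') ^ e = a ^ e * ω' ^ e := mul_pow _ _ _
      _ = algebraMap O B ϖ * (ω * ω') ^ e := by rw [h3, ← hωe, mul_pow]; ring
      _ = algebraMap O B ϖ := by rw [hω', one_pow, mul_one]
  refine ⟨((a * ω' : B) : L), (a * ω').2, ?_⟩
  rw [← Subalgebra.coe_pow, key]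
  rfl

theorem exists_root_uniformizer (L : Type u) [Field L] [Algebra O L]
    (f : O[X]) (hmon : f.Monic) (e : ℕ) (hdeg : f.natDegree = e) (he : 1 ≤ e)
    (hen : (e : ResidueField O) ≠ 0)
    (hf : f.IsEisensteinAt (maximalIdeal O)) (ϖ : O) (hϖ : Irreducible ϖ)
    (α : L) (hα : aeval α f = 0) :
    ∃ τ ∈ Algebra.adjoin O {α}, τ ^ e = algebraMap O L ϖ := by
  have hαint : IsIntegral O α := ⟨f, hmon, by rw [← aeval_def]; exact hα⟩
  haveI : Algebra.IsIntegral O (Algebra.adjoin O {α}) := Algebra.IsIntegral.adjoin (by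
    intro x hx
    rw [Set.mem_singleton_iff] at hx
    rw [hx]; exact hαint)
  exact exists_root_uniformizer_aux O L (Algebra.adjoin O {α}) f hmon e hdeg he hen hf ϖ hϖ α
    (Algebra.subset_adjoin (Set.mem_singleton α)) hα

theorem exists_tau (K : Type u) [Field K] [Algebra O K] [IsFractionRing O K]
    (L : Type u) [Field L] [Algebra K L] [Algebra O L] [IsScalarTower O K L]
    (f : O[X]) (hmon : f.Monic) (e : ℕ) (hdeg : f.natDegree = e) (he : 1 ≤ e)
    (hen : (e : ResidueField O) ≠ 0)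
    (hf : f.IsEisensteinAt (maximalIdeal O)) (ϖ : O) (hϖ : Irreducible ϖ)
    (α : L) (hα : aeval α f = 0) :
    ∃ τ : L, τ ^ e = algebraMap O L ϖ ∧ K⟮τ⟯ = K⟮α⟯ ∧ Module.finrank K K⟮τ⟯ = e := by
  obtain ⟨τ, hτmem, hτe⟩ := exists_root_uniformizer O L f hmon e hdeg he hen hf ϖ hϖ α hα
  have hle : Algebra.adjoin O {α} ≤ (K⟮α⟯.toSubalgebra).restrictScalars O :=
    Algebra.adjoin_le (by
      intro x hx
      rw [Set.mem_singleton_iff] at hx
      rw [hx]; exact mem_adjoin_simple_self K α)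
  have hτα : τ ∈ K⟮α⟯ := hle hτmem
  have hle' : K⟮τ⟯ ≤ K⟮α⟯ := adjoin_simple_le_iff.mpr hτα
  have hαg : aeval α (f.map (algebraMap O K)) = 0 := by
    rw [aeval_map_algebraMap]; exact hα
  have h1 : Module.finrank K K⟮α⟯ = e := by
    rw [finrank_adjoin_of_irreducible (f.map (algebraMap O K))
      (irreducible_map_of_eisenstein O K f hmon (by omega) hf) (hmon.map _) α hαg,
      hmon.natDegree_map, hdeg]
  have hτg : aeval τ (X ^ e - C (algebraMap O K ϖ) : K[X]) = 0 := by
    rw [map_sub, map_pow, aeval_X, aeval_C, hτe, ← IsScalarTower.algebraMap_apply, sub_self]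
  have h2 : Module.finrank K K⟮τ⟯ = e := by
    rw [finrank_adjoin_of_irreducible (X ^ e - C (algebraMap O K ϖ))
      (irreducible_X_pow_sub_C O K e he ϖ hϖ) (monic_X_pow_sub_C _ (by omega)) τ hτg,
      natDegree_X_pow_sub_C]
  haveI : FiniteDimensional K K⟮α⟯ :=
    finiteDimensional_adjoin_of_root (f.map (algebraMap O K)) (hmon.map _) α hαg
  exact ⟨τ, hτe, IntermediateField.eq_of_le_of_finrank_eq hle' (h2.trans h1.symm), h2⟩

end Core

end Groth.Agent.Lib.Helper27.Tame
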