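import Mathlib
import Groth.Prelude.Def_W4bk4goldsch23FF
import Groth.Prelude.Def_W4bk4goldsch23Ext
import Groth.Prelude.Def_LocRes
import Groth.Agent.Lib.Helper27.Tate13

/-! Tate's residues, part 14: the trace formula `Res_P(tr(y) dx) = ∑_{Q|P} Res_Q(y dx)`. -/

set_option autoImplicit false

namespace Groth.Agent.Lib.Helper27.Tate

open LinearMap LaurentSeries HahnSeries FunFld
open Groth.Agent.Lib.Helper27.FF

universe u v w

variable {k : Type u} {K K' : Type v} [Field k] [Field K] [Field K'] [Algebra k K]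
  [Algebra K K'] [Algebra k K'] [IsScalarTower k K K'] [FiniteDimensional K K']
  [Algebra.IsSeparable K K']

theorem trace_residue (hK : IsFunctionField k K) (hK' : IsFunctionField k K') (P : Place k K)
    (F : Type w) [Field F] [Algebra k F] [FiniteDimensional k F]
    (φ : K →ₐ[k] LaurentSeries F) (hφ : LocRes.IsExpansionAt P.1 φ)
    (Qs : Finset (Place k K')) (hQs : ∀ Q, Q ∈ Qs ↔ IsOver Q P)
    (F' : Place k K' → Type w) [∀ Q, Field (F' Q)] [∀ Q, Algebra k (F' Q)]
    [∀ Q, FiniteDimensional k (F' Q)]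
    (ψ : ∀ Q, K' →ₐ[k] LaurentSeries (F' Q)) (hψ : ∀ Q ∈ Qs, LocRes.IsExpansionAt Q.1 (ψ Q))
    (y : K') (x : K) :
    LocRes.locRes φ (Algebra.trace K K' y) x =
      ∑ Q ∈ Qs, LocRes.locRes (ψ Q) y (algebraMap K K' x) := by
  classical
  obtain ⟨n, b, hb⟩ := exists_integral_basis hK (WeakFF.of_isFunctionField hK') P
  obtain ⟨p₀, hp₀, hr₀⟩ := exists_idem (ringO P)
  have hr₀' : ∀ z, z ∈ LinearMap.range p₀ ↔ P.1 z ≤ 1 := fun z => (hr₀ z).trans mem_ringO
  set x' : K' := algebraMap K K' x with hx'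
  -- the product space upstairs
  set P' : Module.End k (∀ i : ↥Qs, LaurentSeries (F' i.1)) :=
    piEnd (V := fun i : ↥Qs => LaurentSeries (F' i.1)) (fun i => trunc k (F' i.1)) with hP'def
  set f' : Module.End k (∀ i : ↥Qs, LaurentSeries (F' i.1)) :=
    piEnd (V := fun i : ↥Qs => LaurentSeries (F' i.1)) (fun i => mulOp k (ψ i.1 y)) with hf'def
  set g' : Module.End k (∀ i : ↥Qs, LaurentSeries (F' i.1)) :=
    piEnd (V := fun i : ↥Qs => LaurentSeries (F' i.1)) (fun i => mulOp k (ψ i.1 x')) with hg'def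
  have hsum : cres P' f' g' = ∑ i : ↥Qs, LocRes.locRes (ψ i.1) y x' := by
    rw [hP'def, hf'def, hg'def, cres_piEnd (fun i => trunc_trunc) (fun i => mulOp_comm _ _)
      (fun i => adm_mulOp _) (fun i => adm_mulOp _)]
    apply Finset.sum_congr rfl
    intro i _
    exact lres_eq_rres _ _
  rw [← Finset.sum_coe_sort Qs (fun Q => LocRes.locRes (ψ Q) y x'), ← hsum]
  have hP'P' : P' * P' = P' := by
    rw [hP'def, ← piEnd_mul]
    congr 1
    funext i
    exact trunc_trunc
  have hfg' : f' * g' = g' * f' := by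
    rw [hf'def, hg'def, ← piEnd_mul, ← piEnd_mul]
    congr 1
    funext i
    exact mulOp_comm _ _
  have hfa : Adm P' f' := adm_piEnd (fun i => adm_mulOp _)
  have hga : Adm P' g' := adm_piEnd (fun i => adm_mulOp _)
  have hmemP' : ∀ ξ : (∀ i : ↥Qs, LaurentSeries (F' i.1)),
      ξ ∈ LinearMap.range P' ↔ ∀ i, Valued.v (ξ i) ≤ 1 := by
    intro ξ
    constructor
    · rintro ⟨η, rfl⟩ i
      rw [← coeff_neg_iff_val]
      exact coeff_trunc_neg (k := k) (η i)
    · intro h
      refine ⟨ξ, ?_⟩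
      funext i
      exact trunc_eq_self (k := k) (coeff_neg_iff_val.mpr (h i))
  -- the space downstairs
  let e : K' ≃ₗ[k] (Fin n → K) := b.equivFun.restrictScalars k
  have he_apply : ∀ z i, e z i = b.repr z i := fun z i => rfl
  have hes_smul : ∀ (a : K) (c : Fin n → K), e.symm (a • c) = a • e.symm c := by
    intro a c
    exact map_smul b.equivFun.symm a c
  have he_smul : ∀ (a : K) (z : K'), e (a • z) = a • e z := by
    intro a z
    exact map_smul b.equivFun a z
  let Ψ : K' →ₗ[k] (∀ i : ↥Qs, LaurentSeries (F' i.1)) := LinearMap.pi (fun i => expLin (ψ i.1))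
  have hΨ : ∀ z i, Ψ z i = ψ i.1 z := fun z i => rfl
  let ι₂ : (Fin n → K) →ₗ[k] (∀ i : ↥Qs, LaurentSeries (F' i.1)) := Ψ ∘ₗ e.symm.toLinearMap
  have hι₂ : ∀ c, ι₂ c = Ψ (e.symm c) := fun c => rfl
  obtain ⟨Q₀, hQ₀⟩ := Hyper.exists_isOver (K' := K') hK P
  have hQ₀s : Q₀ ∈ Qs := (hQs Q₀).mpr hQ₀
  have hΨinj : Function.Injective Ψ := by
    intro z₁ z₂ h
    have := congrFun h ⟨Q₀, hQ₀s⟩
    exact (ψ Q₀).toRingHom.injective this
  have hinj : Function.Injective ι₂ := hΨinj.comp e.symm.injective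
  set Pn : Module.End k (Fin n → K) := piEnd (V := fun _ : Fin n => K) (fun _ => p₀) with hPndef
  set G : Module.End k (Fin n → K) :=
    piEnd (V := fun _ : Fin n => K) (fun _ => LinearMap.mulLeft k x) with hGdef
  let Y : Module.End k (Fin n → K) :=
    e.toLinearMap ∘ₗ (LinearMap.mulLeft k y) ∘ₗ e.symm.toLinearMap
  have hY_apply : ∀ c, Y c = e (y * e.symm c) := fun c => rfl
  have hPnPn : Pn * Pn = Pn := by
    rw [hPndef, ← piEnd_mul]
    congr 1
    funext i
    exact hp₀
  have hmemPn : ∀ c : Fin n → K, c ∈ LinearMap.range Pn ↔ ∀ i, P.1 (c i) ≤ 1 := by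
    intro c
    constructor
    · rintro ⟨d, rfl⟩ i
      exact (hr₀' _).mp ⟨d i, rfl⟩
    · intro h
      refine ⟨c, ?_⟩
      funext i
      obtain ⟨d, hd⟩ := (hr₀' (c i)).mpr (h i)
      show p₀ (c i) = c i
      rw [← hd]
      exact LinearMap.congr_fun hp₀ d
  have hG_apply : ∀ c, G c = x • c := by
    intro c
    funext i
    rfl
  have hC := cres_eq_of_dense ι₂ hinj (p := Pn) (f := Y) (g := G) (p' := P') (f' := f') (g' := g')
    hPnPn hP'P'
    (by
      intro c
      rw [hmemP', hmemPn]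
      set z := e.symm c with hz
      have hc : ∀ i, c i = b.repr z i := by
        intro i
        rw [← he_apply, hz, LinearEquiv.apply_symm_apply]
      simp only [hc]
      rw [← hb z]
      constructor
      · intro h Q hQ
        have hQs' := (hQs Q).mpr hQ
        have := h ⟨Q, hQs'⟩
        rw [hι₂, hΨ, (hψ Q hQs').1] at this
        exact this
      · intro h i
        rw [hι₂, hΨ, (hψ i.1 i.2).1]
        exact h i.1 ((hQs i.1).mp i.2))
    (by
      rw [eq_top_iff]
      intro ξ _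
      choose y₁ hy₁ using fun i : ↥Qs => exists_approx (hψ i.1 i.2) (ξ i) 0
      obtain ⟨z, hz⟩ := Groth.Agent.Lib.Helper23.FF.weak_approx (fun i : ↥Qs => i.1)
        Subtype.val_injective y₁ 0
      have hmem : ξ - Ψ z ∈ LinearMap.range P' := by
        rw [hmemP']
        intro i
        rw [← coeff_neg_iff_val]
        intro m hm
        have e1 : (ξ - Ψ z) i = (ξ i - ψ i.1 (y₁ i)) - ψ i.1 (z - y₁ i) := by
          show ξ i - ψ i.1 z = _
          rw [map_sub]; ring
        rw [e1, HahnSeries.coeff_sub, hy₁ i m hm]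
        have hval : Valued.v (ψ i.1 (z - y₁ i)) ≤ 1 := by
          rw [(hψ i.1 i.2).1]
          have := hz i
          simpa using this
        rw [coeff_neg_iff_val.mpr hval m hm, sub_zero]
      have hdec : ξ = ι₂ (e z) + (ξ - Ψ z) := by
        rw [hι₂, LinearEquiv.symm_apply_apply]; abel
      rw [hdec]
      exact Submodule.add_mem _ (Submodule.mem_sup_left ⟨e z, rfl⟩) (Submodule.mem_sup_right hmem))
    (by
      apply LinearMap.ext; intro c
      funext i
      show ψ i.1 y * ψ i.1 (e.symm c) = ψ i.1 (e.symm (Y c))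
      rw [hY_apply, LinearEquiv.symm_apply_apply, map_mul])
    (by
      apply LinearMap.ext; intro c
      funext i
      show ψ i.1 x' * ψ i.1 (e.symm c) = ψ i.1 (e.symm (G c))
      rw [hG_apply, hes_smul, Algebra.smul_def, map_mul])
    hfg' hfa hga
  obtain ⟨hC1, hC2, hC3⟩ := hC
  rw [← hC1]
  have hYG : Y * G = G * Y := by
    apply LinearMap.ext; intro c
    show Y (G c) = G (Y c)
    rw [hG_apply, hG_apply, hY_apply, hY_apply, hes_smul, mul_smul_comm, he_smul]
  have hAx := (cres_K_eq_locRes hφ hp₀ hr₀' x x).2.1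
  rw [hGdef] at hYG
  rw [hPndef] at hC2
  rw [hPndef, hGdef, cres_pi_const hp₀ hYG hC2 hAx]
  -- the diagonal blocks
  have hblock : ∀ j : Fin n,
      LinearMap.proj j ∘ₗ Y ∘ₗ LinearMap.single k (fun _ : Fin n => K) j =
        LinearMap.mulLeft k (Algebra.leftMulMatrix b y j j) := by
    intro j
    apply LinearMap.ext; intro c
    show (Y (Pi.single j c)) j = Algebra.leftMulMatrix b y j j * c
    have h1 : e.symm (Pi.single j c) = c • b j := by
      rw [LinearEquiv.symm_apply_eq, he_smul]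
      funext i
      rw [Pi.smul_apply, he_apply, Module.Basis.repr_self, smul_eq_mul]
      by_cases h : i = j
      · subst h; rw [Pi.single_eq_same, Finsupp.single_eq_same, mul_one]
      · rw [Pi.single_eq_of_ne h, Finsupp.single_eq_of_ne h, mul_zero]
    rw [hY_apply, h1, mul_smul_comm, he_smul, Pi.smul_apply, he_apply, smul_eq_mul,
      Algebra.leftMulMatrix_eq_repr_mul, mul_comm]
  simp only [hblock]
  rw [Algebra.trace_eq_matrix_trace b, Matrix.trace, locRes_sum]
  apply Finset.sum_congr rfl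
  intro j _
  rw [Matrix.diag_apply]
  exact ((cres_K_eq_locRes hφ hp₀ hr₀' _ x).1).symm

end Groth.Agent.Lib.Helper27.Tate
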