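import Mathlib
import Groth.Agent.Lib.Helper27.InertiaA

/-!
# Counting points of a finite unramified cover of an integrally closed local domain (helper27)

`R` an integrally closed local domain with fraction field `K` and residue field `k`.
* `card_algHom_le`: for a finite formally unramified `R`-algebra `C`, `#Hom_R(C,K) ≤ #Hom_R(C,k)`.
* `card_sections_le`: the same for a finite formally unramified `P ⟶ Spec R`: the number of
  `K`-points of `P` over `R` is at most the number of `k`-points.
-/

set_option autoImplicit false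
universe u
open CategoryTheory CategoryTheory.Limits AlgebraicGeometry

namespace Groth.Agent.Lib.Helper27.TorsCountA

section Alg

variable (R : Type u) [CommRing R] [IsDomain R] [IsLocalRing R] [IsIntegrallyClosed R]
  (K : Type u) [Field K] [Algebra R K] [IsFractionRing R K]
  (C : Type u) [CommRing C] [Algebra R C] [Module.Finite R C]

/-- every `R`-algebra map `C → K` factors through `R` -/
theorem exists_factor (ψ : C →ₐ[R] K) :
    ∃ ψ₀ : C →ₐ[R] R, ∀ c, algebraMap R K (ψ₀ c) = ψ c := by
  have h : ∀ c : C, ∃ r : R, algebraMap R K r = ψ c := fun c =>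
    IsIntegrallyClosed.algebraMap_eq_of_integral
      ((Algebra.IsIntegral.isIntegral (R := R) c).map ψ)
  choose r hr using h
  have hinj := IsFractionRing.injective R K
  refine ⟨{ toFun := r, map_one' := ?_, map_mul' := ?_, map_zero' := ?_, map_add' := ?_,
            commutes' := ?_ }, hr⟩
  all_goals intros; apply hinj; simp [hr]

variable [Algebra.FormallyUnramified R C]

theorem eq_of_residue_eq (ψ₀ ψ₀' : C →ₐ[R] R)
    (h : ∀ c, IsLocalRing.residue R (ψ₀ c) = IsLocalRing.residue R (ψ₀' c)) : ψ₀ = ψ₀' := by
  haveI : FormallyUnramified (Spec.map (CommRingCat.ofHom (algebraMap R C))) := by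
    rw [HasRingHomProperty.Spec_iff (P := @FormallyUnramified)]
    exact RingHom.formallyUnramified_algebraMap.mpr inferInstance
  haveI : LocallyOfFiniteType (Spec.map (CommRingCat.ofHom (algebraMap R C))) := by
    rw [HasRingHomProperty.Spec_iff (P := @LocallyOfFiniteType)]
    exact RingHom.finiteType_algebraMap.mpr inferInstance
  have key := InertiaA.eq_of_formallyUnramified_of_residue_eq
    (Spec.map (CommRingCat.ofHom (algebraMap R C))) R
    (Spec.map (CommRingCat.ofHom ψ₀.toRingHom)) (Spec.map (CommRingCat.ofHom ψ₀'.toRingHom))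
    ?_ ?_
  · have h2 := Spec.map_injective key
    ext c
    have h3 := congrArg (fun f => f.hom c) h2
    exact h3
  · rw [← Spec.map_comp, ← Spec.map_comp]
    congr 1
    ext r
    simp
  · rw [← Spec.map_comp, ← Spec.map_comp]
    congr 1
    ext c
    exact h c

theorem card_algHom_le :
    Nat.card (C →ₐ[R] K) ≤ Nat.card (C →ₐ[R] IsLocalRing.ResidueField R) := by
  classical
  choose F hF using exists_factor R K C
  let G : (C →ₐ[R] K) → (C →ₐ[R] IsLocalRing.ResidueField R) :=
    fun ψ => (Algebra.ofId R (IsLocalRing.ResidueField R)).comp (F ψ)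
  apply Nat.card_le_card_of_injective G
  intro ψ ψ' h
  have hFF : F ψ = F ψ' := eq_of_residue_eq R C _ _ (fun c => by
    have := DFunLike.congr_fun h c
    exact this)
  ext c
  rw [← hF, ← hF, hFF]

end Alg

section Sch

variable (R : Type u) [CommRing R]

/-- points of an affine `R`-scheme with values in an `R`-algebra `L` are `R`-algebra maps. -/
noncomputable def ptsEquiv {P : Scheme.{u}} (p : P ⟶ Spec (CommRingCat.of R))
    (C : Type u) [CommRing C] [Algebra R C] (e : P ≅ Spec (CommRingCat.of C))
    (hp : p = e.hom ≫ Spec.map (CommRingCat.ofHom (algebraMap R C)))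
    (L : Type u) [CommRing L] [Algebra R L] :
    {a : Spec (CommRingCat.of L) ⟶ P // a ≫ p = Spec.map (CommRingCat.ofHom (algebraMap R L))} ≃
      (C →ₐ[R] L) where
  toFun a :=
    { toRingHom := (Spec.preimage (a.1 ≫ e.hom)).hom
      commutes' := fun r => by
        have h1 : Spec.map (CommRingCat.ofHom (algebraMap R C) ≫ Spec.preimage (a.1 ≫ e.hom)) =
            Spec.map (CommRingCat.ofHom (algebraMap R L)) := by
          rw [Spec.map_comp, Spec.map_preimage, Category.assoc, ← hp, a.2]
        have h2 := Spec.map_injective h1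
        exact congrArg (fun f => f.hom r) h2 }
  invFun ψ := ⟨Spec.map (CommRingCat.ofHom ψ.toRingHom) ≫ e.inv, by
    rw [hp, Category.assoc, Iso.inv_hom_id_assoc, ← Spec.map_comp]
    congr 1
    ext r
    exact ψ.commutes r⟩
  left_inv a := by
    apply Subtype.ext
    change Spec.map (CommRingCat.ofHom (Spec.preimage (a.1 ≫ e.hom)).hom) ≫ e.inv = a.1
    rw [CommRingCat.ofHom_hom, Spec.map_preimage, Category.assoc, Iso.hom_inv_id, Category.comp_id]
  right_inv ψ := by
    ext c
    change (Spec.preimage ((Spec.map (CommRingCat.ofHom ψ.toRingHom) ≫ e.inv) ≫ e.hom)).hom c = ψ c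
    rw [Category.assoc, Iso.inv_hom_id, Category.comp_id, Spec.preimage_map]
    rfl

theorem exists_affine_model {P : Scheme.{u}} (p : P ⟶ Spec (CommRingCat.of R)) [IsAffineHom p] :
    ∃ (C : Type u) (_ : CommRing C) (_ : Algebra R C) (e : P ≅ Spec (CommRingCat.of C)),
      p = e.hom ≫ Spec.map (CommRingCat.ofHom (algebraMap R C)) := by
  haveI : IsAffine P := isAffine_of_isAffineHom p
  let f : CommRingCat.of R ⟶ Γ(P, ⊤) := (Scheme.ΓSpecIso (CommRingCat.of R)).inv ≫ p.appTop
  letI : Algebra R Γ(P, ⊤) := f.hom.toAlgebra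
  refine ⟨Γ(P, ⊤), inferInstance, inferInstance, P.isoSpec, ?_⟩
  have h1 := Scheme.isoSpec_hom_naturality p
  rw [Scheme.isoSpec_Spec_hom] at h1
  change p = P.isoSpec.hom ≫ Spec.map f
  rw [Spec.map_comp, reassoc_of% h1, ← Spec.map_comp, Iso.inv_hom_id, Spec.map_id, Category.comp_id]

variable [IsDomain R] [IsLocalRing R] [IsIntegrallyClosed R]
  (K : Type u) [Field K] [Algebra R K] [IsFractionRing R K]

theorem card_sections_le {P : Scheme.{u}} (p : P ⟶ Spec (CommRingCat.of R)) [IsFinite p]
    [FormallyUnramified p] :
    Nat.card {a : Spec (CommRingCat.of K) ⟶ P //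
        a ≫ p = Spec.map (CommRingCat.ofHom (algebraMap R K))} ≤
      Nat.card {b : Spec (CommRingCat.of (IsLocalRing.ResidueField R)) ⟶ P //
        b ≫ p = Spec.map (CommRingCat.ofHom (IsLocalRing.residue R))} := by
  obtain ⟨C, _, _, e, hp⟩ := exists_affine_model R p
  have hq : Spec.map (CommRingCat.ofHom (algebraMap R C)) = e.inv ≫ p := by
    rw [hp, Iso.inv_hom_id_assoc]
  have hfin : IsFinite (Spec.map (CommRingCat.ofHom (algebraMap R C))) := by
    rw [hq]; infer_instance
  have hunr : FormallyUnramified (Spec.map (CommRingCat.ofHom (algebraMap R C))) := by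
    rw [hq]
    exact MorphismProperty.comp_mem @FormallyUnramified _ _
      (inferInstance : FormallyUnramified e.inv) (inferInstance : FormallyUnramified p)
  haveI : Module.Finite R C := by
    rw [IsFinite.SpecMap_iff] at hfin
    exact RingHom.finite_algebraMap.mp hfin
  haveI : Algebra.FormallyUnramified R C := by
    rw [HasRingHomProperty.Spec_iff (P := @FormallyUnramified)] at hunr
    exact RingHom.formallyUnramified_algebraMap.mp hunr
  rw [Nat.card_congr (ptsEquiv R p C e hp K)]
  have h2 := Nat.card_congr (ptsEquiv R p C e hp (IsLocalRing.ResidueField R))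
  refine le_trans (card_algHom_le R K C) (le_of_eq h2.symm)

end Sch

end Groth.Agent.Lib.Helper27.TorsCountA
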