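import Mathlib
import Groth.Prelude.Def_AbDual
import Groth.Prelude.Def_AgPol

/-!
# Torsion points as points of the kernel of `[m]` (helper27)

`torsEquiv`: for a commutative group scheme `A` over `S`, the `T`-points of `A` killed by `m` are
the `T`-points (over `S`) of the fibre product `A ×_{[m], A, e} S`.
-/

set_option autoImplicit false
universe u
open CategoryTheory CategoryTheory.Limits AlgebraicGeometry MonoidalCategory
  CartesianMonoidalCategory MonObj

namespace Groth.Agent.Lib.Helper27.TorsCountB

variable {S : Scheme.{u}} (A : Over S) [GrpObj A]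

theorem pow_left (m : ℕ) {T : Over S} (x : T ⟶ A) :
    (x ^ m).left = x.left ≫ ((𝟙 A) ^ m).left := by
  have h : x ^ m = x ≫ (𝟙 A) ^ m := by
    rw [MonObj.comp_pow, Category.comp_id]
  rw [h, Over.comp_left]

theorem one_left {T : Over S} : (1 : T ⟶ A).left = T.hom ≫ (η[A]).left := by
  rw [Hom.one_def, Over.comp_left]
  rfl

/-- the unit section, as a morphism `S ⟶ A.left`. -/
noncomputable def unitSec : S ⟶ A.left := (η[A]).left

theorem unitSec_hom : unitSec A ≫ A.hom = 𝟙 S := Over.w η[A]

theorem one_left' {T : Over S} : (1 : T ⟶ A).left = T.hom ≫ unitSec A := one_left A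

/-- `T`-points killed by `m` are the `T`-points of the kernel of `[m]`. -/
noncomputable def torsEquiv [IsCommMonObj A] (m : ℕ) (T : Over S) :
    AbDual.torsPts A m T ≃
      {a : T.left ⟶ pullback ((𝟙 A) ^ m).left (unitSec A) //
        a ≫ pullback.snd ((𝟙 A) ^ m).left (unitSec A) = T.hom} where
  toFun x := ⟨pullback.lift x.1.left T.hom (by
      have h := x.2
      rw [AbDual.mem_torsPts] at h
      rw [← pow_left, h, one_left']), pullback.lift_snd _ _ _⟩
  invFun a := ⟨Over.homMk (a.1 ≫ pullback.fst _ _) (by
      have h1 : pullback.fst ((𝟙 A) ^ m).left (unitSec A) ≫ A.hom =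
          pullback.snd ((𝟙 A) ^ m).left (unitSec A) := by
        rw [← Over.w ((𝟙 A) ^ m), ← Category.assoc, pullback.condition, Category.assoc,
          unitSec_hom, Category.comp_id]
      rw [Category.assoc, h1, a.2]), by
    rw [AbDual.mem_torsPts]
    apply Over.OverMorphism.ext
    rw [pow_left, one_left']
    change (a.1 ≫ pullback.fst _ _) ≫ _ = _
    rw [Category.assoc, pullback.condition, ← Category.assoc, a.2]⟩
  left_inv x := by
    apply Subtype.ext
    apply Over.OverMorphism.ext
    exact pullback.lift_fst _ _ _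
  right_inv a := by
    apply Subtype.ext
    apply pullback.hom_ext
    · exact pullback.lift_fst _ _ _
    · exact (pullback.lift_snd _ _ _).trans a.2.symm

theorem torsEquiv_fst [IsCommMonObj A] (m : ℕ) (T : Over S) (x : AbDual.torsPts A m T) :
    (torsEquiv A m T x).1 ≫ pullback.fst ((𝟙 A) ^ m).left (unitSec A) = x.1.left :=
  pullback.lift_fst _ _ _

theorem torsEquiv_symm_left [IsCommMonObj A] (m : ℕ) (T : Over S)
    (a : {a : T.left ⟶ pullback ((𝟙 A) ^ m).left (unitSec A) //
        a ≫ pullback.snd ((𝟙 A) ^ m).left (unitSec A) = T.hom}) :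
    ((torsEquiv A m T).symm a).1.left = a.1 ≫ pullback.fst ((𝟙 A) ^ m).left (unitSec A) :=
  rfl

end Groth.Agent.Lib.Helper27.TorsCountB
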