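import Mathlib
import Groth.Prelude.Def_AbDual
import Groth.Prelude.Def_AgPol
import Groth.Agent.Lib.Helper27.TorsCountA
import Groth.Agent.Lib.Helper27.TorsCountB
import Groth.Agent.Lib.Helper22.SmoothRed
import Groth.Agent.Lib.Helper26.RegularNormal
import Groth.Agent.Lib.Helper22.LieGenG

/-!
# Torsion of the generic fibre of an abelian scheme over a regular local ring (helper27)

`card_torsPts_le`: for an abelian scheme over a regular local domain containing `ℚ`, the number of
`m`-torsion points over the fraction field is at most the number over the residue field: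
the kernel of `[m]` is finite étale (helper22), sections over `K` extend over `R` because `R` is
integrally closed (helper26), and reduction is injective on sections of an unramified cover.
-/

set_option autoImplicit false
universe u
open CategoryTheory CategoryTheory.Limits AlgebraicGeometry MonoidalCategory
  CartesianMonoidalCategory MonObj

namespace Groth.Agent.Lib.Helper27.TorsCountC

open Groth.Agent.Lib.Helper27.TorsCountA Groth.Agent.Lib.Helper27.TorsCountB

theorem geomRed_of_smooth {X Y : Scheme.{u}} (f : X ⟶ Y) [Smooth f] : GeometricallyReduced f := by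
  refine ⟨fun K _ y Z fst snd h => ?_⟩
  haveI : Smooth snd := MorphismProperty.of_isPullback (P := @Smooth) h inferInstance
  exact Groth.Agent.Lib.Helper22.SmoothRed.isReduced_of_smooth snd

theorem card_torsPts_le
    (R : Type u) [CommRing R] [IsDomain R] [IsRegularLocalRing R] [Algebra ℚ R]
    (A : Over (Spec (CommRingCat.of R))) [GrpObj A] [IsCommMonObj A] (g : ℕ)
    (hA : AgPol.IsAbSch A g) (m : ℕ) (hm : 1 ≤ m) :
    Nat.card (AbDual.torsPts A m
        (Over.mk (Spec.map (CommRingCat.ofHom (algebraMap R (FractionRing R)))))) ≤
      Nat.card (AbDual.torsPts A m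
        (Over.mk (Spec.map (CommRingCat.ofHom (IsLocalRing.residue R))))) := by
  haveI := hA.smooth
  haveI := hA.proper
  haveI := hA.geomConnected
  haveI : GeometricallyReduced A.hom := geomRed_of_smooth A.hom
  haveI : IsIntegrallyClosed R :=
    Groth.Agent.Lib.Helper26.RegularNormal.isIntegrallyClosed_of_isRegularLocalRing R
  have hmR : IsUnit (m : R) := by
    have h1 : IsUnit ((m : ℚ)) := isUnit_iff_ne_zero.mpr (by positivity)
    have h2 := h1.map (algebraMap ℚ R)
    rwa [map_natCast] at h2
  have hnΓ : IsUnit (((m : ℤ)) : Γ(Spec (CommRingCat.of R), ⊤)) := by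
    have h1 := hmR.map (Scheme.ΓSpecIso (CommRingCat.of R)).inv.hom
    rw [map_natCast] at h1
    exact_mod_cast h1
  obtain ⟨hfin, het⟩ := Groth.Agent.Lib.Helper22.LieGen.finite_etale_zpow A (m : ℤ) hnΓ
  rw [zpow_natCast] at hfin het
  haveI := hfin
  haveI := het
  haveI : IsFinite (pullback.snd ((𝟙 A) ^ m).left (unitSec A)) := inferInstance
  haveI : FormallyUnramified (pullback.snd ((𝟙 A) ^ m).left (unitSec A)) := inferInstance
  rw [Nat.card_congr (torsEquiv A m _), Nat.card_congr (torsEquiv A m _)]
  exact card_sections_le R (FractionRing R) (pullback.snd ((𝟙 A) ^ m).left (unitSec A))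

end Groth.Agent.Lib.Helper27.TorsCountC
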