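import Mathlib
import Groth.Agent.Lib.Helper22.LieGenC

/-!
# Divisibility of infinitesimal points of a group scheme (helper27)

`exists_zpow_eq`: for a surjection `φ : R → A'` with square-zero kernel and a point `v` of a group
scheme `X` with values in `R` which is trivial over `A'`, and `d` invertible in `R`, there is a
point `ζ`, trivial over `A'`, with `ζ ^ d = v`.
-/

set_option autoImplicit false
universe u
open CategoryTheory AlgebraicGeometry MonObj Limits

noncomputable section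
namespace Groth.Agent.Lib.Helper27.TorsLiftA

open Groth.Agent.Lib.Helper13 Groth.Agent.Lib.Helper22.LieGen

variable {S : Scheme.{u}} {X : Over S} [GrpObj X] (R : Type u) [CommRing R]
  (s : Spec (CommRingCat.of R) ⟶ S)
  {A' : Type u} [CommRing A'] (φ : R →+* A') (hφ : Function.Surjective φ)
  (hI : RingHom.ker φ ^ 2 = ⊥)
  (U : X.left.Opens) (hU : IsAffineOpen U) (v : Over.mk s ⟶ X)
  (h1U : ∀ x, (1 : Over.mk s ⟶ X).left x ∈ U)
  (hv : Spec.map (CommRingCat.ofHom φ) ≫ v.left =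
    Spec.map (CommRingCat.ofHom φ) ≫ (1 : Over.mk s ⟶ X).left)

omit [GrpObj X] in
include hI in
theorem specMap_comp_addPt_left :
    Spec.map (CommRingCat.ofHom φ) ≫ (addPt R (RingHom.ker φ) s hI).left =
      Spec.map (CommRingCat.ofHom φ) ≫ (zeroPt R (RingHom.ker φ) s).left := by
  change Spec.map (CommRingCat.ofHom φ) ≫ Spec.map (CommRingCat.ofHom (addHom R _ hI)) =
    Spec.map (CommRingCat.ofHom φ) ≫ Spec.map (CommRingCat.ofHom (fstHom' R _))
  rw [← Spec.map_comp, ← Spec.map_comp]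
  congr 1
  ext x
  change φ (x.fst + (x.snd : R)) = φ x.fst
  rw [map_add, (RingHom.mem_ker).mp x.snd.2, add_zero]

include hφ hI hU h1U hv in
theorem exists_zpow_eq (d : ℤ) (hd : IsUnit (d : R)) :
    ∃ ζ : Over.mk s ⟶ X, ζ ^ d = v ∧
      Spec.map (CommRingCat.ofHom φ) ≫ ζ.left =
        Spec.map (CommRingCat.ofHom φ) ≫ (1 : Over.mk s ⟶ X).left := by
  obtain ⟨u, hu0, hu1⟩ := exists_tpt_lift R s φ hφ hI U hU v 1 h1U hv
  have hu' : tptMap R s (0 : RingHom.ker φ →ₗ[R] RingHom.ker φ) ≫ u = 1 := by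
    rw [← projPt_zeroPt, Category.assoc, hu0, MonObj.comp_one]
  obtain ⟨c, hc⟩ := hd.exists_left_inv
  obtain ⟨u₂, hu₂⟩ : ∃ u₂ : tpt R s (RingHom.ker φ) ⟶ X,
      u₂ = tptMap R s (c • (LinearMap.id : RingHom.ker φ →ₗ[R] RingHom.ker φ)) ≫ u := ⟨_, rfl⟩
  have hu₂0 : tptMap R s (0 : RingHom.ker φ →ₗ[R] RingHom.ker φ) ≫ u₂ = 1 := by
    rw [hu₂, tptMap_comp_assoc]
    have e : (0 : RingHom.ker φ →ₗ[R] RingHom.ker φ).comp
        (c • (LinearMap.id : RingHom.ker φ →ₗ[R] RingHom.ker φ)) = 0 := by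
      ext i; simp
    rw [e, hu']
  have e : (d • (LinearMap.id : RingHom.ker φ →ₗ[R] RingHom.ker φ)).comp
      (c • (LinearMap.id : RingHom.ker φ →ₗ[R] RingHom.ker φ)) = LinearMap.id := by
    ext i
    simp only [LinearMap.comp_apply, LinearMap.smul_apply, LinearMap.id_apply]
    rw [← Int.cast_smul_eq_zsmul R d (c • i), smul_smul, mul_comm, hc, one_smul]
  refine ⟨addPt R _ s hI ≫ u₂, ?_, ?_⟩
  · rw [← GrpObj.comp_zpow, zpow_eq R s u₂ hu₂0 d, hu₂, tptMap_comp_assoc, e, tptMap_id_comp, hu1]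
  · have h1 : zeroPt R _ s ≫ u₂ = 1 := by
      rw [hu₂, ← Category.assoc, zeroPt_tptMap, hu0]
    rw [Over.comp_left, ← Category.assoc, specMap_comp_addPt_left R s φ hI, Category.assoc,
      ← Over.comp_left, h1]

end Groth.Agent.Lib.Helper27.TorsLiftA
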