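import Mathlib
import Groth.Agent.Lib.Helper27.TorsLiftA
import Groth.Agent.Lib.Helper8.LiftCritSch
import Groth.Agent.Lib.Helper12.FibreDominant

/-!
# Multiplication by `N` on a smooth commutative group scheme is smooth when `N` is invertible
on the base (helper27)

Infinitesimal lifting criterion (helper8) + divisibility of infinitesimal points (`TorsLiftA`,
on helper22's tangent point calculus).
-/

set_option autoImplicit false
universe u
open CategoryTheory AlgebraicGeometry MonObj Limits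

namespace Groth.Agent.Lib.Helper27.TorsLiftB

/-- a morphism from the spectrum of a local ring lands in an affine open -/
theorem exists_affine_range {B : Type u} [CommRing B] [IsLocalRing B] {X : Scheme.{u}}
    (a : Spec (CommRingCat.of B) ⟶ X) : ∃ U : X.Opens, IsAffineOpen U ∧ ∀ y, a y ∈ U := by
  obtain ⟨_, ⟨U, hU, rfl⟩, hxU, -⟩ := X.isBasis_affineOpens.exists_subset_of_mem_open
    (Set.mem_univ (a (IsLocalRing.closedPoint B))) isOpen_univ
  refine ⟨U, hU, fun y => ?_⟩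
  have hcp : IsLocalRing.closedPoint B ∈ a ⁻¹ᵁ U := hxU
  have htop : a ⁻¹ᵁ U = ⊤ := (IsLocalRing.closedPoint_mem_iff _).mp hcp
  have : y ∈ a ⁻¹ᵁ U := htop ▸ trivial
  exact this

variable {S : Scheme.{u}} (G : Over S) [GrpObj G]

theorem zpow_left (N : ℤ) {T : Over S} (x : T ⟶ G) :
    (x ^ N).left = x.left ≫ ((𝟙 G) ^ N).left := by
  have h : x ^ N = x ≫ (𝟙 G) ^ N := by
    rw [GrpObj.comp_zpow, Category.comp_id]
  rw [h, Over.comp_left]

variable [IsCommMonObj G] [Smooth G.hom]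

theorem lifting_zpow (N : ℤ) (hN : IsUnit (N : Γ(S, ⊤)))
    (B B' : Type u) [CommRing B] [CommRing B'] [IsLocalRing B] [IsLocalRing B'] (φ : B' →+* B)
    (hφ : Function.Surjective φ) (hker : RingHom.ker φ ^ 2 = ⊥)
    (α : Spec (CommRingCat.of B) ⟶ G.left) (β : Spec (CommRingCat.of B') ⟶ G.left)
    (hsq : Spec.map (CommRingCat.ofHom φ) ≫ β = α ≫ ((𝟙 G) ^ N).left) :
    ∃ c : Spec (CommRingCat.of B') ⟶ G.left,
      Spec.map (CommRingCat.ofHom φ) ≫ c = α ∧ c ≫ ((𝟙 G) ^ N).left = β := by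
  obtain ⟨s', hs'⟩ : ∃ s' : Spec (CommRingCat.of B') ⟶ S, s' = β ≫ G.hom := ⟨_, rfl⟩
  have hw : ((𝟙 G) ^ N).left ≫ G.hom = G.hom := Over.w ((𝟙 G) ^ N)
  have hαs : α ≫ G.hom = Spec.map (CommRingCat.ofHom φ) ≫ s' := by
    rw [hs', ← Category.assoc, hsq, Category.assoc, hw]
  -- Step 1: lift `α` to a point over `B'`
  have hsm : (G.hom.stalkMap (α (IsLocalRing.closedPoint B))).hom.FormallySmooth := by
    have h1 := Scheme.Hom.smoothLocus_eq_top G.hom
    have hx : α (IsLocalRing.closedPoint B) ∈ G.hom.smoothLocus := h1 ▸ trivial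
    exact hx
  obtain ⟨c₁, hc₁, hc₁s⟩ := Groth.Agent.Lib.Helper8.LiftCritSch.lifting_of_mem_smoothLocus G.hom _
    hsm B B' φ hφ hker α s' rfl hαs.symm
  -- the points
  obtain ⟨h, hh⟩ : ∃ h : Over.mk s' ⟶ G, h.left = β := ⟨Over.homMk β hs'.symm, rfl⟩
  obtain ⟨g₁, hg₁⟩ : ∃ g₁ : Over.mk s' ⟶ G, g₁.left = c₁ := ⟨Over.homMk c₁ hc₁s, rfl⟩
  obtain ⟨i, hi⟩ : ∃ i : Over.mk (Spec.map (CommRingCat.ofHom φ) ≫ s') ⟶ Over.mk s',
      i.left = Spec.map (CommRingCat.ofHom φ) := ⟨Over.homMk (Spec.map (CommRingCat.ofHom φ)) rfl, rfl⟩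
  have hih : i ≫ h = (i ≫ g₁) ^ N := by
    apply Over.OverMorphism.ext
    rw [zpow_left, Over.comp_left, Over.comp_left, hi, hh, hg₁, hc₁, hsq]
  obtain ⟨δ, hδ⟩ : ∃ δ : Over.mk s' ⟶ G, δ = h * (g₁ ^ N)⁻¹ := ⟨_, rfl⟩
  have hiδ : i ≫ δ = 1 := by
    rw [hδ, MonObj.comp_mul, GrpObj.comp_inv, GrpObj.comp_zpow, hih, mul_inv_cancel]
  have hv : Spec.map (CommRingCat.ofHom φ) ≫ δ.left =
      Spec.map (CommRingCat.ofHom φ) ≫ (1 : Over.mk s' ⟶ G).left := by
    have h3 : i ≫ δ = i ≫ 1 := by rw [hiδ, MonObj.comp_one]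
    have h4 := congrArg (fun t => t.left) h3
    simp only [Over.comp_left, hi] at h4
    exact h4
  -- Step 3: divide `δ` by `N`
  obtain ⟨U, hU, h1U⟩ := exists_affine_range ((1 : Over.mk s' ⟶ G).left)
  have hNB' : IsUnit ((N : ℤ) : B') := by
    let σ : Γ(S, ⊤) →+* B' := (s'.appTop ≫ (Scheme.ΓSpecIso (CommRingCat.of B')).hom).hom
    have := hN.map σ
    rwa [map_intCast] at this
  obtain ⟨ζ, hζ, hζ1⟩ := Groth.Agent.Lib.Helper27.TorsLiftA.exists_zpow_eq B' s' φ hφ hker U hU δ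
    h1U hv N hNB'
  have hiζ : i ≫ ζ = 1 := by
    have h5 : i ≫ ζ = i ≫ 1 := by
      apply Over.OverMorphism.ext
      rw [Over.comp_left, Over.comp_left, hi, hζ1]
    rw [h5, MonObj.comp_one]
  -- Step 4
  refine ⟨(g₁ * ζ).left, ?_, ?_⟩
  · have h6 : i ≫ (g₁ * ζ) = i ≫ g₁ := by
      rw [MonObj.comp_mul, hiζ, _root_.mul_one]
    have h7 := congrArg (fun t => t.left) h6
    simp only [Over.comp_left, hi, hg₁, hc₁] at h7
    exact h7
  · rw [← zpow_left, mul_zpow, hζ, hδ, mul_comm h, mul_inv_cancel_left, hh]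

theorem smooth_zpow (N : ℤ) (hN : IsUnit (N : Γ(S, ⊤))) : Smooth ((𝟙 G) ^ N).left := by
  haveI : LocallyOfFinitePresentation (((𝟙 G) ^ N).left ≫ G.hom) := by
    rw [Over.w ((𝟙 G) ^ N)]
    infer_instance
  haveI : LocallyOfFinitePresentation ((𝟙 G) ^ N).left :=
    Groth.Agent.Lib.Helper12.FibreDominant.locallyOfFinitePresentation_of_comp
      ((𝟙 G) ^ N).left G.hom
  rw [← Scheme.Hom.smoothLocus_eq_top_iff, eq_top_iff]
  intro x _
  change x ∈ (((𝟙 G) ^ N).left).smoothLocus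
  rw [Scheme.Hom.mem_smoothLocus]
  exact Groth.Agent.Lib.Helper8.LiftCritSch.formallySmooth_stalkMap_of_lifting _ x
    (fun B B' _ _ _ _ φ hφ hker α β _ hsq => lifting_zpow G N hN B B' φ hφ hker α β hsq)

end Groth.Agent.Lib.Helper27.TorsLiftB
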