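import Mathlib
import Groth.Prelude.Def_AbDual
import Groth.Agent.Lib.Helper27.TorsLiftB
import Groth.Agent.Lib.Helper27.TorsCountB
import Groth.Agent.Lib.Helper27.InertiaA
import Groth.Agent.Lib.Helper22.LieGenF
import Groth.Agent.Lib.Helper8.SmoothSection

/-!
# Torsion points lift uniquely over a henselian local ring (helper27)

`existsUnique_lift`: `R` henselian local, `G` a smooth commutative `R`-group scheme, `N` invertible
in `R`: every `k`-point of `G` killed by `N` lifts to exactly one `R`-point killed by `N`.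
The kernel of `[N]` is smooth (`TorsLiftB.smooth_zpow`) and formally unramified (helper22) over `R`;
existence is Hensel's lemma for smooth schemes (helper8), uniqueness is `InertiaA`.
-/

set_option autoImplicit false
universe u
open CategoryTheory CategoryTheory.Limits AlgebraicGeometry MonoidalCategory
  CartesianMonoidalCategory MonObj

namespace Groth.Agent.Lib.Helper27.TorsLiftC

open Groth.Agent.Lib.Helper27.TorsCountB

theorem existsUnique_lift
    (R : Type u) [CommRing R] [HenselianLocalRing R]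
    (G : Over (Spec (CommRingCat.of R))) [GrpObj G] [IsCommMonObj G] [Smooth G.hom]
    (N : ℕ) (hN : IsUnit (N : R))
    (τ : Over.mk (Spec.map (CommRingCat.ofHom (IsLocalRing.residue R))) ⟶ G)
    (hτ : τ ∈ AbDual.torsPts G N (Over.mk (Spec.map (CommRingCat.ofHom (IsLocalRing.residue R))))) :
    ∃! σ : Over.mk (𝟙 (Spec (CommRingCat.of R))) ⟶ G,
      σ ∈ AbDual.torsPts G N (Over.mk (𝟙 (Spec (CommRingCat.of R)))) ∧
        Over.homMk (Spec.map (CommRingCat.ofHom (IsLocalRing.residue R))) (Category.comp_id _) ≫ σ =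
          τ := by
  have hNΓ : IsUnit (((N : ℤ)) : Γ(Spec (CommRingCat.of R), ⊤)) := by
    have h1 := hN.map (Scheme.ΓSpecIso (CommRingCat.of R)).inv.hom
    rw [map_natCast] at h1
    exact_mod_cast h1
  have hsm : Smooth ((𝟙 G) ^ (N : ℤ)).left := TorsLiftB.smooth_zpow G (N : ℤ) hNΓ
  have hunr : FormallyUnramified ((𝟙 G) ^ (N : ℤ)).left :=
    Groth.Agent.Lib.Helper22.LieGen.formallyUnramified_zpow_base G (N : ℤ) hNΓ
  rw [zpow_natCast] at hsm hunr
  haveI := hsm
  haveI := hunr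
  obtain ⟨p, hp⟩ : ∃ p : pullback ((𝟙 G) ^ N).left (unitSec G) ⟶ Spec (CommRingCat.of R),
      p = pullback.snd ((𝟙 G) ^ N).left (unitSec G) := ⟨_, rfl⟩
  haveI : Smooth p := by rw [hp]; infer_instance
  haveI : FormallyUnramified p := by
    rw [hp]
    exact MorphismProperty.pullback_snd (P := @FormallyUnramified) _ _ inferInstance
  -- the point of the kernel given by `τ`
  obtain ⟨a₀, ha₀⟩ : ∃ a₀, a₀ = torsEquiv G N _ ⟨τ, hτ⟩ := ⟨_, rfl⟩
  have ha₀p : a₀.1 ≫ p = Spec.map (CommRingCat.ofHom (IsLocalRing.residue R)) := by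
    rw [hp]; exact a₀.2
  have ha₀f : a₀.1 ≫ pullback.fst ((𝟙 G) ^ N).left (unitSec G) = τ.left := by
    rw [ha₀]; exact torsEquiv_fst G N _ ⟨τ, hτ⟩
  obtain ⟨u, hu1, hu2⟩ :=
    Groth.Agent.Lib.Helper8.SmoothSection.exists_section_of_smooth_scheme R p a₀.1 ha₀p
  have hu1' : u ≫ pullback.snd ((𝟙 G) ^ N).left (unitSec G) =
      (Over.mk (𝟙 (Spec (CommRingCat.of R)))).hom := by
    rw [← hp]; exact hu1
  obtain ⟨ub, hub⟩ : ∃ ub : {a : (Over.mk (𝟙 (Spec (CommRingCat.of R)))).left ⟶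
        pullback ((𝟙 G) ^ N).left (unitSec G) //
        a ≫ pullback.snd ((𝟙 G) ^ N).left (unitSec G) =
          (Over.mk (𝟙 (Spec (CommRingCat.of R)))).hom}, ub.1 = u := ⟨⟨u, hu1'⟩, rfl⟩
  obtain ⟨σ₀, hσ₀⟩ : ∃ σ₀, σ₀ = (torsEquiv G N (Over.mk (𝟙 (Spec (CommRingCat.of R))))).symm
      ub := ⟨_, rfl⟩
  have hσ₀l : σ₀.1.left = u ≫ pullback.fst ((𝟙 G) ^ N).left (unitSec G) := by
    rw [hσ₀, ← hub]; exact torsEquiv_symm_left G N _ ub
  refine ⟨σ₀.1, ⟨σ₀.2, ?_⟩, ?_⟩
  · apply Over.OverMorphism.ext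
    rw [Over.comp_left, hσ₀l]
    change Spec.map (CommRingCat.ofHom (IsLocalRing.residue R)) ≫ u ≫ _ = _
    rw [← Category.assoc, hu2, ha₀f]
  · rintro σ ⟨hσ, hστ⟩
    obtain ⟨b, hb⟩ : ∃ b, b = torsEquiv G N (Over.mk (𝟙 (Spec (CommRingCat.of R)))) ⟨σ, hσ⟩ :=
      ⟨_, rfl⟩
    have hbp : b.1 ≫ p = 𝟙 _ := by
      rw [hp]; exact b.2
    have hbf : b.1 ≫ pullback.fst ((𝟙 G) ^ N).left (unitSec G) = σ.left := by
      rw [hb]; exact torsEquiv_fst G N _ ⟨σ, hσ⟩
    have hστl : Spec.map (CommRingCat.ofHom (IsLocalRing.residue R)) ≫ σ.left = τ.left := by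
      have := congrArg (fun t => t.left) hστ
      exact this
    have hbu : b.1 = u := by
      refine InertiaA.eq_of_formallyUnramified_of_residue_eq p R b.1 u (hbp.trans hu1.symm) ?_
      apply pullback.hom_ext
      · rw [Category.assoc, hbf, hστl, hu2, ha₀f]
      · rw [Category.assoc, Category.assoc, b.2, hu1']
    have hbσ : b = ub := Subtype.ext (hbu.trans hub.symm)
    have h1 : (⟨σ, hσ⟩ : AbDual.torsPts G N (Over.mk (𝟙 (Spec (CommRingCat.of R))))) = σ₀ := by
      rw [hσ₀, ← hbσ, hb, Equiv.symm_apply_apply]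
    exact congrArg Subtype.val h1

end Groth.Agent.Lib.Helper27.TorsLiftC
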