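import Mathlib
import Groth.Agent.Lib.Helper22.LieGenC

/-!
# Torsion of order invertible on the base injects under reduction (helper27)

* `hom_ext_of_surjective`: two `K`-points of `N` over `Spec A`, with `A → K` surjective, having
  the same image point are equal.
* `hom_ext_of_forall_quotient_pow`: two morphisms `Spec R ⟶ N`, `R` Noetherian local, agreeing on
  all `Spec R/m^j` are equal.
* `eq_one_of_pow_eq_one`: a section `x` of a group scheme `N` over a Noetherian local ring `R`
  with `x ^ n = 1`, `n` invertible in `R`, passing through the unit of the closed fibre is the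
  unit section.
-/

set_option autoImplicit false
universe u
open CategoryTheory CategoryTheory.Limits AlgebraicGeometry MonoidalCategory
  CartesianMonoidalCategory MonObj TopologicalSpace

namespace Groth.Agent.Lib.Helper27.TorsRedA

theorem hom_ext_of_surjective {A : CommRingCat.{u}} {K : Type u} [Field K] {N : Scheme.{u}}
    (p : N ⟶ Spec A) (π : A ⟶ CommRingCat.of K) (hπ : Function.Surjective π.hom)
    (a b : Spec (CommRingCat.of K) ⟶ N) (ha : a ≫ p = Spec.map π) (hb : b ≫ p = Spec.map π)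
    (hab : a (IsLocalRing.closedPoint K) = b (IsLocalRing.closedPoint K)) : a = b := by
  obtain ⟨⟨z, φa⟩, rfl⟩ := (Scheme.SpecToEquivOfField K N).symm.surjective a
  obtain ⟨⟨z', φb⟩, rfl⟩ := (Scheme.SpecToEquivOfField K N).symm.surjective b
  simp only [Scheme.SpecToEquivOfField_symm_apply] at ha hb hab ⊢
  have hz : z = z' := by
    simpa [Scheme.fromSpecResidueField_apply] using hab
  subst hz
  let ψ : A ⟶ N.residueField z := Spec.preimage (N.fromSpecResidueField z ≫ p)
  have hψ : Spec.map ψ = N.fromSpecResidueField z ≫ p := Spec.map_preimage _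
  have h1 : ψ ≫ φa = π := Spec.map_injective (by
    rw [Spec.map_comp, hψ, ← Category.assoc]; exact ha)
  have h2 : ψ ≫ φb = π := Spec.map_injective (by
    rw [Spec.map_comp, hψ, ← Category.assoc]; exact hb)
  have hψs : Function.Surjective ψ.hom := by
    intro y
    obtain ⟨r, hr⟩ := hπ (φa.hom y)
    refine ⟨r, ?_⟩
    have h3 : φa.hom (ψ.hom r) = φa.hom y := by
      rw [← hr]; exact congrArg (fun t => t.hom r) h1
    exact φa.hom.injective h3
  have h4 : φa = φb := by
    ext y
    obtain ⟨r, rfl⟩ := hψs y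
    exact (congrArg (fun t => t.hom r) h1).trans (congrArg (fun t => t.hom r) h2).symm
  rw [h4]

theorem hom_ext_of_forall_quotient_pow (R : Type u) [CommRing R] [IsLocalRing R]
    [IsNoetherianRing R] {N : Scheme.{u}} (a b : Spec (CommRingCat.of R) ⟶ N)
    (h : ∀ j : ℕ, 1 ≤ j →
      Spec.map (CommRingCat.ofHom (Ideal.Quotient.mk (IsLocalRing.maximalIdeal R ^ j))) ≫ a =
      Spec.map (CommRingCat.ofHom (Ideal.Quotient.mk (IsLocalRing.maximalIdeal R ^ j))) ≫ b) :
    a = b := by
  -- the closed point has the same image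
  have hcl : a (IsLocalRing.closedPoint R) = b (IsLocalRing.closedPoint R) := by
    have hmem : IsLocalRing.closedPoint R ∈ PrimeSpectrum.zeroLocus
        ((RingHom.ker (Ideal.Quotient.mk (IsLocalRing.maximalIdeal R ^ 1)) : Ideal R) :
          Set R) := by
      intro r hr
      rw [SetLike.mem_coe, Ideal.mk_ker, pow_one] at hr
      exact hr
    rw [← range_comap_of_surjective _ (Ideal.Quotient.mk _)
      Ideal.Quotient.mk_surjective] at hmem
    obtain ⟨y, hy⟩ := hmem
    have h1 := congrArg (fun t : Spec (CommRingCat.of (R ⧸ IsLocalRing.maximalIdeal R ^ 1)) ⟶ N =>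
      t y) (h 1 le_rfl)
    simp only [Scheme.Hom.comp_apply] at h1
    have hy' : (Spec.map (CommRingCat.ofHom (Ideal.Quotient.mk
        (IsLocalRing.maximalIdeal R ^ 1)))) y = IsLocalRing.closedPoint R := hy
    rw [hy'] at h1
    exact h1
  obtain ⟨U, hU, hzU, -⟩ := Opens.isBasis_iff_nbhd.mp N.isBasis_affineOpens
    (Opens.mem_top (a (IsLocalRing.closedPoint R)))
  have haU : ∀ y, a y ∈ U := by
    have h1 : a ⁻¹ᵁ U = ⊤ := (IsLocalRing.closedPoint_mem_iff _).mp hzU
    intro y
    have : y ∈ a ⁻¹ᵁ U := h1 ▸ trivial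
    exact this
  have hbU : ∀ y, b y ∈ U := by
    have hzU' : b (IsLocalRing.closedPoint R) ∈ U := by rw [← hcl]; exact hzU
    have h1 : b ⁻¹ᵁ U = ⊤ := (IsLocalRing.closedPoint_mem_iff _).mp hzU'
    intro y
    have : y ∈ b ⁻¹ᵁ U := h1 ▸ trivial
    exact this
  have hra : Set.range a ⊆ Set.range hU.fromSpec := by
    rw [hU.range_fromSpec]
    rintro _ ⟨y, rfl⟩
    exact haU y
  have hrb : Set.range b ⊆ Set.range hU.fromSpec := by
    rw [hU.range_fromSpec]
    rintro _ ⟨y, rfl⟩
    exact hbU y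
  let la := IsOpenImmersion.lift hU.fromSpec a hra
  have hla : la ≫ hU.fromSpec = a := IsOpenImmersion.lift_fac _ _ _
  let lb := IsOpenImmersion.lift hU.fromSpec b hrb
  have hlb : lb ≫ hU.fromSpec = b := IsOpenImmersion.lift_fac _ _ _
  let ψa : Γ(N, U) ⟶ CommRingCat.of R := Spec.preimage la
  have hψa : Spec.map ψa = la := Spec.map_preimage la
  let ψb : Γ(N, U) ⟶ CommRingCat.of R := Spec.preimage lb
  have hψb : Spec.map ψb = lb := Spec.map_preimage lb
  have hcong : ∀ (j : ℕ) (c : Γ(N, U)), ψa.hom c - ψb.hom c ∈ IsLocalRing.maximalIdeal R ^ j := by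
    intro j c
    rcases Nat.eq_zero_or_pos j with rfl | hj
    · rw [pow_zero, Ideal.one_eq_top]; exact Submodule.mem_top
    · have h1 : Spec.map (ψa ≫ CommRingCat.ofHom (Ideal.Quotient.mk
          (IsLocalRing.maximalIdeal R ^ j))) =
          Spec.map (ψb ≫ CommRingCat.ofHom (Ideal.Quotient.mk
            (IsLocalRing.maximalIdeal R ^ j))) := by
        rw [Spec.map_comp, Spec.map_comp, hψa, hψb, ← cancel_mono hU.fromSpec, Category.assoc,
          Category.assoc, hla, hlb, h j hj]
      have h2 := Spec.map_injective h1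
      have h3 : Ideal.Quotient.mk (IsLocalRing.maximalIdeal R ^ j) (ψa.hom c) =
          Ideal.Quotient.mk (IsLocalRing.maximalIdeal R ^ j) (ψb.hom c) :=
        congrArg (fun t => t.hom c) h2
      rwa [Ideal.Quotient.eq] at h3
  have hψ : ψa = ψb := by
    ext c
    have h1 : ψa.hom c - ψb.hom c ∈ (⨅ j, IsLocalRing.maximalIdeal R ^ j : Ideal R) :=
      (Ideal.mem_iInf).mpr fun j => hcong j c
    rw [Ideal.iInf_pow_eq_bot_of_isLocalRing _ Ideal.IsPrime.ne_top'] at h1
    exact sub_eq_zero.mp h1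
  rw [← hla, ← hlb, ← hψa, ← hψb, hψ]

section Main

open Groth.Agent.Lib.Helper22

variable (R : Type u) [CommRing R]

/-- the closed immersion `Spec R/I ⟶ Spec R` as a morphism to the terminal object -/
noncomputable def iI (I : Ideal R) :
    Over.mk (Spec.map (CommRingCat.ofHom (Ideal.Quotient.mk I))) ⟶
      𝟙_ (Over (Spec (CommRingCat.of R))) :=
  Over.homMk (Spec.map (CommRingCat.ofHom (Ideal.Quotient.mk I))) (Category.comp_id _)

variable (N : Over (Spec (CommRingCat.of R))) [GrpObj N]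

theorem step (x : 𝟙_ (Over (Spec (CommRingCat.of R))) ⟶ N) (n : ℕ) (hx : x ^ n = 1)
    (hn : IsUnit (n : R)) (U : N.left.Opens) (hU : IsAffineOpen U)
    (hUη : ∀ y, (1 : 𝟙_ (Over (Spec (CommRingCat.of R))) ⟶ N).left y ∈ U)
    (I J : Ideal R) (hJI : J ≤ I) (hI2 : I ^ 2 ≤ J) (hI : iI R I ≫ x = 1) :
    iI R J ≫ x = 1 := by
  have hφ : Function.Surjective (Ideal.Quotient.factor hJI) :=
    Ideal.Quotient.factor_surjective hJI
  have hker : RingHom.ker (Ideal.Quotient.factor hJI) ^ 2 = ⊥ := by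
    rw [Ideal.Quotient.factor_ker, ← Ideal.map_pow, eq_bot_iff]
    calc Ideal.map (Ideal.Quotient.mk J) (I ^ 2) ≤ Ideal.map (Ideal.Quotient.mk J) J :=
          Ideal.map_mono hI2
      _ = ⊥ := Ideal.map_quotient_self J
  have hfac : Spec.map (CommRingCat.ofHom (Ideal.Quotient.factor hJI)) ≫
      Spec.map (CommRingCat.ofHom (Ideal.Quotient.mk J)) =
      Spec.map (CommRingCat.ofHom (Ideal.Quotient.mk I)) := by
    rw [← Spec.map_comp, ← CommRingCat.ofHom_comp, Ideal.Quotient.factor_comp_mk]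
  have h1J : (1 : Over.mk (Spec.map (CommRingCat.ofHom (Ideal.Quotient.mk J))) ⟶ N) =
      iI R J ≫ 1 := (MonObj.comp_one _).symm
  have h1I : (1 : Over.mk (Spec.map (CommRingCat.ofHom (Ideal.Quotient.mk I))) ⟶ N) =
      iI R I ≫ 1 := (MonObj.comp_one _).symm
  refine LieGen.eq_one_of_zpow_eq_one (R ⧸ J)
    (Spec.map (CommRingCat.ofHom (Ideal.Quotient.mk J))) (Ideal.Quotient.factor hJI) hφ hker U hU
    (iI R J ≫ x) ?_ ?_ (n : ℤ) ?_ ?_
  · intro y
    rw [h1J, Over.comp_left, Scheme.Hom.comp_apply]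
    exact hUη _
  · rw [h1J, Over.comp_left, Over.comp_left]
    have h2 : (iI R I ≫ x).left = (iI R I ≫ (1 : 𝟙_ (Over (Spec (CommRingCat.of R))) ⟶ N)).left := by
      rw [hI, h1I]
    change Spec.map _ ≫ Spec.map _ ≫ x.left = Spec.map _ ≫ Spec.map _ ≫
      (1 : 𝟙_ (Over (Spec (CommRingCat.of R))) ⟶ N).left
    rw [← Category.assoc, ← Category.assoc, hfac]
    exact h2
  · have h3 := hn.map (Ideal.Quotient.mk J)
    simpa using h3
  · rw [zpow_natCast, ← MonObj.comp_pow, hx, MonObj.comp_one]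

theorem iI_left_apply [IsLocalRing R]
    (y : Spec (CommRingCat.of (R ⧸ IsLocalRing.maximalIdeal R))) :
    (iI R (IsLocalRing.maximalIdeal R)).left y = IsLocalRing.closedPoint R := by
  change PrimeSpectrum.comap (Ideal.Quotient.mk (IsLocalRing.maximalIdeal R)) y =
    IsLocalRing.closedPoint R
  apply PrimeSpectrum.ext
  change Ideal.comap (Ideal.Quotient.mk (IsLocalRing.maximalIdeal R)) y.asIdeal =
    IsLocalRing.maximalIdeal R
  refine le_antisymm (IsLocalRing.le_maximalIdeal (Ideal.IsPrime.ne_top inferInstance)) ?_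
  intro r hr
  rw [Ideal.mem_comap, Ideal.Quotient.eq_zero_iff_mem.mpr hr]
  exact y.asIdeal.zero_mem

/-- A section `x` of a group scheme `N` over a Noetherian local ring `R` with `x ^ n = 1`, `n`
invertible in `R`, and passing through the unit point of the closed fibre, is the unit section. -/
theorem eq_one_of_pow_eq_one [IsLocalRing R] [IsNoetherianRing R]
    (x : 𝟙_ (Over (Spec (CommRingCat.of R))) ⟶ N) (n : ℕ) (hx : x ^ n = 1)
    (hn : IsUnit (n : R))
    (hred : x.left (IsLocalRing.closedPoint R) = (η[N]).left (IsLocalRing.closedPoint R)) :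
    x = 1 := by
  have h1η : (1 : 𝟙_ (Over (Spec (CommRingCat.of R))) ⟶ N) = η[N] := by
    rw [Hom.one_def]
    have h0 : toUnit (𝟙_ (Over (Spec (CommRingCat.of R)))) = 𝟙 _ := toUnit_unique _ _
    rw [h0, Category.id_comp]
  obtain ⟨U, hU, hzU, -⟩ := Opens.isBasis_iff_nbhd.mp N.left.isBasis_affineOpens
    (Opens.mem_top ((η[N]).left (IsLocalRing.closedPoint R)))
  have hUη : ∀ y, (1 : 𝟙_ (Over (Spec (CommRingCat.of R))) ⟶ N).left y ∈ U := by
    rw [h1η]
    have h1 : (η[N]).left ⁻¹ᵁ U = ⊤ := (IsLocalRing.closedPoint_mem_iff _).mp hzU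
    intro y
    have : y ∈ (η[N]).left ⁻¹ᵁ U := h1 ▸ trivial
    exact this
  have hbase : iI R (IsLocalRing.maximalIdeal R) ≫ x = 1 := by
    apply Over.OverMorphism.ext
    have h1m : (1 : Over.mk (Spec.map (CommRingCat.ofHom
        (Ideal.Quotient.mk (IsLocalRing.maximalIdeal R)))) ⟶ N) =
        iI R (IsLocalRing.maximalIdeal R) ≫ 1 := (MonObj.comp_one _).symm
    rw [h1m]
    letI : Field (R ⧸ IsLocalRing.maximalIdeal R) := Ideal.Quotient.field _
    refine hom_ext_of_surjective N.hom
      (CommRingCat.ofHom (Ideal.Quotient.mk (IsLocalRing.maximalIdeal R)))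
      Ideal.Quotient.mk_surjective _ _ ?_ ?_ ?_
    · exact Over.w (iI R (IsLocalRing.maximalIdeal R) ≫ x)
    · exact Over.w (iI R (IsLocalRing.maximalIdeal R) ≫
        (1 : 𝟙_ (Over (Spec (CommRingCat.of R))) ⟶ N))
    · rw [Over.comp_left, Over.comp_left, Scheme.Hom.comp_apply, Scheme.Hom.comp_apply,
        iI_left_apply, h1η]
      exact hred
  have hind : ∀ j : ℕ, 1 ≤ j → iI R (IsLocalRing.maximalIdeal R ^ j) ≫ x = 1 := by
    intro j hj
    induction j, hj using Nat.le_induction with
    | base =>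
      exact step R N x n hx hn U hU hUη (IsLocalRing.maximalIdeal R)
        (IsLocalRing.maximalIdeal R ^ 1) (by rw [pow_one])
        (by rw [pow_one]; exact Ideal.pow_le_self two_ne_zero) hbase
    | succ j hj ih =>
      refine step R N x n hx hn U hU hUη (IsLocalRing.maximalIdeal R ^ j)
        (IsLocalRing.maximalIdeal R ^ (j + 1)) (Ideal.pow_le_pow_right (Nat.le_succ j)) ?_ ih
      rw [← pow_mul]
      exact Ideal.pow_le_pow_right (by omega)
  apply Over.OverMorphism.ext
  refine hom_ext_of_forall_quotient_pow R x.left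
    (1 : 𝟙_ (Over (Spec (CommRingCat.of R))) ⟶ N).left ?_
  intro j hj
  have h2 := congrArg (fun t => t.left) (hind j hj)
  have h1j : (1 : Over.mk (Spec.map (CommRingCat.ofHom
      (Ideal.Quotient.mk (IsLocalRing.maximalIdeal R ^ j)))) ⟶ N) =
      iI R (IsLocalRing.maximalIdeal R ^ j) ≫ 1 := (MonObj.comp_one _).symm
  rw [h1j] at h2
  exact h2

end Main

end Groth.Agent.Lib.Helper27.TorsRedA
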