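import Mathlib
import Groth.Agent.Lib.Helper6.CompletedKaehler

/-!
Generating the localized completed module of differentials by differentials of unit multiples.
-/

set_option autoImplicit false
universe u

namespace Groth.Agent.Lib.Helper27.UnitDiffGen

open IsLocalRing TensorProduct

section Abstract

variable {R : Type*} [CommRing R] [IsLocalRing R] {L : Type*} [AddCommGroup L] [Module R L]
  [Module.Finite R L]

local notation "κ" => ResidueField R

/-- the images of a spanning set span the fibre. -/
theorem span_tmul_eq_top {T : Set L} (hT : Submodule.span R T = ⊤) :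
    Submodule.span κ ((fun t => (1 : κ) ⊗ₜ[R] t) '' T) = ⊤ := by
  have h1 : (Submodule.span R T).map (TensorProduct.mk R κ L 1) = ⊤ := by
    rw [hT, Submodule.map_top, LinearMap.range_eq_top]
    exact TensorProduct.mk_surjective R L κ Ideal.Quotient.mk_surjective
  rw [Submodule.map_span] at h1
  rw [← Submodule.restrictScalars_eq_top_iff (S := R) (R := κ),
    Submodule.restrictScalars_span R κ Ideal.Quotient.mk_surjective]
  exact h1

/-- Nakayama: a family spanning the fibre spans the module. -/
theorem span_eq_top_of_span_tmul_eq_top {ι : Type*} (f : ι → L)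
    (h : Submodule.span κ (Set.range fun i => (1 : κ) ⊗ₜ[R] f i) = ⊤) :
    Submodule.span R (Set.range f) = ⊤ := by
  rw [← map_tensorProduct_mk_eq_top, Submodule.map_span, ← Submodule.restrictScalars_span R κ
    Ideal.Quotient.mk_surjective, Submodule.restrictScalars_eq_top_iff, ← Set.range_comp]
  exact h

/-- the fibre dimension is the minimal number of generators. -/
theorem finrank_eq_of_min (M : ℕ)
    (hgen : ∃ s : Fin M → L, Submodule.span R (Set.range s) = ⊤)
    (hmin : ∀ s : Finset L, Submodule.span R (↑s : Set L) = ⊤ → M ≤ s.card) :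
    Module.finrank κ (κ ⊗[R] L) = M := by
  classical
  apply le_antisymm
  · obtain ⟨s, hs⟩ := hgen
    have h1 := span_tmul_eq_top hs
    rw [← Set.range_comp] at h1
    have h2 := finrank_range_le_card (R := κ) (fun i => (1 : κ) ⊗ₜ[R] s i)
    rw [Set.finrank] at h2
    have h3 : Submodule.span κ (Set.range fun i => (1 : κ) ⊗ₜ[R] s i) = ⊤ := h1
    rw [h3, finrank_top, Fintype.card_fin] at h2
    exact h2
  · let b := Module.finBasis κ (κ ⊗[R] L)
    have hsurj : Function.Surjective (TensorProduct.mk R κ L 1) :=
      TensorProduct.mk_surjective R L κ Ideal.Quotient.mk_surjective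
    choose f hf using fun i => hsurj (b i)
    have h1 : Submodule.span R (Set.range f) = ⊤ :=
      span_eq_top_of_tmul_eq_basis f b (fun i => hf i)
    have h2 := hmin (Finset.univ.image f) (by
      rw [Finset.coe_image, Finset.coe_univ, Set.image_univ]; exact h1)
    calc M ≤ (Finset.univ.image f).card := h2
      _ ≤ (Finset.univ : Finset (Fin (Module.finrank κ (κ ⊗[R] L)))).card := Finset.card_image_le
      _ = Module.finrank κ (κ ⊗[R] L) := by rw [Finset.card_univ, Fintype.card_fin]

/-- greedy choice of a generating family. -/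
theorem exists_choice_span_top (M : ℕ) (hfr : Module.finrank κ (κ ⊗[R] L) = M)
    {U : Type*} [Nonempty U] (c : Fin M → U → L)
    (hc : ∀ (i : Fin M) (W : Submodule κ (κ ⊗[R] L)),
      (∀ u, (1 : κ) ⊗ₜ[R] c i u ∈ W) → W = ⊤) :
    ∃ u : Fin M → U, Submodule.span R (Set.range fun i => c i (u i)) = ⊤ := by
  classical
  let c' : ℕ → U → L := fun i => if h : i < M then c ⟨i, h⟩ else fun _ => 0
  have key : ∀ j : ℕ, j ≤ M → ∃ u : ℕ → U,
      LinearIndependent κ (fun i : Fin j => (1 : κ) ⊗ₜ[R] c' i (u i)) := by
    intro j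
    induction j with
    | zero =>
      intro _
      exact ⟨fun _ => Classical.arbitrary U, linearIndependent_empty_type⟩
    | succ j ih =>
      intro hj
      obtain ⟨u, hu⟩ := ih (Nat.le_of_succ_le hj)
      have hjM : j < M := hj
      set W : Submodule κ (κ ⊗[R] L) :=
        Submodule.span κ (Set.range fun i : Fin j => (1 : κ) ⊗ₜ[R] c' i (u i)) with hW
      have hWne : W ≠ ⊤ := by
        intro htop
        have h1 : Module.finrank κ W = j := by
          rw [hW, finrank_span_eq_card hu, Fintype.card_fin]
        rw [htop, finrank_top, hfr] at h1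
        omega
      have hex : ∃ ustar : U, (1 : κ) ⊗ₜ[R] c ⟨j, hjM⟩ ustar ∉ W := by
        by_contra hcon
        push Not at hcon
        exact hWne (hc ⟨j, hjM⟩ W hcon)
      obtain ⟨ustar, hustar⟩ := hex
      refine ⟨Function.update u j ustar, ?_⟩
      have hfam : (fun i : Fin (j + 1) => (1 : κ) ⊗ₜ[R] c' i (Function.update u j ustar i)) =
          Fin.snoc (fun i : Fin j => (1 : κ) ⊗ₜ[R] c' i (u i))
            ((1 : κ) ⊗ₜ[R] c ⟨j, hjM⟩ ustar) := by
        funext i
        refine Fin.lastCases ?_ (fun i' => ?_) i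
        · rw [Fin.snoc_last]
          show (1 : κ) ⊗ₜ[R] c' j (Function.update u j ustar j) = _
          rw [Function.update_self]
          simp only [c', dif_pos hjM]
        · rw [Fin.snoc_castSucc]
          show (1 : κ) ⊗ₜ[R] c' (i' : ℕ) (Function.update u j ustar (i' : ℕ)) = _
          rw [Function.update_of_ne (ne_of_lt i'.isLt)]
      rw [hfam, linearIndependent_fin_snoc]
      exact ⟨hu, hustar⟩
  obtain ⟨u, hu⟩ := key M le_rfl
  refine ⟨fun i => u i, ?_⟩
  have hfam : (fun i : Fin M => (1 : κ) ⊗ₜ[R] c' i (u i)) =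
      fun i : Fin M => (1 : κ) ⊗ₜ[R] c i (u i) := by
    funext i
    simp only [c', dif_pos i.isLt]
  rw [hfam] at hu
  exact span_eq_top_of_span_tmul_eq_top (fun i => c i (u i))
    (hu.span_eq_top_of_card_eq_finrank' (by rw [Fintype.card_fin, hfr]))

end Abstract

section Concrete

variable (k A : Type u) [Field k] [CommRing A] [IsLocalRing A] [IsNoetherianRing A] [Algebra k A]
  [IsAdicComplete (maximalIdeal A) A] [Module.Finite k (ResidueField A)]

instance finite_completed : Module.Finite A (AdicCompletion (maximalIdeal A) (Ω[A⁄k])) := by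
  haveI h0 : Module.Finite k (A ⧸ maximalIdeal A) := ‹Module.Finite k (ResidueField A)›
  haveI h1 : Module.Finite (A ⧸ maximalIdeal A) (Ω[A ⧸ maximalIdeal A⁄k]) := inferInstance
  haveI h2 : Module.Finite (A ⧸ maximalIdeal A) (maximalIdeal A).Cotangent :=
    (inferInstance : FiniteDimensional (ResidueField A) (CotangentSpace A))
  exact Groth.Agent.Lib.Helper6.CompletedKaehler.finite_completedKaehler (A := k) (maximalIdeal A)

theorem span_unit_D :
    Submodule.span A (Set.range fun u : Aˣ => KaehlerDifferential.D k A (u : A)) = ⊤ := by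
  rw [eq_top_iff, ← KaehlerDifferential.span_range_derivation k A, Submodule.span_le]
  rintro _ ⟨a, rfl⟩
  by_cases ha : IsUnit a
  · exact Submodule.subset_span ⟨ha.unit, rfl⟩
  · have h1 : IsUnit (1 + a) := by
      have h2 : IsUnit ((1 + a) + (-a)) := by
        have : (1 + a) + (-a) = 1 := by ring
        rw [this]; exact isUnit_one
      rcases IsLocalRing.isUnit_or_isUnit_of_isUnit_add h2 with h | h
      · exact h
      · exact absurd (by simpa using h) ha
    have h3 : KaehlerDifferential.D k A a = KaehlerDifferential.D k A ((h1.unit : Aˣ) : A) := by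
      rw [IsUnit.unit_spec, map_add, Derivation.map_one_eq_zero, zero_add]
    rw [h3]
    exact Submodule.subset_span ⟨h1.unit, rfl⟩

theorem of_surjective :
    Function.Surjective (AdicCompletion.of (maximalIdeal A) (Ω[A⁄k])) := by
  have hfg : (maximalIdeal A).FG := IsNoetherian.noetherian _
  rw [← LinearMap.range_eq_top, ← IsLocalRing.map_mkQ_eq_top, eq_top_iff]
  rintro z -
  obtain ⟨z, rfl⟩ := Submodule.mkQ_surjective _ z
  obtain ⟨ω, hω⟩ := Submodule.mkQ_surjective _
    (AdicCompletion.eval (maximalIdeal A) (Ω[A⁄k]) 1 z)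
  have h1 : z - AdicCompletion.of (maximalIdeal A) (Ω[A⁄k]) ω ∈
      LinearMap.ker (AdicCompletion.eval (maximalIdeal A) (Ω[A⁄k]) 1) := by
    rw [LinearMap.mem_ker, map_sub, AdicCompletion.eval_of, hω, sub_self]
  rw [← AdicCompletion.pow_smul_top_eq_ker_eval hfg, pow_one] at h1
  refine ⟨AdicCompletion.of (maximalIdeal A) (Ω[A⁄k]) ω, LinearMap.mem_range_self _ _, ?_⟩
  rw [Submodule.mkQ_apply, Submodule.mkQ_apply, eq_comm, Submodule.Quotient.eq]
  exact h1

theorem span_of_unit_D :
    Submodule.span A (Set.range fun u : Aˣ =>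
      AdicCompletion.of (maximalIdeal A) (Ω[A⁄k]) (KaehlerDifferential.D k A (u : A))) = ⊤ := by
  have h1 := span_unit_D k A
  have h2 : (Set.range fun u : Aˣ =>
      AdicCompletion.of (maximalIdeal A) (Ω[A⁄k]) (KaehlerDifferential.D k A (u : A))) =
      (AdicCompletion.of (maximalIdeal A) (Ω[A⁄k])) ''
        (Set.range fun u : Aˣ => KaehlerDifferential.D k A (u : A)) := by
    rw [← Set.range_comp]; rfl
  rw [h2, ← Submodule.map_span, h1, Submodule.map_top, LinearMap.range_eq_top]
  exact of_surjective k A

theorem main (p : Ideal A) [p.IsPrime] (M : ℕ)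
    (hgen : ∃ s : Fin M → (LocalizedModule p.primeCompl
        (AdicCompletion (maximalIdeal A) (Ω[A⁄k]))),
      Submodule.span (Localization.AtPrime p) (Set.range s) = ⊤)
    (hmin : ∀ (s : Finset (LocalizedModule p.primeCompl
        (AdicCompletion (maximalIdeal A) (Ω[A⁄k])))),
      Submodule.span (Localization.AtPrime p) (↑s : Set (LocalizedModule p.primeCompl
        (AdicCompletion (maximalIdeal A) (Ω[A⁄k])))) = ⊤ → M ≤ s.card)
    (x : Fin M → A) (hx : ∀ i, x i ∉ p) :
    ∃ u : Fin M → Aˣ, Submodule.span (Localization.AtPrime p)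
      (Set.range (fun i => LocalizedModule.mkLinearMap p.primeCompl
        (AdicCompletion (maximalIdeal A) (Ω[A⁄k]))
        (AdicCompletion.of (maximalIdeal A) (Ω[A⁄k])
          (KaehlerDifferential.D k A ((u i : A) * x i))))) = ⊤ := by
  haveI : Module.Finite (Localization.AtPrime p) (LocalizedModule p.primeCompl
      (AdicCompletion (maximalIdeal A) (Ω[A⁄k]))) :=
    Module.Finite.of_isLocalizedModule p.primeCompl
      (LocalizedModule.mkLinearMap p.primeCompl (AdicCompletion (maximalIdeal A) (Ω[A⁄k])))
  have hfr := finrank_eq_of_min M hgen hmin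
  have hT : Submodule.span (Localization.AtPrime p)
      ((LocalizedModule.mkLinearMap p.primeCompl (AdicCompletion (maximalIdeal A) (Ω[A⁄k]))) ''
        (Set.range fun u : Aˣ => AdicCompletion.of (maximalIdeal A) (Ω[A⁄k])
          (KaehlerDifferential.D k A (u : A)))) = ⊤ :=
    span_eq_top_of_isLocalizedModule (Localization.AtPrime p) p.primeCompl
      (LocalizedModule.mkLinearMap p.primeCompl (AdicCompletion (maximalIdeal A) (Ω[A⁄k])))
      (span_of_unit_D k A)
  refine exists_choice_span_top M hfr
    (fun i (u : Aˣ) => LocalizedModule.mkLinearMap p.primeCompl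
      (AdicCompletion (maximalIdeal A) (Ω[A⁄k]))
      (AdicCompletion.of (maximalIdeal A) (Ω[A⁄k])
        (KaehlerDifferential.D k A ((u : A) * x i)))) ?_
  intro i W hW
  -- abbreviation for the class of a differential
  have hγ : ∀ a b : A,
      (1 : ResidueField (Localization.AtPrime p)) ⊗ₜ[Localization.AtPrime p]
        (LocalizedModule.mkLinearMap p.primeCompl (AdicCompletion (maximalIdeal A) (Ω[A⁄k]))
          (AdicCompletion.of (maximalIdeal A) (Ω[A⁄k]) (KaehlerDifferential.D k A (a * b)))) =
      algebraMap A (Localization.AtPrime p) a •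
        ((1 : ResidueField (Localization.AtPrime p)) ⊗ₜ[Localization.AtPrime p]
        (LocalizedModule.mkLinearMap p.primeCompl (AdicCompletion (maximalIdeal A) (Ω[A⁄k]))
          (AdicCompletion.of (maximalIdeal A) (Ω[A⁄k]) (KaehlerDifferential.D k A b)))) +
      algebraMap A (Localization.AtPrime p) b •
        ((1 : ResidueField (Localization.AtPrime p)) ⊗ₜ[Localization.AtPrime p]
        (LocalizedModule.mkLinearMap p.primeCompl (AdicCompletion (maximalIdeal A) (Ω[A⁄k]))
          (AdicCompletion.of (maximalIdeal A) (Ω[A⁄k]) (KaehlerDifferential.D k A a)))) := by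
    intro a b
    rw [Derivation.leibniz, map_add, map_add, map_smul, map_smul, map_smul, map_smul,
      TensorProduct.tmul_add, ← algebraMap_smul (Localization.AtPrime p) a,
      ← algebraMap_smul (Localization.AtPrime p) b, TensorProduct.tmul_smul,
      TensorProduct.tmul_smul]
  have hone : (1 : ResidueField (Localization.AtPrime p)) ⊗ₜ[Localization.AtPrime p]
      (LocalizedModule.mkLinearMap p.primeCompl (AdicCompletion (maximalIdeal A) (Ω[A⁄k]))
        (AdicCompletion.of (maximalIdeal A) (Ω[A⁄k]) (KaehlerDifferential.D k A (x i)))) ∈ W := by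
    have := hW 1
    simpa using this
  have hu : ∀ u : Aˣ, (1 : ResidueField (Localization.AtPrime p)) ⊗ₜ[Localization.AtPrime p]
      (LocalizedModule.mkLinearMap p.primeCompl (AdicCompletion (maximalIdeal A) (Ω[A⁄k]))
        (AdicCompletion.of (maximalIdeal A) (Ω[A⁄k]) (KaehlerDifferential.D k A (u : A)))) ∈ W := by
    intro u
    have h1 := hW u
    beta_reduce at h1
    rw [hγ] at h1
    have h2 := (Submodule.add_mem_iff_right W
      (Submodule.smul_of_tower_mem W (algebraMap A (Localization.AtPrime p) (u : A)) hone)).mp h1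
    have hunit : IsUnit (algebraMap A (Localization.AtPrime p) (x i)) :=
      IsLocalization.map_units (Localization.AtPrime p) (⟨x i, hx i⟩ : p.primeCompl)
    have h3 := Submodule.smul_of_tower_mem W (hunit.unit⁻¹ : (Localization.AtPrime p)ˣ) h2
    rwa [Units.smul_def, ← mul_smul, IsUnit.val_inv_mul, one_smul] at h3
  rw [eq_top_iff, ← span_tmul_eq_top hT, Submodule.span_le]
  rintro _ ⟨_, ⟨_, ⟨u, rfl⟩, rfl⟩, rfl⟩
  exact hu u

end Concrete

end Groth.Agent.Lib.Helper27.UnitDiffGen
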