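import Mathlib
import Groth.Agent.Lib.Helper27.HD24
import Groth.Agent.Lib.Helper23.FF3a
import Groth.Agent.Lib.Helper23.FFAut

/-! Plane models with a local parameter in the span of `1, x, y` at every place (S11051). -/

set_option autoImplicit false

namespace Groth.Agent.Lib.Helper27.FF

open FunFld IntermediateField

universe u v
variable {k : Type u} {K : Type v} [Field k] [Field K] [Algebra k K]

/-- Steinitz' argument: among the elements `α + c β`, `c` in an infinite subfield, one generates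
`F(α, β)`. -/
theorem exists_const_adjoin_eq {F E : Type*} [Field F] [Field E] [Algebra F E]
    [Finite (IntermediateField F E)] (k₀ : Type*) [Field k₀] [Infinite k₀] [Algebra k₀ F]
    [Algebra k₀ E] [IsScalarTower k₀ F E] (α β : E) :
    ∃ c : k₀, α ∈ F⟮α + c • β⟯ ∧ β ∈ F⟮α + c • β⟯ := by
  obtain ⟨c₁, c₂, hne, heq⟩ := Finite.exists_ne_map_eq_of_infinite
    (fun c : k₀ => F⟮α + c • β⟯)
  refine ⟨c₁, ?_⟩
  have h1 : α + c₁ • β ∈ F⟮α + c₁ • β⟯ := mem_adjoin_simple_self F _
  have h2 : α + c₂ • β ∈ F⟮α + c₁ • β⟯ := by rw [heq]; exact mem_adjoin_simple_self F _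
  obtain ⟨L, hL⟩ : ∃ L : IntermediateField F E, L = F⟮α + c₁ • β⟯ := ⟨_, rfl⟩
  rw [← hL] at h1 h2 ⊢
  have h3 : (c₁ - c₂) • β ∈ L := by
    have := sub_mem h1 h2
    rwa [show α + c₁ • β - (α + c₂ • β) = (c₁ - c₂) • β by rw [sub_smul]; ring] at this
  have hc : c₁ - c₂ ≠ 0 := sub_ne_zero.mpr hne
  have hc' : algebraMap k₀ F (c₁ - c₂) ≠ 0 := by
    rw [Ne, map_eq_zero_iff _ (algebraMap k₀ F).injective]
    exact hc
  have hβ : β ∈ L := by
    have h4 : (algebraMap k₀ F (c₁ - c₂))⁻¹ • ((c₁ - c₂) • β) ∈ L := L.smul_mem h3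
    rwa [← algebraMap_smul F (c₁ - c₂) β, smul_smul, inv_mul_cancel₀ hc', one_smul] at h4
  refine ⟨?_, hβ⟩
  have h5 : c₁ • β ∈ L := by
    rw [← algebraMap_smul F c₁ β]
    exact L.smul_mem hβ
  have := sub_mem h1 h5
  rwa [add_sub_cancel_right] at this

section AC

variable [IsAlgClosed k] (hK : IsFunctionField k K)

include hK in
/-- S11051 as a library lemma. -/
theorem exists_plane_model (x : K) (hsep : Algebra.IsSeparable k⟮x⟯ K) :
    ∃ y : K, IntermediateField.adjoin k ({x, y} : Set K) = ⊤ ∧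
      ∀ P : Place k K, ∃ f ∈ Submodule.span k ({1, x, y} : Set K),
        P.1 f = WithZero.exp (-1) := by
  classical
  -- `x` is transcendental
  have htr : Transcendental k x := by
    intro halg
    obtain ⟨⟨x₀, hx₀, -⟩, -⟩ := id hK
    haveI : Algebra.IsAlgebraic k k⟮x⟯ := IntermediateField.isAlgebraic_adjoin_simple halg.isIntegral
    haveI : Algebra.IsAlgebraic k⟮x⟯ K := Algebra.IsSeparable.isAlgebraic k⟮x⟯ K
    haveI := Algebra.IsAlgebraic.trans k k⟮x⟯ K
    exact hx₀ (Algebra.IsAlgebraic.isAlgebraic x₀)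
  haveI hfd : FiniteDimensional k⟮x⟯ K :=
    Groth.Agent.Lib.Helper23.FF.finiteDimensional_adjoin hK htr
  have hF := HD.isFunctionField_adjoin_simple hK htr
  haveI : Infinite k := IsAlgClosed.instInfinite
  obtain ⟨P₀⟩ : Nonempty (Place k K) := (Groth.Agent.Lib.Helper23.FF.infinite_places hK).nonempty
  -- the bad places
  have hBfin : ({Q : Place k K | ¬ Function.Surjective (Q.1.comap (algebraMap k⟮x⟯ K))} ∪
      (Function.support fun Q : Place k K => Q.ord x) ∪ {P₀}).Finite :=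
    ((FF.finite_ramified (K := k⟮x⟯) (K' := K) hF).union (FF.finite_support_ord hK x)).union
      (Set.finite_singleton P₀)
  set B : Finset (Place k K) := hBfin.toFinset with hB
  have hP₀B : P₀ ∈ B := by
    rw [hB, Set.Finite.mem_toFinset]; exact Or.inr rfl
  let Pl : {Q // Q ∈ B} → Place k K := Subtype.val
  have hinj : Function.Injective Pl := Subtype.val_injective
  choose t ht using fun i : {Q // Q ∈ B} => Groth.Agent.Lib.Helper23.FF.exists_uniformizer i.1
  obtain ⟨y₀, hy₀⟩ := Groth.Agent.Lib.Helper23.FF.weak_approx Pl hinj t 2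
  have hlt2 : WithZero.exp (-((2 : ℕ) : ℤ)) < (WithZero.exp (-1) : WithZero (Multiplicative ℤ)) := by
    rw [WithZero.exp_lt_exp]; norm_num
  have hy₀v : ∀ i : {Q // Q ∈ B}, i.1.1 y₀ = WithZero.exp (-1) := by
    intro i
    have h1 : i.1.1 (y₀ - t i) < i.1.1 (t i) := by
      rw [(ht i).1]; exact lt_of_le_of_lt (hy₀ i) hlt2
    have h2 : y₀ = t i + (y₀ - t i) := by ring
    rw [h2, Valuation.map_add_eq_of_lt_left _ h1, (ht i).1]
  have hy₀0 : y₀ ≠ 0 := by
    intro h0
    have := hy₀v ⟨P₀, hP₀B⟩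
    rw [h0, map_zero] at this
    exact WithZero.exp_ne_zero this.symm
  obtain ⟨z₀, hz₀⟩ := Field.exists_primitive_element k⟮x⟯ K
  -- a power of `y₀` kills the poles of `z₀` on `B`
  choose m hm using fun i : {Q // Q ∈ B} =>
    Groth.Agent.Lib.Helper23.FF.exists_nat_le_exp (i.1.1 z₀)
  obtain ⟨M, hM⟩ := Finset.exists_le (Finset.univ.image m)
  set β : K := y₀ ^ (M + 2) * z₀ with hβ
  have hβv : ∀ i : {Q // Q ∈ B}, i.1.1 β ≤ WithZero.exp (-((2 : ℕ) : ℤ)) := by
    intro i
    rw [hβ, map_mul, map_pow, hy₀v i, ← WithZero.exp_nsmul]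
    refine (mul_le_mul' le_rfl (hm i)).trans ?_
    rw [← WithZero.exp_add, WithZero.exp_le_exp]
    have : m i ≤ M := hM _ (Finset.mem_image_of_mem m (Finset.mem_univ i))
    simp only [nsmul_eq_mul, Nat.cast_add, Nat.cast_ofNat]
    omega
  haveI : Finite (IntermediateField k⟮x⟯ K) :=
    Field.finite_intermediateField_of_exists_primitive_element k⟮x⟯ K ⟨z₀, hz₀⟩
  obtain ⟨c, hc1, hc2⟩ := exists_const_adjoin_eq (F := k⟮x⟯) (E := K) k y₀ β
  set y : K := y₀ + c • β with hy
  refine ⟨y, ?_, ?_⟩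
  · -- generation
    have hz₀L : z₀ ∈ k⟮x⟯⟮y⟯ := by
      have h1 : z₀ = β * (y₀ ^ (M + 2))⁻¹ := by
        rw [hβ]; field_simp
      rw [h1]
      exact mul_mem hc2 (inv_mem (pow_mem hc1 _))
    have htop : k⟮x⟯⟮y⟯ = ⊤ := by
      rw [eq_top_iff, ← hz₀]
      exact IntermediateField.adjoin_simple_le_iff.mpr hz₀L
    have h1 := IntermediateField.adjoin_adjoin_left k ({x} : Set K) ({y} : Set K)
    rw [htop] at h1
    rw [eq_top_iff]
    have h2 : (⊤ : IntermediateField k K) ≤ IntermediateField.adjoin k (({x} : Set K) ∪ {y}) := by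
      rw [← h1]
      intro z _
      exact IntermediateField.mem_top
    refine h2.trans (IntermediateField.adjoin.mono k _ _ ?_)
    rintro z (hz | hz)
    · exact Or.inl hz
    · exact Or.inr hz
  · intro P
    by_cases hPB : P ∈ B
    · refine ⟨y, Submodule.subset_span (by simp), ?_⟩
      have h1 : P.1 (y - t ⟨P, hPB⟩) < P.1 (t ⟨P, hPB⟩) := by
        rw [(ht ⟨P, hPB⟩).1]
        refine lt_of_le_of_lt ?_ hlt2
        have h2 : y - t ⟨P, hPB⟩ = (y₀ - t ⟨P, hPB⟩) + c • β := by rw [hy]; ring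
        rw [h2]
        refine (P.1.map_add _ _).trans (max_le (hy₀ ⟨P, hPB⟩) ?_)
        rw [Algebra.smul_def, map_mul]
        exact ((mul_le_mul' (P.2.1 c) le_rfl).trans_eq (one_mul _)).trans (hβv ⟨P, hPB⟩)
      have h2 : y = t ⟨P, hPB⟩ + (y - t ⟨P, hPB⟩) := by ring
      rw [h2, Valuation.map_add_eq_of_lt_left _ h1, (ht ⟨P, hPB⟩).1]
    · rw [hB, Set.Finite.mem_toFinset, Set.mem_union, Set.mem_union, not_or, not_or] at hPB
      obtain ⟨⟨hn1, hn2⟩, -⟩ := hPB
      have hsurj : Function.Surjective (P.1.comap (algebraMap k⟮x⟯ K)) := not_not.mp hn1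
      have hord : P.ord x = 0 := by
        by_contra h; exact hn2 h
      have hx0 : x ≠ 0 := fun h0 => htr (h0 ▸ isAlgebraic_zero)
      have hx1 : P.1 x ≤ 1 := by
        rw [FF.val_eq_exp_neg_ord P hx0, hord]; simp
      obtain ⟨a, ha⟩ := Groth.Agent.Lib.Helper23.FF.exists_const_val_sub_lt_one P
        (Groth.Agent.Lib.Helper23.FF.deg_eq_one hK P) hx1
      have hunif := HD.val_sub_const_eq_of_unramified P htr hsurj hx1 ha
      refine ⟨x - algebraMap k K a, ?_, hunif⟩
      apply Submodule.sub_mem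
      · exact Submodule.subset_span (by simp)
      · rw [Algebra.algebraMap_eq_smul_one]
        exact Submodule.smul_mem _ _ (Submodule.subset_span (by simp))

end AC

end Groth.Agent.Lib.Helper27.FF
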