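import Mathlib

/-!
# Finite intersections of valuation rings (part 1): the geometric sum trick

For a finite family of valuation subrings `V i` of a field `L` and `x ≠ 0`, there is `s ≥ 2` such
that all `x ^ j / (1 + x + ⋯ + x ^ (s-1))`, `j < s`, lie in every `V i` (`exists_good`).
-/

set_option autoImplicit false

namespace Groth.Agent.Lib.Helper27.VInt

section geom

variable {L : Type*} [Field L]

/-- The geometric sum `1 + x + ⋯ + x ^ (s - 1)`. -/
def gs (x : L) (s : ℕ) : L := ∑ j ∈ Finset.range s, x ^ j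

theorem gs_zero (x : L) : gs x 0 = 0 := by simp [gs]

theorem gs_one (x : L) : gs x 1 = 1 := by simp [gs]

theorem gs_add (x : L) (a b : ℕ) : gs x (a + b) = gs x a + x ^ a * gs x b := by
  unfold gs
  rw [Finset.sum_range_add, Finset.mul_sum]
  congr 1
  exact Finset.sum_congr rfl fun j _ => pow_add x a j

theorem gs_inv (x : L) (hx : x ≠ 0) (s : ℕ) (hs : 1 ≤ s) :
    gs x s = x ^ (s - 1) * gs x⁻¹ s := by
  unfold gs
  rw [Finset.mul_sum]
  conv_lhs => rw [← Finset.sum_range_reflect]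
  refine Finset.sum_congr rfl fun j hj => ?_
  have hj' : j ≤ s - 1 := by have := Finset.mem_range.mp hj; omega
  rw [inv_pow]
  exact pow_sub₀ x hx hj'

variable {Γ : Type*} [LinearOrderedCommGroupWithZero Γ] (v : Valuation L Γ)

theorem v_gs_le (x : L) (hx : v x ≤ 1) (s : ℕ) : v (gs x s) ≤ 1 :=
  v.map_sum_le fun j _ => by rw [map_pow]; exact pow_le_one' hx j

theorem v_gs_eq_one (x : L) (hx : v x < 1) (s : ℕ) (hs : 1 ≤ s) : v (gs x s) = 1 := by
  obtain ⟨t, rfl⟩ : ∃ t, s = 1 + t := ⟨s - 1, by omega⟩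
  rw [gs_add, gs_one, pow_one]
  apply Valuation.map_one_add_of_lt
  rw [map_mul]
  exact (mul_le_of_le_one_right' (v_gs_le v x hx.le t)).trans_lt hx

theorem exists_period (x : L) (hx : v x = 1) :
    ∃ e : ℕ, 2 ≤ e ∧ ∀ s, 1 ≤ s → v (gs x s) < 1 → e ∣ s := by
  classical
  by_cases hex : ∃ s, 1 ≤ s ∧ v (gs x s) < 1
  · have hd : 1 ≤ Nat.find hex ∧ v (gs x (Nat.find hex)) < 1 := Nat.find_spec hex
    have hmin : ∀ r, r < Nat.find hex → ¬ (1 ≤ r ∧ v (gs x r) < 1) :=
      fun r hr => Nat.find_min hex hr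
    generalize Nat.find hex = d at hd hmin
    have hd2 : 2 ≤ d := by
      by_contra h
      have h1 : d = 1 := by omega
      rw [h1, gs_one, map_one] at hd
      exact lt_irrefl _ hd.2
    have hq : ∀ q, v (gs x (d * q)) < 1 := by
      intro q
      induction q with
      | zero => rw [Nat.mul_zero, gs_zero, map_zero]; exact zero_lt_one
      | succ q ih =>
        rw [Nat.mul_succ, gs_add]
        exact Valuation.map_add_lt v ih (by rw [map_mul, map_pow, hx, one_pow, one_mul]; exact hd.2)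
    refine ⟨d, hd2, fun s hs1 hs => ?_⟩
    by_contra hnd
    have hr : 0 < s % d := Nat.pos_of_ne_zero (fun h => hnd (Nat.dvd_of_mod_eq_zero h))
    have hsplit : gs x s = gs x (d * (s / d)) + x ^ (d * (s / d)) * gs x (s % d) := by
      rw [← gs_add, Nat.div_add_mod]
    have h1 : v (x ^ (d * (s / d)) * gs x (s % d)) < 1 := by
      have e : x ^ (d * (s / d)) * gs x (s % d) = gs x s - gs x (d * (s / d)) := by
        rw [hsplit]; ring
      rw [e]
      exact Valuation.map_sub_lt v hs (hq _)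
    rw [map_mul, map_pow, hx, one_pow, one_mul] at h1
    exact hmin (s % d) (Nat.mod_lt _ (by omega)) ⟨hr, h1⟩
  · exact ⟨2, le_rfl, fun s hs1 hs => absurd ⟨s, hs1, hs⟩ hex⟩

theorem claim (x : L) (hx0 : x ≠ 0) (s : ℕ) (hs : 1 ≤ s)
    (hgood : v x = 1 → ¬ v (gs x s) < 1) :
    v (gs x s) ≠ 0 ∧ ∀ j < s, v (x ^ j / gs x s) ≤ 1 := by
  rcases lt_trichotomy (v x) 1 with h | h | h
  · have h1 := v_gs_eq_one v x h s hs
    refine ⟨by rw [h1]; exact one_ne_zero, fun j _ => ?_⟩
    rw [map_div₀, h1, div_one, map_pow]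
    exact pow_le_one' h.le j
  · have h1 : v (gs x s) = 1 := le_antisymm (v_gs_le v x h.le s) (not_lt.mp (hgood h))
    refine ⟨by rw [h1]; exact one_ne_zero, fun j _ => ?_⟩
    rw [map_div₀, h1, div_one, map_pow, h, one_pow]
  · have hy : v x⁻¹ < 1 := by rw [map_inv₀]; exact inv_lt_one_of_one_lt₀ h
    have h1 := v_gs_eq_one v x⁻¹ hy s hs
    have h2 : v (gs x s) = v x ^ (s - 1) := by
      rw [gs_inv x hx0 s hs, map_mul, h1, mul_one, map_pow]
    have hpos : v x ≠ 0 := (zero_lt_one.trans h).ne'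
    refine ⟨by rw [h2]; exact pow_ne_zero _ hpos, fun j hj => ?_⟩
    rw [map_div₀, h2, map_pow, div_le_one₀ (zero_lt_iff.mpr (pow_ne_zero _ hpos))]
    exact pow_le_pow_right₀ h.le (by omega)

end geom

theorem exists_good {L : Type*} [Field L] {ι : Type*} [Finite ι] (V : ι → ValuationSubring L)
    (x : L) (hx : x ≠ 0) :
    ∃ s : ℕ, 2 ≤ s ∧ ∀ i, (V i).valuation (gs x s) ≠ 0 ∧ ∀ j < s, x ^ j / gs x s ∈ V i := by
  classical
  cases nonempty_fintype ι
  have hper : ∀ i, ∃ e : ℕ, 2 ≤ e ∧ ((V i).valuation x = 1 →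
      ∀ s, 1 ≤ s → (V i).valuation (gs x s) < 1 → e ∣ s) := by
    intro i
    by_cases h : (V i).valuation x = 1
    · obtain ⟨e, he, hes⟩ := exists_period _ x h
      exact ⟨e, he, fun _ => hes⟩
    · exact ⟨2, le_rfl, fun h' => absurd h' h⟩
  choose e he2 he using hper
  refine ⟨(∏ i, e i) + 1, ?_, fun i => ?_⟩
  · have : 0 < ∏ i, e i := Finset.prod_pos fun i _ => by have := he2 i; omega
    omega
  · have hgood : (V i).valuation x = 1 →
        ¬ (V i).valuation (gs x ((∏ i, e i) + 1)) < 1 := by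
      intro h hlt
      have hd := he i h _ (by omega) hlt
      have hd' : e i ∣ ∏ i, e i := Finset.dvd_prod_of_mem e (Finset.mem_univ i)
      have h1 : e i ∣ 1 := (Nat.dvd_add_right hd').mp hd
      have h2 := Nat.le_of_dvd one_pos h1
      have h3 := he2 i
      omega
    obtain ⟨h1, h2⟩ := claim _ x hx _ (by omega) hgood
    exact ⟨h1, fun j hj => ((V i).valuation_le_one_iff _).mp (h2 j hj)⟩

end Groth.Agent.Lib.Helper27.VInt
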