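import Groth.Agent.Lib.Helper27.VInt1

/-!
# Finite intersections of valuation rings (part 2)

`A = ⋂ V i` a finite intersection of valuation subrings of `L`, `K` a subfield, `B = A ⊓ K`:
* `frac` : every element of `K` is a quotient of elements of `B`;
* `valRing` : every localization of `B` at a prime is a valuation ring;
* `finiteMax` : `B` has finitely many maximal ideals.
-/

set_option autoImplicit false

namespace Groth.Agent.Lib.Helper27.VInt

section thmA

variable {L : Type*} [Field L] {ι : Type*} [Finite ι] [Nonempty ι] (V : ι → ValuationSubring L)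
  (A : Subring L) (hA : ∀ x, x ∈ A ↔ ∀ i, x ∈ V i) (K : Subfield L)

include hA in
theorem exists_cs (x : L) (hxK : x ∈ K) (hx : x ≠ 0) :
    ∃ s : ℕ, 2 ≤ s ∧ gs x s ≠ 0 ∧ ∀ j < s, x ^ j / gs x s ∈ A ⊓ K.toSubring := by
  obtain ⟨s, hs2, hs⟩ := exists_good V x hx
  have hg0 : gs x s ≠ 0 := by
    obtain ⟨i⟩ := ‹Nonempty ι›
    intro h0
    exact (hs i).1 (by rw [h0, map_zero])
  have hgK : gs x s ∈ K := by
    unfold gs
    exact sum_mem fun j _ => pow_mem hxK j
  exact ⟨s, hs2, hg0, fun j hj => Subring.mem_inf.mpr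
    ⟨(hA _).mpr fun i => (hs i).2 j hj, K.div_mem (pow_mem hxK j) hgK⟩⟩

include hA in
theorem frac (x : L) (hxK : x ∈ K) :
    ∃ a b : L, a ∈ A ⊓ K.toSubring ∧ b ∈ A ⊓ K.toSubring ∧ b ≠ 0 ∧ x = a / b := by
  by_cases hx : x = 0
  · exact ⟨0, 1, zero_mem _, one_mem _, one_ne_zero, by rw [hx, zero_div]⟩
  · obtain ⟨s, hs2, hg0, hc⟩ := exists_cs V A hA K x hxK hx
    refine ⟨x ^ 1 / gs x s, x ^ 0 / gs x s, hc 1 (by omega), hc 0 (by omega), ?_, ?_⟩
    · rw [pow_zero]; exact one_div_ne_zero hg0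
    · rw [pow_zero, pow_one]; field_simp

include hA in
theorem valRing (p : Ideal ↥(A ⊓ K.toSubring)) [p.IsPrime] :
    ValuationRing (Localization.AtPrime p) := by
  have key : ∀ a₁ b₁ : ↥(A ⊓ K.toSubring), ∃ c₀ : Localization.AtPrime p,
      algebraMap _ (Localization.AtPrime p) a₁ * c₀ = algebraMap _ (Localization.AtPrime p) b₁ ∨
      algebraMap _ (Localization.AtPrime p) b₁ * c₀
        = algebraMap _ (Localization.AtPrime p) a₁ := by
    intro a₁ b₁
    by_cases ha : a₁ = 0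
    · exact ⟨0, Or.inr (by rw [ha, map_zero, mul_zero])⟩
    by_cases hb : b₁ = 0
    · exact ⟨0, Or.inl (by rw [hb, map_zero, mul_zero])⟩
    have ha' : (a₁ : L) ≠ 0 := fun h => ha (Subtype.ext h)
    have hb' : (b₁ : L) ≠ 0 := fun h => hb (Subtype.ext h)
    have hxK : (a₁ : L) / b₁ ∈ K := K.div_mem (Subring.mem_inf.mp a₁.2).2 (Subring.mem_inf.mp b₁.2).2
    obtain ⟨s, hs2, hg0, hc⟩ := exists_cs V A hA K _ hxK (div_ne_zero ha' hb')
    let c : ℕ → ↥(A ⊓ K.toSubring) := fun j =>
      if h : j < s then ⟨((a₁ : L) / b₁) ^ j / gs ((a₁ : L) / b₁) s, hc j h⟩ else 0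
    have hcv : ∀ j, j < s → ((c j : ↥(A ⊓ K.toSubring)) : L)
        = ((a₁ : L) / b₁) ^ j / gs ((a₁ : L) / b₁) s := fun j h => by simp [c, h]
    have hsum : ∑ j ∈ Finset.range s, c j = 1 := by
      apply Subtype.ext
      have h1 : ((∑ j ∈ Finset.range s, c j : ↥(A ⊓ K.toSubring)) : L)
          = ∑ j ∈ Finset.range s, (c j : L) := by
        simp
      rw [h1, Finset.sum_congr rfl (fun j hj => hcv j (Finset.mem_range.mp hj)),
        ← Finset.sum_div]
      exact div_self hg0
    obtain ⟨j, hj, hjp⟩ : ∃ j, j < s ∧ c j ∉ p := by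
      by_contra hcon
      simp only [not_exists, not_and, not_not] at hcon
      have h1 : (1 : ↥(A ⊓ K.toSubring)) ∈ p := by
        rw [← hsum]
        exact Ideal.sum_mem _ fun j hj => hcon j (Finset.mem_range.mp hj)
      exact (Ideal.IsPrime.ne_top ‹_›) ((Ideal.eq_top_iff_one _).mpr h1)
    have hrel : ∀ j, j + 1 < s → c (j + 1) * b₁ = c j * a₁ := by
      intro j hj1
      apply Subtype.ext
      rw [Subring.coe_mul, Subring.coe_mul, hcv _ hj1, hcv _ (by omega)]
      have hx1 : ((a₁ : L) / b₁) * b₁ = a₁ := div_mul_cancel₀ _ hb'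
      calc ((a₁ : L) / b₁) ^ (j + 1) / gs ((a₁ : L) / b₁) s * b₁
          = ((a₁ : L) / b₁) ^ j / gs ((a₁ : L) / b₁) s * (((a₁ : L) / b₁) * b₁) := by
            rw [pow_succ]; ring
        _ = _ := by rw [hx1]
    obtain ⟨w, hw⟩ := (IsLocalization.map_units (Localization.AtPrime p)
      (⟨c j, hjp⟩ : p.primeCompl)).exists_right_inv
    by_cases hlast : j + 1 < s
    · have h1 := congrArg (algebraMap _ (Localization.AtPrime p)) (hrel j hlast)
      rw [map_mul, map_mul] at h1
      exact ⟨algebraMap _ (Localization.AtPrime p) (c (j + 1)) * w,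
        Or.inr (by linear_combination w * h1 + algebraMap _ (Localization.AtPrime p) a₁ * hw)⟩
    · have hj1 : 1 ≤ j := by omega
      have h1 := congrArg (algebraMap _ (Localization.AtPrime p)) (hrel (j - 1) (by omega))
      rw [map_mul, map_mul, Nat.sub_add_cancel hj1] at h1
      exact ⟨algebraMap _ (Localization.AtPrime p) (c (j - 1)) * w,
        Or.inl (by linear_combination (-w) * h1 + algebraMap _ (Localization.AtPrime p) b₁ * hw)⟩
  refine @ValuationRing.mk _ _ _ ⟨fun a b => ?_⟩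
  obtain ⟨a₁, t, rfl⟩ := IsLocalization.exists_mk'_eq p.primeCompl a
  obtain ⟨b₁, t', rfl⟩ := IsLocalization.exists_mk'_eq p.primeCompl b
  have e1 := IsLocalization.mk'_spec (Localization.AtPrime p) a₁ t
  have e2 := IsLocalization.mk'_spec (Localization.AtPrime p) b₁ t'
  obtain ⟨c₀, h | h⟩ := key a₁ b₁
  · obtain ⟨w', hw'⟩ := (IsLocalization.map_units (Localization.AtPrime p) t').exists_right_inv
    refine ⟨algebraMap _ (Localization.AtPrime p) (t : ↥(A ⊓ K.toSubring)) * c₀ * w', Or.inl ?_⟩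
    linear_combination (c₀ * w') * e1 + w' * h - w' * e2
      + IsLocalization.mk' (Localization.AtPrime p) b₁ t' * hw'
  · obtain ⟨w', hw'⟩ := (IsLocalization.map_units (Localization.AtPrime p) t).exists_right_inv
    refine ⟨algebraMap _ (Localization.AtPrime p) (t' : ↥(A ⊓ K.toSubring)) * c₀ * w', Or.inr ?_⟩
    linear_combination (c₀ * w') * e2 + w' * h - w' * e1
      + IsLocalization.mk' (Localization.AtPrime p) a₁ t * hw'

/-- The inclusion of `B = A ⊓ K` into `V i`. -/
def inclV (i : ι) : ↥(A ⊓ K.toSubring) →+* ↥(V i) where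
  toFun b := ⟨b.1, (hA b.1).mp (Subring.mem_inf.mp b.2).1 i⟩
  map_one' := rfl
  map_mul' _ _ := rfl
  map_zero' := rfl
  map_add' _ _ := rfl

include hA in
theorem finiteMax : Finite (MaximalSpectrum ↥(A ⊓ K.toSubring)) := by
  classical
  cases nonempty_fintype ι
  let P : ι → Ideal ↥(A ⊓ K.toSubring) := fun i =>
    Ideal.comap (inclV V A hA K i) (IsLocalRing.maximalIdeal ↥(V i))
  have hPmem : ∀ i (b : ↥(A ⊓ K.toSubring)), b ∈ P i ↔ (V i).valuation (b : L) < 1 :=
    fun i b => by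
      rw [Ideal.mem_comap]
      exact (V i).valuation_lt_one_iff _
  have hPprime : ∀ i, (P i).IsPrime := fun i => Ideal.comap_isPrime _ _
  have hPne : ∀ i, P i ≠ ⊤ := fun i => (hPprime i).ne_top
  have hcover : ∀ M : Ideal ↥(A ⊓ K.toSubring), M.IsMaximal → ∃ i, M = P i := by
    intro M hM
    have hsub : (M : Set ↥(A ⊓ K.toSubring)) ⊆
        ⋃ i ∈ ((Finset.univ : Finset ι) : Set ι), (P i : Set ↥(A ⊓ K.toSubring)) := by
      intro b hb
      by_contra hcon
      have hcon' : ∀ i, b ∉ P i := fun i hi =>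
        hcon (Set.mem_biUnion (by simp) hi)
      have hb1 : ∀ i, (V i).valuation (b : L) = 1 := fun i =>
        le_antisymm (((V i).valuation_le_one_iff _).mpr ((hA _).mp (Subring.mem_inf.mp b.2).1 i))
          (not_lt.mp (fun h => hcon' i ((hPmem i b).mpr h)))
      have hb0 : (b : L) ≠ 0 := by
        obtain ⟨i⟩ := ‹Nonempty ι›
        intro h0
        have h1 := hb1 i
        rw [h0, map_zero] at h1
        exact zero_ne_one h1
      have hinv : (b : L)⁻¹ ∈ A ⊓ K.toSubring := Subring.mem_inf.mpr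
        ⟨(hA _).mpr fun i => ((V i).valuation_le_one_iff _).mp
          (by rw [map_inv₀, hb1 i, inv_one]), K.inv_mem (Subring.mem_inf.mp b.2).2⟩
      have h1 : (1 : ↥(A ⊓ K.toSubring)) ∈ M := by
        have h2 : (1 : ↥(A ⊓ K.toSubring)) = b * ⟨(b : L)⁻¹, hinv⟩ :=
          Subtype.ext (by rw [Subring.coe_mul, Subring.coe_one]; exact (mul_inv_cancel₀ hb0).symm)
        rw [h2]
        exact M.mul_mem_right _ hb
      exact hM.ne_top ((Ideal.eq_top_iff_one _).mpr h1)
    obtain ⟨i0⟩ := ‹Nonempty ι›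
    obtain ⟨i, -, hi⟩ := (Ideal.subset_union_prime i0 i0 (fun i _ _ _ => hPprime i)).mp hsub
    exact ⟨i, hM.eq_of_le (hPne i) hi⟩
  choose Φ hΦ using hcover
  refine Finite.of_injective (fun M : MaximalSpectrum ↥(A ⊓ K.toSubring) =>
    Φ M.asIdeal M.isMaximal) ?_
  intro M M' h
  ext1
  rw [hΦ M.asIdeal M.isMaximal, hΦ M'.asIdeal M'.isMaximal]
  exact congrArg P h

end thmA

end Groth.Agent.Lib.Helper27.VInt
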