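import Groth.Agent.Lib.Helper27.VInt2

/-!
# Finite intersections of valuation rings (part 3): semilocal Prüfer domains

For a Prüfer domain `R` with fraction field `L`, the localizations at maximal ideals are valuation
subrings `VM hR m` of `L`, and `R = ⋂ VM hR m` (`mem_range_iff`).
-/

set_option autoImplicit false

namespace Groth.Agent.Lib.Helper27.VInt

section prufer

variable {R L : Type*} [CommRing R] [IsDomain R] [Field L] [Algebra R L] [IsFractionRing R L]

theorem mem_or_inv_mem_ofField (m : Ideal R) [m.IsPrime]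
    (h : ValuationRing (Localization.AtPrime m)) (x : L) :
    (∃ (a s : R) (_ : s ∈ m.primeCompl), x = algebraMap R L a * (algebraMap R L s)⁻¹) ∨
    (∃ (a s : R) (_ : s ∈ m.primeCompl), x⁻¹ = algebraMap R L a * (algebraMap R L s)⁻¹) := by
  obtain ⟨a, b, hb, rfl⟩ := IsFractionRing.div_surjective (A := R) x
  have hb0 : b ≠ 0 := nonZeroDivisors.ne_zero hb
  have hφ : Function.Injective (algebraMap R L) := IsFractionRing.injective R L
  have hψ : Function.Injective (algebraMap R (Localization.AtPrime m)) :=
    IsLocalization.injective _ m.primeCompl_le_nonZeroDivisors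
  obtain ⟨c, hc⟩ := ValuationRing.cond (algebraMap R (Localization.AtPrime m) a)
    (algebraMap R (Localization.AtPrime m) b)
  obtain ⟨c₁, t, rfl⟩ := IsLocalization.exists_mk'_eq m.primeCompl c
  have ht0 : (t : R) ≠ 0 := fun h0 => t.2 (by rw [h0]; exact m.zero_mem)
  have hspec := IsLocalization.mk'_spec (Localization.AtPrime m) c₁ t
  have hφb : algebraMap R L b ≠ 0 := (map_ne_zero_iff _ hφ).mpr hb0
  have hφt : algebraMap R L (t : R) ≠ 0 := (map_ne_zero_iff _ hφ).mpr ht0
  rcases hc with hc | hc
  · have e : a * c₁ = b * t := hψ (by rw [map_mul, map_mul, ← hspec, ← hc]; ring)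
    right
    have ha0 : a ≠ 0 := by
      rintro rfl
      rw [zero_mul] at e
      exact (mul_ne_zero hb0 ht0) e.symm
    have hφa : algebraMap R L a ≠ 0 := (map_ne_zero_iff _ hφ).mpr ha0
    have e' := congrArg (algebraMap R L) e
    rw [map_mul, map_mul] at e'
    refine ⟨c₁, t, t.2, ?_⟩
    rw [inv_div, ← div_eq_mul_inv, div_eq_div_iff hφa hφt, ← e', mul_comm]
  · have e : b * c₁ = a * t := hψ (by rw [map_mul, map_mul, ← hspec, ← hc]; ring)
    left
    have e' := congrArg (algebraMap R L) e
    rw [map_mul, map_mul] at e'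
    refine ⟨c₁, t, t.2, ?_⟩
    rw [← div_eq_mul_inv, div_eq_div_iff hφb hφt, ← e', mul_comm]

/-- The localization of `R` at a prime `m`, as a valuation subring of the fraction field. -/
noncomputable def Vm (m : Ideal R) [m.IsPrime] (h : ValuationRing (Localization.AtPrime m)) :
    ValuationSubring L :=
  { (Localization.subalgebra.ofField L m.primeCompl m.primeCompl_le_nonZeroDivisors).toSubring with
    mem_or_inv_mem' := mem_or_inv_mem_ofField m h }

theorem mem_Vm_iff (m : Ideal R) [m.IsPrime] (h : ValuationRing (Localization.AtPrime m))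
    (x : L) : x ∈ Vm (L := L) m h ↔
      ∃ (a s : R) (_ : s ∈ m.primeCompl), x = algebraMap R L a * (algebraMap R L s)⁻¹ :=
  Iff.rfl

/-- The valuation subrings attached to the maximal ideals of a Prüfer domain. -/
noncomputable def VM (hR : ∀ (p : Ideal R) [p.IsPrime], ValuationRing (Localization.AtPrime p))
    (m : MaximalSpectrum R) : ValuationSubring L :=
  @Vm R L _ _ _ _ _ m.asIdeal m.isMaximal.isPrime (@hR m.asIdeal m.isMaximal.isPrime)

theorem mem_range_iff (hR : ∀ (p : Ideal R) [p.IsPrime], ValuationRing (Localization.AtPrime p))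
    (x : L) : x ∈ (algebraMap R L).range ↔ ∀ m : MaximalSpectrum R, x ∈ VM (L := L) hR m := by
  have hφ : Function.Injective (algebraMap R L) := IsFractionRing.injective R L
  constructor
  · rintro ⟨r, rfl⟩ m
    exact ⟨r, 1, m.asIdeal.primeCompl.one_mem, by simp⟩
  · intro h
    let I : Ideal R :=
      { carrier := {r | ∃ a, algebraMap R L a = algebraMap R L r * x}
        add_mem' := by
          rintro r r' ⟨a, ha⟩ ⟨a', ha'⟩
          exact ⟨a + a', by rw [map_add, map_add, ha, ha', add_mul]⟩
        zero_mem' := ⟨0, by simp⟩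
        smul_mem' := by
          rintro c r ⟨a, ha⟩
          exact ⟨c * a, by rw [smul_eq_mul, map_mul, map_mul, ha, mul_assoc]⟩ }
    by_cases hI : I = ⊤
    · have h1 : (1 : R) ∈ I := by rw [hI]; trivial
      obtain ⟨a, ha⟩ := h1
      exact ⟨a, by rw [ha, map_one, one_mul]⟩
    · obtain ⟨m, hm, hIm⟩ := Ideal.exists_le_maximal I hI
      obtain ⟨a, s, hs, hx⟩ := h ⟨m, hm⟩
      have hs0 : algebraMap R L s ≠ 0 := by
        refine (map_ne_zero_iff _ hφ).mpr ?_
        rintro rfl
        exact hs m.zero_mem
      have h1 : s ∈ I := ⟨a, by rw [hx]; field_simp⟩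
      exact absurd (hIm h1) hs

end prufer

end Groth.Agent.Lib.Helper27.VInt
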