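import Mathlib
import Groth.Agent.Lib.Helper27.ValFP

set_option autoImplicit false
universe u

namespace Groth.Agent.Lib.Helper27.ValEtA

/-- Over a valuation domain, a flat algebra of finite type is of finite presentation. -/
theorem finitePresentation_of_finiteType_of_flat (V W : Type u) [CommRing V] [IsDomain V]
    [ValuationRing V] [CommRing W] [Algebra V W] [Algebra.FiniteType V W] [Module.Flat V W] :
    Algebra.FinitePresentation V W := by
  obtain ⟨n, φ, hφ⟩ := Algebra.FiniteType.iff_quotient_mvPolynomial''.mp
    (inferInstance : Algebra.FiniteType V W)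
  letI algB : Algebra (MvPolynomial (Fin n) V) W := φ.toRingHom.toAlgebra
  haveI tw : IsScalarTower V (MvPolynomial (Fin n) V) W :=
    IsScalarTower.of_algebraMap_eq (fun a => (φ.commutes a).symm)
  haveI fin : Module.Finite (MvPolynomial (Fin n) V) W :=
    Module.Finite.of_surjective (Algebra.linearMap (MvPolynomial (Fin n) V) W) hφ
  haveI fpm : Module.FinitePresentation (MvPolynomial (Fin n) V) W :=
    Groth.Agent.Lib.Helper27.ValFP.finitePresentation_of_flat V (MvPolynomial (Fin n) V) W
  have hker : (LinearMap.ker (Algebra.linearMap (MvPolynomial (Fin n) V) W)).FG :=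
    Module.FinitePresentation.fg_ker (Algebra.linearMap (MvPolynomial (Fin n) V) W) hφ
  have heq : RingHom.ker φ.toRingHom =
      LinearMap.ker (Algebra.linearMap (MvPolynomial (Fin n) V) W) := by
    ext x
    rw [RingHom.mem_ker, LinearMap.mem_ker, Algebra.linearMap_apply]
    exact Iff.rfl
  have hker' : (RingHom.ker φ.toRingHom).FG := by
    rw [heq]; exact hker
  exact Algebra.FinitePresentation.iff_quotient_mvPolynomial'.mpr ⟨Fin n, inferInstance, φ, hφ, hker'⟩

end Groth.Agent.Lib.Helper27.ValEtA
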