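import Mathlib
import Groth.Agent.Lib.Helper27.ValFP
import Groth.Agent.Lib.Helper27.LocEt
import Groth.Agent.Lib.Helper27.ValEtA
import Groth.Agent.Lib.Helper17.ValIncomp
import Groth.Agent.Lib.Helper20.UnramAwayQuot
import Groth.Agent.Lib.Helper26.ValFT

/-!
# Etale extensions of valuation rings of finite height composed from two etale pieces (helper27)

Sub-lemmas by helper17 (incomparability), helper20 (differentials), helper26 (finite generation).
-/

set_option autoImplicit false
set_option linter.style.haveILetI false
universe u

namespace Groth.Agent.Lib.Helper27.ValEtB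

open Groth.Agent.Lib.Helper27.ValEtA Groth.Agent.Lib.Helper17.ValIncomp
  Groth.Agent.Lib.Helper20.UnramAwayQuot Groth.Agent.Lib.Helper26.ValFT

/-- abstract main theorem -/
theorem main {V W : Type u} [CommRing V] [IsDomain V] [ValuationRing V]
    [CommRing W] [IsDomain W] [ValuationRing W] [Algebra V W]
    (hinj : Function.Injective (algebraMap V W)) [Algebra.IsAlgebraic V W]
    [Finite (PrimeSpectrum V)] [Finite (PrimeSpectrum W)]
    (P : Ideal W) [P.IsPrime]
    (hA : (Localization.localRingHom (Ideal.comap (algebraMap V W) P) P (algebraMap V W) rfl).Etale)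
    (hB : (Ideal.quotientMap P (algebraMap V W) (le_refl (Ideal.comap (algebraMap V W) P))).Etale) :
    Algebra.Etale V W := by
  classical
  set p : Ideal V := Ideal.comap (algebraMap V W) P with hp
  -- the element s
  obtain ⟨s, hsp, hs⟩ := Groth.Agent.Lib.Helper27.LocEt.exists_basicOpen p
  have hsP : algebraMap V W s ∉ P := hsp
  haveI locV : IsLocalization.Away s (Localization.AtPrime p) :=
    Groth.Agent.Lib.Helper27.LocEt.isLocalization_away_of_atPrime p s hsp hs
  haveI locW : IsLocalization.Away (algebraMap V W s) (Localization.AtPrime P) := by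
    refine Groth.Agent.Lib.Helper27.LocEt.isLocalization_away_of_atPrime P _ hsP ?_
    intro Q hQ hsQ
    refine le_of_comap_le hinj P Q ?_
    exact hs (Q.comap (algebraMap V W)) hsQ
  -- algebra structures
  letI algpP : Algebra (Localization.AtPrime p) (Localization.AtPrime P) :=
    (Localization.localRingHom p P (algebraMap V W) rfl).toAlgebra
  haveI tw : IsScalarTower V (Localization.AtPrime p) (Localization.AtPrime P) := by
    refine IsScalarTower.of_algebraMap_eq (fun a => ?_)
    show algebraMap V (Localization.AtPrime P) a =
      Localization.localRingHom p P (algebraMap V W) rfl (algebraMap V (Localization.AtPrime p) a)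
    rw [Localization.localRingHom_to_map]
    exact IsScalarTower.algebraMap_apply V W (Localization.AtPrime P) a
  haveI etpP : Algebra.Etale (Localization.AtPrime p) (Localization.AtPrime P) :=
    RingHom.etale_algebraMap.mp hA
  haveI etVp : Algebra.Etale V (Localization.AtPrime p) := Algebra.Etale.of_isLocalizationAway s
  haveI etVP : Algebra.Etale V (Localization.AtPrime P) :=
    Algebra.Etale.comp V (Localization.AtPrime p) (Localization.AtPrime P)
  -- P W_P = p W_P
  haveI : IsLocalHom (algebraMap (Localization.AtPrime p) (Localization.AtPrime P)) :=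
    Localization.isLocalHom_localRingHom p P (algebraMap V W) rfl
  have hPmap : P.map (algebraMap W (Localization.AtPrime P)) =
      p.map (algebraMap V (Localization.AtPrime P)) := by
    rw [Localization.AtPrime.map_eq_maximalIdeal,
      IsScalarTower.algebraMap_eq V (Localization.AtPrime p) (Localization.AtPrime P),
      ← Ideal.map_map, Localization.AtPrime.map_eq_maximalIdeal]
    exact (Algebra.FormallyUnramified.map_maximalIdeal
      (R := Localization.AtPrime p) (S := Localization.AtPrime P)).symm
  -- the quotient
  letI algq : Algebra (V ⧸ p) (W ⧸ P) :=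
    (Ideal.quotientMap P (algebraMap V W) (le_refl p)).toAlgebra
  haveI twq : IsScalarTower V (V ⧸ p) (W ⧸ P) :=
    IsScalarTower.of_algebraMap_eq (fun a => rfl)
  haveI etq : Algebra.Etale (V ⧸ p) (W ⧸ P) := RingHom.etale_algebraMap.mp hB
  haveI : Algebra.FiniteType V (V ⧸ p) :=
    Algebra.FiniteType.of_surjective (Algebra.ofId V (V ⧸ p)) Ideal.Quotient.mk_surjective
  haveI ftq : Algebra.FiniteType V (W ⧸ P) :=
    Algebra.FiniteType.trans (R := V) (S := V ⧸ p) (A := W ⧸ P) inferInstance inferInstance
  haveI : Algebra.FormallyUnramified V (V ⧸ p) :=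
    Algebra.FormallyUnramified.of_surjective (Algebra.ofId V (V ⧸ p)) Ideal.Quotient.mk_surjective
  haveI unq : Algebra.FormallyUnramified V (W ⧸ P) :=
    Algebra.FormallyUnramified.comp V (V ⧸ p) (W ⧸ P)
  -- P = s P
  have hPs : ∀ x ∈ P, ∃ y ∈ P, x = algebraMap V W s * y := by
    intro x hx
    rcases ValuationRing.dvd_total (algebraMap V W s) x with ⟨y, hy⟩ | ⟨y, hy⟩
    · refine ⟨y, ?_, hy⟩
      rw [hy] at hx
      exact (Ideal.IsPrime.mem_or_mem inferInstance hx).resolve_left hsP
    · exact absurd (hy ▸ P.mul_mem_right y hx) hsP
  -- flatness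
  haveI flat : Module.Flat V W := by
    refine Groth.Agent.Lib.Helper27.ValFP.flat_of_torsionFree V W (fun c hc x hx => ?_)
    rw [Algebra.smul_def] at hx
    rcases mul_eq_zero.mp hx with h | h
    · exact absurd (hinj (h.trans (map_zero _).symm)) hc
    · exact h
  haveI ft : Algebra.FiniteType V W :=
    finiteType_of_away_of_quotient hinj P s hsP (Localization.AtPrime P) hPmap
  haveI fp : Algebra.FinitePresentation V W := finitePresentation_of_finiteType_of_flat V W
  haveI unr : Algebra.FormallyUnramified V W :=
    formallyUnramified_of_away_of_quotient P s (Localization.AtPrime P) hPs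
  exact Algebra.Etale.of_formallyUnramified_of_flat


theorem final
    {K L Γ₀ Γ₁ : Type u} [Field K] [Field L] [Algebra K L] [FiniteDimensional K L]
    [LinearOrderedCommGroupWithZero Γ₀] [LinearOrderedCommGroupWithZero Γ₁]
    (vK : Valuation K Γ₀) (vL : Valuation L Γ₁) [vK.HasExtension vL]
    [Finite (PrimeSpectrum vK.valuationSubring)] [Finite (PrimeSpectrum vL.valuationSubring)]
    (P : Ideal vL.valuationSubring) [P.IsPrime]
    (hA : (Localization.localRingHom (Ideal.comap (algebraMap vK.valuationSubring vL.valuationSubring) P) P
      (algebraMap vK.valuationSubring vL.valuationSubring) rfl).Etale)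
    (hB : (Ideal.quotientMap P (algebraMap vK.valuationSubring vL.valuationSubring)
      (le_refl (Ideal.comap (algebraMap vK.valuationSubring vL.valuationSubring) P))).Etale) :
    Algebra.Etale vK.valuationSubring vL.valuationSubring := by
  have hinj : Function.Injective (algebraMap vK.valuationSubring vL.valuationSubring) := by
    intro a b hab
    have h1 : ((algebraMap vK.valuationSubring vL.valuationSubring a : vL.valuationSubring) : L) =
        ((algebraMap vK.valuationSubring vL.valuationSubring b : vL.valuationSubring) : L) := by
      rw [hab]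
    rw [Valuation.HasExtension.coe_algebraMap_valuationSubring_eq,
      Valuation.HasExtension.coe_algebraMap_valuationSubring_eq] at h1
    exact Subtype.ext ((algebraMap K L).injective h1)
  haveI halg : Algebra.IsAlgebraic vK.valuationSubring vL.valuationSubring := by
    refine ⟨fun y => ?_⟩
    have h1 : IsAlgebraic K (y : L) := Algebra.IsAlgebraic.isAlgebraic _
    have h2 : IsAlgebraic vK.valuationSubring (y : L) :=
      (IsFractionRing.isAlgebraic_iff vK.valuationSubring K L).mpr h1
    have h3 : IsAlgebraic vK.valuationSubring (algebraMap vL.valuationSubring L y) := h2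
    exact (isAlgebraic_algebraMap_iff (R := vK.valuationSubring) (S := vL.valuationSubring) (A := L)
      Subtype.val_injective).mp h3
  exact main hinj P hA hB

end Groth.Agent.Lib.Helper27.ValEtB
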