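import Mathlib
import Groth.Agent.Lib.Helper27.ValFP
import Groth.Agent.Lib.Helper27.AdicFin

/-!
Projective dimension over a local ring `A`, essentially of finite type and flat over a valuation
domain `V`: reduction to the fibre `A/pA`.
-/

set_option autoImplicit false
universe u

namespace Groth.Agent.Lib.Helper27.ValPd

open Groth.Agent.Lib.Helper27 IsLocalRing TensorProduct CategoryTheory

section basic
variable {A : Type*} [CommRing A] (I : Ideal A) {K : Type*} [AddCommGroup K] [Module A K]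

lemma one_tmul_eq_zero_iff (k : K) : (1 : A ⧸ I) ⊗ₜ[A] k = 0 ↔ k ∈ I • (⊤ : Submodule A K) := by
  rw [← (TensorProduct.quotTensorEquivQuotSMul K I).map_eq_zero_iff,
    TensorProduct.quotTensorEquivQuotSMul_mk_one_tmul, Submodule.Quotient.mk_eq_zero]

lemma exists_one_tmul (x : (A ⧸ I) ⊗[A] K) : ∃ k : K, (1 : A ⧸ I) ⊗ₜ[A] k = x := by
  induction x using TensorProduct.induction_on with
  | zero => exact ⟨0, tmul_zero _ _⟩
  | tmul a k =>
    obtain ⟨a, rfl⟩ := Ideal.Quotient.mk_surjective a
    refine ⟨a • k, ?_⟩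
    rw [← TensorProduct.smul_tmul, ← Algebra.algebraMap_eq_smul_one]
    rfl
  | add x y hx hy =>
    obtain ⟨k, rfl⟩ := hx
    obtain ⟨k', rfl⟩ := hy
    exact ⟨k + k', tmul_add _ _ _⟩

end basic

variable (V : Type u) [CommRing V] [IsDomain V] [ValuationRing V]
  (A : Type u) [CommRing A] [Algebra V A]

section div
variable {K : Type*} [AddCommGroup K] [Module A K] [Module V K] [IsScalarTower V A K]

/-- elements of `pA·K` are of the form `c • y` with `c ∈ p`. -/
lemma exists_smul_of_mem_smul (p : Ideal V) (x : K)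
    (hx : x ∈ (p.map (algebraMap V A)) • (⊤ : Submodule A K)) : ∃ c ∈ p, ∃ y : K, x = c • y := by
  refine Submodule.smul_induction_on hx ?_ ?_
  · intro a ha k _
    obtain ⟨c, hc, b, hb⟩ := AdicFin.exists_smul_of_mem_map p _ ha
    exact ⟨c, hc, b • k, by rw [hb, smul_assoc]⟩
  · rintro x y ⟨c, hc, x', rfl⟩ ⟨d, hd, y', rfl⟩
    rcases ValuationRing.dvd_total c d with ⟨e, rfl⟩ | ⟨e, rfl⟩
    · exact ⟨c, hc, x' + e • y', by rw [smul_add, mul_smul]⟩
    · exact ⟨d, hd, e • x' + y', by rw [smul_add, mul_smul]⟩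

variable {F : Type*} [AddCommGroup F] [Module A F] [Module V F] [IsScalarTower V A F]

/-- if the target is `V`-flat, then `ker f ∩ pA·F = pA·ker f`. -/
lemma mem_smul_ker_of_mem_smul_top [Module.Flat V K] (p : Ideal V) (f : F →ₗ[A] K)
    (l : F) (hl : l ∈ LinearMap.ker f)
    (hl' : l ∈ (p.map (algebraMap V A)) • (⊤ : Submodule A F)) :
    l ∈ (p.map (algebraMap V A)) • LinearMap.ker f := by
  obtain ⟨c, hc, y, rfl⟩ := exists_smul_of_mem_smul V A p l hl'
  by_cases hc0 : c = 0
  · rw [hc0, zero_smul]; exact Submodule.zero_mem _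
  · have hy : y ∈ LinearMap.ker f := by
      rw [LinearMap.mem_ker] at hl ⊢
      have h1 : c • f y = 0 := by rw [← hl]; exact (LinearMap.map_smul_of_tower f c y).symm
      exact ValFP.eq_zero_of_smul_eq_zero V K c hc0 _ h1
    rw [← algebraMap_smul A c y]
    exact Submodule.smul_mem_smul (Ideal.mem_map_of_mem _ hc) hy

end div

section free
variable [IsLocalRing A]

/-- a finitely presented `V`-flat `A`-module whose reduction mod `pA` is free is free. -/
theorem free_of_free_fibre (p : Ideal V) (hp : p.map (algebraMap V A) ≤ maximalIdeal A)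
    (K : Type u) [AddCommGroup K] [Module A K] [Module V K] [IsScalarTower V A K] [Module.Flat V K]
    [Module.FinitePresentation A K]
    [Module.Free (A ⧸ p.map (algebraMap V A)) ((A ⧸ p.map (algebraMap V A)) ⊗[A] K)] :
    Module.Free A K := by
  classical
  set 𝔞 := p.map (algebraMap V A) with h𝔞
  have h𝔞jac : 𝔞 ≤ (⊥ : Ideal A).jacobson := by
    rw [IsLocalRing.jacobson_eq_maximalIdeal ⊥ bot_ne_top]; exact hp
  let ι := Module.Free.ChooseBasisIndex (A ⧸ 𝔞) ((A ⧸ 𝔞) ⊗[A] K)
  let w : Module.Basis ι (A ⧸ 𝔞) ((A ⧸ 𝔞) ⊗[A] K) := Module.Free.chooseBasis _ _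
  choose b hb using fun i => exists_one_tmul 𝔞 (w i)
  set f : (ι → A) →ₗ[A] K := Fintype.linearCombination A b with hf
  have hone : ∀ l : ι → A, (1 : A ⧸ 𝔞) ⊗ₜ[A] (f l) =
      ∑ i, (Ideal.Quotient.mk 𝔞 (l i)) • w i := by
    intro l
    rw [hf, Fintype.linearCombination_apply, tmul_sum]
    apply Finset.sum_congr rfl
    intro i _
    rw [← hb i, TensorProduct.smul_tmul', ← TensorProduct.smul_tmul]
    congr 1
  have hsurj : Function.Surjective f := by
    rw [← LinearMap.range_eq_top, eq_top_iff]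
    apply Submodule.le_of_le_smul_of_le_jacobson_bot Module.Finite.fg_top h𝔞jac
    intro k _
    -- write `1 ⊗ k` in the basis and lift the coefficients
    choose c hc using fun i => Ideal.Quotient.mk_surjective (w.repr ((1 : A ⧸ 𝔞) ⊗ₜ[A] k) i)
    have h1 : (1 : A ⧸ 𝔞) ⊗ₜ[A] (f c) = (1 : A ⧸ 𝔞) ⊗ₜ[A] k := by
      rw [hone]
      simp_rw [hc]
      exact w.sum_repr _
    have h2 : k - f c ∈ 𝔞 • (⊤ : Submodule A K) := by
      rw [← one_tmul_eq_zero_iff, tmul_sub, h1, sub_self]
    have : k = f c + (k - f c) := by abel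
    rw [this]
    exact Submodule.add_mem _ (Submodule.mem_sup_left (LinearMap.mem_range_self f c))
      (Submodule.mem_sup_right h2)
  have hLfg : (LinearMap.ker f).FG := Module.FinitePresentation.fg_ker f hsurj
  have hle : LinearMap.ker f ≤ 𝔞 • LinearMap.ker f := by
    intro l hl
    apply mem_smul_ker_of_mem_smul_top V A p f l hl
    have h1 : ∑ i, (Ideal.Quotient.mk 𝔞 (l i)) • w i = 0 := by
      rw [← hone, LinearMap.mem_ker.mp hl, tmul_zero]
    have h2 : ∀ i, l i ∈ 𝔞 := by
      intro i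
      have := Fintype.linearIndependent_iff.mp w.linearIndependent _ h1 i
      exact Ideal.Quotient.eq_zero_iff_mem.mp this
    have h3 : l = ∑ i, l i • (Pi.single i (1 : A) : ι → A) := by
      funext j
      simp [Pi.single_apply]
    rw [h3]
    exact Submodule.sum_mem _ (fun i _ => Submodule.smul_mem_smul (h2 i) Submodule.mem_top)
  have hker : LinearMap.ker f = ⊥ :=
    Submodule.eq_bot_of_le_smul_of_le_jacobson_bot 𝔞 _ hLfg hle h𝔞jac
  have hinj : Function.Injective f := LinearMap.ker_eq_bot.mp hker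
  exact Module.Free.of_equiv (LinearEquiv.ofBijective f ⟨hinj, hsurj⟩)

end free

end Groth.Agent.Lib.Helper27.ValPd
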