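import Mathlib
import Groth.Agent.Lib.Helper27.ValPd

/-!
Projective dimension over a local ring `A`, essentially of finite type and flat over a valuation
domain `V`: the projective dimension of a finitely presented `V`-flat module is bounded by that of
its reduction modulo `pA`.
-/

set_option autoImplicit false
universe u

namespace Groth.Agent.Lib.Helper27.ValPd

open Groth.Agent.Lib.Helper27 IsLocalRing TensorProduct CategoryTheory

variable (V : Type u) [CommRing V] [IsDomain V] [ValuationRing V]
  (A : Type u) [CommRing A] [Algebra V A]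

section syz
variable [Algebra.EssFiniteType V A] [Module.Flat V A]

/-- finite free `A`-modules are `V`-flat. -/
instance flat_pi (r : ℕ) : Module.Flat V (Fin r → A) := by
  apply ValFP.flat_of_torsionFree
  intro c hc x hx
  funext i
  have := congrFun hx i
  rw [Pi.smul_apply] at this
  exact ValFP.eq_zero_of_smul_eq_zero V A c hc _ this

variable {A} in
/-- submodules of `V`-flat `A`-modules are `V`-flat. -/
theorem flat_submodule {F : Type*} [AddCommGroup F] [Module A F] [Module V F] [IsScalarTower V A F]
    [Module.Flat V F] (L : Submodule A F) : Module.Flat V ↥L :=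
  ValFP.flat_of_injective V ↥L F (L.subtype.restrictScalars V) L.injective_subtype

end syz

section main
variable [IsLocalRing A] [Algebra.EssFiniteType V A] [Module.Flat V A]

/-- reduction of exact sequences modulo `pA`: injectivity on the left. -/
lemma baseChange_subtype_injective (p : Ideal V) {F K : Type u} [AddCommGroup F] [Module A F]
    [Module V F] [IsScalarTower V A F] [AddCommGroup K] [Module A K] [Module V K]
    [IsScalarTower V A K] [Module.Flat V K] (f : F →ₗ[A] K) :
    Function.Injective ((LinearMap.ker f).subtype.baseChange (A ⧸ p.map (algebraMap V A))) := by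
  rw [injective_iff_map_eq_zero]
  intro x hx
  obtain ⟨l, rfl⟩ := exists_one_tmul _ x
  rw [LinearMap.baseChange_tmul, one_tmul_eq_zero_iff] at hx
  have h1 := mem_smul_ker_of_mem_smul_top V A p f l.1 l.2 hx
  rw [one_tmul_eq_zero_iff]
  have h2 : (p.map (algebraMap V A)) • LinearMap.ker f =
      ((p.map (algebraMap V A)) • (⊤ : Submodule A ↥(LinearMap.ker f))).map
        (LinearMap.ker f).subtype := by
    rw [Submodule.map_smul'', Submodule.map_subtype_top]
  rw [h2] at h1
  obtain ⟨l', hl', hl'l⟩ := h1
  have : l' = l := Subtype.ext hl'l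
  rwa [← this]

theorem hasProjectiveDimensionLT_of_fibre (p : Ideal V)
    (hp : p.map (algebraMap V A) ≤ maximalIdeal A) (j : ℕ) :
    ∀ (K : Type u) [AddCommGroup K] [Module A K] [Module V K] [IsScalarTower V A K]
      [Module.Flat V K] [Module.FinitePresentation A K],
      HasProjectiveDimensionLT (ModuleCat.of (A ⧸ p.map (algebraMap V A))
        ((A ⧸ p.map (algebraMap V A)) ⊗[A] K)) (j + 1) →
      HasProjectiveDimensionLT (ModuleCat.of A K) (j + 1) := by
  have hne : p.map (algebraMap V A) ≠ ⊤ := fun h =>
    (IsLocalRing.maximalIdeal.isMaximal A).ne_top (top_le_iff.mp (h ▸ hp))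
  haveI : Nontrivial (A ⧸ p.map (algebraMap V A)) := Ideal.Quotient.nontrivial_iff.mpr hne
  haveI : IsLocalRing (A ⧸ p.map (algebraMap V A)) :=
    IsLocalRing.of_surjective' (Ideal.Quotient.mk _) Ideal.Quotient.mk_surjective
  induction j with
  | zero =>
    intro K _ _ _ _ _ _ h
    haveI : Projective (ModuleCat.of (A ⧸ p.map (algebraMap V A))
        ((A ⧸ p.map (algebraMap V A)) ⊗[A] K)) :=
      projective_iff_hasProjectiveDimensionLT_one.mpr h
    haveI : Module.Projective (A ⧸ p.map (algebraMap V A))
        ((A ⧸ p.map (algebraMap V A)) ⊗[A] K) :=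
      (IsProjective.iff_projective _).mpr this
    haveI : Module.Free (A ⧸ p.map (algebraMap V A)) ((A ⧸ p.map (algebraMap V A)) ⊗[A] K) :=
      Module.free_of_flat_of_isLocalRing
    haveI : Module.Free A K := free_of_free_fibre V A p hp K
    haveI : Projective (ModuleCat.of A K) := (IsProjective.iff_projective _).mp inferInstance
    exact projective_iff_hasProjectiveDimensionLT_one.mp inferInstance
  | succ j ih =>
    intro K _ _ _ _ _ _ h
    obtain ⟨r, b, hb⟩ := Module.Finite.exists_fin (R := A) (M := K)
    set f : (Fin r → A) →ₗ[A] K := Fintype.linearCombination A b with hf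
    have hsurj : Function.Surjective f := by
      rw [← LinearMap.range_eq_top, hf, Fintype.range_linearCombination, hb]
    haveI : Module.Flat V ↥(LinearMap.ker f) := flat_submodule V (LinearMap.ker f)
    haveI : Module.Finite A ↥(LinearMap.ker f) :=
      Module.Finite.iff_fg.mpr (Module.FinitePresentation.fg_ker f hsurj)
    haveI : Module.FinitePresentation A ↥(LinearMap.ker f) :=
      ValFP.finitePresentation_of_flat V A ↥(LinearMap.ker f)
    -- the reduced sequence
    set Ā := A ⧸ p.map (algebraMap V A) with hĀ
    have hex : Function.Exact ((LinearMap.ker f).subtype.baseChange Ā) (f.baseChange Ā) := by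
      have := lTensor_exact Ā (LinearMap.exact_subtype_ker_map f) hsurj
      exact this
    have hinj := baseChange_subtype_injective V A p f
    have hsurj' : Function.Surjective (f.baseChange Ā) :=
      LinearMap.lTensor_surjective Ā hsurj
    let S : ShortComplex (ModuleCat.{u} Ā) :=
      ModuleCat.shortComplexOfCompEqZero ((LinearMap.ker f).subtype.baseChange Ā)
        (f.baseChange Ā) hex.linearMap_comp_eq_zero
    have hS : S.ShortExact := ModuleCat.shortComplex_shortExact S hex hinj hsurj'
    have h3 : HasProjectiveDimensionLT S.X₃ (j + 1 + 1) := h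
    haveI : Module.Free Ā (Ā ⊗[A] (Fin r → A)) := inferInstance
    have h2' : HasProjectiveDimensionLT S.X₂ 1 := by
      haveI : Projective S.X₂ :=
        (IsProjective.iff_projective (Ā ⊗[A] (Fin r → A))).mp inferInstance
      infer_instance
    have h2 : HasProjectiveDimensionLT S.X₂ (j + 1) :=
      hasProjectiveDimensionLT_of_ge _ 1 (j + 1) (by omega)
    have h1 : HasProjectiveDimensionLT S.X₁ (j + 1) := hS.hasProjectiveDimensionLT_X₁ (j + 1) h2 h3
    have h1A : HasProjectiveDimensionLT (ModuleCat.of A ↥(LinearMap.ker f)) (j + 1) :=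
      ih ↥(LinearMap.ker f) h1
    have hT := f.shortExact_shortComplexKer hsurj
    have hF : HasProjectiveDimensionLT f.shortComplexKer.X₂ (j + 1 + 1) := by
      haveI : Projective f.shortComplexKer.X₂ :=
        (IsProjective.iff_projective (Fin r → A)).mp inferInstance
      exact hasProjectiveDimensionLT_of_ge _ 1 (j + 1 + 1) (by omega)
    exact hT.hasProjectiveDimensionLT_X₃ (j + 1) h1A hF

end main

end Groth.Agent.Lib.Helper27.ValPd
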