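import Mathlib
import Groth.Agent.Lib.Helper27.ValPd2

/-!
Duals of finite modules over a local ring `A`, essentially of finite type and flat over a valuation
domain `V`: finiteness and projective dimension.
-/

set_option autoImplicit false
universe u

namespace Groth.Agent.Lib.Helper27.ValPd

open Groth.Agent.Lib.Helper27 IsLocalRing TensorProduct CategoryTheory Module

variable (V : Type u) [CommRing V] [IsDomain V] [ValuationRing V]
  (A : Type u) [CommRing A] [Algebra V A]

section dual
variable [Module.Flat V A]

/-- duals are `V`-torsion-free, hence `V`-flat. -/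
instance flat_dual (X : Type*) [AddCommGroup X] [Module A X] : Module.Flat V (Dual A X) := by
  apply ValFP.flat_of_torsionFree
  intro c hc φ hφ
  ext x
  have := LinearMap.congr_fun hφ x
  rw [LinearMap.smul_apply, LinearMap.zero_apply] at this
  rw [LinearMap.zero_apply]
  exact ValFP.eq_zero_of_smul_eq_zero V A c hc _ this

end dual

section main
variable [Algebra.EssFiniteType V A] [Module.Flat V A]

include V in
/-- the dual of a finite module is finite. -/
theorem dual_finite (X : Type u) [AddCommGroup X] [Module A X] [Module.Finite A X] :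
    Module.Finite A (Dual A X) := by
  obtain ⟨r, b, hb⟩ := Module.Finite.exists_fin (R := A) (M := X)
  set g : (Fin r → A) →ₗ[A] X := Fintype.linearCombination A b with hg
  have hsurj : Function.Surjective g := by
    rw [← LinearMap.range_eq_top, hg, Fintype.range_linearCombination, hb]
  set ρ : Dual A (Fin r → A) →ₗ[A] Dual A ↥(LinearMap.ker g) :=
    (LinearMap.ker g).dualRestrict with hρ
  haveI : Module.Flat V ↥(LinearMap.range ρ) := flat_submodule V (LinearMap.range ρ)
  haveI : Module.FinitePresentation A ↥(LinearMap.range ρ) :=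
    ValFP.finitePresentation_of_flat V A ↥(LinearMap.range ρ)
  have h1 : (LinearMap.ker ρ.rangeRestrict).FG :=
    Module.FinitePresentation.fg_ker (R := A) (M := Dual A (Fin r → A))
      (N := ↥(LinearMap.range ρ)) ρ.rangeRestrict ρ.surjective_rangeRestrict
  rw [LinearMap.ker_rangeRestrict, hρ, Submodule.dualRestrict_ker_eq_dualAnnihilator,
    ← LinearMap.range_dualMap_eq_dualAnnihilator_ker_of_surjective g hsurj] at h1
  haveI : Module.Finite A ↥(LinearMap.range g.dualMap) := Module.Finite.iff_fg.mpr h1
  exact Module.Finite.equiv
    (LinearEquiv.ofInjective g.dualMap (LinearMap.dualMap_injective_of_surjective hsurj)).symm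

variable [IsLocalRing A]

/-- projective dimension of duals of finite modules. -/
theorem hasProjectiveDimensionLT_dual (p : Ideal V)
    (hp : p.map (algebraMap V A) ≤ maximalIdeal A) (n : ℕ)
    (hgl : ∀ (Y : Type u) [AddCommGroup Y] [Module (A ⧸ p.map (algebraMap V A)) Y],
      HasProjectiveDimensionLT (ModuleCat.of (A ⧸ p.map (algebraMap V A)) Y) (n + 1))
    (X : Type u) [AddCommGroup X] [Module A X] [Module.Finite A X] :
    HasProjectiveDimensionLT (ModuleCat.of A (Dual A X)) (n - 1 + 1) := by
  obtain ⟨r, b, hb⟩ := Module.Finite.exists_fin (R := A) (M := X)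
  set g : (Fin r → A) →ₗ[A] X := Fintype.linearCombination A b with hg
  have hsurj : Function.Surjective g := by
    rw [← LinearMap.range_eq_top, hg, Fintype.range_linearCombination, hb]
  set ρ : Dual A (Fin r → A) →ₗ[A] Dual A ↥(LinearMap.ker g) :=
    (LinearMap.ker g).dualRestrict with hρ
  haveI : Module.Flat V ↥(LinearMap.range ρ) := flat_submodule V (LinearMap.range ρ)
  haveI : Module.FinitePresentation A ↥(LinearMap.range ρ) :=
    ValFP.finitePresentation_of_flat V A ↥(LinearMap.range ρ)
  have h3 : HasProjectiveDimensionLT (ModuleCat.of A ↥(LinearMap.range ρ)) (n + 1) :=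
    hasProjectiveDimensionLT_of_fibre V A p hp n ↥(LinearMap.range ρ) (hgl _)
  have hex : Function.Exact g.dualMap ρ.rangeRestrict := by
    intro ψ
    have e1 : ρ.rangeRestrict ψ = 0 ↔ ψ ∈ LinearMap.ker ρ := by
      rw [LinearMap.mem_ker]
      constructor
      · intro h
        have := congrArg Subtype.val h
        exact this
      · intro h
        exact Subtype.ext h
    rw [e1, hρ, Submodule.dualRestrict_ker_eq_dualAnnihilator,
      ← LinearMap.range_dualMap_eq_dualAnnihilator_ker_of_surjective g hsurj]
    rfl
  have hinj : Function.Injective g.dualMap := LinearMap.dualMap_injective_of_surjective hsurj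
  let π : Dual A (Fin r → A) →ₗ[A] ↥(LinearMap.range ρ) := ρ.rangeRestrict
  have hex' : Function.Exact g.dualMap π := hex
  let S : ShortComplex (ModuleCat.{u} A) :=
    ModuleCat.shortComplexOfCompEqZero (M := Dual A X) (N := Dual A (Fin r → A))
      (L := ↥(LinearMap.range ρ)) g.dualMap π hex'.linearMap_comp_eq_zero
  have hS : S.ShortExact :=
    ModuleCat.shortComplex_shortExact S hex' hinj ρ.surjective_rangeRestrict
  have h2' : HasProjectiveDimensionLT S.X₂ 1 := by
    haveI : Projective S.X₂ :=
      (IsProjective.iff_projective (Dual A (Fin r → A))).mp inferInstance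
    infer_instance
  have h3' : HasProjectiveDimensionLT S.X₃ (n + 1) := h3
  rcases n with _ | m
  · have h3'' : HasProjectiveDimensionLT S.X₃ (1 + 1) :=
      hasProjectiveDimensionLT_of_ge _ (0 + 1) (1 + 1) (by omega)
    exact hS.hasProjectiveDimensionLT_X₁ 1 h2' h3''
  · have h2 : HasProjectiveDimensionLT S.X₂ (m + 1) :=
      hasProjectiveDimensionLT_of_ge _ 1 (m + 1) (by omega)
    exact hS.hasProjectiveDimensionLT_X₁ (m + 1) h2 h3'

end main

end Groth.Agent.Lib.Helper27.ValPd
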