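import Mathlib
import Groth.Agent.Lib.Helper27.ValPd2
import Groth.Agent.Lib.Helper4.StablyFree

/-!
Invertible modules over localizations `T` of a local ring `A`, essentially of finite type and flat
over a valuation domain `V`, with "regular" fibre: they are free.
-/

set_option autoImplicit false
set_option linter.style.haveILetI false
universe u

namespace Groth.Agent.Lib.Helper27.ValPic

open Groth.Agent.Lib.Helper27 IsLocalRing TensorProduct CategoryTheory Module
open Groth.Agent.Lib.Helper4

variable (V : Type u) [CommRing V] [IsDomain V] [ValuationRing V]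
  (A : Type u) [CommRing A] [Algebra V A] [IsLocalRing A] [Algebra.EssFiniteType V A]
  [Module.Flat V A]

section SF
variable (T : Type u) [CommRing T] [Algebra A T] [Module.Flat A T]

theorem isStablyFree_baseChange :
    ∀ (n : ℕ) (M : Type u) [AddCommGroup M] [Module A M] [Module V M] [IsScalarTower V A M]
      [Module.Flat V M] [Module.FinitePresentation A M],
      HasProjectiveDimensionLT (ModuleCat.of A M) n → Module.Projective T (T ⊗[A] M) →
      Module.IsStablyFree T (T ⊗[A] M) := by
  intro n
  induction n with
  | zero =>
    intro M _ _ _ _ _ _ h _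
    have hz : Limits.IsZero (ModuleCat.of A M) := isZero_of_hasProjectiveDimensionLT_zero _
    haveI : Subsingleton M := ModuleCat.isZero_of_iff_subsingleton.1 hz
    haveI : Module.Free A M := Module.Free.of_subsingleton A M
    infer_instance
  | succ n ih =>
    intro M _ _ _ _ _ _ h hproj
    cases n with
    | zero =>
      haveI : Projective (ModuleCat.of A M) := projective_iff_hasProjectiveDimensionLT_one.mpr h
      haveI : Module.Projective A M := (IsProjective.iff_projective M).mpr inferInstance
      haveI : Module.Free A M := Module.free_of_flat_of_isLocalRing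
      infer_instance
    | succ n =>
      obtain ⟨b, v, hv⟩ := Module.Finite.exists_fin (R := A) (M := M)
      set p : (Fin b → A) →ₗ[A] M := Fintype.linearCombination A v with hpdef
      have hp : Function.Surjective p := by
        rw [← LinearMap.range_eq_top, hpdef, Fintype.range_linearCombination, hv]
      haveI : Module.Flat V ↥(LinearMap.ker p) := ValPd.flat_submodule V (LinearMap.ker p)
      haveI : Module.Finite A ↥(LinearMap.ker p) :=
        Module.Finite.iff_fg.mpr (Module.FinitePresentation.fg_ker p hp)
      haveI : Module.FinitePresentation A ↥(LinearMap.ker p) :=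
        ValFP.finitePresentation_of_flat V A ↥(LinearMap.ker p)
      let S : ShortComplex (ModuleCat.{u} A) :=
        ModuleCat.shortComplexOfCompEqZero (LinearMap.ker p).subtype p
          (LinearMap.exact_subtype_ker_map p).linearMap_comp_eq_zero
      have hS : S.ShortExact := ModuleCat.shortComplex_shortExact S
        (LinearMap.exact_subtype_ker_map p) (LinearMap.ker p).injective_subtype hp
      haveI : Projective (ModuleCat.of A (Fin b → A)) :=
        (IsProjective.iff_projective (R := A) (Fin b → A)).1 inferInstance
      have hF : HasProjectiveDimensionLT S.X₂ (n + 1) :=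
        hasProjectiveDimensionLT_of_ge (ModuleCat.of A (Fin b → A)) 1 (n + 1) (by omega)
      have hK : HasProjectiveDimensionLT (ModuleCat.of A ↥(LinearMap.ker p)) (n + 1) :=
        hS.hasProjectiveDimensionLT_X₁ (n + 1) hF h
      let f0 : ↥(LinearMap.ker p) →ₗ[A] (Fin b → A) := (LinearMap.ker p).subtype
      have hf0 : Function.Injective f0 := Submodule.injective_subtype _
      have hex : Function.Exact f0 p := LinearMap.exact_subtype_ker_map p
      let f' := f0.baseChange T
      let g' := p.baseChange T
      have hf' : Function.Injective f' :=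
        Module.Flat.lTensor_preserves_injective_linearMap (M := T) f0 hf0
      have hg' : Function.Surjective g' := LinearMap.lTensor_surjective T hp
      have hex' : Function.Exact f' g' := lTensor_exact T hex hp
      haveI := hproj
      obtain ⟨l, hl⟩ := Module.projective_lifting_property g' LinearMap.id hg'
      let e := (hex'.splitSurjectiveEquiv hf' ⟨l, hl⟩).1
      haveI : Module.Projective T (T ⊗[A] ↥(LinearMap.ker p)) :=
        Module.Projective.of_split
          (e.symm.toLinearMap.comp (LinearMap.inl T _ _))
          ((LinearMap.fst T _ _).comp e.toLinearMap)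
          (LinearMap.ext fun x => by simp)
      have hKsf : Module.IsStablyFree T (T ⊗[A] ↥(LinearMap.ker p)) :=
        ih ↥(LinearMap.ker p) hK inferInstance
      have hFsf : Module.IsStablyFree T (T ⊗[A] (Fin b → A)) := inferInstance
      exact (isStablyFree_two_out_of_three f' g' hf' hg' hex').1 hKsf hFsf

end SF

section pic

/-- invertible modules over a localization `T` of `A` (inverting all nonzero elements of `V`) are
free, provided `A/pA` has finite global dimension. -/
theorem free_of_invertible (p : Ideal V) (hp : p.map (algebraMap V A) ≤ maximalIdeal A) (n : ℕ)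
    (hgl : ∀ (Y : Type u) [AddCommGroup Y] [Module (A ⧸ p.map (algebraMap V A)) Y],
      HasProjectiveDimensionLT (ModuleCat.of (A ⧸ p.map (algebraMap V A)) Y) (n + 1))
    (S : Submonoid A) (hS : ∀ c : V, c ≠ 0 → algebraMap V A c ∈ S)
    (T : Type u) [CommRing T] [Algebra A T] [IsLocalization S T]
    (L : Type u) [AddCommGroup L] [Module T L] [Module A L] [IsScalarTower A T L] [Module V L]
    [IsScalarTower V A L] [Module.Invertible T L] : Module.Free T L := by
  haveI : Module.Flat A T := IsLocalization.flat T S
  -- `L` is `V`-torsion-free
  haveI : Module.Flat V L := by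
    apply ValFP.flat_of_torsionFree
    intro c hc x hx
    have hu : IsUnit (algebraMap A T (algebraMap V A c)) :=
      IsLocalization.map_units T ⟨_, hS c hc⟩
    have h1 : algebraMap A T (algebraMap V A c) • x = 0 := by
      rw [algebraMap_smul, algebraMap_smul]; exact hx
    have h2 := congrArg (fun y => (↑hu.unit⁻¹ : T) • y) h1
    simp only [smul_zero, ← mul_smul, IsUnit.val_inv_mul, one_smul] at h2
    exact h2
  obtain ⟨k, g, hg⟩ := Module.Finite.exists_fin (R := T) (M := L)
  set M₀ : Submodule A L := Submodule.span A (Set.range g) with hM₀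
  haveI : Module.Finite A ↥M₀ := Module.Finite.span_of_finite A (Set.finite_range g)
  haveI : Module.Flat V ↥M₀ := ValPd.flat_submodule V M₀
  haveI : Module.FinitePresentation A ↥M₀ := ValFP.finitePresentation_of_flat V A ↥M₀
  -- `L` is the localization of `M₀`
  haveI hloc : IsLocalizedModule S M₀.subtype := by
    have hid := isLocalizedModule_id S L T
    refine ⟨hid.map_units, ?_, ?_⟩
    · intro y
      have hy : y ∈ Submodule.span T (Set.range g) := hg ▸ Submodule.mem_top
      have key : ∀ y ∈ Submodule.span T (Set.range g), ∃ s : S, (s : A) • y ∈ M₀ := by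
        intro y hy
        refine Submodule.span_induction ?_ ?_ ?_ ?_ hy
        · intro x hx
          exact ⟨1, by rw [OneMemClass.coe_one, one_smul]; exact Submodule.subset_span hx⟩
        · exact ⟨1, by rw [smul_zero]; exact M₀.zero_mem⟩
        · rintro x y _ _ ⟨s, hs⟩ ⟨s', hs'⟩
          refine ⟨s * s', ?_⟩
          rw [Submonoid.coe_mul, smul_add]
          refine M₀.add_mem ?_ ?_
          · rw [mul_comm, mul_smul]; exact M₀.smul_mem _ hs
          · rw [mul_smul]; exact M₀.smul_mem _ hs'
        · rintro t x _ ⟨s, hs⟩
          obtain ⟨⟨a, s'⟩, hst⟩ := IsLocalization.surj S t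
          refine ⟨s' * s, ?_⟩
          have e1 : ((s' * s : S) : A) • t • x = a • ((s : A) • x) := by
            rw [Submonoid.coe_mul, ← algebraMap_smul T ((s' : A) * (s : A)) (t • x), ← mul_smul,
              map_mul, mul_comm (algebraMap A T s') _, mul_assoc, mul_comm (algebraMap A T s') t,
              hst, ← map_mul, algebraMap_smul, mul_comm, mul_smul]
          rw [e1]
          exact M₀.smul_mem _ hs
      obtain ⟨s, hs⟩ := key y hy
      exact ⟨(⟨_, hs⟩, s), rfl⟩
    · intro x₁ x₂ h
      exact ⟨1, by rw [Subtype.ext h]⟩
  have hbc : IsBaseChange T M₀.subtype := IsLocalizedModule.isBaseChange S T M₀.subtype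
  let E : (T ⊗[A] ↥M₀) ≃ₗ[T] L := hbc.equiv
  haveI : Module.Projective T (T ⊗[A] ↥M₀) := Module.Projective.of_equiv E.symm
  have hpd : HasProjectiveDimensionLT (ModuleCat.of A ↥M₀) (n + 1) :=
    ValPd.hasProjectiveDimensionLT_of_fibre V A p hp n ↥M₀ (hgl _)
  haveI : Module.IsStablyFree T (T ⊗[A] ↥M₀) :=
    isStablyFree_baseChange V A T (n + 1) ↥M₀ hpd inferInstance
  haveI : Module.IsStablyFree T L := Module.IsStablyFree.equiv E
  exact Module.free_of_isStablyFree_of_invertible T L

end pic

end Groth.Agent.Lib.Helper27.ValPic
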