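import Mathlib
import Groth.Agent.Lib.Helper27.CauchyBinet

/-!
# Alternants, sums over strictly decreasing exponent vectors (helper27)
-/

namespace Groth.Agent.Lib.Helper27.Verlinde
open Finset Matrix
open Groth.Agent.Lib.Helper27.CB

/-- The alternant `det (x_j ^ (l_i))`. -/
noncomputable def alt {r : ℕ} (x : Fin r → ℂ) (l : Fin r → ℕ) : ℂ :=
  (Matrix.of fun i j : Fin r => x j ^ l i).det

/-- The `r × M` matrix of powers, possibly weighted. -/
def pw {r : ℕ} (M : ℕ) (w : Fin M → ℂ) (x : Fin r → ℂ) : Matrix (Fin r) (Fin M) ℂ :=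
  fun j l => w l * x j ^ (l : ℕ)

lemma det_pw_submatrix {r : ℕ} (M : ℕ) (w : Fin M → ℂ) (x : Fin r → ℂ) (s : Fin r → Fin M) :
    ((pw M w x).submatrix id s).det = (∏ i, w (s i)) * alt x (fun i => (s i : ℕ)) := by
  unfold alt
  rw [← Matrix.det_transpose]
  have : ((pw M w x).submatrix id s)ᵀ =
      Matrix.of fun i j : Fin r => w (s i) * (Matrix.of fun i j : Fin r => x j ^ (s i : ℕ)) i j := by
    ext i j
    simp [pw]
  rw [this, Matrix.det_mul_column]

/-- Weighted Cauchy–Binet for alternants. -/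
theorem sum_alt_mul_alt_weighted {r : ℕ} (M : ℕ) (w : Fin M → ℂ) (x y : Fin r → ℂ) :
    ∑ s ∈ univ.filter (fun s : Fin r → Fin M => StrictAnti s),
        (∏ i, w (s i)) * (alt x (fun i => (s i : ℕ)) * alt y (fun i => (s i : ℕ))) =
      (Matrix.of fun j j' : Fin r => ∑ l : Fin M, w l * (x j * y j') ^ (l : ℕ)).det := by
  have h := cauchyBinet_strictAnti (pw M w x) (pw M (fun _ => 1) y)
  have hK : pw M w x * (pw M (fun _ => 1) y)ᵀ =
      Matrix.of fun j j' : Fin r => ∑ l : Fin M, w l * (x j * y j') ^ (l : ℕ) := by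
    ext j j'
    simp only [Matrix.mul_apply, Matrix.transpose_apply, pw, Matrix.of_apply, one_mul]
    refine Finset.sum_congr rfl fun l _ => ?_
    rw [mul_pow]; ring
  rw [hK] at h
  rw [h]
  refine Finset.sum_congr rfl fun s _ => ?_
  rw [det_pw_submatrix, det_pw_submatrix]
  simp only [Finset.prod_const_one, one_mul]
  ring

/-! ### Basic properties of alternants -/

lemma alt_perm {r : ℕ} (x : Fin r → ℂ) (l : Fin r → ℕ) (π : Equiv.Perm (Fin r)) :
    alt x (l ∘ π) = Equiv.Perm.sign π * alt x l := by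
  unfold alt
  rw [← Matrix.det_permute π]
  rfl

lemma alt_add_const {r : ℕ} (x : Fin r → ℂ) (l : Fin r → ℕ) (c : ℕ) :
    alt x (fun i => l i + c) = (∏ j, x j) ^ c * alt x l := by
  unfold alt
  rw [← Finset.prod_pow, ← Matrix.det_mul_row]
  congr 1
  ext i j
  simp [pow_add, mul_comm]

lemma alt_smul {r : ℕ} (c : ℂ) (x : Fin r → ℂ) (l : Fin r → ℕ) :
    alt (fun j => c * x j) l = c ^ (∑ i, l i) * alt x l := by
  unfold alt
  rw [← Finset.prod_pow_eq_pow_sum, ← Matrix.det_mul_column]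
  congr 1
  ext i j
  simp [mul_pow]

lemma alt_conj {r : ℕ} (x : Fin r → ℂ) (l : Fin r → ℕ) :
    (starRingEnd ℂ) (alt x l) = alt (fun j => (starRingEnd ℂ) (x j)) l := by
  unfold alt
  rw [RingHom.map_det]
  congr 1
  ext i j
  simp

lemma alt_transpose {r : ℕ} (ζ : ℂ) (a b : Fin r → ℕ) :
    alt (fun j => ζ ^ a j) b = alt (fun j => ζ ^ b j) a := by
  unfold alt
  rw [← Matrix.det_transpose]
  congr 1
  ext i j
  simp only [Matrix.transpose_apply, Matrix.of_apply]
  rw [← pow_mul, ← pow_mul, mul_comm]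

lemma alt_eq_zero_of_not_injective {r : ℕ} (x : Fin r → ℂ) (l : Fin r → ℕ)
    (hl : ¬ Function.Injective l) : alt x l = 0 := by
  obtain ⟨i, j, hij, hne⟩ : ∃ i j, l i = l j ∧ i ≠ j := by
    by_contra h
    apply hl
    intro i j hij
    by_contra hne
    exact h ⟨i, j, hij, hne⟩
  unfold alt
  exact Matrix.det_zero_of_row_eq hne (by ext k; simp [hij])

lemma alt_update_add {r : ℕ} (x : Fin r → ℂ) (l : Fin r → ℕ) (N : ℕ) (α : ℂ)
    (hx : ∀ j, x j ^ N = α) (i₀ : Fin r) :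
    alt x (Function.update l i₀ (l i₀ + N)) = α * alt x l := by
  unfold alt
  have : (Matrix.of fun i j : Fin r => x j ^ (Function.update l i₀ (l i₀ + N)) i) =
      Matrix.of fun i j : Fin r => (Function.update (fun _ => (1 : ℂ)) i₀ α) i *
        (Matrix.of fun i j : Fin r => x j ^ l i) i j := by
    ext i j
    by_cases h : i = i₀
    · subst h
      simp [pow_add, hx, mul_comm]
    · simp [h]
  rw [this, Matrix.det_mul_column]
  congr 1
  rw [Finset.prod_update_of_mem (Finset.mem_univ _)]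
  simp

/-! ### Sums over the alcove -/

/-- weight killing exponent `0` -/
noncomputable def w0 (M : ℕ) : Fin M → ℂ := fun l => if (l : ℕ) = 0 then 0 else 1

lemma prod_w0 {r M : ℕ} (hr : 1 ≤ r) (s : Fin r → Fin M) (hs : StrictAnti s) :
    (∏ i, w0 M (s i)) =
      if (∀ i : Fin r, (i : ℕ) = r - 1 → (s i : ℕ) = 0) then 0 else 1 := by
  split_ifs with h
  · have hlt : r - 1 < r := by omega
    exact Finset.prod_eq_zero (Finset.mem_univ (⟨r - 1, hlt⟩ : Fin r))
      (by simp [w0, h ⟨r - 1, hlt⟩ rfl])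
  · refine Finset.prod_eq_one fun i _ => ?_
    have hi : (s i : ℕ) ≠ 0 := by
      intro h0
      apply h
      intro j hj
      have hij : i ≤ j := by
        rw [Fin.le_def]; have := i.2; omega
      have := hs.antitone hij
      rw [Fin.le_def] at this
      omega
    simp [w0, hi]

lemma sum_alcove {r M : ℕ} (hr : 1 ≤ r) (F : (Fin r → Fin M) → ℂ) :
    ∑ s ∈ univ.filter (fun s : Fin r → Fin M =>
        StrictAnti s ∧ ∀ i : Fin r, (i : ℕ) = r - 1 → (s i : ℕ) = 0), F s =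
      ∑ s ∈ univ.filter (fun s : Fin r → Fin M => StrictAnti s), F s -
        ∑ s ∈ univ.filter (fun s : Fin r → Fin M => StrictAnti s), (∏ i, w0 M (s i)) * F s := by
  classical
  rw [← Finset.sum_sub_distrib, ← Finset.filter_filter, Finset.sum_filter]
  refine Finset.sum_congr rfl fun s hs => ?_
  rw [Finset.mem_filter] at hs
  rw [prod_w0 hr s hs.2]
  split_ifs <;> ring

theorem sum_alcove_alt {r M : ℕ} (hr : 1 ≤ r) (x y : Fin r → ℂ) :
    ∑ s ∈ univ.filter (fun s : Fin r → Fin M =>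
        StrictAnti s ∧ ∀ i : Fin r, (i : ℕ) = r - 1 → (s i : ℕ) = 0),
        alt x (fun i => (s i : ℕ)) * alt y (fun i => (s i : ℕ)) =
      (Matrix.of fun j j' : Fin r => ∑ l : Fin M, (x j * y j') ^ (l : ℕ)).det -
      (Matrix.of fun j j' : Fin r => ∑ l : Fin M, w0 M l * (x j * y j') ^ (l : ℕ)).det := by
  have h1 := sum_alt_mul_alt_weighted M (fun _ => 1) x y
  simp only [Finset.prod_const_one, one_mul] at h1
  rw [sum_alcove hr, ← sum_alt_mul_alt_weighted M (w0 M) x y, ← h1]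

/-! ### Determinant evaluations -/

lemma geom_sum_root {N : ℕ} (q : ℂ) (hq : q ^ N = 1) :
    ∑ l : Fin N, q ^ (l : ℕ) = if q = 1 then (N : ℂ) else 0 := by
  rw [Fin.sum_univ_eq_sum_range (fun l => q ^ l) N]
  split_ifs with h
  · subst h; simp
  · have := geom_sum_mul q N
    rw [hq, sub_self] at this
    exact (mul_eq_zero.mp this).resolve_right (sub_ne_zero.mpr h)

lemma sum_w0_mul {N : ℕ} (hN : 1 ≤ N) (q : ℂ) :
    ∑ l : Fin N, w0 N l * q ^ (l : ℕ) = ∑ l : Fin N, q ^ (l : ℕ) - 1 := by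
  have h : ∀ l : Fin N, w0 N l * q ^ (l : ℕ) =
      q ^ (l : ℕ) - if l = (⟨0, hN⟩ : Fin N) then 1 else 0 := by
    intro l
    unfold w0
    by_cases h : (l : ℕ) = 0
    · have : l = ⟨0, hN⟩ := Fin.ext h
      subst this; simp
    · have : l ≠ ⟨0, hN⟩ := fun h' => h (by rw [h'])
      simp [h, this]
  simp_rw [h, Finset.sum_sub_distrib]
  simp

lemma det_diag_sub_rank_one {r : ℕ} (hr : 1 ≤ r) (c : ℂ) (hc : c ≠ 0) (u v : Fin r → ℂ) :
    (Matrix.of fun j j' : Fin r => (if j = j' then c else 0) - u j * v j').det =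
      c ^ r - c ^ (r - 1) * ∑ j, u j * v j := by
  have h : (Matrix.of fun j j' : Fin r => (if j = j' then c else 0) - u j * v j') =
      c • (1 + Matrix.replicateCol Unit (fun j => -c⁻¹ * u j) * Matrix.replicateRow Unit v) := by
    ext j j'
    simp only [Matrix.of_apply, Matrix.smul_apply, Matrix.add_apply, Matrix.one_apply,
      Matrix.mul_apply, Matrix.replicateCol_apply, Matrix.replicateRow_apply,
      Finset.univ_unique, Finset.sum_singleton, smul_eq_mul]
    by_cases h : j = j'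
    · simp only [h, if_true]; field_simp; ring
    · simp only [h, if_false]; field_simp; ring
  rw [h, Matrix.det_smul, Fintype.card_fin, Matrix.det_one_add_replicateCol_mul_replicateRow]
  simp only [dotProduct]
  have hr' : c ^ r = c ^ (r - 1) * c := by
    rw [← pow_succ]; congr 1; omega
  rw [hr', mul_add, mul_one, sub_eq_add_neg]
  congr 1
  rw [Finset.mul_sum, Finset.mul_sum, ← Finset.sum_neg_distrib]
  refine Finset.sum_congr rfl fun j _ => ?_
  field_simp

/-- The orthogonal case of the alcove sum. -/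
theorem sum_alcove_alt_orth {r N : ℕ} (hr : 1 ≤ r) (hN : 1 ≤ N) (x y : Fin r → ℂ)
    (hroot : ∀ j j', (x j * y j') ^ N = 1) (hone : ∀ j j', x j * y j' = 1 ↔ j = j') :
    ∑ s ∈ univ.filter (fun s : Fin r → Fin N =>
        StrictAnti s ∧ ∀ i : Fin r, (i : ℕ) = r - 1 → (s i : ℕ) = 0),
        alt x (fun i => (s i : ℕ)) * alt y (fun i => (s i : ℕ)) = r * (N : ℂ) ^ (r - 1) := by
  have hNne : (N : ℂ) ≠ 0 := by
    have : N ≠ 0 := by omega
    exact_mod_cast this
  rw [sum_alcove_alt hr]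
  have hK : (Matrix.of fun j j' : Fin r => ∑ l : Fin N, (x j * y j') ^ (l : ℕ)) =
      Matrix.of fun j j' : Fin r => (if j = j' then (N : ℂ) else 0) - (0 : Fin r → ℂ) j * (0 : Fin r → ℂ) j' := by
    ext j j'
    simp only [Matrix.of_apply, Pi.zero_apply, mul_zero, sub_zero]
    rw [geom_sum_root _ (hroot j j')]
    simp only [hone j j']
  have hK0 : (Matrix.of fun j j' : Fin r => ∑ l : Fin N, w0 N l * (x j * y j') ^ (l : ℕ)) =
      Matrix.of fun j j' : Fin r => (if j = j' then (N : ℂ) else 0) -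
        (fun _ => (1 : ℂ)) j * (fun _ => (1 : ℂ)) j' := by
    ext j j'
    simp only [Matrix.of_apply, mul_one]
    rw [sum_w0_mul hN, geom_sum_root _ (hroot j j')]
    simp only [hone j j']
  rw [hK, hK0, det_diag_sub_rank_one hr _ hNne, det_diag_sub_rank_one hr _ hNne]
  simp
  ring

/-! ### Trigonometric form of the Vandermonde alternant -/

lemma prod_filter_lt {r : ℕ} {M : Type*} [CommMonoid M] (g : Fin r → Fin r → M) :
    ∏ p ∈ (univ : Finset (Fin r × Fin r)).filter (fun p => p.1 < p.2), g p.1 p.2 =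
      ∏ i, ∏ j ∈ Finset.Ioi i, g i j := by
  rw [Finset.prod_filter, ← Finset.univ_product_univ, Finset.prod_product]
  refine Finset.prod_congr rfl fun i _ => ?_
  rw [← Finset.prod_filter]
  congr 1
  ext j
  simp

lemma alt_delta_eq_vandermonde {r : ℕ} (z : Fin r → ℂ) :
    alt z (fun i => r - 1 - (i : ℕ)) =
      Equiv.Perm.sign (Fin.revPerm : Equiv.Perm (Fin r)) * (Matrix.vandermonde z).det := by
  unfold alt
  rw [← Matrix.det_transpose (Matrix.vandermonde z), ← Matrix.det_permute]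
  congr 1
  ext i j
  simp only [Matrix.of_apply, Matrix.submatrix_apply, Matrix.transpose_apply,
    Matrix.vandermonde_apply, Fin.revPerm_apply, Fin.val_rev, id]
  congr 1
  omega

lemma norm_sq_exp_sub_exp (a b : ℝ) :
    ‖Complex.exp (Complex.I * a) - Complex.exp (Complex.I * b)‖ ^ 2 =
      (2 * Real.sin ((a - b) / 2)) ^ 2 := by
  have h : Complex.exp (Complex.I * a) - Complex.exp (Complex.I * b) =
      Complex.exp (Complex.I * b) * (Complex.exp (Complex.I * ((a - b : ℝ) : ℂ)) - 1) := by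
    rw [mul_sub, ← Complex.exp_add, mul_one]
    congr 2
    push_cast
    ring
  rw [h, norm_mul, Complex.norm_exp_I_mul_ofReal, one_mul,
    Complex.norm_exp_I_mul_ofReal_sub_one, Real.norm_eq_abs, sq_abs]

lemma prod_sin_sq_eq (r : ℕ) (w : Fin r → ℝ) :
    ((∏ p ∈ (univ : Finset (Fin r × Fin r)).filter (fun p => p.1 < p.2),
        ((2 : ℝ) * Real.sin ((w p.1 - w p.2) / 2)) ^ 2 : ℝ) : ℂ) =
      alt (fun j => Complex.exp (Complex.I * w j)) (fun i => r - 1 - (i : ℕ)) *
        (starRingEnd ℂ) (alt (fun j => Complex.exp (Complex.I * w j))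
          (fun i => r - 1 - (i : ℕ))) := by
  rw [Complex.mul_conj, Complex.normSq_eq_norm_sq]
  congr 1
  rw [alt_delta_eq_vandermonde, norm_mul, Matrix.det_vandermonde]
  have hs : ‖((Equiv.Perm.sign (Fin.revPerm : Equiv.Perm (Fin r)) : ℤˣ) : ℂ)‖ = 1 := by
    rcases Int.units_eq_one_or (Equiv.Perm.sign (Fin.revPerm : Equiv.Perm (Fin r))) with h | h <;>
      simp [h]
  rw [hs, one_mul, prod_filter_lt (fun i j => ((2 : ℝ) * Real.sin ((w i - w j) / 2)) ^ 2),
    norm_prod, ← Finset.prod_pow]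
  refine Finset.prod_congr rfl fun i _ => ?_
  rw [norm_prod, ← Finset.prod_pow]
  refine Finset.prod_congr rfl fun j _ => ?_
  rw [norm_sq_exp_sub_exp, show (w j - w i) / 2 = -((w i - w j) / 2) by ring, Real.sin_neg]
  ring

/-! ### Roots of unity -/

lemma exp_two_pi_mul_eq_pow (T : ℂ) (v : ℕ) :
    Complex.exp (2 * Real.pi * Complex.I * v / T) =
      Complex.exp (2 * Real.pi * Complex.I / T) ^ v := by
  rw [← Complex.exp_nat_mul]
  congr 1
  ring

lemma conj_exp_two_pi (N : ℕ) :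
    (starRingEnd ℂ) (Complex.exp (2 * Real.pi * Complex.I / (N : ℂ))) =
      (Complex.exp (2 * Real.pi * Complex.I / (N : ℂ)))⁻¹ := by
  rw [← Complex.exp_conj, ← Complex.exp_neg]
  congr 1
  simp only [map_div₀, map_mul, Complex.conj_I, Complex.conj_ofReal, map_natCast, map_ofNat]
  ring

/-! ### Reindexing partitions by strictly decreasing exponent vectors -/

lemma strictAnti_add_le {r : ℕ} (f : Fin r → ℕ) (hf : StrictAnti f) :
    ∀ (d : ℕ) (i j : Fin r), (i : ℕ) + d = j → f j + d ≤ f i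
  | 0, i, j, h => by
      have : i = j := Fin.ext (by omega)
      subst this; simp
  | d + 1, i, j, h => by
      have hj' : (i : ℕ) + d < r := by have := j.2; omega
      have h1 := strictAnti_add_le f hf d i ⟨i + d, hj'⟩ rfl
      have h2 : f j < f ⟨i + d, hj'⟩ := hf (by rw [Fin.lt_def]; simp; omega)
      omega

lemma strictAnti_val {r M : ℕ} (s : Fin r → Fin M) (hs : StrictAnti s) :
    StrictAnti (fun i => (s i : ℕ)) := fun _ _ h => Fin.lt_def.mp (hs h)

lemma sum_antitone_eq_sum_strictAnti (r K : ℕ) (G : (Fin r → ℕ) → ℂ) :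
    ∑ μ ∈ univ.filter (fun μ : Fin r → Fin K => Antitone μ),
        G (fun i => (μ i : ℕ) + (r - 1 - (i : ℕ))) =
      ∑ s ∈ univ.filter (fun s : Fin r → Fin (K + (r - 1)) => StrictAnti s),
        G (fun i => (s i : ℕ)) := by
  classical
  refine Finset.sum_bij
    (fun μ _ => fun j => (⟨(μ j : ℕ) + (r - 1 - (j : ℕ)), by have := (μ j).2; omega⟩ :
      Fin (K + (r - 1)))) ?_ ?_ ?_ ?_
  · intro μ hμ
    rw [Finset.mem_filter] at hμ ⊢
    refine ⟨Finset.mem_univ _, ?_⟩
    intro a b hab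
    rw [Fin.lt_def] at hab ⊢
    have h1 : (μ b : ℕ) ≤ μ a := Fin.le_def.mp (hμ.2 (le_of_lt (Fin.lt_def.mpr hab)))
    have := b.2
    simp only
    omega
  · intro μ₁ _ μ₂ _ h
    funext j
    have := congrFun h j
    rw [Fin.ext_iff] at this
    apply Fin.ext
    simp only at this
    omega
  · intro s hs
    rw [Finset.mem_filter] at hs
    have hs' := strictAnti_val s hs.2
    have hlow : ∀ j : Fin r, r - 1 - (j : ℕ) ≤ (s j : ℕ) := by
      intro j
      have hlt : r - 1 < r := by have := j.2; omega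
      have := strictAnti_add_le _ hs' (r - 1 - (j : ℕ)) j ⟨r - 1, hlt⟩
        (by simp only; have := j.2; omega)
      omega
    have hupp : ∀ j : Fin r, (s j : ℕ) + (j : ℕ) < K + (r - 1) := by
      intro j
      have hlt : 0 < r := by have := j.2; omega
      have := strictAnti_add_le _ hs' (j : ℕ) ⟨0, hlt⟩ j (by simp)
      have h0 := (s ⟨0, hlt⟩).2
      omega
    refine ⟨fun j => ⟨(s j : ℕ) - (r - 1 - (j : ℕ)), by
      have := hlow j; have := hupp j; have := j.2; omega⟩, ?_, ?_⟩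
    · rw [Finset.mem_filter]
      refine ⟨Finset.mem_univ _, ?_⟩
      intro a b hab
      rw [Fin.le_def] at hab ⊢
      have := strictAnti_add_le _ hs' ((b : ℕ) - (a : ℕ)) a b (by omega)
      have := hlow b
      have := b.2
      simp only at *
      omega
    · funext j
      apply Fin.ext
      have := hlow j
      simp only
      omega
  · intro μ _
    rfl

lemma alt_sub {r : ℕ} (z : Fin r → ℂ) (hz : ∀ j, z j ≠ 0) (c : ℕ) (l : Fin r → ℕ)
    (hl : ∀ i, l i ≤ c) :
    alt z (fun i => c - l i) = (∏ j, z j) ^ c * alt (fun j => (z j)⁻¹) l := by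
  unfold alt
  rw [← Finset.prod_pow, ← Matrix.det_mul_row]
  congr 1
  ext i j
  simp only [Matrix.of_apply]
  rw [inv_pow, eq_mul_inv_iff_mul_eq₀ (pow_ne_zero _ (hz j)), ← pow_add]
  congr 1
  have := hl i
  omega

lemma geom_sum_root_range {N : ℕ} (q : ℂ) (hq : q ^ N = 1) :
    ∑ l ∈ Finset.range N, q ^ l = if q = 1 then (N : ℂ) else 0 := by
  rw [← geom_sum_root q hq, Fin.sum_univ_eq_sum_range (fun l => q ^ l) N]

/-- Setup facts for `z_j = exp(2πi v_j / N)`. -/
lemma z_eq_zeta_pow (N : ℕ) (v : ℕ) :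
    Complex.exp (2 * Real.pi * Complex.I * (v : ℂ) / ((N : ℕ) : ℂ)) =
      Complex.exp (2 * Real.pi * Complex.I / ((N : ℕ) : ℂ)) ^ v :=
  exp_two_pi_mul_eq_pow _ _

/-- The sum of `|alt|²` over strictly decreasing exponent vectors in `[0, N-2]`. -/
theorem sum_alt_mul_alt_inv_below {r M : ℕ} (hr : 1 ≤ r) (z : Fin r → ℂ)
    (hzN : ∀ j, z j ^ (M + 1) = 1) (hinj : Function.Injective z) :
    ∑ s ∈ univ.filter (fun s : Fin r → Fin M => StrictAnti s),
        alt z (fun i => (s i : ℕ)) * alt (fun j => (z j)⁻¹) (fun i => (s i : ℕ)) =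
      ((M + 1 : ℕ) : ℂ) ^ r - ((M + 1 : ℕ) : ℂ) ^ (r - 1) * r := by
  have hzne : ∀ j, z j ≠ 0 := by
    intro j h
    have := hzN j
    rw [h, zero_pow (by omega)] at this
    exact zero_ne_one this
  have hNne : ((M + 1 : ℕ) : ℂ) ≠ 0 := by
    exact_mod_cast (Nat.succ_ne_zero M)
  have h1 := sum_alt_mul_alt_weighted M (fun _ => 1) z (fun j => (z j)⁻¹)
  simp only [Finset.prod_const_one, one_mul] at h1
  rw [h1]
  have hK : (Matrix.of fun j j' : Fin r => ∑ l : Fin M, (z j * (z j')⁻¹) ^ (l : ℕ)) =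
      Matrix.of fun j j' : Fin r => (if j = j' then ((M + 1 : ℕ) : ℂ) else 0) -
        (fun j => z j ^ M) j * (fun j' => ((z j')⁻¹) ^ M) j' := by
    ext j j'
    simp only [Matrix.of_apply]
    have hq : (z j * (z j')⁻¹) ^ (M + 1) = 1 := by
      rw [mul_pow, inv_pow, hzN, hzN]; simp
    have h2 := geom_sum_root_range _ hq
    rw [Finset.sum_range_succ] at h2
    rw [Fin.sum_univ_eq_sum_range (fun l => (z j * (z j')⁻¹) ^ l) M, ← mul_pow,
      eq_sub_iff_add_eq, h2]
    have : z j * (z j')⁻¹ = 1 ↔ j = j' := by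
      rw [mul_inv_eq_one₀ (hzne j')]
      exact hinj.eq_iff
    simp only [this]
  rw [hK, det_diag_sub_rank_one hr _ hNne]
  congr 2
  have : ∀ j : Fin r, z j ^ M * ((z j)⁻¹) ^ M = 1 := by
    intro j
    rw [← mul_pow, mul_inv_cancel₀ (hzne j), one_pow]
  rw [Finset.sum_congr rfl (fun j _ => this j)]
  simp

/-- the exponent vector `δ_i = r - 1 - i` -/
def delta (r : ℕ) : Fin r → ℕ := fun i => r - 1 - (i : ℕ)

lemma alt_delta_ne_zero {r : ℕ} (z : Fin r → ℂ) (hinj : Function.Injective z) :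
    alt z (fun i => r - 1 - (i : ℕ)) ≠ 0 := by
  rw [alt_delta_eq_vandermonde]
  refine mul_ne_zero ?_ (Matrix.det_vandermonde_ne_zero_iff.mpr hinj)
  rcases Int.units_eq_one_or (Equiv.Perm.sign (Fin.revPerm : Equiv.Perm (Fin r))) with h | h <;>
    simp [h]

lemma sign_sq_eq_one {r : ℕ} (π : Equiv.Perm (Fin r)) :
    ((Equiv.Perm.sign π : ℤˣ) : ℂ) * ((Equiv.Perm.sign π : ℤˣ) : ℂ) = 1 := by
  rcases Int.units_eq_one_or (Equiv.Perm.sign π) with h | h <;> simp [h]

lemma sign_ne_zero {r : ℕ} (π : Equiv.Perm (Fin r)) :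
    ((Equiv.Perm.sign π : ℤˣ) : ℂ) ≠ 0 := by
  rcases Int.units_eq_one_or (Equiv.Perm.sign π) with h | h <;> simp [h]

/-- `alt z δ = (∏ z)^(r-1) * sign(rev) * alt z⁻¹ δ` -/
lemma alt_delta_eq_inv {r : ℕ} (z : Fin r → ℂ) (hzne : ∀ j, z j ≠ 0) :
    alt z (fun i => r - 1 - (i : ℕ)) =
      (∏ j, z j) ^ (r - 1) * (((Equiv.Perm.sign (Fin.revPerm : Equiv.Perm (Fin r)) : ℤˣ) : ℂ) *
        alt (fun j => (z j)⁻¹) (fun i => r - 1 - (i : ℕ))) := by
  have h1 := alt_sub z hzne (r - 1) (fun i => (i : ℕ)) (fun i => by have := i.2; omega)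
  rw [h1, ← alt_perm]
  congr 2
  funext i
  simp only [Function.comp_apply, Fin.revPerm_apply, Fin.val_rev]
  have := i.2
  omega

/-- Unit-circle roots: facts about `z_j = ζ^(v_j)`. -/
lemma z_facts {r N : ℕ} (hN : N ≠ 0) (v : Fin r → ℕ) (hv : Function.Injective v)
    (hvlt : ∀ i, v i < N) (z : Fin r → ℂ)
    (hz : ∀ j, z j = Complex.exp (2 * Real.pi * Complex.I / ((N : ℕ) : ℂ)) ^ v j) :
    (∀ j, z j ^ N = 1) ∧ Function.Injective z ∧ (∀ j, (starRingEnd ℂ) (z j) = (z j)⁻¹) ∧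
      (∀ j, z j ≠ 0) := by
  have hζ : IsPrimitiveRoot (Complex.exp (2 * Real.pi * Complex.I / ((N : ℕ) : ℂ))) N :=
    Complex.isPrimitiveRoot_exp N hN
  refine ⟨?_, ?_, ?_, ?_⟩
  · intro j
    rw [hz, ← pow_mul, mul_comm (v j) N, pow_mul, hζ.pow_eq_one, one_pow]
  · intro i j h
    rw [hz, hz] at h
    exact hv (hζ.pow_inj (hvlt i) (hvlt j) h)
  · intro j
    rw [hz, map_pow, conj_exp_two_pi, inv_pow]
  · intro j
    rw [hz]
    exact pow_ne_zero _ (Complex.exp_ne_zero _)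

/-- The main sum `Σ_μ a_{μ+δ}(z) a_{μ*+δ}(z)` over partitions in a `r × (k-1)` box. -/
theorem sum_alt_dual {r k : ℕ} (hr : 1 ≤ r) (z : Fin r → ℂ)
    (hzN : ∀ j, z j ^ (r + k) = 1) (hinj : Function.Injective z) :
    ∑ μ ∈ univ.filter (fun μ : Fin r → Fin k => Antitone μ),
        alt z (fun i => (μ i : ℕ) + (r - 1 - (i : ℕ))) *
          alt z (fun i => k - (μ (Fin.rev i) : ℕ) + (r - 1 - (i : ℕ))) =
      ((Equiv.Perm.sign (Fin.revPerm : Equiv.Perm (Fin r)) : ℤˣ) : ℂ) *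
        (∏ j, z j) ^ (r + k - 1) *
        (((r + k : ℕ) : ℂ) ^ r - ((r + k : ℕ) : ℂ) ^ (r - 1) * r) := by
  classical
  have hM : k + (r - 1) + 1 = r + k := by omega
  have hzne : ∀ j, z j ≠ 0 := by
    intro j h
    have := hzN j
    rw [h, zero_pow (by omega)] at this
    exact zero_ne_one this
  set G : (Fin r → ℕ) → ℂ := fun l =>
    alt z l * alt z (fun i => (r + k - 1) - l (Fin.rev i)) with hG
  have h1 : ∀ μ : Fin r → Fin k,
      alt z (fun i => (μ i : ℕ) + (r - 1 - (i : ℕ))) *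
          alt z (fun i => k - (μ (Fin.rev i) : ℕ) + (r - 1 - (i : ℕ))) =
        G (fun i => (μ i : ℕ) + (r - 1 - (i : ℕ))) := by
    intro μ
    simp only [hG]
    congr 2
    funext i
    have h2 := (μ (Fin.rev i)).2
    have h3 := i.2
    simp only [Fin.val_rev]
    omega
  rw [Finset.sum_congr rfl (fun μ _ => h1 μ), sum_antitone_eq_sum_strictAnti r k G]
  have h2 : ∀ s : Fin r → Fin (k + (r - 1)),
      G (fun i => (s i : ℕ)) =
        (((Equiv.Perm.sign (Fin.revPerm : Equiv.Perm (Fin r)) : ℤˣ) : ℂ) *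
          (∏ j, z j) ^ (r + k - 1)) *
        (alt z (fun i => (s i : ℕ)) * alt (fun j => (z j)⁻¹) (fun i => (s i : ℕ))) := by
    intro s
    simp only [hG]
    have h3 : (fun i : Fin r => (r + k - 1) - (s (Fin.rev i) : ℕ)) =
        (fun i : Fin r => (r + k - 1) - (s i : ℕ)) ∘ (Fin.revPerm : Equiv.Perm (Fin r)) := by
      funext i; simp
    rw [h3, alt_perm, alt_sub z hzne (r + k - 1) (fun i => (s i : ℕ))
      (fun i => by have := (s i).2; omega)]
    ring
  rw [Finset.sum_congr rfl (fun s _ => h2 s), ← Finset.mul_sum,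
    sum_alt_mul_alt_inv_below hr z (by rw [hM]; exact hzN) hinj, hM]

/-- Schur-function form of `sum_alt_dual`. -/
theorem sum_schur_dual {r k : ℕ} (hr : 1 ≤ r) (z : Fin r → ℂ)
    (hzN : ∀ j, z j ^ (r + k) = 1) (hinj : Function.Injective z)
    (hconj : ∀ j, (starRingEnd ℂ) (z j) = (z j)⁻¹) :
    ∑ μ ∈ univ.filter (fun μ : Fin r → Fin k => Antitone μ),
        (alt z (fun i => (μ i : ℕ) + (r - 1 - (i : ℕ))) / alt z (fun i => r - 1 - (i : ℕ))) *
          (alt z (fun i => k - (μ (Fin.rev i) : ℕ) + (r - 1 - (i : ℕ))) /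
            alt z (fun i => r - 1 - (i : ℕ))) =
      (∏ j, z j) ^ k * ((k : ℂ) * ((r : ℂ) + k) ^ (r - 1)) /
        (alt z (fun i => r - 1 - (i : ℕ)) *
          (starRingEnd ℂ) (alt z (fun i => r - 1 - (i : ℕ)))) := by
  have hzne : ∀ j, z j ≠ 0 := by
    intro j h
    have := hzN j
    rw [h, zero_pow (by omega)] at this
    exact zero_ne_one this
  set D := alt z (fun i => r - 1 - (i : ℕ)) with hD
  have hDne : D ≠ 0 := alt_delta_ne_zero z hinj
  have hcD : (starRingEnd ℂ) D = alt (fun j => (z j)⁻¹) (fun i => r - 1 - (i : ℕ)) := by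
    rw [hD, alt_conj]
    congr 1
    funext j
    exact hconj j
  have hcDne : (starRingEnd ℂ) D ≠ 0 := by
    intro h
    exact hDne ((map_eq_zero _).mp h)
  have hDeq : D = (∏ j, z j) ^ (r - 1) *
      (((Equiv.Perm.sign (Fin.revPerm : Equiv.Perm (Fin r)) : ℤˣ) : ℂ) * (starRingEnd ℂ) D) := by
    rw [hcD]
    exact alt_delta_eq_inv z hzne
  simp_rw [div_mul_div_comm]
  rw [← Finset.sum_div, sum_alt_dual hr z hzN hinj,
    div_eq_div_iff (mul_ne_zero hDne hDne) (mul_ne_zero hDne hcDne)]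
  have hPz : (∏ j, z j) ^ (r + k - 1) = (∏ j, z j) ^ k * (∏ j, z j) ^ (r - 1) := by
    rw [← pow_add]; congr 1; omega
  have hNr : ((r + k : ℕ) : ℂ) ^ r = ((r + k : ℕ) : ℂ) ^ (r - 1) * ((r : ℂ) + k) := by
    have h1 : ((r : ℂ) + k) = ((r + k : ℕ) : ℂ) := by push_cast; ring
    rw [h1, ← pow_succ]; congr 1; omega
  have hs := sign_sq_eq_one (Fin.revPerm : Equiv.Perm (Fin r))
  rw [hPz, hNr]
  push_cast
  set sg := ((Equiv.Perm.sign (Fin.revPerm : Equiv.Perm (Fin r)) : ℤˣ) : ℂ) with hsg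
  set Pz := ∏ j, z j with hPzdef
  set cD := (starRingEnd ℂ) D with hcDdef
  linear_combination (-(Pz ^ k * (k : ℂ) * ((r : ℂ) + k) ^ (r - 1) * D)) * hDeq

/-- The trigonometric product as `|alt z δ|²` for `z_j = exp(2πi v_j / T)`. -/
lemma P_cast_eq {r : ℕ} (T : ℝ) (v : Fin r → ℕ) (z : Fin r → ℂ)
    (hz : ∀ j, z j = Complex.exp (2 * Real.pi * Complex.I * (v j : ℂ) / (T : ℂ))) :
    ((∏ p ∈ (univ : Finset (Fin r × Fin r)).filter (fun p => p.1 < p.2),
        ((2 : ℝ) * Real.sin (Real.pi * ((v p.1 : ℝ) - (v p.2 : ℝ)) / T)) ^ 2 : ℝ) : ℂ) =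
      alt z (fun i => r - 1 - (i : ℕ)) *
        (starRingEnd ℂ) (alt z (fun i => r - 1 - (i : ℕ))) := by
  have h1 := prod_sin_sq_eq r (fun j => 2 * Real.pi * (v j : ℝ) / T)
  have hz' : (fun j : Fin r => Complex.exp (Complex.I *
      ((2 * Real.pi * (v j : ℝ) / T : ℝ) : ℂ))) = z := by
    funext j
    rw [hz]
    congr 1
    push_cast
    ring
  rw [hz'] at h1
  rw [← h1]
  congr 1
  refine Finset.prod_congr rfl fun p _ => ?_
  congr 2
  congr 1
  ring

end Groth.Agent.Lib.Helper27.Verlinde
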