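import Mathlib
import Groth.Agent.Lib.Helper27.Verlinde

/-!
# Orthogonality on the alcove (helper27)
-/

namespace Groth.Agent.Lib.Helper27.Verlinde
open Finset Matrix

/-- the alcove: strictly decreasing vectors in `[0, N)` with last entry `0` -/
def alcove (r N : ℕ) : Finset (Fin r → Fin N) :=
  univ.filter (fun l : Fin r → Fin N =>
    StrictAnti l ∧ ∀ i : Fin r, (i : ℕ) = r - 1 → (l i : ℕ) = 0)

lemma mem_alcove {r N : ℕ} (l : Fin r → Fin N) :
    l ∈ alcove r N ↔ StrictAnti l ∧ ∀ i : Fin r, (i : ℕ) = r - 1 → (l i : ℕ) = 0 := by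
  simp [alcove]

/-- value access with default -/
def getN {r N : ℕ} (l : Fin r → Fin N) (m : ℕ) : ℕ :=
  if h : m < r then (l ⟨m, h⟩ : ℕ) else 0

lemma getN_eq {r N : ℕ} (l : Fin r → Fin N) (i : Fin r) : getN l (i : ℕ) = (l i : ℕ) := by
  simp [getN]

/-- the rotation of the alcove -/
def rot {n N : ℕ} (hN : 0 < N) (l : Fin (n + 2) → Fin N) : Fin (n + 2) → Fin N :=
  fun i => ⟨(if (i : ℕ) = 0 then N - getN l n else getN l ((i : ℕ) - 1) - getN l n) % N,
    Nat.mod_lt _ hN⟩

section rot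
variable {n N : ℕ} (hN : 0 < N) (l : Fin (n + 2) → Fin N) (hl : l ∈ alcove (n + 2) N)
include hl

lemma alcove_last : getN l (n + 1) = 0 := by
  rw [mem_alcove] at hl
  have := hl.2 ⟨n + 1, by omega⟩ (by simp)
  simpa [getN] using this

lemma alcove_anti {a b : ℕ} (hab : a < b) (hb : b < n + 2) : getN l b < getN l a := by
  rw [mem_alcove] at hl
  have ha : a < n + 2 := by omega
  have := hl.1 (show (⟨a, ha⟩ : Fin (n + 2)) < ⟨b, hb⟩ from Fin.lt_def.mpr hab)
  unfold getN
  rw [dif_pos ha, dif_pos hb]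
  exact Fin.lt_def.mp this

omit hl in
lemma alcove_lt (a : ℕ) : getN l a < N ∨ getN l a = 0 := by
  unfold getN
  split_ifs with h
  · left; exact (l ⟨a, h⟩).2
  · right; rfl

lemma alcove_g_pos : 0 < getN l n := by
  have := alcove_anti l hl (show n < n + 1 by omega) (by omega)
  omega

lemma rot_val_zero : (rot hN l 0 : ℕ) = N - getN l n := by
  have h1 := alcove_g_pos l hl
  simp only [rot, Fin.val_zero, if_true]
  exact Nat.mod_eq_of_lt (by omega)

lemma rot_val_succ (i : Fin (n + 2)) (hi : (i : ℕ) ≠ 0) :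
    (rot hN l i : ℕ) = getN l ((i : ℕ) - 1) - getN l n := by
  simp only [rot, hi, if_false]
  apply Nat.mod_eq_of_lt
  rcases alcove_lt l ((i : ℕ) - 1) with h | h <;> omega

lemma rot_mem : rot hN l ∈ alcove (n + 2) N := by
  rw [mem_alcove]
  constructor
  · intro a b hab
    rw [Fin.lt_def] at hab ⊢
    have hb : (b : ℕ) ≠ 0 := by omega
    rw [rot_val_succ hN l hl b hb]
    by_cases ha : (a : ℕ) = 0
    · have ha' : a = 0 := Fin.ext ha
      rw [ha', rot_val_zero hN l hl]
      have h1 := alcove_g_pos l hl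
      have h2 : getN l ((b : ℕ) - 1) < N := by
        rcases alcove_lt l ((b : ℕ) - 1) with h | h <;> omega
      have h3 : getN l n < N := by
        rcases alcove_lt l n with h | h <;> omega
      omega
    · rw [rot_val_succ hN l hl a ha]
      have h1 := alcove_anti l hl (show (a : ℕ) - 1 < (b : ℕ) - 1 by omega)
        (by have := b.2; omega)
      have h2 : getN l n ≤ getN l ((b : ℕ) - 1) := by
        have := b.2
        rcases Nat.lt_or_ge ((b : ℕ) - 1) n with h | h
        · exact le_of_lt (alcove_anti l hl h (by omega))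
        · have : (b : ℕ) - 1 = n := by omega
          rw [this]
      omega
  · intro i hi
    have hi' : (i : ℕ) ≠ 0 := by omega
    rw [rot_val_succ hN l hl i hi']
    have : (i : ℕ) - 1 = n := by omega
    rw [this]
    omega

end rot

lemma rot_injOn {n N : ℕ} (hN : 0 < N) :
    Set.InjOn (rot (n := n) hN) (alcove (n + 2) N : Set (Fin (n + 2) → Fin N)) := by
  intro l hl l' hl' h
  rw [Finset.mem_coe] at hl hl'
  have h0 : N - getN l n = N - getN l' n := by
    rw [← rot_val_zero hN l hl, ← rot_val_zero hN l' hl', h]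
  have hg : getN l n = getN l' n := by
    have h1 := alcove_g_pos l hl
    have h2 := alcove_g_pos l' hl'
    have h3 : getN l n < N := by
      rcases alcove_lt l n with h | h <;> omega
    have h4 : getN l' n < N := by
      rcases alcove_lt l' n with h | h <;> omega
    omega
  funext i
  apply Fin.ext
  rw [← getN_eq l i, ← getN_eq l' i]
  by_cases hi : (i : ℕ) = n + 1
  · rw [hi, alcove_last l hl, alcove_last l' hl']
  · have hi2 : (i : ℕ) + 1 < n + 2 := by have := i.2; omega
    have e1 := rot_val_succ hN l hl ⟨(i : ℕ) + 1, hi2⟩ (by simp)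
    have e2 := rot_val_succ hN l' hl' ⟨(i : ℕ) + 1, hi2⟩ (by simp)
    rw [h] at e1
    rw [e1] at e2
    simp only [Nat.add_sub_cancel] at e2
    have g1 : getN l n ≤ getN l (i : ℕ) := by
      rcases Nat.lt_or_ge (i : ℕ) n with h | h
      · exact le_of_lt (alcove_anti l hl h (by omega))
      · have : (i : ℕ) = n := by have := i.2; omega
        rw [this]
    have g2 : getN l' n ≤ getN l' (i : ℕ) := by
      rcases Nat.lt_or_ge (i : ℕ) n with h | h
      · exact le_of_lt (alcove_anti l' hl' h (by omega))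
      · have : (i : ℕ) = n := by have := i.2; omega
        rw [this]
    omega

lemma rot_comp_finRotate {n N : ℕ} (hN : 0 < N) (l : Fin (n + 2) → Fin N)
    (hl : l ∈ alcove (n + 2) N) :
    (fun i => (rot hN l i : ℕ) + getN l n) ∘ (finRotate (n + 2)) =
      Function.update (fun i => (l i : ℕ)) (Fin.last (n + 1))
        ((l (Fin.last (n + 1)) : ℕ) + N) := by
  funext i
  by_cases hi : i = Fin.last (n + 1)
  · subst hi
    have h1 := alcove_g_pos l hl
    have h3 : getN l n < N := by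
      rcases alcove_lt l n with h | h <;> omega
    have h4 : (l (Fin.last (n + 1)) : ℕ) = 0 := by
      rw [← getN_eq l (Fin.last (n + 1))]
      exact alcove_last l hl
    simp only [Function.comp_apply, Function.update_self, finRotate_last, h4]
    rw [rot_val_zero hN l hl]
    omega
  · have h5 := coe_finRotate_of_ne_last hi
    have h6 : ((finRotate (n + 2)) i : ℕ) ≠ 0 := by rw [h5]; omega
    simp only [Function.comp_apply, Function.update_of_ne hi]
    rw [rot_val_succ hN l hl _ h6, h5, Nat.add_sub_cancel, getN_eq]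
    have hi' : (i : ℕ) ≠ n + 1 := fun h => hi (Fin.ext h)
    have g1 : getN l n ≤ getN l (i : ℕ) := by
      rcases Nat.lt_or_ge (i : ℕ) n with h | h
      · exact le_of_lt (alcove_anti l hl h (by omega))
      · have : (i : ℕ) = n := by have := i.2; omega
        rw [this]
    rw [getN_eq] at g1
    omega

lemma alt_rot {n N : ℕ} (hN : 0 < N) (l : Fin (n + 2) → Fin N)
    (hl : l ∈ alcove (n + 2) N) (t s : Fin (n + 2) → ℂ) (α β : ℂ)
    (hprod : (∏ j, t j) * (∏ j, s j) = 1) (ht : ∀ j, t j ^ N = α) (hs : ∀ j, s j ^ N = β) :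
    alt t (fun i => (rot hN l i : ℕ)) * alt s (fun i => (rot hN l i : ℕ)) =
      α * β * (alt t (fun i => (l i : ℕ)) * alt s (fun i => (l i : ℕ))) := by
  have key := rot_comp_finRotate hN l hl
  have e1 : α * alt t (fun i => (l i : ℕ)) =
      Equiv.Perm.sign (finRotate (n + 2)) *
        ((∏ j, t j) ^ getN l n * alt t (fun i => (rot hN l i : ℕ))) := by
    rw [← alt_add_const, ← alt_perm, key]
    exact (alt_update_add t (fun i => (l i : ℕ)) N α ht (Fin.last (n + 1))).symm
  have e2 : β * alt s (fun i => (l i : ℕ)) =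
      Equiv.Perm.sign (finRotate (n + 2)) *
        ((∏ j, s j) ^ getN l n * alt s (fun i => (rot hN l i : ℕ))) := by
    rw [← alt_add_const, ← alt_perm, key]
    exact (alt_update_add s (fun i => (l i : ℕ)) N β hs (Fin.last (n + 1))).symm
  have e3 : (∏ j, t j) ^ getN l n * (∏ j, s j) ^ getN l n = 1 := by
    rw [← mul_pow, hprod, one_pow]
  have e4 := sign_sq_eq_one (finRotate (n + 2))
  calc alt t (fun i => (rot hN l i : ℕ)) * alt s (fun i => (rot hN l i : ℕ))
      = (((Equiv.Perm.sign (finRotate (n + 2)) : ℤˣ) : ℂ) *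
          ((Equiv.Perm.sign (finRotate (n + 2)) : ℤˣ) : ℂ)) *
        ((∏ j, t j) ^ getN l n * (∏ j, s j) ^ getN l n) *
        (alt t (fun i => (rot hN l i : ℕ)) * alt s (fun i => (rot hN l i : ℕ))) := by
        rw [e3, e4]; ring
    _ = (α * alt t (fun i => (l i : ℕ))) * (β * alt s (fun i => (l i : ℕ))) := by
        rw [e1, e2]; ring
    _ = _ := by ring

/-- Rotation argument: the alcove sum vanishes when `α β ≠ 1`. -/
theorem sum_alcove_rotation {n N : ℕ} (hN : 0 < N) (t s : Fin (n + 2) → ℂ) (α β : ℂ)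
    (hprod : (∏ j, t j) * (∏ j, s j) = 1) (ht : ∀ j, t j ^ N = α) (hs : ∀ j, s j ^ N = β)
    (hω : α * β ≠ 1) :
    ∑ l ∈ alcove (n + 2) N, alt t (fun i => (l i : ℕ)) * alt s (fun i => (l i : ℕ)) = 0 := by
  have hsurj : Set.SurjOn (rot (n := n) hN) (alcove (n + 2) N : Set (Fin (n + 2) → Fin N))
      (alcove (n + 2) N : Set (Fin (n + 2) → Fin N)) :=
    Finset.surjOn_of_injOn_of_card_le _ (fun l hl => rot_mem hN l hl) (rot_injOn hN) le_rfl
  have h1 : ∑ l ∈ alcove (n + 2) N,
      alt t (fun i => (rot hN l i : ℕ)) * alt s (fun i => (rot hN l i : ℕ)) =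
      ∑ l ∈ alcove (n + 2) N, alt t (fun i => (l i : ℕ)) * alt s (fun i => (l i : ℕ)) :=
    Finset.sum_nbij (rot hN) (fun l hl => rot_mem hN l hl) (rot_injOn hN) hsurj
      (fun l _ => rfl)
  rw [Finset.sum_congr rfl (fun l hl => alt_rot hN l hl t s α β hprod ht hs),
    ← Finset.mul_sum] at h1
  have h2 : (α * β - 1) * ∑ l ∈ alcove (n + 2) N,
      alt t (fun i => (l i : ℕ)) * alt s (fun i => (l i : ℕ)) = 0 := by
    rw [sub_mul, h1, one_mul, sub_self]
  exact (mul_eq_zero.mp h2).resolve_left (sub_ne_zero.mpr hω)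

/-! ### The case `ω = 1`: matchings -/

lemma matched_of_all_others {r : ℕ} (t s : Fin r → ℂ)
    (hprod : (∏ j, t j) * (∏ j, s j) = 1)
    (hcol : ∀ j₁ j₂ j', t j₁ * s j' = 1 → t j₂ * s j' = 1 → j₁ = j₂)
    (j₀ : Fin r) (h : ∀ j, j ≠ j₀ → ∃ j', t j * s j' = 1) : ∃ j', t j₀ * s j' = 1 := by
  classical
  haveI : Nonempty (Fin r) := ⟨j₀⟩
  choose! m hm using h
  have hinj : Set.InjOn m ((univ.erase j₀ : Finset (Fin r)) : Set (Fin r)) := by
    intro a ha b hb hab
    simp only [Finset.coe_erase, Finset.coe_univ, Set.mem_diff, Set.mem_univ,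
      Set.mem_singleton_iff, true_and] at ha hb
    exact hcol a b (m a) (hm a ha) (by rw [hab]; exact hm b hb)
  have hcard : ((univ.erase j₀).image m).card = r - 1 := by
    rw [Finset.card_image_of_injOn hinj, Finset.card_erase_of_mem (Finset.mem_univ _),
      Finset.card_univ, Fintype.card_fin]
  have hcompl : (univ \ (univ.erase j₀).image m).card = 1 := by
    rw [Finset.card_sdiff_of_subset (Finset.subset_univ _), Finset.card_univ, Fintype.card_fin,
      hcard]
    have := j₀.2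
    omega
  obtain ⟨j₀', hj₀'⟩ := Finset.card_eq_one.mp hcompl
  have hj₀'mem : j₀' ∉ (univ.erase j₀).image m := by
    have : j₀' ∈ univ \ (univ.erase j₀).image m := by rw [hj₀']; simp
    exact (Finset.mem_sdiff.mp this).2
  have hσinj : Function.Injective (Function.update m j₀ j₀') := by
    intro a b hab
    by_cases ha : a = j₀ <;> by_cases hb : b = j₀
    · rw [ha, hb]
    · exfalso
      rw [ha, Function.update_self, Function.update_of_ne hb] at hab
      apply hj₀'mem
      rw [Finset.mem_image]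
      exact ⟨b, by simp [hb], hab.symm⟩
    · exfalso
      rw [hb, Function.update_self, Function.update_of_ne ha] at hab
      apply hj₀'mem
      rw [Finset.mem_image]
      exact ⟨a, by simp [ha], hab⟩
    · rw [Function.update_of_ne ha, Function.update_of_ne hb] at hab
      exact hinj (by simp [ha]) (by simp [hb]) hab
  let σ : Equiv.Perm (Fin r) :=
    Equiv.ofBijective _ (Finite.injective_iff_bijective.mp hσinj)
  have h1 : ∏ j, (t j * s (σ j)) = 1 := by
    rw [Finset.prod_mul_distrib, Equiv.prod_comp σ s, hprod]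
  have h2 : ∏ j, (t j * s (σ j)) = t j₀ * s j₀' := by
    rw [← Finset.mul_prod_erase univ _ (Finset.mem_univ j₀)]
    have h3 : ∏ j ∈ univ.erase j₀, (t j * s (σ j)) = 1 := by
      apply Finset.prod_eq_one
      intro j hj
      have hj' : j ≠ j₀ := (Finset.mem_erase.mp hj).1
      change t j * s (Function.update m j₀ j₀' j) = 1
      rw [Function.update_of_ne hj']
      exact hm j hj'
    rw [h3, mul_one]
    change t j₀ * s (Function.update m j₀ j₀' j₀) = _
    rw [Function.update_self]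
  exact ⟨j₀', by rw [← h2, h1]⟩

theorem sum_alcove_matching {r N : ℕ} (hr : 1 ≤ r) (hN : 1 ≤ N) (t s : Fin r → ℂ)
    (hprod : (∏ j, t j) * (∏ j, s j) = 1) (hroot : ∀ j j', (t j * s j') ^ N = 1)
    (hcol : ∀ j₁ j₂ j', t j₁ * s j' = 1 → t j₂ * s j' = 1 → j₁ = j₂)
    (hunm : ∃ j₀, ∀ j', t j₀ * s j' ≠ 1) :
    ∑ l ∈ alcove r N, alt t (fun i => (l i : ℕ)) * alt s (fun i => (l i : ℕ)) = 0 := by
  obtain ⟨j₀, hj₀⟩ := hunm
  obtain ⟨j₁, hj₁ne, hj₁⟩ : ∃ j₁, j₁ ≠ j₀ ∧ ∀ j', t j₁ * s j' ≠ 1 := by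
    by_contra hcon
    push Not at hcon
    obtain ⟨j', hj'⟩ := matched_of_all_others t s hprod hcol j₀ hcon
    exact hj₀ j' hj'
  unfold alcove
  rw [sum_alcove_alt hr]
  have hK : (Matrix.of fun j j' : Fin r => ∑ l : Fin N, (t j * s j') ^ (l : ℕ)).det = 0 := by
    apply Matrix.det_eq_zero_of_row_eq_zero j₀
    intro j'
    simp only [Matrix.of_apply]
    rw [geom_sum_root _ (hroot j₀ j'), if_neg (hj₀ j')]
  have hK0 : (Matrix.of fun j j' : Fin r =>
      ∑ l : Fin N, w0 N l * (t j * s j') ^ (l : ℕ)).det = 0 := by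
    apply Matrix.det_zero_of_row_eq hj₁ne
    funext j'
    simp only [Matrix.of_apply]
    rw [sum_w0_mul hN, sum_w0_mul hN, geom_sum_root _ (hroot j₀ j'),
      geom_sum_root _ (hroot j₁ j'), if_neg (hj₀ j'), if_neg (hj₁ j')]
  rw [hK, hK0, sub_zero]

/-! ### Arithmetic: a complete matching forces a constant difference -/

lemma int_mul_eq_zero_of_abs_lt {k N : ℤ} (hN : 0 < N) (h1 : -N < k * N) (h2 : k * N < N) :
    k = 0 := by
  by_contra hk
  rcases lt_or_gt_of_ne hk with h | h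
  · have : k ≤ -1 := by omega
    nlinarith
  · have : 1 ≤ k := by omega
    nlinarith

lemma const_of_all_matched {r N : ℕ} (hr : 1 ≤ r) (hN : 1 ≤ N) (a b : Fin r → ℕ)
    (ha : StrictAnti a) (hb : StrictAnti b) (haN : ∀ i, a i < N) (hbN : ∀ i, b i < N)
    (h : ∀ j, ∃ j', ∃ n : ℤ, (r : ℤ) * ((a j : ℤ) - (b j' : ℤ)) -
      ((∑ i, (a i : ℤ)) - ∑ i, (b i : ℤ)) = n * ((r : ℤ) * N)) :
    ∃ c : ℤ, ∀ i, (a i : ℤ) - (b i : ℤ) = c := by
  classical
  choose m n hmn using h
  have hrpos : (0 : ℤ) < r := by exact_mod_cast hr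
  have hNpos : (0 : ℤ) < N := by exact_mod_cast hN
  have hminj : Function.Injective m := by
    intro j₁ j₂ h12
    have e1 := hmn j₁
    have e2 := hmn j₂
    rw [h12] at e1
    have e3 : (r : ℤ) * (((a j₁ : ℤ) - a j₂) - (n j₁ - n j₂) * N) = 0 := by
      linear_combination e1 - e2
    have e4 : ((a j₁ : ℤ) - a j₂) = (n j₁ - n j₂) * N := by
      have := (mul_eq_zero.mp e3).resolve_left hrpos.ne'
      linarith
    have h1 : ((a j₁ : ℕ) : ℤ) < N := by exact_mod_cast haN j₁
    have h2 : ((a j₂ : ℕ) : ℤ) < N := by exact_mod_cast haN j₂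
    have h3 : (0 : ℤ) ≤ a j₁ := by positivity
    have h4 : (0 : ℤ) ≤ a j₂ := by positivity
    have e5 : n j₁ - n j₂ = 0 :=
      int_mul_eq_zero_of_abs_lt hNpos (by rw [← e4]; linarith) (by rw [← e4]; linarith)
    rw [e5, zero_mul] at e4
    have : a j₁ = a j₂ := by
      have : (a j₁ : ℤ) = a j₂ := by linarith
      exact_mod_cast this
    exact ha.injective this
  let σ : Equiv.Perm (Fin r) := Equiv.ofBijective m (Finite.injective_iff_bijective.mp hminj)
  have hsumb : ∑ j, (b (m j) : ℤ) = ∑ j, (b j : ℤ) :=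
    Equiv.sum_comp σ (fun j => (b j : ℤ))
  have hsum : ∑ j, n j = 0 := by
    have e1 : ∑ j : Fin r, ((r : ℤ) * ((a j : ℤ) - (b (m j) : ℤ)) -
        ((∑ i, (a i : ℤ)) - ∑ i, (b i : ℤ))) = ∑ j : Fin r, n j * ((r : ℤ) * N) :=
      Finset.sum_congr rfl fun j _ => hmn j
    rw [Finset.sum_sub_distrib, ← Finset.mul_sum, Finset.sum_sub_distrib, hsumb,
      Finset.sum_const, Finset.card_univ, Fintype.card_fin, ← Finset.sum_mul] at e1
    have e2 : (∑ j, n j) * ((r : ℤ) * N) = 0 := by
      rw [← e1]; simp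
    exact (mul_eq_zero.mp e2).resolve_right (mul_pos hrpos hNpos).ne'
  set j0 : Fin r := ⟨0, hr⟩ with hj0
  set c : ℤ := (a j0 : ℤ) - b (m j0) - n j0 * N with hc
  have hc' : ∀ j, (a j : ℤ) - b (m j) = c + n j * N := by
    intro j
    have e1 := hmn j
    have e2 := hmn j0
    have e3 : (r : ℤ) * (((a j : ℤ) - b (m j) - n j * N) - c) = 0 := by
      rw [hc]; linear_combination e1 - e2
    have := (mul_eq_zero.mp e3).resolve_left hrpos.ne'
    linarith
  have hbound : ∀ j, -(N : ℤ) < (a j : ℤ) - b (m j) ∧ (a j : ℤ) - b (m j) < N := by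
    intro j
    have h1 : ((a j : ℕ) : ℤ) < N := by exact_mod_cast haN j
    have h2 : ((b (m j) : ℕ) : ℤ) < N := by exact_mod_cast hbN (m j)
    have h3 : (0 : ℤ) ≤ a j := by positivity
    have h4 : (0 : ℤ) ≤ b (m j) := by positivity
    constructor <;> linarith
  have hn0 : ∀ j, n j = 0 := by
    rcases le_or_gt 0 c with hc0 | hc0
    · have hnonpos : ∀ j ∈ (univ : Finset (Fin r)), n j ≤ 0 := by
        intro j _
        have := (hbound j).2
        rw [hc' j] at this
        by_contra hpos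
        push Not at hpos
        have : 1 ≤ n j := by omega
        nlinarith
      intro j
      exact (Finset.sum_eq_zero_iff_of_nonpos hnonpos).mp hsum j (Finset.mem_univ j)
    · have hnonneg : ∀ j ∈ (univ : Finset (Fin r)), 0 ≤ n j := by
        intro j _
        have := (hbound j).1
        rw [hc' j] at this
        by_contra hneg
        push Not at hneg
        have : n j ≤ -1 := by omega
        nlinarith
      intro j
      exact (Finset.sum_eq_zero_iff_of_nonneg hnonneg).mp hsum j (Finset.mem_univ j)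
  have hab : ∀ j, (a j : ℤ) = b (m j) + c := by
    intro j
    have := hc' j
    rw [hn0 j, zero_mul, add_zero] at this
    linarith
  have hmono : StrictMono m := by
    intro j₁ j₂ h12
    have h1 : a j₂ < a j₁ := ha h12
    have h2 : (b (m j₂) : ℤ) < b (m j₁) := by
      have e1 := hab j₁
      have e2 := hab j₂
      have : (a j₂ : ℤ) < a j₁ := by exact_mod_cast h1
      linarith
    have h3 : b (m j₂) < b (m j₁) := by exact_mod_cast h2
    exact (StrictAnti.lt_iff_gt hb).mp h3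
  have hid : ∀ j, m j = j := fun j => le_antisymm hmono.apply_le hmono.le_apply
  exact ⟨c, fun i => by have := hab i; rw [hid i] at this; linarith⟩

/-! ### The exponential `θ(x) = exp(2πi x)` -/

/-- `θ(x) = exp(2πi x)` -/
noncomputable def th (x : ℂ) : ℂ := Complex.exp (2 * Real.pi * Complex.I * x)

lemma th_add (x y : ℂ) : th (x + y) = th x * th y := by
  unfold th; rw [← Complex.exp_add]; congr 1; ring

lemma th_neg (x : ℂ) : th (-x) = (th x)⁻¹ := by
  unfold th; rw [← Complex.exp_neg]; congr 1; ring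

lemma th_ne_zero (x : ℂ) : th x ≠ 0 := Complex.exp_ne_zero _

lemma th_int (n : ℤ) : th n = 1 := by
  unfold th
  rw [← Complex.exp_int_mul_two_pi_mul_I n]
  congr 1; ring

lemma th_nat (n : ℕ) : th n = 1 := by
  have := th_int n
  simpa using this

lemma th_pow (x : ℂ) (m : ℕ) : th x ^ m = th (m * x) := by
  unfold th; rw [← Complex.exp_nat_mul]; congr 1; ring

lemma th_sum {ι : Type*} (s : Finset ι) (f : ι → ℂ) : ∏ i ∈ s, th (f i) = th (∑ i ∈ s, f i) := by
  unfold th
  rw [← Complex.exp_sum, Finset.mul_sum]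

lemma th_eq_one_iff (x : ℂ) : th x = 1 ↔ ∃ n : ℤ, x = n := by
  unfold th
  rw [Complex.exp_eq_one_iff]
  have h2 : (2 * (Real.pi : ℂ) * Complex.I) ≠ 0 := by
    simp [Real.pi_ne_zero]
  constructor
  · rintro ⟨n, hn⟩
    refine ⟨n, ?_⟩
    have : (2 * (Real.pi : ℂ) * Complex.I) * x = (2 * (Real.pi : ℂ) * Complex.I) * n := by
      rw [hn]; ring
    exact mul_left_cancel₀ h2 this
  · rintro ⟨n, hn⟩
    exact ⟨n, by rw [hn]; ring⟩

/-! ### The core orthogonality theorem -/

lemma col_inj_of_eqs {r N : ℕ} (hr : 1 ≤ r) (hN : 1 ≤ N) (a : Fin r → ℕ)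
    (ha : StrictAnti a) (haN : ∀ i, a i < N) (j₁ j₂ : Fin r) (x D n₁ n₂ : ℤ)
    (e1 : (r : ℤ) * ((a j₁ : ℤ) - x) - D = n₁ * ((r : ℤ) * N))
    (e2 : (r : ℤ) * ((a j₂ : ℤ) - x) - D = n₂ * ((r : ℤ) * N)) : j₁ = j₂ := by
  have hrpos : (0 : ℤ) < r := by exact_mod_cast hr
  have hNpos : (0 : ℤ) < N := by exact_mod_cast hN
  have e3 : (r : ℤ) * (((a j₁ : ℤ) - a j₂) - (n₁ - n₂) * N) = 0 := by
    linear_combination e1 - e2
  have e4 : ((a j₁ : ℤ) - a j₂) = (n₁ - n₂) * N := by
    have := (mul_eq_zero.mp e3).resolve_left hrpos.ne'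
    linarith
  have h1 : ((a j₁ : ℕ) : ℤ) < N := by exact_mod_cast haN j₁
  have h2 : ((a j₂ : ℕ) : ℤ) < N := by exact_mod_cast haN j₂
  have h3 : (0 : ℤ) ≤ a j₁ := by positivity
  have h4 : (0 : ℤ) ≤ a j₂ := by positivity
  have e5 : n₁ - n₂ = 0 :=
    int_mul_eq_zero_of_abs_lt hNpos (by rw [← e4]; linarith) (by rw [← e4]; linarith)
  rw [e5, zero_mul] at e4
  have : a j₁ = a j₂ := by
    have : (a j₁ : ℤ) = a j₂ := by linarith
    exact_mod_cast this
  exact ha.injective this

theorem core_orthogonality {r N : ℕ} (hr : 1 ≤ r) (hN : 1 ≤ N) (a b : Fin r → ℕ)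
    (ha : StrictAnti a) (hb : StrictAnti b) (haN : ∀ i, a i < N) (hbN : ∀ i, b i < N)
    (hne : ¬ ∃ c : ℤ, ∀ i, (a i : ℤ) - (b i : ℤ) = c) :
    ∑ l ∈ alcove r N,
      th (-(((∑ i, a i : ℕ) : ℂ) - ((∑ i, b i : ℕ) : ℂ)) / ((r : ℂ) * N)) ^ (∑ i, (l i : ℕ)) *
      (alt (fun j => th (1 / (N : ℂ)) ^ a j) (fun i => (l i : ℕ)) *
       alt (fun j => (th (1 / (N : ℂ)))⁻¹ ^ b j) (fun i => (l i : ℕ))) = 0 := by
  classical
  have hRne : (r : ℂ) ≠ 0 := by
    have : r ≠ 0 := by omega
    exact_mod_cast this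
  have hNne : (N : ℂ) ≠ 0 := by
    have : N ≠ 0 := by omega
    exact_mod_cast this
  set A : ℂ := ((∑ i, a i : ℕ) : ℂ) with hA
  set B : ℂ := ((∑ i, b i : ℕ) : ℂ) with hB
  set t : Fin r → ℂ := fun j => th (((r : ℂ) * a j - A) / ((r : ℂ) * N)) with ht
  set s : Fin r → ℂ := fun j => th (-((r : ℂ) * b j - B) / ((r : ℂ) * N)) with hs
  have ht' : t = fun j => th (-A / ((r : ℂ) * N)) * th (1 / (N : ℂ)) ^ a j := by
    funext j
    simp only [ht]
    rw [th_pow, ← th_add]
    congr 1
    field_simp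
    ring
  have hs' : s = fun j => th (B / ((r : ℂ) * N)) * (th (1 / (N : ℂ)))⁻¹ ^ b j := by
    funext j
    simp only [hs]
    rw [← th_neg, th_pow, ← th_add]
    congr 1
    field_simp
    ring
  have hsummand : ∀ l : Fin r → Fin N,
      th (-(A - B) / ((r : ℂ) * N)) ^ (∑ i, (l i : ℕ)) *
      (alt (fun j => th (1 / (N : ℂ)) ^ a j) (fun i => (l i : ℕ)) *
       alt (fun j => (th (1 / (N : ℂ)))⁻¹ ^ b j) (fun i => (l i : ℕ))) =
      alt t (fun i => (l i : ℕ)) * alt s (fun i => (l i : ℕ)) := by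
    intro l
    rw [ht', hs', alt_smul, alt_smul]
    have : th (-(A - B) / ((r : ℂ) * N)) = th (-A / ((r : ℂ) * N)) * th (B / ((r : ℂ) * N)) := by
      rw [← th_add]; congr 1; ring
    rw [this, mul_pow]
    ring
  rw [Finset.sum_congr rfl (fun l _ => hsummand l)]
  -- products
  have hsumA : ∑ j : Fin r, ((a j : ℕ) : ℂ) = A := by rw [hA]; push_cast; rfl
  have hsumB : ∑ j : Fin r, ((b j : ℕ) : ℂ) = B := by rw [hB]; push_cast; rfl
  have hprodt : ∏ j, t j = 1 := by
    simp only [ht]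
    rw [th_sum, ← Finset.sum_div, Finset.sum_sub_distrib, ← Finset.mul_sum, hsumA,
      Finset.sum_const, Finset.card_univ, Fintype.card_fin, nsmul_eq_mul, sub_self, zero_div]
    have := th_int 0
    simpa using this
  have hprods : ∏ j, s j = 1 := by
    simp only [hs]
    rw [th_sum, ← Finset.sum_div, Finset.sum_neg_distrib, Finset.sum_sub_distrib,
      ← Finset.mul_sum, hsumB,
      Finset.sum_const, Finset.card_univ, Fintype.card_fin, nsmul_eq_mul, sub_self, neg_zero,
      zero_div]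
    have := th_int 0
    simpa using this
  have hprod : (∏ j, t j) * (∏ j, s j) = 1 := by rw [hprodt, hprods, one_mul]
  have htN : ∀ j, t j ^ N = th (-A / r) := by
    intro j
    simp only [ht]
    rw [th_pow]
    have : (N : ℂ) * (((r : ℂ) * a j - A) / ((r : ℂ) * N)) = (a j : ℂ) + (-A / r) := by
      field_simp
      ring
    rw [this, th_add, th_nat, one_mul]
  have hsN : ∀ j, s j ^ N = th (B / r) := by
    intro j
    simp only [hs]
    rw [th_pow]
    have : (N : ℂ) * (-((r : ℂ) * b j - B) / ((r : ℂ) * N)) = -(b j : ℂ) + (B / r) := by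
      field_simp
      ring
    rw [this, th_add, th_neg, th_nat, inv_one, one_mul]
  -- matching criterion
  have hE : ∀ j j', t j * s j' = 1 ↔ ∃ n : ℤ, (r : ℤ) * ((a j : ℤ) - (b j' : ℤ)) -
      ((∑ i, (a i : ℤ)) - ∑ i, (b i : ℤ)) = n * ((r : ℤ) * N) := by
    intro j j'
    simp only [ht, hs]
    rw [← th_add, th_eq_one_iff]
    have hne2 : (r : ℂ) * N ≠ 0 := mul_ne_zero hRne hNne
    have key : ((r : ℂ) * a j - A) / ((r : ℂ) * N) + -((r : ℂ) * b j' - B) / ((r : ℂ) * N) =
        (((r : ℤ) * ((a j : ℤ) - (b j' : ℤ)) -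
          ((∑ i, (a i : ℤ)) - ∑ i, (b i : ℤ)) : ℤ) : ℂ) / ((r : ℂ) * N) := by
      rw [hA, hB]
      push_cast
      ring
    rw [key]
    constructor
    · rintro ⟨n, hn⟩
      refine ⟨n, ?_⟩
      rw [div_eq_iff hne2] at hn
      have : (((r : ℤ) * ((a j : ℤ) - (b j' : ℤ)) -
          ((∑ i, (a i : ℤ)) - ∑ i, (b i : ℤ)) : ℤ) : ℂ) = ((n * ((r : ℤ) * N) : ℤ) : ℂ) := by
        rw [hn]; push_cast; ring
      exact_mod_cast this
    · rintro ⟨n, hn⟩
      refine ⟨n, ?_⟩
      rw [div_eq_iff hne2, hn]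
      push_cast
      ring
  have hcol : ∀ j₁ j₂ j', t j₁ * s j' = 1 → t j₂ * s j' = 1 → j₁ = j₂ := by
    intro j₁ j₂ j' h1 h2
    obtain ⟨n₁, e1⟩ := (hE j₁ j').mp h1
    obtain ⟨n₂, e2⟩ := (hE j₂ j').mp h2
    exact col_inj_of_eqs hr hN a ha haN j₁ j₂ (b j') _ n₁ n₂ e1 e2
  by_cases hω : th (-A / r) * th (B / r) = 1
  · -- the matching case
    have hroot : ∀ j j', (t j * s j') ^ N = 1 := by
      intro j j'
      rw [mul_pow, htN, hsN, hω]
    have hunm : ∃ j₀, ∀ j', t j₀ * s j' ≠ 1 := by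
      by_contra hcon
      push Not at hcon
      apply hne
      apply const_of_all_matched hr hN a b ha hb haN hbN
      intro j
      obtain ⟨j', hj'⟩ := hcon j
      exact ⟨j', (hE j j').mp hj'⟩
    exact sum_alcove_matching hr hN t s hprod hroot hcol hunm
  · -- the rotation case
    have hr2 : 2 ≤ r := by
      by_contra h
      have h1 : r = 1 := by omega
      subst h1
      exact hne ⟨(a 0 : ℤ) - b 0, fun i => by rw [Subsingleton.elim i 0]⟩
    obtain ⟨n, rfl⟩ : ∃ n, r = n + 2 := ⟨r - 2, by omega⟩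
    exact sum_alcove_rotation (by omega) t s _ _ hprod htN hsN hω

lemma alt_perm_points {r : ℕ} (x : Fin r → ℂ) (l : Fin r → ℕ) (π : Equiv.Perm (Fin r)) :
    alt (x ∘ π) l = Equiv.Perm.sign π * alt x l := by
  unfold alt
  rw [← Matrix.det_permute' π]
  rfl

lemma th_add_one (x : ℂ) : th (x + 1) = th x := by
  rw [th_add]
  have := th_int 1
  simp only [Int.cast_one] at this
  rw [this, mul_one]

lemma sum_delta_mul_two (r : ℕ) : (∑ i : Fin r, (r - 1 - (i : ℕ))) * 2 = r * (r - 1) := by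
  rw [Fin.sum_univ_eq_sum_range (fun i => r - 1 - i) r, Finset.sum_range_reflect (fun i => i) r,
    Finset.sum_range_id_mul_two]

end Groth.Agent.Lib.Helper27.Verlinde
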