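import Mathlib
import Groth.Prelude.Def_EtRam
import Groth.Agent.Lib.Helper27.WU6

/-! Weakly unramified with separable residue extension ⇒ every finite extension is a solution. -/

set_option autoImplicit false

namespace Groth.Agent.Lib.Helper27.WU
open IsLocalRing TensorProduct

universe u

theorem sol_main (A B K L : Type u) [CommRing A] [IsDomain A] [IsDiscreteValuationRing A]
    [CommRing B] [IsDomain B] [IsDiscreteValuationRing B] [Algebra A B] [IsLocalHom (algebraMap A B)]
    [Field K] [Field L] [Algebra A K] [IsFractionRing A K] [Algebra B L] [IsFractionRing B L]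
    [Algebra K L] [Algebra A L] [IsScalarTower A K L] [IsScalarTower A B L]
    (hw : EtRam.IsWeaklyUnramified A B)
    [Algebra.IsGeometricallyReduced (IsLocalRing.ResidueField A) (IsLocalRing.ResidueField B)]
    (K₁ : Type u) [Field K₁] [Algebra K K₁] [FiniteDimensional K K₁] :
    EtRam.IsSolution B K L K₁ := by
  classical
  intro M _ _ _ _ _ _ hgen W hW
  letI algAK₁ : Algebra A K₁ := ((algebraMap K K₁).comp (algebraMap A K)).toAlgebra
  haveI : IsScalarTower A K K₁ := .of_algebraMap_eq fun _ => rfl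
  letI algBM : Algebra B M := ((algebraMap L M).comp (algebraMap B L)).toAlgebra
  haveI : IsScalarTower B L M := .of_algebraMap_eq fun _ => rfl
  letI algAM : Algebra A M := ((algebraMap B M).comp (algebraMap A B)).toAlgebra
  haveI : IsScalarTower A B M := .of_algebraMap_eq fun _ => rfl
  have hAM : ∀ a : A, algebraMap A M a = algebraMap K₁ M (algebraMap A K₁ a) := by
    intro a
    show algebraMap L M (algebraMap B L (algebraMap A B a)) =
      algebraMap K₁ M (algebraMap K K₁ (algebraMap A K a))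
    rw [← IsScalarTower.algebraMap_apply A B L, IsScalarTower.algebraMap_apply A K L,
      ← IsScalarTower.algebraMap_apply K L M, IsScalarTower.algebraMap_apply K K₁ M]
  haveI : IsScalarTower A K₁ M := .of_algebraMap_eq hAM
  have hWA : EtRam.Dominates A (algebraMap A M) W := by
    refine ⟨fun a => hW.1 (algebraMap A B a), fun a ha => hW.2 _ ?_⟩
    exact (mem_maximalIdeal _).mpr (map_nonunit (algebraMap A B) a ((mem_maximalIdeal a).mp ha))
  have hV₁ : EtRam.Dominates A (algebraMap A K₁) (W.comap (algebraMap K₁ M)) :=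
    TT.dominates_comap hWA
  letI algAV₁ : Algebra A (W.comap (algebraMap K₁ M)) :=
    (RingHom.codRestrict (algebraMap A K₁) (W.comap (algebraMap K₁ M)) hV₁.1).toAlgebra
  haveI hlocV₁ : IsLocalHom (algebraMap A (W.comap (algebraMap K₁ M))) :=
    TT.isLocalHom_of_dominates hV₁ (fun _ => rfl)
  haveI : IsDiscreteValuationRing (W.comap (algebraMap K₁ M)) :=
    isDVR_of_dominates_finite (K := K) hV₁
  obtain ⟨π₁, hπ₁⟩ := IsDiscreteValuationRing.exists_irreducible (W.comap (algebraMap K₁ M))
  letI algBW : Algebra B W := (RingHom.codRestrict (algebraMap B M) W hW.1).toAlgebra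
  haveI hlocBW : IsLocalHom (algebraMap B W) := TT.isLocalHom_of_dominates hW (fun _ => rfl)
  letI algV₁W : Algebra (W.comap (algebraMap K₁ M)) W :=
    (EtRam.inclOfComap W (algebraMap K₁ M)).toAlgebra
  haveI hlocV₁W : IsLocalHom (algebraMap (W.comap (algebraMap K₁ M)) W) :=
    EtRam.isLocalHom_inclOfComap W _
  letI algAW : Algebra A W := ((algebraMap B W).comp (algebraMap A B)).toAlgebra
  haveI : IsScalarTower A B W := .of_algebraMap_eq fun _ => rfl
  haveI : IsScalarTower A (W.comap (algebraMap K₁ M)) W :=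
    .of_algebraMap_eq fun a => Subtype.ext (hAM a)
  haveI : Algebra.IsAlgebraic (ResidueField A) (ResidueField (W.comap (algebraMap K₁ M))) :=
    residue_isAlgebraic (K := K) (fun _ => rfl)
  -- `M` is algebraic over `L`
  haveI hintLM : Algebra.IsIntegral L M := by
    refine ⟨fun y => ?_⟩
    have hy : y ∈ Algebra.adjoin L (Set.range (algebraMap K₁ M)) := by rw [hgen]; trivial
    induction hy using Algebra.adjoin_induction with
    | mem y hy =>
      obtain ⟨x, rfl⟩ := hy
      have h1 : IsIntegral K (algebraMap K₁ M x) :=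
        (Algebra.IsIntegral.isIntegral (R := K) x).algebraMap
      exact h1.tower_top (A := L)
    | algebraMap l => exact isIntegral_algebraMap
    | add y z _ _ hy hz => exact hy.add hz
    | mul y z _ _ hy hz => exact hy.mul hz
  -- separatedness
  have hinjAK₁ : Function.Injective (algebraMap A K₁) := ASR.algebraMap_AL_injective A K K₁
  obtain ⟨πA, hπA⟩ := IsDiscreteValuationRing.exists_irreducible A
  obtain ⟨πB, hπB⟩ := IsDiscreteValuationRing.exists_irreducible B
  have hsep : ∀ x : W, x ≠ 0 →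
      ∃ n : ℕ, x ∉ Ideal.span {(algebraMap (W.comap (algebraMap K₁ M)) W π₁) ^ n} := by
    have hπA0 : algebraMap A (W.comap (algebraMap K₁ M)) πA ≠ 0 := by
      intro h0
      have : algebraMap A K₁ πA = 0 := congrArg Subtype.val h0
      exact hπA.ne_zero (hinjAK₁ (by rw [this, map_zero]))
    obtain ⟨e₁, u₁, hu₁⟩ := IsDiscreteValuationRing.eq_unit_mul_pow_irreducible hπA0 hπ₁
    have hπAB : algebraMap A B πA ∈ maximalIdeal B :=
      (mem_maximalIdeal _).mpr (map_nonunit (algebraMap A B) πA hπA.not_isUnit)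
    rw [hπB.maximalIdeal_eq, Ideal.mem_span_singleton] at hπAB
    obtain ⟨b', hb'⟩ := hπAB
    refine sep (L := L) hW (algebraMap (W.comap (algebraMap K₁ M)) W π₁)
      (map_nonunit _ π₁ hπ₁.not_isUnit) πB hπB e₁
      (algebraMap B W b' * algebraMap (W.comap (algebraMap K₁ M)) W ((u₁⁻¹ : _ˣ) : _)) ?_
    have h1 : algebraMap (W.comap (algebraMap K₁ M)) W (algebraMap A _ πA) =
        algebraMap B W (algebraMap A B πA) := by
      rw [← IsScalarTower.algebraMap_apply A (W.comap (algebraMap K₁ M)) W,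
        ← IsScalarTower.algebraMap_apply A B W]
    have h2 : π₁ ^ e₁ = ((u₁⁻¹ : _ˣ) : (W.comap (algebraMap K₁ M))) * algebraMap A _ πA := by
      rw [hu₁, ← mul_assoc, Units.inv_mul, one_mul]
    rw [← map_pow, h2, map_mul, h1, hb', map_mul]
    show _ = algebraMap B W πB * _
    ring
  -- fractions
  let ψ : B ⊗[A] (W.comap (algebraMap K₁ M)) →ₐ[A] W :=
    Algebra.TensorProduct.productMap (IsScalarTower.toAlgHom A B W)
      (IsScalarTower.toAlgHom A (W.comap (algebraMap K₁ M)) W)
  let ψM : B ⊗[A] (W.comap (algebraMap K₁ M)) →+* M := W.subtype.comp ψ.toRingHom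
  have hψM : ∀ (b : B) (v : W.comap (algebraMap K₁ M)),
      ψM (b ⊗ₜ v) = algebraMap B M b * algebraMap K₁ M (v : K₁) := fun _ _ => rfl
  have hfracM : ∀ y : M, IsFrac ψM y := by
    intro y
    have hy : y ∈ Algebra.adjoin L (Set.range (algebraMap K₁ M)) := by rw [hgen]; trivial
    induction hy using Algebra.adjoin_induction with
    | mem y hy =>
      obtain ⟨x, rfl⟩ := hy
      obtain ⟨v₁, v₂, hv₂, rfl⟩ :=
        IsFractionRing.div_surjective (A := W.comap (algebraMap K₁ M)) x
      have hv₂0 : (v₂ : K₁) ≠ 0 := fun h0 => nonZeroDivisors.ne_zero hv₂ (Subtype.ext h0)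
      have e : algebraMap K₁ M (algebraMap _ K₁ v₁ / algebraMap _ K₁ v₂) =
          ψM ((1 : B) ⊗ₜ v₁) / ψM ((1 : B) ⊗ₜ v₂) := by
        rw [hψM, hψM, map_one, one_mul, one_mul, map_div₀]
        rfl
      rw [e]
      refine isFrac_div ?_
      rw [hψM, map_one, one_mul]
      exact (map_ne_zero _).mpr hv₂0
    | algebraMap l =>
      obtain ⟨b₁, b₂, hb₂, rfl⟩ := IsFractionRing.div_surjective (A := B) l
      have hb₂0 : algebraMap B L b₂ ≠ 0 := fun h0 =>
        nonZeroDivisors.ne_zero hb₂ (IsFractionRing.injective B L (by rw [h0, map_zero]))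
      have e : algebraMap L M (algebraMap B L b₁ / algebraMap B L b₂) =
          ψM (b₁ ⊗ₜ (1 : W.comap (algebraMap K₁ M))) /
            ψM (b₂ ⊗ₜ (1 : W.comap (algebraMap K₁ M))) := by
        rw [hψM, hψM, map_div₀]
        show _ = (algebraMap L M (algebraMap B L b₁) * algebraMap K₁ M 1) /
          (algebraMap L M (algebraMap B L b₂) * algebraMap K₁ M 1)
        rw [map_one, mul_one, mul_one]
      rw [e]
      refine isFrac_div ?_
      rw [hψM]
      show algebraMap L M (algebraMap B L b₂) * algebraMap K₁ M 1 ≠ 0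
      rw [map_one, mul_one]
      exact (map_ne_zero _).mpr hb₂0
    | add y z _ _ hy hz => exact hy.add hz
    | mul y z _ _ hy hz => exact hy.mul hz
  have hfrac : ∀ y : W, ∃ t₁ t₂ : B ⊗[A] (W.comap (algebraMap K₁ M)),
      ψ t₂ ≠ 0 ∧ y * ψ t₂ = ψ t₁ := by
    intro y
    obtain ⟨t₁, t₂, h2, h12⟩ := hfracM (y : M)
    exact ⟨t₁, t₂, fun h0 => h2 (by show ((ψ t₂ : W) : M) = 0; rw [h0]; rfl), Subtype.ext h12⟩
  obtain ⟨h1, h2⟩ := main_abstract hw π₁ hπ₁.maximalIdeal_eq hsep hfrac
  exact ⟨h1, h2 _ (fun v => ResidueField.map_residue _ _)⟩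

end Groth.Agent.Lib.Helper27.WU
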