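import Mathlib
import Groth.Prelude.Def_EtRam
import Groth.Agent.Lib.Helper27.WU7
import Groth.Agent.Lib.Helper27.WU15
import Groth.Agent.Lib.Helper27.WU8

/-! Abhyankar's lemma (valuation subring formulation). -/

set_option autoImplicit false

namespace Groth.Agent.Lib.Helper27.WU
open IsLocalRing TensorProduct

universe u

theorem tame_main (A B K L : Type u) [CommRing A] [IsDomain A] [IsDiscreteValuationRing A]
    [CommRing B] [IsDomain B] [IsDiscreteValuationRing B] [Algebra A B] [IsLocalHom (algebraMap A B)]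
    [Field K] [Field L] [Algebra A K] [IsFractionRing A K] [Algebra B L] [IsFractionRing B L]
    [Algebra K L] [Algebra A L] [IsScalarTower A K L] [IsScalarTower A B L]
    [Algebra.IsGeometricallyReduced (IsLocalRing.ResidueField A) (IsLocalRing.ResidueField B)]
    (he : ((Ideal.ramificationIdx' (IsLocalRing.maximalIdeal A) (IsLocalRing.maximalIdeal B) : ℕ) :
      IsLocalRing.ResidueField A) ≠ 0)
    (K₁ : Type u) [Field K₁] [Algebra K K₁] [FiniteDimensional K K₁] :
    EtRam.ForallLocalExt B K L K₁ (fun M _ W f =>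
      ∀ hA : ∀ a : A, (algebraMap K K₁) (algebraMap A K a) ∈ W.comap f,
        letI : Algebra A (W.comap f) := (RingHom.codRestrict ((algebraMap K K₁).comp (algebraMap A K)) (W.comap f) hA).toAlgebra
        letI : Algebra (W.comap f) W := (EtRam.inclOfComap W f).toAlgebra
        Ideal.ramificationIdx' (IsLocalRing.maximalIdeal A) (IsLocalRing.maximalIdeal B) ∣
          Ideal.ramificationIdx' (IsLocalRing.maximalIdeal A) (IsLocalRing.maximalIdeal (W.comap f)) →
        EtRam.IsWeaklyUnramified (W.comap f) W ∧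
          @Algebra.IsGeometricallyReduced (IsLocalRing.ResidueField (W.comap f)) (IsLocalRing.ResidueField W) _ _
            (IsLocalRing.ResidueField.map (EtRam.inclOfComap W f)).toAlgebra) := by
  classical
  intro M _ _ _ _ _ _ hgen W hW hA hdvd
  letI algAK₁ : Algebra A K₁ := ((algebraMap K K₁).comp (algebraMap A K)).toAlgebra
  haveI : IsScalarTower A K K₁ := .of_algebraMap_eq fun _ => rfl
  letI algBM : Algebra B M := ((algebraMap L M).comp (algebraMap B L)).toAlgebra
  haveI : IsScalarTower B L M := .of_algebraMap_eq fun _ => rfl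
  letI algAM : Algebra A M := ((algebraMap B M).comp (algebraMap A B)).toAlgebra
  haveI : IsScalarTower A B M := .of_algebraMap_eq fun _ => rfl
  have hAM : ∀ a : A, algebraMap A M a = algebraMap K₁ M (algebraMap A K₁ a) := by
    intro a
    show algebraMap L M (algebraMap B L (algebraMap A B a)) =
      algebraMap K₁ M (algebraMap K K₁ (algebraMap A K a))
    rw [← IsScalarTower.algebraMap_apply A B L, IsScalarTower.algebraMap_apply A K L,
      ← IsScalarTower.algebraMap_apply K L M, IsScalarTower.algebraMap_apply K K₁ M]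
  haveI : IsScalarTower A K₁ M := .of_algebraMap_eq hAM
  have hWA : EtRam.Dominates A (algebraMap A M) W := by
    refine ⟨fun a => hW.1 (algebraMap A B a), fun a ha => hW.2 _ ?_⟩
    exact (mem_maximalIdeal _).mpr (map_nonunit (algebraMap A B) a ((mem_maximalIdeal a).mp ha))
  have hV₁ : EtRam.Dominates A (algebraMap A K₁) (W.comap (algebraMap K₁ M)) :=
    TT.dominates_comap hWA
  letI algAV₁ : Algebra A (W.comap (algebraMap K₁ M)) :=
    (RingHom.codRestrict (algebraMap A K₁) (W.comap (algebraMap K₁ M)) hV₁.1).toAlgebra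
  haveI hlocV₁ : IsLocalHom (algebraMap A (W.comap (algebraMap K₁ M))) :=
    TT.isLocalHom_of_dominates hV₁ (fun _ => rfl)
  haveI : IsDiscreteValuationRing (W.comap (algebraMap K₁ M)) :=
    isDVR_of_dominates_finite (K := K) hV₁
  obtain ⟨π₁, hπ₁⟩ := IsDiscreteValuationRing.exists_irreducible (W.comap (algebraMap K₁ M))
  letI algBW : Algebra B W := (RingHom.codRestrict (algebraMap B M) W hW.1).toAlgebra
  haveI hlocBW : IsLocalHom (algebraMap B W) := TT.isLocalHom_of_dominates hW (fun _ => rfl)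
  letI algV₁W : Algebra (W.comap (algebraMap K₁ M)) W :=
    (EtRam.inclOfComap W (algebraMap K₁ M)).toAlgebra
  haveI hlocV₁W : IsLocalHom (algebraMap (W.comap (algebraMap K₁ M)) W) :=
    EtRam.isLocalHom_inclOfComap W _
  letI algAW : Algebra A W := ((algebraMap B W).comp (algebraMap A B)).toAlgebra
  haveI : IsScalarTower A B W := .of_algebraMap_eq fun _ => rfl
  haveI : IsScalarTower A (W.comap (algebraMap K₁ M)) W :=
    .of_algebraMap_eq fun a => Subtype.ext (hAM a)
  haveI : Algebra.IsAlgebraic (ResidueField A) (ResidueField (W.comap (algebraMap K₁ M))) :=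
    residue_isAlgebraic (K := K) (fun _ => rfl)
  -- `M` is algebraic over `L`
  haveI hintLM : Algebra.IsIntegral L M := by
    refine ⟨fun y => ?_⟩
    have hy : y ∈ Algebra.adjoin L (Set.range (algebraMap K₁ M)) := by rw [hgen]; trivial
    induction hy using Algebra.adjoin_induction with
    | mem y hy =>
      obtain ⟨x, rfl⟩ := hy
      have h1 : IsIntegral K (algebraMap K₁ M x) :=
        (Algebra.IsIntegral.isIntegral (R := K) x).algebraMap
      exact h1.tower_top (A := L)
    | algebraMap l => exact isIntegral_algebraMap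
    | add y z _ _ hy hz => exact hy.add hz
    | mul y z _ _ hy hz => exact hy.mul hz
  -- separatedness
  have hinjAK₁ : Function.Injective (algebraMap A K₁) := ASR.algebraMap_AL_injective A K K₁
  obtain ⟨πA, hπA⟩ := IsDiscreteValuationRing.exists_irreducible A
  obtain ⟨πB, hπB⟩ := IsDiscreteValuationRing.exists_irreducible B
  have hsep : ∀ x : W, x ≠ 0 →
      ∃ n : ℕ, x ∉ Ideal.span {(algebraMap (W.comap (algebraMap K₁ M)) W π₁) ^ n} := by
    have hπA0 : algebraMap A (W.comap (algebraMap K₁ M)) πA ≠ 0 := by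
      intro h0
      have : algebraMap A K₁ πA = 0 := congrArg Subtype.val h0
      exact hπA.ne_zero (hinjAK₁ (by rw [this, map_zero]))
    obtain ⟨e₁, u₁, hu₁⟩ := IsDiscreteValuationRing.eq_unit_mul_pow_irreducible hπA0 hπ₁
    have hπAB : algebraMap A B πA ∈ maximalIdeal B :=
      (mem_maximalIdeal _).mpr (map_nonunit (algebraMap A B) πA hπA.not_isUnit)
    rw [hπB.maximalIdeal_eq, Ideal.mem_span_singleton] at hπAB
    obtain ⟨b', hb'⟩ := hπAB
    refine sep (L := L) hW (algebraMap (W.comap (algebraMap K₁ M)) W π₁)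
      (map_nonunit _ π₁ hπ₁.not_isUnit) πB hπB e₁
      (algebraMap B W b' * algebraMap (W.comap (algebraMap K₁ M)) W ((u₁⁻¹ : _ˣ) : _)) ?_
    have h1 : algebraMap (W.comap (algebraMap K₁ M)) W (algebraMap A _ πA) =
        algebraMap B W (algebraMap A B πA) := by
      rw [← IsScalarTower.algebraMap_apply A (W.comap (algebraMap K₁ M)) W,
        ← IsScalarTower.algebraMap_apply A B W]
    have h2 : π₁ ^ e₁ = ((u₁⁻¹ : _ˣ) : (W.comap (algebraMap K₁ M))) * algebraMap A _ πA := by
      rw [hu₁, ← mul_assoc, Units.inv_mul, one_mul]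
    rw [← map_pow, h2, map_mul, h1, hb', map_mul]
    show _ = algebraMap B W πB * _
    ring
  -- fractions
  let ψ : B ⊗[A] (W.comap (algebraMap K₁ M)) →ₐ[A] W :=
    Algebra.TensorProduct.productMap (IsScalarTower.toAlgHom A B W)
      (IsScalarTower.toAlgHom A (W.comap (algebraMap K₁ M)) W)
  let ψM : B ⊗[A] (W.comap (algebraMap K₁ M)) →+* M := W.subtype.comp ψ.toRingHom
  have hψM : ∀ (b : B) (v : W.comap (algebraMap K₁ M)),
      ψM (b ⊗ₜ v) = algebraMap B M b * algebraMap K₁ M (v : K₁) := fun _ _ => rfl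
  have hfracM : ∀ y : M, IsFrac ψM y := by
    intro y
    have hy : y ∈ Algebra.adjoin L (Set.range (algebraMap K₁ M)) := by rw [hgen]; trivial
    induction hy using Algebra.adjoin_induction with
    | mem y hy =>
      obtain ⟨x, rfl⟩ := hy
      obtain ⟨v₁, v₂, hv₂, rfl⟩ :=
        IsFractionRing.div_surjective (A := W.comap (algebraMap K₁ M)) x
      have hv₂0 : (v₂ : K₁) ≠ 0 := fun h0 => nonZeroDivisors.ne_zero hv₂ (Subtype.ext h0)
      have e : algebraMap K₁ M (algebraMap _ K₁ v₁ / algebraMap _ K₁ v₂) =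
          ψM ((1 : B) ⊗ₜ v₁) / ψM ((1 : B) ⊗ₜ v₂) := by
        rw [hψM, hψM, map_one, one_mul, one_mul, map_div₀]
        rfl
      rw [e]
      refine isFrac_div ?_
      rw [hψM, map_one, one_mul]
      exact (map_ne_zero _).mpr hv₂0
    | algebraMap l =>
      obtain ⟨b₁, b₂, hb₂, rfl⟩ := IsFractionRing.div_surjective (A := B) l
      have hb₂0 : algebraMap B L b₂ ≠ 0 := fun h0 =>
        nonZeroDivisors.ne_zero hb₂ (IsFractionRing.injective B L (by rw [h0, map_zero]))
      have e : algebraMap L M (algebraMap B L b₁ / algebraMap B L b₂) =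
          ψM (b₁ ⊗ₜ (1 : W.comap (algebraMap K₁ M))) /
            ψM (b₂ ⊗ₜ (1 : W.comap (algebraMap K₁ M))) := by
        rw [hψM, hψM, map_div₀]
        show _ = (algebraMap L M (algebraMap B L b₁) * algebraMap K₁ M 1) /
          (algebraMap L M (algebraMap B L b₂) * algebraMap K₁ M 1)
        rw [map_one, mul_one, mul_one]
      rw [e]
      refine isFrac_div ?_
      rw [hψM]
      show algebraMap L M (algebraMap B L b₂) * algebraMap K₁ M 1 ≠ 0
      rw [map_one, mul_one]
      exact (map_ne_zero _).mpr hb₂0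
    | add y z _ _ hy hz => exact hy.add hz
    | mul y z _ _ hy hz => exact hy.mul hz
  have hfrac : ∀ y : W, ∃ t₁ t₂ : B ⊗[A] (W.comap (algebraMap K₁ M)),
      ψ t₂ ≠ 0 ∧ y * ψ t₂ = ψ t₁ := by
    intro y
    obtain ⟨t₁, t₂, h2, h12⟩ := hfracM (y : M)
    exact ⟨t₁, t₂, fun h0 => h2 (by show ((ψ t₂ : W) : M) = 0; rw [h0]; rfl), Subtype.ext h12⟩
  -- tame data
  have hinjAL : Function.Injective (algebraMap A L) := ASR.algebraMap_AL_injective A K L
  have hπAB0 : algebraMap A B πA ≠ 0 := by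
    intro h0
    have : algebraMap A L πA = 0 := by rw [IsScalarTower.algebraMap_apply A B L, h0, map_zero]
    exact hπA.ne_zero (hinjAL (by rw [this, map_zero]))
  obtain ⟨eB, uB, huB⟩ := IsDiscreteValuationRing.eq_unit_mul_pow_irreducible hπAB0 hπB
  have heB : Ideal.ramificationIdx' (maximalIdeal A) (maximalIdeal B) = eB :=
    ramificationIdx'_eq πA hπA.maximalIdeal_eq πB hπB eB uB huB
  have hπA0 : algebraMap A (W.comap (algebraMap K₁ M)) πA ≠ 0 := by
    intro h0
    have : algebraMap A K₁ πA = 0 := congrArg Subtype.val h0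
    exact hπA.ne_zero (hinjAK₁ (by rw [this, map_zero]))
  obtain ⟨e₁, u₁, hu₁⟩ := IsDiscreteValuationRing.eq_unit_mul_pow_irreducible hπA0 hπ₁
  have he₁ : Ideal.ramificationIdx' (maximalIdeal A)
      (maximalIdeal (W.comap (algebraMap K₁ M))) = e₁ :=
    ramificationIdx'_eq πA hπA.maximalIdeal_eq π₁ hπ₁ e₁ u₁ hu₁
  rw [heB] at he
  have hdvd' : eB ∣ e₁ := by rw [← heB, ← he₁]; exact hdvd
  obtain ⟨d, hd⟩ := hdvd'
  have heB0 : eB ≠ 0 := by
    rintro rfl
    exact he Nat.cast_zero
  have hd0 : d ≠ 0 := by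
    rintro rfl
    rw [mul_zero] at hd
    rw [hd, pow_zero, mul_one] at hu₁
    exact hπA.not_isUnit (isUnit_of_map_unit (algebraMap A (W.comap (algebraMap K₁ M))) πA
      (hu₁ ▸ u₁.isUnit))
  -- elements of `M`
  have hP0 : algebraMap K₁ M (π₁ : K₁) ≠ 0 := by
    apply (map_ne_zero _).mpr
    intro h0
    exact hπ₁.ne_zero (Subtype.ext h0)
  have hQ0 : algebraMap B M πB ≠ 0 := by
    intro h0
    have h1 : algebraMap L M (algebraMap B L πB) = 0 := h0
    exact hπB.ne_zero (IsFractionRing.injective B L ((map_eq_zero _).mp h1 ▸ (map_zero _).symm))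
  have hAMπ : algebraMap A M πA = algebraMap K₁ M ((u₁ : W.comap (algebraMap K₁ M)) : K₁) *
      algebraMap K₁ M (π₁ : K₁) ^ e₁ := by
    rw [hAM, ← map_pow, ← map_mul]
    exact congrArg _ (congrArg Subtype.val hu₁)
  have hAMπ' : algebraMap A M πA = algebraMap B M (uB : B) * algebraMap B M πB ^ eB := by
    rw [IsScalarTower.algebraMap_apply A B M, huB, map_mul, map_pow]
  let θM : M := algebraMap K₁ M (π₁ : K₁) ^ d / algebraMap B M πB
  have hθM : θM ^ eB * algebraMap K₁ M ((u₁ : W.comap (algebraMap K₁ M)) : K₁) =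
      algebraMap B M (uB : B) := by
    have h1 : (algebraMap K₁ M (π₁ : K₁) ^ d) ^ eB = algebraMap K₁ M (π₁ : K₁) ^ e₁ := by
      rw [← pow_mul, hd, mul_comm]
    show (algebraMap K₁ M (π₁ : K₁) ^ d / algebraMap B M πB) ^ eB * _ = _
    rw [div_pow, h1, div_mul_eq_mul_div, mul_comm, ← hAMπ, hAMπ',
      mul_div_assoc, div_self (pow_ne_zero _ hQ0), mul_one]
  have hu₁M0 : algebraMap K₁ M ((u₁ : W.comap (algebraMap K₁ M)) : K₁) ≠ 0 := by
    apply (map_ne_zero _).mpr
    intro h0
    exact u₁.ne_zero (Subtype.ext h0)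
  have hθM0 : θM ≠ 0 := div_ne_zero (pow_ne_zero _ hP0) hQ0
  have hθmem : θM ∈ W := by
    apply mem_valuationSubring_of_isIntegral W (A := W) (fun a => a.2)
    apply IsIntegral.of_pow (Nat.pos_of_ne_zero heB0)
    have : θM ^ eB = algebraMap W M (algebraMap B W uB *
        algebraMap (W.comap (algebraMap K₁ M)) W ((u₁⁻¹ : _ˣ) : _)) := by
      show θM ^ eB = algebraMap B M (uB : B) *
        algebraMap K₁ M (((u₁⁻¹ : (W.comap (algebraMap K₁ M))ˣ) : W.comap (algebraMap K₁ M)) : K₁)
      rw [← hθM, mul_assoc, ← map_mul]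
      have : ((u₁ : W.comap (algebraMap K₁ M)) : K₁) *
          (((u₁⁻¹ : (W.comap (algebraMap K₁ M))ˣ) : W.comap (algebraMap K₁ M)) : K₁) = 1 :=
        congrArg Subtype.val u₁.mul_inv
      rw [this, map_one, mul_one]
    rw [this]
    exact isIntegral_algebraMap
  let θ : W := ⟨θM, hθmem⟩
  have hθ : θ ^ eB * algebraMap (W.comap (algebraMap K₁ M)) W (u₁ : _) = algebraMap B W uB :=
    Subtype.ext hθM
  have hmB : ∀ b ∈ maximalIdeal B, ∃ t : Polynomial (B ⊗[A] (W.comap (algebraMap K₁ M))),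
      algebraMap B W b = algebraMap (W.comap (algebraMap K₁ M)) W π₁ *
        (Polynomial.eval₂ ψ.toRingHom θ t) := by
    intro b hb
    rw [hπB.maximalIdeal_eq, Ideal.mem_span_singleton] at hb
    obtain ⟨b', rfl⟩ := hb
    refine ⟨Polynomial.C ((((uB⁻¹ : Bˣ) : B) * b') ⊗ₜ[A] (π₁ ^ (d - 1) * (u₁ : _))) *
      Polynomial.X ^ (eB - 1), Subtype.ext ?_⟩
    rw [Polynomial.eval₂_mul, Polynomial.eval₂_C, Polynomial.eval₂_X_pow]
    show algebraMap B M (πB * b') = algebraMap K₁ M (π₁ : K₁) *
      ((algebraMap B M (((uB⁻¹ : Bˣ) : B) * b') *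
        algebraMap K₁ M (((π₁ ^ (d - 1) * (u₁ : _) : W.comap (algebraMap K₁ M))) : K₁)) *
          θM ^ (eB - 1))
    apply mul_right_cancel₀ hθM0
    have hd1 : d = (d - 1) + 1 := by omega
    have he1 : eB = (eB - 1) + 1 := by omega
    have hPd : algebraMap K₁ M (π₁ : K₁) * algebraMap K₁ M (π₁ : K₁) ^ (d - 1) =
        algebraMap K₁ M (π₁ : K₁) ^ d := by
      conv_rhs => rw [hd1, pow_succ']
    have hθe : θM ^ (eB - 1) * θM = θM ^ eB := by
      conv_rhs => rw [he1, pow_succ]
    have hQθ : algebraMap B M πB * θM = algebraMap K₁ M (π₁ : K₁) ^ d := by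
      show algebraMap B M πB * (_ / _) = _
      rw [mul_div_cancel₀ _ hQ0]
    have huu : algebraMap B M ((uB⁻¹ : Bˣ) : B) * algebraMap B M (uB : B) = 1 := by
      rw [← map_mul, Units.inv_mul, map_one]
    have hcoe : algebraMap K₁ M (((π₁ ^ (d - 1) * (u₁ : _) : W.comap (algebraMap K₁ M))) : K₁) =
        algebraMap K₁ M (π₁ : K₁) ^ (d - 1) *
          algebraMap K₁ M ((u₁ : W.comap (algebraMap K₁ M)) : K₁) := by
      rw [← map_pow, ← map_mul]
      rfl
    rw [hcoe, map_mul, map_mul]
    calc algebraMap B M πB * algebraMap B M b' * θM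
        = (algebraMap B M πB * θM) * algebraMap B M b' := by ring
      _ = algebraMap K₁ M (π₁ : K₁) ^ d * algebraMap B M b' := by rw [hQθ]
      _ = (algebraMap K₁ M (π₁ : K₁) * algebraMap K₁ M (π₁ : K₁) ^ (d - 1)) *
            algebraMap B M b' * (algebraMap B M ((uB⁻¹ : Bˣ) : B) * algebraMap B M (uB : B)) := by
          rw [hPd, huu, mul_one]
      _ = (algebraMap K₁ M (π₁ : K₁) * algebraMap K₁ M (π₁ : K₁) ^ (d - 1)) *
            algebraMap B M b' * (algebraMap B M ((uB⁻¹ : Bˣ) : B) *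
              (θM ^ eB * algebraMap K₁ M ((u₁ : W.comap (algebraMap K₁ M)) : K₁))) := by
          rw [hθM]
      _ = _ := by rw [← hθe]; ring
  obtain ⟨h1, h2⟩ := tame_abstract π₁ hπ₁.maximalIdeal_eq eB he uB u₁ θ hθ hmB hsep hfrac
  exact ⟨h1, h2 _ (fun v => ResidueField.map_residue _ _)⟩

end Groth.Agent.Lib.Helper27.WU
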