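import Mathlib
import Groth.Prelude.Def_CInt
import Groth.Agent.Lib.Helper8.EtaleSliceSch
import Groth.Agent.Lib.Helper12.FibreMax
import Groth.Agent.Lib.Helper12.EquidimPt
import Groth.Agent.Lib.Helper27.SchDomImm

/-!
# Uniqueness for morphisms from smooth schemes tested on étale quasi-sections (helper27)

Let `p : Z ⟶ S` be smooth, `S` locally Noetherian with residue fields of characteristic zero,
`S₀ ⊆ S` a schematically dense open.  Two morphisms `g₁ g₂ : Z ⟶ N` which agree over `S₀` and after
composition with every `h : U ⟶ Z` with `U` étale over `S` are equal.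
-/

set_option autoImplicit false
set_option linter.style.haveILetI false
universe u
open AlgebraicGeometry CategoryTheory CategoryTheory.Limits TopologicalSpace

namespace Groth.Agent.Lib.Helper27.WeakNmpA

open Groth.Agent.Lib.Helper12.SchemeDimIneq Groth.Agent.Lib.Helper12

/-- Every point specializes, inside its fibre, to a point with algebraic residue field
extension. -/
theorem exists_specializes_trn_eq_zero {X S : Scheme.{u}} (f : X ⟶ S) [LocallyOfFiniteType f]
    (z : X) : ∃ x : X, z ⤳ x ∧ f x = f z ∧ trn f x = 0 := by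
  have key : ∀ n : ℕ∞, ∀ z : X, trn f z = n → ∃ x : X, z ⤳ x ∧ f x = f z ∧ trn f x = 0 := by
    intro n
    induction n using WellFoundedLT.induction with
    | ind n ih =>
      intro z hz
      by_cases hcl : ∀ x' : X, f x' = f z → z ⤳ x' → x' = z
      · exact ⟨z, specializes_rfl, rfl, EquidimPt.trn_eq_zero_of_closed_in_fibre f z hcl⟩
      · push Not at hcl
        obtain ⟨y, hy1, hy2, hy3⟩ := hcl
        have hlt := FibreMax.trn_lt_of_specializes f y z hy1.symm hy2 (Ne.symm hy3)
        obtain ⟨x, hx1, hx2, hx3⟩ := ih (trn f y) (hz ▸ hlt) y rfl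
        exact ⟨x, hy2.trans hx1, hx2.trans hy1, hx3⟩
  exact key _ z rfl

/-- In characteristic zero, `trn = 0` implies that the residue extension is separable. -/
theorem isSeparable_of_trn_eq_zero {X S : Scheme.{u}} (f : X ⟶ S) (x : X)
    [CharZero (S.residueField (f x))] (h : trn f x = 0) :
    @Algebra.IsSeparable (S.residueField (f x)) (X.residueField x) _ _
      (f.residueFieldMap x).hom.toAlgebra := by
  letI := (f.residueFieldMap x).hom.toAlgebra
  have h0 : Algebra.trdeg (S.residueField (f x)) (X.residueField x) = 0 := by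
    unfold trn at h
    exact Cardinal.toENat_eq_zero.mp h
  haveI : Algebra.IsAlgebraic (S.residueField (f x)) (X.residueField x) :=
    trdeg_eq_zero_iff.mp h0
  exact Algebra.IsAlgebraic.isSeparable_of_perfectField

theorem charZero_residueField {k : Type u} [Field k] [CharZero k] {S : Scheme.{u}}
    (σ : S ⟶ Spec (CommRingCat.of k)) (s : S) : CharZero (S.residueField s) := by
  let φ : CommRingCat.of k ⟶ S.residueField s := Spec.preimage (S.fromSpecResidueField s ≫ σ)
  exact charZero_of_injective_ringHom (f := φ.hom) (RingHom.injective _)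

theorem eq_of_forall_etale {S Z N : Scheme.{u}} [IsLocallyNoetherian S]
    (hchar : ∀ s : S, CharZero (S.residueField s))
    (S₀ : S.Opens) (hS₀ : CInt.IsSchematicallyDense S₀) (p : Z ⟶ S) [Smooth p] (g₁ g₂ : Z ⟶ N)
    (h0 : (p ⁻¹ᵁ S₀).ι ≫ g₁ = (p ⁻¹ᵁ S₀).ι ≫ g₂)
    (het : ∀ (U : Scheme.{u}) (h : U ⟶ Z), Etale (h ≫ p) → h ≫ g₁ = h ≫ g₂) : g₁ = g₂ := by
  haveI : IsLocallyNoetherian Z := LocallyOfFiniteType.isLocallyNoetherian p
  haveI : QuasiCompact S₀.ι := inferInstance
  have hD : CInt.IsSchematicallyDense (p ⁻¹ᵁ S₀) :=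
    SchDomImm.isSchematicallyDense_preimage_of_flat p S₀ hS₀
  haveI : IsOpenImmersion (equalizer.ι g₁ g₂) :=
    SchDomImm.isOpenImmersion_of_factors (equalizer.ι g₁ g₂) (p ⁻¹ᵁ S₀) hD
      (equalizer.lift _ h0) (equalizer.lift_ι _ _)
  have hsurj : Function.Surjective (equalizer.ι g₁ g₂) := by
    intro z
    obtain ⟨x, hzx, hfx, htr⟩ := exists_specializes_trn_eq_zero p z
    haveI := hchar (p x)
    obtain ⟨U, i, u, -, het', hiu, -⟩ :=
      Groth.Agent.Lib.Helper8.EtaleSliceSch.exists_etale_slice_through_point p x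
        (isSeparable_of_trn_eq_zero p x htr)
    have hx : x ∈ Set.range (equalizer.ι g₁ g₂) := by
      have hh := het U i het'
      refine ⟨(equalizer.lift i hh) u, ?_⟩
      rw [← Scheme.Hom.comp_apply, equalizer.lift_ι]
      exact hiu
    exact hzx.mem_open (equalizer.ι g₁ g₂).isOpenEmbedding.isOpen_range hx
  haveI : Epi (equalizer.ι g₁ g₂).base := (TopCat.epi_iff_surjective _).mpr hsurj
  haveI : IsIso (equalizer.ι g₁ g₂) := IsOpenImmersion.isIso _
  exact (cancel_epi (equalizer.ι g₁ g₂)).mp (equalizer.condition g₁ g₂)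

end Groth.Agent.Lib.Helper27.WeakNmpA
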