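import Groth.Agent.Lib.Helper8.Branches

/-!
# Equality case of `numGeomBranches ≤ δ + 1` (wedge of DVRs)

* `mem_range_of_sum_length_ge`: equality case of `Helper8.Branches.sum_length_quotient_le`.
* `subsingleton_emb`: over a separably closed residue field each maximal ideal of the normalization
  contributes at most one geometric branch.
* `numGeomBranches_le_card`.
* `wedge_generic`: if `length (C/A) + 1 ≤ #MaxSpec C` then all residue fields of `C` are images of
  `A` and `A` is the set of elements of `C` constant modulo the maximal ideals.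
-/

set_option autoImplicit false
set_option linter.style.haveILetI false
set_option linter.unusedSectionVars false
set_option linter.unusedVariables false
universe u
open IsLocalRing

namespace Groth.Agent.Lib.Helper27.Wedge

open Groth.Agent.Lib.Helper8.Branches


/-- Equality case of `Helper8.Branches.sum_length_quotient_le`. -/
theorem mem_range_of_sum_length_ge (A C : Type u) [CommRing A] [IsLocalRing A] [CommRing C]
    [Algebra A C] [Algebra.IsIntegral A C] {ι : Type u} [Fintype ι] (I : ι → Ideal C)
    (hmax : ∀ i, (I i).IsMaximal) (hinj : Function.Injective I)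
    (hfin : Module.length A (C ⧸ LinearMap.range (Algebra.linearMap A C)) ≠ ⊤)
    (hge : Module.length A (C ⧸ LinearMap.range (Algebra.linearMap A C)) + 1 ≤
      ∑ i, Module.length A (C ⧸ I i))
    (c : C) (a : A) (hc : ∀ i, c - algebraMap A C a ∈ I i) :
    c ∈ LinearMap.range (Algebra.linearMap A C) := by
  have hI : Pairwise (Function.onFun IsCoprime I) := fun i j hij =>
    haveI := hmax i
    haveI := hmax j
    Ideal.isCoprime_of_isMaximal (fun h => hij (hinj h))
  let π : C →ₗ[A] (Π i, C ⧸ I i) := (LinearMap.pi fun i ↦ (I i).mkQ).restrictScalars A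
  have hπ : Function.Surjective π := Ideal.pi_mkQ_surjective hI
  let g : A →ₗ[A] (Π i, C ⧸ I i) := π ∘ₗ Algebra.linearMap A C
  have hle : LinearMap.range (Algebra.linearMap A C) ≤ (LinearMap.range g).comap π := by
    rintro _ ⟨a, rfl⟩
    exact ⟨a, rfl⟩
  let π' := Submodule.mapQ (LinearMap.range (Algebra.linearMap A C)) (LinearMap.range g) π hle
  have hπ' : Function.Surjective π' := by
    intro y
    obtain ⟨y, rfl⟩ := Submodule.Quotient.mk_surjective _ y
    obtain ⟨c, rfl⟩ := hπ y
    exact ⟨Submodule.Quotient.mk c, rfl⟩
  have h1 : Module.length A ((Π i, C ⧸ I i) ⧸ LinearMap.range g) ≤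
      Module.length A (C ⧸ LinearMap.range (Algebra.linearMap A C)) :=
    Module.length_le_of_surjective π' hπ'
  have h2 : Module.length A (Π i, C ⧸ I i) = Module.length A (LinearMap.range g) +
      Module.length A ((Π i, C ⧸ I i) ⧸ LinearMap.range g) :=
    Module.length_eq_add_of_exact (LinearMap.range g).subtype (LinearMap.range g).mkQ
      (Submodule.subtype_injective _) (Submodule.mkQ_surjective _)
      (LinearMap.exact_subtype_mkQ _)
  have hker : maximalIdeal A ≤ LinearMap.ker g.rangeRestrict := by
    intro a ha
    rw [LinearMap.mem_ker]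
    apply Subtype.ext
    funext i
    change Ideal.Quotient.mk (I i) (algebraMap A C a) = 0
    rw [Ideal.Quotient.eq_zero_iff_mem]
    have h3 : ((I i).comap (algebraMap A C)).IsMaximal :=
      Ideal.isMaximal_comap_of_isIntegral_of_isMaximal (I i)
    have h4 := eq_maximalIdeal h3
    have : a ∈ (I i).comap (algebraMap A C) := h4 ▸ ha
    exact this
  let g' : (A ⧸ maximalIdeal A) →ₗ[A] LinearMap.range g :=
    (maximalIdeal A).liftQ g.rangeRestrict hker
  have hg' : Function.Surjective g' := by
    rintro ⟨_, ⟨a, rfl⟩⟩
    exact ⟨Submodule.Quotient.mk a, rfl⟩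
  have h5 : Module.length A (A ⧸ maximalIdeal A) = 1 := by
    have h6 : Module.length A (ResidueField A) = Module.length (ResidueField A) (ResidueField A) :=
      Module.length_eq_of_surjective (S := A) (R := ResidueField A) (M := ResidueField A)
        residue_surjective
    rw [Module.length_eq_finrank, Module.finrank_self] at h6
    exact h6
  have h7 : Module.length A (LinearMap.range g) ≤ 1 :=
    h5 ▸ Module.length_le_of_surjective g' hg'
  -- equality of lengths
  have h8 : Module.length A (C ⧸ LinearMap.range (Algebra.linearMap A C)) ≤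
      Module.length A ((Π i, C ⧸ I i) ⧸ LinearMap.range g) := by
    rw [← Module.length_pi_of_fintype, h2] at hge
    have h9 : Module.length A (C ⧸ LinearMap.range (Algebra.linearMap A C)) + 1 ≤
        1 + Module.length A ((Π i, C ⧸ I i) ⧸ LinearMap.range g) :=
      hge.trans (add_le_add h7 le_rfl)
    rw [add_comm] at h9
    exact (ENat.add_le_add_iff_left ENat.one_ne_top).mp h9
  have h10 := le_antisymm h1 h8
  -- the kernel of π' vanishes
  have h11 : Module.length A (C ⧸ LinearMap.range (Algebra.linearMap A C)) =
      Module.length A (LinearMap.ker π') +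
        Module.length A ((Π i, C ⧸ I i) ⧸ LinearMap.range g) :=
    Module.length_eq_add_of_exact (LinearMap.ker π').subtype π'
      (Submodule.subtype_injective _) hπ' (LinearMap.exact_subtype_ker_map π')
  have h12 : Module.length A (LinearMap.ker π') = 0 := by
    rw [h10] at h11
    have h13 : (0 : ℕ∞) + Module.length A (C ⧸ LinearMap.range (Algebra.linearMap A C)) =
        Module.length A (LinearMap.ker π') +
          Module.length A (C ⧸ LinearMap.range (Algebra.linearMap A C)) := by
      rw [zero_add]; exact h11
    exact (ENat.add_left_injective_of_ne_top hfin h13).symm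
  have h14 : Subsingleton (LinearMap.ker π') := Module.length_eq_zero_iff.mp h12
  have h15 : π' (Submodule.Quotient.mk c) = 0 := by
    change Submodule.Quotient.mk (π c) = 0
    rw [Submodule.Quotient.mk_eq_zero]
    refine ⟨a, ?_⟩
    funext i
    change Ideal.Quotient.mk (I i) (algebraMap A C a) = Ideal.Quotient.mk (I i) c
    rw [eq_comm, Ideal.Quotient.eq]
    exact hc i
  have h16 : (Submodule.Quotient.mk c : C ⧸ LinearMap.range (Algebra.linearMap A C)) = 0 := by
    have := Subsingleton.elim (⟨_, LinearMap.mem_ker.mpr h15⟩ : LinearMap.ker π') 0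
    exact congrArg Subtype.val this
  exact (Submodule.Quotient.mk_eq_zero _).mp h16




/-- Over a separably closed residue field there is at most one embedding. -/
theorem subsingleton_emb_aux (A L : Type u) [CommRing A] [IsLocalRing A]
    [IsSepClosed (ResidueField A)] [Field L] [Algebra A L] [Algebra.IsIntegral A L]
    (hker : ∀ a ∈ maximalIdeal A, algebraMap A L a = 0) :
    Subsingleton {σ : L →+* AlgebraicClosure (ResidueField A) //
      σ.comp (algebraMap A L) = Brnch.toClosure A} := by
  let φ : ResidueField A →+* L := Ideal.Quotient.lift (maximalIdeal A) (algebraMap A L) hker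
  letI : Algebra (ResidueField A) L := φ.toAlgebra
  haveI : IsScalarTower A (ResidueField A) L := IsScalarTower.of_algebraMap_eq (fun a => rfl)
  haveI : Algebra.IsIntegral (ResidueField A) L := Algebra.IsIntegral.tower_top (R := A)
  haveI : Algebra.IsAlgebraic (ResidueField A) L := inferInstance
  refine ⟨fun σ τ => Subtype.ext ?_⟩
  apply IsPurelyInseparable.injective_comp_algebraMap (ResidueField A) L
    (AlgebraicClosure (ResidueField A))
  apply RingHom.ext
  intro k
  obtain ⟨a, rfl⟩ := residue_surjective k
  have h1 := congr($(σ.2) a)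
  have h2 := congr($(τ.2) a)
  exact h1.trans h2.symm

theorem subsingleton_emb (A : Type u) [CommRing A] [IsLocalRing A] [IsSepClosed (ResidueField A)]
    (m : MaximalSpectrum (CAlg2.normRed A)) : Subsingleton (Brnch.Emb A m) := by
  letI : Field (CAlg2.normRed A ⧸ m.asIdeal) := Ideal.Quotient.field _
  have hker : ∀ a ∈ maximalIdeal A, algebraMap A (CAlg2.normRed A ⧸ m.asIdeal) a = 0 := by
    intro a ha
    have h3 : (m.asIdeal.comap (algebraMap A (CAlg2.normRed A))).IsMaximal :=
      Ideal.isMaximal_comap_of_isIntegral_of_isMaximal m.asIdeal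
    have h4 := eq_maximalIdeal h3
    have h5 : a ∈ m.asIdeal.comap (algebraMap A (CAlg2.normRed A)) := h4 ▸ ha
    exact Ideal.Quotient.eq_zero_iff_mem.mpr h5
  haveI : Algebra.IsIntegral A (CAlg2.normRed A ⧸ m.asIdeal) :=
    Algebra.IsIntegral.trans (CAlg2.normRed A)
  exact subsingleton_emb_aux A (CAlg2.normRed A ⧸ m.asIdeal) hker

section iso
variable (A : Type u) [CommRing A] [IsReduced A]

/-- The ring isomorphism between the integral closure of `A` in its total fraction ring and
`CAlg2.normRed A`. -/
noncomputable def normRingEquiv : integralClosure A (FractionRing A) ≃+* CAlg2.normRed A :=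
  { (normEquiv A).toEquiv with
    map_mul' := fun x y => Subtype.ext (map_mul (fracEquiv A) _ _)
    map_add' := fun x y => Subtype.ext (map_add (fracEquiv A) _ _) }

theorem card_maximalSpectrum_normRed_le :
    ENat.card (MaximalSpectrum (CAlg2.normRed A)) ≤
      ENat.card (MaximalSpectrum (integralClosure A (FractionRing A))) := by
  refine ENat.card_le_card_of_injective (f := fun m =>
    (⟨m.asIdeal.comap (normRingEquiv A), haveI := m.isMaximal; inferInstance⟩ :
      MaximalSpectrum (integralClosure A (FractionRing A)))) ?_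
  intro m₁ m₂ h12
  apply MaximalSpectrum.ext
  have h1 : m₁.asIdeal.comap (normRingEquiv A) = m₂.asIdeal.comap (normRingEquiv A) :=
    congrArg MaximalSpectrum.asIdeal h12
  exact Ideal.comap_injective_of_surjective _ (normRingEquiv A).surjective h1

end iso

theorem numGeomBranches_le_card (A : Type u) [CommRing A] [IsLocalRing A] [IsReduced A]
    [IsSepClosed (ResidueField A)] (hmin : (minimalPrimes A).Finite) :
    Brnch.numGeomBranches A ≤
      ENat.card (MaximalSpectrum (integralClosure A (FractionRing A))) := by
  classical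
  unfold Brnch.numGeomBranches
  rw [if_pos hmin]
  refine le_trans ?_ (card_maximalSpectrum_normRed_le A)
  refine ENat.card_le_card_of_injective (f := Sigma.fst) ?_
  rintro ⟨m₁, σ₁⟩ ⟨m₂, σ₂⟩ h12
  simp only at h12
  subst h12
  haveI := subsingleton_emb A m₁
  rw [Subsingleton.elim σ₁ σ₂]




theorem finite_maximalSpectrum_of_finite (A C : Type u) [CommRing A] [IsLocalRing A] [CommRing C]
    [Algebra A C] [Module.Finite A C] : Finite (MaximalSpectrum C) := by
  have hfin := Algebra.QuasiFinite.finite_primesOver (R := A) (S := C) (maximalIdeal A)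
  haveI : Finite ((maximalIdeal A).primesOver C) := hfin.to_subtype
  refine Finite.of_injective (β := (maximalIdeal A).primesOver C) (fun m => ⟨m.asIdeal, ?_, ?_⟩) ?_
  · exact m.isMaximal.isPrime
  · constructor
    have h3 : (m.asIdeal.comap (algebraMap A C)).IsMaximal :=
      Ideal.isMaximal_comap_of_isIntegral_of_isMaximal m.asIdeal
    exact (eq_maximalIdeal h3).symm
  · intro m₁ m₂ h12
    exact MaximalSpectrum.ext (congrArg Subtype.val h12)

theorem wedge_generic (A C : Type u) [CommRing A] [IsLocalRing A] [CommRing C]
    [Algebra A C] [Module.Finite A C]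
    (hfin : Module.length A (C ⧸ LinearMap.range (Algebra.linearMap A C)) ≠ ⊤)
    (hcard : Module.length A (C ⧸ LinearMap.range (Algebra.linearMap A C)) + 1 ≤
      ENat.card (MaximalSpectrum C)) :
    (∀ m : MaximalSpectrum C,
      Function.Surjective ((Ideal.Quotient.mk m.asIdeal).comp (algebraMap A C))) ∧
    ∀ (c : C) (a : A), (∀ m : MaximalSpectrum C, c - algebraMap A C a ∈ m.asIdeal) →
      c ∈ (algebraMap A C).range := by
  classical
  haveI := finite_maximalSpectrum_of_finite A C
  haveI : Fintype (MaximalSpectrum C) := Fintype.ofFinite _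
  haveI : Algebra.IsIntegral A C := Algebra.IsIntegral.of_finite A C
  have hsum := sum_length_quotient_le A C (fun m : MaximalSpectrum C => m.asIdeal)
    (fun m => m.isMaximal) (fun m m' h => MaximalSpectrum.ext h)
  have hpos : ∀ m : MaximalSpectrum C, 1 ≤ Module.length A (C ⧸ m.asIdeal) := by
    intro m
    haveI : Nontrivial (C ⧸ m.asIdeal) := Ideal.Quotient.nontrivial_iff.mpr m.isMaximal.ne_top
    exact Order.one_le_iff_pos.mpr Module.length_pos
  have hcard' : ENat.card (MaximalSpectrum C) = ∑ _m : MaximalSpectrum C, (1 : ℕ∞) := by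
    simp
  have hle1 : ∑ _m : MaximalSpectrum C, (1 : ℕ∞) ≤
      ∑ m : MaximalSpectrum C, Module.length A (C ⧸ m.asIdeal) :=
    Finset.sum_le_sum (fun m _ => hpos m)
  have hge : Module.length A (C ⧸ LinearMap.range (Algebra.linearMap A C)) + 1 ≤
      ∑ m : MaximalSpectrum C, Module.length A (C ⧸ m.asIdeal) :=
    (hcard.trans hcard'.le).trans hle1
  have hsumeq : ∑ m : MaximalSpectrum C, Module.length A (C ⧸ m.asIdeal) =
      ∑ _m : MaximalSpectrum C, (1 : ℕ∞) :=
    le_antisymm (hsum.trans (hcard.trans hcard'.le)) hle1
  have hsumfin : ∑ m : MaximalSpectrum C, Module.length A (C ⧸ m.asIdeal) ≠ ⊤ := by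
    rw [hsumeq]
    simp
  refine ⟨fun m => ?_, fun c a hc => ?_⟩
  · -- length one
    have hfinm : ∀ m : MaximalSpectrum C, Module.length A (C ⧸ m.asIdeal) ≠ ⊤ := by
      intro m htop
      apply hsumfin
      rw [eq_top_iff, ← htop]
      exact Finset.single_le_sum (f := fun m : MaximalSpectrum C =>
        Module.length A (C ⧸ m.asIdeal)) (fun _ _ => zero_le) (Finset.mem_univ m)
    choose k hk using fun m => ENat.ne_top_iff_exists.mp (hfinm m)
    have hk1 : ∀ m, 1 ≤ k m := by
      intro m
      have := hpos m
      rw [← hk m] at this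
      exact_mod_cast this
    have hsumk : ∑ m : MaximalSpectrum C, k m = ∑ _m : MaximalSpectrum C, 1 := by
      have h1 : ((∑ m : MaximalSpectrum C, k m : ℕ) : ℕ∞) =
          ((∑ _m : MaximalSpectrum C, 1 : ℕ) : ℕ∞) := by
        rw [Nat.cast_sum, Nat.cast_sum]
        simp only [hk, Nat.cast_one]
        exact hsumeq
      exact_mod_cast h1
    have hk_eq : k m = 1 := by
      have := (Finset.sum_eq_sum_iff_of_le (s := Finset.univ) (f := fun _ : MaximalSpectrum C => 1)
        (g := k) (fun i _ => hk1 i)).mp hsumk.symm m (Finset.mem_univ m)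
      exact this.symm
    have hlen : Module.length A (C ⧸ m.asIdeal) = 1 := by
      rw [← hk m, hk_eq]; rfl
    haveI : IsSimpleModule A (C ⧸ m.asIdeal) := Module.length_eq_one_iff.mp hlen
    let f : A →ₗ[A] (C ⧸ m.asIdeal) := (m.asIdeal.mkQ.restrictScalars A) ∘ₗ Algebra.linearMap A C
    have hf : LinearMap.range f = ⊤ := by
      rcases eq_bot_or_eq_top (LinearMap.range f) with h0 | h1
      · exfalso
        have h1 : f 1 ∈ LinearMap.range f := ⟨1, rfl⟩
        rw [h0, Submodule.mem_bot] at h1
        haveI : Nontrivial (C ⧸ m.asIdeal) :=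
          Ideal.Quotient.nontrivial_iff.mpr m.isMaximal.ne_top
        have : (1 : C ⧸ m.asIdeal) = 0 := by
          rw [← h1]
          change (1 : C ⧸ m.asIdeal) = Ideal.Quotient.mk m.asIdeal (algebraMap A C 1)
          rw [map_one, map_one]
        exact one_ne_zero this
      · exact h1
    intro y
    obtain ⟨a, ha⟩ := LinearMap.range_eq_top.mp hf y
    exact ⟨a, ha⟩
  · have := mem_range_of_sum_length_ge A C (fun m : MaximalSpectrum C => m.asIdeal)
      (fun m => m.isMaximal) (fun m m' h => MaximalSpectrum.ext h) hfin hge c a hc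
    obtain ⟨b, hb⟩ := this
    exact ⟨b, hb⟩


end Groth.Agent.Lib.Helper27.Wedge
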